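import Mathlib
import Groth.Agent.Lib.Helper14.ReducedSmooth

/-! Reducedness ascends along smooth morphisms of schemes (helper22). -/

universe u

namespace Groth.Agent.Lib.Helper22.SmoothRed

open AlgebraicGeometry CategoryTheory TopologicalSpace

theorem isReduced_of_smooth {X Y : Scheme.{u}} (f : X ⟶ Y) [Smooth f] [IsReduced Y] :
    IsReduced X := by
  have key : ∀ x : X, ∃ V : X.Opens, x ∈ V ∧ IsReduced (V : Scheme.{u}) := by
    intro x
    obtain ⟨_, ⟨U, hU, rfl⟩, hxU, -⟩ := Y.isBasis_affineOpens.exists_subset_of_mem_open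
      (Set.mem_univ (f.base x)) isOpen_univ
    obtain ⟨_, ⟨V, hV, rfl⟩, hxV, hVU⟩ := X.isBasis_affineOpens.exists_subset_of_mem_open
      (show x ∈ ((f ⁻¹ᵁ U : X.Opens) : Set X) from hxU) (f ⁻¹ᵁ U).isOpen
    refine ⟨V, hxV, ?_⟩
    have hsm := Smooth.smooth_appLE f hU hV hVU
    have hred : _root_.IsReduced Γ(X, V) := by
      letI := (f.appLE U V hVU).hom.toAlgebra
      have : Algebra.Smooth Γ(Y, U) Γ(X, V) := hsm
      exact Groth.Agent.Lib.Helper14.isReduced_of_smooth Γ(Y, U) Γ(X, V)
    have : IsAffine (V : Scheme.{u}) := hV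
    have : _root_.IsReduced Γ((V : Scheme.{u}), ⊤) :=
      isReduced_of_injective ((Scheme.Opens.topIso V).hom).hom (Scheme.Opens.topIso V).commRingCatIsoToRingEquiv.injective
    exact isReduced_of_isAffine_isReduced _
  choose V hxV hV using key
  have hcov : IsOpenCover V := by
    apply IsOpenCover.mk
    rw [eq_top_iff]
    intro x _
    exact Opens.mem_iSup.2 ⟨x, hxV x⟩
  have : ∀ i, IsReduced ((X.openCoverOfIsOpenCover V hcov).X i) := hV
  exact IsReduced.of_openCover X (X.openCoverOfIsOpenCover V hcov)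

end Groth.Agent.Lib.Helper22.SmoothRed
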