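import Mathlib
import Groth.Agent.Lib.Helper4.CMChain
import Groth.Agent.Lib.Helper4.RegCM
import Groth.Agent.Lib.Helper4.FiniteExt

/-!
# Gluing lemmas for Cohen–Macaulay quotients
-/

set_option autoImplicit false

universe u

open RingTheory.Sequence Groth.Agent.Lib.Helper4

namespace Groth.Agent.Lib.Helper22.CMG

section RingEquiv

variable {R R' : Type u} [CommRing R] [IsLocalRing R] [CommRing R'] [IsLocalRing R']

theorem depth_le_of_ringEquiv (e : R ≃+* R') : LocCoh.depth R R ≤ LocCoh.depth R' R' := by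
  letI : Algebra R R' := e.toRingHom.toAlgebra
  let el : R ≃ₗ[R] R' :=
    { e with
      map_smul' := fun r x => by
        change e (r * x) = e r * e x
        exact map_mul e r x }
  haveI : Module.Flat R R' := Module.Flat.of_linearEquiv el.symm
  have hne : IsLocalRing.maximalIdeal R • (⊤ : Submodule R R) ≠ ⊤ := by
    rw [Ideal.smul_top_eq_map, Algebra.algebraMap_self, Ideal.map_id]
    intro h
    exact (IsLocalRing.maximalIdeal.isMaximal R).ne_top (by simpa using h)
  unfold LocCoh.depth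
  rw [idealDepth_of_smul_top_ne _ hne]
  refine iSup₂_le fun rs hrs => ?_
  have hreg : IsWeaklyRegular R' (rs.map (algebraMap R R')) := hrs.1.of_flat
  have hmem : ∀ r ∈ rs.map (algebraMap R R'), r ∈ IsLocalRing.maximalIdeal R' := by
    intro r hr
    obtain ⟨r₀, hr₀, rfl⟩ := List.mem_map.mp hr
    have h0 := hrs.2 r₀ hr₀
    rw [IsLocalRing.mem_maximalIdeal, mem_nonunits_iff] at h0 ⊢
    intro hu
    apply h0
    have : IsUnit (e.symm (e r₀)) := hu.map e.symm
    rwa [RingEquiv.symm_apply_apply] at this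
  have := length_le_idealDepth (IsLocalRing.maximalIdeal R')
    (rs.map (algebraMap R R')) hreg hmem
  rwa [List.length_map] at this

theorem depth_eq_of_ringEquiv (e : R ≃+* R') : LocCoh.depth R R = LocCoh.depth R' R' :=
  le_antisymm (depth_le_of_ringEquiv e) (depth_le_of_ringEquiv e.symm)

end RingEquiv

theorem isCMLocalRing_of_ringEquiv {R R' : Type u} [CommRing R] [CommRing R']
    [LocCoh.IsCohenMacaulayLocalRing R] (e : R ≃+* R') : LocCoh.IsCohenMacaulayLocalRing R' := by
  haveI : IsLocalRing R' := e.isLocalRing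
  haveI : IsNoetherianRing R' := isNoetherianRing_of_ringEquiv R e
  refine { supportDim_eq_depth := ?_ }
  have h := LocCoh.IsCohenMacaulayLocalRing.supportDim_eq_depth (R := R)
  rw [Module.supportDim_self_eq_ringKrullDim] at h ⊢
  rw [← ringKrullDim_eq_of_ringEquiv e, h, depth_eq_of_ringEquiv e]

section LocalQuot

variable (T : Type u) [CommRing T] [IsLocalRing T] [IsNoetherianRing T]

lemma isLocalRing_quotient (I : Ideal T) (hI : I ≠ ⊤) : IsLocalRing (T ⧸ I) := by
  haveI : Nontrivial (T ⧸ I) := Ideal.Quotient.nontrivial_iff.mpr hI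
  exact IsLocalRing.of_surjective' (Ideal.Quotient.mk I) Ideal.Quotient.mk_surjective

/-- the depth of a quotient ring as a module over the ambient local ring. -/
lemma depth_quotient_eq (I : Ideal T) (hI : I ≠ ⊤) :
    haveI := isLocalRing_quotient T I hI
    LocCoh.depth T (T ⧸ I) = LocCoh.depth (T ⧸ I) (T ⧸ I) := by
  haveI := isLocalRing_quotient T I hI
  have h1 := idealDepth_map_eq (A := T) (B := T ⧸ I) (IsLocalRing.maximalIdeal T) (T ⧸ I)
  have h2 : (IsLocalRing.maximalIdeal T).map (algebraMap T (T ⧸ I)) =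
      IsLocalRing.maximalIdeal (T ⧸ I) :=
    IsLocalRing.map_maximalIdeal_of_surjective (algebraMap T (T ⧸ I))
      Ideal.Quotient.mk_surjective
  rw [h2] at h1
  exact h1

/-- a quotient of a local ring is a Cohen–Macaulay module iff it is a Cohen–Macaulay ring. -/
theorem cmModule_quotient_iff (I : Ideal T) (hI : I ≠ ⊤) :
    LocCoh.IsCohenMacaulayModule T (T ⧸ I) ↔ LocCoh.IsCohenMacaulayLocalRing (T ⧸ I) := by
  haveI := isLocalRing_quotient T I hI
  unfold LocCoh.IsCohenMacaulayModule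
  rw [Module.supportDim_quotient_eq_ringKrullDim, depth_quotient_eq T I hI]
  constructor
  · intro h
    exact { supportDim_eq_depth := by rw [Module.supportDim_self_eq_ringKrullDim]; exact h }
  · intro h
    have := h.supportDim_eq_depth
    rwa [Module.supportDim_self_eq_ringKrullDim] at this

end LocalQuot

section DimInf

variable {T : Type u} [CommRing T]

lemma mem_support_quotient_iff (I : Ideal T) (p : PrimeSpectrum T) :
    p ∈ Module.support T (T ⧸ I) ↔ I ≤ p.asIdeal := by
  rw [Module.support_eq_zeroLocus, Ideal.annihilator_quotient, PrimeSpectrum.mem_zeroLocus]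
  rfl

/-- the dimension of `T/(I ∩ J)` is bounded by those of `T/I` and `T/J`. -/
lemma supportDim_quotient_inf_le (I J : Ideal T) (b : WithBot ℕ∞)
    (hI : Module.supportDim T (T ⧸ I) ≤ b) (hJ : Module.supportDim T (T ⧸ J) ≤ b) :
    Module.supportDim T (T ⧸ I ⊓ J) ≤ b := by
  unfold Module.supportDim Order.krullDim at *
  refine iSup_le (fun p => ?_)
  have hhead : I ⊓ J ≤ p.head.1.asIdeal := (mem_support_quotient_iff _ _).1 p.head.2
  have hmono : ∀ i, p.head.1.asIdeal ≤ (p i).1.asIdeal := fun i => p.head_le i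
  rcases (Ideal.IsPrime.inf_le p.head.1.isPrime).1 hhead with h | h
  · let q : LTSeries ↥(Module.support T (T ⧸ I)) :=
      LTSeries.mk p.length
        (fun i => ⟨(p i).1, (mem_support_quotient_iff _ _).2 (le_trans h (hmono i))⟩)
        (fun a b hab => p.strictMono hab)
    exact le_trans (le_iSup (fun q : LTSeries ↥(Module.support T (T ⧸ I)) =>
      (q.length : WithBot ℕ∞)) q) hI
  · let q : LTSeries ↥(Module.support T (T ⧸ J)) :=
      LTSeries.mk p.length
        (fun i => ⟨(p i).1, (mem_support_quotient_iff _ _).2 (le_trans h (hmono i))⟩)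
        (fun a b hab => p.strictMono hab)
    exact le_trans (le_iSup (fun q : LTSeries ↥(Module.support T (T ⧸ J)) =>
      (q.length : WithBot ℕ∞)) q) hJ

end DimInf

section LocalLemmas

variable {T : Type u} [CommRing T] [IsLocalRing T] [IsNoetherianRing T]

/-- `(T/I)/x(T/I) ≃ T/(I + (x))`. -/
noncomputable def quotSMulTopQuotEquiv (I : Ideal T) (x : T) :
    QuotSMulTop x (T ⧸ I) ≃ₗ[T] T ⧸ (I ⊔ Ideal.span {x}) :=
  (quotSMulTopEquivSpan (R := T) (M := T ⧸ I) x) ≪≫ₗ
    (Submodule.quotEquivOfEq _ _ (by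
      have h1 : (⊤ : Submodule T (T ⧸ I)) = Submodule.map (Submodule.mkQ I) ⊤ := by
        rw [Submodule.map_top, Submodule.range_mkQ]
      rw [h1, ← Submodule.map_smul'']
      congr 1
      exact Ideal.mul_top _)) ≪≫ₗ
    (Submodule.quotientQuotientEquivQuotientSup I (Ideal.span {x}))

/-- **Lemma A**: if `x` is regular on `T/I` and `T/(I + (x))` is Cohen–Macaulay, then so is `T/I`. -/
theorem cm_of_cm_sup_span (I : Ideal T) (x : T) (hx : x ∈ IsLocalRing.maximalIdeal T)
    (hreg : IsSMulRegular (T ⧸ I) x)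
    (hcm : LocCoh.IsCohenMacaulayModule T (T ⧸ (I ⊔ Ideal.span {x}))) :
    LocCoh.IsCohenMacaulayModule T (T ⧸ I) ∧
      Module.supportDim T (T ⧸ (I ⊔ Ideal.span {x})) + 1 = Module.supportDim T (T ⧸ I) := by
  have e := quotSMulTopQuotEquiv I x
  have hcmQ : LocCoh.IsCohenMacaulayModule T (QuotSMulTop x (T ⧸ I)) := (cm_congr e).2 hcm
  have h1 := Module.supportDim_quotSMulTop_succ_eq_supportDim hreg hx
  have h2 := idealDepth_quotSMulTop_add_one (IsLocalRing.maximalIdeal T) x hx hreg
  refine ⟨?_, ?_⟩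
  · unfold LocCoh.IsCohenMacaulayModule at hcmQ ⊢
    rw [← h1, hcmQ]
    unfold LocCoh.depth
    rw [← h2]
    push_cast
    rfl
  · rw [← Module.supportDim_eq_of_equiv e]
    exact h1

/-- the diagonal map `T/(I ∩ J) → T/I × T/J`. -/
noncomputable def diagMap (I J : Ideal T) : (T ⧸ I ⊓ J) →ₗ[T] (T ⧸ I) × (T ⧸ J) :=
  LinearMap.prod (Submodule.mapQ (I ⊓ J) I LinearMap.id (fun _ h => h.1))
    (Submodule.mapQ (I ⊓ J) J LinearMap.id (fun _ h => h.2))

/-- the difference map `T/I × T/J → T/(I + J)`. -/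
noncomputable def diffMap (I J : Ideal T) : (T ⧸ I) × (T ⧸ J) →ₗ[T] T ⧸ (I ⊔ J) :=
  (Submodule.mapQ I (I ⊔ J) LinearMap.id (fun _ h => Submodule.mem_sup_left h)).coprod
    (-(Submodule.mapQ J (I ⊔ J) LinearMap.id (fun _ h => Submodule.mem_sup_right h)))

omit [IsLocalRing T] [IsNoetherianRing T] in
lemma diagMap_mk (I J : Ideal T) (t : T) :
    diagMap I J (Submodule.Quotient.mk t) = (Submodule.Quotient.mk t, Submodule.Quotient.mk t) :=
  rfl

omit [IsLocalRing T] [IsNoetherianRing T] in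
lemma diffMap_mk (I J : Ideal T) (a b : T) :
    diffMap I J (Submodule.Quotient.mk a, Submodule.Quotient.mk b) =
      Submodule.Quotient.mk (a - b) := by
  simp [diffMap, Submodule.mapQ_apply, sub_eq_add_neg]

omit [IsLocalRing T] [IsNoetherianRing T] in
lemma diagMap_injective (I J : Ideal T) : Function.Injective (diagMap I J) := by
  rw [← LinearMap.ker_eq_bot, eq_bot_iff]
  intro y hy
  obtain ⟨t, rfl⟩ := Submodule.Quotient.mk_surjective _ y
  rw [LinearMap.mem_ker, diagMap_mk, Prod.mk_eq_zero, Submodule.Quotient.mk_eq_zero,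
    Submodule.Quotient.mk_eq_zero] at hy
  rw [Submodule.mem_bot, Submodule.Quotient.mk_eq_zero]
  exact hy

omit [IsLocalRing T] [IsNoetherianRing T] in
lemma diffMap_surjective (I J : Ideal T) : Function.Surjective (diffMap I J) := by
  intro y
  obtain ⟨t, rfl⟩ := Submodule.Quotient.mk_surjective _ y
  refine ⟨(Submodule.Quotient.mk t, Submodule.Quotient.mk 0), ?_⟩
  rw [diffMap_mk, sub_zero]

omit [IsLocalRing T] [IsNoetherianRing T] in
lemma diag_diff_exact (I J : Ideal T) : Function.Exact (diagMap I J) (diffMap I J) := by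
  intro y
  obtain ⟨ya, yb⟩ := y
  obtain ⟨a, rfl⟩ := Submodule.Quotient.mk_surjective _ ya
  obtain ⟨b, rfl⟩ := Submodule.Quotient.mk_surjective _ yb
  rw [diffMap_mk, Submodule.Quotient.mk_eq_zero]
  constructor
  · intro h
    obtain ⟨i, hi, j, hj, hij⟩ := Submodule.mem_sup.1 h
    refine ⟨Submodule.Quotient.mk (a - i), ?_⟩
    rw [diagMap_mk]
    refine Prod.ext ?_ ?_
    · simp only
      rw [Submodule.Quotient.eq]
      simpa using I.neg_mem hi
    · simp only
      rw [Submodule.Quotient.eq]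
      have : a - i - b = j := by
        have : a - b = i + j := hij.symm
        linear_combination this
      rw [this]
      exact hj
  · rintro ⟨z, hz⟩
    obtain ⟨t, rfl⟩ := Submodule.Quotient.mk_surjective _ z
    rw [diagMap_mk, Prod.mk.injEq, Submodule.Quotient.eq, Submodule.Quotient.eq] at hz
    have : a - b = (t - b) - (t - a) := by ring
    rw [this]
    exact Submodule.sub_mem _ (Submodule.mem_sup_right hz.2) (Submodule.mem_sup_left hz.1)

/-- the depth of a product is at least the minimum of the depths. -/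
lemma min_le_idealDepth_prod (𝔞 : Ideal T) (M N : Type u) [AddCommGroup M] [Module T M]
    [Module.Finite T M] [AddCommGroup N] [Module T N] [Module.Finite T N] :
    min (LocCoh.idealDepth 𝔞 M) (LocCoh.idealDepth 𝔞 N) ≤ LocCoh.idealDepth 𝔞 (M × N) := by
  have hex : Function.Exact (LinearMap.inl T M N) (LinearMap.snd T M N) := by
    intro y
    constructor
    · intro h
      exact ⟨y.1, Prod.ext rfl (by simpa using h.symm)⟩
    · rintro ⟨z, rfl⟩
      rfl
  exact (idealDepth_shortExact 𝔞 (LinearMap.inl T M N) (LinearMap.snd T M N)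
    LinearMap.inl_injective LinearMap.snd_surjective hex).1

/-- **Lemma B** (gluing): if `T/I`, `T/J` are Cohen–Macaulay of dimension `e` and `T/(I + J)` is
Cohen–Macaulay of dimension `e - 1`, then `T/(I ∩ J)` is Cohen–Macaulay of dimension `e`. -/
theorem cm_inf_of_cm (I J : Ideal T) (e : ℕ)
    (hI : LocCoh.IsCohenMacaulayModule T (T ⧸ I)) (hdI : Module.supportDim T (T ⧸ I) = e)
    (hJ : LocCoh.IsCohenMacaulayModule T (T ⧸ J)) (hdJ : Module.supportDim T (T ⧸ J) = e)
    (hIJ : LocCoh.IsCohenMacaulayModule T (T ⧸ (I ⊔ J)))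
    (hdIJ : Module.supportDim T (T ⧸ (I ⊔ J)) + 1 = e) :
    LocCoh.IsCohenMacaulayModule T (T ⧸ I ⊓ J) ∧ Module.supportDim T (T ⧸ I ⊓ J) = e := by
  set 𝔪 := IsLocalRing.maximalIdeal T with h𝔪
  -- depths
  have hdepI : LocCoh.idealDepth 𝔪 (T ⧸ I) = e := by
    unfold LocCoh.IsCohenMacaulayModule LocCoh.depth at hI
    rw [hdI] at hI
    exact_mod_cast hI.symm
  have hdepJ : LocCoh.idealDepth 𝔪 (T ⧸ J) = e := by
    unfold LocCoh.IsCohenMacaulayModule LocCoh.depth at hJ
    rw [hdJ] at hJ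
    exact_mod_cast hJ.symm
  have hdepIJ : LocCoh.idealDepth 𝔪 (T ⧸ (I ⊔ J)) + 1 = e := by
    unfold LocCoh.IsCohenMacaulayModule LocCoh.depth at hIJ
    rw [hIJ] at hdIJ
    exact_mod_cast hdIJ
  have hprod := min_le_idealDepth_prod 𝔪 (T ⧸ I) (T ⧸ J)
  rw [hdepI, hdepJ, min_self] at hprod
  have h3 := (idealDepth_shortExact 𝔪 (diagMap I J) (diffMap I J) (diagMap_injective I J)
    (diffMap_surjective I J) (diag_diff_exact I J)).2.2
  rw [hdepIJ] at h3
  have hdepth : (e : ℕ∞) ≤ LocCoh.idealDepth 𝔪 (T ⧸ I ⊓ J) := le_trans (le_min hprod le_rfl) h3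
  -- dimension
  have hdim : Module.supportDim T (T ⧸ I ⊓ J) ≤ e :=
    supportDim_quotient_inf_le I J e hdI.le hdJ.le
  haveI : Nontrivial (T ⧸ I ⊓ J) := by
    haveI : Nontrivial (T ⧸ I) := by
      rw [← Module.supportDim_ne_bot_iff_nontrivial T, hdI]
      exact WithBot.coe_ne_bot
    exact Function.Surjective.nontrivial
      (f := Submodule.mapQ (I ⊓ J) I LinearMap.id (fun _ h => h.1)) (by
        intro y
        obtain ⟨t, rfl⟩ := Submodule.Quotient.mk_surjective _ y
        exact ⟨Submodule.Quotient.mk t, rfl⟩)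
  have hle := depth_le_supportDim (R := T) (M := T ⧸ I ⊓ J)
  have h4 : ((e : ℕ∞) : WithBot ℕ∞) ≤ ((LocCoh.depth T (T ⧸ I ⊓ J) : ℕ∞) : WithBot ℕ∞) := by
    exact_mod_cast hdepth
  have hdimeq : Module.supportDim T (T ⧸ I ⊓ J) = e :=
    le_antisymm hdim (le_trans h4 hle)
  refine ⟨?_, hdimeq⟩
  unfold LocCoh.IsCohenMacaulayModule
  exact le_antisymm (hdimeq ▸ h4) hle

end LocalLemmas

section Bridge

variable {S : Type u} [CommRing S]

/-- the kernel of `S_P → (S/𝔞)_q` is the extension of `𝔞`. -/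
theorem ker_localRingHom_mk (𝔞 : Ideal S) (q : Ideal (S ⧸ 𝔞)) [q.IsPrime]
    (P : Ideal S) [P.IsPrime] (hP : P = q.comap (Ideal.Quotient.mk 𝔞)) :
    RingHom.ker (Localization.localRingHom P q (Ideal.Quotient.mk 𝔞) hP) =
      𝔞.map (algebraMap S (Localization.AtPrime P)) := by
  apply le_antisymm
  · intro y hy
    rw [RingHom.mem_ker] at hy
    obtain ⟨⟨a, s⟩, hys⟩ := IsLocalization.surj P.primeCompl y
    have hys' : y * algebraMap S (Localization.AtPrime P) (s : S) =
        algebraMap S (Localization.AtPrime P) a := hys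
    have h1 := congrArg (Localization.localRingHom P q (Ideal.Quotient.mk 𝔞) hP) hys'
    rw [map_mul, hy, zero_mul, Localization.localRingHom_to_map] at h1
    obtain ⟨m, hm⟩ := (IsLocalization.map_eq_zero_iff q.primeCompl (Localization.AtPrime q) _).mp
      h1.symm
    obtain ⟨m₀, hm₀⟩ := Ideal.Quotient.mk_surjective (m : S ⧸ 𝔞)
    have hm₀p : m₀ ∈ P.primeCompl := by
      intro h
      rw [SetLike.mem_coe, hP, Ideal.mem_comap, hm₀] at h
      exact m.2 h
    rw [← hm₀, ← map_mul, Ideal.Quotient.eq_zero_iff_mem] at hm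
    obtain ⟨v, hv⟩ := (IsLocalization.map_units (Localization.AtPrime P)
      ((s * ⟨m₀, hm₀p⟩ : P.primeCompl))).exists_left_inv
    have hv' : v * algebraMap S (Localization.AtPrime P) ((s : S) * m₀) = 1 := hv
    have h2 : y * algebraMap S (Localization.AtPrime P) ((s : S) * m₀) =
        algebraMap S _ (m₀ * a) := by
      rw [map_mul, ← mul_assoc, hys', ← map_mul, mul_comm a m₀]
    have h3 : y = algebraMap S (Localization.AtPrime P) (m₀ * a) * v := by
      calc y = y * (v * algebraMap S _ ((s : S) * m₀)) := by rw [hv', mul_one]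
        _ = y * algebraMap S _ ((s : S) * m₀) * v := by ring
        _ = algebraMap S (Localization.AtPrime P) (m₀ * a) * v := by rw [h2]
    rw [h3]
    exact Ideal.mul_mem_right _ _ (Ideal.mem_map_of_mem _ hm)
  · rw [Ideal.map_le_iff_le_comap]
    intro a ha
    rw [Ideal.mem_comap, RingHom.mem_ker, Localization.localRingHom_to_map,
      Ideal.Quotient.eq_zero_iff_mem.mpr ha, map_zero]

/-- `S_P/𝔞S_P ≃ (S/𝔞)_q`. -/
noncomputable def locQuotEquiv (𝔞 : Ideal S) (q : Ideal (S ⧸ 𝔞)) [q.IsPrime]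
    (P : Ideal S) [P.IsPrime] (hP : P = q.comap (Ideal.Quotient.mk 𝔞)) :
    (Localization.AtPrime P ⧸ 𝔞.map (algebraMap S (Localization.AtPrime P))) ≃+*
      Localization.AtPrime q :=
  (Ideal.quotEquivOfEq (ker_localRingHom_mk 𝔞 q P hP).symm).trans
    (RingHom.quotientKerEquivOfSurjective
      (f := Localization.localRingHom P q (Ideal.Quotient.mk 𝔞) hP) (by
        subst hP
        exact RingHom.surjective_localRingHom_of_surjective _ Ideal.Quotient.mk_surjective q))

lemma map_ne_top_of_le (𝔞 P : Ideal S) [P.IsPrime] (h : 𝔞 ≤ P) :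
    𝔞.map (algebraMap S (Localization.AtPrime P)) ≠ ⊤ := by
  intro htop
  have h1 : 𝔞.map (algebraMap S (Localization.AtPrime P)) ≤
      P.map (algebraMap S (Localization.AtPrime P)) := Ideal.map_mono h
  rw [htop, top_le_iff] at h1
  have h2 := IsLocalization.AtPrime.map_eq_maximalIdeal P (Localization.AtPrime P)
  rw [h1] at h2
  exact (IsLocalRing.maximalIdeal.isMaximal (Localization.AtPrime P)).ne_top h2.symm

lemma map_eq_top_of_not_le (𝔞 P : Ideal S) [P.IsPrime] (h : ¬ 𝔞 ≤ P) :
    𝔞.map (algebraMap S (Localization.AtPrime P)) = ⊤ := by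
  obtain ⟨a, ha, haP⟩ := Set.not_subset.1 h
  apply Ideal.eq_top_of_isUnit_mem _ (Ideal.mem_map_of_mem _ ha)
  exact IsLocalization.map_units (Localization.AtPrime P) (⟨a, haP⟩ : P.primeCompl)

variable [IsNoetherianRing S]

/-- the local Cohen–Macaulay condition for the quotient by `𝔞` at the prime `P`. -/
def CMat (𝔞 P : Ideal S) [P.IsPrime] : Prop :=
  LocCoh.IsCohenMacaulayModule (Localization.AtPrime P)
    (Localization.AtPrime P ⧸ 𝔞.map (algebraMap S (Localization.AtPrime P)))

/-- the local dimension of the quotient by `𝔞` at the prime `P`. -/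
noncomputable def dimAt (𝔞 P : Ideal S) [P.IsPrime] : WithBot ℕ∞ :=
  Module.supportDim (Localization.AtPrime P)
    (Localization.AtPrime P ⧸ 𝔞.map (algebraMap S (Localization.AtPrime P)))

theorem isCMRing_quotient_of_forall (𝔞 : Ideal S)
    (h : ∀ (P : Ideal S) [P.IsPrime], 𝔞 ≤ P → CMat 𝔞 P) :
    LocCoh.IsCohenMacaulayRing (S ⧸ 𝔞) := by
  refine { isCohenMacaulayLocalRing_localization := ?_ }
  intro q hq
  set P := q.comap (Ideal.Quotient.mk 𝔞) with hP
  haveI : P.IsPrime := Ideal.IsPrime.comap _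
  have hle : 𝔞 ≤ P := by
    intro a ha
    rw [hP, Ideal.mem_comap, Ideal.Quotient.eq_zero_iff_mem.mpr ha]
    exact zero_mem _
  have h1 := h P hle
  unfold CMat at h1
  rw [cmModule_quotient_iff _ _ (map_ne_top_of_le 𝔞 P hle)] at h1
  exact isCMLocalRing_of_ringEquiv (locQuotEquiv 𝔞 q P hP)

theorem cmAt_of_isCMLocalRing (𝔞 : Ideal S) (q : Ideal (S ⧸ 𝔞)) [q.IsPrime]
    (P : Ideal S) [P.IsPrime] (hP : P = q.comap (Ideal.Quotient.mk 𝔞))
    [LocCoh.IsCohenMacaulayLocalRing (Localization.AtPrime q)] : CMat 𝔞 P := by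
  have hle : 𝔞 ≤ P := by
    intro a ha
    rw [hP, Ideal.mem_comap, Ideal.Quotient.eq_zero_iff_mem.mpr ha]
    exact zero_mem _
  unfold CMat
  rw [cmModule_quotient_iff _ _ (map_ne_top_of_le 𝔞 P hle)]
  exact isCMLocalRing_of_ringEquiv (locQuotEquiv 𝔞 q P hP).symm

lemma dimAt_eq_height (𝔞 : Ideal S) (q : Ideal (S ⧸ 𝔞)) [q.IsPrime]
    (P : Ideal S) [P.IsPrime] (hP : P = q.comap (Ideal.Quotient.mk 𝔞)) :
    dimAt 𝔞 P = q.height := by
  unfold dimAt
  rw [Module.supportDim_quotient_eq_ringKrullDim,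
    ringKrullDim_eq_of_ringEquiv (locQuotEquiv 𝔞 q P hP),
    IsLocalization.AtPrime.ringKrullDim_eq_height q]

end Bridge

section Global

variable {S : Type u} [CommRing S] [IsNoetherianRing S]

/-- `S/𝔞` is Cohen–Macaulay of pure codimension `c` in `S` (with the codimension measured by
heights of primes of `S`). -/
def CMc (𝔞 : Ideal S) (c : ℕ) : Prop :=
  ∀ (P : Ideal S) [P.IsPrime], 𝔞 ≤ P →
    CMat 𝔞 P ∧ ∃ e : ℕ, dimAt 𝔞 P = e ∧ ((e + c : ℕ) : ℕ∞) = P.height

theorem CMc.isCMRing {𝔞 : Ideal S} {c : ℕ} (h : CMc 𝔞 c) : LocCoh.IsCohenMacaulayRing (S ⧸ 𝔞) :=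
  isCMRing_quotient_of_forall 𝔞 (fun P _ hP => (h P hP).1)

/-- **gluing** of Cohen–Macaulay quotients. -/
theorem CMc.inf {I J : Ideal S} {c : ℕ} (hI : CMc I c) (hJ : CMc J c) (hIJ : CMc (I ⊔ J) (c + 1)) :
    CMc (I ⊓ J) c := by
  intro P _ hle
  have hmap : (I ⊓ J).map (algebraMap S (Localization.AtPrime P)) =
      I.map (algebraMap S (Localization.AtPrime P)) ⊓
        J.map (algebraMap S (Localization.AtPrime P)) :=
    IsLocalization.map_inf P.primeCompl (Localization.AtPrime P) I J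
  by_cases hIP : I ≤ P
  · by_cases hJP : J ≤ P
    · obtain ⟨hcI, eI, hdI, heI⟩ := hI P hIP
      obtain ⟨hcJ, eJ, hdJ, heJ⟩ := hJ P hJP
      obtain ⟨hcIJ, eIJ, hdIJ, heIJ⟩ := hIJ P (sup_le hIP hJP)
      have h1 : eJ = eI := by
        have : ((eJ + c : ℕ) : ℕ∞) = ((eI + c : ℕ) : ℕ∞) := by rw [heI, heJ]
        have := Nat.cast_injective this
        omega
      have h2 : eIJ + 1 = eI := by
        have : ((eIJ + (c + 1) : ℕ) : ℕ∞) = ((eI + c : ℕ) : ℕ∞) := by rw [heI, heIJ]
        have := Nat.cast_injective this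
        omega
      subst h1
      unfold CMat dimAt at *
      rw [Ideal.map_sup] at hcIJ hdIJ
      have key := cm_inf_of_cm _ _ eJ hcI hdI hcJ hdJ hcIJ (by
        rw [hdIJ, ← h2]
        push_cast
        rfl)
      rw [hmap]
      exact ⟨key.1, eJ, key.2, heJ⟩
    · have hJtop := map_eq_top_of_not_le J P hJP
      have := hI P hIP
      unfold CMat dimAt at *
      rw [hmap, hJtop, inf_top_eq]
      exact this
  · have hJP : J ≤ P := by
      rcases (Ideal.IsPrime.inf_le ‹P.IsPrime›).1 hle with h | h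
      · exact absurd h hIP
      · exact h
    have hItop := map_eq_top_of_not_le I P hIP
    have := hJ P hJP
    unfold CMat dimAt at *
    rw [hmap, hItop, top_inf_eq]
    exact this

/-- regularity passes to the localized quotient. -/
lemma isSMulRegular_map (𝔞 : Ideal S) (x : S) (hreg : ∀ a, x * a ∈ 𝔞 → a ∈ 𝔞)
    (P : Ideal S) [P.IsPrime] :
    IsSMulRegular (Localization.AtPrime P ⧸ 𝔞.map (algebraMap S (Localization.AtPrime P)))
      (algebraMap S (Localization.AtPrime P) x) := by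
  rw [isSMulRegular_iff_right_eq_zero_of_smul]
  intro y hy
  obtain ⟨t, rfl⟩ := Ideal.Quotient.mk_surjective y
  rw [← Ideal.Quotient.mk_eq_mk, ← Submodule.Quotient.mk_smul, Submodule.Quotient.mk_eq_zero,
    smul_eq_mul] at hy
  rw [Ideal.Quotient.eq_zero_iff_mem]
  obtain ⟨⟨a, s⟩, hts⟩ := IsLocalization.surj P.primeCompl t
  have hts' : t * algebraMap S (Localization.AtPrime P) (s : S) =
      algebraMap S (Localization.AtPrime P) a := hts
  have h1 : algebraMap S (Localization.AtPrime P) (x * a) ∈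
      𝔞.map (algebraMap S (Localization.AtPrime P)) := by
    rw [map_mul, ← hts', ← mul_assoc]
    exact Ideal.mul_mem_right _ _ hy
  rw [IsLocalization.mem_map_algebraMap_iff P.primeCompl] at h1
  obtain ⟨⟨⟨i, hi⟩, m⟩, him⟩ := h1
  simp only at him
  rw [← map_mul] at him
  obtain ⟨u, hu⟩ := (IsLocalization.eq_iff_exists P.primeCompl (Localization.AtPrime P)).1 him
  have h2 : x * ((u : S) * a * (m : S)) ∈ 𝔞 := by
    have : x * ((u : S) * a * (m : S)) = (u : S) * (x * a * (m : S)) := by ring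
    rw [this, hu]
    exact 𝔞.mul_mem_left _ hi
  have h3 := hreg _ h2
  obtain ⟨v, hv⟩ := (IsLocalization.map_units (Localization.AtPrime P)
    (s * u * m : P.primeCompl)).exists_left_inv
  have hv' : v * algebraMap S (Localization.AtPrime P) ((s : S) * (u : S) * (m : S)) = 1 := hv
  have h4 : t = algebraMap S (Localization.AtPrime P) ((u : S) * a * (m : S)) * v := by
    calc t = t * (v * algebraMap S (Localization.AtPrime P) ((s : S) * (u : S) * (m : S))) := by
          rw [hv', mul_one]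
      _ = (t * algebraMap S (Localization.AtPrime P) (s : S)) *
          algebraMap S (Localization.AtPrime P) ((u : S) * (m : S)) * v := by
          rw [mul_assoc (s : S), map_mul ((algebraMap S (Localization.AtPrime P))) (s : S)]
          ring
      _ = algebraMap S (Localization.AtPrime P) ((u : S) * a * (m : S)) * v := by
          rw [hts', ← map_mul]
          congr 2
          ring
  rw [h4]
  exact Ideal.mul_mem_right _ _ (Ideal.mem_map_of_mem _ h3)

/-- **hypersurface sections**: Cohen–Macaulayness lifts along a non-zero-divisor, given the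
statement away from it. -/
theorem CMc.of_nzd {𝔞 : Ideal S} {x : S} {c : ℕ} (hreg : ∀ a, x * a ∈ 𝔞 → a ∈ 𝔞)
    (hx : CMc (𝔞 ⊔ Ideal.span {x}) (c + 1))
    (haway : ∀ (P : Ideal S) [P.IsPrime], 𝔞 ≤ P → x ∉ P →
      CMat 𝔞 P ∧ ∃ e : ℕ, dimAt 𝔞 P = e ∧ ((e + c : ℕ) : ℕ∞) = P.height) :
    CMc 𝔞 c := by
  intro P _ hle
  by_cases hxP : x ∈ P
  · obtain ⟨hc, e', hd, he⟩ := hx P (sup_le hle (by
      rw [Ideal.span_le, Set.singleton_subset_iff]; exact hxP))
    unfold CMat dimAt at *
    rw [Ideal.map_sup, Ideal.map_span, Set.image_singleton] at hc hd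
    have hxm : algebraMap S (Localization.AtPrime P) x ∈
        IsLocalRing.maximalIdeal (Localization.AtPrime P) := by
      rw [IsLocalization.AtPrime.to_map_mem_maximal_iff (Localization.AtPrime P) P]
      exact hxP
    have key := cm_of_cm_sup_span _ _ hxm (isSMulRegular_map 𝔞 x hreg P) hc
    refine ⟨key.1, e' + 1, ?_, ?_⟩
    · rw [← key.2, hd]
      push_cast
      rfl
    · rw [← he]
      congr 1
      omega
  · exact haway P hle hxP

/-- in a ring whose local rings are Cohen–Macaulay, the local dimension of a prime quotient is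
the difference of heights. -/
theorem dimAt_add_height (hS : ∀ (P : Ideal S) [P.IsPrime],
      LocCoh.IsCohenMacaulayLocalRing (Localization.AtPrime P))
    (𝔭 P : Ideal S) [𝔭.IsPrime] [P.IsPrime] (h : 𝔭 ≤ P) :
    ((𝔭.height : ℕ∞) : WithBot ℕ∞) + dimAt 𝔭 P = ((P.height : ℕ∞) : WithBot ℕ∞) := by
  haveI := hS P
  have hM : LocCoh.IsCohenMacaulayModule (Localization.AtPrime P) (Localization.AtPrime P) :=
    LocCoh.IsCohenMacaulayLocalRing.supportDim_eq_depth
  have hsupp : Module.support (Localization.AtPrime P) (Localization.AtPrime P) = Set.univ := by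
    rw [Module.support_of_algebra, Algebra.algebraMap_self]
    have : RingHom.ker (RingHom.id (Localization.AtPrime P)) = ⊥ := by
      rw [← RingHom.injective_iff_ker_eq_bot]
      exact Function.injective_id
    rw [this]
    simp
  have hdisj : Disjoint (P.primeCompl : Set S) (𝔭 : Set S) := by
    rw [Set.disjoint_left]
    intro x hx hxp
    exact hx (h hxp)
  have hprime : (𝔭.map (algebraMap S (Localization.AtPrime P))).IsPrime :=
    IsLocalization.isPrime_of_isPrime_disjoint P.primeCompl _ _ ‹_› hdisj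
  let p' : PrimeSpectrum (Localization.AtPrime P) := ⟨_, hprime⟩
  have h1 := cm_height_add_ringKrullDim_quotient hM hsupp p'
  simp only [p'] at h1
  rw [IsLocalization.height_map_of_disjoint P.primeCompl 𝔭 hdisj,
    IsLocalization.AtPrime.ringKrullDim_eq_height P (Localization.AtPrime P)] at h1
  unfold dimAt
  rw [Module.supportDim_quotient_eq_ringKrullDim]
  exact h1

/-- heights go up by one along covering relations, in a ring with Cohen–Macaulay local rings. -/
theorem height_eq_add_one_of_covBy (hS : ∀ (P : Ideal S) [P.IsPrime],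
      LocCoh.IsCohenMacaulayLocalRing (Localization.AtPrime P))
    {p q : PrimeSpectrum S} (hpq : p ⋖ q) : q.asIdeal.height = p.asIdeal.height + 1 := by
  apply le_antisymm _ (Ideal.height_add_one_le_of_lt_of_isPrime hpq.lt)
  have h1 := dimAt_add_height hS p.asIdeal q.asIdeal hpq.lt.le
  have h2 := ringKrullDim_quotient_map_le_one hpq
  unfold dimAt at h1
  rw [Module.supportDim_quotient_eq_ringKrullDim] at h1
  have h3 : ((q.asIdeal.height : ℕ∞) : WithBot ℕ∞) ≤
      ((p.asIdeal.height : ℕ∞) : WithBot ℕ∞) + 1 := by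
    rw [← h1]
    gcongr
  exact_mod_cast h3

end Global

section Primes

variable {S : Type u} [CommRing S] [IsNoetherianRing S]

/-- the image of a prime in a quotient, with its comap. -/
lemma comap_map_mk_eq (𝔞 P : Ideal S) (h : 𝔞 ≤ P) :
    (P.map (Ideal.Quotient.mk 𝔞)).comap (Ideal.Quotient.mk 𝔞) = P := by
  rw [Ideal.comap_map_of_surjective _ Ideal.Quotient.mk_surjective, ← RingHom.ker_eq_comap_bot,
    Ideal.mk_ker]
  exact sup_eq_left.2 h

lemma map_mk_isPrime (𝔞 P : Ideal S) [P.IsPrime] (h : 𝔞 ≤ P) :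
    (P.map (Ideal.Quotient.mk 𝔞)).IsPrime :=
  Ideal.map_isPrime_of_surjective Ideal.Quotient.mk_surjective (by rw [Ideal.mk_ker]; exact h)

/-- the local dimension data at a prime ideal, in a ring with Cohen–Macaulay local rings. -/
theorem exists_dimAt_of_prime (hS : ∀ (P : Ideal S) [P.IsPrime],
      LocCoh.IsCohenMacaulayLocalRing (Localization.AtPrime P))
    (𝔭 P : Ideal S) [𝔭.IsPrime] [P.IsPrime] (h : 𝔭 ≤ P) :
    ∃ e : ℕ, dimAt 𝔭 P = e ∧ ((e + 𝔭.height.toNat : ℕ) : ℕ∞) = P.height := by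
  have h1 := dimAt_add_height hS 𝔭 P h
  haveI : Nontrivial (Localization.AtPrime P ⧸ 𝔭.map (algebraMap S (Localization.AtPrime P))) :=
    Ideal.Quotient.nontrivial_iff.mpr (map_ne_top_of_le 𝔭 P h)
  obtain ⟨e, he⟩ := exists_nat_supportDim (R := Localization.AtPrime P)
    (M := Localization.AtPrime P ⧸ 𝔭.map (algebraMap S (Localization.AtPrime P)))
  refine ⟨e, he, ?_⟩
  unfold dimAt at h1
  rw [he] at h1
  have hfin : 𝔭.height ≠ ⊤ := Ideal.height_ne_top_of_isPrime
  have hc : ((𝔭.height.toNat : ℕ) : ℕ∞) = 𝔭.height := ENat.coe_toNat hfin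
  have h2 : 𝔭.height + (e : ℕ∞) = P.height := by exact_mod_cast h1
  calc ((e + 𝔭.height.toNat : ℕ) : ℕ∞) = (e : ℕ∞) + ((𝔭.height.toNat : ℕ) : ℕ∞) := by
        push_cast
        rfl
    _ = (e : ℕ∞) + 𝔭.height := by rw [hc]
    _ = P.height := by rw [add_comm]; exact h2

theorem CMc.of_prime (hS : ∀ (P : Ideal S) [P.IsPrime],
      LocCoh.IsCohenMacaulayLocalRing (Localization.AtPrime P))
    (𝔭 : Ideal S) [𝔭.IsPrime] (h : ∀ (P : Ideal S) [P.IsPrime], 𝔭 ≤ P → CMat 𝔭 P) :
    CMc 𝔭 𝔭.height.toNat :=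
  fun P _ hP => ⟨h P hP, exists_dimAt_of_prime hS 𝔭 P hP⟩

/-- heights go up by exactly one at a minimal prime over a principal extension of a prime. -/
theorem height_eq_add_one_of_minimalPrimes (hS : ∀ (P : Ideal S) [P.IsPrime],
      LocCoh.IsCohenMacaulayLocalRing (Localization.AtPrime P))
    (𝔭 𝔮 : Ideal S) [𝔭.IsPrime] [𝔮.IsPrime] (x : S) (hlt : 𝔭 < 𝔮)
    (hmin : 𝔮 ∈ (𝔭 ⊔ Ideal.span {x}).minimalPrimes) :
    𝔮.height = 𝔭.height + 1 := by
  apply le_antisymm _ (Ideal.height_add_one_le_of_lt_of_isPrime hlt)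
  have h1 := dimAt_add_height hS 𝔭 𝔮 hlt.le
  haveI := map_mk_isPrime 𝔭 𝔮 hlt.le
  have h2 := dimAt_eq_height 𝔭 (𝔮.map (Ideal.Quotient.mk 𝔭)) 𝔮 (comap_map_mk_eq 𝔭 𝔮 hlt.le).symm
  have h3 := Ideal.map_height_le_one_of_mem_minimalPrimes hmin
  rw [h2] at h1
  have h4 : 𝔭.height + (𝔮.map (Ideal.Quotient.mk 𝔭)).height = 𝔮.height := by exact_mod_cast h1
  rw [← h4]
  gcongr

end Primes

end Groth.Agent.Lib.Helper22.CMG
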