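import Mathlib
import Groth.Agent.Lib.Helper22.CMGlue

/-!
# Regular rings: localizations, and Cohen–Macaulayness
-/

set_option autoImplicit false

universe u

open Groth.Agent.Lib.Helper4

namespace Groth.Agent.Lib.Helper22.CMG

section Reg

/-- a localization of a regular ring is regular. -/
theorem isRegularRing_of_isLocalization {R : Type u} [CommRing R] [IsRegularRing R]
    (M : Submonoid R) (S' : Type u) [CommRing S'] [Algebra R S'] [IsLocalization M S'] :
    IsRegularRing S' := by
  haveI : IsNoetherianRing S' := IsLocalization.isNoetherianRing M S' inferInstance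
  apply isRegularRing_iff.mpr
  intro p' hp'
  have h := IsLocalization.isLocalization_isLocalization_atPrime_isLocalization (M := M)
    (Localization.AtPrime p') p'
  set p := Ideal.comap (algebraMap R S') p' with hp
  haveI : p.IsPrime := Ideal.IsPrime.comap _
  have e := (IsLocalization.algEquiv p.primeCompl (Localization.AtPrime p)
    (Localization.AtPrime p')).toRingEquiv
  exact IsRegularLocalRing.of_ringEquiv e

/-- if `A[1/x]` is regular, then `A` is regular at the primes not containing `x`. -/
theorem isRegularLocalRing_of_away {A : Type u} [CommRing A] (x : A)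
    [IsRegularRing (Localization.Away x)] (q : Ideal A) [q.IsPrime] (hx : x ∉ q) :
    IsRegularLocalRing (Localization.AtPrime q) := by
  have hdisj : Disjoint ((Submonoid.powers x : Submonoid A) : Set A) (q : Set A) := by
    rw [Set.disjoint_left]
    rintro _ ⟨k, rfl⟩ hk
    exact hx (Ideal.IsPrime.mem_of_pow_mem ‹_› k hk)
  set q' := q.map (algebraMap A (Localization.Away x)) with hq'
  haveI : q'.IsPrime :=
    IsLocalization.isPrime_of_isPrime_disjoint (Submonoid.powers x) _ q ‹_› hdisj
  have h := IsLocalization.isLocalization_isLocalization_atPrime_isLocalization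
    (M := Submonoid.powers x) (Localization.AtPrime q') q'
  have hcomap : Ideal.comap (algebraMap A (Localization.Away x)) q' = q :=
    IsLocalization.under_map_of_isPrime_disjoint (Submonoid.powers x) _ ‹_› hdisj
  simp_rw [hcomap] at h
  have e := (IsLocalization.algEquiv q.primeCompl (Localization.AtPrime q')
    (Localization.AtPrime q)).toRingEquiv
  exact IsRegularLocalRing.of_ringEquiv e

/-- regular rings have Cohen–Macaulay local rings. -/
theorem isCMLocalRing_of_isRegularRing {R : Type u} [CommRing R] [IsRegularRing R]
    (P : Ideal R) [P.IsPrime] : LocCoh.IsCohenMacaulayLocalRing (Localization.AtPrime P) :=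
  RegCM.isCohenMacaulayLocalRing _

end Reg

end Groth.Agent.Lib.Helper22.CMG
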