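import Mathlib
import Groth.Prelude.Def_Pi1

/-!
# Sections of the structure sheaf of a normal integral scheme over any nonempty open form an
integrally closed domain; normality descends along `O_Y ≅ f_* O_X` (helper22)
-/

set_option autoImplicit false
set_option linter.style.haveILetI false
set_option linter.unusedSectionVars false
universe u
open CategoryTheory AlgebraicGeometry TopologicalSpace Opposite

namespace Groth.Agent.Lib.Helper22.NormalSections

variable {X : Scheme.{u}} [IsIntegral X]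

/-- A rational function which is regular at every point of `W` is a section over `W`. -/
theorem exists_section_of_forall_mem_range (W : X.Opens) [Nonempty W] (g : X.functionField)
    (hg : ∀ x ∈ W, g ∈ Set.range (algebraMap (X.presheaf.stalk x) X.functionField)) :
    ∃ s : Γ(X, W), X.germToFunctionField W s = g := by
  have hloc : ∀ x : W, ∃ (Wx : X.Opens) (hx : x.1 ∈ Wx) (_ : Wx ≤ W) (α : Γ(X, Wx)),
      X.presheaf.germ Wx (genericPoint X)
        (((genericPoint_spec X).mem_open_set_iff Wx.isOpen).mpr ⟨x.1, trivial, hx⟩) α = g := by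
    intro x
    obtain ⟨a, ha⟩ := hg x.1 x.2
    obtain ⟨Wx, hle, hxW, α, hα⟩ := TopCat.Presheaf.exists_le_germ_eq X.presheaf a x.2
    refine ⟨Wx, hxW, hle, α, ?_⟩
    haveI : Nonempty Wx := ⟨⟨x.1, hxW⟩⟩
    rw [← ha, ← hα, Scheme.algebraMap_germ_eq_germToFunctionField]
  choose Wx hx hle α hα using hloc
  have hcompat : TopCat.Presheaf.IsCompatible X.presheaf Wx α := by
    intro i j
    have hne : ((Wx i ⊓ Wx j : X.Opens) : Set X).Nonempty :=
      nonempty_preirreducible_inter (Wx i).2 (Wx j).2 ⟨i.1, hx i⟩ ⟨j.1, hx j⟩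
    haveI : Nonempty ((Wx i ⊓ Wx j : X.Opens) : Scheme.{u}) := ⟨⟨hne.some, hne.some_mem⟩⟩
    apply X.germToFunctionField_injective (Wx i ⊓ Wx j)
    rw [Scheme.germToFunctionField, TopCat.Presheaf.germ_res_apply,
      TopCat.Presheaf.germ_res_apply, hα i, hα j]
  obtain ⟨s, hs, -⟩ := X.sheaf.existsUnique_gluing' Wx W (fun i => homOfLE (hle i))
    (fun x hxW => Opens.mem_iSup.mpr ⟨⟨x, hxW⟩, hx _⟩) α hcompat
  refine ⟨s, ?_⟩
  obtain ⟨x₀⟩ := (inferInstance : Nonempty W)
  rw [← hα x₀, ← hs x₀]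
  exact (TopCat.Presheaf.germ_res_apply X.presheaf (homOfLE (hle x₀)) _ _ s).symm

theorem isIntegrallyClosed_sections (hX : Pi1.IsNormalScheme X) (W : X.Opens) [Nonempty W] :
    IsIntegrallyClosed Γ(X, W) := by
  rw [isIntegrallyClosed_iff (FractionRing Γ(X, W))]
  intro z hz
  have hinj : Function.Injective (Algebra.ofId Γ(X, W) X.functionField) :=
    X.germToFunctionField_injective W
  let L : FractionRing Γ(X, W) →ₐ[Γ(X, W)] X.functionField := IsFractionRing.liftAlgHom hinj
  have hLz : IsIntegral Γ(X, W) (L z) := hz.map L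
  have hmem : ∀ x ∈ W, L z ∈ Set.range (algebraMap (X.presheaf.stalk x) X.functionField) := by
    intro x hxW
    haveI := (hX x).2
    let x' : (W : Scheme.{u}) := ⟨x, hxW⟩
    letI := TopCat.Presheaf.algebra_section_stalk X.presheaf x'
    haveI : IsScalarTower Γ(X, W) (X.presheaf.stalk x) X.functionField :=
      functionField_isScalarTower X W x'
    have h1 : IsIntegral (X.presheaf.stalk x) (L z) := hLz.tower_top
    exact IsIntegrallyClosed.isIntegral_iff.mp h1
  obtain ⟨s, hs⟩ := exists_section_of_forall_mem_range W (L z) hmem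
  refine ⟨s, ?_⟩
  apply L.toRingHom.injective
  change L (algebraMap _ _ s) = L z
  rw [AlgHom.commutes]
  exact hs

/-- Normality descends along a surjective morphism `f : X ⟶ Y` of integral schemes with
`O_Y ≅ f_* O_X`. -/
theorem isNormalScheme_of_bijective_app {Y : Scheme.{u}} [IsIntegral Y] (f : X ⟶ Y)
    [Surjective f] (hf : ∀ U : Y.Opens, Function.Bijective (f.app U))
    (hX : Pi1.IsNormalScheme X) : Pi1.IsNormalScheme Y := by
  intro y
  refine ⟨inferInstance, ?_⟩
  obtain ⟨V, hV, hyV, -⟩ := Opens.isBasis_iff_nbhd.mp Y.isBasis_affineOpens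
    (show y ∈ (⊤ : Y.Opens) from trivial)
  obtain ⟨x, rfl⟩ := f.surjective y
  haveI : Nonempty V := ⟨⟨f x, hyV⟩⟩
  haveI : Nonempty ((f ⁻¹ᵁ V : X.Opens) : Scheme.{u}) := ⟨⟨x, hyV⟩⟩
  haveI := isIntegrallyClosed_sections hX (f ⁻¹ᵁ V)
  let e : Γ(Y, V) ≃+* Γ(X, f ⁻¹ᵁ V) := RingEquiv.ofBijective (f.app V).hom (hf V)
  haveI : IsIntegrallyClosed Γ(Y, V) := IsIntegrallyClosed.of_equiv e.symm
  letI := TopCat.Presheaf.algebra_section_stalk Y.presheaf ⟨f x, hyV⟩
  haveI : IsLocalization.AtPrime (Y.presheaf.stalk (f x)) (hV.primeIdealOf ⟨f x, hyV⟩).asIdeal :=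
    hV.isLocalization_stalk ⟨f x, hyV⟩
  exact isIntegrallyClosed_of_isLocalization (R := Γ(Y, V)) (S := Y.presheaf.stalk (f x))
    (hV.primeIdealOf ⟨f x, hyV⟩).asIdeal.primeCompl
    (Ideal.primeCompl_le_nonZeroDivisors _)

end Groth.Agent.Lib.Helper22.NormalSections
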