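import Mathlib
import Groth.Agent.Lib.Helper12.DimFT

/-!
# Krull dimension of standard smooth algebras over a field

* `height_eq_height_under`: for a flat quasi-finite map of Noetherian rings, `ht q = ht (q ∩ A)`.
* `ringKrullDim_eq_of_etale_mvPolynomial`: a nonzero algebra étale over `k[x_1..x_d]` has
  Krull dimension `d`.
-/

set_option linter.style.haveILetI false

namespace Groth.Agent.Lib.Helper22.SmoothDim

universe u

open Ideal

/-- For a flat quasi-finite map `A → T` of Noetherian rings and a prime `q` of `T`,
`ht q = ht (q ∩ A)`. -/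
theorem height_eq_height_under {A T : Type*} [CommRing A] [CommRing T] [Algebra A T]
    [IsNoetherianRing A] [IsNoetherianRing T] [Module.Flat A T] [Algebra.QuasiFinite A T]
    (q : Ideal T) [q.IsPrime] : q.height = (q.under A).height := by
  have hlo : q.LiesOver (q.under A) := ⟨rfl⟩
  have hgd : Algebra.HasGoingDown A T := Algebra.HasGoingDown.of_flat
  rw [Ideal.height_eq_height_add_of_liesOver_of_hasGoingDown (q.under A) q]
  set I : Ideal T := Ideal.map (algebraMap A T) (q.under A) with hI
  have hIq : I ≤ q := Ideal.map_le_iff_le_comap.mpr le_rfl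
  have hker : RingHom.ker (Ideal.Quotient.mk I) ≤ q := by rw [Ideal.mk_ker]; exact hIq
  have hprime : (Ideal.map (Ideal.Quotient.mk I) q).IsPrime :=
    Ideal.map_isPrime_of_surjective Ideal.Quotient.mk_surjective hker
  have hcomap : Ideal.comap (Ideal.Quotient.mk I) (Ideal.map (Ideal.Quotient.mk I) q) = q := by
    rw [Ideal.comap_map_of_surjective _ Ideal.Quotient.mk_surjective]
    rw [← RingHom.ker_eq_comap_bot, Ideal.mk_ker]
    exact sup_eq_left.mpr hIq
  have hmin : Ideal.map (Ideal.Quotient.mk I) q ∈ minimalPrimes (T ⧸ I) := by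
    refine ⟨⟨hprime, bot_le⟩, ?_⟩
    rintro Q' ⟨hQ'prime, -⟩ hQ'le
    haveI := hQ'prime
    have hQprime : (Ideal.comap (Ideal.Quotient.mk I) Q').IsPrime := inferInstance
    have hQle : Ideal.comap (Ideal.Quotient.mk I) Q' ≤ q := by
      rw [← hcomap]; exact Ideal.comap_mono hQ'le
    have hIQ : I ≤ Ideal.comap (Ideal.Quotient.mk I) Q' := by
      intro x hx
      rw [Ideal.mem_comap, Ideal.Quotient.eq_zero_iff_mem.mpr hx]
      exact Q'.zero_mem
    have hunder : (Ideal.comap (Ideal.Quotient.mk I) Q').under A = q.under A := by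
      apply le_antisymm
      · exact Ideal.comap_mono hQle
      · intro a ha
        exact hIQ (Ideal.mem_map_of_mem _ ha)
    have heq := Algebra.QuasiFinite.eq_of_le_of_under_eq (R := A)
      (Ideal.comap (Ideal.Quotient.mk I) Q') q hQle hunder
    rw [← heq, Ideal.map_comap_of_surjective _ Ideal.Quotient.mk_surjective]
  have h0 : (Ideal.map (Ideal.Quotient.mk I) q).height = 0 := by
    rw [Ideal.height_eq_zero_iff]
    exact hmin
  rw [h0, add_zero]


theorem ringKrullDim_mvPolynomial_field (k : Type u) [Field k] (d : ℕ) :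
    ringKrullDim (MvPolynomial (Fin d) k) = d := by
  rw [MvPolynomial.ringKrullDim_of_isNoetherianRing, ringKrullDim_eq_zero_of_field, zero_add,
    Nat.card_fin]

/-- The contraction of a maximal ideal along a map of finite type algebras over a field
is maximal. -/
theorem isMaximal_under (k : Type u) [Field k] (A T : Type u) [CommRing A] [CommRing T]
    [Algebra k A] [Algebra k T] [Algebra A T] [IsScalarTower k A T] [Algebra.FiniteType k T]
    (q : Ideal T) [hq : q.IsMaximal] : (q.under A).IsMaximal := by
  letI : Field (T ⧸ q) := Ideal.Quotient.field q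
  haveI : Algebra.FiniteType k (T ⧸ q) :=
    Algebra.FiniteType.of_surjective (Ideal.Quotient.mkₐ k q) (Ideal.Quotient.mkₐ_surjective k q)
  haveI hfin : Module.Finite k (T ⧸ q) := finite_of_finite_type_of_isJacobsonRing k (T ⧸ q)
  haveI : Algebra.IsIntegral k (T ⧸ q) := inferInstance
  have hlo : q.LiesOver (q.under A) := ⟨rfl⟩
  -- `A ⧸ q.under A` embeds into `T ⧸ q`
  have hinj : Function.Injective (algebraMap (A ⧸ q.under A) (T ⧸ q)) :=
    FaithfulSMul.algebraMap_injective (A ⧸ q.under A) (T ⧸ q)
  haveI : Algebra.IsIntegral k (A ⧸ q.under A) := by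
    refine ⟨fun x => ?_⟩
    have hx : IsIntegral k (algebraMap (A ⧸ q.under A) (T ⧸ q) x) := Algebra.IsIntegral.isIntegral _
    exact (isIntegral_algebraMap_iff hinj).mp hx
  have hfield : IsField (A ⧸ q.under A) :=
    isField_of_isIntegral_of_isField' (R := k) (Field.toIsField k)
  exact Ideal.Quotient.maximal_of_isField _ hfield


/-- A nonzero algebra étale over `k[x_1, …, x_d]` (`k` a field) has Krull dimension `d`. -/
theorem ringKrullDim_eq_of_etale (k : Type u) [Field k] (d : ℕ) (T : Type u) [CommRing T]
    [Algebra k T] [Nontrivial T] [Algebra (MvPolynomial (Fin d) k) T]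
    [IsScalarTower k (MvPolynomial (Fin d) k) T] [Algebra.Etale (MvPolynomial (Fin d) k) T] :
    ringKrullDim T = d := by
  haveI : Algebra.FiniteType (MvPolynomial (Fin d) k) T := inferInstance
  haveI : IsNoetherianRing T := Algebra.FiniteType.isNoetherianRing (MvPolynomial (Fin d) k) T
  haveI : Algebra.FiniteType k T := Algebra.FiniteType.trans (R := k)
    (S := MvPolynomial (Fin d) k) (A := T) inferInstance inferInstance
  haveI : Module.Flat (MvPolynomial (Fin d) k) T := inferInstance
  haveI : Algebra.QuasiFinite (MvPolynomial (Fin d) k) T := inferInstance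
  have hA := ringKrullDim_mvPolynomial_field k d
  apply le_antisymm
  · rw [ringKrullDim_le_iff_height_le]
    intro q hq
    haveI := hq
    rw [height_eq_height_under (A := MvPolynomial (Fin d) k) q, ← hA]
    exact Ideal.height_le_ringKrullDim_of_isPrime
  · obtain ⟨q, hq⟩ := Ideal.exists_maximal T
    haveI := hq
    haveI := isMaximal_under k (MvPolynomial (Fin d) k) T q
    have h1 : (q.under (MvPolynomial (Fin d) k)).height = d :=
      Groth.Agent.Lib.Helper12.DimFT.height_eq_of_isMaximal k (MvPolynomial (Fin d) k) d hA _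
    have h2 : q.height = d := by
      rw [height_eq_height_under (A := MvPolynomial (Fin d) k) q, h1]
    calc ((d : ℕ) : WithBot ℕ∞) = ((q.height : ℕ∞) : WithBot ℕ∞) := by rw [h2]; rfl
      _ ≤ ringKrullDim T := Ideal.height_le_ringKrullDim_of_isPrime

end Groth.Agent.Lib.Helper22.SmoothDim
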