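import Mathlib
import Groth.Agent.Lib.Helper4.FlatRing
import Groth.Agent.Lib.Helper9.RegLocal
import Groth.Agent.Lib.Helper22.SmoothDim

/-!
# Étale algebras over polynomial rings: local rings are domains, height + coheight ≤ n
-/

set_option linter.style.haveILetI false

namespace Groth.Agent.Lib.Helper22.EtaleDim

universe u

open IsLocalRing

section QF

variable {R E : Type*} [CommRing R] [CommRing E] [Algebra R E] [Algebra.QuasiFinite R E]

theorem strictMono_comap : StrictMono (PrimeSpectrum.comap (algebraMap R E)) := by
  intro x y hxy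
  refine lt_of_le_of_ne (Ideal.comap_mono (f := algebraMap R E) hxy.le) ?_
  intro h
  have h1 : x.asIdeal.under R = y.asIdeal.under R := congrArg PrimeSpectrum.asIdeal h
  have := Algebra.QuasiFinite.eq_of_le_of_under_eq (R := R) x.asIdeal y.asIdeal hxy.le h1
  exact hxy.ne (PrimeSpectrum.ext this)

/-- for a quasi-finite algebra, `ht q + coht q ≤ dim R`. -/
theorem height_add_coheight_le (n : ℕ) (hR : ringKrullDim R ≤ n) (q : PrimeSpectrum E) :
    Order.height q + Order.coheight q ≤ (n : ℕ∞) := by
  have h1 := Order.height_le_height_apply_of_strictMono _ (strictMono_comap (R := R) (E := E)) q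
  have h2 := Order.coheight_le_coheight_apply_of_strictMono _
    (strictMono_comap (R := R) (E := E)) q
  haveI : Nonempty (PrimeSpectrum R) := ⟨PrimeSpectrum.comap (algebraMap R E) q⟩
  have h3 : ((Order.height (PrimeSpectrum.comap (algebraMap R E) q) +
      Order.coheight (PrimeSpectrum.comap (algebraMap R E) q) : ℕ∞) : WithBot ℕ∞) ≤ n := by
    refine le_trans ?_ hR
    rw [ringKrullDim, Order.krullDim_eq_iSup_height_add_coheight_of_nonempty]
    exact_mod_cast le_iSup (fun a : PrimeSpectrum R => Order.height a + Order.coheight a) _
  have h4 : Order.height (PrimeSpectrum.comap (algebraMap R E) q) +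
      Order.coheight (PrimeSpectrum.comap (algebraMap R E) q) ≤ (n : ℕ∞) := by exact_mod_cast h3
  exact (add_le_add h1 h2).trans h4

end QF

section Domain


/-- the local rings of an algebra étale over `k[x_1..x_n]` are regular. -/
theorem isRegularLocalRing_localization (k : Type u) [Field k] (n : ℕ) (E : Type u) [CommRing E]
    [Algebra (MvPolynomial (Fin n) k) E] [Algebra.Etale (MvPolynomial (Fin n) k) E]
    (q : Ideal E) [q.IsPrime] :
    IsRegularLocalRing (Localization.AtPrime q) := by
  haveI : Algebra.FiniteType (MvPolynomial (Fin n) k) E := inferInstance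
  haveI : IsNoetherianRing E := Algebra.FiniteType.isNoetherianRing (MvPolynomial (Fin n) k) E
  haveI : Module.Flat (MvPolynomial (Fin n) k) E := inferInstance
  obtain ⟨-, -, h⟩ := Groth.Agent.Lib.Helper4.FlatRing.exists_local_data
    (MvPolynomial (Fin n) k) E q
  apply h
  · infer_instance
  · -- the fibre local ring is a field
    letI := Localization.AtPrime.algebraOfLiesOver (q.comap (algebraMap (MvPolynomial (Fin n) k) E)) q
    haveI : Algebra.IsUnramifiedAt (MvPolynomial (Fin n) k) q := inferInstance
    have hmap := ((Algebra.isUnramifiedAt_iff_map_eq (MvPolynomial (Fin n) k)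
      (q.comap (algebraMap (MvPolynomial (Fin n) k) E)) q).mp inferInstance).2
    have e : EGA4.FibLocRing (MvPolynomial (Fin n) k) E q ≃+*
        (Localization.AtPrime q ⧸ maximalIdeal (Localization.AtPrime q)) :=
      Ideal.quotEquivOfEq hmap
    letI : Field (Localization.AtPrime q ⧸ maximalIdeal (Localization.AtPrime q)) :=
      Ideal.Quotient.field _
    haveI : IsRegularLocalRing (Localization.AtPrime q ⧸ maximalIdeal (Localization.AtPrime q)) :=
      inferInstance
    exact IsRegularLocalRing.of_ringEquiv e.symm

theorem isDomain_localization (k : Type u) [Field k] (n : ℕ) (E : Type u) [CommRing E]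
    [Algebra (MvPolynomial (Fin n) k) E] [Algebra.Etale (MvPolynomial (Fin n) k) E]
    (q : Ideal E) [q.IsPrime] :
    IsDomain (Localization.AtPrime q) := by
  haveI := isRegularLocalRing_localization k n E q
  exact Groth.Agent.Lib.Helper9.RegLocal.isDomain_of_isRegularLocalRing _

end Domain

end Groth.Agent.Lib.Helper22.EtaleDim
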