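import Mathlib
import Groth.Agent.Lib.Helper22.EtaleDim1
import Groth.Agent.Lib.Helper22.SmoothDim
import Groth.Agent.Lib.Helper12.DimFT2
import Groth.Agent.Lib.Helper12.SchemeDimFT

/-!
# Fibre dimension of morphisms smooth of relative dimension `n` (helper22)
-/

set_option autoImplicit false
set_option linter.style.haveILetI false
set_option linter.unusedSectionVars false
universe u
open IsLocalRing TensorProduct

namespace Groth.Agent.Lib.Helper22.SmoothRelDim

open Groth.Agent.Lib.Helper12

/-- For an algebra étale over `k[x_1..x_n]`, `ht q + coht q = n` at every prime. -/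
theorem height_add_coheight_of_etale (k : Type u) [Field k] (n : ℕ) (B : Type u) [CommRing B]
    [Algebra k B] [Algebra (MvPolynomial (Fin n) k) B] [IsScalarTower k (MvPolynomial (Fin n) k) B]
    [Algebra.Etale (MvPolynomial (Fin n) k) B] (q : PrimeSpectrum B) :
    Order.height q + Order.coheight q = (n : ℕ∞) := by
  haveI : Algebra.FiniteType (MvPolynomial (Fin n) k) B := inferInstance
  haveI : IsNoetherianRing B := Algebra.FiniteType.isNoetherianRing (MvPolynomial (Fin n) k) B
  haveI : Algebra.FiniteType k B := Algebra.FiniteType.trans (R := k)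
    (S := MvPolynomial (Fin n) k) (A := B) inferInstance inferInstance
  haveI : Algebra.QuasiFinite (MvPolynomial (Fin n) k) B := inferInstance
  haveI : Module.Flat (MvPolynomial (Fin n) k) B := inferInstance
  have hdimP : ringKrullDim (MvPolynomial (Fin n) k) = n :=
    Groth.Agent.Lib.Helper22.SmoothDim.ringKrullDim_mvPolynomial_field k n
  apply le_antisymm
  · exact Groth.Agent.Lib.Helper22.EtaleDim.height_add_coheight_le n hdimP.le q
  · -- lower bound
    set p : Ideal (MvPolynomial (Fin n) k) := q.asIdeal.under (MvPolynomial (Fin n) k) with hp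
    haveI : p.IsPrime := Ideal.IsPrime.under _ _
    haveI : q.asIdeal.LiesOver p := ⟨rfl⟩
    have hht : q.asIdeal.height = p.height :=
      Groth.Agent.Lib.Helper22.SmoothDim.height_eq_height_under q.asIdeal
    obtain ⟨a, ha1, -, ha3⟩ := DimFT2.exists_trdeg_residueField k B q.asIdeal
    obtain ⟨b, hb1, -, hb3⟩ := DimFT2.exists_trdeg_residueField k (MvPolynomial (Fin n) k) p
    -- residue field extension is algebraic
    letI := Localization.AtPrime.algebraOfLiesOver p q.asIdeal
    haveI : Localization.AtPrime.IsLiesOverAlgebra p q.asIdeal := inferInstance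
    haveI : Module.Finite p.ResidueField q.asIdeal.ResidueField := inferInstance
    haveI : IsScalarTower k p.ResidueField q.asIdeal.ResidueField := inferInstance
    haveI : Algebra.IsAlgebraic p.ResidueField q.asIdeal.ResidueField :=
      Algebra.IsAlgebraic.of_finite _ _
    have h1 := trdeg_add_eq k p.ResidueField (A := q.asIdeal.ResidueField)
    rw [trdeg_eq_zero (R := p.ResidueField) (A := q.asIdeal.ResidueField), add_zero,
      ha1, hb1] at h1
    have hab : a = b := by exact_mod_cast h1.symm
    have h2 := DimFT2.height_add_coheight' k (MvPolynomial (Fin n) k) n hdimP ⟨p, inferInstance⟩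
    have h3 : Order.height q = q.asIdeal.height := (PrimeSpectrum.height_eq_orderHeight q).symm
    have h4 : Order.height (⟨p, inferInstance⟩ : PrimeSpectrum (MvPolynomial (Fin n) k)) =
        p.height := (PrimeSpectrum.height_eq_orderHeight ⟨p, inferInstance⟩).symm
    rw [h3, hht, ← h4, ha3, hab, ← hb3, h2]

/-- For a standard smooth algebra of relative dimension `n` over a field, `ht q + coht q = n`. -/
theorem height_add_coheight_of_isStandardSmooth (k : Type u) [Field k] (n : ℕ) (B : Type u)
    [CommRing B] [Algebra k B] [Algebra.IsStandardSmoothOfRelativeDimension n k B]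
    (q : PrimeSpectrum B) : Order.height q + Order.coheight q = (n : ℕ∞) := by
  obtain ⟨g, hg⟩ := Algebra.IsStandardSmoothOfRelativeDimension.exists_etale_mvPolynomial n k B
  letI := g.toRingHom.toAlgebra
  haveI : IsScalarTower k (MvPolynomial (Fin n) k) B :=
    IsScalarTower.of_algebraMap_eq (fun x => (g.commutes x).symm)
  haveI : Algebra.Etale (MvPolynomial (Fin n) k) B := hg
  exact height_add_coheight_of_etale k n B q

section sch

open AlgebraicGeometry CategoryTheory CategoryTheory.Limits

/-- The local dimension of the fibres of a morphism smooth of relative dimension `n` is `n`. -/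
theorem fibreDimAt_eq (n : ℕ) {X Y : Scheme.{u}} (f : X ⟶ Y) [SmoothOfRelativeDimension n f]
    (x : X) : FlatMor.fibreDimAt f x = (n : WithBot ℕ∞) := by
  set y := f.base x with hy
  haveI := smoothOfRelativeDimension_isStableUnderBaseChange n
  haveI : SmoothOfRelativeDimension n (f.fiberToSpecResidueField y) :=
    MorphismProperty.pullback_snd (P := @SmoothOfRelativeDimension n) f
      (Y.fromSpecResidueField y) inferInstance
  obtain ⟨U, hU, V, hV, hxV, e, hss⟩ :=
    SmoothOfRelativeDimension.exists_isStandardSmoothOfRelativeDimension (n := n)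
      (f := f.fiberToSpecResidueField y) (f.asFiber x)
  have hUtop : U = ⊤ := by
    ext z
    simp only [TopologicalSpace.Opens.coe_top, Set.mem_univ, iff_true]
    have : z = (f.fiberToSpecResidueField y).base (f.asFiber x) := Subsingleton.elim _ _
    rw [this]; exact e hxV
  subst hUtop
  have hfield : IsField Γ(Spec (Y.residueField y), ⊤) :=
    MulEquiv.isField (Field.toIsField (Y.residueField y))
      (Scheme.ΓSpecIso (Y.residueField y)).commRingCatIsoToRingEquiv.toMulEquiv
  letI : Field Γ(Spec (Y.residueField y), ⊤) := hfield.toField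
  letI : Algebra Γ(Spec (Y.residueField y), ⊤) Γ(f.fiber y, V) :=
    ((f.fiberToSpecResidueField y).appLE ⊤ V e).hom.toAlgebra
  haveI hsm : Algebra.IsStandardSmoothOfRelativeDimension n Γ(Spec (Y.residueField y), ⊤)
      Γ(f.fiber y, V) := hss
  haveI : Algebra.FiniteType Γ(Spec (Y.residueField y), ⊤) Γ(f.fiber y, V) := by
    haveI : Algebra.IsStandardSmooth Γ(Spec (Y.residueField y), ⊤) Γ(f.fiber y, V) :=
      Algebra.IsStandardSmoothOfRelativeDimension.isStandardSmooth n
    haveI : Algebra.FinitePresentation Γ(Spec (Y.residueField y), ⊤) Γ(f.fiber y, V) :=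
      inferInstance
    infer_instance
  unfold FlatMor.fibreDimAt
  rw [SchemeDimFT.localDim_eq_primeSpectrum hV ⟨f.asFiber x, hxV⟩,
    DimFT2.localDim_primeSpectrum Γ(Spec (Y.residueField y), ⊤) Γ(f.fiber y, V),
    height_add_coheight_of_isStandardSmooth Γ(Spec (Y.residueField y), ⊤) n Γ(f.fiber y, V)]
  rfl

end sch

end Groth.Agent.Lib.Helper22.SmoothRelDim
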