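import Mathlib
import Groth.Agent.Lib.Helper22.CMReg

/-!
# General lemmas for the determinantal varieties: homogeneous scaling, retracts of normal
domains, transport of Cohen–Macaulayness, hypersurface sections.
-/

set_option autoImplicit false

universe u

open Groth.Agent.Lib.Helper4

namespace Groth.Agent.Lib.Helper22.CMG

section Scaling

open MvPolynomial

/-- evaluating a homogeneous polynomial at a rescaled point. -/
lemma aeval_mul_of_isHomogeneous {σ : Type*} {K A' : Type*} [CommSemiring K] [CommSemiring A']
    [Algebra K A'] (g : σ → A') (u : A') {f : MvPolynomial σ K} {k : ℕ} (hf : f.IsHomogeneous k) :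
    MvPolynomial.aeval (fun i => g i * u) f = MvPolynomial.aeval g f * u ^ k := by
  classical
  rw [f.as_sum, map_sum, map_sum, Finset.sum_mul]
  refine Finset.sum_congr rfl (fun s hs => ?_)
  have hdeg : s.degree = k := by
    by_contra hne
    exact (MvPolynomial.mem_support_iff.1 hs) (hf.coeff_eq_zero hne)
  rw [MvPolynomial.aeval_monomial, MvPolynomial.aeval_monomial, mul_assoc]
  congr 1
  simp only [Finsupp.prod, mul_pow]
  rw [Finset.prod_mul_distrib, Finset.prod_pow_eq_pow_sum]
  congr 2

end Scaling

section Retract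

/-- a subring of a normal domain that is a direct summand as a module is normal. -/
theorem isIntegrallyClosed_of_retract {B A' : Type*} [CommRing B] [IsDomain B] [CommRing A']
    [IsDomain A'] [IsIntegrallyClosed A'] (f : B →+* A') (hf : Function.Injective f)
    (ρ : A' →+ B) (hρ : ∀ b a, ρ (f b * a) = b * ρ a) (hρ1 : ρ 1 = 1) :
    IsIntegrallyClosed B := by
  rw [isIntegrallyClosed_iff (FractionRing B)]
  intro x hx
  have hinj : Function.Injective ((algebraMap A' (FractionRing A')).comp f) :=
    (IsFractionRing.injective A' (FractionRing A')).comp hf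
  set F : FractionRing B →+* FractionRing A' := IsFractionRing.lift hinj with hF
  have hFalg : ∀ b : B, F (algebraMap B (FractionRing B) b) =
      algebraMap A' (FractionRing A') (f b) := fun b => IsFractionRing.lift_algebraMap hinj b
  obtain ⟨P, hmonic, heval⟩ := hx
  have hcomp : F.comp (algebraMap B (FractionRing B)) =
      (algebraMap A' (FractionRing A')).comp f := RingHom.ext hFalg
  have hint : IsIntegral A' (F x) := by
    refine ⟨P.map f, hmonic.map f, ?_⟩
    rw [Polynomial.eval₂_map, ← hcomp, ← Polynomial.hom_eval₂, heval, map_zero]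
  obtain ⟨a, ha⟩ := IsIntegrallyClosed.algebraMap_eq_of_integral hint
  obtain ⟨p, q, hq, hpq⟩ := IsFractionRing.div_surjective (A := B) x
  have hq0 : (q : B) ≠ 0 := nonZeroDivisors.ne_zero hq
  have hqF : algebraMap B (FractionRing B) q ≠ 0 := by
    intro h
    exact hq0 ((IsFractionRing.injective B (FractionRing B)) (by rw [h, map_zero]))
  have hx1 : x * algebraMap B (FractionRing B) q = algebraMap B (FractionRing B) p := by
    rw [← hpq, div_mul_cancel₀ _ hqF]
  have h1 := congrArg F hx1
  rw [map_mul, hFalg, hFalg, ← ha, ← map_mul] at h1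
  have h2 : a * f q = f p := IsFractionRing.injective A' (FractionRing A') h1
  have h3 : q * ρ a = p := by
    rw [← hρ, mul_comm, h2]
    have := hρ p 1
    rw [mul_one, hρ1, mul_one] at this
    exact this
  refine ⟨ρ a, ?_⟩
  rw [← hpq, eq_div_iff hqF, ← map_mul, mul_comm, h3]

end Retract

section Transport

/-- Cohen–Macaulayness of rings is invariant under isomorphisms. -/
theorem isCMRing_of_ringEquiv {R R' : Type u} [CommRing R] [CommRing R']
    [LocCoh.IsCohenMacaulayRing R] (e : R ≃+* R') : LocCoh.IsCohenMacaulayRing R' := by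
  haveI : IsNoetherianRing R' := isNoetherianRing_of_ringEquiv R e
  refine { isCohenMacaulayLocalRing_localization := ?_ }
  intro q' hq'
  set q := q'.comap (e : R →+* R') with hq
  haveI : q.IsPrime := Ideal.IsPrime.comap _
  haveI : LocCoh.IsCohenMacaulayLocalRing (Localization.AtPrime q) :=
    LocCoh.IsCohenMacaulayRing.isCohenMacaulayLocalRing_localization q
  have H : Submonoid.map (e : R →* R') q.primeCompl = q'.primeCompl := by
    ext y
    constructor
    · rintro ⟨z, hz, rfl⟩
      exact hz
    · intro hy
      refine ⟨e.symm y, ?_, by simp⟩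
      show e.symm y ∉ q
      rw [hq, Ideal.mem_comap]
      simpa using hy
  exact isCMLocalRing_of_ringEquiv
    (IsLocalization.ringEquivOfRingEquiv (Localization.AtPrime q) (Localization.AtPrime q') e H)

end Transport

section Hypersurface

variable {S : Type u} [CommRing S] [IsNoetherianRing S]

/-- a hypersurface section of a Cohen–Macaulay quotient along a non-zero-divisor is
Cohen–Macaulay. -/
theorem CMat_sup_span {𝔞 : Ideal S} {y : S} (hreg : ∀ a, y * a ∈ 𝔞 → a ∈ 𝔞)
    (P : Ideal S) [P.IsPrime] (hy : y ∈ P) (h : CMat 𝔞 P) :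
    CMat (𝔞 ⊔ Ideal.span {y}) P := by
  unfold CMat at *
  rw [Ideal.map_sup, Ideal.map_span, Set.image_singleton]
  have hym : algebraMap S (Localization.AtPrime P) y ∈
      IsLocalRing.maximalIdeal (Localization.AtPrime P) := by
    rw [IsLocalization.AtPrime.to_map_mem_maximal_iff (Localization.AtPrime P) P]
    exact hy
  exact (cm_congr (quotSMulTopQuotEquiv _ _)).1
    (cm_quotSMulTop h hym (isSMulRegular_map 𝔞 y hreg P))

theorem isCMRing_quotient_sup_span {𝔞 : Ideal S} {y : S} (hreg : ∀ a, y * a ∈ 𝔞 → a ∈ 𝔞)
    (h : ∀ (P : Ideal S) [P.IsPrime], 𝔞 ≤ P → CMat 𝔞 P) :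
    LocCoh.IsCohenMacaulayRing (S ⧸ (𝔞 ⊔ Ideal.span {y})) := by
  refine isCMRing_quotient_of_forall _ (fun P _ hle => ?_)
  have hy : y ∈ P := hle (Ideal.mem_sup_right (Ideal.subset_span rfl))
  exact CMat_sup_span hreg P hy (h P (le_sup_left.trans hle))

end Hypersurface

end Groth.Agent.Lib.Helper22.CMG
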