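import Mathlib
import Groth.Agent.Lib.Helper1.RegComp

/-!
# Composition of immersions cut out by (weakly) regular sequences (helper22)
The regular-sequence analogue of Helper1.RegComp (which treats Koszul-regular sequences).
-/

set_option autoImplicit false
set_option linter.style.haveILetI false
set_option linter.unusedSectionVars false
universe u
open CategoryTheory CategoryTheory.Limits AlgebraicGeometry TopologicalSpace Opposite
open RingTheory.Sequence

namespace Groth.Agent.Lib.Helper22.RegCompR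

open Groth.Agent.Lib.Helper1

section Ring

variable {A B : Type u} [CommRing A] [CommRing B]

/-- weakly regular sequences along a surjection with weakly regular kernel -/
theorem isWeaklyRegular_append_of_surjective (π : A →+* B) (hπ : Function.Surjective π)
    (l : List A) (hl : IsWeaklyRegular A l) (hker : RingHom.ker π = Ideal.ofList l)
    (s : List A) (hs : IsWeaklyRegular B (s.map π)) : IsWeaklyRegular A (l ++ s) := by
  rw [isWeaklyRegular_append_iff]
  refine ⟨hl, ?_⟩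
  have h1 : (Ideal.ofList l • ⊤ : Submodule A A) = RingHom.ker π := by
    rw [hker, smul_eq_mul, Ideal.mul_top]
  let e₁ : (A ⧸ (Ideal.ofList l • ⊤ : Submodule A A)) ≃ₗ[A] (A ⧸ RingHom.ker π) :=
    Submodule.quotEquivOfEq _ _ h1
  let e₂ : (A ⧸ RingHom.ker π) ≃+* B := RingHom.quotientKerEquivOfSurjective hπ
  let e : (A ⧸ (Ideal.ofList l • ⊤ : Submodule A A)) ≃+ B :=
    e₁.toAddEquiv.trans e₂.toAddEquiv
  refine (AddEquiv.isWeaklyRegular_congr (e := e) (as := s) (bs := s.map π) ?_).mpr hs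
  rw [List.forall₂_map_right_iff, List.forall₂_same]
  intro r _ x
  obtain ⟨a, rfl⟩ := Submodule.Quotient.mk_surjective _ x
  show e₂ (e₁ (r • Submodule.Quotient.mk a)) = π r • e₂ (e₁ (Submodule.Quotient.mk a))
  rw [← Submodule.Quotient.mk_smul]
  have h2 : ∀ b : A, e₂ (e₁ (Submodule.Quotient.mk b)) = π b := fun b => rfl
  rw [h2, h2, smul_eq_mul, map_mul, smul_eq_mul]

/-- the kernel of a composite of surjections -/
theorem ker_comp_eq_ofList_append {C : Type u} [CommRing C] (π : A →+* B)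
    (ρ : B →+* C) (l : List A) (hker : RingHom.ker π = Ideal.ofList l)
    (s : List A) (hs : RingHom.ker ρ = Ideal.ofList (s.map π)) (hπ : Function.Surjective π) :
    RingHom.ker (ρ.comp π) = Ideal.ofList (l ++ s) := by
  rw [Ideal.ofList_append, ← RingHom.comap_ker, hs, RegComp.ofList_map, ← hker,
    Ideal.comap_map_of_surjective π hπ, ← RingHom.ker_eq_comap_bot, sup_comm]

end Ring


section Chart

variable {X Y Z : Scheme.{u}} (i : Y ⟶ X) (j : Z ⟶ Y)

/-- data of a weakly regular chart restricted to a basic open -/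
theorem regular_basicOpen [IsImmersion i] {U₁ : X.Opens} (hU₁ : IsAffineOpen U₁)
    [IsClosedImmersion (i ∣_ U₁)]
    (rs₁ : List Γ(X, U₁)) (hrs₁ : IsWeaklyRegular Γ(X, U₁) rs₁)
    (hker₁ : RingHom.ker (i.app U₁).hom = Ideal.ofList rs₁) (h : Γ(X, U₁)) :
    IsAffineOpen (i ⁻¹ᵁ (X.basicOpen h)) ∧ Function.Surjective (i.app (X.basicOpen h)) ∧
      ∃ l : List Γ(X, X.basicOpen h), l.length = rs₁.length ∧
        IsWeaklyRegular Γ(X, X.basicOpen h) l ∧
        RingHom.ker (i.app (X.basicOpen h)).hom = Ideal.ofList l := by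
  obtain ⟨hiU₁, hsU₁⟩ := ConormMap.good_of_le_coborderRange i hU₁
    (UTKoszul.le_coborderRange_of_isClosedImmersion_restrict i U₁)
  obtain ⟨h1, h2, h3⟩ := UTKoszul.good_basicOpen i hU₁ hiU₁ hsU₁ h
  refine ⟨h1, h2, ?_⟩
  letI alg : Algebra Γ(X, U₁) Γ(X, X.basicOpen h) :=
    (X.presheaf.map (homOfLE (X.basicOpen_le h)).op).hom.toAlgebra
  haveI : IsLocalization.Away h Γ(X, X.basicOpen h) := hU₁.isLocalization_basicOpen h
  haveI : Module.Flat Γ(X, U₁) Γ(X, X.basicOpen h) :=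
    IsLocalization.flat _ (Submonoid.powers h)
  refine ⟨rs₁.map (algebraMap Γ(X, U₁) Γ(X, X.basicOpen h)), List.length_map _, ?_, ?_⟩
  · exact hrs₁.of_flat
  · rw [h3, hker₁, RegComp.ofList_map]
    rfl

/-- the composite on a common chart -/
theorem comp_core {U : X.Opens}
    (hsU : Function.Surjective (i.app U)) (l : List Γ(X, U))
    (hl : IsWeaklyRegular Γ(X, U) l) (hkerU : RingHom.ker (i.app U).hom = Ideal.ofList l)
    (t : List Γ(Y, i ⁻¹ᵁ U)) (ht : IsWeaklyRegular Γ(Y, i ⁻¹ᵁ U) t)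
    (hkerW : RingHom.ker (j.app (i ⁻¹ᵁ U)).hom = Ideal.ofList t) :
    ∃ rs : List Γ(X, U), rs.length = t.length + l.length ∧
      IsWeaklyRegular Γ(X, U) rs ∧
      RingHom.ker ((j ≫ i).app U).hom = Ideal.ofList rs := by
  have hπ : Function.Surjective (i.app U).hom := hsU
  let s : List Γ(X, U) := t.map (Function.surjInv hπ)
  have hs : s.map (i.app U).hom = t := by
    rw [List.map_map]
    conv_rhs => rw [← List.map_id t]
    apply List.map_congr_left
    intro a _
    exact Function.surjInv_eq hπ a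
  refine ⟨l ++ s, ?_, ?_, ?_⟩
  · rw [List.length_append, List.length_map, add_comm]
  · exact isWeaklyRegular_append_of_surjective (i.app U).hom hπ l hl hkerU s (hs ▸ ht)
  · have h1 : ((j ≫ i).app U).hom = (j.app (i ⁻¹ᵁ U)).hom.comp (i.app U).hom := rfl
    rw [h1]
    exact ker_comp_eq_ofList_append (i.app U).hom (j.app (i ⁻¹ᵁ U)).hom l hkerU s
      (hs.symm ▸ hkerW) hπ

set_option maxHeartbeats 800000 in
theorem comp_chart [IsImmersion i] [IsImmersion j] (z : Z)
    {U₁ : X.Opens} (hU₁ : IsAffineOpen U₁) (hzU₁ : i (j z) ∈ U₁) [IsClosedImmersion (i ∣_ U₁)]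
    (rs₁ : List Γ(X, U₁)) (hrs₁ : IsWeaklyRegular Γ(X, U₁) rs₁)
    (hker₁ : RingHom.ker (i.app U₁).hom = Ideal.ofList rs₁)
    {V₁ : Y.Opens} (hV₁ : IsAffineOpen V₁) (hzV₁ : j z ∈ V₁) [IsClosedImmersion (j ∣_ V₁)]
    (ss : List Γ(Y, V₁)) (hss : IsWeaklyRegular Γ(Y, V₁) ss)
    (hker₂ : RingHom.ker (j.app V₁).hom = Ideal.ofList ss) :
    ∃ U : X.Opens, IsAffineOpen U ∧ (j ≫ i) z ∈ U ∧ IsClosedImmersion ((j ≫ i) ∣_ U) ∧
      ∃ rs : List Γ(X, U), rs.length = ss.length + rs₁.length ∧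
        IsWeaklyRegular Γ(X, U) rs ∧
        RingHom.ker ((j ≫ i).app U).hom = Ideal.ofList rs := by
  obtain ⟨hiU₁, hsU₁⟩ := ConormMap.good_of_le_coborderRange i hU₁
    (UTKoszul.le_coborderRange_of_isClosedImmersion_restrict i U₁)
  obtain ⟨fb, g, hfg, hzf⟩ := exists_basicOpen_le_affine_inter hiU₁ hV₁ (j z) ⟨hzU₁, hzV₁⟩
  obtain ⟨h, hh⟩ := hsU₁ fb
  have hpre : i ⁻¹ᵁ (X.basicOpen h) = Y.basicOpen g := by
    rw [Scheme.preimage_basicOpen, ← hfg]
    congr 1
  obtain ⟨hiU, hsU, l, hll, hl, hkerU⟩ := regular_basicOpen i hU₁ rs₁ hrs₁ hker₁ h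
  obtain ⟨-, -, t₀, htl₀, ht₀, hkerW₀⟩ := regular_basicOpen j hV₁ ss hss hker₂ g
  have key : ∀ W : Y.Opens, W = Y.basicOpen g → ∃ t : List Γ(Y, W), t.length = ss.length ∧
      IsWeaklyRegular Γ(Y, W) t ∧ RingHom.ker (j.app W).hom = Ideal.ofList t := by
    rintro W rfl
    exact ⟨t₀, htl₀, ht₀, hkerW₀⟩
  obtain ⟨t, htl, ht, hkerW⟩ := key _ hpre
  have hzU : (j ≫ i) z ∈ X.basicOpen h := by
    change j z ∈ i ⁻¹ᵁ (X.basicOpen h)
    rw [hpre, ← hfg]; exact hzf
  refine ⟨X.basicOpen h, hU₁.basicOpen h, hzU, ?_, ?_⟩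
  · rw [morphismRestrict_comp]
    have c1 : IsClosedImmersion (i ∣_ X.basicOpen h) :=
      RegComp.isClosedImmersion_restrict_of_le i (U₁ := U₁) (X.basicOpen_le h)
    have c2 : IsClosedImmersion (j ∣_ i ⁻¹ᵁ (X.basicOpen h)) :=
      RegComp.isClosedImmersion_restrict_of_le j (U₁ := V₁)
        (by rw [hpre]; exact Y.basicOpen_le g)
    exact @IsClosedImmersion.comp _ _ _ _ _ c2 c1
  · obtain ⟨rs, hrl, hrs, hker⟩ := comp_core i j hsU l hl hkerU t ht hkerW
    exact ⟨rs, by rw [hrl, htl, hll], hrs, hker⟩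

end Chart

end Groth.Agent.Lib.Helper22.RegCompR
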