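import Mathlib
import Groth.Agent.Lib.Helper6.QRegBC
import Groth.Agent.Lib.Helper1.RegBC
import Groth.Prelude.Def_RegImm

/-!
# Flat base change of regular immersions of the four kinds (helper22)
-/

set_option autoImplicit false
set_option linter.style.haveILetI false
set_option linter.unusedSectionVars false
universe u
open CategoryTheory CategoryTheory.Limits AlgebraicGeometry TopologicalSpace Opposite
open RingTheory.Sequence TensorProduct

namespace Groth.Agent.Lib.Helper22.RegFlatBC

open Groth.Agent.Lib.Helper1 Groth.Agent.Lib.Helper6.QRegBC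

section H1

variable {A B : Type u} [CommRing A] [CommRing B] [Algebra A B]

/-- flat base change of `H_1`-regular sequences (equational criterion of flatness) -/
theorem isH1Regular_map_of_flat [Module.Flat A B] {c : ℕ} (f : Fin c → A)
    (hf : CAlgX.IsH1Regular f) : CAlgX.IsH1Regular (fun i => algebraMap A B (f i)) := by
  intro b hb
  have h0 : ∑ i, f i • b i = 0 := by
    rw [← hb]
    apply Finset.sum_congr rfl
    intro i _
    rw [Algebra.smul_def, mul_comm]
  obtain ⟨k, a, y, hxy, ha⟩ := Module.Flat.isTrivialRelation_of_sum_smul_eq_zero (R := A) (M := B)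
    (f := f) (x := b) h0
  have hb' : b = ∑ j, y j • (fun i => algebraMap A B (a i j)) := by
    ext i
    rw [hxy i, Finset.sum_apply]
    apply Finset.sum_congr rfl
    intro j _
    rw [Pi.smul_apply, smul_eq_mul, Algebra.smul_def, mul_comm]
  rw [hb']
  refine Submodule.sum_mem _ fun j _ => Submodule.smul_mem _ _ ?_
  have h1 := hf (fun i => a i j) (by
    rw [← ha j]
    apply Finset.sum_congr rfl
    intro i _
    rw [mul_comm])
  have key : ∀ v ∈ Submodule.span A {v : Fin c → A | ∃ i j : Fin c,
      v = Pi.single i (f j) - Pi.single j (f i)},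
      (fun i => algebraMap A B (v i)) ∈ Submodule.span B {v : Fin c → B | ∃ i j : Fin c,
        v = Pi.single i (algebraMap A B (f j)) - Pi.single j (algebraMap A B (f i))} := by
    intro v hv
    induction hv using Submodule.span_induction with
    | mem v hv =>
      obtain ⟨i, j', rfl⟩ := hv
      apply Submodule.subset_span
      refine ⟨i, j', ?_⟩
      ext l
      simp only [Pi.sub_apply, Pi.single_apply]
      split_ifs <;> simp
    | zero =>
      have : (fun i => algebraMap A B ((0 : Fin c → A) i)) = 0 := by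
        ext i; simp
      rw [this]; exact Submodule.zero_mem _
    | add v w _ _ hv hw =>
      have : (fun i => algebraMap A B ((v + w) i)) =
          (fun i => algebraMap A B (v i)) + (fun i => algebraMap A B (w i)) := by
        ext i; simp
      rw [this]; exact Submodule.add_mem _ hv hw
    | smul r v _ hv =>
      have : (fun i => algebraMap A B ((r • v) i)) =
          algebraMap A B r • (fun i => algebraMap A B (v i)) := by
        ext i; simp
      rw [this]; exact Submodule.smul_mem _ _ hv
  exact key _ h1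

end H1

section QR

/-- flat base change of quasi-regular sequences, tensor form (variant of `QRegBC.main272`) -/
theorem isQuasiRegular_tensor_of_flat (A B A' : Type u) [CommRing A] [CommRing B]
    [CommRing A'] [Algebra A B] [Algebra A A'] [Module.Flat A A'] (r : ℕ) (f : Fin r → B)
    (hq : CAlgX.IsQuasiRegular f) :
    CAlgX.IsQuasiRegular (fun i => ((1 : A') ⊗ₜ[A] f i : TensorProduct A A' B)) := by
  intro n P hP hev e
  classical
  have hJ' : Ideal.span (Set.range (fun i => ((1 : A') ⊗ₜ[A] f i : TensorProduct A A' B))) =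
      Ideal.map (Algebra.TensorProduct.includeRight : B →ₐ[A] A' ⊗[A] B)
        (Ideal.span (Set.range f)) := by
    rw [Ideal.map_span, ← Set.range_comp]
    rfl
  rw [hJ'] at hev ⊢
  rw [← Ideal.map_pow, ← lTensor_mkQ_eq_zero_iff] at hev
  rw [← lTensor_mkQ_eq_zero_iff]
  have hdeg : ∀ d ∈ P.support, Finsupp.degree d = n := by
    intro d hd
    rw [Finsupp.degree_eq_weight_one]
    exact hP (MvPolynomial.mem_support_iff.1 hd)
  by_cases he : e ∈ P.support
  swap
  · rw [MvPolynomial.notMem_support_iff.1 he, map_zero]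
  obtain ⟨τ, hτ⟩ : ∃ τ : A' ⊗[A] (Idx r n →₀ (B ⧸ Ideal.span (Set.range f))),
      τ = ∑ d ∈ P.support, (LinearMap.lTensor A' (sigmaD A f n d)) (P.coeff d) := ⟨_, rfl⟩
  have hτ0 : (LinearMap.lTensor A' ((ThetaB f n).restrictScalars A)) τ = 0 := by
    rw [hτ, map_sum]
    refine Eq.trans ?_ hev
    rw [MvPolynomial.eval_eq, map_sum]
    apply Finset.sum_congr rfl
    intro d hd
    rw [← LinearMap.comp_apply, ← LinearMap.lTensor_comp, Theta_sigmaD A f n d (hdeg d hd),
      LinearMap.lTensor_comp, LinearMap.comp_apply, lTensor_mulRight, one_tmul_mon]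
  have hinj : Function.Injective (LinearMap.lTensor A' ((ThetaB f n).restrictScalars A)) :=
    Module.Flat.lTensor_preserves_injective_linearMap _ (ThetaB_injective f hq n)
  have hτz : τ = 0 := hinj (by rw [hτ0, map_zero])
  have key := congrArg (LinearMap.lTensor A'
    (Finsupp.lapply (⟨e, hdeg e he⟩ : Idx r n) :
      (Idx r n →₀ (B ⧸ Ideal.span (Set.range f))) →ₗ[A] (B ⧸ Ideal.span (Set.range f)))) hτz
  rw [map_zero, hτ, map_sum, Finset.sum_eq_single e] at key
  · rw [← LinearMap.comp_apply, ← LinearMap.lTensor_comp,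
      lapply_sigmaD A f n e (hdeg e he) e (hdeg e he), if_pos rfl] at key
    exact key
  · intro d hd hne
    rw [← LinearMap.comp_apply, ← LinearMap.lTensor_comp,
      lapply_sigmaD A f n d (hdeg d hd) e (hdeg e he), if_neg hne, LinearMap.lTensor_zero,
      LinearMap.zero_apply]
  · intro h
    exact absurd he h

/-- quasi-regularity transports along ring isomorphisms -/
theorem isQuasiRegular_of_ringEquiv {R S : Type u} [CommRing R] [CommRing S] (e : R ≃+* S)
    {c : ℕ} (f : Fin c → R) (hq : CAlgX.IsQuasiRegular f) :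
    CAlgX.IsQuasiRegular (fun i => e (f i)) := by
  intro n P hP hev d
  have hspan : Ideal.span (Set.range fun i => e (f i)) =
      (Ideal.span (Set.range f)).map (e : R →+* S) := by
    rw [Ideal.map_span, ← Set.range_comp]
    rfl
  rw [hspan] at hev ⊢
  set P₀ : MvPolynomial (Fin c) R := MvPolynomial.map (e.symm : S →+* R) P with hP₀
  have hP₀hom : P₀.IsHomogeneous n := hP.map _
  have hev₀ : MvPolynomial.eval f P₀ ∈ Ideal.span (Set.range f) ^ (n + 1) := by
    have h1 : MvPolynomial.eval f P₀ = e.symm (MvPolynomial.eval (fun i => e (f i)) P) := by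
      rw [hP₀, MvPolynomial.eval_map]
      show MvPolynomial.eval₂ (e.symm : S →+* R) f P =
        (e.symm : S →+* R) (MvPolynomial.eval₂ (RingHom.id S) (fun i => e (f i)) P)
      rw [MvPolynomial.eval₂_comp_left]
      congr 1
      ext i
      simp
    rw [h1]
    rw [← Ideal.map_pow] at hev
    obtain ⟨x, hx, hxe⟩ := (Ideal.mem_map_of_equiv e _).mp hev
    rw [← hxe, e.symm_apply_apply]
    exact hx
  have h2 := hq n P₀ hP₀hom hev₀ d
  rw [hP₀, MvPolynomial.coeff_map] at h2
  have h3 := Ideal.mem_map_of_mem (e : R →+* S) h2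
  simpa using h3

/-- flat base change of quasi-regular sequences -/
theorem isQuasiRegular_map_of_flat {A B : Type u} [CommRing A] [CommRing B] [Algebra A B]
    [Module.Flat A B] {c : ℕ} (f : Fin c → A) (hq : CAlgX.IsQuasiRegular f) :
    CAlgX.IsQuasiRegular (fun i => algebraMap A B (f i)) := by
  have h1 := isQuasiRegular_tensor_of_flat A A B c f hq
  have h2 := isQuasiRegular_of_ringEquiv
    (Algebra.TensorProduct.rid A A B).toRingEquiv _ h1
  have h3 : (fun i => (Algebra.TensorProduct.rid A A B).toRingEquiv ((1 : B) ⊗ₜ[A] f i)) =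
      fun i => algebraMap A B (f i) := by
    ext i
    show (Algebra.TensorProduct.rid A A B) ((1 : B) ⊗ₜ[A] f i) = _
    rw [Algebra.TensorProduct.rid_tmul, Algebra.smul_def, mul_one]
  rw [h3] at h2
  exact h2

end QR

section Get

theorem isH1Regular_cast {R : Type u} [CommRing R] {c c' : ℕ} (h : c' = c) (f : Fin c → R)
    (hf : CAlgX.IsH1Regular f) : CAlgX.IsH1Regular (fun i : Fin c' => f (Fin.cast h i)) := by
  subst h; exact hf

theorem isQuasiRegular_cast {R : Type u} [CommRing R] {c c' : ℕ} (h : c' = c) (f : Fin c → R)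
    (hf : CAlgX.IsQuasiRegular f) :
    CAlgX.IsQuasiRegular (fun i : Fin c' => f (Fin.cast h i)) := by
  subst h; exact hf

theorem get_map {A B : Type u} (φ : A → B) (rs : List A) :
    (rs.map φ).get = fun i => φ (rs.get (Fin.cast (List.length_map φ) i)) := by
  funext i
  simp

end Get

/-- flat base change of sequences of the four kinds -/
theorem seq_map_of_flat (k : RegImm.Kind) {A B : Type u} [CommRing A] [CommRing B] [Algebra A B]
    [Module.Flat A B] (rs : List A) (h : k.Seq A rs)
    (hne : Ideal.ofList (rs.map (algebraMap A B)) ≠ ⊤) :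
    k.Seq B (rs.map (algebraMap A B)) := by
  cases k with
  | regular =>
    have h' : IsRegular A rs := h
    refine (⟨h'.1.of_flat, ?_⟩ : IsRegular B (rs.map (algebraMap A B)))
    rw [smul_eq_mul, Ideal.mul_top]
    exact hne.symm
  | koszul =>
    have h' : LCI.IsKoszulRegularSeq A rs := h
    exact (KoszulConcat.isKoszulRegularSeq_map_of_flat rs h' :
      LCI.IsKoszulRegularSeq B (rs.map (algebraMap A B)))
  | h1 =>
    have h' : CAlgX.IsH1Regular rs.get := h
    show CAlgX.IsH1Regular (rs.map (algebraMap A B)).get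
    rw [get_map]
    exact isH1Regular_cast (List.length_map (algebraMap A B))
      (fun i => algebraMap A B (rs.get i)) (isH1Regular_map_of_flat rs.get h')
  | quasi =>
    have h' : CAlgX.IsQuasiRegular rs.get := h
    show CAlgX.IsQuasiRegular (rs.map (algebraMap A B)).get
    rw [get_map]
    exact isQuasiRegular_cast (List.length_map (algebraMap A B))
      (fun i => algebraMap A B (rs.get i)) (isQuasiRegular_map_of_flat rs.get h')

section Scheme

variable {X Y X' Y' : Scheme.{u}} {i : Y ⟶ X} {g : X' ⟶ X} {i' : Y' ⟶ X'} {g' : Y' ⟶ Y}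
  (hsq : IsPullback g' i' i g)

include hsq in
theorem baseChange_flat (k : RegImm.Kind) [Flat g] (hi : RegImm.IsRegularImmersion k i) :
    RegImm.IsRegularImmersion k i' := by
  haveI := hi.1
  haveI : IsImmersion i' := MorphismProperty.of_isPullback (P := @IsImmersion) hsq inferInstance
  refine ⟨inferInstance, fun y' => ?_⟩
  obtain ⟨⟨U₁, hU₁⟩, hzU₁, hcl₁, rs₁, hrs₁, hker₁⟩ := hi.2 (g' y')
  haveI := hcl₁
  have hmem : i' y' ∈ g ⁻¹ᵁ U₁ := by
    change g (i' y') ∈ U₁
    have h1 : i (g' y') = g (i' y') := by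
      have := congrArg (fun φ => φ.base y') hsq.w
      exact this
    rw [← h1]; exact hzU₁
  obtain ⟨_, ⟨U' : X'.Opens, hU'a, rfl⟩, hzU', hU'le⟩ :=
    X'.isBasis_affineOpens.exists_subset_of_mem_open hmem (g ⁻¹ᵁ U₁).2
  obtain ⟨hiU₁, hsU₁⟩ := ConormMap.good_of_le_coborderRange i hU₁
    (UTKoszul.le_coborderRange_of_isClosedImmersion_restrict i U₁)
  have hkerU' : RingHom.ker (i'.app U').hom =
      Ideal.ofList (rs₁.map (g.appLE U₁ U' hU'le).hom) := by
    rw [RegBC.ker_app_of_isPullback hsq hU₁ hiU₁ hsU₁ hU'a hU'le, hker₁, RegComp.ofList_map]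
  refine ⟨⟨U', hU'a⟩, hzU', RegBC.isClosedImmersion_restrict_of_isPullback hsq hU'le,
    rs₁.map (g.appLE U₁ U' hU'le).hom, ?_, hkerU'⟩
  letI := (g.appLE U₁ U' hU'le).hom.toAlgebra
  haveI : Module.Flat Γ(X, U₁) Γ(X', U') := g.flat_appLE hU₁ hU'a hU'le
  refine seq_map_of_flat k rs₁ hrs₁ ?_
  show Ideal.ofList (rs₁.map (g.appLE U₁ U' hU'le).hom) ≠ ⊤
  rw [← hkerU']
  haveI : Nonempty (i' ⁻¹ᵁ U') := ⟨⟨y', hzU'⟩⟩
  exact RingHom.ker_ne_top _

end Scheme


end Groth.Agent.Lib.Helper22.RegFlatBC
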