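import Mathlib
import Groth.Agent.Lib.Helper22.RegFlatBC
import Groth.Agent.Lib.Helper22.RegCompR
import Groth.Agent.Lib.Helper14.QuasiRegReg
import Groth.Agent.Lib.Helper14.H1Reg
import Groth.Agent.Lib.Helper5.RegSeqSpread
import Groth.Agent.Lib.Helper10.KoszulLow
import Groth.Agent.Lib.Helper1.SecReg
import Groth.Agent.Lib.Helper12.SchemeDimFT4

/-!
# Quasi-regular = regular on locally Noetherian schemes (helper22)
-/

set_option autoImplicit false
set_option linter.style.haveILetI false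
set_option linter.unusedSectionVars false
universe u
open CategoryTheory CategoryTheory.Limits AlgebraicGeometry TopologicalSpace Opposite
open RingTheory.Sequence

namespace Groth.Agent.Lib.Helper22.QRegNoeth

open Groth.Agent.Lib.Helper1

/-- regular ⇒ quasi-regular -/
theorem isQuasiRegular_of_isWeaklyRegular {A : Type u} [CommRing A] (rs : List A)
    (h : IsWeaklyRegular A rs) : CAlgX.IsQuasiRegular rs.get := by
  have h1 : LCI.IsKoszulRegularSeq A rs := SecReg.isKoszulRegularSeq_of_isWeaklyRegular rs h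
  have h2 : CAlgX.IsH1Regular rs.get := fun a ha =>
    H10KL.h1_of_isZero_homology A rs (h1 (-1) (by norm_num)) a ha
  exact Groth.Agent.Lib.Helper14.H1Reg.qr_of_h1 rs.get h2

/-- quasi-regular sequences in a Noetherian ring are regular near any prime containing them -/
theorem exists_away_of_qr {A : Type u} [CommRing A] [IsNoetherianRing A] (rs : List A)
    (hq : CAlgX.IsQuasiRegular rs.get) (p : Ideal A) [p.IsPrime] (hp : ∀ r ∈ rs, r ∈ p) :
    ∃ h : A, h ∉ p ∧ ∀ (B : Type u) [CommRing B] [Algebra A B] [IsLocalization.Away h B],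
      IsWeaklyRegular B (rs.map (algebraMap A B)) := by
  haveI : Module.Flat A (Localization.AtPrime p) := IsLocalization.flat _ p.primeCompl
  haveI : IsNoetherianRing (Localization.AtPrime p) :=
    IsLocalization.isNoetherianRing p.primeCompl _ inferInstance
  have hne : Ideal.ofList (rs.map (algebraMap A (Localization.AtPrime p))) ≠ ⊤ := by
    intro htop
    have h1 : Ideal.ofList (rs.map (algebraMap A (Localization.AtPrime p))) ≤
        IsLocalRing.maximalIdeal (Localization.AtPrime p) := by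
      rw [Ideal.ofList, Ideal.span_le]
      intro s hs
      obtain ⟨r, hr, rfl⟩ := List.mem_map.mp hs
      exact (IsLocalization.AtPrime.to_map_mem_maximal_iff (Localization.AtPrime p) p r).mpr
        (hp r hr)
    rw [htop] at h1
    exact (IsLocalRing.maximalIdeal.isMaximal _).ne_top (top_le_iff.mp h1)
  have hqS : CAlgX.IsQuasiRegular (rs.map (algebraMap A (Localization.AtPrime p))).get :=
    RegFlatBC.seq_map_of_flat RegImm.Kind.quasi rs hq hne
  have hjac : ∀ i, (rs.map (algebraMap A (Localization.AtPrime p))).get i ∈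
      Ring.jacobson (Localization.AtPrime p) := by
    intro i
    rw [IsLocalRing.ringJacobson_eq_maximalIdeal]
    have hmem := List.get_mem (rs.map (algebraMap A (Localization.AtPrime p))) i
    obtain ⟨r, hr, hre⟩ := List.mem_map.mp hmem
    rw [← hre]
    exact (IsLocalization.AtPrime.to_map_mem_maximal_iff (Localization.AtPrime p) p r).mpr
      (hp r hr)
  have hreg := Groth.Agent.Lib.Helper14.QuasiRegReg.isWeaklyRegular_of_qr _ hjac hqS
  rw [List.ofFn_get] at hreg
  obtain ⟨h, hhp, hcol⟩ := Groth.Agent.Lib.Helper5.RegSeq.exists_notMem_forall_colon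
    (S := Localization.AtPrime p) p rs hreg
  refine ⟨h, hhp, fun B _ _ _ => ?_⟩
  exact Groth.Agent.Lib.Helper5.RegSeq.isWeaklyRegular_map_of_away h rs hcol


open Groth.Agent.Lib.Helper12.SchemeDimFT in
/-- S5003 -/
theorem regular_iff_quasi {X Y : Scheme.{u}} [IsLocallyNoetherian X] (j : Y ⟶ X) :
    RegImm.IsRegularImmersion RegImm.Kind.regular j ↔
      RegImm.IsRegularImmersion RegImm.Kind.quasi j := by
  constructor
  · rintro ⟨himm, h⟩
    refine ⟨himm, fun z => ?_⟩
    obtain ⟨U, hz, hcl, rs, hrs, hker⟩ := h z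
    have hrs' : IsRegular Γ(X, U.1) rs := hrs
    exact ⟨U, hz, hcl, rs, isQuasiRegular_of_isWeaklyRegular rs hrs'.1, hker⟩
  · rintro ⟨himm, h⟩
    haveI := himm
    refine ⟨himm, fun z => ?_⟩
    obtain ⟨⟨U, hU⟩, hzU, hcl, rs, hrs, hker⟩ := h z
    haveI := hcl
    have hrs' : CAlgX.IsQuasiRegular rs.get := hrs
    haveI : IsNoetherianRing Γ(X, U) := IsLocallyNoetherian.component_noetherian ⟨U, hU⟩
    have hp : ∀ r ∈ rs, r ∈ (hU.primeIdealOf ⟨j z, hzU⟩).asIdeal := by
      intro r hr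
      by_contra hnot
      have h1 : j z ∈ X.basicOpen r :=
        (mem_basicOpen_iff_notMem_primeIdealOf hU ⟨j z, hzU⟩ r).mpr hnot
      have h2 : z ∈ j ⁻¹ᵁ X.basicOpen r := h1
      rw [Scheme.preimage_basicOpen] at h2
      have h3 : (j.app U).hom r = 0 := by
        rw [← RingHom.mem_ker, hker]; exact Ideal.subset_span hr
      rw [h3, Scheme.basicOpen_zero] at h2
      exact h2
    obtain ⟨h, hhp, hreg⟩ := exists_away_of_qr rs hrs' _ hp
    have hzD : j z ∈ X.basicOpen h :=
      (mem_basicOpen_iff_notMem_primeIdealOf hU ⟨j z, hzU⟩ h).mpr hhp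
    obtain ⟨hjU, hsU⟩ := ConormMap.good_of_le_coborderRange j hU
      (UTKoszul.le_coborderRange_of_isClosedImmersion_restrict j U)
    obtain ⟨-, -, h3⟩ := UTKoszul.good_basicOpen j hU hjU hsU h
    letI alg : Algebra Γ(X, U) Γ(X, X.basicOpen h) :=
      (X.presheaf.map (homOfLE (X.basicOpen_le h)).op).hom.toAlgebra
    haveI : IsLocalization.Away h Γ(X, X.basicOpen h) := hU.isLocalization_basicOpen h
    have hkerD : RingHom.ker (j.app (X.basicOpen h)).hom =
        Ideal.ofList (rs.map (algebraMap Γ(X, U) Γ(X, X.basicOpen h))) := by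
      rw [h3, hker, RegComp.ofList_map]
      rfl
    refine ⟨⟨X.basicOpen h, hU.basicOpen h⟩, hzD,
      RegComp.isClosedImmersion_restrict_of_le j (U₁ := U) (X.basicOpen_le h),
      rs.map (algebraMap Γ(X, U) Γ(X, X.basicOpen h)), ?_, hkerD⟩
    refine (⟨hreg Γ(X, X.basicOpen h), ?_⟩ : IsRegular Γ(X, X.basicOpen h) _)
    rw [smul_eq_mul, Ideal.mul_top, ← hkerD]
    haveI : Nonempty (j ⁻¹ᵁ X.basicOpen h) := ⟨⟨z, hzD⟩⟩
    exact (RingHom.ker_ne_top _).symm

open Groth.Agent.Lib.Helper12.SchemeDimFT in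
/-- S5004 -/
theorem regularIdeal_of_quasi {X : Scheme.{u}} [IsLocallyNoetherian X] (I : X.IdealSheafData)
    (h : RegImm.IsRegularIdeal RegImm.Kind.quasi I) :
    RegImm.IsRegularIdeal RegImm.Kind.regular I := by
  intro x hx
  obtain ⟨⟨U, hU⟩, hxU, rs, hrs, hI⟩ := h x hx
  have hrs' : CAlgX.IsQuasiRegular rs.get := hrs
  haveI : IsNoetherianRing Γ(X, U) := IsLocallyNoetherian.component_noetherian ⟨U, hU⟩
  have hxz := (Scheme.IdealSheafData.mem_support_iff_of_mem (I := I) (U := ⟨U, hU⟩) hxU).mp hx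
  rw [Scheme.mem_zeroLocus_iff] at hxz
  have hp : ∀ r ∈ rs, r ∈ (hU.primeIdealOf ⟨x, hxU⟩).asIdeal := by
    intro r hr
    by_contra hnot
    have h1 : x ∈ X.basicOpen r :=
      (mem_basicOpen_iff_notMem_primeIdealOf hU ⟨x, hxU⟩ r).mpr hnot
    refine hxz r ?_ h1
    rw [SetLike.mem_coe, hI]
    exact Ideal.subset_span hr
  obtain ⟨g, hgp, hreg⟩ := exists_away_of_qr rs hrs' _ hp
  have hxD : x ∈ X.basicOpen g :=
    (mem_basicOpen_iff_notMem_primeIdealOf hU ⟨x, hxU⟩ g).mpr hgp
  letI alg : Algebra Γ(X, U) Γ(X, X.basicOpen g) :=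
    (X.presheaf.map (homOfLE (X.basicOpen_le g)).op).hom.toAlgebra
  haveI : IsLocalization.Away g Γ(X, X.basicOpen g) := hU.isLocalization_basicOpen g
  have hID : I.ideal (X.affineBasicOpen g) =
      Ideal.ofList (rs.map (algebraMap Γ(X, U) Γ(X, X.basicOpen g))) := by
    rw [← I.map_ideal_basicOpen ⟨U, hU⟩ g, hI, RegComp.ofList_map]
    rfl
  refine ⟨X.affineBasicOpen g, hxD, rs.map (algebraMap Γ(X, U) Γ(X, X.basicOpen g)), ?_, hID⟩
  refine (⟨hreg Γ(X, X.basicOpen g), ?_⟩ : IsRegular Γ(X, X.basicOpen g) _)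
  rw [smul_eq_mul, Ideal.mul_top]
  intro htop
  have hxz' := (Scheme.IdealSheafData.mem_support_iff_of_mem (I := I)
    (U := X.affineBasicOpen g) hxD).mp hx
  rw [Scheme.mem_zeroLocus_iff] at hxz'
  refine hxz' 1 ?_ ?_
  · rw [SetLike.mem_coe, hID, ← htop]; trivial
  · rw [Scheme.basicOpen_one]; exact hxD

end Groth.Agent.Lib.Helper22.QRegNoeth
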