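import Mathlib
import Groth.Prelude.Def_RegImm

/-!
# Regular immersions: the kernel of the stalk map is generated by a regular sequence
(no Noetherian hypothesis) (helper22; the kernel computation is adapted from Helper5.StalkKer)
-/

set_option autoImplicit false
set_option linter.style.haveILetI false
set_option linter.unusedSectionVars false
universe u
open CategoryTheory AlgebraicGeometry TopologicalSpace RingTheory.Sequence

namespace Groth.Agent.Lib.Helper22.RegStalk

variable {X Y : Scheme.{u}}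

/-- The kernel of the stalk map is generated by the germs of the kernel ideal on an affine chart
with affine preimage and surjective map on sections. -/
theorem ker_stalkMap_eq_map_ker' (i : Y ⟶ X) {U : X.Opens}
    (hU : IsAffineOpen U) (hV : IsAffineOpen (i ⁻¹ᵁ U)) (hsurj : Function.Surjective (i.app U))
    (y : Y) (hy : i y ∈ U) :
    RingHom.ker (i.stalkMap y).hom =
      (RingHom.ker (i.app U).hom).map (X.presheaf.germ U (i y) hy).hom := by
  have hyV : y ∈ i ⁻¹ᵁ U := hy
  letI algX := X.presheaf.algebra_section_stalk ⟨i y, hy⟩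
  letI algY := Y.presheaf.algebra_section_stalk ⟨y, hyV⟩
  have locX := hU.isLocalization_stalk ⟨i y, hy⟩
  have locY := hV.isLocalization_stalk ⟨y, hyV⟩
  have hsq : ∀ s : Γ(X, U), (i.stalkMap y).hom (X.presheaf.germ U (i y) hy s) =
      Y.presheaf.germ (i ⁻¹ᵁ U) y hyV ((i.app U).hom s) := by
    intro s
    have := Scheme.Hom.germ_stalkMap i U y hy
    exact congr($this s)
  apply le_antisymm
  · intro a ha
    rw [RingHom.mem_ker] at ha
    obtain ⟨⟨s, u⟩, rfl⟩ := IsLocalization.mk'_surjective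
      (hU.primeIdealOf ⟨i y, hy⟩).asIdeal.primeCompl a
    dsimp only at ha ⊢
    have h1 : (i.stalkMap y).hom (algebraMap Γ(X, U) (X.presheaf.stalk (i y)) s) = 0 := by
      rw [← IsLocalization.mk'_spec (M := (hU.primeIdealOf ⟨i y, hy⟩).asIdeal.primeCompl)
        (X.presheaf.stalk (i y)) s u, map_mul, ha, zero_mul]
    change (i.stalkMap y).hom (X.presheaf.germ U (i y) hy s) = 0 at h1
    rw [hsq] at h1
    obtain ⟨v', hv'⟩ := (IsLocalization.map_eq_zero_iff
      (hV.primeIdealOf ⟨y, hyV⟩).asIdeal.primeCompl (Y.presheaf.stalk y) ((i.app U).hom s)).mp h1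
    obtain ⟨v, hv⟩ := hsurj (v' : Γ(Y, i ⁻¹ᵁ U))
    have hcomap := IsAffineOpen.comap_primeIdealOf_appLE (f := i) U hU (i ⁻¹ᵁ U) hV le_rfl hyV
    rw [← Scheme.Hom.app_eq_appLE] at hcomap
    have hvP : v ∈ (hU.primeIdealOf ⟨i y, hy⟩).asIdeal.primeCompl := by
      intro hmem
      apply v'.2
      rw [← hcomap] at hmem
      have hmem' : (i.app U).hom v ∈ (hV.primeIdealOf ⟨y, hyV⟩).asIdeal := hmem
      have hv2 : (i.app U).hom v = (v' : Γ(Y, i ⁻¹ᵁ U)) := hv
      rwa [hv2] at hmem'
    change IsLocalization.mk' _ s u ∈ Ideal.map (algebraMap Γ(X, U) (X.presheaf.stalk (i y))) _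
    rw [IsLocalization.mk'_mem_map_algebraMap_iff
      (hU.primeIdealOf ⟨i y, hy⟩).asIdeal.primeCompl]
    refine ⟨v, hvP, ?_⟩
    rw [RingHom.mem_ker, map_mul]
    have hv2 : (i.app U).hom v = (v' : Γ(Y, i ⁻¹ᵁ U)) := hv
    rw [hv2, hv']
  · rw [Ideal.map_le_iff_le_comap]
    intro s hs
    rw [RingHom.mem_ker] at hs
    rw [Ideal.mem_comap, RingHom.mem_ker, hsq, hs, map_zero]

theorem isAffineOpen_preimage_of_isClosedImmersion_restrict (i : Y ⟶ X) {U : X.Opens}
    (hU : IsAffineOpen U) [IsClosedImmersion (i ∣_ U)] : IsAffineOpen (i ⁻¹ᵁ U) := by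
  haveI : IsAffine (U : Scheme.{u}) := hU
  exact isAffine_of_isAffineHom (i ∣_ U)

theorem app_surjective_of_isClosedImmersion_restrict (i : Y ⟶ X) {U : X.Opens}
    (hU : IsAffineOpen U) [IsClosedImmersion (i ∣_ U)] : Function.Surjective (i.app U) := by
  haveI : IsAffine (U : Scheme.{u}) := hU
  have h1 : Function.Surjective ((i ∣_ U).app ⊤) :=
    (i ∣_ U).app_surjective ⊤ (isAffineOpen_top _)
  rw [morphismRestrict_app] at h1
  have h2 : Function.Surjective (i.app (U.ι ''ᵁ ⊤)) := by
    intro b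
    obtain ⟨a, ha⟩ := h1 (Y.presheaf.map
      (eqToHom (image_morphismRestrict_preimage i U ⊤)).op b)
    refine ⟨a, ?_⟩
    have hinj : Function.Injective (Y.presheaf.map
        (eqToHom (image_morphismRestrict_preimage i U ⊤)).op) :=
      (ConcreteCategory.bijective_of_isIso _).1
    exact hinj ha
  have key : ∀ V : X.Opens, V = U → Function.Surjective (i.app V) →
      Function.Surjective (i.app U) := by
    rintro V rfl h
    exact h
  exact key _ (Scheme.Opens.ι_image_top U) h2

/-- A regular immersion (successive non-zero-divisors): the kernel of each stalk map is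
generated by a regular sequence. -/
theorem exists_regular_ker_stalkMap {Z X : Scheme.{u}} (i : Z ⟶ X)
    (h : RegImm.IsRegularImmersion RegImm.Kind.regular i) (z : Z) :
    ∃ rs : List (X.presheaf.stalk (i z)),
      IsRegular (X.presheaf.stalk (i z)) rs ∧
        RingHom.ker (i.stalkMap z).hom = Ideal.ofList rs := by
  obtain ⟨U, hzU, hcl, rs, hrs, hker⟩ := h.2 z
  have hrs' : IsRegular Γ(X, U.1) rs := hrs
  haveI := hcl
  have hU : IsAffineOpen U.1 := U.2
  have hV := isAffineOpen_preimage_of_isClosedImmersion_restrict i hU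
  have hsurj := app_surjective_of_isClosedImmersion_restrict i hU
  letI alg := X.presheaf.algebra_section_stalk ⟨i z, hzU⟩
  have loc := hU.isLocalization_stalk ⟨i z, hzU⟩
  have hJ : RingHom.ker (i.stalkMap z).hom =
      (Ideal.ofList rs).map (algebraMap Γ(X, U.1) (X.presheaf.stalk (i z))) := by
    rw [← hker]
    exact ker_stalkMap_eq_map_ker' i hU hV hsurj z hzU
  have hJtop : RingHom.ker (i.stalkMap z).hom ≠ ⊤ := RingHom.ker_ne_top _
  have hmem : ∀ r ∈ rs, r ∈ (hU.primeIdealOf ⟨i z, hzU⟩).asIdeal := by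
    intro r hr
    rw [← IsLocalization.AtPrime.to_map_mem_maximal_iff (X.presheaf.stalk (i z))
      (hU.primeIdealOf ⟨i z, hzU⟩).asIdeal r]
    apply IsLocalRing.le_maximalIdeal hJtop
    rw [hJ]
    exact Ideal.mem_map_of_mem _ (Ideal.subset_span hr)
  have hreg : IsRegular (X.presheaf.stalk (i z))
      (rs.map (algebraMap Γ(X, U.1) (X.presheaf.stalk (i z)))) :=
    hrs'.toIsWeaklyRegular.isRegular_of_isLocalization_of_mem (X.presheaf.stalk (i z))
      (hU.primeIdealOf ⟨i z, hzU⟩).asIdeal hmem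
  rw [Ideal.map_ofList] at hJ
  exact ⟨_, hreg, hJ⟩

end Groth.Agent.Lib.Helper22.RegStalk
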