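import Mathlib
import Groth.Agent.Lib.Helper22.RegFlatBC
import Groth.Agent.S9273

/-!
# Base change of relative `H_1`-regular / quasi-regular immersions (helper22)
-/

set_option autoImplicit false
set_option linter.style.haveILetI false
set_option linter.unusedSectionVars false
universe u
open CategoryTheory CategoryTheory.Limits AlgebraicGeometry TopologicalSpace Opposite
open RingTheory.Sequence TensorProduct

namespace Groth.Agent.Lib.Helper22.RelRegBC

open Groth.Agent.Lib.Helper1 Groth.Agent.Lib.Helper22.RegFlatBC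

section Ring

/-- `H_1`-regularity transports along ring isomorphisms -/
theorem isH1Regular_of_ringEquiv {R S : Type u} [CommRing R] [CommRing S] (e : R ≃+* S)
    {c : ℕ} (f : Fin c → R) (hf : CAlgX.IsH1Regular f) :
    CAlgX.IsH1Regular (fun i => e (f i)) := by
  intro a ha
  have h0 : ∑ i, (fun i => e.symm (a i)) i * f i = 0 := by
    apply e.injective
    rw [map_sum, map_zero, ← ha]
    apply Finset.sum_congr rfl
    intro i _
    rw [map_mul, e.apply_symm_apply]
  have h1 := hf (fun i => e.symm (a i)) h0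
  have key : ∀ v ∈ Submodule.span R {v : Fin c → R | ∃ i j : Fin c,
      v = Pi.single i (f j) - Pi.single j (f i)},
      (fun i => e (v i)) ∈ Submodule.span S {v : Fin c → S | ∃ i j : Fin c,
        v = Pi.single i (e (f j)) - Pi.single j (e (f i))} := by
    intro v hv
    induction hv using Submodule.span_induction with
    | mem v hv =>
      obtain ⟨i, j', rfl⟩ := hv
      apply Submodule.subset_span
      refine ⟨i, j', ?_⟩
      ext l
      simp only [Pi.sub_apply, Pi.single_apply]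
      split_ifs <;> simp
    | zero =>
      have : (fun i => e ((0 : Fin c → R) i)) = 0 := by
        ext i; simp
      rw [this]; exact Submodule.zero_mem _
    | add v w _ _ hv hw =>
      have : (fun i => e ((v + w) i)) = (fun i => e (v i)) + (fun i => e (w i)) := by
        ext i; simp
      rw [this]; exact Submodule.add_mem _ hv hw
    | smul r v _ hv =>
      have : (fun i => e ((r • v) i)) = e r • (fun i => e (v i)) := by
        ext i; simp
      rw [this]; exact Submodule.smul_mem _ _ hv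
  have h2 := key _ h1
  have h3 : (fun i => e ((fun i => e.symm (a i)) i)) = a := by
    ext i; simp
  rw [h3] at h2
  exact h2

/-- if `A → B → C` is flat with `B → C` surjective then `B / ker` is `A`-flat -/
theorem flat_quot_ker {A B C : Type u} [CommRing A] [CommRing B] [CommRing C] [Algebra A B]
    (ψ : B →+* C) (hψ : Function.Surjective ψ) (hflat : (ψ.comp (algebraMap A B)).Flat) :
    Module.Flat A (B ⧸ RingHom.ker ψ) := by
  letI : Algebra A C := (ψ.comp (algebraMap A B)).toAlgebra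
  haveI : Module.Flat A C := hflat
  let e := RingHom.quotientKerEquivOfSurjective hψ
  let eL : (B ⧸ RingHom.ker ψ) ≃ₗ[A] C :=
    { e.toAddEquiv with
      map_smul' := by
        intro a x
        obtain ⟨b, rfl⟩ := Ideal.Quotient.mk_surjective x
        show e (a • Ideal.Quotient.mk _ b) = a • e (Ideal.Quotient.mk _ b)
        rw [Algebra.smul_def, Algebra.smul_def, map_mul]
        congr 1 }
  exact Module.Flat.of_linearEquiv eL

theorem span_range_get {R : Type u} [CommRing R] (rs : List R) :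
    Ideal.span (Set.range rs.get) = Ideal.ofList rs := by
  rw [Ideal.ofList]
  congr 1
  ext x
  simp [List.mem_iff_get]

/-- base change of `H_1`-regular / quasi-regular sequences with flat quotient, pushout form -/
theorem seq_of_isPushout (k : RegImm.Kind) (hk : k = RegImm.Kind.h1 ∨ k = RegImm.Kind.quasi)
    {A B A' B' : CommRingCat.{u}} (α : A ⟶ B) (β : A ⟶ A') (φ : B ⟶ B') (γ : A' ⟶ B')
    (h : IsPushout α β φ γ) (rs : List B) (hrs : k.Seq B rs)
    (hflat : letI := α.hom.toAlgebra; Module.Flat A (B ⧸ Ideal.ofList rs)) :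
    k.Seq B' (rs.map φ.hom) := by
  letI : Algebra A B := α.hom.toAlgebra
  letI : Algebra A A' := β.hom.toAlgebra
  have hT : IsPushout β α
      (CommRingCat.ofHom (S := A' ⊗[A] B) Algebra.TensorProduct.includeLeftRingHom)
      (CommRingCat.ofHom (S := A' ⊗[A] B) Algebra.TensorProduct.includeRight.toRingHom) :=
    CommRingCat.isPushout_tensorProduct A A' B
  let E := hT.isoIsPushout _ _ h.flip
  have hE : ∀ b : B, E.hom.hom ((1 : A') ⊗ₜ[A] b) = φ.hom b := fun b =>
    congr($(hT.inr_isoIsPushout_hom _ _ h.flip).hom b)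
  let e : A' ⊗[A] B ≃+* B' := E.commRingCatIsoToRingEquiv
  have he : ∀ b : B, e ((1 : A') ⊗ₜ[A] b) = φ.hom b := hE
  have hflat' : Module.Flat A (B ⧸ Ideal.span (Set.range rs.get)) := by
    rw [span_range_get]; exact hflat
  have hfun : (rs.map φ.hom).get =
      fun j => e ((1 : A') ⊗ₜ[A] rs.get (Fin.cast (List.length_map φ.hom) j)) := by
    rw [get_map]
    funext j
    rw [he]
  rcases hk with rfl | rfl
  · have h' : CAlgX.IsH1Regular rs.get := hrs
    show CAlgX.IsH1Regular (rs.map φ.hom).get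
    rw [hfun]
    exact isH1Regular_cast (List.length_map φ.hom) (fun j => e ((1 : A') ⊗ₜ[A] rs.get j))
      (isH1Regular_of_ringEquiv e _
        (Groth.Agent.S9273.result A B A' rs.length rs.get hflat' h'))
  · have h' : CAlgX.IsQuasiRegular rs.get := hrs
    show CAlgX.IsQuasiRegular (rs.map φ.hom).get
    rw [hfun]
    exact isQuasiRegular_cast (List.length_map φ.hom) (fun j => e ((1 : A') ⊗ₜ[A] rs.get j))
      (isQuasiRegular_of_ringEquiv e _
        (Groth.Agent.Lib.Helper6.QRegBC.main272 A B A' rs.length rs.get hflat' h'))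

end Ring

section Scheme

variable {Z X S S' X' Z' : Scheme.{u}} {f : X ⟶ S} {i : Z ⟶ X} {g : S' ⟶ S}
  {p₁ : X' ⟶ X} {p₂ : X' ⟶ S'} {q : Z' ⟶ Z} {i' : Z' ⟶ X'}

/-- restriction of a chart of kind `k` to a smaller affine open -/
theorem chart_restrict (k : RegImm.Kind) [IsImmersion i] {U₁ U : X.Opens} (hU₁ : IsAffineOpen U₁)
    (hU : IsAffineOpen U) (hle : U ≤ U₁) [IsClosedImmersion (i ∣_ U₁)] (rs₁ : List Γ(X, U₁))
    (hrs₁ : k.Seq Γ(X, U₁) rs₁) (hker₁ : RingHom.ker (i.app U₁).hom = Ideal.ofList rs₁)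
    (z : Z) (hz : i z ∈ U) :
    IsClosedImmersion (i ∣_ U) ∧ ∃ rs : List Γ(X, U), k.Seq Γ(X, U) rs ∧
      RingHom.ker (i.app U).hom = Ideal.ofList rs := by
  obtain ⟨hiU₁, hsU₁⟩ := ConormMap.good_of_le_coborderRange i hU₁
    (UTKoszul.le_coborderRange_of_isClosedImmersion_restrict i U₁)
  have hidsq : IsPullback (𝟙 Z) i i (𝟙 X) := IsPullback.id_horiz i
  have hle1 : U ≤ (𝟙 X) ⁻¹ᵁ U₁ := fun x hx => hle hx
  have hclU : IsClosedImmersion (i ∣_ U) :=
    RegBC.isClosedImmersion_restrict_of_isPullback hidsq hle1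
  have hkerU : RingHom.ker (i.app U).hom =
      Ideal.ofList (rs₁.map (Scheme.Hom.appLE (𝟙 X) U₁ U hle1).hom) := by
    rw [RegBC.ker_app_of_isPullback hidsq hU₁ hiU₁ hsU₁ hU hle1, hker₁, RegComp.ofList_map]
  refine ⟨hclU, rs₁.map (Scheme.Hom.appLE (𝟙 X) U₁ U hle1).hom, ?_, hkerU⟩
  letI := (Scheme.Hom.appLE (𝟙 X) U₁ U hle1).hom.toAlgebra
  haveI : Module.Flat Γ(X, U₁) Γ(X, U) := Scheme.Hom.flat_appLE (𝟙 X) hU₁ hU hle1
  refine seq_map_of_flat k rs₁ hrs₁ ?_
  show Ideal.ofList (rs₁.map (Scheme.Hom.appLE (𝟙 X) U₁ U hle1).hom) ≠ ⊤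
  rw [← hkerU]
  haveI : Nonempty (i ⁻¹ᵁ U) := ⟨⟨z, hz⟩⟩
  exact RingHom.ker_ne_top _

/-- base change of relative `H_1`-regular / quasi-regular immersions -/
theorem relRegular_baseChange (hX : IsPullback p₁ p₂ f g) (hZ : IsPullback q i' i p₁)
    (k : RegImm.Kind) (hk : k = RegImm.Kind.h1 ∨ k = RegImm.Kind.quasi)
    (hi : RegImm.IsRelRegularImmersion k f i) :
    RegImm.IsRelRegularImmersion k p₂ i' := by
  obtain ⟨hreg, hflat⟩ := hi
  haveI := hflat
  haveI := hreg.1
  haveI : IsImmersion i' := MorphismProperty.of_isPullback (P := @IsImmersion) hZ inferInstance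
  have hpaste : IsPullback q (i' ≫ p₂) (i ≫ f) g := hZ.paste_vert hX
  refine ⟨⟨inferInstance, fun z' => ?_⟩,
    MorphismProperty.of_isPullback (P := @Flat) hpaste inferInstance⟩
  obtain ⟨⟨U₁, hU₁⟩, hzU₁, hcl₁, rs₁, hrs₁, hker₁⟩ := hreg.2 (q z')
  haveI := hcl₁
  have hpt : p₁ (i' z') = i (q z') := (congrArg (fun φ => φ.base z') hZ.w).symm
  have hpt2 : g (p₂ (i' z')) = f (p₁ (i' z')) := (congrArg (fun φ => φ.base (i' z')) hX.w).symm
  obtain ⟨_, ⟨V, hV, rfl⟩, hsV, -⟩ := S.isBasis_affineOpens.exists_subset_of_mem_open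
    (Set.mem_univ (f (i (q z')))) isOpen_univ
  have hmemV' : p₂ (i' z') ∈ g ⁻¹ᵁ V := by
    show g (p₂ (i' z')) ∈ V
    rw [hpt2, hpt]; exact hsV
  obtain ⟨_, ⟨V', hV', rfl⟩, hsV', hV'le⟩ :=
    S'.isBasis_affineOpens.exists_subset_of_mem_open hmemV' (g ⁻¹ᵁ V).2
  have hmemU : i (q z') ∈ U₁ ⊓ f ⁻¹ᵁ V := ⟨hzU₁, hsV⟩
  obtain ⟨_, ⟨U, hU, rfl⟩, hxU, hUle⟩ :=
    X.isBasis_affineOpens.exists_subset_of_mem_open hmemU (U₁ ⊓ f ⁻¹ᵁ V).2
  have hUU₁ : U ≤ U₁ := fun x hx => (hUle hx).1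
  have hUV : U ≤ f ⁻¹ᵁ V := fun x hx => (hUle hx).2
  obtain ⟨hclU, rsU, hrsUk, hkerU⟩ := chart_restrict k hU₁ hU hUU₁ rs₁ hrs₁ hker₁ (q z') hxU
  haveI := hclU
  obtain ⟨hiU, hsU⟩ := ConormMap.good_of_le_coborderRange i hU
    (UTKoszul.le_coborderRange_of_isClosedImmersion_restrict i U)
  set UY : X'.Opens := p₁ ⁻¹ᵁ U ⊓ p₂ ⁻¹ᵁ V' with hUYdef
  have hUYU : UY ≤ p₁ ⁻¹ᵁ U := inf_le_left
  have hxUY : i' z' ∈ UY := ⟨by show p₁ (i' z') ∈ U; rw [hpt]; exact hxU, hsV'⟩
  have hiso := isIso_pushoutSection_of_isAffineOpen hX hV'le hUV hUYdef hV hV' hU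
  have hpo := (isIso_pushoutSection_iff hX hV'le hUV hUYdef).mp hiso
  have hUYa : IsAffineOpen UY := by
    haveI : IsAffine ↑V := hV
    haveI : IsAffine ↑V' := hV'
    haveI : IsAffine ↑U := hU
    show IsAffine ↑UY
    exact IsAffine.of_isIso (Scheme.Hom.isPullback_resLE hX hV'le hUV hUYdef).isoPullback.hom
  have hkerUY : RingHom.ker (i'.app UY).hom =
      Ideal.ofList (rsU.map (p₁.appLE U UY hUYU).hom) := by
    rw [RegBC.ker_app_of_isPullback hZ hU hiU hsU hUYa hUYU, hkerU, RegComp.ofList_map]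
  refine ⟨⟨UY, hUYa⟩, hxUY, RegBC.isClosedImmersion_restrict_of_isPullback hZ hUYU,
    rsU.map (p₁.appLE U UY hUYU).hom, ?_, hkerUY⟩
  refine seq_of_isPushout k hk (f.appLE V U hUV) (g.appLE V V' hV'le) _ _ hpo rsU hrsUk ?_
  letI := (f.appLE V U hUV).hom.toAlgebra
  rw [← hkerU]
  refine flat_quot_ker (i.app U).hom hsU ?_
  have hle' : i ⁻¹ᵁ U ≤ (i ≫ f) ⁻¹ᵁ V := fun x hx => hUV hx
  have h1 : (i.app U).hom.comp (algebraMap Γ(S, V) Γ(X, U)) =
      ((i ≫ f).appLE V (i ⁻¹ᵁ U) hle').hom := by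
    have h2 : (i ≫ f).appLE V (i ⁻¹ᵁ U) hle' = f.appLE V U hUV ≫ i.app U := by
      rw [← Conorm.appLE_refl i U, Scheme.Hom.appLE_comp_appLE]
    rw [h2]
    rfl
  rw [h1]
  exact (i ≫ f).flat_appLE hV hiU hle'

end Scheme

end Groth.Agent.Lib.Helper22.RelRegBC
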