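import Mathlib
import Groth.Agent.Lib.Helper22.RelRegBC
import Groth.Agent.Lib.Helper22.RegStalk

/-!
# Relative quasi-regular immersions: flatness at Noetherian points (helper22)
-/

set_option autoImplicit false
set_option linter.style.haveILetI false
set_option linter.unusedSectionVars false
universe u
open CategoryTheory CategoryTheory.Limits AlgebraicGeometry TopologicalSpace Opposite
open RingTheory.Sequence TensorProduct

namespace Groth.Agent.Lib.Helper22.RelRegFlat

open Groth.Agent.Lib.Helper1 Groth.Agent.Lib.Helper22.RegFlatBC Groth.Agent.Lib.Helper6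
open Groth.Agent.Lib.Helper22

section Ring

variable {A B : Type u} [CommRing A] [CommRing B] [Algebra A B]

/-- a quasi-regular sequence in the radical of a Noetherian ring `B` with `B/(r)` flat over `A`
forces `B` to be flat over `A` -/
theorem flat_of_qr [IsNoetherianRing B] {c : ℕ} (r : Fin c → B)
    (hJ : Ideal.span (Set.range r) ≤ Ideal.jacobson ⊥)
    (hq : CAlgX.IsQuasiRegular r) (hflat : Module.Flat A (B ⧸ Ideal.span (Set.range r))) :
    Module.Flat A B := by
  set J := Ideal.span (Set.range r) with hJdef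
  have hfl : ∀ n, Module.Flat A (B ⧸ J ^ n) := QRegBC.flat_quot_pow r A hflat hq
  rw [Module.Flat.iff_lTensor_injective]
  intro I hI
  haveI : Module.Finite A I := Module.Finite.iff_fg.2 hI
  rw [injective_iff_map_eq_zero]
  intro x hx
  have hmem : ∀ n : ℕ, x ∈ (J ^ n • ⊤ : Submodule B (B ⊗[A] I)) := by
    intro n
    haveI := hfl n
    set π : B →ₗ[A] (B ⧸ J ^ n) := (Submodule.mkQ (J ^ n)).restrictScalars A with hπ
    set ι : ↥(J ^ n) →ₗ[A] B := (J ^ n).subtype.restrictScalars A with hι
    have hex : Function.Exact ι π := by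
      intro b
      constructor
      · intro hb
        exact ⟨⟨b, (Submodule.Quotient.mk_eq_zero _).1 hb⟩, rfl⟩
      · rintro ⟨y, rfl⟩
        exact (Submodule.Quotient.mk_eq_zero _).2 y.2
    have hπs : Function.Surjective π := Submodule.mkQ_surjective _
    have key : ∀ y : ↥(J ^ n) ⊗[A] I,
        (ι.rTensor I) y ∈ (J ^ n • ⊤ : Submodule B (B ⊗[A] I)) := by
      intro y
      induction y using TensorProduct.induction_on with
      | zero => rw [map_zero]; exact Submodule.zero_mem _
      | tmul j t =>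
        rw [LinearMap.rTensor_tmul]
        have h3 : (ι j ⊗ₜ[A] t : B ⊗[A] I) = (j : B) • ((1 : B) ⊗ₜ[A] t) := by
          rw [TensorProduct.smul_tmul', smul_eq_mul, mul_one]
          rfl
        rw [h3]
        exact Submodule.smul_mem_smul j.2 Submodule.mem_top
      | add y z hy hz => rw [map_add]; exact Submodule.add_mem _ hy hz
    have h1 : (π.rTensor I) x = 0 := by
      apply Module.Flat.lTensor_preserves_injective_linearMap (M := B ⧸ J ^ n) I.subtype
        (Submodule.subtype_injective I)
      rw [map_zero, ← QRegBC.comm_sq, hx, map_zero]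
    obtain ⟨y, rfl⟩ := (rTensor_exact I hex hπs x).1 h1
    exact key y
  have hK : (⨅ n : ℕ, J ^ n • (⊤ : Submodule B (B ⊗[A] I))) = ⊥ :=
    Ideal.iInf_pow_smul_eq_bot_of_le_jacobson J hJ
  have h2 : x ∈ (⊥ : Submodule B (B ⊗[A] I)) := by
    rw [← hK]
    exact (Submodule.mem_iInf _).2 hmem
  exact (Submodule.mem_bot B).1 h2

end Ring

section Scheme

/-- stalk data of a chart of a quasi-regular immersion that is flat over the base -/
theorem stalk_data {Z X S : Scheme.{u}} (f : X ⟶ S) (i : Z ⟶ X)
    (hi : RegImm.IsRelRegularImmersion RegImm.Kind.quasi f i) (z : Z) :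
    letI := (f.stalkMap (i z)).hom.toAlgebra
    ∃ (c : ℕ) (r : Fin c → X.presheaf.stalk (i z)), CAlgX.IsQuasiRegular r ∧
      Ideal.span (Set.range r) = RingHom.ker (i.stalkMap z).hom ∧
      Module.Flat (S.presheaf.stalk (f (i z)))
        (X.presheaf.stalk (i z) ⧸ Ideal.span (Set.range r)) := by
  obtain ⟨hreg, hflat⟩ := hi
  haveI := hflat
  haveI := hreg.1
  obtain ⟨⟨U, hU⟩, hzU, hcl, rs, hrs, hker⟩ := hreg.2 z
  have hrs' : CAlgX.IsQuasiRegular rs.get := hrs
  haveI := hcl
  have hV := RegStalk.isAffineOpen_preimage_of_isClosedImmersion_restrict i hU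
  have hsurj := RegStalk.app_surjective_of_isClosedImmersion_restrict i hU
  letI alg := X.presheaf.algebra_section_stalk ⟨i z, hzU⟩
  have loc := hU.isLocalization_stalk ⟨i z, hzU⟩
  haveI : Module.Flat Γ(X, U) (X.presheaf.stalk (i z)) :=
    IsLocalization.flat (X.presheaf.stalk (i z)) (hU.primeIdealOf ⟨i z, hzU⟩).asIdeal.primeCompl
  have hJ : RingHom.ker (i.stalkMap z).hom =
      (Ideal.ofList rs).map (algebraMap Γ(X, U) (X.presheaf.stalk (i z))) := by
    rw [← hker]
    exact RegStalk.ker_stalkMap_eq_map_ker' i hU hV hsurj z hzU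
  letI algA : Algebra (S.presheaf.stalk (f (i z))) (X.presheaf.stalk (i z)) :=
    (f.stalkMap (i z)).hom.toAlgebra
  refine ⟨rs.length, fun j => algebraMap Γ(X, U) (X.presheaf.stalk (i z)) (rs.get j),
    isQuasiRegular_map_of_flat rs.get hrs', ?_, ?_⟩
  · rw [hJ, ← RelRegBC.span_range_get, Ideal.map_span, ← Set.range_comp]
    rfl
  · have hspan : Ideal.span (Set.range
        fun j => algebraMap Γ(X, U) (X.presheaf.stalk (i z)) (rs.get j)) =
        RingHom.ker (i.stalkMap z).hom := by
      rw [hJ, ← RelRegBC.span_range_get, Ideal.map_span, ← Set.range_comp]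
      rfl
    rw [hspan]
    refine RelRegBC.flat_quot_ker (i.stalkMap z).hom (i.stalkMap_surjective z) ?_
    have h1 : (i.stalkMap z).hom.comp
        (algebraMap (S.presheaf.stalk (f (i z))) (X.presheaf.stalk (i z))) =
        ((i ≫ f).stalkMap z).hom := by
      rw [Scheme.Hom.stalkMap_comp]
      rfl
    rw [h1]
    exact Flat.stalkMap (i ≫ f) z

/-- S8893 -/
theorem stalk_flat_of_relQuasi {Z X S : Scheme.{u}} (f : X ⟶ S) (i : Z ⟶ X)
    (hi : RegImm.IsRelRegularImmersion RegImm.Kind.quasi f i) (z : Z)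
    [IsNoetherianRing (X.presheaf.stalk (i z))] : (f.stalkMap (i z)).hom.Flat := by
  haveI := hi.1.1
  letI algA : Algebra (S.presheaf.stalk (f (i z))) (X.presheaf.stalk (i z)) :=
    (f.stalkMap (i z)).hom.toAlgebra
  obtain ⟨c, r, hqr, hspan, hfl⟩ := stalk_data f i hi z
  show Module.Flat (S.presheaf.stalk (f (i z))) (X.presheaf.stalk (i z))
  refine flat_of_qr r ?_ hqr hfl
  rw [hspan, IsLocalRing.jacobson_eq_maximalIdeal ⊥ bot_ne_top]
  exact IsLocalRing.le_maximalIdeal (RingHom.ker_ne_top _)

end Scheme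

end Groth.Agent.Lib.Helper22.RelRegFlat
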