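import Mathlib
import Groth.Agent.Lib.Helper22.RelRegFlat
import Groth.Agent.Lib.Helper14.QuasiRegReg
import Groth.Agent.Lib.Helper14.LCF.SliceSeqSch
import Groth.Agent.Lib.Helper6.FiberStalkIso

/-!
# Relative quasi-regular immersions into flat l.f.p. schemes are regular immersions (helper22)
-/

set_option autoImplicit false
set_option linter.style.haveILetI false
set_option linter.unusedSectionVars false
universe u
open CategoryTheory CategoryTheory.Limits AlgebraicGeometry TopologicalSpace Opposite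
open RingTheory.Sequence TensorProduct

namespace Groth.Agent.Lib.Helper22.RelRegReg

open Groth.Agent.Lib.Helper1 Groth.Agent.Lib.Helper22.RegFlatBC Groth.Agent.Lib.Helper6
open Groth.Agent.Lib.Helper22

section Ring

variable {A B : Type u} [CommRing A] [CommRing B] [Algebra A B] [IsLocalRing A] [IsLocalRing B]

/-- a quasi-regular sequence in `𝔪_B` with `B/(r)` flat over `A` is regular modulo `𝔪_A B`
when the fibre ring is Noetherian -/
theorem fibre_reg {c : ℕ} (r : Fin c → B)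
    [IsNoetherianRing (B ⧸ (IsLocalRing.maximalIdeal A).map (algebraMap A B))]
    (hm : ∀ j, r j ∈ IsLocalRing.maximalIdeal B)
    (hq : CAlgX.IsQuasiRegular r) (hflat : Module.Flat A (B ⧸ Ideal.span (Set.range r)))
    (k : Fin c) (w : B)
    (hw : r k * w ∈ (IsLocalRing.maximalIdeal A).map (algebraMap A B) ⊔
      Ideal.span (r '' {j : Fin c | j < k})) :
    w ∈ (IsLocalRing.maximalIdeal A).map (algebraMap A B) ⊔
      Ideal.span (r '' {j : Fin c | j < k}) := by
  set m := IsLocalRing.maximalIdeal A with hmdef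
  set 𝔣 := m.map (algebraMap A B) with h𝔣
  let e : (A ⧸ m) ⊗[A] B ≃+* B ⧸ 𝔣 :=
    (Algebra.TensorProduct.quotIdealMapEquivQuotTensor B m).symm.toRingEquiv
  have he : ∀ b : B, e ((1 : A ⧸ m) ⊗ₜ[A] b) = Ideal.Quotient.mk 𝔣 b := by
    intro b
    show (Algebra.TensorProduct.quotIdealMapEquivQuotTensor B m).symm _ = _
    rw [AlgEquiv.symm_apply_eq]
    rfl
  have hqb : CAlgX.IsQuasiRegular (fun j => Ideal.Quotient.mk 𝔣 (r j)) := by
    have h1 := isQuasiRegular_of_ringEquiv e _ (QRegBC.main272 A B (A ⧸ m) c r hflat hq)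
    have h2 : (fun j => e ((1 : A ⧸ m) ⊗ₜ[A] r j)) = fun j => Ideal.Quotient.mk 𝔣 (r j) := by
      funext j; exact he (r j)
    rw [h2] at h1
    exact h1
  have hjac : ∀ j, Ideal.Quotient.mk 𝔣 (r j) ∈ Ring.jacobson (B ⧸ 𝔣) := by
    intro j
    apply Ring.le_comap_jacobson (Ideal.Quotient.mk 𝔣)
    rw [IsLocalRing.ringJacobson_eq_maximalIdeal]
    exact hm j
  have hreg := Groth.Agent.Lib.Helper14.QuasiRegReg.reg_of_qr c
    (fun j => Ideal.Quotient.mk 𝔣 (r j)) hjac hqb
  have hI : Groth.Agent.Lib.Helper14.ReesKer.I (fun j => Ideal.Quotient.mk 𝔣 (r j)) k.val =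
      (Ideal.span (r '' {j : Fin c | j < k})).map (Ideal.Quotient.mk 𝔣) := by
    unfold Groth.Agent.Lib.Helper14.ReesKer.I
    rw [Ideal.map_span, Set.image_image]
    rfl
  have h3 := hreg k (Ideal.Quotient.mk 𝔣 w) (by
    show Ideal.Quotient.mk 𝔣 (r k) * Ideal.Quotient.mk 𝔣 w ∈ _
    rw [hI, ← map_mul, Ideal.mem_quotient_iff_mem_sup, sup_comm]
    exact hw)
  rw [hI, Ideal.mem_quotient_iff_mem_sup, sup_comm] at h3
  exact h3

end Ring

section Scheme

theorem isNoetherianRing_fibreQuot {X Y : Scheme.{u}} (f : X ⟶ Y) [LocallyOfFiniteType f]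
    (x : X) :
    IsNoetherianRing (X.presheaf.stalk x ⧸
      (IsLocalRing.maximalIdeal (Y.presheaf.stalk (f.base x))).map (f.stalkMap x).hom) := by
  haveI : LocallyOfFiniteType (f.fiberToSpecResidueField (f.base x)) := by
    unfold Scheme.Hom.fiberToSpecResidueField
    exact MorphismProperty.pullback_snd (P := @LocallyOfFiniteType) _ _ inferInstance
  haveI : IsLocallyNoetherian (f.fiber (f.base x)) :=
    LocallyOfFiniteType.isLocallyNoetherian (f.fiberToSpecResidueField (f.base x))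
  exact isNoetherianRing_of_ringEquiv _ (Groth.Agent.Lib.Helper6.fiberStalkEquiv f x)

theorem ker_restrict {Z X : Scheme.{u}} {i : Z ⟶ X} [IsImmersion i] {U₁ U : X.Opens}
    (hU₁ : IsAffineOpen U₁) (hU : IsAffineOpen U) (hle : U ≤ U₁)
    [IsClosedImmersion (i ∣_ U₁)] :
    IsClosedImmersion (i ∣_ U) ∧ RingHom.ker (i.app U).hom =
      (RingHom.ker (i.app U₁).hom).map (X.presheaf.map (homOfLE hle).op).hom := by
  obtain ⟨hiU₁, hsU₁⟩ := ConormMap.good_of_le_coborderRange i hU₁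
    (UTKoszul.le_coborderRange_of_isClosedImmersion_restrict i U₁)
  have hidsq : IsPullback (𝟙 Z) i i (𝟙 X) := IsPullback.id_horiz i
  have hle1 : U ≤ (𝟙 X) ⁻¹ᵁ U₁ := fun x hx => hle hx
  refine ⟨RegBC.isClosedImmersion_restrict_of_isPullback hidsq hle1, ?_⟩
  rw [RegBC.ker_app_of_isPullback hidsq hU₁ hiU₁ hsU₁ hU hle1]
  have h1 : Scheme.Hom.appLE (𝟙 X) U₁ U hle1 = X.presheaf.map (homOfLE hle).op := by
    simp only [Scheme.Hom.appLE, Scheme.Hom.id_app]
    rfl
  rw [h1]

theorem stalk_data_chart {Z X S : Scheme.{u}} (f : X ⟶ S) (i : Z ⟶ X) [IsImmersion i]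
    [Flat (i ≫ f)] {U : X.Opens} (hU : IsAffineOpen U) [IsClosedImmersion (i ∣_ U)]
    (rs : List Γ(X, U)) (hrs : CAlgX.IsQuasiRegular rs.get)
    (hker : RingHom.ker (i.app U).hom = Ideal.ofList rs) (z : Z) (hzU : i z ∈ U) :
    letI := (f.stalkMap (i z)).hom.toAlgebra
    CAlgX.IsQuasiRegular (fun j => (X.presheaf.germ U (i z) hzU).hom (rs.get j)) ∧
      Ideal.span (Set.range fun j => (X.presheaf.germ U (i z) hzU).hom (rs.get j)) =
        RingHom.ker (i.stalkMap z).hom ∧
      Module.Flat (S.presheaf.stalk (f (i z)))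
        (X.presheaf.stalk (i z) ⧸
          Ideal.span (Set.range fun j => (X.presheaf.germ U (i z) hzU).hom (rs.get j))) := by
  have hV := RegStalk.isAffineOpen_preimage_of_isClosedImmersion_restrict i hU
  have hsurj := RegStalk.app_surjective_of_isClosedImmersion_restrict i hU
  letI alg := X.presheaf.algebra_section_stalk ⟨i z, hzU⟩
  have loc := hU.isLocalization_stalk ⟨i z, hzU⟩
  haveI : Module.Flat Γ(X, U) (X.presheaf.stalk (i z)) :=
    IsLocalization.flat (X.presheaf.stalk (i z)) (hU.primeIdealOf ⟨i z, hzU⟩).asIdeal.primeCompl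
  have hJ : RingHom.ker (i.stalkMap z).hom =
      (Ideal.ofList rs).map (algebraMap Γ(X, U) (X.presheaf.stalk (i z))) := by
    rw [← hker]
    exact RegStalk.ker_stalkMap_eq_map_ker' i hU hV hsurj z hzU
  letI algA : Algebra (S.presheaf.stalk (f (i z))) (X.presheaf.stalk (i z)) :=
    (f.stalkMap (i z)).hom.toAlgebra
  have hspan : Ideal.span (Set.range
      fun j => (X.presheaf.germ U (i z) hzU).hom (rs.get j)) =
      RingHom.ker (i.stalkMap z).hom := by
    rw [hJ, ← RelRegBC.span_range_get, Ideal.map_span, ← Set.range_comp]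
    rfl
  refine ⟨isQuasiRegular_map_of_flat rs.get hrs, hspan, ?_⟩
  rw [hspan]
  refine RelRegBC.flat_quot_ker (i.stalkMap z).hom (i.stalkMap_surjective z) ?_
  have h1 : (i.stalkMap z).hom.comp
      (algebraMap (S.presheaf.stalk (f (i z))) (X.presheaf.stalk (i z))) =
      ((i ≫ f).stalkMap z).hom := by
    rw [Scheme.Hom.stalkMap_comp]
    rfl
  rw [h1]
  exact Flat.stalkMap (i ≫ f) z

/-- a relative quasi-regular immersion into a flat, locally finitely presented `S`-scheme is a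
regular immersion -/
theorem regular_of_relQuasi {Z X S : Scheme.{u}} (f : X ⟶ S) [Flat f]
    [LocallyOfFinitePresentation f] (i : Z ⟶ X)
    (hi : RegImm.IsRelRegularImmersion RegImm.Kind.quasi f i) :
    RegImm.IsRegularImmersion RegImm.Kind.regular i := by
  obtain ⟨hreg, hflat⟩ := hi
  haveI := hflat
  haveI := hreg.1
  refine ⟨hreg.1, fun z => ?_⟩
  obtain ⟨⟨U, hU⟩, hzU, hcl, rs, hrs, hker⟩ := hreg.2 z
  have hrs' : CAlgX.IsQuasiRegular rs.get := hrs
  haveI := hcl
  obtain ⟨hq, hspan, hfl⟩ := stalk_data_chart f i hU rs hrs' hker z hzU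
  letI algA : Algebra (S.presheaf.stalk (f (i z))) (X.presheaf.stalk (i z)) :=
    (f.stalkMap (i z)).hom.toAlgebra
  haveI : IsNoetherianRing (X.presheaf.stalk (i z) ⧸
      (IsLocalRing.maximalIdeal (S.presheaf.stalk (f (i z)))).map
        (algebraMap (S.presheaf.stalk (f (i z))) (X.presheaf.stalk (i z)))) :=
    isNoetherianRing_fibreQuot f (i z)
  have hm : ∀ j, (X.presheaf.germ U (i z) hzU).hom (rs.get j) ∈
      IsLocalRing.maximalIdeal (X.presheaf.stalk (i z)) := by
    intro j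
    apply IsLocalRing.le_maximalIdeal (RingHom.ker_ne_top (i.stalkMap z).hom)
    rw [← hspan]
    exact Ideal.subset_span ⟨j, rfl⟩
  have hregf := fun k w hw =>
    fibre_reg (fun j => (X.presheaf.germ U (i z) hzU).hom (rs.get j)) hm hq hfl k w hw
  obtain ⟨T, hT, U₀, hU₀, hU₀T, hx₀, gs, c, hgerm, hxc, hslice⟩ :=
    Groth.Agent.Lib.Helper14.LCF.exists_slice_seq f (i z) (Flat.stalkMap f (i z))
      (fun j => (X.presheaf.germ U (i z) hzU).hom (rs.get j)) hm hregf
  have hge : ∀ j, X.presheaf.germ U (i z) hzU (rs.get j) =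
      X.presheaf.germ U₀ (i z) hx₀ (gs j) := fun j => (hgerm j).symm
  choose W hxW iU iV hW using fun j =>
    X.presheaf.germ_eq (i z) hzU hx₀ (rs.get j) (gs j) (hge j)
  have hOopen : IsOpen ((U : Set X) ∩ ⋂ j, ((W j : X.Opens) : Set X)) :=
    U.2.inter (isOpen_iInter_of_finite fun j => (W j).2)
  have hxO : i z ∈ (⟨_, hOopen⟩ : X.Opens) := ⟨hzU, Set.mem_iInter.2 hxW⟩
  obtain ⟨c', hc'le, hc'x⟩ := hU₀.exists_basicOpen_le (V := ⟨_, hOopen⟩) ⟨i z, hxO⟩ hx₀
  have hW₀c' : X.basicOpen (c * c') ≤ X.basicOpen c' := by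
    rw [Scheme.basicOpen_mul]; exact inf_le_right
  have hW₀U : X.basicOpen (c * c') ≤ U := fun y hy => (hc'le (hW₀c' hy)).1
  have hW₀W : ∀ j, X.basicOpen (c * c') ≤ W j :=
    fun j y hy => Set.mem_iInter.1 (hc'le (hW₀c' hy)).2 j
  have hxW₀ : i z ∈ X.basicOpen (c * c') := by
    rw [Scheme.basicOpen_mul]; exact ⟨hxc, hc'x⟩
  have hW₀a : IsAffineOpen (X.basicOpen (c * c')) := hU₀.basicOpen (c * c')
  obtain ⟨hclW, hkerW⟩ := ker_restrict (i := i) hU hW₀a hW₀U
  obtain ⟨hwr, -, -⟩ := hslice c'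
  have key : ∀ j, (X.presheaf.map (homOfLE hW₀U).op).hom (rs.get j) =
      algebraMap Γ(X, U₀) Γ(X, X.basicOpen (c * c')) (gs j) := by
    intro j
    have h1 := congrArg (X.presheaf.map (homOfLE (hW₀W j)).op).hom (hW j)
    have e1 : X.presheaf.map (iU j).op ≫ X.presheaf.map (homOfLE (hW₀W j)).op =
        X.presheaf.map (homOfLE hW₀U).op := by
      rw [← X.presheaf.map_comp]; rfl
    have e2 : X.presheaf.map (iV j).op ≫ X.presheaf.map (homOfLE (hW₀W j)).op =
        X.presheaf.map (homOfLE (X.basicOpen_le (c * c'))).op := by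
      rw [← X.presheaf.map_comp]; rfl
    rw [← e1]
    refine h1.trans ?_
    show (X.presheaf.map (iV j).op ≫ X.presheaf.map (homOfLE (hW₀W j)).op).hom (gs j) = _
    rw [e2]
    rfl
  have hlist : Ideal.ofList (List.ofFn fun j =>
      algebraMap Γ(X, U₀) Γ(X, X.basicOpen (c * c')) (gs j)) =
      RingHom.ker (i.app (X.basicOpen (c * c'))).hom := by
    have hB : (Ideal.ofList rs).map (X.presheaf.map (homOfLE hW₀U).op).hom =
        Ideal.span (Set.range ((X.presheaf.map (homOfLE hW₀U).op).hom ∘ rs.get)) := by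
      rw [← RelRegBC.span_range_get, Ideal.map_span, ← Set.range_comp]
    have hfe : ((X.presheaf.map (homOfLE hW₀U).op).hom ∘ rs.get) =
        fun j => algebraMap Γ(X, U₀) Γ(X, X.basicOpen (c * c')) (gs j) := funext key
    rw [hkerW, hker, hB, hfe, Groth.Agent.Lib.Helper14.LCF.ofList_ofFn]
  refine ⟨⟨X.basicOpen (c * c'), hW₀a⟩, hxW₀, hclW,
    List.ofFn fun j => algebraMap Γ(X, U₀) Γ(X, X.basicOpen (c * c')) (gs j), ?_, hlist.symm⟩
  refine (⟨hwr, ?_⟩ : IsRegular _ _)
  rw [smul_eq_mul, Ideal.mul_top, hlist]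
  haveI : Nonempty (i ⁻¹ᵁ X.basicOpen (c * c')) := ⟨⟨z, hxW₀⟩⟩
  exact (RingHom.ker_ne_top _).symm

end Scheme

end Groth.Agent.Lib.Helper22.RelRegReg
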