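import Mathlib
import Groth.Agent.Lib.Helper22.RelRegReg
import Groth.Agent.Lib.Helper22.QRegNoeth
import Groth.Agent.Lib.Helper14.ReesKer
import Groth.Agent.Lib.Helper14.LCF.FibreRing

/-!
# Fibrewise criterion for relative quasi-regular immersions (helper22)
-/

set_option autoImplicit false
set_option linter.style.haveILetI false
set_option linter.unusedSectionVars false
universe u
open CategoryTheory CategoryTheory.Limits AlgebraicGeometry TopologicalSpace Opposite
open RingTheory.Sequence TensorProduct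

namespace Groth.Agent.Lib.Helper22.FibReg

open Groth.Agent.Lib.Helper1 Groth.Agent.Lib.Helper6 Groth.Agent.Lib.Helper22

section Ring

/-- equational criterion of flatness: for a surjection `ψ : X → N` onto a flat module,
`ker ψ ∩ 𝔞 X = 𝔞 ker ψ` -/
theorem mem_smul_ker_of_flat {A : Type*} [CommRing A] {X N : Type*}
    [AddCommGroup X] [Module A X] [AddCommGroup N] [Module A N] [Module.Flat A N] (ψ : X →ₗ[A] N)
    (hψ : Function.Surjective ψ) (𝔞 : Ideal A) {x : X} (hxK : x ∈ LinearMap.ker ψ)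
    (hx : x ∈ 𝔞 • (⊤ : Submodule A X)) :
    x ∈ 𝔞 • LinearMap.ker ψ := by
  classical
  have hspan : (⊤ : Submodule A X) = Submodule.span A (Set.range (id : X → X)) := by
    rw [Set.range_id, Submodule.span_univ]
  rw [hspan, Submodule.mem_ideal_smul_span_iff_exists_sum] at hx
  obtain ⟨a, haI, hax⟩ := hx
  have h0 : ∑ i : a.support, (a i.1) • ψ i.1 = 0 := by
    have h1 : ψ x = 0 := hxK
    rw [← hax, Finsupp.sum, map_sum] at h1
    rw [← h1, ← Finset.sum_coe_sort a.support (fun i => ψ (a i • id i))]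
    refine Finset.sum_congr rfl (fun i _ => ?_)
    rw [map_smul]
    rfl
  obtain ⟨k, c, y, hxy, hc⟩ := Module.Flat.isTrivialRelation_of_sum_smul_eq_zero h0
  choose g hg using fun j => hψ (y j)
  have hk : ∀ i : a.support, (i.1 - ∑ j, c i j • g j) ∈ LinearMap.ker ψ := by
    intro i
    rw [LinearMap.mem_ker, map_sub, map_sum, sub_eq_zero]
    have h3 := hxy i
    simp only at h3
    rw [h3]
    refine Finset.sum_congr rfl (fun j _ => ?_)
    rw [map_smul, hg]
  have hsum : x = ∑ i : a.support, a i.1 • (i.1 - ∑ j, c i j • g j) +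
      ∑ j, (∑ i : a.support, a i.1 * c i j) • g j := by
    have h2 : ∑ i : a.support, a i.1 • (∑ j, c i j • g j) =
        ∑ j, (∑ i : a.support, a i.1 * c i j) • g j := by
      simp_rw [Finset.smul_sum, smul_smul, Finset.sum_smul]
      rw [Finset.sum_comm]
    simp_rw [smul_sub]
    rw [Finset.sum_sub_distrib, h2, sub_add_cancel, ← hax, Finsupp.sum,
      ← Finset.sum_coe_sort a.support (fun i => a i • id i)]
    rfl
  have hz : ∑ j, (∑ i : a.support, a i.1 * c i j) • g j = 0 := by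
    refine Finset.sum_eq_zero (fun j _ => ?_)
    rw [hc j, zero_smul]
  rw [hsum, hz, add_zero]
  exact Submodule.sum_mem _ (fun i _ => Submodule.smul_mem_smul (haI i.1) (hk i))

/-- if `B/I` is flat over `A` then `I ∩ 𝔞B = 𝔞I` -/
theorem mem_mul_of_flat_quot {A B : Type*} [CommRing A] [CommRing B] [Algebra A B] (I : Ideal B)
    [Module.Flat A (B ⧸ I)] (𝔞 : Ideal A) {x : B} (hxI : x ∈ I)
    (hx : x ∈ 𝔞.map (algebraMap A B)) : x ∈ 𝔞.map (algebraMap A B) * I := by
  have h1 : x ∈ 𝔞 • LinearMap.ker ((Submodule.mkQ I).restrictScalars A) := by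
    refine mem_smul_ker_of_flat ((Submodule.mkQ I).restrictScalars A) (Submodule.mkQ_surjective I)
      𝔞 ?_ ?_
    · show (Submodule.mkQ I) x = 0
      exact (Submodule.Quotient.mk_eq_zero I).2 hxI
    · rw [Ideal.smul_top_eq_map]
      exact hx
  have hle : 𝔞 • LinearMap.ker ((Submodule.mkQ I).restrictScalars A) ≤
      (𝔞.map (algebraMap A B) * I).restrictScalars A := by
    rw [Submodule.smul_le]
    intro a ha y hy
    have hy' : y ∈ I := by
      have : (Submodule.mkQ I) y = 0 := hy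
      exact (Submodule.Quotient.mk_eq_zero I).1 this
    show a • y ∈ 𝔞.map (algebraMap A B) * I
    rw [Algebra.smul_def]
    exact Ideal.mul_mem_mul (Ideal.mem_map_of_mem _ ha) hy'
  exact hle h1

/-- a finitely presented surjection has finitely generated kernel -/
theorem ker_fg_of_finitePresentation {A B : Type*} [CommRing A] [CommRing B] (f : A →+* B)
    (hf : f.FinitePresentation) (hs : Function.Surjective f) : (RingHom.ker f).FG := by
  letI := f.toAlgebra
  haveI : Algebra.FinitePresentation A B := hf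
  exact Algebra.FinitePresentation.ker_fG_of_surjective (Algebra.ofId A B) hs

/-- lifting a regular sequence generating the ideal of the fibre -/
theorem lift_fibre_seq {A B F : Type u} [CommRing A] [CommRing B] [CommRing F] [Algebra A B]
    [IsLocalRing B] [Nontrivial F] (𝔪 : Ideal A) (I : Ideal B) (hIfg : I.FG)
    [Module.Flat A (B ⧸ I)] (π : B →+* F) (hπ : Function.Surjective π)
    (hker : RingHom.ker π = 𝔪.map (algebraMap A B))
    (rb : List F) (hreg : IsWeaklyRegular F rb) (hne : Ideal.ofList rb ≠ ⊤)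
    (hspan : I.map π = Ideal.ofList rb) :
    ∃ r : Fin rb.length → B, (∀ j, π (r j) = rb.get j) ∧ Ideal.span (Set.range r) = I ∧
      (∀ j, r j ∈ IsLocalRing.maximalIdeal B) ∧
      ∀ (k : Fin rb.length) (w : B),
        r k * w ∈ 𝔪.map (algebraMap A B) ⊔ Ideal.span (r '' {j | j < k}) →
        w ∈ 𝔪.map (algebraMap A B) ⊔ Ideal.span (r '' {j | j < k}) := by
  have hmemb : ∀ j : Fin rb.length, rb.get j ∈ I.map π := by
    intro j
    rw [hspan]
    exact Ideal.subset_span (List.get_mem rb j)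
  choose r hrI hr using fun j => (Ideal.mem_map_iff_of_surjective π hπ).1 (hmemb j)
  have hItop : I ≠ ⊤ := by
    intro h
    apply hne
    rw [← hspan, h, Ideal.map_top]
  have hIle : I ≤ IsLocalRing.maximalIdeal B := IsLocalRing.le_maximalIdeal hItop
  have hNle : Ideal.span (Set.range r) ≤ I := by
    rw [Ideal.span_le]
    rintro _ ⟨j, rfl⟩
    exact hrI j
  have hfun : (π ∘ r) = rb.get := funext hr
  have hmapN : (Ideal.span (Set.range r)).map π = I.map π := by
    rw [hspan, Ideal.map_span, ← Set.range_comp, hfun, RelRegBC.span_range_get]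
  have hkerle : RingHom.ker π ≤ IsLocalRing.maximalIdeal B :=
    IsLocalRing.le_maximalIdeal (RingHom.ker_ne_top π)
  have hIN : I ≤ Ideal.span (Set.range r) := by
    refine Submodule.le_of_le_smul_of_le_jacobson_bot (I := RingHom.ker π) hIfg ?_ ?_
    · rw [IsLocalRing.jacobson_eq_maximalIdeal ⊥ bot_ne_top]
      exact hkerle
    · intro a ha
      have h1 : π a ∈ (Ideal.span (Set.range r)).map π := by
        rw [hmapN]; exact Ideal.mem_map_of_mem π ha
      obtain ⟨v, hv, hva⟩ := (Ideal.mem_map_iff_of_surjective π hπ).1 h1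
      have h2 : a - v ∈ RingHom.ker π := by
        rw [RingHom.mem_ker, map_sub, hva, sub_self]
      have h3 : a - v ∈ I := I.sub_mem ha (hNle hv)
      have h4 : a - v ∈ RingHom.ker π • I := by
        rw [smul_eq_mul]
        rw [hker] at h2 ⊢
        exact mem_mul_of_flat_quot I 𝔪 h3 h2
      have h5 : a = v + (a - v) := by ring
      rw [h5]
      exact Submodule.add_mem_sup hv h4
  refine ⟨r, hr, le_antisymm hNle hIN, fun j => hIle (hrI j), ?_⟩
  have hReg := Groth.Agent.Lib.Helper14.ReesKer.reg_of_isWeaklyRegular (a := rb.get)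
    (by rw [List.ofFn_get]; exact hreg)
  intro k w hw
  have hIk : Groth.Agent.Lib.Helper14.ReesKer.I rb.get k.val =
      (Ideal.span (r '' {j : Fin rb.length | j < k})).map π := by
    unfold Groth.Agent.Lib.Helper14.ReesKer.I
    rw [Ideal.map_span, Set.image_image]
    simp only [hr]
    rfl
  have h𝔣 : (𝔪.map (algebraMap A B) ⊔ Ideal.span (r '' {j : Fin rb.length | j < k})).map π =
      Groth.Agent.Lib.Helper14.ReesKer.I rb.get k.val := by
    rw [Ideal.map_sup, ← hker, (Ideal.map_eq_bot_iff_le_ker π).2 le_rfl, bot_sup_eq, hIk]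
  have h1 : rb.get k * π w ∈ Groth.Agent.Lib.Helper14.ReesKer.I rb.get k.val := by
    rw [← h𝔣, ← hr k, ← map_mul]
    exact Ideal.mem_map_of_mem π hw
  have h2 := hReg k (π w) h1
  rw [hIk] at h2
  obtain ⟨v, hv, hvw⟩ := (Ideal.mem_map_iff_of_surjective π hπ).1 h2
  have h3 : w - v ∈ 𝔪.map (algebraMap A B) := by
    rw [← hker, RingHom.mem_ker, map_sub, hvw, sub_self]
  have h4 : w = (w - v) + v := by ring
  rw [h4]
  exact Submodule.add_mem_sup h3 hv

/-- spreading out an inclusion of ideals from the localization at a prime -/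
theorem exists_mul_mem_of_map_le {B₀ Bp : Type*} [CommRing B₀] [CommRing Bp] [Algebra B₀ Bp]
    (𝔭 : Ideal B₀) [𝔭.IsPrime] [IsLocalization.AtPrime Bp 𝔭] (K J : Ideal B₀) (hK : K.FG)
    (h : K.map (algebraMap B₀ Bp) ≤ J.map (algebraMap B₀ Bp)) :
    ∃ u ∈ 𝔭.primeCompl, ∀ a ∈ K, u * a ∈ J := by
  obtain ⟨n, a, ha⟩ := Submodule.fg_iff_exists_fin_generating_family.1 hK
  have h1 : ∀ l : Fin n, ∃ m ∈ 𝔭.primeCompl, m * a l ∈ J := by
    intro l
    apply (IsLocalization.algebraMap_mem_map_algebraMap_iff 𝔭.primeCompl Bp J (a l)).1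
    apply h
    apply Ideal.mem_map_of_mem
    rw [← ha]
    exact Submodule.subset_span ⟨l, rfl⟩
  choose m hm hmJ using h1
  refine ⟨∏ l, m l, Submonoid.prod_mem _ (fun l _ => hm l), ?_⟩
  have hle : K ≤ Submodule.comap (LinearMap.mulLeft B₀ (∏ l, m l)) J := by
    rw [← ha, Submodule.span_le]
    rintro _ ⟨l, rfl⟩
    show (∏ l, m l) * a l ∈ J
    obtain ⟨k, hk⟩ := Finset.dvd_prod_of_mem m (Finset.mem_univ l)
    rw [hk, mul_comm (m l) k, mul_assoc]
    exact J.mul_mem_left k (hmJ l)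
  exact fun b hb => hle hb

/-- equality of a finitely generated ideal with a finitely generated subideal after inverting
an element that spreads out both inclusions -/
theorem map_eq_span_of_unit {B₀ B' : Type*} [CommRing B₀] [CommRing B'] (ψ : B₀ →+* B')
    (K J : Ideal B₀) (u : B₀) (hu : IsUnit (ψ u)) (h₁ : ∀ a ∈ K, u * a ∈ J)
    (h₂ : ∀ a ∈ J, u * a ∈ K) : K.map ψ = J.map ψ := by
  apply le_antisymm
  · rw [Ideal.map_le_iff_le_comap]
    intro a ha
    rw [Ideal.mem_comap, ← Ideal.unit_mul_mem_iff_mem _ hu, ← map_mul]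
    exact Ideal.mem_map_of_mem ψ (h₁ a ha)
  · rw [Ideal.map_le_iff_le_comap]
    intro a ha
    rw [Ideal.mem_comap, ← Ideal.unit_mul_mem_iff_mem _ hu, ← map_mul]
    exact Ideal.mem_map_of_mem ψ (h₂ a ha)

end Ring

section Scheme

theorem comap_stalkCongr_fiberIdeal {X Y : Scheme.{u}} (f : X ⟶ Y) {x₁ x₂ : X} (h : x₁ = x₂) :
    Ideal.comap (X.presheaf.stalkCongr (.of_eq h)).hom.hom (fiberIdeal f x₂) =
      fiberIdeal f x₁ := by
  subst h
  have h1 : (X.presheaf.stalkCongr (Inseparable.of_eq (rfl : x₁ = x₁))).hom = 𝟙 _ := by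
    simp
  rw [h1, CommRingCat.hom_id]
  exact Ideal.comap_id _

theorem fiberι_stalkMap_aux {X Y : Scheme.{u}} (f : X ⟶ Y) (x : X) :
    ∃ (h : (f.fiberι (f x))
        ((specToFiber f x) (IsLocalRing.closedPoint (fiberQuotRing f x))) = x),
      ((f.fiberι (f x)).stalkMap _) ≫ fiberStalkToQuot' f x =
        (X.presheaf.stalkCongr (.of_eq h)).hom ≫ fiberQuot f x := by
  have hcp : (specToFiber f x ≫ f.fiberι (f x))
      (IsLocalRing.closedPoint (fiberQuotRing f x)) = x := by
    rw [specToFiber_fiberι]; exact specQuotToX_closedPoint f x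
  refine ⟨hcp, ?_⟩
  have key : ∀ (g : Spec (fiberQuotRing f x) ⟶ X) (hg : g = specQuotToX f x)
      (h : g (IsLocalRing.closedPoint (fiberQuotRing f x)) = x),
      Scheme.stalkClosedPointTo g =
        (X.presheaf.stalkCongr (.of_eq h)).hom ≫ fiberQuot f x := by
    intro g hg h
    subst hg
    have h0 : (⟨(specQuotToX f x).base (IsLocalRing.closedPoint (fiberQuotRing f x)),
        Scheme.stalkClosedPointTo (specQuotToX f x), inferInstance⟩ :
      Σ x', { g : X.presheaf.stalk x' ⟶ fiberQuotRing f x // IsLocalHom g.hom }) =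
      ⟨x, fiberQuot f x, inferInstance⟩ :=
      (SpecToEquivOfLocalRing X (fiberQuotRing f x)).right_inv ⟨x, fiberQuot f x, inferInstance⟩
    obtain ⟨h₁, h₂⟩ := SpecToEquivOfLocalRing_eq_iff.mp h0
    exact h₂
  have h1 := key (specToFiber f x ≫ f.fiberι (f x)) (specToFiber_fiberι f x) hcp
  rw [Scheme.stalkClosedPointTo_comp] at h1
  exact h1

/-- the stalk map of the inclusion of a fibre is surjective with kernel `𝔪_s 𝒪_{X,x}` -/
theorem fiberι_stalkMap_surjective_ker {X Y : Scheme.{u}} (f : X ⟶ Y) (s : Y) (y : f.fiber s) :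
    Function.Surjective ((f.fiberι s).stalkMap y).hom ∧
      RingHom.ker ((f.fiberι s).stalkMap y).hom =
        (IsLocalRing.maximalIdeal (Y.presheaf.stalk (f ((f.fiberι s) y)))).map
          (f.stalkMap ((f.fiberι s) y)).hom := by
  have key : ∀ (x : X) (s' : Y) (hs : f x = s') (y' : f.fiber s') (hy : (f.fiberι s') y' = x),
      Function.Surjective ((f.fiberι s').stalkMap y').hom ∧
        RingHom.ker ((f.fiberι s').stalkMap y').hom = fiberIdeal f ((f.fiberι s') y') := by
    intro x s' hs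
    subst hs
    intro y' hy
    obtain ⟨hw, hcomp⟩ := fiberι_stalkMap_aux f x
    have hyw : y' = (specToFiber f x) (IsLocalRing.closedPoint (fiberQuotRing f x)) :=
      (f.fiberι (f x)).isEmbedding.injective (hy.trans hw.symm)
    subst hyw
    have hβ := fiberStalkToQuot'_bijective f x
    have hcomp' : ∀ a, (fiberStalkToQuot' f x).hom (((f.fiberι (f x)).stalkMap _).hom a) =
        (fiberQuot f x).hom ((X.presheaf.stalkCongr (.of_eq hw)).hom.hom a) :=
      fun a => congr($hcomp a)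
    have hes : Function.Surjective (X.presheaf.stalkCongr (.of_eq hw)).hom.hom :=
      (ConcreteCategory.bijective_of_isIso (X.presheaf.stalkCongr (.of_eq hw)).hom).2
    constructor
    · intro b
      obtain ⟨a, ha⟩ := fiberQuot_surjective f x ((fiberStalkToQuot' f x).hom b)
      obtain ⟨a', ha'⟩ := hes a
      refine ⟨a', hβ.1 ?_⟩
      rw [hcomp', ha', ha]
    · rw [← comap_stalkCongr_fiberIdeal f hw]
      ext a
      rw [RingHom.mem_ker, Ideal.mem_comap, ← map_eq_zero_iff _ hβ.1, hcomp']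
      exact Ideal.Quotient.eq_zero_iff_mem
  have hs : f ((f.fiberι s) y) = s := by
    have h1 : (f.fiberι s) y ∈ f ⁻¹' {s} := by
      rw [← f.range_fiberι s]; exact ⟨y, rfl⟩
    exact h1
  exact key ((f.fiberι s) y) s hs y rfl

/-- the kernel of the stalk map of the base change of a closed immersion -/
theorem ker_stalkMap_of_isPullback {X Y X' Y' : Scheme.{u}} {i : Y ⟶ X} {g : X' ⟶ X}
    {i' : Y' ⟶ X'} {g' : Y' ⟶ Y} (hsq : IsPullback g' i' i g) [IsClosedImmersion i]
    {U₁ : X.Opens} (hU₁ : IsAffineOpen U₁) (p : Y') (hp : g (i' p) ∈ U₁) :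
    RingHom.ker (i'.stalkMap p).hom =
      ((RingHom.ker (i.app U₁).hom).map (X.presheaf.germ U₁ (g (i' p)) hp).hom).map
        (g.stalkMap (i' p)).hom := by
  haveI : IsClosedImmersion (i ∣_ U₁) := inferInstance
  have hiU₁ := RegStalk.isAffineOpen_preimage_of_isClosedImmersion_restrict i hU₁
  have hs := RegStalk.app_surjective_of_isClosedImmersion_restrict i hU₁
  obtain ⟨_, ⟨U', hU'a, rfl⟩, hpU', hU'le⟩ :=
    X'.isBasis_affineOpens.exists_subset_of_mem_open
      (show i' p ∈ ((g ⁻¹ᵁ U₁ : X'.Opens) : Set X') from hp) (g ⁻¹ᵁ U₁).2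
  have hU' : U' ≤ g ⁻¹ᵁ U₁ := hU'le
  haveI : IsClosedImmersion (i' ∣_ U') := RegBC.isClosedImmersion_restrict_of_isPullback hsq hU'
  have hV' := RegStalk.isAffineOpen_preimage_of_isClosedImmersion_restrict i' hU'a
  have hs' := RegStalk.app_surjective_of_isClosedImmersion_restrict i' hU'a
  have hcat : g.appLE U₁ U' hU' ≫ X'.presheaf.germ U' (i' p) hpU' =
      X.presheaf.germ U₁ (g (i' p)) hp ≫ g.stalkMap (i' p) := by
    rw [Scheme.Hom.germ_stalkMap, Scheme.Hom.appLE, Category.assoc, TopCat.Presheaf.germ_res]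
  rw [RegStalk.ker_stalkMap_eq_map_ker' i' hU'a hV' hs' p hpU',
    RegBC.ker_app_of_isPullback hsq hU₁ hiU₁ hs hU'a hU', Ideal.map_map, Ideal.map_map]
  congr 1
  exact congrArg CommRingCat.Hom.hom hcat

theorem flat_quot_map_germ {Z X S : Scheme.{u}} (f : X ⟶ S) (i : Z ⟶ X) [IsClosedImmersion i]
    [Flat (i ≫ f)] {U : X.Opens} (hU : IsAffineOpen U) (x' : X) (hx' : x' ∈ U) (t : Z)
    (h : i t = x') :
    letI := (f.stalkMap x').hom.toAlgebra
    Module.Flat (S.presheaf.stalk (f x'))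
      (X.presheaf.stalk x' ⧸
        (RingHom.ker (i.app U).hom).map (X.presheaf.germ U x' hx').hom) := by
  subst h
  haveI : IsClosedImmersion (i ∣_ U) := inferInstance
  have hV := RegStalk.isAffineOpen_preimage_of_isClosedImmersion_restrict i hU
  have hsurj := RegStalk.app_surjective_of_isClosedImmersion_restrict i hU
  letI algA : Algebra (S.presheaf.stalk (f (i t))) (X.presheaf.stalk (i t)) :=
    (f.stalkMap (i t)).hom.toAlgebra
  rw [← RegStalk.ker_stalkMap_eq_map_ker' i hU hV hsurj t hx']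
  refine RelRegBC.flat_quot_ker (i.stalkMap t).hom (i.stalkMap_surjective t) ?_
  have h1 : (i.stalkMap t).hom.comp
      (algebraMap (S.presheaf.stalk (f (i t))) (X.presheaf.stalk (i t))) =
      ((i ≫ f).stalkMap t).hom := by
    rw [Scheme.Hom.stalkMap_comp]
    rfl
  rw [h1]
  exact Flat.stalkMap (i ≫ f) t

theorem map_germ_ker_eq {Z X : Scheme.{u}} (i : Z ⟶ X) [IsClosedImmersion i]
    {U U' : X.Opens} (hU : IsAffineOpen U) (hU' : IsAffineOpen U') (x' : X) (hx : x' ∈ U)
    (hx' : x' ∈ U') (t : Z) (h : i t = x') :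
    (RingHom.ker (i.app U).hom).map (X.presheaf.germ U x' hx).hom =
      (RingHom.ker (i.app U').hom).map (X.presheaf.germ U' x' hx').hom := by
  subst h
  haveI : IsClosedImmersion (i ∣_ U) := inferInstance
  haveI : IsClosedImmersion (i ∣_ U') := inferInstance
  rw [← RegStalk.ker_stalkMap_eq_map_ker' i hU
      (RegStalk.isAffineOpen_preimage_of_isClosedImmersion_restrict i hU)
      (RegStalk.app_surjective_of_isClosedImmersion_restrict i hU) t hx,
    ← RegStalk.ker_stalkMap_eq_map_ker' i hU'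
      (RegStalk.isAffineOpen_preimage_of_isClosedImmersion_restrict i hU')
      (RegStalk.app_surjective_of_isClosedImmersion_restrict i hU') t hx']

theorem ker_app_fg {Z X : Scheme.{u}} (i : Z ⟶ X) [IsClosedImmersion i]
    [LocallyOfFinitePresentation i] {U : X.Opens} (hU : IsAffineOpen U) :
    (RingHom.ker (i.app U).hom).FG := by
  haveI : IsClosedImmersion (i ∣_ U) := inferInstance
  have hV := RegStalk.isAffineOpen_preimage_of_isClosedImmersion_restrict i hU
  have hs := RegStalk.app_surjective_of_isClosedImmersion_restrict i hU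
  have hfp : (i.appLE U (i ⁻¹ᵁ U) le_rfl).hom.FinitePresentation :=
    i.finitePresentation_appLE hU hV le_rfl
  rw [← Scheme.Hom.app_eq_appLE] at hfp
  exact ker_fg_of_finitePresentation _ hfp hs

open Groth.Agent.Lib.Helper12.SchemeDimFT in
/-- the local step of the fibrewise criterion -/
theorem regularAt_of_fibre {Z X S : Scheme.{u}} (φ : X ⟶ S) [Flat φ]
    [LocallyOfFinitePresentation φ] (i : Z ⟶ X) [IsClosedImmersion i] [Flat (i ≫ φ)]
    [LocallyOfFinitePresentation (i ≫ φ)] (s : S)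
    (hfib : RegImm.IsRegularImmersion RegImm.Kind.quasi (pullback.snd i (φ.fiberι s)))
    (p : ↥(pullback i (φ.fiberι s))) (t : Z) (ht : pullback.fst i (φ.fiberι s) p = t) :
    RegImm.IsRegularImmersionAt RegImm.Kind.quasi i t := by
  subst ht
  have hx' : i (pullback.fst i (φ.fiberι s) p) = (φ.fiberι s) (pullback.snd i (φ.fiberι s) p) :=
    congrArg (fun ψ => ψ.base p) (pullback.condition (f := i) (g := φ.fiberι s))
  haveI : LocallyOfFiniteType (φ.fiberToSpecResidueField s) := by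
    unfold Scheme.Hom.fiberToSpecResidueField
    exact MorphismProperty.pullback_snd (P := @LocallyOfFiniteType) _ _ inferInstance
  haveI : IsLocallyNoetherian (φ.fiber s) :=
    LocallyOfFiniteType.isLocallyNoetherian (φ.fiberToSpecResidueField s)
  have hR := (QRegNoeth.regular_iff_quasi (pullback.snd i (φ.fiberι s))).2 hfib
  obtain ⟨rb, hrb, hkerb⟩ := RegStalk.exists_regular_ker_stalkMap _ hR p
  obtain ⟨_, ⟨U, hU, rfl⟩, hxU, -⟩ := X.isBasis_affineOpens.exists_subset_of_mem_open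
    (Set.mem_univ ((φ.fiberι s) (pullback.snd i (φ.fiberι s) p))) isOpen_univ
  have hK := ker_stalkMap_of_isPullback (IsPullback.of_hasPullback i (φ.fiberι s)) hU p hxU
  obtain ⟨hπs, hπk⟩ := fiberι_stalkMap_surjective_ker φ s (pullback.snd i (φ.fiberι s) p)
  letI algA : Algebra (S.presheaf.stalk (φ ((φ.fiberι s) (pullback.snd i (φ.fiberι s) p))))
      (X.presheaf.stalk ((φ.fiberι s) (pullback.snd i (φ.fiberι s) p))) :=
    (φ.stalkMap ((φ.fiberι s) (pullback.snd i (φ.fiberι s) p))).hom.toAlgebra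
  haveI hflat := flat_quot_map_germ φ i hU _ hxU _ hx'
  haveI : LocallyOfFinitePresentation i :=
    Groth.Agent.Lib.Helper14.LCF.locallyOfFinitePresentation_of_comp i φ
  have hIfg := (ker_app_fg i hU).map
    (X.presheaf.germ U ((φ.fiberι s) (pullback.snd i (φ.fiberι s) p)) hxU).hom
  have hne : Ideal.ofList rb ≠ ⊤ := by
    rw [← hkerb]; exact RingHom.ker_ne_top _
  obtain ⟨r, hr, hspan, hm, hreg⟩ := lift_fibre_seq
    (IsLocalRing.maximalIdeal
      (S.presheaf.stalk (φ ((φ.fiberι s) (pullback.snd i (φ.fiberι s) p)))))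
    _ hIfg _ hπs hπk rb hrb.toIsWeaklyRegular hne (hK.symm.trans hkerb)
  obtain ⟨T, hT, U₀, hU₀, hU₀T, hx₀, gs, c, hgerm, hxc, hslice⟩ :=
    Groth.Agent.Lib.Helper14.LCF.exists_slice_seq φ
      ((φ.fiberι s) (pullback.snd i (φ.fiberι s) p))
      (Flat.stalkMap φ ((φ.fiberι s) (pullback.snd i (φ.fiberι s) p))) r hm hreg
  have hI₀ := map_germ_ker_eq i hU hU₀ _ hxU hx₀ _ hx'
  letI alg := X.presheaf.algebra_section_stalk
    ⟨(φ.fiberι s) (pullback.snd i (φ.fiberι s) p), hx₀⟩
  have loc := hU₀.isLocalization_stalk ⟨(φ.fiberι s) (pullback.snd i (φ.fiberι s) p), hx₀⟩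
  have hJmap : (Ideal.span (Set.range gs)).map (algebraMap Γ(X, U₀)
      (X.presheaf.stalk ((φ.fiberι s) (pullback.snd i (φ.fiberι s) p)))) =
      (RingHom.ker (i.app U₀).hom).map (algebraMap Γ(X, U₀)
        (X.presheaf.stalk ((φ.fiberι s) (pullback.snd i (φ.fiberι s) p)))) := by
    have h1 : (algebraMap Γ(X, U₀)
        (X.presheaf.stalk ((φ.fiberι s) (pullback.snd i (φ.fiberι s) p)))) ∘ gs = r :=
      funext hgerm
    rw [Ideal.map_span, ← Set.range_comp, h1, hspan]
    exact hI₀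
  obtain ⟨u₁, hu₁, h₁⟩ := exists_mul_mem_of_map_le
    (Bp := X.presheaf.stalk ((φ.fiberι s) (pullback.snd i (φ.fiberι s) p)))
    (hU₀.primeIdealOf ⟨(φ.fiberι s) (pullback.snd i (φ.fiberι s) p), hx₀⟩).asIdeal
    (RingHom.ker (i.app U₀).hom) (Ideal.span (Set.range gs)) (ker_app_fg i hU₀) hJmap.ge
  obtain ⟨u₂, hu₂, h₂⟩ := exists_mul_mem_of_map_le
    (Bp := X.presheaf.stalk ((φ.fiberι s) (pullback.snd i (φ.fiberι s) p)))
    (hU₀.primeIdealOf ⟨(φ.fiberι s) (pullback.snd i (φ.fiberι s) p), hx₀⟩).asIdeal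
    (Ideal.span (Set.range gs)) (RingHom.ker (i.app U₀).hom)
    (Submodule.fg_span (Set.finite_range gs)) hJmap.le
  have hu : u₁ * u₂ ∉ (hU₀.primeIdealOf
      ⟨(φ.fiberι s) (pullback.snd i (φ.fiberι s) p), hx₀⟩).asIdeal :=
    Submonoid.mul_mem _ hu₁ hu₂
  have hxu : (φ.fiberι s) (pullback.snd i (φ.fiberι s) p) ∈ X.basicOpen (u₁ * u₂) :=
    (mem_basicOpen_iff_notMem_primeIdealOf hU₀ ⟨_, hx₀⟩ (u₁ * u₂)).mpr hu
  have hxD : (φ.fiberι s) (pullback.snd i (φ.fiberι s) p) ∈ X.basicOpen (c * (u₁ * u₂)) := by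
    rw [Scheme.basicOpen_mul]; exact ⟨hxc, hxu⟩
  have hDa : IsAffineOpen (X.basicOpen (c * (u₁ * u₂))) := hU₀.basicOpen _
  haveI : IsClosedImmersion (i ∣_ U₀) := inferInstance
  obtain ⟨hclD, hkerD⟩ := RelRegReg.ker_restrict (i := i) hU₀ hDa (X.basicOpen_le _)
  obtain ⟨hwr, -, -⟩ := hslice (u₁ * u₂)
  haveI : IsLocalization.Away (c * (u₁ * u₂)) Γ(X, X.basicOpen (c * (u₁ * u₂))) :=
    hU₀.isLocalization_basicOpen _
  have hunit : IsUnit (algebraMap Γ(X, U₀) Γ(X, X.basicOpen (c * (u₁ * u₂))) (u₁ * u₂)) := by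
    have h1 := IsLocalization.Away.algebraMap_isUnit
      (S := Γ(X, X.basicOpen (c * (u₁ * u₂)))) (c * (u₁ * u₂))
    rw [map_mul] at h1
    exact (IsUnit.mul_iff.1 h1).2
  have hmapeq := map_eq_span_of_unit
    (algebraMap Γ(X, U₀) Γ(X, X.basicOpen (c * (u₁ * u₂))))
    (RingHom.ker (i.app U₀).hom) (Ideal.span (Set.range gs)) (u₁ * u₂) hunit
    (fun a ha => by
      rw [mul_comm u₁ u₂, mul_assoc]
      exact Ideal.mul_mem_left _ u₂ (h₁ a ha))
    (fun a ha => by
      rw [mul_assoc]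
      exact Ideal.mul_mem_left _ u₁ (h₂ a ha))
  have hlist : Ideal.ofList (List.ofFn fun j =>
      algebraMap Γ(X, U₀) Γ(X, X.basicOpen (c * (u₁ * u₂))) (gs j)) =
      RingHom.ker (i.app (X.basicOpen (c * (u₁ * u₂)))).hom := by
    rw [Groth.Agent.Lib.Helper14.LCF.ofList_ofFn, hkerD]
    have h1 : (RingHom.ker (i.app U₀).hom).map
        (X.presheaf.map (homOfLE (X.basicOpen_le (c * (u₁ * u₂)))).op).hom =
        (RingHom.ker (i.app U₀).hom).map
          (algebraMap Γ(X, U₀) Γ(X, X.basicOpen (c * (u₁ * u₂)))) := rfl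
    rw [h1, hmapeq, Ideal.map_span, ← Set.range_comp]
    rfl
  refine ⟨⟨X.basicOpen (c * (u₁ * u₂)), hDa⟩, ?_, hclD,
    List.ofFn fun j => algebraMap Γ(X, U₀) Γ(X, X.basicOpen (c * (u₁ * u₂))) (gs j),
    QRegNoeth.isQuasiRegular_of_isWeaklyRegular _ hwr, hlist.symm⟩
  show i (pullback.fst i (φ.fiberι s) p) ∈ X.basicOpen (c * (u₁ * u₂))
  rw [hx']
  exact hxD

/-- fibrewise criterion: a closed subscheme, flat and locally finitely presented over the base,
of a flat locally finitely presented scheme, whose fibres are quasi-regularly immersed, is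
a relative quasi-regular immersion -/
theorem relQuasi_of_fibres {Z X S : Scheme.{u}} (φ : X ⟶ S) [Flat φ]
    [LocallyOfFinitePresentation φ] (i : Z ⟶ X) [IsClosedImmersion i] [Flat (i ≫ φ)]
    [LocallyOfFinitePresentation (i ≫ φ)]
    (hfib : ∀ s : S,
      RegImm.IsRegularImmersion RegImm.Kind.quasi (pullback.snd i (φ.fiberι s))) :
    RegImm.IsRelRegularImmersion RegImm.Kind.quasi φ i := by
  refine ⟨⟨inferInstance, fun t => ?_⟩, inferInstance⟩
  obtain ⟨p, hp1, -⟩ := Scheme.Pullback.exists_preimage_pullback (f := i)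
    (g := φ.fiberι (φ (i t))) t (φ.asFiber (i t)) (by rw [Scheme.Hom.fiberι_asFiber])
  exact regularAt_of_fibre φ i (φ (i t)) (hfib _) p t hp1

end Scheme

end Groth.Agent.Lib.Helper22.FibReg
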