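import Mathlib

/-!
# Flatness over Artinian local rings (helper22)

Universe-polymorphic versions of helper1's `FibreInj` four-lemma steps, and consequences over an
Artinian local ring (nilpotent maximal ideal).
-/

set_option autoImplicit false
universe u v w

namespace Groth.Agent.Lib.Helper22.ArtinFlat

open TensorProduct IsLocalRing

section general

variable {R : Type u} [CommRing R]
variable {M : Type v} {N : Type v} [AddCommGroup M] [Module R M] [AddCommGroup N] [Module R N]

/-- four lemma step: `Q ↦ Injective (lTensor Q u)` is closed under extensions (`M` flat). -/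
theorem lTensor_injective_of_exact (u : N →ₗ[R] M) [Module.Flat R M]
    {Q : Type w} [AddCommGroup Q] [Module R Q] (Q' : Submodule R Q)
    (h1 : Function.Injective (LinearMap.lTensor Q' u))
    (h2 : Function.Injective (LinearMap.lTensor (Q ⧸ Q') u)) :
    Function.Injective (LinearMap.lTensor Q u) := by
  rw [injective_iff_map_eq_zero]
  intro t ht
  have hex : Function.Exact Q'.subtype Q'.mkQ := by
    rw [LinearMap.exact_iff]; simp
  have hsurj : Function.Surjective Q'.mkQ := Submodule.mkQ_surjective _
  have h3 : LinearMap.rTensor N Q'.mkQ t = 0 := by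
    apply h2
    rw [map_zero, ← LinearMap.comp_apply, LinearMap.lTensor_comp_rTensor,
      ← LinearMap.rTensor_comp_lTensor, LinearMap.comp_apply, ht, map_zero]
  obtain ⟨t', rfl⟩ := (rTensor_exact N hex hsurj t).mp h3
  have h4 : LinearMap.lTensor Q' u t' = 0 := by
    have hinj : Function.Injective (LinearMap.rTensor M Q'.subtype) :=
      Module.Flat.rTensor_preserves_injective_linearMap _ Q'.injective_subtype
    apply hinj
    rw [map_zero, ← LinearMap.comp_apply, LinearMap.rTensor_comp_lTensor,
      ← LinearMap.lTensor_comp_rTensor, LinearMap.comp_apply, ht]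
  rw [h1 (h4.trans (map_zero _).symm), map_zero]

variable [IsLocalRing R]

/-- If `k ⊗ u` is injective then `Q ⊗ u` is injective for every `Q` killed by the maximal ideal. -/
theorem lTensor_injective_of_torsion (u : N →ₗ[R] M)
    (h : Function.Injective (LinearMap.lTensor (ResidueField R) u))
    (Q : Type w) [AddCommGroup Q] [Module R Q]
    (hQ : ∀ a ∈ maximalIdeal R, ∀ q : Q, a • q = 0) :
    Function.Injective (LinearMap.lTensor Q u) := by
  have hQ' : Module.IsTorsionBySet R Q (maximalIdeal R : Set R) := by
    intro q a
    exact hQ a.1 a.2 q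
  let _ : Module (ResidueField R) Q := hQ'.module
  have : IsScalarTower R (ResidueField R) Q := hQ'.isScalarTower
  let e := TensorProduct.AlgebraTensorModule.cancelBaseChange R (ResidueField R)
    (ResidueField R) Q N
  let e' := TensorProduct.AlgebraTensorModule.cancelBaseChange R (ResidueField R)
    (ResidueField R) Q M
  have hinj0 : Function.Injective (u.baseChange (ResidueField R)) := by
    have : ⇑(u.baseChange (ResidueField R)) = ⇑(LinearMap.lTensor (ResidueField R) u) :=
      LinearMap.baseChange_eq_ltensor _
    rw [this]; exact h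
  have hinj : Function.Injective (LinearMap.lTensor Q (u.baseChange (ResidueField R))) :=
    Module.Flat.lTensor_preserves_injective_linearMap _ hinj0
  have comm : ∀ t, LinearMap.lTensor Q u (e t) =
      e' (LinearMap.lTensor Q (u.baseChange (ResidueField R)) t) := by
    intro t
    induction t using TensorProduct.induction_on with
    | zero => simp
    | tmul q y =>
      induction y using TensorProduct.induction_on with
      | zero => simp
      | tmul c n => simp [e, e']
      | add y y' hy hy' => simp only [tmul_add, map_add, hy, hy']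
    | add t t' ht ht' => simp only [map_add, ht, ht']
  intro a b hab
  have h1 : e' (LinearMap.lTensor Q (u.baseChange (ResidueField R)) (e.symm a)) =
      e' (LinearMap.lTensor Q (u.baseChange (ResidueField R)) (e.symm b)) := by
    rw [← comm, ← comm]; simpa using hab
  exact e.symm.injective (hinj (e'.injective h1))

theorem lTensor_injective_of_pow_torsion (u : N →ₗ[R] M) [Module.Flat R M]
    (h : Function.Injective (LinearMap.lTensor (ResidueField R) u)) (n : ℕ) :
    ∀ (Q : Type w) [AddCommGroup Q] [Module R Q],
      (∀ a ∈ maximalIdeal R ^ n, ∀ q : Q, a • q = 0) →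
      Function.Injective (LinearMap.lTensor Q u) := by
  induction n with
  | zero =>
    intro Q _ _ hQ
    have : Subsingleton Q := ⟨fun a b => by
      have ha := hQ 1 (by simp) a
      have hb := hQ 1 (by simp) b
      rw [one_smul] at ha hb; rw [ha, hb]⟩
    have : Subsingleton (Q ⊗[R] N) := inferInstance
    exact Function.injective_of_subsingleton _
  | succ n ih =>
    intro Q _ _ hQ
    let Q' : Submodule R Q := (maximalIdeal R ^ n) • ⊤
    apply lTensor_injective_of_exact u Q'
    · apply lTensor_injective_of_torsion u h
      intro a ha q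
      obtain ⟨q, hq⟩ := q
      apply Subtype.ext
      show a • q = 0
      refine Submodule.smul_induction_on hq ?_ ?_
      · intro b hb x _
        rw [smul_smul]
        exact hQ (a * b) (by rw [pow_succ']; exact Ideal.mul_mem_mul ha hb) x
      · intro x y hx hy; rw [smul_add, hx, hy, add_zero]
    · apply ih
      intro a ha q
      obtain ⟨q, rfl⟩ := Submodule.mkQ_surjective _ q
      rw [← map_smul, Submodule.mkQ_apply, Submodule.Quotient.mk_eq_zero]
      exact Submodule.smul_mem_smul ha Submodule.mem_top

end general

section artin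

variable (A : Type u) [CommRing A] [IsLocalRing A] [IsArtinianRing A]

theorem exists_pow_maximalIdeal_eq_bot : ∃ n : ℕ, maximalIdeal A ^ n = ⊥ := by
  have h := IsArtinianRing.isNilpotent_jacobson_bot (R := A)
  rw [IsLocalRing.jacobson_eq_maximalIdeal (⊥ : Ideal A) bot_ne_top] at h
  obtain ⟨n, hn⟩ := h
  exact ⟨n, hn⟩

variable {A}
variable {P L : Type v} [AddCommGroup P] [Module A P] [AddCommGroup L] [Module A L]

/-- Over an Artinian local ring, `Q ⊗ h` is injective for all `Q` once `k ⊗ h` is (target flat). -/
theorem lTensor_injective_of_residue [Module.Flat A L] (h : P →ₗ[A] L)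
    (hk : Function.Injective (h.lTensor (ResidueField A)))
    (Q : Type w) [AddCommGroup Q] [Module A Q] : Function.Injective (h.lTensor Q) := by
  obtain ⟨n, hn⟩ := exists_pow_maximalIdeal_eq_bot A
  apply lTensor_injective_of_pow_torsion h hk n Q
  intro a ha q
  rw [hn, Ideal.mem_bot] at ha
  rw [ha, zero_smul]

theorem injective_of_residue [Module.Flat A L] (h : P →ₗ[A] L)
    (hk : Function.Injective (h.lTensor (ResidueField A))) : Function.Injective h := by
  have h1 := lTensor_injective_of_residue h hk A
  intro x y hxy
  have : (h.lTensor A) ((1 : A) ⊗ₜ x) = (h.lTensor A) ((1 : A) ⊗ₜ y) := by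
    rw [LinearMap.lTensor_tmul, LinearMap.lTensor_tmul, hxy]
  have h2 := h1 this
  have h3 := congrArg (TensorProduct.lid A P) h2
  simpa using h3

/-- Nakayama for a nilpotent maximal ideal: `L = W + 𝔪 L ⇒ W = L`. -/
theorem eq_top_of_sup_smul_eq_top (W : Submodule A L)
    (hW : W ⊔ maximalIdeal A • (⊤ : Submodule A L) = ⊤) : W = ⊤ := by
  obtain ⟨n, hn⟩ := exists_pow_maximalIdeal_eq_bot A
  have key : ∀ j : ℕ, W ⊔ (maximalIdeal A ^ j) • (⊤ : Submodule A L) = ⊤ := by
    intro j
    induction j with
    | zero => simp
    | succ j ih =>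
      have hstep : (maximalIdeal A ^ j) • (⊤ : Submodule A L) ≤
          W ⊔ (maximalIdeal A ^ (j + 1)) • (⊤ : Submodule A L) := by
        calc (maximalIdeal A ^ j) • (⊤ : Submodule A L)
            = (maximalIdeal A ^ j) • (W ⊔ maximalIdeal A • (⊤ : Submodule A L)) := by rw [hW]
          _ = (maximalIdeal A ^ j) • W ⊔ (maximalIdeal A ^ (j + 1)) • (⊤ : Submodule A L) := by
              rw [Submodule.smul_sup, ← Submodule.mul_smul, ← pow_succ]
          _ ≤ W ⊔ (maximalIdeal A ^ (j + 1)) • (⊤ : Submodule A L) :=
              sup_le (le_sup_of_le_left Submodule.smul_le_right) le_sup_right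
      apply le_antisymm le_top
      calc (⊤ : Submodule A L) = W ⊔ (maximalIdeal A ^ j) • (⊤ : Submodule A L) := ih.symm
        _ ≤ W ⊔ (maximalIdeal A ^ (j + 1)) • (⊤ : Submodule A L) := sup_le le_sup_left hstep
  have := key n
  rw [hn, Submodule.bot_smul, sup_bot_eq] at this
  exact this

theorem surjective_of_residue (h : P →ₗ[A] L)
    (hk : Function.Surjective (h.lTensor (ResidueField A))) : Function.Surjective h := by
  rw [← LinearMap.range_eq_top]
  apply eq_top_of_sup_smul_eq_top
  rw [eq_top_iff]
  intro l _
  obtain ⟨t, ht⟩ := hk ((1 : ResidueField A) ⊗ₜ l)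
  -- t = 1 ⊗ p
  have hrep : ∀ t : ResidueField A ⊗[A] P, ∃ p : P, (1 : ResidueField A) ⊗ₜ[A] p = t := by
    intro t
    induction t using TensorProduct.induction_on with
    | zero => exact ⟨0, by simp⟩
    | tmul q s =>
      obtain ⟨a, rfl⟩ := IsLocalRing.residue_surjective q
      refine ⟨a • s, ?_⟩
      rw [← TensorProduct.smul_tmul]
      congr 1
      rw [Algebra.smul_def, mul_one]
      rfl
    | add t t' ht ht' =>
      obtain ⟨x, rfl⟩ := ht
      obtain ⟨y, rfl⟩ := ht'
      exact ⟨x + y, by rw [TensorProduct.tmul_add]⟩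
  obtain ⟨p, rfl⟩ := hrep t
  rw [LinearMap.lTensor_tmul] at ht
  have h0 : (1 : A ⧸ maximalIdeal A) ⊗ₜ[A] (l - h p) = 0 := by
    rw [TensorProduct.tmul_sub, sub_eq_zero]
    exact ht.symm
  rw [← (TensorProduct.quotTensorEquivQuotSMul L (maximalIdeal A)).map_eq_zero_iff,
    TensorProduct.quotTensorEquivQuotSMul_mk_one_tmul, Submodule.Quotient.mk_eq_zero] at h0
  have : l = h p + (l - h p) := by abel
  rw [this]
  exact Submodule.add_mem _ (Submodule.mem_sup_left ⟨p, rfl⟩) (Submodule.mem_sup_right h0)

end artin

section ses

variable {R : Type u} [CommRing R]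
variable {M N P : Type v} [AddCommGroup M] [Module R M] [AddCommGroup N] [Module R N]
  [AddCommGroup P] [Module R P]

/-- `0 → M → N → P → 0` exact with `N` flat and `(R/I) ⊗ f` injective for all ideals `I`:
then `P` is flat. -/
theorem flat_of_exact_of_quotient_injective [Module.Flat R N] (f : M →ₗ[R] N) (g : N →ₗ[R] P)
    (hg : Function.Surjective g) (hfg : Function.Exact f g)
    (hq : ∀ I : Ideal R, Function.Injective (f.lTensor (R ⧸ I))) : Module.Flat R P := by
  rw [Module.Flat.iff_rTensor_injective']
  intro I
  rw [injective_iff_map_eq_zero]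
  intro x hx
  -- 1. lift x
  obtain ⟨y, rfl⟩ := LinearMap.lTensor_surjective I hg x
  -- 2.
  have h2 : (g.lTensor R) ((LinearMap.rTensor N I.subtype) y) = 0 := by
    rw [← LinearMap.comp_apply, LinearMap.lTensor_comp_rTensor, ← LinearMap.rTensor_comp_lTensor,
      LinearMap.comp_apply]
    exact hx
  obtain ⟨m', hm'⟩ := (lTensor_exact R hfg hg _).mp h2
  -- 3.
  have hex : Function.Exact I.subtype I.mkQ := by
    rw [LinearMap.exact_iff]; simp
  have h3 : (LinearMap.rTensor M I.mkQ) m' = 0 := by
    apply hq I
    rw [map_zero, ← LinearMap.comp_apply, LinearMap.lTensor_comp_rTensor,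
      ← LinearMap.rTensor_comp_lTensor, LinearMap.comp_apply, hm', ← LinearMap.comp_apply,
      ← LinearMap.rTensor_comp]
    have : I.mkQ ∘ₗ I.subtype = 0 := by
      ext a
      simp only [LinearMap.comp_apply, Submodule.subtype_apply, Submodule.mkQ_apply,
        LinearMap.zero_apply, Submodule.Quotient.mk_eq_zero]
      exact a.2
    rw [this, LinearMap.rTensor_zero, LinearMap.zero_apply]
  obtain ⟨z, hz⟩ := (rTensor_exact M hex (Submodule.mkQ_surjective _) _).mp h3
  -- 4.
  have h4 : (f.lTensor I) z = y := by
    apply Module.Flat.rTensor_preserves_injective_linearMap (M := N) I.subtype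
      I.injective_subtype
    rw [← LinearMap.comp_apply, LinearMap.rTensor_comp_lTensor, ← LinearMap.lTensor_comp_rTensor,
      LinearMap.comp_apply, hz, hm']
  -- 5.
  rw [← h4, ← LinearMap.comp_apply, ← LinearMap.lTensor_comp]
  have : g ∘ₗ f = 0 := by
    ext m; exact hfg.apply_apply_eq_zero m
  rw [this, LinearMap.lTensor_zero, LinearMap.zero_apply]

/-- `0 → M → N → P → 0` exact with `N` and `P` flat: then `M` is flat. -/
theorem flat_of_exact_of_flat_of_flat [Module.Flat R N] [Module.Flat R P] (f : M →ₗ[R] N)
    (g : N →ₗ[R] P) (hf : Function.Injective f) (hg : Function.Surjective g)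
    (hfg : Function.Exact f g) : Module.Flat R M := by
  rw [Module.Flat.iff_rTensor_injective']
  intro I
  have h1 : Function.Injective (f.lTensor I) :=
    LinearMap.lTensor_injective_of_exact_of_flat g hg f hf hfg I
  have h2 : Function.Injective (LinearMap.rTensor N I.subtype) :=
    Module.Flat.rTensor_preserves_injective_linearMap (M := N) I.subtype I.injective_subtype
  have h3 : Function.Injective ((LinearMap.rTensor N I.subtype) ∘ₗ (f.lTensor I)) :=
    h2.comp h1
  rw [LinearMap.rTensor_comp_lTensor, ← LinearMap.lTensor_comp_rTensor] at h3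
  exact Function.Injective.of_comp h3

end ses

end Groth.Agent.Lib.Helper22.ArtinFlat
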