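import Mathlib
import Groth.Prelude.Def_EGA4b
import Groth.Agent.Lib.Helper4.Sk
import Groth.Agent.Lib.Helper28.SuppLoc

/-!
# The `(S_1)` locus of a finite module is open
-/

set_option autoImplicit false
set_option linter.unusedSectionVars false
set_option linter.style.haveILetI false

universe u

namespace Groth.Agent.Lib.Helper22.S1Open

variable {A : Type u} [CommRing A] [IsNoetherianRing A] (M : Type u) [AddCommGroup M] [Module A M]
  [Module.Finite A M]

lemma comap_le (p : Ideal A) [p.IsPrime] (Q : Ideal (Localization.AtPrime p))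
    [hQ : Q.IsPrime] : Q.comap (algebraMap A (Localization.AtPrime p)) ≤ p :=
  (IsLocalization.AtPrime.orderIsoOfPrime (Localization.AtPrime p) p ⟨Q, hQ⟩).2.2

lemma map_comap' (p : Ideal A) [p.IsPrime] (Q : Ideal (Localization.AtPrime p)) :
    (Q.comap (algebraMap A (Localization.AtPrime p))).map
      (algebraMap A (Localization.AtPrime p)) = Q :=
  IsLocalization.map_comap p.primeCompl (Localization.AtPrime p) Q

lemma comap_map' (p q : Ideal A) [p.IsPrime] [hq : q.IsPrime] (hqp : q ≤ p) :
    (q.map (algebraMap A (Localization.AtPrime p))).comap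
      (algebraMap A (Localization.AtPrime p)) = q := by
  apply IsLocalization.comap_map_of_isPrime_disjoint p.primeCompl (Localization.AtPrime p) hq
  rw [Set.disjoint_left]
  intro x hx hxq
  exact hx (hqp hxq)

lemma map_isPrime' (p q : Ideal A) [p.IsPrime] [hq : q.IsPrime] (hqp : q ≤ p) :
    (q.map (algebraMap A (Localization.AtPrime p))).IsPrime := by
  apply IsLocalization.isPrime_of_isPrime_disjoint p.primeCompl (Localization.AtPrime p) q hq
  rw [Set.disjoint_left]
  intro x hx hxq
  exact hx (hqp hxq)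

/-- `(S_1)` at `p`: no embedded associated primes inside `p`. -/
theorem hasSkAt_one_iff (p : Ideal A) [p.IsPrime] :
    EGA4.HasSkAt 1 A M p ↔
      ∀ q ∈ associatedPrimes A M, q ≤ p → q ∈ (Module.annihilator A M).minimalPrimes := by
  unfold EGA4.HasSkAt
  rw [← Groth.Agent.Lib.Helper4.noEmbedded_iff_hasS1]
  set Ap := Localization.AtPrime p with hAp
  set Mp := LocalizedModule p.primeCompl M with hMp
  have hass : ∀ Q : Ideal Ap, Q ∈ associatedPrimes Ap Mp ↔
      Q.comap (algebraMap A Ap) ∈ associatedPrimes A M := by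
    intro Q
    rw [← Module.associatedPrimes.preimage_comap_associatedPrimes_eq_associatedPrimes_of_isLocalizedModule
      p.primeCompl Ap (LocalizedModule.mkLinearMap p.primeCompl M), Set.mem_preimage]
  have hsupp : ∀ (Q : Ideal Ap) [hQ : Q.IsPrime], Module.annihilator Ap Mp ≤ Q ↔
      Module.annihilator A M ≤ Q.comap (algebraMap A Ap) := by
    intro Q hQ
    have h1 := Groth.Agent.Lib.Helper28.mem_support_localizedModule_iff (M := M) p ⟨Q, hQ⟩
    rw [Module.mem_support_iff_of_finite, Module.mem_support_iff_of_finite] at h1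
    exact h1
  constructor
  · intro h q hq hqp
    haveI hqprime : q.IsPrime := hq.isPrime
    haveI := map_isPrime' p q hqp
    have hQass : q.map (algebraMap A Ap) ∈ associatedPrimes Ap Mp := by
      rw [hass, comap_map' p q hqp]
      exact hq
    have hQmin := h _ hQass
    refine ⟨⟨hqprime, ?_⟩, ?_⟩
    · have := (hsupp (q.map (algebraMap A Ap))).mp hQmin.1.2
      rwa [comap_map' p q hqp] at this
    · intro q' hq' hq'q
      haveI hq'prime : q'.IsPrime := hq'.1
      have hq'p : q' ≤ p := hq'q.trans hqp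
      haveI := map_isPrime' p q' hq'p
      have h1 : Module.annihilator Ap Mp ≤ q'.map (algebraMap A Ap) := by
        rw [hsupp, comap_map' p q' hq'p]
        exact hq'.2
      have h2 := hQmin.2 ⟨inferInstance, h1⟩ (Ideal.map_mono hq'q)
      have h3 := Ideal.comap_mono (f := algebraMap A Ap) h2
      rwa [comap_map' p q hqp, comap_map' p q' hq'p] at h3
  · intro h Q hQ
    haveI hQprime : Q.IsPrime := hQ.isPrime
    have hq := (hass Q).mp hQ
    have hqp := comap_le p Q
    have hqmin := h _ hq hqp
    refine ⟨⟨hQprime, ?_⟩, ?_⟩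
    · rw [hsupp]
      exact hqmin.1.2
    · intro Q' hQ' hQ'Q
      haveI hQ'prime : Q'.IsPrime := hQ'.1
      have h1 := (hsupp Q').mp hQ'.2
      have h2 := hqmin.2 ⟨Ideal.comap_isPrime _ _, h1⟩ (Ideal.comap_mono hQ'Q)
      have h3 := Ideal.map_mono (f := algebraMap A Ap) h2
      rwa [map_comap' p Q, map_comap' p Q'] at h3

theorem isOpen_hasSkAt_one :
    IsOpen {p : PrimeSpectrum A | EGA4.HasSkAt 1 A M p.asIdeal} := by
  have hfin : (associatedPrimes A M).Finite := associatedPrimes.finite A M
  set T : Set (Ideal A) :=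
    {q | q ∈ associatedPrimes A M ∧ q ∉ (Module.annihilator A M).minimalPrimes} with hT
  have hTfin : T.Finite := hfin.subset (fun q hq => hq.1)
  have hset : {p : PrimeSpectrum A | EGA4.HasSkAt 1 A M p.asIdeal} =
      (⋃ q ∈ T, PrimeSpectrum.zeroLocus (q : Set A))ᶜ := by
    ext p
    rw [Set.mem_setOf_eq, hasSkAt_one_iff, Set.mem_compl_iff, Set.mem_iUnion₂]
    constructor
    · rintro h ⟨q, hqT, hqp⟩
      rw [PrimeSpectrum.mem_zeroLocus, SetLike.coe_subset_coe] at hqp
      exact hqT.2 (h q hqT.1 hqp)
    · intro h q hq hqp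
      by_contra hmin
      exact h ⟨q, ⟨hq, hmin⟩, by rw [PrimeSpectrum.mem_zeroLocus, SetLike.coe_subset_coe]; exact hqp⟩
  rw [hset, isOpen_compl_iff]
  exact hTfin.isClosed_biUnion (fun q _ => PrimeSpectrum.isClosed_zeroLocus _)

end Groth.Agent.Lib.Helper22.S1Open
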