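import Mathlib
import Groth.Prelude.Def_Frob
import Groth.Prelude.Def_Flat

/-!
# Absolute and relative Frobenius: universal homeomorphism, integral, purely inseparable
(helper22)
-/

set_option autoImplicit false
universe u
open CategoryTheory CategoryTheory.Limits AlgebraicGeometry

namespace Groth.Agent.Lib.Helper22.Frob

open FrobSch

theorem universallyInjective_iff_inj_purelyInsep {X Y : Scheme.{u}} (f : X ⟶ Y) :
    UniversallyInjective f ↔
      Function.Injective f ∧ ∀ x, (f.residueFieldMap x).hom.IsPurelyInseparable :=
  (tfae_universallyInjective f).out 0 2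

theorem universallyInjective_iff_field {X Y : Scheme.{u}} (f : X ⟶ Y) :
    UniversallyInjective f ↔
      ∀ (K : Type u) [Field K], Function.Injective (fun g : Spec (.of K) ⟶ X ↦ g ≫ f) :=
  (tfae_universallyInjective f).out 0 1

/-- universally closed + surjective + universally injective ⇒ universal homeomorphism -/
theorem isUnivHomeo_of {X Y : Scheme.{u}} (f : X ⟶ Y) [UniversallyClosed f] [Surjective f]
    [UniversallyInjective f] : FlatMor.IsUnivHomeo f := by
  intro X' Y' i₁ i₂ f' h
  have h1 : UniversallyClosed f' := MorphismProperty.of_isPullback h.flip ‹_›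
  have h2 : Surjective f' := MorphismProperty.of_isPullback h.flip ‹_›
  have h3 : UniversallyInjective f' := MorphismProperty.of_isPullback h.flip ‹_›
  change IsHomeomorph f'
  rw [isHomeomorph_iff_continuous_isClosedMap_bijective]
  exact ⟨f'.continuous, f'.isClosedMap, f'.injective, f'.surjective⟩

section Abs

variable (p : ℕ) [Fact p.Prime] (X : Scheme.{u}) [IsCharP X p]

instance isAffineHom_frob : IsAffineHom (frob X p) := ⟨fun _ hU => hU⟩

instance isIntegralHom_frob : IsIntegralHom (frob X p) where
  isIntegral_app U _ := by
    intro s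
    let s' : Γ(X, U) := s
    refine ⟨Polynomial.X ^ p - Polynomial.C s',
      Polynomial.monic_X_pow_sub_C _ (Fact.out : p.Prime).ne_zero, ?_⟩
    rw [Polynomial.eval₂_sub, Polynomial.eval₂_pow, Polynomial.eval₂_X, Polynomial.eval₂_C]
    exact sub_self _

theorem frob_residueFieldMap_evaluation (x : X) (U : X.Opens) (hx : x ∈ U) (s : Γ(X, U)) :
    (frob X p).residueFieldMap x (X.evaluation U x hx s) = (X.evaluation U x hx s) ^ p := by
  refine (Scheme.evaluation_naturality_apply (frob X p) (V := U) x hx s).trans ?_
  change X.evaluation U x hx (s ^ p) = _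
  rw [map_pow]

theorem exists_evaluation_eq (x : X) (a : X.residueField x) :
    ∃ (U : X.Opens) (hx : x ∈ U) (s : Γ(X, U)), X.evaluation U x hx s = a := by
  obtain ⟨t, rfl⟩ := X.residue_surjective x a
  obtain ⟨U, hxU, s, rfl⟩ := X.presheaf.exists_germ_eq (x := x) t
  exact ⟨U, hxU, s, rfl⟩

theorem frob_residueFieldMap_apply (x : X) (a : X.residueField x) :
    (frob X p).residueFieldMap x a = a ^ p := by
  obtain ⟨U, hx, s, rfl⟩ := exists_evaluation_eq X x a
  exact frob_residueFieldMap_evaluation p X x U hx s

theorem charP_residueField (x : X) : CharP (X.residueField x) p := by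
  rw [CharP.charP_iff_prime_eq_zero (Fact.out : p.Prime)]
  have h := congrArg (X.Γevaluation x).hom (IsCharP.natCast_eq_zero (X := X) (p := p))
  simpa using h

theorem frob_residueFieldMap_isPurelyInseparable (x : X) :
    ((frob X p).residueFieldMap x).hom.IsPurelyInseparable := by
  have : CharP (X.residueField (frob X p x)) p := charP_residueField p X x
  algebraize [((frob X p).residueFieldMap x).hom]
  change IsPurelyInseparable (X.residueField (frob X p x)) (X.residueField x)
  have : ExpChar (X.residueField (frob X p x)) p := ExpChar.prime (Fact.out : p.Prime)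
  rw [isPurelyInseparable_iff_pow_mem _ p]
  intro a
  refine ⟨1, a, ?_⟩
  rw [pow_one]
  exact frob_residueFieldMap_apply p X x a

instance surjective_frob : Surjective (frob X p) := ⟨fun x => ⟨x, rfl⟩⟩

instance universallyInjective_frob : UniversallyInjective (frob X p) := by
  rw [universallyInjective_iff_inj_purelyInsep]
  exact ⟨fun _ _ h => h, frob_residueFieldMap_isPurelyInseparable p X⟩

theorem frob_isUnivHomeo : FlatMor.IsUnivHomeo (frob X p) := isUnivHomeo_of _

end Abs

section Rel

variable (p : ℕ) [Fact p.Prime] {X S : Scheme.{u}} [IsCharP S p] (f : X ⟶ S)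

instance isIntegralHom_relFrob : IsIntegralHom (relFrob f p) := by
  have : IsCharP X p := IsCharP.of_hom f p
  have h : IsIntegralHom (relFrob f p ≫ pullback.fst f (frob S p)) := by
    rw [relFrob_fst]; infer_instance
  exact IsIntegralHom.of_comp (relFrob f p) (pullback.fst f (frob S p))

instance universallyInjective_relFrob : UniversallyInjective (relFrob f p) := by
  have : IsCharP X p := IsCharP.of_hom f p
  have h : UniversallyInjective (relFrob f p ≫ pullback.fst f (frob S p)) := by
    rw [relFrob_fst]; infer_instance
  rw [universallyInjective_iff_field] at h ⊢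
  intro K _ g₁ g₂ hg
  apply h K
  simp only [← Category.assoc]
  exact congrArg (· ≫ pullback.fst f (frob S p)) hg

instance surjective_relFrob : Surjective (relFrob f p) := by
  have : IsCharP X p := IsCharP.of_hom f p
  constructor
  intro y
  refine ⟨pullback.fst f (frob S p) y, ?_⟩
  have hinj : UniversallyInjective (pullback.fst f (frob S p)) :=
    MorphismProperty.pullback_fst f (frob S p) inferInstance
  apply (pullback.fst f (frob S p)).injective
  rw [← Scheme.Hom.comp_apply, relFrob_fst]
  rfl

theorem relFrob_isUnivHomeo : FlatMor.IsUnivHomeo (relFrob f p) := isUnivHomeo_of _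

theorem relFrob_residueFieldMap_isPurelyInseparable (x : X) :
    ((relFrob f p).residueFieldMap x).hom.IsPurelyInseparable :=
  ((universallyInjective_iff_inj_purelyInsep (relFrob f p)).mp inferInstance).2 x

theorem relFrob_isFinite [LocallyOfFiniteType f] : IsFinite (relFrob f p) := by
  rw [IsFinite.iff_isIntegralHom_and_locallyOfFiniteType]
  refine ⟨inferInstance, ?_⟩
  have : LocallyOfFiniteType (relFrob f p ≫ pullback.snd f (frob S p)) := by
    rw [relFrob_snd]; infer_instance
  exact locallyOfFiniteType_of_comp (relFrob f p) (pullback.snd f (frob S p))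

end Rel

end Groth.Agent.Lib.Helper22.Frob
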