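import Mathlib
import Groth.Prelude.Def_CohB1

/-!
# Hilbert function of a hypersurface section (helper22)
-/

set_option autoImplicit false
set_option maxHeartbeats 800000

universe u

open Polynomial

namespace Groth.Agent.Lib.Helper22.HilbSection

section Poly

/-- the difference `P(X) - P(X - d)` has degree one less and leading coefficient `t d a`. -/
theorem natDegree_sub_taylor (P : ℚ[X]) (hP : 1 ≤ P.natDegree) (d : ℚ) (hd : d ≠ 0) :
    (P - taylor (-d) P).natDegree + 1 = P.natDegree ∧
      (P - taylor (-d) P).leadingCoeff = P.natDegree * d * P.leadingCoeff := by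
  set t := P.natDegree with ht
  set Q := P - taylor (-d) P with hQ
  have hP0 : P ≠ 0 := by
    intro h
    rw [h, natDegree_zero] at ht
    omega
  have hcoeff_ge : ∀ j, t ≤ j → Q.coeff j = 0 := by
    intro j hj
    rw [hQ, coeff_sub]
    rcases hj.lt_or_eq with h | h
    · rw [coeff_eq_zero_of_natDegree_lt h, coeff_eq_zero_of_natDegree_lt, sub_zero]
      rw [natDegree_taylor]
      exact h
    · rw [← h, ht, coeff_taylor_natDegree, coeff_natDegree, sub_self]
  have hle : Q.natDegree ≤ t - 1 := by
    rw [natDegree_le_iff_coeff_eq_zero]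
    intro N hN
    exact hcoeff_ge N (by omega)
  have hcoeff : Q.coeff (t - 1) = t * d * P.leadingCoeff := by
    rw [hQ, coeff_sub, taylor_coeff]
    have hdeg : (hasseDeriv (t - 1) P).natDegree < 2 := by
      have := natDegree_hasseDeriv_le P (t - 1)
      omega
    rw [eval_eq_sum_range' hdeg, Finset.sum_range_succ, Finset.sum_range_one, hasseDeriv_coeff,
      hasseDeriv_coeff]
    have e1 : 0 + (t - 1) = t - 1 := by omega
    have e2 : 1 + (t - 1) = t := by omega
    rw [e1, e2, Nat.choose_self, pow_zero, pow_one]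
    have e3 : t.choose (t - 1) = t := by
      have := Nat.choose_symm (n := t) (k := 1) (by omega)
      rw [this, Nat.choose_one_right]
    have e4 : P.coeff t = P.leadingCoeff := rfl
    rw [e3, e4]
    push_cast
    ring
  have hne : Q.coeff (t - 1) ≠ 0 := by
    rw [hcoeff]
    have h1 : (t : ℚ) ≠ 0 := by exact_mod_cast (by omega : t ≠ 0)
    exact mul_ne_zero (mul_ne_zero h1 hd) (leadingCoeff_ne_zero.2 hP0)
  have hdeg : Q.natDegree = t - 1 := natDegree_eq_of_le_of_coeff_ne_zero hle hne
  refine ⟨by omega, ?_⟩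
  rw [leadingCoeff, hdeg, hcoeff]

end Poly

section Dim

open MvPolynomial

variable {k : Type u} [Field k] {n : ℕ}

instance instFinPiece (m : ℕ) : Module.Finite k (CohB1.polyGrading n k m) :=
  Module.Finite.iff_fg.2 (homogeneousSubmodule_fg (Fin (n + 1)) k m)

/-- the degree `m` piece of an ideal. -/
noncomputable abbrev piece (I : Ideal (MvPolynomial (Fin (n + 1)) k)) (m : ℕ) :
    Submodule k (MvPolynomial (Fin (n + 1)) k) :=
  Submodule.restrictScalars k I ⊓ CohB1.polyGrading n k m

lemma mem_piece {I : Ideal (MvPolynomial (Fin (n + 1)) k)} {m : ℕ}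
    {x : MvPolynomial (Fin (n + 1)) k} : x ∈ piece I m ↔ x ∈ I ∧ x.IsHomogeneous m := by
  simp [piece, Submodule.mem_inf]

instance instFinPiece' (I : Ideal (MvPolynomial (Fin (n + 1)) k)) (m : ℕ) :
    Module.Finite k (piece I m) :=
  Submodule.finiteDimensional_of_le inf_le_right

lemma homogeneousComponent_mul_of_left (f g : MvPolynomial (Fin (n + 1)) k) (d m : ℕ)
    (hf : f.IsHomogeneous d) (hm : d ≤ m) :
    homogeneousComponent m (f * g) = f * homogeneousComponent (m - d) g := by
  have h := DirectSum.coe_decompose_mul_of_left_mem_of_le (𝒜 := CohB1.polyGrading n k)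
    (a := f) (b := g) (i := d) (n := m) hf hm
  have e1 : ∀ (φ : MvPolynomial (Fin (n + 1)) k) (i : ℕ),
      (DirectSum.decompose (CohB1.polyGrading n k) φ i : MvPolynomial (Fin (n + 1)) k) =
        homogeneousComponent i φ := fun φ i => MvPolynomial.decomposition.decompose'_apply φ i
  rw [e1, e1] at h
  exact h

theorem finrank_piece_sup (I : Ideal (MvPolynomial (Fin (n + 1)) k))
    (hIh : I.IsHomogeneous (CohB1.polyGrading n k)) [I.IsPrime]
    (f : MvPolynomial (Fin (n + 1)) k) (d : ℕ) (hf : f.IsHomogeneous d) (hfI : f ∉ I) (m : ℕ)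
    (hm : d ≤ m) :
    Module.finrank k (piece (I ⊔ Ideal.span {f}) m) + Module.finrank k (piece I (m - d)) =
      Module.finrank k (piece I m) + Module.finrank k (CohB1.polyGrading n k (m - d)) := by
  have hf0 : f ≠ 0 := fun h => hfI (h ▸ I.zero_mem)
  set μ : MvPolynomial (Fin (n + 1)) k →ₗ[k] MvPolynomial (Fin (n + 1)) k :=
    LinearMap.mulLeft k f with hμ
  have hμinj : Function.Injective μ := mul_right_injective₀ hf0
  have hμa : ∀ x, μ x = f * x := fun x => rfl
  set A := piece I m with hA
  set B := (CohB1.polyGrading n k (m - d)).map μ with hB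
  have hsup : A ⊔ B = piece (I ⊔ Ideal.span {f}) m := by
    apply le_antisymm
    · apply sup_le
      · intro x hx
        rw [mem_piece] at hx ⊢
        exact ⟨Ideal.mem_sup_left hx.1, hx.2⟩
      · rintro x ⟨g, hg, rfl⟩
        rw [mem_piece, hμa]
        refine ⟨Ideal.mem_sup_right (Ideal.mem_span_singleton'.2 ⟨g, mul_comm _ _⟩), ?_⟩
        have := hf.mul hg
        rwa [Nat.add_sub_cancel' hm] at this
    · intro x hx
      rw [mem_piece] at hx
      obtain ⟨i, hi, z, hz, rfl⟩ := Submodule.mem_sup.1 hx.1
      obtain ⟨g, rfl⟩ := Ideal.mem_span_singleton'.1 hz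
      have hx2 := hx.2
      have e1 : i + g * f = homogeneousComponent m i + f * homogeneousComponent (m - d) g := by
        conv_lhs => rw [← homogeneousComponent_eq_self hx2]
        rw [map_add, mul_comm g f, homogeneousComponent_mul_of_left f g d m hf hm]
      rw [e1]
      refine Submodule.add_mem_sup ?_ ?_
      · rw [hA, mem_piece]
        exact ⟨homogeneousComponent_mem_of_mem hIh hi m, homogeneousComponent_isHomogeneous m i⟩
      · exact ⟨homogeneousComponent (m - d) g, homogeneousComponent_isHomogeneous (m - d) g, rfl⟩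
  have hinf : A ⊓ B = (piece I (m - d)).map μ := by
    apply le_antisymm
    · rintro x ⟨hxA, g, hg, rfl⟩
      rw [hA] at hxA
      have hxA' := (mem_piece.1 hxA).1
      rw [hμa] at hxA'
      refine ⟨g, mem_piece.2 ⟨?_, hg⟩, rfl⟩
      exact (Ideal.IsPrime.mem_or_mem ‹I.IsPrime› hxA').resolve_left hfI
    · rintro x ⟨g, hg, rfl⟩
      rw [SetLike.mem_coe, mem_piece] at hg
      refine ⟨?_, g, hg.2, rfl⟩
      rw [hA, SetLike.mem_coe, mem_piece, hμa]
      refine ⟨I.mul_mem_left f hg.1, ?_⟩
      have := hf.mul hg.2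
      rwa [Nat.add_sub_cancel' hm] at this
  haveI : Module.Finite k A := instFinPiece' I m
  haveI : Module.Finite k B := by
    rw [hB]
    infer_instance
  have key := Submodule.finrank_sup_add_finrank_inf_eq A B
  rw [hsup, hinf] at key
  have e1 : Module.finrank k ((piece I (m - d)).map μ) = Module.finrank k (piece I (m - d)) :=
    (Submodule.equivMapOfInjective μ hμinj (piece I (m - d))).symm.finrank_eq
  have e2 : Module.finrank k B = Module.finrank k (CohB1.polyGrading n k (m - d)) :=
    (Submodule.equivMapOfInjective μ hμinj (CohB1.polyGrading n k (m - d))).symm.finrank_eq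
  rw [e1, e2] at key
  exact key

end Dim

end Groth.Agent.Lib.Helper22.HilbSection
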