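/-
Helper22 library: fibre criterion of flatness for essentially finitely presented local algebras
(bookkeeping around Helper14.LCF.flat_of_flat_of_flat_fibre).
-/
import Mathlib
import Groth.Agent.Lib.Helper14.LCF.FibreCrit
import Groth.Agent.Lib.Helper26.SpreadOut

set_option autoImplicit false
universe u

namespace Groth.Agent.Lib.Helper22.EssFP

/-- a local ring is its own localization at the maximal ideal. -/
theorem atPrime_self (S : Type*) [CommRing S] [IsLocalRing S] :
    IsLocalization.AtPrime S (IsLocalRing.maximalIdeal S) := by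
  refine IsLocalization.of_le_isUnit ?_
  intro x hx
  exact IsLocalRing.notMem_maximalIdeal.mp hx

/-- a local ring which is a localization of `A` is the localization of `A` at the contraction of
its maximal ideal. -/
theorem atPrime_of_isLocalization_of_isLocalRing {A S : Type*} [CommRing A] [CommRing S]
    [Algebra A S] (M : Submonoid A) [IsLocalization M S] [IsLocalRing S] :
    IsLocalization.AtPrime S ((IsLocalRing.maximalIdeal S).comap (algebraMap A S)) := by
  haveI := atPrime_self S
  exact IsLocalization.isLocalization_isLocalization_atPrime_isLocalization M S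
    (IsLocalRing.maximalIdeal S)

theorem atPrime_of_eq {A B : Type*} [CommRing A] [CommRing B] [Algebra A B] (P P' : Ideal A)
    [P.IsPrime] [P'.IsPrime] (h : P = P') [IsLocalization.AtPrime B P] :
    IsLocalization.AtPrime B P' := by
  subst h; infer_instance

/-- a finitely presented module over a localization `L = T⁻¹C` is the localization of a finitely
presented `C`-module. -/
theorem exists_fp_model {C L W : Type u} [CommRing C] [CommRing L] [Algebra C L]
    (T : Submonoid C) [IsLocalization T L] [AddCommGroup W] [Module L W] [Module C W]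
    [IsScalarTower C L W] [Module.FinitePresentation L W] :
    ∃ (N : Type u) (_ : AddCommGroup N) (_ : Module C N) (_ : Module.FinitePresentation C N)
      (f : N →ₗ[C] W), IsLocalizedModule T f := by
  classical
  obtain ⟨n, m, π, γ, hπ, hex⟩ := Module.FinitePresentation.exists_fin' L W
  let k : Fin m → (Fin n → L) := fun j => γ (Pi.single j 1)
  have hk : ∀ j, π (k j) = 0 := fun j => (hex _).mpr ⟨_, rfl⟩
  have hker : ∀ v, π v = 0 → v ∈ Submodule.span L (Set.range k) := by
    intro v hv
    obtain ⟨y, rfl⟩ := (hex v).mp hv
    rw [LinearMap.pi_apply_eq_sum_univ γ y]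
    refine Submodule.sum_mem _ fun j _ => Submodule.smul_mem _ _ (Submodule.subset_span ⟨j, ?_⟩)
    show γ (Pi.single j 1) = γ fun j' => if j = j' then 1 else 0
    congr 1
    funext j'
    simp [Pi.single_apply, eq_comm]
  let ι : (Fin n → C) →ₗ[C] (Fin n → L) := (Algebra.linearMap C L).compLeft (Fin n)
  have hι : ∀ v i, ι v i = algebraMap C L (v i) := fun _ _ => rfl
  obtain ⟨b, hb⟩ := IsLocalization.exist_integer_multiples_of_finite T
    (fun p : Fin m × Fin n => k p.1 p.2)
  have hb' : ∀ p : Fin m × Fin n, ∃ x, algebraMap C L x = (b : C) • k p.1 p.2 := fun p => hb p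
  choose c hc using hb'
  let cv : Fin m → (Fin n → C) := fun j i => c (j, i)
  have hcv : ∀ j, ι (cv j) = (b : C) • k j := fun j => funext fun i => hc (j, i)
  let K₀ : Submodule C (Fin n → C) := Submodule.span C (Set.range cv)
  let f₀ : (Fin n → C) →ₗ[C] W := (π.restrictScalars C).comp ι
  have hf₀ : ∀ v, f₀ v = π (ι v) := fun _ => rfl
  have hπC : ∀ (a : C) (v : Fin n → L), π (a • v) = a • π v := by
    intro a v
    rw [← algebraMap_smul L a v, map_smul, algebraMap_smul]
  have hK₀ : K₀ ≤ LinearMap.ker f₀ := by
    rw [Submodule.span_le]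
    rintro _ ⟨j, rfl⟩
    rw [SetLike.mem_coe, LinearMap.mem_ker, hf₀, hcv, hπC, hk, smul_zero]
  refine ⟨(Fin n → C) ⧸ K₀, inferInstance, inferInstance, ?_, K₀.liftQ f₀ hK₀, ?_⟩
  · exact Module.finitePresentation_of_free_of_surjective K₀.mkQ (Submodule.mkQ_surjective K₀)
      (by rw [Submodule.ker_mkQ]; exact Submodule.fg_span (Set.finite_range cv))
  · have hid : IsLocalizedModule T (LinearMap.id : W →ₗ[C] W) := isLocalizedModule_id T W L
    refine ⟨fun s => IsLocalizedModule.map_units (LinearMap.id : W →ₗ[C] W) s, ?_, ?_⟩
    · intro w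
      obtain ⟨v, rfl⟩ := hπ w
      obtain ⟨b', hb'⟩ := IsLocalization.exist_integer_multiples_of_finite T v
      have hb'' : ∀ i, ∃ x, algebraMap C L x = (b' : C) • v i := fun i => hb' i
      choose c' hc' using hb''
      refine ⟨(K₀.mkQ c', b'), ?_⟩
      show b' • π v = K₀.liftQ f₀ hK₀ (K₀.mkQ c')
      rw [Submodule.mkQ_apply, Submodule.liftQ_apply, hf₀]
      have h1 : ι c' = (b' : C) • v := funext fun i => hc' i
      rw [h1, hπC]
      rfl
    · intro x y hxy
      obtain ⟨x, rfl⟩ := K₀.mkQ_surjective x
      obtain ⟨y, rfl⟩ := K₀.mkQ_surjective y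
      have hz : π (ι (x - y)) = 0 := by
        have h2 := hxy
        simp only [Submodule.mkQ_apply, Submodule.liftQ_apply, hf₀] at h2
        rw [map_sub, map_sub, h2, sub_self]
      have hspan : Submodule.span L (Set.range k) ≤
          Submodule.span L (Set.range fun j => ι (cv j)) := by
        rw [Submodule.span_le]
        rintro _ ⟨j, rfl⟩
        obtain ⟨u, hu⟩ := IsLocalization.map_units L b
        have h3 : k j = (↑u⁻¹ : L) • ι (cv j) := by
          rw [hcv, ← algebraMap_smul L (b : C) (k j), ← hu, smul_smul, Units.inv_mul, one_smul]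
        rw [SetLike.mem_coe, h3]
        exact Submodule.smul_mem _ _ (Submodule.subset_span ⟨j, rfl⟩)
      obtain ⟨a, ha⟩ := (Submodule.mem_span_range_iff_exists_fun L).mp (hspan (hker _ hz))
      obtain ⟨s, hs⟩ := IsLocalization.exist_integer_multiples_of_finite T a
      have hs' : ∀ j, ∃ x, algebraMap C L x = (s : C) • a j := fun j => hs j
      choose α hα using hs'
      let yv : Fin n → C := (s : C) • (x - y) - ∑ j, α j • cv j
      have hyv : ι yv = 0 := by
        simp only [yv, map_sub, map_smul, map_sum]
        rw [map_sub] at ha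
        rw [← ha, Finset.smul_sum, sub_eq_zero]
        refine Finset.sum_congr rfl fun j _ => ?_
        rw [← algebraMap_smul L (α j) (ι (cv j)), hα j, smul_assoc]
      have hcomp : ∀ i, ∃ t : T, (t : C) * yv i = 0 := by
        intro i
        have h0 : algebraMap C L (yv i) = 0 := by rw [← hι, hyv]; rfl
        exact (IsLocalization.map_eq_zero_iff T L _).mp h0
      choose τ hτ using hcomp
      have hprod : ((∏ i, τ i : T) : C) • yv = 0 := by
        funext i
        rw [Pi.smul_apply, smul_eq_mul, Pi.zero_apply, Submonoid.coe_finset_prod,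
          ← Finset.prod_erase_mul _ _ (Finset.mem_univ i), mul_assoc, hτ i, mul_zero]
      have hmem : ((∏ i, τ i : T) : C) • ((s : C) • (x - y)) ∈ K₀ := by
        have h4 : (s : C) • (x - y) = yv + ∑ j, α j • cv j := by simp only [yv]; abel
        rw [h4, smul_add, hprod, zero_add]
        exact K₀.smul_mem _ (K₀.sum_mem fun j _ =>
          K₀.smul_mem _ (Submodule.subset_span ⟨j, rfl⟩))
      refine ⟨(∏ i, τ i) * s, ?_⟩
      rw [← sub_eq_zero, ← smul_sub, ← map_sub, Submonoid.smul_def, ← map_smul,
        Submodule.mkQ_apply, Submodule.Quotient.mk_eq_zero, Submonoid.coe_mul, mul_smul]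
      exact hmem

/-- **fibre criterion of flatness, essentially finitely presented local form**. -/
theorem flat_of_essFP {R S S' M S₀ T₀ : Type u} [CommRing R] [CommRing S] [CommRing S']
    [IsLocalRing R] [IsLocalRing S] [IsLocalRing S'] [Algebra R S] [Algebra S S'] [Algebra R S']
    [IsScalarTower R S S'] [IsLocalHom (algebraMap R S)] [IsLocalHom (algebraMap S S')]
    [CommRing S₀] [Algebra R S₀] [Algebra S₀ S] [IsScalarTower R S₀ S] (M₀ : Submonoid S₀)
    [Algebra.FinitePresentation R S₀] [IsLocalization M₀ S]
    [CommRing T₀] [Algebra R T₀] [Algebra T₀ S'] [IsScalarTower R T₀ S'] (M₀' : Submonoid T₀)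
    [Algebra.FinitePresentation R T₀] [IsLocalization M₀' S']
    [AddCommGroup M] [Module S' M] [Module S M] [Module R M] [IsScalarTower S S' M]
    [IsScalarTower R S' M] [IsScalarTower R S M] [Module.FinitePresentation S' M]
    [Module.Flat R M]
    (hfib : Module.Flat (S ⧸ (IsLocalRing.maximalIdeal R).map (algebraMap R S))
      (M ⧸ (IsLocalRing.maximalIdeal R).map (algebraMap R S) • (⊤ : Submodule S M))) :
    Module.Flat S M := by
  classical
  let φ : S₀ →ₐ[R] S' := (IsScalarTower.toAlgHom R S S').comp (IsScalarTower.toAlgHom R S₀ S)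
  have hφ : ∀ a, φ a = algebraMap S S' (algebraMap S₀ S a) := fun _ => rfl
  obtain ⟨t, ht, ψ, ρ, hρψ⟩ := Helper26.SpreadOut.exists_algHom_away (R := R) (S := S₀)
    (T := T₀) (L := S') M₀' φ
  letI algC : Algebra S₀ (Localization.Away t) := ψ.toRingHom.toAlgebra
  haveI : IsScalarTower R S₀ (Localization.Away t) :=
    IsScalarTower.of_algebraMap_eq' ψ.comp_algebraMap.symm
  letI algL : Algebra (Localization.Away t) S' := ρ.toRingHom.toAlgebra
  haveI : IsScalarTower T₀ (Localization.Away t) S' :=
    IsScalarTower.of_algebraMap_eq' ρ.comp_algebraMap.symm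
  haveI : Algebra.FinitePresentation T₀ (Localization.Away t) :=
    IsLocalization.Away.finitePresentation t
  haveI : Algebra.FinitePresentation R (Localization.Away t) :=
    Algebra.FinitePresentation.trans R T₀ _
  haveI : Algebra.FinitePresentation S₀ (Localization.Away t) :=
    Algebra.FinitePresentation.of_restrict_scalars_finitePresentation R S₀ _
  haveI hloc1 : IsLocalization (M₀'.map (algebraMap T₀ (Localization.Away t))) S' :=
    IsLocalization.isLocalization_of_submonoid_le (Localization.Away t) S'
      (Submonoid.powers t) M₀' (Submonoid.powers_le.mpr ht)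
  haveI hQ : IsLocalization.AtPrime S'
      ((IsLocalRing.maximalIdeal S').comap (algebraMap (Localization.Away t) S')) :=
    atPrime_of_isLocalization_of_isLocalRing (M₀'.map (algebraMap T₀ (Localization.Away t)))
  letI modC : Module (Localization.Away t) M :=
    Module.compHom M (algebraMap (Localization.Away t) S')
  haveI : IsScalarTower (Localization.Away t) S' M :=
    IsScalarTower.of_algebraMap_smul fun _ _ => rfl
  letI modS₀ : Module S₀ M := Module.compHom M (algebraMap S₀ S)
  haveI : IsScalarTower S₀ S M := IsScalarTower.of_algebraMap_smul fun _ _ => rfl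
  haveI : IsScalarTower S₀ (Localization.Away t) M :=
    IsScalarTower.of_algebraMap_smul fun a m => by
      show ρ (ψ a) • m = algebraMap S₀ S a • m
      rw [hρψ, hφ, algebraMap_smul]
  obtain ⟨N, _, _, _, f, hf⟩ := exists_fp_model (C := Localization.Away t) (L := S') (W := M)
    ((IsLocalRing.maximalIdeal S').comap (algebraMap (Localization.Away t) S')).primeCompl
  letI modN : Module S₀ N := Module.compHom N (algebraMap S₀ (Localization.Away t))
  haveI : IsScalarTower S₀ (Localization.Away t) N :=
    IsScalarTower.of_algebraMap_smul fun _ _ => rfl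
  have heq : (IsLocalRing.maximalIdeal S).comap (algebraMap S₀ S) =
      ((IsLocalRing.maximalIdeal S').comap (algebraMap (Localization.Away t) S')).comap
        (algebraMap S₀ (Localization.Away t)) := by
    ext x
    simp only [Ideal.mem_comap]
    show algebraMap S₀ S x ∈ IsLocalRing.maximalIdeal S ↔
      ρ (ψ x) ∈ IsLocalRing.maximalIdeal S'
    rw [hρψ, hφ, IsLocalRing.mem_maximalIdeal, IsLocalRing.mem_maximalIdeal, mem_nonunits_iff,
      mem_nonunits_iff, not_iff_not]
    exact (isUnit_map_iff (algebraMap S S') _).symm
  haveI hq0 : IsLocalization.AtPrime S ((IsLocalRing.maximalIdeal S).comap (algebraMap S₀ S)) :=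
    atPrime_of_isLocalization_of_isLocalRing M₀
  haveI hq : IsLocalization.AtPrime S
      (((IsLocalRing.maximalIdeal S').comap (algebraMap (Localization.Away t) S')).comap
        (algebraMap S₀ (Localization.Away t))) := atPrime_of_eq _ _ heq
  have h𝔪 : (IsLocalRing.maximalIdeal R).map (algebraMap R S) ≤
      (((IsLocalRing.maximalIdeal S').comap (algebraMap (Localization.Away t) S')).comap
        (algebraMap S₀ (Localization.Away t))).map (algebraMap S₀ S) := by
    rw [IsLocalization.AtPrime.map_eq_maximalIdeal
      (((IsLocalRing.maximalIdeal S').comap (algebraMap (Localization.Away t) S')).comap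
        (algebraMap S₀ (Localization.Away t))) S]
    have hloc : IsLocalHom (algebraMap R S) := inferInstance
    exact ((IsLocalRing.local_hom_TFAE (algebraMap R S)).out 0 2).mp hloc
  exact Helper14.LCF.flat_of_flat_of_flat_fibre (R := R) (B := S₀) (B' := S)
    (C := Localization.Away t) (N := N) (W := M)
    ((IsLocalRing.maximalIdeal S').comap (algebraMap (Localization.Away t) S')) f
    (IsLocalRing.maximalIdeal R) h𝔪 hfib

end Groth.Agent.Lib.Helper22.EssFP
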