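import Mathlib

/-!
# Lengths in six-term exact sequences; the snake sequence of multiplication by an element (helper22)
-/

set_option autoImplicit false

universe u

open Function

namespace Groth.Agent.Lib.Helper22.AssocLen

variable {R : Type*} [CommRing R]

lemma length_eq_range_add_range {A B C : Type*} [AddCommGroup A] [Module R A] [AddCommGroup B]
    [Module R B] [AddCommGroup C] [Module R C] (a : A →ₗ[R] B) (b : B →ₗ[R] C)
    (h : Exact a b) :
    Module.length R B = Module.length R (LinearMap.range a) + Module.length R (LinearMap.range b) := by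
  have hex : Exact (LinearMap.ker b).subtype b.rangeRestrict :=
    LinearMap.exact_iff.2 (by rw [LinearMap.ker_rangeRestrict, Submodule.range_subtype])
  have h1 := Module.length_eq_add_of_exact (LinearMap.ker b).subtype b.rangeRestrict
    (Submodule.injective_subtype _) (LinearMap.surjective_rangeRestrict b) hex
  rw [h1, LinearMap.exact_iff.1 h]

lemma length_eq_range_of_injective {A B : Type*} [AddCommGroup A] [Module R A] [AddCommGroup B]
    [Module R B] (a : A →ₗ[R] B) (h : Injective a) :
    Module.length R A = Module.length R (LinearMap.range a) :=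
  (LinearEquiv.ofInjective a h).length_eq

lemma length_eq_range_of_surjective {A B : Type*} [AddCommGroup A] [Module R A] [AddCommGroup B]
    [Module R B] (a : A →ₗ[R] B) (h : Surjective a) :
    Module.length R B = Module.length R (LinearMap.range a) := by
  rw [LinearMap.range_eq_top.2 h, Module.length_top]

/-- lengths in a six-term exact sequence `0 → X₁ → ⋯ → X₆ → 0`. -/
theorem six_term {X₁ X₂ X₃ X₄ X₅ X₆ : Type*}
    [AddCommGroup X₁] [Module R X₁] [AddCommGroup X₂] [Module R X₂] [AddCommGroup X₃] [Module R X₃]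
    [AddCommGroup X₄] [Module R X₄] [AddCommGroup X₅] [Module R X₅] [AddCommGroup X₆] [Module R X₆]
    (a₁ : X₁ →ₗ[R] X₂) (a₂ : X₂ →ₗ[R] X₃) (a₃ : X₃ →ₗ[R] X₄) (a₄ : X₄ →ₗ[R] X₅)
    (a₅ : X₅ →ₗ[R] X₆) (h0 : Injective a₁) (h12 : Exact a₁ a₂) (h23 : Exact a₂ a₃)
    (h34 : Exact a₃ a₄) (h45 : Exact a₄ a₅) (h6 : Surjective a₅) :
    Module.length R X₁ + Module.length R X₃ + Module.length R X₅ =
      Module.length R X₂ + Module.length R X₄ + Module.length R X₆ := by
  rw [length_eq_range_of_injective a₁ h0, length_eq_range_add_range a₁ a₂ h12,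
    length_eq_range_add_range a₂ a₃ h23, length_eq_range_add_range a₃ a₄ h34,
    length_eq_range_add_range a₄ a₅ h45, length_eq_range_of_surjective a₅ h6]
  ring

section Snake

variable (t : R) {N₁ N₂ N₃ : Type*} [AddCommGroup N₁] [Module R N₁] [AddCommGroup N₂] [Module R N₂]
  [AddCommGroup N₃] [Module R N₃]

/-- the kernel of multiplication by `t`. -/
abbrev Kt (t : R) (N : Type*) [AddCommGroup N] [Module R N] : Submodule R N :=
  LinearMap.ker (LinearMap.lsmul R N t)

/-- the cokernel of multiplication by `t`. -/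
abbrev Ct (t : R) (N : Type*) [AddCommGroup N] [Module R N] : Type _ :=
  N ⧸ LinearMap.range (LinearMap.lsmul R N t)

/-- **additivity of `ℓ(N/tN) - ℓ(N[t])` in short exact sequences**, in additive form. -/
theorem snake_length (f : N₁ →ₗ[R] N₂) (g : N₂ →ₗ[R] N₃) (hf : Injective f) (hg : Surjective g)
    (hfg : Exact f g) :
    Module.length R (Kt t N₁) + Module.length R (Kt t N₃) + Module.length R (Ct t N₂) =
      Module.length R (Kt t N₂) + Module.length R (Ct t N₁) + Module.length R (Ct t N₃) := by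
  have h₁ : f ∘ₗ LinearMap.lsmul R N₁ t = LinearMap.lsmul R N₂ t ∘ₗ f := by
    ext x; simp
  have h₂ : g ∘ₗ LinearMap.lsmul R N₂ t = LinearMap.lsmul R N₃ t ∘ₗ g := by
    ext x; simp
  let F₁ : Kt t N₁ →ₗ[R] Kt t N₂ := f.restrict (fun x hx => by
    have hx' : t • x = 0 := hx
    show t • f x = 0
    rw [← map_smul, hx', map_zero])
  let F₂ : Kt t N₂ →ₗ[R] Kt t N₃ := g.restrict (fun x hx => by
    have hx' : t • x = 0 := hx
    show t • g x = 0
    rw [← map_smul, hx', map_zero])
  let G₁ : Ct t N₁ →ₗ[R] Ct t N₂ := Submodule.mapQ _ _ f (by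
    rintro _ ⟨x, rfl⟩
    exact ⟨f x, by simp⟩)
  let G₂ : Ct t N₂ →ₗ[R] Ct t N₃ := Submodule.mapQ _ _ g (by
    rintro _ ⟨x, rfl⟩
    exact ⟨g x, by simp⟩)
  let δ := SnakeLemma.δ' (LinearMap.lsmul R N₁ t) (LinearMap.lsmul R N₂ t) (LinearMap.lsmul R N₃ t)
    f g hfg f g hfg h₁ h₂ (Kt t N₃).subtype (LinearMap.exact_subtype_ker_map _)
    (LinearMap.range (LinearMap.lsmul R N₁ t)).mkQ (LinearMap.exact_map_mkQ_range _) hg hf
  have e1 : Exact F₂ δ := SnakeLemma.exact_δ'_right (LinearMap.lsmul R N₁ t)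
    (LinearMap.lsmul R N₂ t) (LinearMap.lsmul R N₃ t)
    f g hfg f g hfg h₁ h₂ (Kt t N₂).subtype (LinearMap.exact_subtype_ker_map _)
    (Kt t N₃).subtype (LinearMap.exact_subtype_ker_map _)
    (LinearMap.range (LinearMap.lsmul R N₁ t)).mkQ (LinearMap.exact_map_mkQ_range _) hg hf F₂
    (by ext x; rfl) (Submodule.injective_subtype _)
  have e2 : Exact δ G₁ := SnakeLemma.exact_δ'_left (LinearMap.lsmul R N₁ t)
    (LinearMap.lsmul R N₂ t) (LinearMap.lsmul R N₃ t)
    f g hfg f g hfg h₁ h₂
    (Kt t N₃).subtype (LinearMap.exact_subtype_ker_map _)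
    (LinearMap.range (LinearMap.lsmul R N₁ t)).mkQ (LinearMap.exact_map_mkQ_range _)
    (LinearMap.range (LinearMap.lsmul R N₂ t)).mkQ (LinearMap.exact_map_mkQ_range _) hg hf G₁
    (by ext x; rfl) (Submodule.mkQ_surjective _)
  have e0 : Injective F₁ := by
    intro x y hxy
    apply Subtype.ext
    apply hf
    exact congrArg Subtype.val hxy
  have e12 : Exact F₁ F₂ := by
    intro y
    constructor
    · intro hy
      have hy' : g (y : N₂) = 0 := congrArg Subtype.val hy
      obtain ⟨x, hx⟩ := (hfg (y : N₂)).1 hy'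
      have hxt : t • x = 0 := by
        apply hf
        rw [map_smul, hx, map_zero]
        exact y.2
      exact ⟨⟨x, hxt⟩, Subtype.ext hx⟩
    · rintro ⟨x, rfl⟩
      apply Subtype.ext
      show g (f (x : N₁)) = 0
      exact hfg.apply_apply_eq_zero _
  have e45 : Exact G₁ G₂ := by
    intro y
    obtain ⟨y, rfl⟩ := Submodule.mkQ_surjective _ y
    constructor
    · intro hy
      have hy' : g y ∈ LinearMap.range (LinearMap.lsmul R N₃ t) := by
        have : Submodule.Quotient.mk (g y) =
            (0 : N₃ ⧸ LinearMap.range (LinearMap.lsmul R N₃ t)) := hy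
        exact (Submodule.Quotient.mk_eq_zero _).1 this
      obtain ⟨z, hz⟩ := hy'
      obtain ⟨x', rfl⟩ := hg z
      have h3 : g (y - t • x') = 0 := by
        rw [map_sub, map_smul]
        have : t • g x' = g y := hz
        rw [this, sub_self]
      obtain ⟨x, hx⟩ := (hfg _).1 h3
      refine ⟨Submodule.Quotient.mk x, ?_⟩
      show Submodule.Quotient.mk (f x) = Submodule.Quotient.mk y
      rw [hx, Submodule.Quotient.mk_sub]
      have : (Submodule.Quotient.mk (t • x') : N₂ ⧸ LinearMap.range (LinearMap.lsmul R N₂ t)) = 0 :=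
        (Submodule.Quotient.mk_eq_zero _).2 ⟨x', rfl⟩
      rw [this, sub_zero]
    · rintro ⟨x, hx⟩
      obtain ⟨x, rfl⟩ := Submodule.mkQ_surjective _ x
      have : Submodule.Quotient.mk (f x) = Submodule.mkQ _ y := hx
      rw [← this]
      show Submodule.Quotient.mk (g (f x)) = 0
      rw [hfg.apply_apply_eq_zero, Submodule.Quotient.mk_zero]
  have e6 : Surjective G₂ := by
    intro z
    obtain ⟨z, rfl⟩ := Submodule.mkQ_surjective _ z
    obtain ⟨y, rfl⟩ := hg z
    exact ⟨Submodule.Quotient.mk y, rfl⟩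
  exact six_term F₁ F₂ δ G₁ G₂ e0 e12 e1 e2 e45 e6

end Snake

end Groth.Agent.Lib.Helper22.AssocLen
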