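import Mathlib
import Groth.Agent.Lib.Helper22.AssocLen1

/-!
# Lengths of localizations at primes: additivity and the values on `B ⧸ q` (helper22)
-/

set_option autoImplicit false

universe u

open Function

namespace Groth.Agent.Lib.Helper22.AssocLen

variable {B : Type u} [CommRing B] (p : Ideal B) [p.IsPrime]

/-- the length of the localization of `N` at `p`. -/
noncomputable def lam (N : Type u) [AddCommGroup N] [Module B N] : ℕ∞ :=
  Module.length (Localization.AtPrime p) (LocalizedModule p.primeCompl N)

variable {N₁ N₂ N₃ : Type u} [AddCommGroup N₁] [Module B N₁] [AddCommGroup N₂] [Module B N₂]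
  [AddCommGroup N₃] [Module B N₃]

theorem lam_exact (f : N₁ →ₗ[B] N₂) (g : N₂ →ₗ[B] N₃) (hf : Injective f) (hg : Surjective g)
    (hfg : Exact f g) : lam p N₂ = lam p N₁ + lam p N₃ := by
  unfold lam
  refine Module.length_eq_add_of_exact (LocalizedModule.map p.primeCompl f)
    (LocalizedModule.map p.primeCompl g) (LocalizedModule.map_injective _ f hf)
    (LocalizedModule.map_surjective _ g hg) ?_
  exact LocalizedModule.map_exact p.primeCompl f g hfg

theorem lam_congr (e : N₁ ≃ₗ[B] N₂) : lam p N₁ = lam p N₂ := by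
  unfold lam
  exact (IsLocalizedModule.mapEquiv p.primeCompl (LocalizedModule.mkLinearMap p.primeCompl N₁)
    (LocalizedModule.mkLinearMap p.primeCompl N₂) (Localization.AtPrime p) e).length_eq

theorem lam_of_subsingleton [Subsingleton N₁] : lam p N₁ = 0 := by
  unfold lam
  exact Module.length_eq_zero

/-- `(B ⧸ q)_p = 0` when `q ⊄ p`. -/
theorem lam_quot_of_not_le (q : Ideal B) (h : ¬ q ≤ p) : lam p (B ⧸ q) = 0 := by
  unfold lam
  rw [Module.length_eq_zero_iff, LocalizedModule.subsingleton_iff]
  obtain ⟨s, hsq, hsp⟩ := Set.not_subset.1 h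
  intro x
  obtain ⟨b, rfl⟩ := Ideal.Quotient.mk_surjective x
  refine ⟨s, hsp, ?_⟩
  rw [← Ideal.Quotient.mk_eq_mk, ← Submodule.Quotient.mk_smul, Submodule.Quotient.mk_eq_zero]
  exact q.mul_mem_right b hsq

/-- `(B ⧸ p)_p` is the residue field, of length one. -/
theorem lam_quot_self : lam p (B ⧸ p) = 1 := by
  unfold lam
  rw [Module.length_eq_one_iff, isSimpleModule_iff_quot_maximal]
  refine ⟨IsLocalRing.maximalIdeal (Localization.AtPrime p), inferInstance, ?_⟩
  let x₀ : LocalizedModule p.primeCompl (B ⧸ p) := LocalizedModule.mk (1 : B ⧸ p) 1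
  let φ : Localization.AtPrime p →ₗ[Localization.AtPrime p] LocalizedModule p.primeCompl (B ⧸ p) :=
    LinearMap.toSpanSingleton (Localization.AtPrime p) (LocalizedModule p.primeCompl (B ⧸ p)) x₀
  have hφ : ∀ (b : B) (s : p.primeCompl), φ (Localization.mk b s) =
      LocalizedModule.mk (Ideal.Quotient.mk p b) s := by
    intro b s
    show (Localization.mk b s : Localization.AtPrime p) • (LocalizedModule.mk (1 : B ⧸ p)
      (1 : p.primeCompl) : LocalizedModule p.primeCompl (B ⧸ p)) = _
    rw [LocalizedModule.mk_smul_mk, mul_one]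
    congr 1
    rw [Algebra.smul_def, mul_one]
    rfl
  have hsurj : Surjective φ := by
    intro y
    induction y using LocalizedModule.induction_on with
    | h m s =>
      obtain ⟨b, rfl⟩ := Ideal.Quotient.mk_surjective m
      exact ⟨Localization.mk b s, hφ b s⟩
  have hker : LinearMap.ker φ = IsLocalRing.maximalIdeal (Localization.AtPrime p) := by
    have hle : IsLocalRing.maximalIdeal (Localization.AtPrime p) ≤ LinearMap.ker φ := by
      intro r hr
      obtain ⟨b, s, rfl⟩ := IsLocalization.exists_mk'_eq p.primeCompl r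
      rw [IsLocalization.AtPrime.mk'_mem_maximal_iff (Localization.AtPrime p) p] at hr
      rw [LinearMap.mem_ker, ← Localization.mk_eq_mk', hφ,
        Ideal.Quotient.eq_zero_iff_mem.2 hr, LocalizedModule.zero_mk]
    have hne : LinearMap.ker φ ≠ ⊤ := by
      intro htop
      have h1 : (1 : Localization.AtPrime p) ∈ LinearMap.ker φ := by rw [htop]; trivial
      rw [LinearMap.mem_ker, ← Localization.mk_one, hφ] at h1
      have h2 : (Ideal.Quotient.mk p 1) ∈
          LinearMap.ker (LocalizedModule.mkLinearMap p.primeCompl (B ⧸ p)) := h1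
      rw [LocalizedModule.mem_ker_mkLinearMap_iff] at h2
      obtain ⟨r, hr, hr0⟩ := h2
      apply hr
      show r ∈ p
      rw [← Ideal.Quotient.eq_zero_iff_mem]
      rw [← hr0, map_one, Algebra.smul_def, mul_one]
      rfl
    exact ((IsLocalRing.maximalIdeal.isMaximal _).eq_of_le hne hle).symm
  exact ⟨((Submodule.quotEquivOfEq _ _ hker).symm.trans
    (LinearMap.quotKerEquivOfSurjective φ hsurj)).symm⟩

end Groth.Agent.Lib.Helper22.AssocLen
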