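import Mathlib

/-!
# Graded modules over `ℕ`-graded algebras: sub- and quotient gradings, components of products
-/

set_option autoImplicit false
set_option linter.unusedSectionVars false
open DirectSum

namespace Groth.Agent.Lib.Helper22.HS

section grading

variable {A : Type*} [CommRing A] {S : Type*} [CommRing S] [Algebra A S]
  (𝒜 : ℕ → Submodule A S) [GradedAlgebra 𝒜]
  {M : Type*} [AddCommGroup M] [Module S M] [Module A M] [IsScalarTower A S M]
  (ℳ : ℕ → Submodule A M) [DirectSum.Decomposition ℳ] [SetLike.GradedSMul 𝒜 ℳ]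

include 𝒜 in
lemma smul_mem_graded {a : S} {i : ℕ} (ha : a ∈ 𝒜 i) {m : M} {j : ℕ} (hm : m ∈ ℳ j) :
    a • m ∈ ℳ (i + j) :=
  SetLike.GradedSMul.smul_mem ha hm

lemma decompose_smul_of_left_mem {a : S} {i : ℕ} (ha : a ∈ 𝒜 i) (m : M) (n : ℕ) :
    (decompose ℳ (a • m) (i + n) : M) = a • (decompose ℳ m n : M) := by
  classical
  conv_lhs => rw [← DirectSum.sum_support_decompose ℳ m, Finset.smul_sum, DirectSum.decompose_sum]
  rw [DFinsupp.finset_sum_apply, Submodule.coe_sum]
  by_cases hn : n ∈ (decompose ℳ m).support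
  · rw [Finset.sum_eq_single n]
    · rw [DirectSum.decompose_of_mem_same ℳ (smul_mem_graded 𝒜 ℳ ha (SetLike.coe_mem _))]
    · intro j _ hj
      rw [DirectSum.decompose_of_mem_ne ℳ (smul_mem_graded 𝒜 ℳ ha (SetLike.coe_mem _))
        (by omega : i + j ≠ i + n)]
    · intro h; exact absurd hn h
  · rw [DFinsupp.notMem_support_iff] at hn
    rw [hn, ZeroMemClass.coe_zero, smul_zero]
    refine Finset.sum_eq_zero fun j hj => ?_
    have hjn : j ≠ n := by
      rintro rfl
      exact (DFinsupp.mem_support_iff.1 hj) hn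
    rw [DirectSum.decompose_of_mem_ne ℳ (smul_mem_graded 𝒜 ℳ ha (SetLike.coe_mem _))
      (by omega : i + j ≠ i + n)]

lemma decompose_smul_of_left_mem_lt {a : S} {i : ℕ} (ha : a ∈ 𝒜 i) (m : M) {n : ℕ}
    (hn : n < i) : (decompose ℳ (a • m) n : M) = 0 := by
  classical
  conv_lhs => rw [← DirectSum.sum_support_decompose ℳ m, Finset.smul_sum, DirectSum.decompose_sum]
  rw [DFinsupp.finset_sum_apply, Submodule.coe_sum]
  refine Finset.sum_eq_zero fun j _ => ?_
  rw [DirectSum.decompose_of_mem_ne ℳ (smul_mem_graded 𝒜 ℳ ha (SetLike.coe_mem _))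
    (by omega : i + j ≠ n)]

lemma decompose_smul_of_right_mem (s : S) {j : ℕ} {m : M} (hm : m ∈ ℳ j) (n : ℕ) :
    (decompose ℳ (s • m) (n + j) : M) = (decompose 𝒜 s n : S) • m := by
  classical
  conv_lhs => rw [← DirectSum.sum_support_decompose 𝒜 s, Finset.sum_smul, DirectSum.decompose_sum]
  rw [DFinsupp.finset_sum_apply, Submodule.coe_sum]
  by_cases hn : n ∈ (decompose 𝒜 s).support
  · rw [Finset.sum_eq_single n]
    · rw [DirectSum.decompose_of_mem_same ℳ (smul_mem_graded 𝒜 ℳ (SetLike.coe_mem _) hm)]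
    · intro i _ hi
      rw [DirectSum.decompose_of_mem_ne ℳ (smul_mem_graded 𝒜 ℳ (SetLike.coe_mem _) hm)
        (by omega : i + j ≠ n + j)]
    · intro h; exact absurd hn h
  · rw [DFinsupp.notMem_support_iff] at hn
    rw [hn, ZeroMemClass.coe_zero, zero_smul]
    refine Finset.sum_eq_zero fun i hi => ?_
    have hin : i ≠ n := by
      rintro rfl
      exact (DFinsupp.mem_support_iff.1 hi) hn
    rw [DirectSum.decompose_of_mem_ne ℳ (smul_mem_graded 𝒜 ℳ (SetLike.coe_mem _) hm)
      (by omega : i + j ≠ n + j)]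

include 𝒜 in
lemma decompose_smul_of_right_mem_lt (s : S) {j : ℕ} {m : M} (hm : m ∈ ℳ j) {n : ℕ}
    (hn : n < j) : (decompose ℳ (s • m) n : M) = 0 := by
  classical
  conv_lhs => rw [← DirectSum.sum_support_decompose 𝒜 s, Finset.sum_smul, DirectSum.decompose_sum]
  rw [DFinsupp.finset_sum_apply, Submodule.coe_sum]
  refine Finset.sum_eq_zero fun i _ => ?_
  rw [DirectSum.decompose_of_mem_ne ℳ (smul_mem_graded 𝒜 ℳ (SetLike.coe_mem _) hm)
    (by omega : i + j ≠ n)]

end grading

section subquot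

variable {A : Type*} [CommRing A] {S : Type*} [CommRing S] [Algebra A S]
  {M : Type*} [AddCommGroup M] [Module S M] [Module A M] [IsScalarTower A S M]
  (ℳ : ℕ → Submodule A M) [DirectSum.Decomposition ℳ] (P : Submodule S M)

/-- homogeneous submodules. -/
def IsHomog : Prop := ∀ (n : ℕ) (m : M), m ∈ P → (decompose ℳ m n : M) ∈ P

/-- pieces of a submodule. -/
def subGr (n : ℕ) : Submodule A P := (ℳ n).comap (P.subtype.restrictScalars A)

/-- pieces of a quotient. -/
def quotGr (n : ℕ) : Submodule A (M ⧸ P) := (ℳ n).map (P.mkQ.restrictScalars A)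

lemma mem_subGr {n : ℕ} {x : P} : x ∈ subGr ℳ P n ↔ (x : M) ∈ ℳ n := Iff.rfl

lemma mem_quotGr {n : ℕ} {q : M ⧸ P} : q ∈ quotGr ℳ P n ↔ ∃ x ∈ ℳ n, P.mkQ x = q := Iff.rfl

lemma mkQ_mem_quotGr {n : ℕ} {x : M} (hx : x ∈ ℳ n) : P.mkQ x ∈ quotGr ℳ P n := ⟨x, hx, rfl⟩

theorem isInternal_quotGr (hP : IsHomog ℳ P) : DirectSum.IsInternal (quotGr ℳ P) := by
  classical
  constructor
  · rw [injective_iff_map_eq_zero]
    intro x hx
    have hrep : ∀ g, ∃ z ∈ ℳ g, P.mkQ z = (x g : M ⧸ P) := fun g => (x g).2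
    choose z hzg hzx using hrep
    have hsum : P.mkQ (∑ g ∈ x.support, z g) = 0 := by
      rw [map_sum]
      have h1 : ∑ g ∈ x.support, P.mkQ (z g) = DirectSum.coeAddMonoidHom (quotGr ℳ P) x := by
        rw [DirectSum.coeAddMonoidHom_eq_dfinsuppSum, DFinsupp.sum]
        exact Finset.sum_congr rfl fun g _ => hzx g
      rw [h1, hx]
    have hmemB : (∑ g ∈ x.support, z g) ∈ P := (Submodule.Quotient.mk_eq_zero _).mp hsum
    apply DFinsupp.ext
    intro g₀
    by_cases hg : g₀ ∈ x.support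
    · have hcomp : ((DirectSum.decompose ℳ (∑ g ∈ x.support, z g) g₀ : ℳ g₀) : M) = z g₀ := by
        rw [DirectSum.decompose_sum, DFinsupp.finset_sum_apply,
          Submodule.coe_sum, Finset.sum_eq_single g₀]
        · rw [DirectSum.decompose_of_mem_same ℳ (hzg g₀)]
        · intro g _ hne
          rw [DirectSum.decompose_of_mem_ne ℳ (hzg g) hne]
        · intro h
          exact absurd hg h
      have hz0 : z g₀ ∈ P := hcomp ▸ hP g₀ _ hmemB
      have h3 : (x g₀ : M ⧸ P) = 0 := by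
        rw [← hzx g₀]
        exact (Submodule.Quotient.mk_eq_zero _).mpr hz0
      exact Subtype.ext h3
    · rw [DFinsupp.notMem_support_iff] at hg
      rw [hg]
      rfl
  · intro h
    obtain ⟨z, rfl⟩ := Submodule.mkQ_surjective _ h
    refine ⟨∑ g ∈ (DirectSum.decompose ℳ z).support,
      DirectSum.of (fun g => quotGr ℳ P g) g ⟨P.mkQ (DirectSum.decompose ℳ z g : ℳ g),
        mkQ_mem_quotGr ℳ P (SetLike.coe_mem _)⟩, ?_⟩
    rw [map_sum]
    simp only [DirectSum.coeAddMonoidHom_of]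
    rw [← map_sum, DirectSum.sum_support_decompose ℳ z]

theorem isInternal_subGr (hP : IsHomog ℳ P) : DirectSum.IsInternal (subGr ℳ P) := by
  classical
  constructor
  · rw [injective_iff_map_eq_zero]
    intro y hy
    have hsum : ∑ g ∈ y.support, (((y g : ↥P) : M)) = 0 := by
      have h1 : DirectSum.coeAddMonoidHom (subGr ℳ P) y = ∑ g ∈ y.support, (y g : ↥P) := by
        rw [DirectSum.coeAddMonoidHom_eq_dfinsuppSum, DFinsupp.sum]
      rw [h1] at hy
      have h2 := congrArg (fun z : ↥P => (z : M)) hy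
      simpa using h2
    have hmem : ∀ g, (((y g : ↥P) : M)) ∈ ℳ g := fun g => (y g).2
    apply DFinsupp.ext
    intro g₀
    by_cases hg : g₀ ∈ y.support
    · have hcomp : ((DirectSum.decompose ℳ (∑ g ∈ y.support, (((y g : ↥P) : M))) g₀ : ℳ g₀) : M) =
          ((y g₀ : ↥P) : M) := by
        rw [DirectSum.decompose_sum, DFinsupp.finset_sum_apply,
          Submodule.coe_sum, Finset.sum_eq_single g₀]
        · rw [DirectSum.decompose_of_mem_same ℳ (hmem g₀)]
        · intro g _ hne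
          rw [DirectSum.decompose_of_mem_ne ℳ (hmem g) hne]
        · intro h
          exact absurd hg h
      rw [hsum, DirectSum.decompose_zero, DirectSum.zero_apply] at hcomp
      apply Subtype.ext
      apply Subtype.ext
      exact hcomp.symm
    · rw [DFinsupp.notMem_support_iff] at hg
      rw [hg]
      rfl
  · intro x
    refine ⟨∑ g ∈ (DirectSum.decompose ℳ (x : M)).support,
      DirectSum.of (fun g => subGr ℳ P g) g
        ⟨⟨(DirectSum.decompose ℳ (x : M) g : ℳ g), hP g _ x.2⟩,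
          (mem_subGr ℳ P).mpr (SetLike.coe_mem (DirectSum.decompose ℳ (x : M) g))⟩, ?_⟩
    rw [map_sum]
    simp only [DirectSum.coeAddMonoidHom_of]
    apply Subtype.ext
    rw [Submodule.coe_sum]
    exact DirectSum.sum_support_decompose ℳ (x : M)

variable (𝒜 : ℕ → Submodule A S) [GradedAlgebra 𝒜] [SetLike.GradedSMul 𝒜 ℳ]

instance quotGr_gradedSMul : SetLike.GradedSMul 𝒜 (quotGr ℳ P) where
  smul_mem := by
    rintro i j a _ ha ⟨m, hm, rfl⟩
    exact ⟨a • m, smul_mem_graded 𝒜 ℳ ha hm, by simp⟩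

instance subGr_gradedSMul : SetLike.GradedSMul 𝒜 (subGr ℳ P) where
  smul_mem := by
    intro i j a m ha hm
    exact smul_mem_graded 𝒜 ℳ ha ((mem_subGr ℳ P).1 hm)

end subquot

end Groth.Agent.Lib.Helper22.HS
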