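import Mathlib
import Groth.Agent.Lib.Helper22.HS1

/-!
# The graded free module `Fin t → S` over a graded ring `S`
-/

set_option autoImplicit false
set_option linter.unusedSectionVars false
open DirectSum

namespace Groth.Agent.Lib.Helper22.GrFree

open Groth.Agent.Lib.Helper22.HS

variable {A : Type*} [CommRing A] {S : Type*} [CommRing S] [Algebra A S]
  (𝒜 : ℕ → Submodule A S) [GradedAlgebra 𝒜] (t : ℕ)

/-- the degree `n` piece of the graded free module `Fin t → S`. -/
def piGr (n : ℕ) : Submodule A (Fin t → S) := Submodule.pi Set.univ (fun _ => 𝒜 n)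

lemma mem_piGr {n : ℕ} {v : Fin t → S} : v ∈ piGr 𝒜 t n ↔ ∀ j, v j ∈ 𝒜 n := by
  simp [piGr, Submodule.mem_pi]

/-- the degree `n` component of a vector. -/
def comp (n : ℕ) (v : Fin t → S) : Fin t → S := fun j => (decompose 𝒜 (v j) n : S)

lemma comp_apply (n : ℕ) (v : Fin t → S) (j : Fin t) :
    comp 𝒜 t n v j = (decompose 𝒜 (v j) n : S) := rfl

lemma comp_mem (n : ℕ) (v : Fin t → S) : comp 𝒜 t n v ∈ piGr 𝒜 t n :=
  (mem_piGr 𝒜 t).2 fun _ => SetLike.coe_mem _

lemma comp_add (n : ℕ) (v w : Fin t → S) : comp 𝒜 t n (v + w) = comp 𝒜 t n v + comp 𝒜 t n w := by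
  funext j
  simp [comp_apply, decompose_add]

lemma comp_zero (n : ℕ) : comp 𝒜 t n (0 : Fin t → S) = 0 := by
  funext j
  simp [comp_apply]

lemma comp_smul (n : ℕ) (a : A) (v : Fin t → S) : comp 𝒜 t n (a • v) = a • comp 𝒜 t n v := by
  funext j
  simp only [comp_apply, Pi.smul_apply, decompose_smul]
  rfl

lemma comp_sum {ι : Type*} (n : ℕ) (s : Finset ι) (f : ι → Fin t → S) :
    comp 𝒜 t n (∑ i ∈ s, f i) = ∑ i ∈ s, comp 𝒜 t n (f i) := by
  classical
  induction s using Finset.induction_on with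
  | empty => simp [comp_zero]
  | insert a s ha ih => rw [Finset.sum_insert ha, Finset.sum_insert ha, comp_add, ih]

lemma comp_of_mem_same {n : ℕ} {v : Fin t → S} (hv : v ∈ piGr 𝒜 t n) : comp 𝒜 t n v = v := by
  funext j
  exact decompose_of_mem_same 𝒜 ((mem_piGr 𝒜 t).1 hv j)

lemma comp_of_mem_ne {n m : ℕ} {v : Fin t → S} (hv : v ∈ piGr 𝒜 t n) (h : n ≠ m) :
    comp 𝒜 t m v = 0 := by
  funext j
  exact decompose_of_mem_ne 𝒜 ((mem_piGr 𝒜 t).1 hv j) h

/-- every vector is the finite sum of its components. -/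
lemma exists_sum_comp (v : Fin t → S) :
    ∃ T : Finset ℕ, v = ∑ n ∈ T, comp 𝒜 t n v ∧ ∀ n, n ∉ T → comp 𝒜 t n v = 0 := by
  classical
  refine ⟨Finset.univ.biUnion fun j => (decompose 𝒜 (v j)).support, ?_, ?_⟩
  · funext j
    rw [Finset.sum_apply]
    simp only [comp_apply]
    have h1 := DirectSum.sum_support_decompose 𝒜 (v j)
    rw [← Finset.sum_subset (s₁ := (decompose 𝒜 (v j)).support)]
    · exact h1.symm
    · intro n hn
      exact Finset.mem_biUnion.2 ⟨j, Finset.mem_univ _, hn⟩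
    · intro n _ hn
      rw [DFinsupp.notMem_support_iff] at hn
      rw [hn]
      rfl
  · intro n hn
    funext j
    have : n ∉ (decompose 𝒜 (v j)).support := fun h =>
      hn (Finset.mem_biUnion.2 ⟨j, Finset.mem_univ _, h⟩)
    rw [DFinsupp.notMem_support_iff] at this
    rw [comp_apply, this]
    rfl

theorem isInternal_piGr : DirectSum.IsInternal (piGr 𝒜 t) := by
  classical
  constructor
  · rw [injective_iff_map_eq_zero]
    intro x hx
    have hsum : ∑ g ∈ x.support, ((x g : Fin t → S)) = 0 := by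
      have h1 : DirectSum.coeAddMonoidHom (piGr 𝒜 t) x = ∑ g ∈ x.support, (x g : Fin t → S) := by
        rw [DirectSum.coeAddMonoidHom_eq_dfinsuppSum, DFinsupp.sum]
      rw [← h1, hx]
    apply DFinsupp.ext
    intro g₀
    by_cases hg : g₀ ∈ x.support
    · have hcomp : comp 𝒜 t g₀ (∑ g ∈ x.support, ((x g : Fin t → S))) = (x g₀ : Fin t → S) := by
        rw [comp_sum, Finset.sum_eq_single g₀]
        · exact comp_of_mem_same 𝒜 t (x g₀).2
        · intro g _ hne
          exact comp_of_mem_ne 𝒜 t (x g).2 hne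
        · intro h
          exact absurd hg h
      rw [hsum, comp_zero] at hcomp
      exact Subtype.ext hcomp.symm
    · rw [DFinsupp.notMem_support_iff] at hg
      rw [hg]
      rfl
  · intro v
    obtain ⟨T, hT, _⟩ := exists_sum_comp 𝒜 t v
    refine ⟨∑ n ∈ T, DirectSum.of (fun g => piGr 𝒜 t g) n ⟨comp 𝒜 t n v, comp_mem 𝒜 t n v⟩, ?_⟩
    rw [map_sum]
    simp only [DirectSum.coeAddMonoidHom_of]
    exact hT.symm

/-- the decomposition of the graded free module. -/
noncomputable instance piGrDecomposition : DirectSum.Decomposition (piGr 𝒜 t) :=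
  (isInternal_piGr 𝒜 t).chooseDecomposition

lemma decompose_piGr (v : Fin t → S) (n : ℕ) :
    ((decompose (piGr 𝒜 t) v n : piGr 𝒜 t n) : Fin t → S) = comp 𝒜 t n v := by
  classical
  obtain ⟨T, hT, hT0⟩ := exists_sum_comp 𝒜 t v
  conv_lhs => rw [hT]
  rw [DirectSum.decompose_sum, DFinsupp.finsetSum_apply, Submodule.coe_sum]
  by_cases hn : n ∈ T
  · rw [Finset.sum_eq_single n]
    · exact decompose_of_mem_same _ (comp_mem 𝒜 t n v)
    · intro m _ hne
      exact decompose_of_mem_ne _ (comp_mem 𝒜 t m v) hne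
    · intro h
      exact absurd hn h
  · rw [hT0 n hn]
    apply Finset.sum_eq_zero
    intro m hm
    have hne : m ≠ n := fun h => hn (h ▸ hm)
    exact decompose_of_mem_ne _ (comp_mem 𝒜 t m v) hne

instance piGr_gradedSMul : SetLike.GradedSMul 𝒜 (piGr 𝒜 t) where
  smul_mem := by
    intro i j a v ha hv
    rw [mem_piGr] at hv ⊢
    intro k
    rw [Pi.smul_apply, smul_eq_mul]
    exact SetLike.GradedMul.mul_mem ha (hv k)

lemma comp_smul_of_mem_one {a : S} (ha : a ∈ 𝒜 1) (v : Fin t → S) (n : ℕ) :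
    comp 𝒜 t (n + 1) (a • v) = a • comp 𝒜 t n v := by
  funext j
  simp only [comp_apply, Pi.smul_apply, smul_eq_mul]
  rw [DirectSum.coe_decompose_mul_of_left_mem_of_le 𝒜 ha (by omega : 1 ≤ n + 1)]
  simp

lemma comp_zero_smul_of_mem_one {a : S} (ha : a ∈ 𝒜 1) (v : Fin t → S) :
    comp 𝒜 t 0 (a • v) = 0 := by
  funext j
  simp only [comp_apply, Pi.smul_apply, smul_eq_mul, Pi.zero_apply]
  exact DirectSum.coe_decompose_mul_of_left_mem_of_not_le 𝒜 ha (by omega)

end Groth.Agent.Lib.Helper22.GrFree
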