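import Mathlib
import Groth.Agent.Lib.Helper22.HS1

/-!
# Standard graded algebras: finiteness of graded pieces
-/

set_option autoImplicit false
set_option linter.unusedSectionVars false
open DirectSum

namespace Groth.Agent.Lib.Helper22.HS

variable {A : Type*} [CommRing A] {S : Type*} [CommRing S] [Algebra A S]
  (𝒜 : ℕ → Submodule A S) [GradedAlgebra 𝒜]

/-- `S` is generated over (the image of) `A` by the degree-one elements `x j`. -/
structure StdGen {d : ℕ} (x : Fin d → S) : Prop where
  mem_one : ∀ j, x j ∈ 𝒜 1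
  zero : ∀ s ∈ 𝒜 0, ∃ a : A, algebraMap A S a = s
  irr_le : (HomogeneousIdeal.irrelevant 𝒜).toIdeal ≤ Ideal.span (Set.range x)

variable {𝒜} {d : ℕ} {x : Fin d → S} (hx : StdGen 𝒜 x)

include hx

lemma StdGen.exists_eq_sum {n : ℕ} {s : S} (hs : s ∈ 𝒜 (n + 1)) :
    ∃ t : Fin d → S, (∀ j, t j ∈ 𝒜 n) ∧ s = ∑ j, t j * x j := by
  classical
  have h1 : s ∈ (HomogeneousIdeal.irrelevant 𝒜).toIdeal := by
    change s ∈ HomogeneousIdeal.irrelevant 𝒜
    rw [HomogeneousIdeal.mem_irrelevant_iff, GradedRing.proj_apply,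
      DirectSum.decompose_of_mem_ne 𝒜 hs (by omega : n + 1 ≠ 0)]
  obtain ⟨c, hc⟩ := (Ideal.mem_span_range_iff_exists_fun).1 (hx.irr_le h1)
  refine ⟨fun j => (decompose 𝒜 (c j) n : S), fun j => SetLike.coe_mem _, ?_⟩
  have h2 : s = (decompose 𝒜 s (n + 1) : S) := (DirectSum.decompose_of_mem_same 𝒜 hs).symm
  rw [h2, ← hc, DirectSum.decompose_sum, DFinsupp.finset_sum_apply, Submodule.coe_sum]
  refine Finset.sum_congr rfl fun j _ => ?_
  rw [DirectSum.coe_decompose_mul_of_right_mem_of_le 𝒜 (hx.mem_one j) (by omega : 1 ≤ n + 1)]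
  simp

lemma StdGen.fg_piece (n : ℕ) : (𝒜 n).FG := by
  induction n with
  | zero =>
    have : 𝒜 0 = Submodule.span A {(1 : S)} := by
      apply le_antisymm
      · intro s hs
        obtain ⟨a, rfl⟩ := hx.zero s hs
        rw [Algebra.algebraMap_eq_smul_one]
        exact Submodule.smul_mem _ _ (Submodule.mem_span_singleton_self _)
      · rw [Submodule.span_singleton_le_iff_mem]
        exact SetLike.GradedOne.one_mem
    rw [this]
    exact Submodule.fg_span_singleton _
  | succ n ih =>
    have : 𝒜 (n + 1) = ⨆ j, (𝒜 n).map (LinearMap.mulRight A (x j)) := by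
      apply le_antisymm
      · intro s hs
        obtain ⟨t, ht, rfl⟩ := hx.exists_eq_sum hs
        refine Submodule.sum_mem _ fun j _ => ?_
        exact Submodule.mem_iSup_of_mem j ⟨t j, ht j, rfl⟩
      · refine iSup_le fun j => ?_
        rintro _ ⟨t, ht, rfl⟩
        exact SetLike.GradedMul.mul_mem ht (hx.mem_one j)
    rw [this]
    exact Submodule.fg_iSup _ fun j => ih.map _

variable {M : Type*} [AddCommGroup M] [Module S M] [Module A M] [IsScalarTower A S M]
  (ℳ : ℕ → Submodule A M) [DirectSum.Decomposition ℳ] [SetLike.GradedSMul 𝒜 ℳ]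

/-- the graded pieces of a finitely generated graded module are finitely generated. -/
theorem StdGen.fg_piece_module [Module.Finite S M] (n : ℕ) : (ℳ n).FG := by
  classical
  obtain ⟨G, hG⟩ := (Module.Finite.fg_top : (⊤ : Submodule S M).FG)
  set N : Submodule A M := ⨆ g ∈ G, ⨆ j ∈ Finset.range (n + 1),
    (𝒜 (n - j)).map ((LinearMap.toSpanSingleton S M (decompose ℳ g j : M)).restrictScalars A)
    with hN
  have hNfg : N.FG := by
    refine Submodule.fg_biSup _ _ fun g _ => Submodule.fg_biSup _ _ fun j _ => ?_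
    exact (hx.fg_piece (n - j)).map _
  have hNle : N ≤ ℳ n := by
    refine iSup₂_le fun g _ => iSup₂_le fun j hj => ?_
    rintro _ ⟨s, hs, rfl⟩
    have hjn : j ≤ n := by
      have := Finset.mem_range.1 hj
      omega
    have := smul_mem_graded 𝒜 ℳ hs (SetLike.coe_mem (decompose ℳ g j))
    rw [Nat.sub_add_cancel hjn] at this
    exact this
  have hkey : ∀ (c : S) (g : M), g ∈ G → (decompose ℳ (c • g) n : M) ∈ N := by
    intro c g hg
    conv => 
      arg 2
      rw [← DirectSum.sum_support_decompose ℳ g, Finset.smul_sum, DirectSum.decompose_sum]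
    rw [DFinsupp.finset_sum_apply, Submodule.coe_sum]
    refine Submodule.sum_mem _ fun j _ => ?_
    rcases le_or_gt j n with hjn | hjn
    · have h1 := decompose_smul_of_right_mem 𝒜 ℳ c (SetLike.coe_mem (decompose ℳ g j)) (n - j)
      rw [Nat.sub_add_cancel hjn] at h1
      rw [h1]
      refine Submodule.mem_iSup_of_mem g (Submodule.mem_iSup_of_mem hg
        (Submodule.mem_iSup_of_mem j (Submodule.mem_iSup_of_mem
          (Finset.mem_range.2 (by omega)) ?_)))
      exact ⟨_, SetLike.coe_mem _, rfl⟩
    · rw [decompose_smul_of_right_mem_lt 𝒜 ℳ c (SetLike.coe_mem (decompose ℳ g j)) hjn]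
      exact zero_mem _
  have hle : ℳ n ≤ N := by
    intro m hm
    have hm' : m ∈ Submodule.span S (G : Set M) := by rw [hG]; trivial
    obtain ⟨f, hf⟩ := Submodule.mem_span_finset'.1 hm'
    have h2 : m = (decompose ℳ m n : M) := (DirectSum.decompose_of_mem_same ℳ hm).symm
    rw [h2, ← hf, DirectSum.decompose_sum, DFinsupp.finset_sum_apply, Submodule.coe_sum]
    exact Submodule.sum_mem _ fun g _ => hkey _ _ g.2
  rw [le_antisymm hle hNle]
  exact hNfg

/-- if the `x j` annihilate a finitely generated graded module, it is concentrated in finitely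
many degrees. -/
theorem StdGen.piece_eq_bot_of_annihilates [Module.Finite S M]
    (hann : ∀ (j : Fin d) (m : M), x j • m = 0) : ∃ N : ℕ, ∀ n : ℕ, N ≤ n → ℳ n = ⊥ := by
  classical
  obtain ⟨G, hG⟩ := (Module.Finite.fg_top : (⊤ : Submodule S M).FG)
  set N : ℕ := (G.sup fun g => (decompose ℳ g).support.sup id) + 1 with hN
  have hirr : ∀ (s : S), s ∈ (HomogeneousIdeal.irrelevant 𝒜).toIdeal → ∀ m : M, s • m = 0 := by
    intro s hs m
    obtain ⟨c, rfl⟩ := (Ideal.mem_span_range_iff_exists_fun).1 (hx.irr_le hs)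
    rw [Finset.sum_smul]
    refine Finset.sum_eq_zero fun j _ => ?_
    rw [mul_smul, hann, smul_zero]
  have hall : ∀ m : M, ∀ n : ℕ, N ≤ n → (decompose ℳ m n : M) = 0 := by
    intro m
    have hm : m ∈ Submodule.span S (G : Set M) := by rw [hG]; trivial
    induction hm using Submodule.span_induction with
    | mem g hg =>
      intro n hn
      have : n ∉ (decompose ℳ g).support := by
        intro hmem
        have h1 : n ≤ (decompose ℳ g).support.sup id := Finset.le_sup (f := id) hmem
        have h2 : (decompose ℳ g).support.sup id ≤ G.sup fun g => (decompose ℳ g).support.sup id :=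
          Finset.le_sup (f := fun g => (decompose ℳ g).support.sup id) hg
        omega
      rw [DFinsupp.notMem_support_iff] at this
      rw [this]; rfl
    | zero => intro n _; rw [DirectSum.decompose_zero]; rfl
    | add a b _ _ ha hb =>
      intro n hn
      rw [DirectSum.decompose_add, DirectSum.add_apply, Submodule.coe_add, ha n hn, hb n hn,
        add_zero]
    | smul s m _ hm =>
      intro n hn
      obtain ⟨a, ha⟩ := hx.zero _ (SetLike.coe_mem (decompose 𝒜 s 0))
      have hs : s - (decompose 𝒜 s 0 : S) ∈ (HomogeneousIdeal.irrelevant 𝒜).toIdeal := by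
        change _ ∈ HomogeneousIdeal.irrelevant 𝒜
        rw [HomogeneousIdeal.mem_irrelevant_iff, GradedRing.proj_apply, DirectSum.decompose_sub,
          DirectSum.sub_apply, Submodule.coe_sub, DirectSum.decompose_coe, DirectSum.of_eq_same,
          sub_self]
      have h1 : s • m = a • m := by
        have := hirr _ hs m
        rw [sub_smul, sub_eq_zero] at this
        rw [this, ← ha, algebraMap_smul]
      rw [h1, DirectSum.decompose_smul, DirectSum.smul_apply, Submodule.coe_smul, hm n hn,
        smul_zero]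
  refine ⟨N, fun n hn => ?_⟩
  rw [eq_bot_iff]
  intro m hm
  rw [Submodule.mem_bot, ← DirectSum.decompose_of_mem_same ℳ hm]
  exact hall m n hn

end Groth.Agent.Lib.Helper22.HS
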