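import Mathlib

/-!
# Eventually polynomial functions `ℕ → G` (via iterated forward differences)
-/

set_option autoImplicit false
open fwdDiff Finset

namespace Groth.Agent.Lib.Helper22.HS

variable {G : Type*} [AddCommGroup G]

/-- `f` is eventually a numerical polynomial of degree `< e`: its `e`-th forward difference
vanishes eventually. -/
def EvPoly (e : ℕ) (f : ℕ → G) : Prop := ∃ N : ℕ, ∀ n : ℕ, N ≤ n → ((fwdDiff 1)^[e] f) n = 0

lemma EvPoly.cast {e e' : ℕ} (h : e = e') {f : ℕ → G} (hf : EvPoly e f) : EvPoly e' f := by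
  subst h; exact hf

lemma evPoly_zero_iff (f : ℕ → G) : EvPoly 0 f ↔ ∃ N : ℕ, ∀ n : ℕ, N ≤ n → f n = 0 := Iff.rfl

lemma evPoly_succ_iff (e : ℕ) (f : ℕ → G) : EvPoly (e + 1) f ↔ EvPoly e (fwdDiff 1 f) := by
  unfold EvPoly
  simp only [Function.iterate_succ_apply]

lemma fwdDiff_iter_sub (f g : ℕ → G) (e : ℕ) :
    (fwdDiff 1)^[e] (f - g) = (fwdDiff 1)^[e] f - (fwdDiff 1)^[e] g := by
  have h1 : f - g = f + (-1 : ℤ) • g := by
    ext n; simp [sub_eq_add_neg]
  rw [h1, fwdDiff_iter_add, fwdDiff_iter_const_smul]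
  ext n; simp [sub_eq_add_neg]

lemma EvPoly.sub {e : ℕ} {f g : ℕ → G} (hf : EvPoly e f) (hg : EvPoly e g) :
    EvPoly e (f - g) := by
  obtain ⟨N₁, h₁⟩ := hf
  obtain ⟨N₂, h₂⟩ := hg
  refine ⟨max N₁ N₂, fun n hn => ?_⟩
  rw [fwdDiff_iter_sub, Pi.sub_apply, h₁ n (le_trans (le_max_left _ _) hn),
    h₂ n (le_trans (le_max_right _ _) hn), sub_zero]

lemma fwdDiff_iter_shift (f : ℕ → G) (e : ℕ) (n : ℕ) :
    (fwdDiff 1)^[e] (fun m => f (m + 1)) n = (fwdDiff 1)^[e] f (n + 1) := by
  rw [fwdDiff_iter_eq_sum_shift, fwdDiff_iter_eq_sum_shift]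
  refine Finset.sum_congr rfl fun k _ => ?_
  simp only [smul_eq_mul, mul_one]
  congr 2
  omega

lemma EvPoly.shift {e : ℕ} {f : ℕ → G} (hf : EvPoly e f) : EvPoly e (fun m => f (m + 1)) := by
  obtain ⟨N, h⟩ := hf
  refine ⟨N, fun n hn => ?_⟩
  rw [fwdDiff_iter_shift]
  exact h _ (by omega)

lemma fwdDiff_iter_pred (f : ℕ → G) (e : ℕ) (n : ℕ) :
    (fwdDiff 1)^[e] (fun m => f (m - 1)) (n + 1) = (fwdDiff 1)^[e] f n := by
  rw [fwdDiff_iter_eq_sum_shift, fwdDiff_iter_eq_sum_shift]
  refine Finset.sum_congr rfl fun k _ => ?_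
  simp only [smul_eq_mul, mul_one]
  congr 2
  omega

lemma EvPoly.pred {e : ℕ} {f : ℕ → G} (hf : EvPoly e f) : EvPoly e (fun m => f (m - 1)) := by
  obtain ⟨N, h⟩ := hf
  refine ⟨N + 1, fun n hn => ?_⟩
  obtain ⟨m, rfl⟩ : ∃ m, n = m + 1 := ⟨n - 1, by omega⟩
  rw [fwdDiff_iter_pred]
  exact h _ (by omega)

/-- if `Δ f` and `Δ g` agree from `N` on, then `f - g` is constant from `N` on. -/
lemma eq_add_of_fwdDiff_eq {f g : ℕ → G} {N : ℕ}
    (h : ∀ n, N ≤ n → f (n + 1) - f n = g (n + 1) - g n) :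
    ∀ n, N ≤ n → f n = (f N - g N) + g n := by
  intro n hn
  induction n, hn using Nat.le_induction with
  | base => abel
  | succ n hn ih =>
    have := h n hn
    have h2 : f (n + 1) = f n + (g (n + 1) - g n) := by rw [← this]; abel
    rw [h2, ih]
    abel

/-- **binomial basis `C(n,k)`.** -/
theorem EvPoly.exists_choose : ∀ (e : ℕ) (f : ℕ → G), EvPoly e f →
    ∃ (a : Fin e → G) (N : ℕ), ∀ n : ℕ, N ≤ n → f n = ∑ k : Fin e, (n.choose (k : ℕ)) • a k := by
  intro e
  induction e with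
  | zero =>
    intro f hf
    obtain ⟨N, h⟩ := (evPoly_zero_iff f).1 hf
    exact ⟨Fin.elim0, N, fun n hn => by simpa using h n hn⟩
  | succ e ih =>
    intro f hf
    obtain ⟨a, N, h⟩ := ih _ ((evPoly_succ_iff e f).1 hf)
    set g : ℕ → G := fun n => ∑ k : Fin e, (n.choose ((k : ℕ) + 1)) • a k with hg
    have hΔ : ∀ n, N ≤ n → f (n + 1) - f n = g (n + 1) - g n := by
      intro n hn
      have h1 := h n hn
      simp only [fwdDiff] at h1
      rw [h1, hg]
      simp only
      rw [← Finset.sum_sub_distrib]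
      refine Finset.sum_congr rfl fun k _ => ?_
      rw [Nat.choose_succ_succ, add_smul]
      abel
    have h2 := eq_add_of_fwdDiff_eq hΔ
    refine ⟨Fin.cons (f N - g N) a, N, fun n hn => ?_⟩
    rw [h2 n hn, Fin.sum_univ_succ]
    simp only [Fin.val_zero, Nat.choose_zero_right, one_smul, Fin.cons_zero, Fin.val_succ,
      Fin.cons_succ, hg]

/-- **binomial basis `C(n+k,k)`.** -/
theorem EvPoly.exists_choose_add : ∀ (e : ℕ) (f : ℕ → G), EvPoly e f →
    ∃ (c : Fin e → G) (N : ℕ), ∀ n : ℕ, N ≤ n →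
      f n = ∑ k : Fin e, ((n + (k : ℕ)).choose (k : ℕ)) • c k := by
  intro e
  induction e with
  | zero =>
    intro f hf
    obtain ⟨N, h⟩ := (evPoly_zero_iff f).1 hf
    exact ⟨Fin.elim0, N, fun n hn => by simpa using h n hn⟩
  | succ e ih =>
    intro f hf
    have hF : EvPoly e (fun m => (fwdDiff 1 f) (m - 1)) := ((evPoly_succ_iff e f).1 hf).pred
    obtain ⟨c, N, h⟩ := ih _ hF
    set g : ℕ → G := fun n => ∑ k : Fin e, ((n + ((k : ℕ) + 1)).choose ((k : ℕ) + 1)) • c k
      with hg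
    have hΔ : ∀ n, N ≤ n → f (n + 1) - f n = g (n + 1) - g n := by
      intro n hn
      have h1 := h (n + 1) (by omega)
      simp only [fwdDiff, Nat.add_sub_cancel] at h1
      rw [h1, hg]
      simp only
      rw [← Finset.sum_sub_distrib]
      refine Finset.sum_congr rfl fun k _ => ?_
      have : n + 1 + ((k : ℕ) + 1) = (n + 1 + (k : ℕ)) + 1 := by omega
      rw [this, Nat.choose_succ_succ, add_smul]
      have h3 : n + ((k : ℕ) + 1) = n + 1 + (k : ℕ) := by omega
      rw [h3]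
      abel
    have h2 := eq_add_of_fwdDiff_eq hΔ
    refine ⟨Fin.cons (f N - g N) c, N, fun n hn => ?_⟩
    rw [h2 n hn, Fin.sum_univ_succ]
    simp only [Fin.val_zero, Nat.choose_zero_right, one_smul, Fin.cons_zero, Fin.val_succ,
      Fin.cons_succ, hg, add_zero]

section bounds

lemma fwdDiff_iter_sub_shift (f : ℕ → G) (e m : ℕ) (n : ℕ) :
    (fwdDiff 1)^[e] (fun j => f (j - m)) (n + m) = (fwdDiff 1)^[e] f n := by
  rw [fwdDiff_iter_eq_sum_shift, fwdDiff_iter_eq_sum_shift]
  refine Finset.sum_congr rfl fun k _ => ?_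
  simp only [smul_eq_mul, mul_one]
  congr 2
  omega

/-- if the `e`-th difference of an integer sequence is eventually a negative constant, the
sequence is eventually negative. -/
lemma neg_of_fwdDiff_iter_neg : ∀ (e : ℕ) (w : ℕ → ℤ) (N : ℕ) (c : ℤ), c < 0 →
    (∀ n, N ≤ n → (fwdDiff 1)^[e] w n = c) → ∃ N', ∀ n, N' ≤ n → w n < 0 := by
  intro e
  induction e with
  | zero =>
    intro w N c hc h
    exact ⟨N, fun n hn => by have := h n hn; simp only [Function.iterate_zero, id_eq] at this; omega⟩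
  | succ e ih =>
    intro w N c hc h
    obtain ⟨N₁, h₁⟩ := ih (fwdDiff 1 w) N c hc (fun n hn => by
      have := h n hn
      rwa [Function.iterate_succ_apply] at this)
    have h2 : ∀ n, N₁ ≤ n → w n ≤ w N₁ - ((n - N₁ : ℕ) : ℤ) := by
      intro n hn
      induction n, hn using Nat.le_induction with
      | base => simp
      | succ n hn ih2 =>
        have h3 := h₁ n hn
        simp only [fwdDiff] at h3
        have : ((n + 1 - N₁ : ℕ) : ℤ) = ((n - N₁ : ℕ) : ℤ) + 1 := by
          have : n + 1 - N₁ = (n - N₁) + 1 := by omega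
          rw [this]; push_cast; ring
        rw [this]
        omega
    refine ⟨N₁ + (w N₁).toNat + 1, fun n hn => ?_⟩
    have h4 := h2 n (by omega)
    have h5 : ((n - N₁ : ℕ) : ℤ) ≥ (w N₁).toNat + 1 := by
      have : n - N₁ ≥ (w N₁).toNat + 1 := by omega
      exact_mod_cast this
    have h6 : w N₁ ≤ (w N₁).toNat := Int.self_le_toNat _
    omega

/-- a nonnegative integer sequence which is eventually polynomial of degree `≤ e` and bounded by
one which is eventually polynomial of degree `< e` is itself eventually polynomial of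
degree `< e`. -/
theorem EvPoly.of_bounds {e : ℕ} {f g : ℕ → ℤ} (hf : EvPoly (e + 1) f) (hg : EvPoly e g)
    (N₀ : ℕ) (hb : ∀ n, N₀ ≤ n → 0 ≤ f n ∧ f n ≤ g n) : EvPoly e f := by
  obtain ⟨N, hN⟩ := hf
  obtain ⟨Ng, hNg⟩ := hg
  set h : ℕ → ℤ := (fwdDiff 1)^[e] f with hh
  have hconst : ∀ n, N ≤ n → h n = h N := by
    intro n hn
    induction n, hn using Nat.le_induction with
    | base => rfl
    | succ n hn ih =>
      have := hN n hn
      rw [Function.iterate_succ_apply'] at this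
      simp only [fwdDiff] at this
      rw [← ih]
      exact sub_eq_zero.1 this
  rcases lt_trichotomy (h N) 0 with hc | hc | hc
  · obtain ⟨N', hN'⟩ := neg_of_fwdDiff_iter_neg e f N (h N) hc hconst
    have h1 := hN' (max N' N₀) (le_max_left _ _)
    have h2 := (hb (max N' N₀) (le_max_right _ _)).1
    omega
  · exact ⟨N, fun n hn => by rw [← hh, hconst n hn, hc]⟩
  · have hu : ∀ n, max N Ng ≤ n → (fwdDiff 1)^[e] (g - f) n = - h N := by
      intro n hn
      rw [fwdDiff_iter_sub, Pi.sub_apply, hNg n (le_trans (le_max_right _ _) hn), ← hh,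
        hconst n (le_trans (le_max_left _ _) hn), zero_sub]
    obtain ⟨N', hN'⟩ := neg_of_fwdDiff_iter_neg e (g - f) _ (- h N) (by omega) hu
    have h1 := hN' (max N' N₀) (le_max_left _ _)
    have h2 := (hb (max N' N₀) (le_max_right _ _)).2
    simp only [Pi.sub_apply] at h1
    omega

/-- `n ↦ b n - b (n - m)` is eventually polynomial of one degree less. -/
theorem EvPoly.sub_shift {e : ℕ} {b : ℕ → ℤ} (hb : EvPoly (e + 1) b) (m : ℕ) :
    EvPoly e (fun n => b n - b (n - m)) := by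
  obtain ⟨N, hN⟩ := hb
  set h : ℕ → ℤ := (fwdDiff 1)^[e] b with hh
  have hconst : ∀ n, N ≤ n → h n = h N := by
    intro n hn
    induction n, hn using Nat.le_induction with
    | base => rfl
    | succ n hn ih =>
      have := hN n hn
      rw [Function.iterate_succ_apply'] at this
      simp only [fwdDiff] at this
      rw [← ih]
      exact sub_eq_zero.1 this
  refine ⟨N + m, fun n hn => ?_⟩
  have h1 : (fun n => b n - b (n - m)) = b - (fun j => b (j - m)) := rfl
  rw [h1, fwdDiff_iter_sub, Pi.sub_apply]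
  obtain ⟨n', rfl⟩ : ∃ n', n = n' + m := ⟨n - m, by omega⟩
  rw [fwdDiff_iter_sub_shift, ← hh, hconst (n' + m) (by omega), hconst n' (by omega), sub_self]

end bounds

end Groth.Agent.Lib.Helper22.HS
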