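import Mathlib
import Groth.Agent.Lib.Helper22.HS2
import Groth.Agent.Lib.Helper22.HS3

/-!
# The Hilbert–Serre theorem for additive functions on standard graded modules
-/

set_option autoImplicit false
set_option linter.unusedSectionVars false
open DirectSum

universe u

namespace Groth.Agent.Lib.Helper22.HS

variable {A : Type u} [CommRing A] {G : Type*} [AddCommGroup G]

/-- additive functions on finite `A`-modules. -/
def IsAdditive (lam : ∀ (X : Type u) [AddCommGroup X] [Module A X], G) : Prop :=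
  ∀ (X Y Z : Type u) [AddCommGroup X] [Module A X] [AddCommGroup Y] [Module A Y]
    [AddCommGroup Z] [Module A Z] [Module.Finite A X] [Module.Finite A Y] [Module.Finite A Z]
    (f : X →ₗ[A] Y) (g : Y →ₗ[A] Z), Function.Injective f → Function.Surjective g →
    Function.Exact f g → lam Y = lam X + lam Z

lemma IsAdditive.eq_zero {lam : ∀ (X : Type u) [AddCommGroup X] [Module A X], G}
    (hlam : IsAdditive lam) (X : Type u) [AddCommGroup X] [Module A X] [Subsingleton X] :
    lam X = 0 := by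
  have h := hlam X X X (0 : X →ₗ[A] X) (0 : X →ₗ[A] X)
    (fun a b _ => Subsingleton.elim a b) (fun a => ⟨a, Subsingleton.elim _ _⟩)
    (fun y => ⟨fun _ => ⟨y, Subsingleton.elim _ _⟩, fun _ => Subsingleton.elim _ _⟩)
  have : lam X + lam X = lam X + 0 := by rw [← h, add_zero]
  exact add_left_cancel this

variable {S : Type u} [CommRing S] [Algebra A S]
  {𝒜 : ℕ → Submodule A S} [GradedAlgebra 𝒜] {d : ℕ} {x : Fin d → S}

section step

variable {M : Type u} [AddCommGroup M] [Module S M] [Module A M] [IsScalarTower A S M]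
  (ℳ : ℕ → Submodule A M) [DirectSum.Decomposition ℳ] [SetLike.GradedSMul 𝒜 ℳ]
  {a : S} (ha : a ∈ 𝒜 1)

/-- kernel of multiplication by `a`. -/
abbrev Ker (M : Type u) [AddCommGroup M] [Module S M] (a : S) : Submodule S M :=
  LinearMap.ker (LinearMap.lsmul S M a)

/-- range of multiplication by `a`. -/
abbrev Rng (M : Type u) [AddCommGroup M] [Module S M] (a : S) : Submodule S M :=
  LinearMap.range (LinearMap.lsmul S M a)

include ha in
lemma isHomog_ker : IsHomog ℳ (Ker M a) := by
  intro n m hm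
  rw [LinearMap.mem_ker, LinearMap.lsmul_apply] at hm ⊢
  rw [← decompose_smul_of_left_mem 𝒜 ℳ ha m n, hm, DirectSum.decompose_zero]
  rfl

include ha in
lemma isHomog_range : IsHomog ℳ (Rng M a) := by
  intro n m hm
  obtain ⟨m', rfl⟩ := hm
  rw [LinearMap.lsmul_apply]
  cases n with
  | zero =>
    rw [decompose_smul_of_left_mem_lt 𝒜 ℳ ha m' (by omega : 0 < 1)]
    exact zero_mem _
  | succ k =>
    rw [add_comm k 1, decompose_smul_of_left_mem 𝒜 ℳ ha m' k]
    exact ⟨_, rfl⟩

/-- the decomposition of a homogeneous submodule. -/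
noncomputable def subGrDecomposition (P : Submodule S M) (hP : IsHomog ℳ P) :
    DirectSum.Decomposition (subGr ℳ P) :=
  (isInternal_subGr ℳ P hP).chooseDecomposition

/-- the decomposition of a quotient by a homogeneous submodule. -/
noncomputable def quotGrDecomposition (P : Submodule S M) (hP : IsHomog ℳ P) :
    DirectSum.Decomposition (quotGr ℳ P) :=
  (isInternal_quotGr ℳ P hP).chooseDecomposition

variable (hx : StdGen 𝒜 x) [IsNoetherianRing S] [Module.Finite S M]

include hx in
lemma finite_piece (n : ℕ) : Module.Finite A ↥(ℳ n) :=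
  Module.Finite.iff_fg.2 (hx.fg_piece_module ℳ n)

include hx ha in
theorem lam_succ_sub {lam : ∀ (X : Type u) [AddCommGroup X] [Module A X], G}
    (hlam : IsAdditive lam) (n : ℕ) :
    lam ↥(ℳ (n + 1)) - lam ↥(ℳ n) =
      lam ↥(quotGr ℳ (Rng M a) (n + 1)) - lam ↥(subGr ℳ (Ker M a) n) := by
  haveI : IsNoetherian S M := isNoetherian_of_isNoetherianRing_of_finite S M
  letI := subGrDecomposition ℳ (Ker M a) (isHomog_ker ℳ ha)
  letI := quotGrDecomposition ℳ (Rng M a) (isHomog_range ℳ ha)
  haveI hM : ∀ n, Module.Finite A ↥(ℳ n) := finite_piece ℳ hx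
  haveI hK : ∀ n, Module.Finite A ↥(subGr ℳ (Ker M a) n) :=
    finite_piece (subGr ℳ (Ker M a)) hx
  haveI hC : ∀ n, Module.Finite A ↥(quotGr ℳ (Rng M a) n) :=
    finite_piece (quotGr ℳ (Rng M a)) hx
  set φ : M →ₗ[A] M := (LinearMap.lsmul S M a).restrictScalars A with hφ
  set I : Submodule A M := (ℳ n).map φ with hI
  haveI hIfin : Module.Finite A ↥I := Module.Finite.iff_fg.2 ((hx.fg_piece_module ℳ n).map φ)
  -- first sequence
  let f₁ : ↥(subGr ℳ (Ker M a) n) →ₗ[A] ↥(ℳ n) :=
    LinearMap.codRestrict (ℳ n)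
      (((Ker M a).subtype.restrictScalars A).comp (subGr ℳ (Ker M a) n).subtype) (fun k => k.2)
  let g₁ : ↥(ℳ n) →ₗ[A] ↥I := φ.submoduleMap (ℳ n)
  have h1 : lam ↥(ℳ n) = lam ↥(subGr ℳ (Ker M a) n) + lam ↥I := by
    refine hlam _ _ _ f₁ g₁ ?_ (φ.submoduleMap_surjective _) ?_
    · intro k₁ k₂ h
      have : ((k₁ : Ker M a) : M) = ((k₂ : Ker M a) : M) :=
        congrArg (fun z : ↥(ℳ n) => (z : M)) h
      exact Subtype.ext (Subtype.ext this)
    · intro y
      constructor
      · intro hy
        have hy' : a • (y : M) = 0 := congrArg Subtype.val hy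
        exact ⟨⟨⟨(y : M), by rw [LinearMap.mem_ker, LinearMap.lsmul_apply]; exact hy'⟩, y.2⟩,
          Subtype.ext rfl⟩
      · rintro ⟨k, rfl⟩
        apply Subtype.ext
        have := (k : Ker M a).2
        rw [LinearMap.mem_ker, LinearMap.lsmul_apply] at this
        exact this
  -- second sequence
  have hIle : I ≤ ℳ (n + 1) := by
    rintro _ ⟨m, hm, rfl⟩
    have := smul_mem_graded 𝒜 ℳ ha hm
    rw [add_comm] at this
    exact this
  let g₂ : ↥(ℳ (n + 1)) →ₗ[A] ↥(quotGr ℳ (Rng M a) (n + 1)) :=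
    ((Rng M a).mkQ.restrictScalars A).submoduleMap (ℳ (n + 1))
  have h2 : lam ↥(ℳ (n + 1)) = lam ↥I + lam ↥(quotGr ℳ (Rng M a) (n + 1)) := by
    refine hlam _ _ _ (Submodule.inclusion hIle) g₂ (Submodule.inclusion_injective hIle)
      (LinearMap.submoduleMap_surjective _ _) ?_
    intro y
    constructor
    · intro hy
      have hy' : (Rng M a).mkQ (y : M) = 0 := congrArg Subtype.val hy
      rw [Submodule.mkQ_apply, Submodule.Quotient.mk_eq_zero] at hy'
      obtain ⟨m', hm'⟩ := hy'
      rw [LinearMap.lsmul_apply] at hm'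
      refine ⟨⟨(y : M), ?_⟩, Subtype.ext rfl⟩
      refine ⟨(decompose ℳ m' n : M), SetLike.coe_mem _, ?_⟩
      change a • (decompose ℳ m' n : M) = (y : M)
      rw [← decompose_smul_of_left_mem 𝒜 ℳ ha m' n, hm', add_comm 1 n,
        DirectSum.decompose_of_mem_same ℳ y.2]
    · rintro ⟨i, rfl⟩
      apply Subtype.ext
      change (Rng M a).mkQ ((i : M)) = 0
      rw [Submodule.mkQ_apply, Submodule.Quotient.mk_eq_zero]
      obtain ⟨m, _, hm⟩ := i.2
      exact ⟨m, hm⟩
  rw [h1, h2]
  abel

end step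

section main

variable (hx : StdGen 𝒜 x) [IsNoetherianRing S]
  {lam : ∀ (X : Type u) [AddCommGroup X] [Module A X], G} (hlam : IsAdditive lam)

include hx hlam in
theorem evPoly_aux : ∀ (e : ℕ), e ≤ d → ∀ (M : Type u) [AddCommGroup M] [Module S M] [Module A M]
    [IsScalarTower A S M] [Module.Finite S M] (ℳ : ℕ → Submodule A M)
    [DirectSum.Decomposition ℳ] [SetLike.GradedSMul 𝒜 ℳ],
    (∀ j : Fin d, e ≤ j.val → ∀ m : M, x j • m = 0) → EvPoly e (fun n => lam ↥(ℳ n)) := by
  intro e
  induction e with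
  | zero =>
    intro _ M _ _ _ _ _ ℳ _ _ hann
    obtain ⟨N, hN⟩ := hx.piece_eq_bot_of_annihilates ℳ (fun j m => hann j (Nat.zero_le _) m)
    rw [evPoly_zero_iff]
    refine ⟨N, fun n hn => ?_⟩
    haveI : Subsingleton ↥(ℳ n) := by
      rw [hN n hn]
      infer_instance
    exact hlam.eq_zero _
  | succ e ih =>
    intro he M _ _ _ _ _ ℳ _ _ hann
    haveI : IsNoetherian S M := isNoetherian_of_isNoetherianRing_of_finite S M
    set j₀ : Fin d := ⟨e, by omega⟩ with hj₀
    have ha : x j₀ ∈ 𝒜 1 := hx.mem_one j₀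
    letI := subGrDecomposition ℳ (Ker M (x j₀)) (isHomog_ker ℳ ha)
    letI := quotGrDecomposition ℳ (Rng M (x j₀)) (isHomog_range ℳ ha)
    have hK : EvPoly e (fun n => lam ↥(subGr ℳ (Ker M (x j₀)) n)) := by
      refine ih (by omega) ↥(Ker M (x j₀)) (subGr ℳ (Ker M (x j₀))) ?_
      intro j hj k
      apply Subtype.ext
      rw [Submodule.coe_smul, Submodule.coe_zero]
      rcases Nat.eq_or_lt_of_le hj with h | h
      · have : j = j₀ := Fin.ext h.symm
        rw [this]
        have := k.2
        rw [LinearMap.mem_ker, LinearMap.lsmul_apply] at this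
        exact this
      · exact hann j h _
    have hC : EvPoly e (fun n => lam ↥(quotGr ℳ (Rng M (x j₀)) n)) := by
      refine ih (by omega) (M ⧸ Rng M (x j₀)) (quotGr ℳ (Rng M (x j₀))) ?_
      intro j hj q
      obtain ⟨m, rfl⟩ := Submodule.mkQ_surjective _ q
      rw [← map_smul, Submodule.mkQ_apply, Submodule.Quotient.mk_eq_zero]
      rcases Nat.eq_or_lt_of_le hj with h | h
      · have : j = j₀ := Fin.ext h.symm
        rw [this]
        exact ⟨m, rfl⟩
      · rw [hann j h m]
        exact zero_mem _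
    rw [evPoly_succ_iff]
    have heq : fwdDiff 1 (fun n => lam ↥(ℳ n)) =
        (fun m => (fun n => lam ↥(quotGr ℳ (Rng M (x j₀)) n)) (m + 1)) -
          (fun n => lam ↥(subGr ℳ (Ker M (x j₀)) n)) := by
      funext n
      simp only [fwdDiff, Pi.sub_apply]
      exact lam_succ_sub ℳ ha hx hlam n
    rw [heq]
    exact hC.shift.sub hK

include hx hlam in
/-- **Hilbert–Serre.** -/
theorem evPoly (M : Type u) [AddCommGroup M] [Module S M] [Module A M]
    [IsScalarTower A S M] [Module.Finite S M] (ℳ : ℕ → Submodule A M)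
    [DirectSum.Decomposition ℳ] [SetLike.GradedSMul 𝒜 ℳ] :
    EvPoly d (fun n => lam ↥(ℳ n)) :=
  evPoly_aux hx hlam d le_rfl M ℳ (fun j hj => absurd j.2 (by omega))

end main

end Groth.Agent.Lib.Helper22.HS
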