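import Mathlib
import Groth.Agent.Lib.Helper22.HS4

/-!
# The Hilbert–Serre theorem for functions additive on a class of modules

Relative version of `HS4`: the function `lam` is only assumed additive on short exact sequences
whose middle term lies in a class `C` of modules closed under submodules and quotients
(e.g. modules of finite length over a Noetherian ring).
-/

set_option autoImplicit false
set_option linter.unusedSectionVars false
open DirectSum

universe u

namespace Groth.Agent.Lib.Helper22.HSr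

open Groth.Agent.Lib.Helper22.HS

variable {A : Type u} [CommRing A] {G : Type*} [AddCommGroup G]

/-- additive functions on finite `A`-modules, relative to a class `C`. -/
def IsAdditiveOn (C : ∀ (X : Type u) [AddCommGroup X] [Module A X], Prop)
    (lam : ∀ (X : Type u) [AddCommGroup X] [Module A X], G) : Prop :=
  ∀ (X Y Z : Type u) [AddCommGroup X] [Module A X] [AddCommGroup Y] [Module A Y]
    [AddCommGroup Z] [Module A Z] [Module.Finite A X] [Module.Finite A Y] [Module.Finite A Z]
    (f : X →ₗ[A] Y) (g : Y →ₗ[A] Z), Function.Injective f → Function.Surjective g →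
    Function.Exact f g → C Y → lam Y = lam X + lam Z

/-- the class is closed under submodules. -/
def ClosedInj (C : ∀ (X : Type u) [AddCommGroup X] [Module A X], Prop) : Prop :=
  ∀ (X Y : Type u) [AddCommGroup X] [Module A X] [AddCommGroup Y] [Module A Y]
    (f : X →ₗ[A] Y), Function.Injective f → C Y → C X

/-- the class is closed under quotients. -/
def ClosedSurj (C : ∀ (X : Type u) [AddCommGroup X] [Module A X], Prop) : Prop :=
  ∀ (X Y : Type u) [AddCommGroup X] [Module A X] [AddCommGroup Y] [Module A Y]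
    (f : X →ₗ[A] Y), Function.Surjective f → C X → C Y

lemma IsAdditiveOn.eq_zero {C : ∀ (X : Type u) [AddCommGroup X] [Module A X], Prop}
    {lam : ∀ (X : Type u) [AddCommGroup X] [Module A X], G}
    (hlam : IsAdditiveOn C lam) (X : Type u) [AddCommGroup X] [Module A X] [Subsingleton X]
    (hX : C X) : lam X = 0 := by
  have h := hlam X X X (0 : X →ₗ[A] X) (0 : X →ₗ[A] X)
    (fun a b _ => Subsingleton.elim a b) (fun a => ⟨a, Subsingleton.elim _ _⟩)
    (fun y => ⟨fun _ => ⟨y, Subsingleton.elim _ _⟩, fun _ => Subsingleton.elim _ _⟩) hX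
  have : lam X + lam X = lam X + 0 := by rw [← h, add_zero]
  exact add_left_cancel this

variable {S : Type u} [CommRing S] [Algebra A S]
  {𝒜 : ℕ → Submodule A S} [GradedAlgebra 𝒜] {d : ℕ} {x : Fin d → S}
  {C : ∀ (X : Type u) [AddCommGroup X] [Module A X], Prop}

section step

variable {M : Type u} [AddCommGroup M] [Module S M] [Module A M] [IsScalarTower A S M]
  (ℳ : ℕ → Submodule A M) [DirectSum.Decomposition ℳ] [SetLike.GradedSMul 𝒜 ℳ]
  {a : S} (ha : a ∈ 𝒜 1)

variable (hx : StdGen 𝒜 x) [IsNoetherianRing S] [Module.Finite S M]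

lemma C_subGr (hCi : ClosedInj C) (P : Submodule S M) (n : ℕ) (h : C ↥(ℳ n)) :
    C ↥(subGr ℳ P n) := by
  let f₁ : ↥(subGr ℳ P n) →ₗ[A] ↥(ℳ n) :=
    LinearMap.codRestrict (ℳ n)
      ((P.subtype.restrictScalars A).comp (subGr ℳ P n).subtype) (fun k => k.2)
  refine hCi _ _ f₁ ?_ h
  intro k₁ k₂ h
  have : ((k₁ : P) : M) = ((k₂ : P) : M) := congrArg (fun z : ↥(ℳ n) => (z : M)) h
  exact Subtype.ext (Subtype.ext this)

lemma C_quotGr (hCs : ClosedSurj C) (P : Submodule S M) (n : ℕ) (h : C ↥(ℳ n)) :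
    C ↥(quotGr ℳ P n) :=
  hCs _ _ ((P.mkQ.restrictScalars A).submoduleMap (ℳ n))
    (LinearMap.submoduleMap_surjective _ _) h

include hx ha in
theorem lam_succ_sub {lam : ∀ (X : Type u) [AddCommGroup X] [Module A X], G}
    (hlam : IsAdditiveOn C lam) (n : ℕ) (hCn : C ↥(ℳ n)) (hCn1 : C ↥(ℳ (n + 1))) :
    lam ↥(ℳ (n + 1)) - lam ↥(ℳ n) =
      lam ↥(quotGr ℳ (Rng M a) (n + 1)) - lam ↥(subGr ℳ (Ker M a) n) := by
  haveI : IsNoetherian S M := isNoetherian_of_isNoetherianRing_of_finite S M
  letI := subGrDecomposition ℳ (Ker M a) (isHomog_ker ℳ ha)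
  letI := quotGrDecomposition ℳ (Rng M a) (isHomog_range ℳ ha)
  haveI hM : ∀ n, Module.Finite A ↥(ℳ n) := finite_piece ℳ hx
  haveI hK : ∀ n, Module.Finite A ↥(subGr ℳ (Ker M a) n) :=
    finite_piece (subGr ℳ (Ker M a)) hx
  haveI hC : ∀ n, Module.Finite A ↥(quotGr ℳ (Rng M a) n) :=
    finite_piece (quotGr ℳ (Rng M a)) hx
  set φ : M →ₗ[A] M := (LinearMap.lsmul S M a).restrictScalars A with hφ
  set I : Submodule A M := (ℳ n).map φ with hI
  haveI hIfin : Module.Finite A ↥I := Module.Finite.iff_fg.2 ((hx.fg_piece_module ℳ n).map φ)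
  -- first sequence
  let f₁ : ↥(subGr ℳ (Ker M a) n) →ₗ[A] ↥(ℳ n) :=
    LinearMap.codRestrict (ℳ n)
      (((Ker M a).subtype.restrictScalars A).comp (subGr ℳ (Ker M a) n).subtype) (fun k => k.2)
  let g₁ : ↥(ℳ n) →ₗ[A] ↥I := φ.submoduleMap (ℳ n)
  have h1 : lam ↥(ℳ n) = lam ↥(subGr ℳ (Ker M a) n) + lam ↥I := by
    refine hlam _ _ _ f₁ g₁ ?_ (φ.submoduleMap_surjective _) ?_ hCn
    · intro k₁ k₂ h
      have : ((k₁ : Ker M a) : M) = ((k₂ : Ker M a) : M) :=
        congrArg (fun z : ↥(ℳ n) => (z : M)) h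
      exact Subtype.ext (Subtype.ext this)
    · intro y
      constructor
      · intro hy
        have hy' : a • (y : M) = 0 := congrArg Subtype.val hy
        exact ⟨⟨⟨(y : M), by rw [LinearMap.mem_ker, LinearMap.lsmul_apply]; exact hy'⟩, y.2⟩,
          Subtype.ext rfl⟩
      · rintro ⟨k, rfl⟩
        apply Subtype.ext
        have := (k : Ker M a).2
        rw [LinearMap.mem_ker, LinearMap.lsmul_apply] at this
        exact this
  -- second sequence
  have hIle : I ≤ ℳ (n + 1) := by
    rintro _ ⟨m, hm, rfl⟩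
    have := smul_mem_graded 𝒜 ℳ ha hm
    rw [add_comm] at this
    exact this
  let g₂ : ↥(ℳ (n + 1)) →ₗ[A] ↥(quotGr ℳ (Rng M a) (n + 1)) :=
    ((Rng M a).mkQ.restrictScalars A).submoduleMap (ℳ (n + 1))
  have h2 : lam ↥(ℳ (n + 1)) = lam ↥I + lam ↥(quotGr ℳ (Rng M a) (n + 1)) := by
    refine hlam _ _ _ (Submodule.inclusion hIle) g₂ (Submodule.inclusion_injective hIle)
      (LinearMap.submoduleMap_surjective _ _) ?_ hCn1
    intro y
    constructor
    · intro hy
      have hy' : (Rng M a).mkQ (y : M) = 0 := congrArg Subtype.val hy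
      rw [Submodule.mkQ_apply, Submodule.Quotient.mk_eq_zero] at hy'
      obtain ⟨m', hm'⟩ := hy'
      rw [LinearMap.lsmul_apply] at hm'
      refine ⟨⟨(y : M), ?_⟩, Subtype.ext rfl⟩
      refine ⟨(decompose ℳ m' n : M), SetLike.coe_mem _, ?_⟩
      change a • (decompose ℳ m' n : M) = (y : M)
      rw [← decompose_smul_of_left_mem 𝒜 ℳ ha m' n, hm', add_comm 1 n,
        DirectSum.decompose_of_mem_same ℳ y.2]
    · rintro ⟨i, rfl⟩
      apply Subtype.ext
      change (Rng M a).mkQ ((i : M)) = 0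
      rw [Submodule.mkQ_apply, Submodule.Quotient.mk_eq_zero]
      obtain ⟨m, _, hm⟩ := i.2
      exact ⟨m, hm⟩
  rw [h1, h2]
  abel

end step

section main

variable (hx : StdGen 𝒜 x) [IsNoetherianRing S]
  {lam : ∀ (X : Type u) [AddCommGroup X] [Module A X], G} (hlam : IsAdditiveOn C lam)
  (hCi : ClosedInj C) (hCs : ClosedSurj C)

include hx hlam hCi hCs in
theorem evPolyOn_aux : ∀ (e : ℕ), e ≤ d → ∀ (M : Type u) [AddCommGroup M] [Module S M]
    [Module A M] [IsScalarTower A S M] [Module.Finite S M] (ℳ : ℕ → Submodule A M)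
    [DirectSum.Decomposition ℳ] [SetLike.GradedSMul 𝒜 ℳ], (∀ n, C ↥(ℳ n)) →
    (∀ j : Fin d, e ≤ j.val → ∀ m : M, x j • m = 0) → EvPoly e (fun n => lam ↥(ℳ n)) := by
  intro e
  induction e with
  | zero =>
    intro _ M _ _ _ _ _ ℳ _ _ hC hann
    obtain ⟨N, hN⟩ := hx.piece_eq_bot_of_annihilates ℳ (fun j m => hann j (Nat.zero_le _) m)
    rw [evPoly_zero_iff]
    refine ⟨N, fun n hn => ?_⟩
    haveI : Subsingleton ↥(ℳ n) := by
      rw [hN n hn]
      infer_instance
    exact hlam.eq_zero _ (hC n)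
  | succ e ih =>
    intro he M _ _ _ _ _ ℳ _ _ hC hann
    haveI : IsNoetherian S M := isNoetherian_of_isNoetherianRing_of_finite S M
    set j₀ : Fin d := ⟨e, by omega⟩ with hj₀
    have ha : x j₀ ∈ 𝒜 1 := hx.mem_one j₀
    letI := subGrDecomposition ℳ (Ker M (x j₀)) (isHomog_ker ℳ ha)
    letI := quotGrDecomposition ℳ (Rng M (x j₀)) (isHomog_range ℳ ha)
    have hK : EvPoly e (fun n => lam ↥(subGr ℳ (Ker M (x j₀)) n)) := by
      refine ih (by omega) ↥(Ker M (x j₀)) (subGr ℳ (Ker M (x j₀)))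
        (fun n => C_subGr ℳ hCi _ n (hC n)) ?_
      intro j hj k
      apply Subtype.ext
      rw [Submodule.coe_smul, Submodule.coe_zero]
      rcases Nat.eq_or_lt_of_le hj with h | h
      · have : j = j₀ := Fin.ext h.symm
        rw [this]
        have := k.2
        rw [LinearMap.mem_ker, LinearMap.lsmul_apply] at this
        exact this
      · exact hann j h _
    have hCk : EvPoly e (fun n => lam ↥(quotGr ℳ (Rng M (x j₀)) n)) := by
      refine ih (by omega) (M ⧸ Rng M (x j₀)) (quotGr ℳ (Rng M (x j₀)))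
        (fun n => C_quotGr ℳ hCs _ n (hC n)) ?_
      intro j hj q
      obtain ⟨m, rfl⟩ := Submodule.mkQ_surjective _ q
      rw [← map_smul, Submodule.mkQ_apply, Submodule.Quotient.mk_eq_zero]
      rcases Nat.eq_or_lt_of_le hj with h | h
      · have : j = j₀ := Fin.ext h.symm
        rw [this]
        exact ⟨m, rfl⟩
      · rw [hann j h m]
        exact zero_mem _
    rw [evPoly_succ_iff]
    have heq : fwdDiff 1 (fun n => lam ↥(ℳ n)) =
        (fun m => (fun n => lam ↥(quotGr ℳ (Rng M (x j₀)) n)) (m + 1)) -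
          (fun n => lam ↥(subGr ℳ (Ker M (x j₀)) n)) := by
      funext n
      simp only [fwdDiff, Pi.sub_apply]
      exact lam_succ_sub ℳ ha hx hlam n (hC n) (hC (n + 1))
    rw [heq]
    exact hCk.shift.sub hK

include hx hlam hCi hCs in
/-- **Hilbert–Serre**, relative version. -/
theorem evPolyOn (M : Type u) [AddCommGroup M] [Module S M] [Module A M]
    [IsScalarTower A S M] [Module.Finite S M] (ℳ : ℕ → Submodule A M)
    [DirectSum.Decomposition ℳ] [SetLike.GradedSMul 𝒜 ℳ] (hC : ∀ n, C ↥(ℳ n)) :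
    EvPoly d (fun n => lam ↥(ℳ n)) :=
  evPolyOn_aux hx hlam hCi hCs d le_rfl M ℳ hC (fun j hj => absurd j.2 (by omega))

end main

/-- finite length is closed under submodules. -/
theorem closedInj_isFiniteLength :
    ClosedInj (A := A) (fun X _ _ => IsFiniteLength A X) := by
  intro X Y _ _ _ _ f hf hY
  rw [← Module.length_ne_top_iff] at hY ⊢
  exact ne_top_of_le_ne_top hY (Module.length_le_of_injective f hf)

/-- finite length is closed under quotients. -/
theorem closedSurj_isFiniteLength :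
    ClosedSurj (A := A) (fun X _ _ => IsFiniteLength A X) := by
  intro X Y _ _ _ _ f hf hX
  rw [← Module.length_ne_top_iff] at hX ⊢
  exact ne_top_of_le_ne_top hX (Module.length_le_of_surjective f hf)

/-- the length function is additive on modules of finite length. -/
theorem isAdditiveOn_length :
    IsAdditiveOn (A := A) (G := ℤ) (fun X _ _ => IsFiniteLength A X)
      (fun X _ _ => ((Module.length A X).toNat : ℤ)) := by
  intro X Y Z _ _ _ _ _ _ _ _ _ f g hf hg hfg hY
  have hY' : Module.length A Y ≠ ⊤ := Module.length_ne_top_iff.2 hY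
  have hX : Module.length A X ≠ ⊤ :=
    ne_top_of_le_ne_top hY' (Module.length_le_of_injective f hf)
  have hZ : Module.length A Z ≠ ⊤ :=
    ne_top_of_le_ne_top hY' (Module.length_le_of_surjective g hg)
  change ((Module.length A Y).toNat : ℤ) = ((Module.length A X).toNat : ℤ) +
    ((Module.length A Z).toNat : ℤ)
  rw [Module.length_eq_add_of_exact f g hf hg hfg, ENat.toNat_add hX hZ]
  push_cast
  rfl

end Groth.Agent.Lib.Helper22.HSr
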