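import Mathlib
import Groth.Agent.Lib.Helper22.HS4

/-!
# Hilbert–Serre: the polynomial ring and the length function
-/

set_option autoImplicit false
open DirectSum

universe u

namespace Groth.Agent.Lib.Helper22.HS

attribute [local instance] MvPolynomial.gradedAlgebra

/-- the polynomial ring is standard graded. -/
theorem stdGen_mvPolynomial (A : Type u) [CommRing A] (d : ℕ) :
    StdGen (MvPolynomial.homogeneousSubmodule (Fin d) A)
      (MvPolynomial.X : Fin d → MvPolynomial (Fin d) A) where
  mem_one := fun j => MvPolynomial.isHomogeneous_X A j
  zero := by
    intro s hs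
    rw [MvPolynomial.homogeneousSubmodule_zero, Submodule.mem_one] at hs
    exact hs
  irr_le := by
    intro s hs
    change s ∈ HomogeneousIdeal.irrelevant _ at hs
    rw [HomogeneousIdeal.mem_irrelevant_iff, GradedRing.proj_apply] at hs
    have h0 : MvPolynomial.coeff 0 s = 0 := by
      have h1 : (DirectSum.decompose (MvPolynomial.homogeneousSubmodule (Fin d) A) s 0 :
          MvPolynomial (Fin d) A) = MvPolynomial.homogeneousComponent 0 s :=
        MvPolynomial.decomposition.decompose'_apply s 0
      rw [hs, MvPolynomial.homogeneousComponent_zero] at h1
      have := congrArg (MvPolynomial.coeff 0) h1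
      simpa using this.symm
    rw [← Set.image_univ, MvPolynomial.mem_ideal_span_X_image]
    intro m hm
    by_contra hcon
    push Not at hcon
    have : m = 0 := by
      ext i
      simpa using hcon i (Set.mem_univ _)
    rw [this, MvPolynomial.mem_support_iff] at hm
    exact hm h0

/-- the length function on finite modules over an Artinian ring is additive. -/
theorem isAdditive_length (A : Type u) [CommRing A] [IsArtinianRing A] :
    IsAdditive (A := A) (G := ℤ) (fun X _ _ => ((Module.length A X).toNat : ℤ)) := by
  intro X Y Z _ _ _ _ _ _ _ _ _ f g hf hg hfg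
  have hX : Module.length A X ≠ ⊤ := Module.length_ne_top
  have hZ : Module.length A Z ≠ ⊤ := Module.length_ne_top
  change ((Module.length A Y).toNat : ℤ) = ((Module.length A X).toNat : ℤ) +
    ((Module.length A Z).toNat : ℤ)
  rw [Module.length_eq_add_of_exact f g hf hg hfg, ENat.toNat_add hX hZ]
  push_cast
  rfl

end Groth.Agent.Lib.Helper22.HS
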