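import Mathlib
import Groth.Agent.Lib.Helper22.HS4r
import Groth.Agent.Lib.Helper22.HS5
import Groth.Agent.Lib.Helper22.GrFree

/-!
# The associated graded module of an `I`-adic filtration as a quotient of a graded free module,
and eventual polynomiality of `n ↦ length (I^n M / I^(n+1) M)`.
-/

set_option autoImplicit false
set_option linter.unusedSectionVars false
open DirectSum

universe u

namespace Groth.Agent.Lib.Helper22.Samuel

open Groth.Agent.Lib.Helper22.HS Groth.Agent.Lib.Helper22.HSr Groth.Agent.Lib.Helper22.GrFree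

attribute [local instance] MvPolynomial.gradedAlgebra

section torsion

variable {A : Type u} [CommRing A] [IsNoetherianRing A]

/-- a finite module killed by an ideal with Artinian quotient has finite length. -/
lemma isFiniteLength_of_torsion (I : Ideal A) [IsArtinianRing (A ⧸ I)] (X : Type*)
    [AddCommGroup X] [Module A X] [Module.Finite A X] (h : ∀ a ∈ I, ∀ x : X, a • x = 0) :
    IsFiniteLength A X := by
  rw [isFiniteLength_iff_isNoetherian_isArtinian]
  refine ⟨inferInstance, ?_⟩
  have ht : Module.IsTorsionBySet A X (I : Set A) := fun x a => h a.1 a.2 x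
  letI := ht.module
  haveI : IsScalarTower A (A ⧸ I) X := ht.isScalarTower
  haveI : Module.Finite (A ⧸ I) X := Module.Finite.of_restrictScalars_finite A _ _
  haveI : IsArtinian (A ⧸ I) X := inferInstance
  exact isArtinian_of_surjective_algebraMap (R := A ⧸ I) (S := A) Ideal.Quotient.mk_surjective

end torsion

variable {A : Type u} [CommRing A] (I : Ideal A) {M : Type u} [AddCommGroup M] [Module A M]
  {s t : ℕ} (x : Fin s → A) (m : Fin t → M)

/-- homogeneous polynomials of degree `n` evaluated at elements of `I` lie in `I^n`. -/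
lemma aeval_mem_pow (hx : ∀ i, x i ∈ I) {n : ℕ} {p : MvPolynomial (Fin s) A}
    (hp : p ∈ MvPolynomial.homogeneousSubmodule (Fin s) A n) :
    MvPolynomial.aeval x p ∈ I ^ n := by
  classical
  rw [MvPolynomial.mem_homogeneousSubmodule] at hp
  rw [p.as_sum, map_sum]
  refine Ideal.sum_mem _ fun α hα => ?_
  rw [MvPolynomial.aeval_monomial]
  apply Ideal.mul_mem_left
  have hdeg : α.degree = n := by
    have := hp (MvPolynomial.mem_support_iff.1 hα)
    rwa [Finsupp.degree_eq_weight_one]
  rw [← hdeg, Finsupp.prod, Finsupp.degree_apply, ← Finset.prod_pow_eq_pow_sum]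
  exact Ideal.prod_mem_prod fun i _ => Ideal.pow_mem_pow (hx i) _

/-- the evaluation map from the free module to `M`. -/
noncomputable def E : (Fin t → MvPolynomial (Fin s) A) →ₗ[A] M :=
  ∑ j : Fin t, (LinearMap.toSpanSingleton A M (m j)).comp
    ((MvPolynomial.aeval x).toLinearMap.comp (LinearMap.proj j))

lemma E_apply (v : Fin t → MvPolynomial (Fin s) A) :
    E x m v = ∑ j : Fin t, MvPolynomial.aeval x (v j) • m j := by
  simp [E, LinearMap.sum_apply]

lemma E_smul (p : MvPolynomial (Fin s) A) (v : Fin t → MvPolynomial (Fin s) A) :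
    E x m (p • v) = MvPolynomial.aeval x p • E x m v := by
  rw [E_apply, E_apply, Finset.smul_sum]
  refine Finset.sum_congr rfl fun j _ => ?_
  rw [Pi.smul_apply, smul_eq_mul, map_mul, mul_smul]

lemma E_mem (hx : ∀ i, x i ∈ I) {n : ℕ} {v : Fin t → MvPolynomial (Fin s) A}
    (hv : v ∈ piGr (MvPolynomial.homogeneousSubmodule (Fin s) A) t n) :
    E x m v ∈ I ^ n • (⊤ : Submodule A M) := by
  rw [E_apply]
  refine Submodule.sum_mem _ fun j _ => ?_
  exact Submodule.smul_mem_smul (aeval_mem_pow I x hx ((mem_piGr _ t).1 hv j)) Submodule.mem_top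

/-- surjectivity of the evaluation map in each degree. -/
lemma exists_E_eq (hI : I = Ideal.span (Set.range x)) (hm : Submodule.span A (Set.range m) = ⊤) :
    ∀ (n : ℕ) (y : M), y ∈ I ^ n • (⊤ : Submodule A M) →
      ∃ v ∈ piGr (MvPolynomial.homogeneousSubmodule (Fin s) A) t n, E x m v = y := by
  intro n
  induction n with
  | zero =>
    intro y _
    have hy : y ∈ Submodule.span A (Set.range m) := by rw [hm]; trivial
    obtain ⟨c, rfl⟩ := (Submodule.mem_span_range_iff_exists_fun A).1 hy
    refine ⟨fun j => MvPolynomial.C (c j), ?_, ?_⟩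
    · rw [mem_piGr]
      intro j
      exact MvPolynomial.isHomogeneous_C (Fin s) (c j)
    · rw [E_apply]
      refine Finset.sum_congr rfl fun j _ => ?_
      rw [MvPolynomial.aeval_C, Algebra.algebraMap_self, RingHom.id_apply]
  | succ n ih =>
    intro y hy
    rw [pow_succ', mul_smul] at hy
    refine Submodule.smul_induction_on hy ?_ ?_
    · intro b hb y' hy'
      obtain ⟨v', hv', rfl⟩ := ih y' hy'
      rw [hI] at hb
      obtain ⟨c, rfl⟩ := (Ideal.mem_span_range_iff_exists_fun).1 hb
      refine ⟨(∑ i, MvPolynomial.C (c i) * MvPolynomial.X i) • v', ?_, ?_⟩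
      · rw [Finset.sum_smul]
        refine Submodule.sum_mem _ fun i _ => ?_
        have h1 : MvPolynomial.C (c i) * MvPolynomial.X i ∈
            MvPolynomial.homogeneousSubmodule (Fin s) A 1 := by
          have := (MvPolynomial.isHomogeneous_C (Fin s) (c i)).mul
            (MvPolynomial.isHomogeneous_X A i)
          simpa using this
        have := smul_mem_graded (MvPolynomial.homogeneousSubmodule (Fin s) A)
          (piGr (MvPolynomial.homogeneousSubmodule (Fin s) A) t) h1 hv'
        rwa [add_comm] at this
      · rw [E_smul, map_sum]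
        congr 1
        refine Finset.sum_congr rfl fun i _ => ?_
        rw [map_mul, MvPolynomial.aeval_C, MvPolynomial.aeval_X, Algebra.algebraMap_self,
          RingHom.id_apply]
    · rintro y₁ y₂ ⟨v₁, hv₁, rfl⟩ ⟨v₂, hv₂, rfl⟩
      exact ⟨v₁ + v₂, Submodule.add_mem _ hv₁ hv₂, map_add _ _ _⟩

end Groth.Agent.Lib.Helper22.Samuel
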