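import Mathlib
import Groth.Agent.Lib.Helper22.Samuel1

/-!
# The submodule `K` with `F / K = gr_I(M)` and the Hilbert function of `gr_I(M)`
-/

set_option autoImplicit false
set_option linter.unusedSectionVars false
open DirectSum

universe u

namespace Groth.Agent.Lib.Helper22.Samuel

open Groth.Agent.Lib.Helper22.HS Groth.Agent.Lib.Helper22.HSr Groth.Agent.Lib.Helper22.GrFree

attribute [local instance] MvPolynomial.gradedAlgebra

variable {A : Type u} [CommRing A] (I : Ideal A) {M : Type u} [AddCommGroup M] [Module A M]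
  {s t : ℕ} (x : Fin s → A) (m : Fin t → M)

local notation "𝒬" => MvPolynomial.homogeneousSubmodule (Fin s) A

/-- the submodule of the graded free module whose quotient is the associated graded module. -/
def K (hx : ∀ i, x i ∈ I) : Submodule (MvPolynomial (Fin s) A) (Fin t → MvPolynomial (Fin s) A) where
  carrier := {v | ∀ n, E x m (comp 𝒬 t n v) ∈ I ^ (n + 1) • (⊤ : Submodule A M)}
  add_mem' := by
    intro v w hv hw n
    rw [comp_add, map_add]
    exact Submodule.add_mem _ (hv n) (hw n)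
  zero_mem' := by
    intro n
    rw [comp_zero, map_zero]
    exact Submodule.zero_mem _
  smul_mem' := by
    intro p
    induction p using MvPolynomial.induction_on with
    | C a =>
      intro v hv n
      have h1 : (MvPolynomial.C a : MvPolynomial (Fin s) A) • v = a • v := by
        funext j
        simp [MvPolynomial.C_mul']
      rw [h1, comp_smul, map_smul]
      exact Submodule.smul_mem _ _ (hv n)
    | add p q hp hq =>
      intro v hv n
      rw [add_smul, comp_add, map_add]
      exact Submodule.add_mem _ (hp hv n) (hq hv n)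
    | mul_X p i hp =>
      intro v hv
      rw [mul_smul]
      have hv' : (MvPolynomial.X i : MvPolynomial (Fin s) A) • v ∈
          {v | ∀ n, E x m (comp 𝒬 t n v) ∈ I ^ (n + 1) • (⊤ : Submodule A M)} := by
        intro n
        have hX : (MvPolynomial.X i : MvPolynomial (Fin s) A) ∈ 𝒬 1 :=
          MvPolynomial.isHomogeneous_X A i
        cases n with
        | zero =>
          rw [comp_zero_smul_of_mem_one 𝒬 t hX, map_zero]
          exact Submodule.zero_mem _
        | succ n =>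
          rw [comp_smul_of_mem_one 𝒬 t hX, E_smul, MvPolynomial.aeval_X, pow_succ', mul_smul]
          exact Submodule.smul_mem_smul (hx i) (hv n)
      exact hp hv'

lemma mem_K (hx : ∀ i, x i ∈ I) {v : Fin t → MvPolynomial (Fin s) A} :
    v ∈ K I x m hx ↔ ∀ n, E x m (comp 𝒬 t n v) ∈ I ^ (n + 1) • (⊤ : Submodule A M) := Iff.rfl

lemma mem_K_of_mem_piGr (hx : ∀ i, x i ∈ I) {n : ℕ} {v : Fin t → MvPolynomial (Fin s) A}
    (hv : v ∈ piGr 𝒬 t n) :
    v ∈ K I x m hx ↔ E x m v ∈ I ^ (n + 1) • (⊤ : Submodule A M) := by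
  rw [mem_K]
  constructor
  · intro h
    have := h n
    rwa [comp_of_mem_same 𝒬 t hv] at this
  · intro h k
    by_cases hk : n = k
    · subst hk
      rwa [comp_of_mem_same 𝒬 t hv]
    · rw [comp_of_mem_ne 𝒬 t hv hk, map_zero]
      exact Submodule.zero_mem _

lemma isHomog_K (hx : ∀ i, x i ∈ I) : IsHomog (piGr 𝒬 t) (K I x m hx) := by
  intro n v hv
  rw [decompose_piGr, mem_K_of_mem_piGr I x m hx (comp_mem 𝒬 t n v)]
  exact hv n

/-- elements of `I` kill the graded pieces of `F / K`. -/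
lemma smul_quotGr_eq_zero (hx : ∀ i, x i ∈ I) (n : ℕ) {a : A} (ha : a ∈ I)
    (q : ↥(quotGr (piGr 𝒬 t) (K I x m hx) n)) : a • q = 0 := by
  obtain ⟨q, v, hv, rfl⟩ := q
  apply Subtype.ext
  change a • (K I x m hx).mkQ v = 0
  have h1 : a • (K I x m hx).mkQ v = (K I x m hx).mkQ (a • v) := by
    rw [Submodule.mkQ_apply, Submodule.mkQ_apply]
    rfl
  rw [h1, Submodule.mkQ_apply, Submodule.Quotient.mk_eq_zero,
    mem_K_of_mem_piGr I x m hx (Submodule.smul_mem _ a hv), map_smul, pow_succ', mul_smul]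
  exact Submodule.smul_mem_smul ha (E_mem I x m hx hv)

/-- the image of `I^n M` in `M / I^(n+1) M`. -/
def D (n : ℕ) : Submodule A (M ⧸ (I ^ (n + 1) • (⊤ : Submodule A M))) :=
  (I ^ n • (⊤ : Submodule A M)).map (I ^ (n + 1) • (⊤ : Submodule A M)).mkQ

/-- the graded pieces of `F/K` are isomorphic to `I^n M / I^(n+1) M`. -/
theorem nonempty_equiv (hx : ∀ i, x i ∈ I) (hI : I = Ideal.span (Set.range x))
    (hm : Submodule.span A (Set.range m) = ⊤) (n : ℕ) :
    Nonempty (↥(quotGr (piGr 𝒬 t) (K I x m hx) n) ≃ₗ[A] ↥(D I (M := M) n)) := by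
  set φ₁ : ↥(piGr 𝒬 t n) →ₗ[A] ↥(quotGr (piGr 𝒬 t) (K I x m hx) n) :=
    ((K I x m hx).mkQ.restrictScalars A).submoduleMap (piGr 𝒬 t n) with hφ₁
  have hφ₁s : Function.Surjective φ₁ := LinearMap.submoduleMap_surjective _ _
  set φ₂ : ↥(piGr 𝒬 t n) →ₗ[A] (M ⧸ (I ^ (n + 1) • (⊤ : Submodule A M))) :=
    ((I ^ (n + 1) • (⊤ : Submodule A M)).mkQ.comp (E x m)).comp (piGr 𝒬 t n).subtype with hφ₂
  have hrange : LinearMap.range φ₂ = D I (M := M) n := by
    ext q
    constructor
    · rintro ⟨v, rfl⟩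
      exact ⟨E x m v, E_mem I x m hx v.2, rfl⟩
    · rintro ⟨y, hy, rfl⟩
      obtain ⟨v, hv, rfl⟩ := exists_E_eq I x m hI hm n y hy
      exact ⟨⟨v, hv⟩, rfl⟩
  have hker : LinearMap.ker φ₁ = LinearMap.ker φ₂ := by
    ext v
    rw [LinearMap.mem_ker, LinearMap.mem_ker]
    have h1 : φ₁ v = 0 ↔ (v : Fin t → MvPolynomial (Fin s) A) ∈ K I x m hx := by
      constructor
      · intro h
        have h' : (K I x m hx).mkQ (v : Fin t → MvPolynomial (Fin s) A) = 0 :=
          congrArg Subtype.val h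
        rwa [Submodule.mkQ_apply, Submodule.Quotient.mk_eq_zero] at h'
      · intro h
        apply Subtype.ext
        change (K I x m hx).mkQ (v : Fin t → MvPolynomial (Fin s) A) = 0
        rwa [Submodule.mkQ_apply, Submodule.Quotient.mk_eq_zero]
    have h2 : φ₂ v = 0 ↔ E x m (v : Fin t → MvPolynomial (Fin s) A) ∈
        I ^ (n + 1) • (⊤ : Submodule A M) := by
      change (I ^ (n + 1) • (⊤ : Submodule A M)).mkQ (E x m v) = 0 ↔ _
      rw [Submodule.mkQ_apply, Submodule.Quotient.mk_eq_zero]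
    rw [h1, h2, mem_K_of_mem_piGr I x m hx v.2]
  have e₁ := LinearMap.quotKerEquivOfSurjective φ₁ hφ₁s
  have e₂ := LinearMap.quotKerEquivRange φ₂
  exact ⟨e₁.symm.trans ((Submodule.quotEquivOfEq _ _ hker).trans
    (e₂.trans (LinearEquiv.ofEq _ _ hrange)))⟩

end Groth.Agent.Lib.Helper22.Samuel
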