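import Mathlib
import Groth.Agent.Lib.Helper22.Samuel2

/-!
# The Samuel function `n ↦ length (M / I^n M)` is eventually polynomial
-/

set_option autoImplicit false
set_option linter.unusedSectionVars false
open DirectSum

universe u

namespace Groth.Agent.Lib.Helper22.Samuel

open Groth.Agent.Lib.Helper22.HS Groth.Agent.Lib.Helper22.HSr Groth.Agent.Lib.Helper22.GrFree

attribute [local instance] MvPolynomial.gradedAlgebra

variable {A : Type u} [CommRing A] [IsNoetherianRing A] (I : Ideal A) [IsArtinianRing (A ⧸ I)]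
  (M : Type u) [AddCommGroup M] [Module A M] [Module.Finite A M]

/-- the Hilbert function of the associated graded module. -/
noncomputable def hgr (n : ℕ) : ℤ := ((Module.length A ↥(D I (M := M) n)).toNat : ℤ)

/-- the Samuel function. -/
noncomputable def chi (n : ℕ) : ℤ :=
  ((Module.length A (M ⧸ (I ^ n • (⊤ : Submodule A M)))).toNat : ℤ)

section gens

variable {s t : ℕ} (x : Fin s → A) (m : Fin t → M)

local notation "𝒬" => MvPolynomial.homogeneousSubmodule (Fin s) A

lemma isFiniteLength_quotGr (hx : ∀ i, x i ∈ I) (n : ℕ) :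
    IsFiniteLength A ↥(quotGr (piGr 𝒬 t) (K I x m hx) n) := by
  letI := quotGrDecomposition (piGr 𝒬 t) (K I x m hx) (isHomog_K I x m hx)
  haveI : Module.Finite A ↥(quotGr (piGr 𝒬 t) (K I x m hx) n) :=
    finite_piece (quotGr (piGr 𝒬 t) (K I x m hx)) (stdGen_mvPolynomial A s) n
  exact isFiniteLength_of_torsion I _ (fun a ha q => smul_quotGr_eq_zero I x m hx n ha q)

theorem evPoly_quotGr (hx : ∀ i, x i ∈ I) :
    EvPoly s (fun n => ((Module.length A ↥(quotGr (piGr 𝒬 t) (K I x m hx) n)).toNat : ℤ)) := by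
  letI := quotGrDecomposition (piGr 𝒬 t) (K I x m hx) (isHomog_K I x m hx)
  exact evPolyOn (stdGen_mvPolynomial A s) isAdditiveOn_length closedInj_isFiniteLength
    closedSurj_isFiniteLength ((Fin t → MvPolynomial (Fin s) A) ⧸ K I x m hx)
    (quotGr (piGr 𝒬 t) (K I x m hx)) (isFiniteLength_quotGr I M x m hx)

end gens

/-- generators exist. -/
lemma exists_gens : ∃ (s t : ℕ) (x : Fin s → A) (m : Fin t → M),
    (∀ i, x i ∈ I) ∧ I = Ideal.span (Set.range x) ∧ Submodule.span A (Set.range m) = ⊤ := by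
  obtain ⟨s, x, hx⟩ := Submodule.fg_iff_exists_fin_generating_family.1
    (IsNoetherian.noetherian I)
  obtain ⟨t, m, hm⟩ := Submodule.fg_iff_exists_fin_generating_family.1
    (Module.Finite.fg_top (R := A) (M := M))
  refine ⟨s, t, x, m, fun i => ?_, hx.symm, hm⟩
  rw [← hx]
  exact Submodule.subset_span ⟨i, rfl⟩

/-- `n ↦ length (I^n M / I^(n+1) M)` is eventually polynomial. -/
theorem exists_evPoly_hgr : ∃ s : ℕ, EvPoly s (hgr I M) := by
  obtain ⟨s, t, x, m, hx, hI, hm⟩ := exists_gens I M
  refine ⟨s, ?_⟩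
  have h := evPoly_quotGr I M x m hx
  have heq : (fun n => ((Module.length A ↥(quotGr
      (piGr (MvPolynomial.homogeneousSubmodule (Fin s) A) t) (K I x m hx) n)).toNat : ℤ)) =
      hgr I M := by
    funext n
    obtain ⟨e⟩ := nonempty_equiv I x m hx hI hm n
    simp only [hgr]
    rw [e.length_eq]
  rwa [heq] at h

lemma isFiniteLength_D (n : ℕ) : IsFiniteLength A ↥(D I (M := M) n) := by
  obtain ⟨s, t, x, m, hx, hI, hm⟩ := exists_gens I M
  obtain ⟨e⟩ := nonempty_equiv I x m hx hI hm n
  have := isFiniteLength_quotGr I M x m hx n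
  rw [← Module.length_ne_top_iff] at this ⊢
  rwa [← e.length_eq]

/-- the basic exact sequence `0 → I^n M / I^(n+1) M → M / I^(n+1) M → M / I^n M → 0`. -/
lemma length_succ (n : ℕ) :
    Module.length A (M ⧸ (I ^ (n + 1) • (⊤ : Submodule A M))) =
      Module.length A ↥(D I (M := M) n) + Module.length A (M ⧸ (I ^ n • (⊤ : Submodule A M))) := by
  have hle : I ^ (n + 1) • (⊤ : Submodule A M) ≤ I ^ n • (⊤ : Submodule A M) :=
    Submodule.smul_mono_left (Ideal.pow_le_pow_right (Nat.le_succ n))
  refine Module.length_eq_add_of_exact (D I (M := M) n).subtype (Submodule.factor hle)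
    (Submodule.subtype_injective _) (Submodule.factor_surjective hle) ?_
  intro q
  constructor
  · intro hq
    obtain ⟨y, rfl⟩ := Submodule.mkQ_surjective _ q
    rw [Submodule.factor_mk, Submodule.mkQ_apply, Submodule.Quotient.mk_eq_zero] at hq
    exact ⟨⟨_, ⟨y, hq, rfl⟩⟩, rfl⟩
  · rintro ⟨⟨_, ⟨y, hy, rfl⟩⟩, rfl⟩
    change Submodule.factor hle ((I ^ (n + 1) • (⊤ : Submodule A M)).mkQ y) = 0
    rw [Submodule.factor_mk, Submodule.mkQ_apply, Submodule.Quotient.mk_eq_zero]
    exact hy

lemma isFiniteLength_quot (n : ℕ) :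
    IsFiniteLength A (M ⧸ (I ^ n • (⊤ : Submodule A M))) := by
  rw [← Module.length_ne_top_iff]
  induction n with
  | zero =>
    have : Subsingleton (M ⧸ (I ^ 0 • (⊤ : Submodule A M))) := by
      rw [pow_zero, Ideal.one_eq_top, Submodule.top_smul]
      exact Submodule.Quotient.subsingleton_iff.2 rfl
    rw [Module.length_eq_zero]
    exact ENat.zero_ne_top
  | succ n ih =>
    rw [length_succ]
    exact WithTop.add_ne_top.2 ⟨Module.length_ne_top_iff.2 (isFiniteLength_D I M n), ih⟩

lemma chi_zero : chi I M 0 = 0 := by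
  have : Subsingleton (M ⧸ (I ^ 0 • (⊤ : Submodule A M))) := by
    rw [pow_zero, Ideal.one_eq_top, Submodule.top_smul]
    exact Submodule.Quotient.subsingleton_iff.2 rfl
  simp only [chi]
  rw [Module.length_eq_zero]
  rfl

lemma chi_succ (n : ℕ) : chi I M (n + 1) = chi I M n + hgr I M n := by
  simp only [chi, hgr]
  rw [length_succ, ENat.toNat_add (Module.length_ne_top_iff.2 (isFiniteLength_D I M n))
    (Module.length_ne_top_iff.2 (isFiniteLength_quot I M n))]
  push_cast
  ring

lemma chi_nonneg (n : ℕ) : 0 ≤ chi I M n := by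
  simp only [chi]
  exact Int.natCast_nonneg _

lemma hgr_nonneg (n : ℕ) : 0 ≤ hgr I M n := by
  simp only [hgr]
  exact Int.natCast_nonneg _

lemma chi_mono {n n' : ℕ} (h : n ≤ n') : chi I M n ≤ chi I M n' := by
  induction n', h using Nat.le_induction with
  | base => exact le_rfl
  | succ k _ ih =>
    rw [chi_succ]
    have := hgr_nonneg I M k
    omega

/-- the Samuel function is eventually polynomial. -/
theorem exists_evPoly_chi : ∃ s : ℕ, EvPoly s (chi I M) := by
  obtain ⟨s, hs⟩ := exists_evPoly_hgr I M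
  refine ⟨s + 1, ?_⟩
  rw [evPoly_succ_iff]
  have : fwdDiff 1 (chi I M) = hgr I M := by
    funext n
    simp only [fwdDiff]
    rw [chi_succ]
    ring
  rwa [this]

lemma length_eq_chi (n : ℕ) :
    Module.length A (M ⧸ (I ^ n • (⊤ : Submodule A M))) = ((chi I M n).toNat : ℕ∞) := by
  simp only [chi, Int.toNat_natCast]
  rw [ENat.natCast_toNat (Module.length_ne_top_iff.2 (isFiniteLength_quot I M n))]

end Groth.Agent.Lib.Helper22.Samuel
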