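import Mathlib
import Groth.Agent.Lib.Helper22.Samuel3

/-!
# Comparison inequalities for Samuel functions
-/

set_option autoImplicit false
set_option linter.unusedSectionVars false

universe u

namespace Groth.Agent.Lib.Helper22.Samuel

open Groth.Agent.Lib.Helper22.HS

section general

variable {A : Type*} [CommRing A] {X Y : Type*} [AddCommGroup X] [Module A X]
  [AddCommGroup Y] [Module A Y]

lemma length_range_le_of_le_ker (ψ : X →ₗ[A] Y) (W : Submodule A X) (h : W ≤ LinearMap.ker ψ) :
    Module.length A ↥(LinearMap.range ψ) ≤ Module.length A (X ⧸ W) := by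
  rw [← (LinearMap.quotKerEquivRange ψ).length_eq]
  exact Module.length_le_of_surjective (Submodule.factor h) (Submodule.factor_surjective h)

lemma length_le_range_of_ker_le (ψ : X →ₗ[A] Y) (W : Submodule A X) (h : LinearMap.ker ψ ≤ W) :
    Module.length A (X ⧸ W) ≤ Module.length A ↥(LinearMap.range ψ) := by
  rw [← (LinearMap.quotKerEquivRange ψ).length_eq]
  exact Module.length_le_of_surjective (Submodule.factor h) (Submodule.factor_surjective h)

end general

section lengths

variable {A : Type*} [CommRing A] (I : Ideal A) {M M' : Type*} [AddCommGroup M] [Module A M]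
  [AddCommGroup M'] [Module A M']

/-- the map induced on quotients by powers of `I`. -/
noncomputable def mapPow (g : M →ₗ[A] M') (n : ℕ) :
    (M ⧸ (I ^ n • (⊤ : Submodule A M))) →ₗ[A] (M' ⧸ (I ^ n • (⊤ : Submodule A M'))) :=
  Submodule.mapQ _ _ g (Submodule.smul_top_le_comap_smul_top (I ^ n) g)

lemma mapPow_mk (g : M →ₗ[A] M') (n : ℕ) (y : M) :
    mapPow I g n ((I ^ n • (⊤ : Submodule A M)).mkQ y) =
      (I ^ n • (⊤ : Submodule A M')).mkQ (g y) := rfl

lemma mapPow_surjective (g : M →ₗ[A] M') (hg : Function.Surjective g) (n : ℕ) :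
    Function.Surjective (mapPow I g n) := by
  intro q
  obtain ⟨y', rfl⟩ := Submodule.mkQ_surjective _ q
  obtain ⟨y, rfl⟩ := hg y'
  exact ⟨(I ^ n • (⊤ : Submodule A M)).mkQ y, rfl⟩

lemma ker_mapPow (g : M →ₗ[A] M') (hg : Function.Surjective g) (n : ℕ) :
    LinearMap.ker (mapPow I g n) =
      (LinearMap.ker g).map (I ^ n • (⊤ : Submodule A M)).mkQ := by
  rw [mapPow, Submodule.ker_mapQ, Submodule.comap_smul_top_of_surjective _ g hg,
    Submodule.map_sup, Submodule.mkQ_map_self, bot_sup_eq]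

/-- the basic exact sequence for a surjection. -/
lemma length_quot_eq (g : M →ₗ[A] M') (hg : Function.Surjective g) (n : ℕ) :
    Module.length A (M ⧸ (I ^ n • (⊤ : Submodule A M))) =
      Module.length A ↥((LinearMap.ker g).map (I ^ n • (⊤ : Submodule A M)).mkQ) +
        Module.length A (M' ⧸ (I ^ n • (⊤ : Submodule A M'))) := by
  have h := Module.length_eq_add_of_exact (LinearMap.ker (mapPow I g n)).subtype (mapPow I g n)
    (Submodule.subtype_injective _) (mapPow_surjective I g hg n)
    (LinearMap.exact_subtype_ker_map _)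
  rw [h, (LinearEquiv.ofEq _ _ (ker_mapPow I g hg n)).length_eq]

/-- the image of a submodule `N` in `M / I^n M` is a quotient of `N / I^n N`. -/
lemma length_map_le (N : Submodule A M) (n : ℕ) :
    Module.length A ↥(N.map (I ^ n • (⊤ : Submodule A M)).mkQ) ≤
      Module.length A (↥N ⧸ (I ^ n • (⊤ : Submodule A ↥N))) := by
  set ψ : ↥N →ₗ[A] (M ⧸ (I ^ n • (⊤ : Submodule A M))) :=
    (I ^ n • (⊤ : Submodule A M)).mkQ.comp N.subtype with hψ
  have hr : LinearMap.range ψ = N.map (I ^ n • (⊤ : Submodule A M)).mkQ := by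
    rw [hψ, LinearMap.range_comp, Submodule.range_subtype]
  rw [← (LinearEquiv.ofEq _ _ hr).length_eq]
  apply length_range_le_of_le_ker
  rw [hψ, LinearMap.ker_comp, Submodule.ker_mkQ]
  exact Submodule.smul_top_le_comap_smul_top (I ^ n) N.subtype

/-- Artin–Rees: the image of `N` in `M / I^n M` surjects onto `N / I^(n-k) N`. -/
lemma exists_length_le_map [IsNoetherianRing A] [Module.Finite A M] (N : Submodule A M) :
    ∃ k : ℕ, ∀ n, k ≤ n →
      Module.length A (↥N ⧸ (I ^ (n - k) • (⊤ : Submodule A ↥N))) ≤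
        Module.length A ↥(N.map (I ^ n • (⊤ : Submodule A M)).mkQ) := by
  obtain ⟨k, hk⟩ := Ideal.exists_pow_inf_eq_pow_smul I N
  refine ⟨k, fun n hn => ?_⟩
  set ψ : ↥N →ₗ[A] (M ⧸ (I ^ n • (⊤ : Submodule A M))) :=
    (I ^ n • (⊤ : Submodule A M)).mkQ.comp N.subtype with hψ
  have hr : LinearMap.range ψ = N.map (I ^ n • (⊤ : Submodule A M)).mkQ := by
    rw [hψ, LinearMap.range_comp, Submodule.range_subtype]
  rw [← (LinearEquiv.ofEq _ _ hr).length_eq]
  apply length_le_range_of_ker_le
  rw [hψ, LinearMap.ker_comp, Submodule.ker_mkQ]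
  intro y hy
  rw [Submodule.mem_comap] at hy
  have h1 : (y : M) ∈ I ^ n • (⊤ : Submodule A M) ⊓ N := ⟨hy, y.2⟩
  rw [hk n hn] at h1
  have h2 : I ^ (n - k) • (I ^ k • (⊤ : Submodule A M) ⊓ N) ≤
      (I ^ (n - k) • (⊤ : Submodule A ↥N)).map N.subtype := by
    rw [Submodule.map_smul'', Submodule.map_top, Submodule.range_subtype]
    exact Submodule.smul_mono le_rfl inf_le_right
  obtain ⟨y', hy', hyy⟩ := h2 h1
  have : y' = y := Subtype.ext hyy
  rwa [← this]

/-- isomorphic modules have the same Samuel lengths. -/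
lemma length_quot_congr (e : M ≃ₗ[A] M') (n : ℕ) :
    Module.length A (M ⧸ (I ^ n • (⊤ : Submodule A M))) =
      Module.length A (M' ⧸ (I ^ n • (⊤ : Submodule A M'))) := by
  apply le_antisymm
  · have := Module.length_le_of_surjective (mapPow I e.symm.toLinearMap n)
      (mapPow_surjective I _ e.symm.surjective n)
    exact this
  · exact Module.length_le_of_surjective (mapPow I e.toLinearMap n)
      (mapPow_surjective I _ e.surjective n)

end lengths

section chi

variable {A : Type u} [CommRing A] [IsNoetherianRing A] (I : Ideal A) [IsArtinianRing (A ⧸ I)]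
  {M M' : Type u} [AddCommGroup M] [Module A M] [Module.Finite A M]
  [AddCommGroup M'] [Module A M'] [Module.Finite A M']

lemma chi_le_of_length_le {n n' : ℕ}
    (h : Module.length A (M ⧸ (I ^ n • (⊤ : Submodule A M))) ≤
      Module.length A (M' ⧸ (I ^ n' • (⊤ : Submodule A M')))) : chi I M n ≤ chi I M' n' := by
  simp only [chi]
  exact_mod_cast ENat.toNat_le_toNat h (Module.length_ne_top_iff.2 (isFiniteLength_quot I M' n'))

lemma chi_congr (e : M ≃ₗ[A] M') (n : ℕ) : chi I M n = chi I M' n := by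
  simp only [chi]
  rw [length_quot_congr I e n]

lemma chi_le_of_surjective (g : M →ₗ[A] M') (hg : Function.Surjective g) (n : ℕ) :
    chi I M' n ≤ chi I M n :=
  chi_le_of_length_le I (Module.length_le_of_surjective (mapPow I g n) (mapPow_surjective I g hg n))

/-- **Artin–Rees for Samuel functions**: for a submodule `N` of `M`. -/
theorem exists_chi_sub (N : Submodule A M) :
    ∃ k : ℕ, ∀ n, k ≤ n → chi I (M ⧸ N) n + chi I ↥N (n - k) ≤ chi I M n := by
  obtain ⟨k, hk⟩ := exists_length_le_map I N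
  refine ⟨k, fun n hn => ?_⟩
  have h1 := length_quot_eq I N.mkQ (Submodule.mkQ_surjective N) n
  rw [Submodule.ker_mkQ] at h1
  have h2 := hk n hn
  have hfin : Module.length A (M ⧸ (I ^ n • (⊤ : Submodule A M))) ≠ ⊤ :=
    Module.length_ne_top_iff.2 (isFiniteLength_quot I M n)
  have hZ : Module.length A ↥(N.map (I ^ n • (⊤ : Submodule A M)).mkQ) ≠ ⊤ := by
    intro h
    rw [h, top_add] at h1
    exact hfin h1
  have hQ : Module.length A ((M ⧸ N) ⧸ (I ^ n • (⊤ : Submodule A (M ⧸ N)))) ≠ ⊤ :=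
    Module.length_ne_top_iff.2 (isFiniteLength_quot I (M ⧸ N) n)
  simp only [chi]
  rw [h1, ENat.toNat_add hZ hQ]
  have h3 := ENat.toNat_le_toNat h2 hZ
  push_cast
  have h4 : ((Module.length A (↥N ⧸ (I ^ (n - k) • (⊤ : Submodule A ↥N)))).toNat : ℤ) ≤
      ((Module.length A ↥(N.map (I ^ n • (⊤ : Submodule A M)).mkQ)).toNat : ℤ) := by
    exact_mod_cast h3
  linarith

theorem chi_le_add (N : Submodule A M) (n : ℕ) :
    chi I M n ≤ chi I (M ⧸ N) n + chi I ↥N n := by
  have h1 := length_quot_eq I N.mkQ (Submodule.mkQ_surjective N) n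
  rw [Submodule.ker_mkQ] at h1
  have h2 := length_map_le I N n
  have hN : Module.length A (↥N ⧸ (I ^ n • (⊤ : Submodule A ↥N))) ≠ ⊤ :=
    Module.length_ne_top_iff.2 (isFiniteLength_quot I ↥N n)
  have hZ : Module.length A ↥(N.map (I ^ n • (⊤ : Submodule A M)).mkQ) ≠ ⊤ :=
    ne_top_of_le_ne_top hN h2
  have hQ : Module.length A ((M ⧸ N) ⧸ (I ^ n • (⊤ : Submodule A (M ⧸ N)))) ≠ ⊤ :=
    Module.length_ne_top_iff.2 (isFiniteLength_quot I (M ⧸ N) n)
  simp only [chi]
  rw [h1, ENat.toNat_add hZ hQ]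
  have h3 := ENat.toNat_le_toNat h2 hN
  push_cast
  have h4 : ((Module.length A ↥(N.map (I ^ n • (⊤ : Submodule A M)).mkQ)).toNat : ℤ) ≤
      ((Module.length A (↥N ⧸ (I ^ n • (⊤ : Submodule A ↥N)))).toNat : ℤ) := by
    exact_mod_cast h3
  linarith

/-- for an injective map `N → M`, the Samuel function of `N` is bounded by a shift of that
of `M`. -/
theorem exists_chi_le_of_injective (f : M' →ₗ[A] M) (hf : Function.Injective f) :
    ∃ k : ℕ, ∀ n, k ≤ n → chi I M' (n - k) ≤ chi I M n := by
  obtain ⟨k, hk⟩ := exists_chi_sub I (LinearMap.range f)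
  refine ⟨k, fun n hn => ?_⟩
  have h1 := hk n hn
  have h2 := chi_nonneg I (M ⧸ LinearMap.range f) n
  have h3 := chi_congr I (LinearEquiv.ofInjective f hf) (n - k)
  linarith

end chi

end Groth.Agent.Lib.Helper22.Samuel
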