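import Mathlib
import Groth.Agent.Lib.Helper22.Samuel4

/-!
# Samuel functions and quotients by an element
-/

set_option autoImplicit false
set_option linter.unusedSectionVars false

universe u

namespace Groth.Agent.Lib.Helper22.Samuel

open Groth.Agent.Lib.Helper22.HS Pointwise

variable {A : Type u} [CommRing A] [IsNoetherianRing A] (I : Ideal A) [IsArtinianRing (A ⧸ I)]
  (M : Type u) [AddCommGroup M] [Module A M] [Module.Finite A M]

/-- for `x ∈ I`: `χ_M(n+1) ≤ χ_{M/xM}(n+1) + χ_M(n)`. -/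
theorem chi_succ_le_quotSMulTop {x : A} (hx : x ∈ I) (n : ℕ) :
    chi I M (n + 1) ≤ chi I (QuotSMulTop x M) (n + 1) + chi I M n := by
  have h1 := length_quot_eq I (x • (⊤ : Submodule A M)).mkQ (Submodule.mkQ_surjective _) (n + 1)
  rw [Submodule.ker_mkQ] at h1
  set ψ : M →ₗ[A] (M ⧸ (I ^ (n + 1) • (⊤ : Submodule A M))) :=
    (I ^ (n + 1) • (⊤ : Submodule A M)).mkQ.comp (LinearMap.lsmul A M x) with hψ
  have hr : LinearMap.range ψ =
      (x • (⊤ : Submodule A M)).map (I ^ (n + 1) • (⊤ : Submodule A M)).mkQ := by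
    ext q
    constructor
    · rintro ⟨y, rfl⟩
      exact ⟨x • y, (Submodule.mem_smul_pointwise_iff_exists _ _ _).2 ⟨y, trivial, rfl⟩, rfl⟩
    · rintro ⟨z, hz, rfl⟩
      obtain ⟨y, _, rfl⟩ := (Submodule.mem_smul_pointwise_iff_exists _ _ _).1 hz
      exact ⟨y, rfl⟩
  have hker : I ^ n • (⊤ : Submodule A M) ≤ LinearMap.ker ψ := by
    intro y hy
    rw [LinearMap.mem_ker, hψ, LinearMap.comp_apply, LinearMap.lsmul_apply, Submodule.mkQ_apply,
      Submodule.Quotient.mk_eq_zero, pow_succ', mul_smul]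
    exact Submodule.smul_mem_smul hx hy
  have h2 := length_range_le_of_le_ker ψ _ hker
  rw [(LinearEquiv.ofEq _ _ hr).length_eq] at h2
  have hn : Module.length A (M ⧸ (I ^ n • (⊤ : Submodule A M))) ≠ ⊤ :=
    Module.length_ne_top_iff.2 (isFiniteLength_quot I M n)
  have hZ : Module.length A
      ↥((x • (⊤ : Submodule A M)).map (I ^ (n + 1) • (⊤ : Submodule A M)).mkQ) ≠ ⊤ :=
    ne_top_of_le_ne_top hn h2
  have hQ : Module.length A ((QuotSMulTop x M) ⧸
      (I ^ (n + 1) • (⊤ : Submodule A (QuotSMulTop x M)))) ≠ ⊤ :=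
    Module.length_ne_top_iff.2 (isFiniteLength_quot I (QuotSMulTop x M) (n + 1))
  simp only [chi]
  rw [h1, ENat.toNat_add hZ hQ]
  have h3 := ENat.toNat_le_toNat h2 hn
  push_cast
  have h4 : ((Module.length A
      ↥((x • (⊤ : Submodule A M)).map (I ^ (n + 1) • (⊤ : Submodule A M)).mkQ)).toNat : ℤ) ≤
      ((Module.length A (M ⧸ (I ^ n • (⊤ : Submodule A M)))).toNat : ℤ) := by
    exact_mod_cast h3
  linarith

/-- for an `M`-regular element `x`: `χ_{M/xM}(n) + χ_M(n-k) ≤ χ_M(n)` for `n ≥ k`. -/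
theorem exists_chi_quotSMulTop_le {x : A} (hx : IsSMulRegular M x) :
    ∃ k : ℕ, ∀ n, k ≤ n → chi I (QuotSMulTop x M) n + chi I M (n - k) ≤ chi I M n := by
  obtain ⟨k, hk⟩ := exists_chi_sub I (x • (⊤ : Submodule A M))
  refine ⟨k, fun n hn => ?_⟩
  have h1 := hk n hn
  have hinj : Function.Injective (LinearMap.lsmul A M x) := hx
  have hr : LinearMap.range (LinearMap.lsmul A M x) = x • (⊤ : Submodule A M) := by
    ext z
    rw [Submodule.mem_smul_pointwise_iff_exists]
    constructor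
    · rintro ⟨y, rfl⟩
      exact ⟨y, trivial, rfl⟩
    · rintro ⟨y, _, rfl⟩
      exact ⟨y, rfl⟩
  have e : M ≃ₗ[A] ↥(x • (⊤ : Submodule A M)) :=
    (LinearEquiv.ofInjective _ hinj).trans (LinearEquiv.ofEq _ _ hr)
  rw [← chi_congr I e (n - k)] at h1
  exact h1

end Groth.Agent.Lib.Helper22.Samuel
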