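import Mathlib
import Groth.Agent.Lib.Helper22.HS3

/-!
# Integer sequences that are eventually given by a rational polynomial: degree bounds
-/

set_option autoImplicit false
open fwdDiff Finset Polynomial

namespace Groth.Agent.Lib.Helper22.HS

lemma EvPoly.mono {G : Type*} [AddCommGroup G] {e e' : ℕ} (h : e ≤ e') {f : ℕ → G}
    (hf : EvPoly e f) : EvPoly e' f := by
  obtain ⟨N, hN⟩ := hf
  obtain ⟨j, rfl⟩ := Nat.exists_eq_add_of_le h
  refine ⟨N, fun n hn => ?_⟩
  rw [add_comm, Function.iterate_add_apply]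
  have h0 : ∀ m, N ≤ m → (fwdDiff 1)^[e] f m = (0 : ℕ → G) m := fun m hm => hN m hm
  -- the `j`-th difference of a sequence vanishing from `N` on vanishes from `N` on
  rw [fwdDiff_iter_eq_sum_shift]
  refine Finset.sum_eq_zero fun k _ => ?_
  rw [hN (n + k • 1) (by simp only [smul_eq_mul, mul_one]; omega), smul_zero]

lemma EvPoly.nsmul {e : ℕ} {f : ℕ → ℤ} (hf : EvPoly e f) (t : ℕ) :
    EvPoly e (fun n => (t : ℤ) * f n) := by
  obtain ⟨N, hN⟩ := hf
  refine ⟨N, fun n hn => ?_⟩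
  have : (fun n => (t : ℤ) * f n) = (t : ℤ) • f := by ext; simp
  rw [this, fwdDiff_iter_const_smul, Pi.smul_apply, hN n hn, smul_zero]

variable {P : ℚ[X]} {f : ℕ → ℤ} {N : ℕ}

/-- differences of a sequence given by a polynomial. -/
lemma cast_fwdDiff_iter (hfP : ∀ m, N ≤ m → (f m : ℚ) = P.eval (m : ℚ)) (s : ℕ) (m : ℕ)
    (hm : N ≤ m) : (((fwdDiff 1)^[s] f m : ℤ) : ℚ) = ((fwdDiff (1 : ℚ))^[s] P.eval) (m : ℚ) := by
  rw [fwdDiff_iter_eq_sum_shift, fwdDiff_iter_eq_sum_shift, Int.cast_sum]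
  refine Finset.sum_congr rfl fun k _ => ?_
  rw [smul_eq_mul, Int.cast_mul, hfP (m + k • 1) (by simp only [smul_eq_mul, mul_one]; omega),
    zsmul_eq_mul]
  push_cast
  simp

/-- **upper bound for the degree.** -/
theorem natDegree_lt_of_bounds (hP : P ≠ 0)
    (hfP : ∀ m, N ≤ m → (f m : ℚ) = P.eval (m : ℚ)) {g : ℕ → ℤ} {r : ℕ} (hg : EvPoly r g)
    (hb : ∀ m, N ≤ m → 0 ≤ f m ∧ f m ≤ g m) : P.natDegree < r := by
  by_contra hcon
  push Not at hcon
  set e := P.natDegree with he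
  have hf1 : EvPoly (e + 1) f := by
    refine ⟨N, fun m hm => ?_⟩
    have h1 := cast_fwdDiff_iter hfP (e + 1) m hm
    rw [he, Polynomial.fwdDiff_iter_degree_add_one_eq_zero] at h1
    simp only [Pi.zero_apply] at h1
    exact_mod_cast h1
  obtain ⟨N', hN'⟩ := hf1.of_bounds (hg.mono hcon) N hb
  have h2 := cast_fwdDiff_iter hfP e (max N N') (le_max_left _ _)
  rw [hN' _ (le_max_right _ _), he, Polynomial.fwdDiff_iter_degree_eq_factorial] at h2
  simp only [Int.cast_zero, Pi.smul_apply, Pi.natCast_apply, smul_eq_mul] at h2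
  have h3 : P.leadingCoeff = 0 := by
    have hfac : ((P.natDegree.factorial : ℕ) : ℚ) ≠ 0 := by
      exact_mod_cast P.natDegree.factorial_ne_zero
    rcases mul_eq_zero.1 h2.symm with h | h
    · exact h
    · exact absurd h hfac
  exact hP (Polynomial.leadingCoeff_eq_zero.1 h3)

/-- **lower bound for the degree.** -/
theorem le_natDegree_of_lower (hfP : ∀ m, N ≤ m → (f m : ℚ) = P.eval (m : ℚ))
    {D r' : ℕ} (hD : 0 < D) (N' : ℕ)
    (hl : ∀ j, N' ≤ j → (((j + r').choose r' : ℕ) : ℤ) ≤ f (j * D)) : r' ≤ P.natDegree := by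
  by_contra hcon
  push Not at hcon
  set Q : ℚ[X] := P.comp (Polynomial.C (D : ℚ) * Polynomial.X) with hQ
  have hQdeg : Q.natDegree < r' := by
    refine lt_of_le_of_lt (Polynomial.natDegree_comp_le) ?_
    refine lt_of_le_of_lt (Nat.mul_le_mul_left _
      ((Polynomial.natDegree_C_mul_le _ _).trans Polynomial.natDegree_X_le)) ?_
    simpa using hcon
  set w : ℕ → ℤ := fun j => f (j * D) - (((j + r').choose r' : ℕ) : ℤ) with hw
  have hwQ : ∀ j, N ≤ j → ((fun j => f (j * D)) j : ℚ) = Q.eval (j : ℚ) := by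
    intro j hj
    have hjD : N ≤ j * D := le_trans hj (Nat.le_mul_of_pos_right j hD)
    simp only [hQ, Polynomial.eval_comp, Polynomial.eval_mul, Polynomial.eval_C, Polynomial.eval_X]
    rw [hfP _ hjD]
    push_cast
    ring_nf
  have h1 : ∀ j, N ≤ j → (fwdDiff 1)^[r'] (fun j => f (j * D)) j = 0 := by
    intro j hj
    have := cast_fwdDiff_iter (f := fun j => f (j * D)) (P := Q) hwQ r' j hj
    rw [Polynomial.fwdDiff_iter_eq_zero_of_degree_lt hQdeg] at this
    simp only [Pi.zero_apply] at this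
    exact_mod_cast this
  have h2 : ∀ j, (fwdDiff 1)^[r'] (fun j : ℕ => (((j + r').choose r' : ℕ) : ℤ)) j = 1 := by
    intro j
    have h3 := fwdDiff_iter_choose 0 r'
    have h4 := fwdDiff_iter_comp_add (1 : ℕ) (fun x : ℕ => ((x.choose (r' + 0) : ℕ) : ℤ)) r' r' j
    rw [h3] at h4
    simpa using h4
  have h5 : ∀ j, N ≤ j → (fwdDiff 1)^[r'] w j = -1 := by
    intro j hj
    have : w = (fun j => f (j * D)) - (fun j : ℕ => (((j + r').choose r' : ℕ) : ℤ)) := rfl
    rw [this, fwdDiff_iter_sub, Pi.sub_apply, h1 j hj, h2 j]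
    norm_num
  obtain ⟨N'', hN''⟩ := neg_of_fwdDiff_iter_neg r' w N (-1) (by norm_num) h5
  have h6 := hN'' (max N'' N') (le_max_left _ _)
  have h7 := hl (max N'' N') (le_max_right _ _)
  simp only [hw] at h6
  omega

end Groth.Agent.Lib.Helper22.HS
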