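import Mathlib
import Groth.Agent.Lib.Helper22.HS3
import Groth.Agent.Lib.Helper22.HS8

/-!
# More on eventually polynomial integer sequences
-/

set_option autoImplicit false
set_option linter.unusedSectionVars false

namespace Groth.Agent.Lib.Helper22.HS

open Polynomial

/-- a nonnegative eventually polynomial sequence bounded by a sequence that is eventually
polynomial of degree `< e` is itself eventually polynomial of degree `< e`. -/
theorem EvPoly.of_le {e : ℕ} {f g : ℕ → ℤ} (hf : ∃ E, EvPoly E f) (hg : EvPoly e g)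
    (N₀ : ℕ) (hb : ∀ n, N₀ ≤ n → 0 ≤ f n ∧ f n ≤ g n) : EvPoly e f := by
  obtain ⟨E, hE⟩ := hf
  by_cases hle : E ≤ e
  · exact hE.mono hle
  · push Not at hle
    obtain ⟨j, rfl⟩ := Nat.exists_eq_add_of_lt hle
    clear hle
    induction j with
    | zero => exact (hE.of_bounds (hg.mono (by omega)) N₀ hb)
    | succ j ih =>
      apply ih
      have : e + (j + 1) + 1 = (e + j + 1) + 1 := by omega
      rw [this] at hE
      exact hE.of_bounds (hg.mono (by omega)) N₀ hb

lemma EvPoly.shift_add {G : Type*} [AddCommGroup G] {e : ℕ} {f : ℕ → G} (hf : EvPoly e f)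
    (k : ℕ) : EvPoly e (fun n => f (n + k)) := by
  induction k with
  | zero => simpa using hf
  | succ k ih =>
    have := ih.shift
    simpa [add_assoc, add_comm 1 k] using this

lemma evPoly_const {e : ℕ} (c : ℤ) : EvPoly (e + 1) (fun _ : ℕ => c) := by
  refine ⟨0, fun n _ => ?_⟩
  rw [Function.iterate_succ_apply]
  have : fwdDiff 1 (fun _ : ℕ => c) = 0 := by
    funext n
    simp [fwdDiff]
  rw [this]
  have h0 : ∀ k : ℕ, (fwdDiff (1 : ℕ))^[k] (0 : ℕ → ℤ) = 0 := by
    intro k
    induction k with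
    | zero => rfl
    | succ k ih =>
      rw [Function.iterate_succ_apply]
      have : fwdDiff 1 (0 : ℕ → ℤ) = 0 := by
        funext n
        simp [fwdDiff]
      rw [this, ih]
  rw [h0]
  rfl

/-- an eventually polynomial integer sequence agrees eventually with a rational polynomial. -/
theorem EvPoly.exists_polynomial {e : ℕ} {f : ℕ → ℤ} (hf : EvPoly e f) :
    ∃ (P : ℚ[X]) (N : ℕ), ∀ n, N ≤ n → (f n : ℚ) = P.eval (n : ℚ) := by
  obtain ⟨a, N, h⟩ := hf.exists_choose
  refine ⟨∑ k : Fin e, C ((a k : ℚ) / ((k : ℕ).factorial : ℚ)) * descPochhammer ℚ (k : ℕ), N,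
    fun n hn => ?_⟩
  rw [h n hn, eval_finset_sum]
  push_cast
  refine Finset.sum_congr rfl fun k _ => ?_
  rw [eval_mul, eval_C, descPochhammer_eval_eq_descFactorial,
    Nat.descFactorial_eq_factorial_mul_choose]
  have hk : ((k : ℕ).factorial : ℚ) ≠ 0 := by exact_mod_cast (k : ℕ).factorial_ne_zero
  push_cast
  field_simp
  simp [mul_comm]

variable {P : ℚ[X]} {f : ℕ → ℤ} {N : ℕ}

theorem evPoly_of_natDegree_lt (hfP : ∀ m, N ≤ m → (f m : ℚ) = P.eval (m : ℚ)) {e : ℕ}
    (h : P.natDegree < e) : EvPoly e f := by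
  refine ⟨N, fun m hm => ?_⟩
  have h1 := cast_fwdDiff_iter hfP e m hm
  rw [Polynomial.fwdDiff_iter_eq_zero_of_degree_lt h] at h1
  simp only [Pi.zero_apply] at h1
  exact_mod_cast h1

theorem evPoly_iff_natDegree_lt (hP : P ≠ 0)
    (hfP : ∀ m, N ≤ m → (f m : ℚ) = P.eval (m : ℚ)) (hf0 : ∀ m, 0 ≤ f m) {e : ℕ} :
    EvPoly e f ↔ P.natDegree < e :=
  ⟨fun h => natDegree_lt_of_bounds hP hfP h (fun m _ => ⟨hf0 m, le_rfl⟩),
    evPoly_of_natDegree_lt hfP⟩

end Groth.Agent.Lib.Helper22.HS
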