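import Mathlib
import Groth.Agent.Lib.Helper22.Samuel5
import Groth.Agent.Lib.Helper22.Samuel6

/-!
# The dimension theorem: the degree of the Samuel polynomial is the dimension of the support
-/

set_option autoImplicit false
set_option linter.unusedSectionVars false

universe u

namespace Groth.Agent.Lib.Helper22.Samuel

open Groth.Agent.Lib.Helper22.HS Module PrimeSpectrum Order

lemma krullDim_le_coe_iff {α : Type*} [Preorder α] {n : ℕ} :
    krullDim α ≤ n ↔ ∀ l : LTSeries α, l.length ≤ n := by
  simp only [krullDim, iSup_le_iff]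
  exact forall_congr' fun l => by exact_mod_cast Iff.rfl

variable {A : Type u} [CommRing A] [IsNoetherianRing A] (I : Ideal A) [IsArtinianRing (A ⧸ I)]

/-- a prime containing `I` is maximal. -/
lemma isMaximal_of_le (p : Ideal A) [p.IsPrime] (h : I ≤ p) : p.IsMaximal := by
  have hs : Function.Surjective (Ideal.Quotient.factor h) := Ideal.Quotient.factor_surjective h
  haveI : IsArtinianRing (A ⧸ p) := hs.isArtinianRing
  exact Ideal.Quotient.maximal_of_isField _ (IsArtinianRing.isField_of_isDomain (A ⧸ p))

section dimzero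

variable (M : Type u) [AddCommGroup M] [Module A M] [Module.Finite A M]

omit [IsArtinianRing (A ⧸ I)] in
lemma isFiniteLength_of_supportDim_le_zero (h : supportDim A M ≤ 0) : IsFiniteLength A M := by
  have h1 : ringKrullDim (A ⧸ annihilator A M) ≤ 0 := by
    rwa [← supportDim_eq_ringKrullDim_quotient_annihilator]
  haveI : Ring.KrullDimLE 0 (A ⧸ annihilator A M) := Ring.krullDimLE_iff.2 (by exact_mod_cast h1)
  haveI : IsArtinianRing (A ⧸ annihilator A M) :=
    IsNoetherianRing.isArtinianRing_of_krullDimLE_zero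
  exact isFiniteLength_of_torsion (annihilator A M) M
    (fun a ha y => Module.mem_annihilator.1 ha y)

/-- the Samuel function is bounded by the length. -/
lemma chi_le_length (h : IsFiniteLength A M) (n : ℕ) :
    chi I M n ≤ ((Module.length A M).toNat : ℤ) := by
  simp only [chi]
  have := Module.length_le_of_surjective (I ^ n • (⊤ : Submodule A M)).mkQ
    (Submodule.mkQ_surjective _)
  exact_mod_cast ENat.toNat_le_toNat this (Module.length_ne_top_iff.2 h)

end dimzero

section drop

variable {M : Type u} [AddCommGroup M] [Module A M] [Module.Finite A M]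

omit [IsArtinianRing (A ⧸ I)] in
/-- if `x` avoids the non-maximal minimal primes of `M`, then `dim M/xM ≤ dim M - 1`. -/
theorem supportDim_quotSMulTop_le {x : A} {d : ℕ}
    (hx : ∀ p ∈ (annihilator A M).minimalPrimes, ¬ p.IsMaximal → x ∉ p)
    (hd : supportDim A M ≤ ((d + 1 : ℕ) : WithBot ℕ∞)) :
    supportDim A (QuotSMulTop x M) ≤ (d : WithBot ℕ∞) := by
  rw [supportDim, krullDim_le_coe_iff] at hd ⊢
  intro p
  have hp := p.head.2
  simp only [support_quotSMulTop, Set.mem_inter_iff, mem_zeroLocus, Set.singleton_subset_iff]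
    at hp
  have le : support A (QuotSMulTop x M) ⊆ support A M := by simp
  let q : LTSeries (support A M) :=
    p.map (Set.MapsTo.restrict id (support A (QuotSMulTop x M)) (support A M) le) (fun _ _ h ↦ h)
  obtain ⟨r, hrm, hr⟩ := Ideal.exists_minimalPrimes_le (mem_support_iff_of_finite.mp q.head.2)
  haveI := hrm.1.1
  by_cases hreq : r = q.head.1.asIdeal
  · -- then `x ∈ r` so `r` is maximal and the chain has length zero
    have hxr : x ∈ r := by
      rw [hreq]
      have : q.head.1 = p.head.1 := by simp [q]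
      rw [this]
      exact hp.2
    have hmax : r.IsMaximal := by
      by_contra hcon
      exact hx r hrm hcon hxr
    by_contra hlen
    push Not at hlen
    have hpos : 0 < p.length := by omega
    have hlt : p.head < p ⟨1, by omega⟩ := p.strictMono (by
      rw [Fin.lt_def]
      simp)
    have hlt' : p.head.1.asIdeal < (p ⟨1, by omega⟩).1.asIdeal := hlt
    have h1 : q.head.1 = p.head.1 := by simp [q]
    rw [← h1, ← hreq] at hlt'
    have := hmax.eq_of_le (p ⟨1, by omega⟩).1.isPrime.ne_top hlt'.le
    exact absurd this (ne_of_lt hlt')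
  · let r' : support A M := ⟨⟨r, hrm.1.1⟩, mem_support_iff_of_finite.mpr hrm.1.2⟩
    have hr' : r' < q.head := lt_of_le_of_ne hr (fun h => hreq (by
      have := congrArg (fun z : support A M => z.1.asIdeal) h
      simpa [r'] using this))
    have := hd (q.cons r' hr')
    simp only [RelSeries.cons_length, q, LTSeries.map_length] at this
    omega

end drop

section upper

/-- **upper bound**: `χ_M` is eventually polynomial of degree at most `dim M`. -/
theorem evPoly_chi_of_supportDim_le : ∀ (d : ℕ) (M : Type u) [AddCommGroup M] [Module A M]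
    [Module.Finite A M], supportDim A M ≤ (d : WithBot ℕ∞) → EvPoly (d + 1) (chi I M) := by
  intro d
  induction d with
  | zero =>
    intro M _ _ _ h
    have hfl := isFiniteLength_of_supportDim_le_zero M (by exact_mod_cast h)
    exact EvPoly.of_le (exists_evPoly_chi I M) (evPoly_const (e := 0) _) 0
      (fun n _ => ⟨chi_nonneg I M n, chi_le_length I M hfl n⟩)
  | succ d ih =>
    intro M _ _ _ h
    classical
    -- prime avoidance
    have hfin := (annihilator A M).finite_minimalPrimes_of_isNoetherianRing A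
    set T : Finset (Ideal A) := hfin.toFinset.filter (fun p => ¬ p.IsMaximal) with hT
    have hx : ∃ x ∈ I, ∀ p ∈ (annihilator A M).minimalPrimes, ¬ p.IsMaximal → x ∉ p := by
      by_contra hcon
      push Not at hcon
      have hsub : (I : Set A) ⊆ ⋃ p ∈ (T : Set (Ideal A)), (p : Set A) := by
        intro y hy
        obtain ⟨p, hp, hpm, hyp⟩ := hcon y hy
        refine Set.mem_biUnion (x := p) ?_ hyp
        rw [Finset.mem_coe, hT, Finset.mem_filter, Set.Finite.mem_toFinset]
        exact ⟨hp, hpm⟩
      have hprime : ∀ p ∈ T, p ≠ ⊥ → p ≠ ⊥ → p.IsPrime := by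
        intro p hp _ _
        rw [hT, Finset.mem_filter, Set.Finite.mem_toFinset] at hp
        exact hp.1.1.1
      obtain ⟨p, hp, hIp⟩ := (Ideal.subset_union_prime (s := T) (f := fun p => p) ⊥ ⊥ hprime).1 hsub
      rw [hT, Finset.mem_filter, Set.Finite.mem_toFinset] at hp
      haveI := hp.1.1.1
      exact hp.2 (isMaximal_of_le I p hIp)
    obtain ⟨x, hxI, hxp⟩ := hx
    have hdrop := supportDim_quotSMulTop_le hxp h
    have hq := ih (QuotSMulTop x M) hdrop
    rw [evPoly_succ_iff]
    have hΔ : fwdDiff 1 (chi I M) = hgr I M := by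
      funext n
      simp only [fwdDiff]
      rw [chi_succ]
      ring
    rw [hΔ]
    refine EvPoly.of_le (exists_evPoly_hgr I M) (hq.shift_add 1) 0 (fun n _ => ?_)
    refine ⟨hgr_nonneg I M n, ?_⟩
    have := chi_succ_le_quotSMulTop I M hxI n
    rw [chi_succ] at this
    linarith

end upper

section lower

variable (hIJ : I ≤ Ring.jacobson A)

include hIJ in
/-- if the Samuel function is eventually zero, the module is zero. -/
lemma subsingleton_of_evPoly_zero (M : Type u) [AddCommGroup M] [Module A M] [Module.Finite A M]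
    (h : EvPoly 0 (chi I M)) : Subsingleton M := by
  obtain ⟨N, hN⟩ := (evPoly_zero_iff _).1 h
  have h1 := hN (N + 1) (by omega)
  have h2 := length_eq_chi I M (N + 1)
  rw [h1] at h2
  simp only [Int.toNat_zero, Nat.cast_zero] at h2
  rw [Module.length_eq_zero_iff, Submodule.Quotient.subsingleton_iff] at h2
  have h3 : (⊤ : Submodule A M) ≤ I • (⊤ : Submodule A M) := by
    calc (⊤ : Submodule A M) = I ^ (N + 1) • (⊤ : Submodule A M) := h2.symm
      _ ≤ I • (⊤ : Submodule A M) := Submodule.smul_mono_left (Ideal.pow_le_self (by omega))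
  have h4 := Submodule.eq_bot_of_le_smul_of_le_jacobson_bot I ⊤ Module.Finite.fg_top h3
    (by rwa [Ideal.jacobson_bot])
  exact (Submodule.subsingleton_iff A).1 (subsingleton_of_bot_eq_top h4.symm)

include hIJ in
/-- the key step for the lower bound. -/
lemma lower_step (e : ℕ) (M : Type u) [AddCommGroup M] [Module A M] [Module.Finite A M]
    (h : EvPoly (e + 1) (chi I M)) (p : LTSeries (support A M)) (hp : 0 < p.length) :
    ∃ (q : Ideal A) (_ : q.IsPrime) (x : A), x ∈ I ∧
      EvPoly e (chi I (QuotSMulTop x (A ⧸ q))) ∧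
      (p.length : WithBot ℕ∞) ≤ supportDim A (A ⧸ q) ∧
      supportDim A (A ⧸ q) ≤ supportDim A (QuotSMulTop x (A ⧸ q)) + 1 := by
  obtain ⟨q, hqm, hq⟩ := Ideal.exists_minimalPrimes_le (mem_support_iff_of_finite.mp p.head.2)
  haveI hqp : q.IsPrime := hqm.1.1
  have hass : q ∈ associatedPrimes A M :=
    Module.associatedPrimes.minimalPrimes_annihilator_subset_associatedPrimes A M hqm
  obtain ⟨_, f, hf⟩ := (isAssociatedPrime_iff_exists_injective_linearMap q M).1 hass
  obtain ⟨k, hk⟩ := exists_chi_le_of_injective I f hf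
  have hN : EvPoly (e + 1) (chi I (A ⧸ q)) := by
    refine EvPoly.of_le (exists_evPoly_chi I (A ⧸ q)) (h.shift_add k) 0 (fun n _ => ?_)
    refine ⟨chi_nonneg I (A ⧸ q) n, ?_⟩
    have := hk (n + k) (by omega)
    simpa using this
  -- `q` is not maximal
  have hlt : p.head < p ⟨1, by omega⟩ := p.strictMono (by
    rw [Fin.lt_def]
    simp)
  have hlt' : p.head.1.asIdeal < (p ⟨1, by omega⟩).1.asIdeal := hlt
  have hqnm : ¬ q.IsMaximal := by
    intro hmax
    have h1 : q ≤ (p ⟨1, by omega⟩).1.asIdeal := hq.trans hlt'.le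
    have h2 := hmax.eq_of_le (p ⟨1, by omega⟩).1.isPrime.ne_top h1
    rw [h2] at hq
    exact absurd hlt' (not_lt_of_ge hq)
  have hIq : ¬ I ≤ q := fun hle => hqnm (isMaximal_of_le I q hle)
  obtain ⟨x, hxI, hxq⟩ := SetLike.not_le_iff_exists.1 hIq
  have hreg : IsSMulRegular (A ⧸ q) x := by
    intro a b hab
    have hab' : Ideal.Quotient.mk q x * a = Ideal.Quotient.mk q x * b := hab
    have hx0 : Ideal.Quotient.mk q x ≠ 0 := by
      rwa [Ne, Ideal.Quotient.eq_zero_iff_mem]
    exact mul_left_cancel₀ hx0 hab'
  obtain ⟨k', hk'⟩ := exists_chi_quotSMulTop_le I (A ⧸ q) hreg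
  have hQ : EvPoly e (chi I (QuotSMulTop x (A ⧸ q))) := by
    refine EvPoly.of_le (exists_evPoly_chi I _) (hN.sub_shift k') k' (fun n hn => ?_)
    refine ⟨chi_nonneg I _ n, ?_⟩
    have := hk' n hn
    linarith
  refine ⟨q, hqp, x, hxI, hQ, ?_, ?_⟩
  · rw [supportDim]
    have hsup : ∀ z : support A M, p.head ≤ z → z.1 ∈ support A (A ⧸ q) := by
      intro z hz
      rw [Module.support_eq_zeroLocus, Ideal.annihilator_quotient, mem_zeroLocus]
      exact hq.trans hz
    have hall : ∀ i, p.head ≤ p i := fun i => p.monotone (Fin.zero_le _)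
    let p' : LTSeries (support A (A ⧸ q)) :=
      { length := p.length
        toFun := fun i => ⟨(p i).1, hsup _ (hall i)⟩
        step := fun i => p.step i }
    exact p'.length_le_krullDim
  · exact supportDim_le_supportDim_quotSMulTop_succ_of_mem_jacobson
      ((annihilator A (A ⧸ q)).ringJacobson_le_jacobson (hIJ hxI))

include hIJ in
/-- **lower bound**: if `χ_M` is eventually polynomial of degree `≤ e`, then `dim M ≤ e`. -/
theorem supportDim_le_of_evPoly : ∀ (e : ℕ) (M : Type u) [AddCommGroup M] [Module A M]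
    [Module.Finite A M], EvPoly (e + 1) (chi I M) → supportDim A M ≤ (e : WithBot ℕ∞) := by
  intro e
  induction e with
  | zero =>
    intro M _ _ _ h
    rw [supportDim, krullDim_le_coe_iff]
    intro p
    by_contra hlen
    obtain ⟨q, hqp, x, hxI, hev, hlen', hdim⟩ := lower_step I hIJ 0 M h p (by omega)
    haveI := subsingleton_of_evPoly_zero I hIJ _ hev
    rw [supportDim_eq_bot_of_subsingleton A (QuotSMulTop x (A ⧸ q)), WithBot.bot_add] at hdim
    have : (p.length : WithBot ℕ∞) ≤ ⊥ := hlen'.trans hdim
    simp at this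
  | succ e ih =>
    intro M _ _ _ h
    rw [supportDim, krullDim_le_coe_iff]
    intro p
    by_contra hlen
    obtain ⟨q, hqp, x, hxI, hev, hlen', hdim⟩ := lower_step I hIJ (e + 1) M h p (by omega)
    have h1 := ih _ hev
    have h2 : (p.length : WithBot ℕ∞) ≤ ((e + 1 : ℕ) : WithBot ℕ∞) := by
      refine hlen'.trans (hdim.trans ?_)
      push_cast
      gcongr
    have h3 : p.length ≤ e + 1 := by exact_mod_cast h2
    omega

end lower

end Groth.Agent.Lib.Helper22.Samuel
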