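import Mathlib
import Groth.Agent.Lib.Helper22.AssocLen2
import Groth.Agent.Lib.Helper22.Samuel7

/-!
# The one-dimensional associativity formula (helper22)

`ℓ(N/tN) = ℓ(N[t]) + ∑ᵢ ℓ(N_{Pᵢ}) · ℓ(B/(Pᵢ + tB))` for finite modules `N` over a Noetherian local
ring whose support consists of the closed point and finitely many pairwise incomparable primes
`Pᵢ` not containing `t`.
-/

set_option autoImplicit false

universe u

open Function IsLocalRing

namespace Groth.Agent.Lib.Helper22.AssocLen

variable {B : Type u} [CommRing B] [IsNoetherianRing B] [IsLocalRing B] (t : B)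
  {ι : Type u} [Fintype ι] (P : ι → Ideal B) [hP : ∀ i, (P i).IsPrime]

/-- the support of `N` consists of the closed point and the `Pᵢ`. -/
def Good (N : Type u) [AddCommGroup N] [Module B N] : Prop :=
  ∀ q : PrimeSpectrum B, q ∈ Module.support B N →
    q.asIdeal = maximalIdeal B ∨ ∃ i, q.asIdeal = P i

variable {P}

lemma Good.of_injective {N N' : Type u} [AddCommGroup N] [Module B N] [AddCommGroup N']
    [Module B N'] (h : Good P N') (f : N →ₗ[B] N') (hf : Injective f) : Good P N :=
  fun q hq => h q (Module.support_subset_of_injective f hf hq)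

lemma Good.of_surjective {N N' : Type u} [AddCommGroup N] [Module B N] [AddCommGroup N']
    [Module B N'] (h : Good P N) (f : N →ₗ[B] N') (hf : Surjective f) : Good P N' :=
  fun q hq => h q (Module.support_subset_of_surjective f hf hq)

variable {t}

lemma length_Kt_ne_top (htP : ∀ i, t ∉ P i) (N : Type u) [AddCommGroup N] [Module B N]
    [Module.Finite B N] (hN : Good P N) : Module.length B (Kt t N) ≠ ⊤ := by
  rw [Module.length_ne_top_iff]
  apply Groth.Agent.Lib.Helper22.Samuel.isFiniteLength_of_supportDim_le_zero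
  have hsub : Subsingleton (Module.support B (Kt t N)) := by
    have key : ∀ q : PrimeSpectrum B, q ∈ Module.support B (Kt t N) →
        q.asIdeal = maximalIdeal B := by
      intro q hq
      have h1 : q ∈ Module.support B N :=
        Module.support_subset_of_injective (Kt t N).subtype (Submodule.injective_subtype _) hq
      have h2 : t ∈ q.asIdeal := by
        apply Module.annihilator_le_of_mem_support hq
        rw [Module.mem_annihilator]
        intro x
        apply Subtype.ext
        exact x.2
      rcases hN q h1 with h | ⟨i, hi⟩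
      · exact h
      · exact absurd (hi ▸ h2) (htP i)
    constructor
    rintro ⟨q, hq⟩ ⟨q', hq'⟩
    apply Subtype.ext
    apply PrimeSpectrum.ext
    rw [key q hq, key q' hq']
  exact Order.krullDim_nonpos_of_subsingleton

/-- the values on `N ≃ B ⧸ 𝔪`. -/
lemma formula_residue (ht : t ∈ maximalIdeal B) (hPm : ∀ i, P i ≠ maximalIdeal B)
    (N : Type u) [AddCommGroup N] [Module B N] (e : N ≃ₗ[B] B ⧸ maximalIdeal B) :
    Module.length B (Ct t N) = Module.length B (Kt t N) +
      ∑ i, lam (P i) N * Module.length B (B ⧸ (P i ⊔ Ideal.span {t})) := by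
  have hzero : ∀ x : N, t • x = 0 := by
    intro x
    apply e.injective
    rw [map_smul, map_zero]
    obtain ⟨b, hb⟩ := Ideal.Quotient.mk_surjective (e x)
    rw [← hb, ← Ideal.Quotient.mk_eq_mk, ← Submodule.Quotient.mk_smul,
      Submodule.Quotient.mk_eq_zero]
    exact Ideal.mul_mem_right b _ ht
  have h1 : Kt t N = ⊤ := by
    rw [eq_top_iff]
    intro x _
    exact hzero x
  have h2 : LinearMap.range (LinearMap.lsmul B N t) = ⊥ := by
    rw [eq_bot_iff]
    rintro _ ⟨x, rfl⟩
    exact hzero x
  have h3 : Module.length B (Ct t N) = Module.length B N :=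
    (Submodule.quotEquivOfEqBot _ h2).length_eq
  have h4 : Module.length B (Kt t N) = Module.length B N := by
    rw [h1, Module.length_top]
  have h5 : ∀ i, lam (P i) N = 0 := by
    intro i
    rw [lam_congr (P i) e]
    apply lam_quot_of_not_le
    intro hle
    exact hPm i ((IsLocalRing.maximalIdeal.isMaximal B).eq_of_le (hP i).ne_top hle).symm
  rw [h3, h4]
  simp [h5]

/-- the values on `N ≃ B ⧸ Pᵢ`. -/
lemma formula_prime (hinc : ∀ i j, P i ≤ P j → i = j) (htP : ∀ i, t ∉ P i)
    (N : Type u) [AddCommGroup N] [Module B N] (i₀ : ι) (e : N ≃ₗ[B] B ⧸ P i₀) :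
    Module.length B (Ct t N) = Module.length B (Kt t N) +
      ∑ i, lam (P i) N * Module.length B (B ⧸ (P i ⊔ Ideal.span {t})) := by
  classical
  have h1 : Kt t N = ⊥ := by
    rw [eq_bot_iff]
    intro x hx
    have hx' : t • x = 0 := hx
    have h2 : t • e x = 0 := by rw [← map_smul, hx', map_zero]
    obtain ⟨b, hb⟩ := Ideal.Quotient.mk_surjective (e x)
    rw [← hb, ← Ideal.Quotient.mk_eq_mk, ← Submodule.Quotient.mk_smul,
      Submodule.Quotient.mk_eq_zero] at h2
    have hb' : b ∈ P i₀ := ((hP i₀).mem_or_mem h2).resolve_left (htP i₀)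
    have : e x = 0 := by
      rw [← hb]
      exact Ideal.Quotient.eq_zero_iff_mem.2 hb'
    exact e.map_eq_zero_iff.1 this
  have h4 : Module.length B (Kt t N) = 0 := by
    rw [h1]
    exact Module.length_eq_zero
  -- the cokernel
  have h3 : Module.length B (Ct t N) = Module.length B (B ⧸ (P i₀ ⊔ Ideal.span {t})) := by
    let J : Ideal B := P i₀ ⊔ Ideal.span {t}
    have hle : (P i₀ : Submodule B B) ≤ LinearMap.ker (Submodule.mkQ J) := by
      rw [Submodule.ker_mkQ]
      exact le_sup_left
    let θ : (B ⧸ P i₀) →ₗ[B] B ⧸ J := Submodule.liftQ (P i₀) (Submodule.mkQ J) hle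
    have hθ : ∀ b : B, θ (Ideal.Quotient.mk (P i₀) b) = Ideal.Quotient.mk J b := fun b => rfl
    let ψ : N →ₗ[B] B ⧸ J := θ ∘ₗ e.toLinearMap
    have hsurj : Surjective ψ := by
      intro y
      obtain ⟨b, rfl⟩ := Ideal.Quotient.mk_surjective y
      refine ⟨e.symm (Ideal.Quotient.mk (P i₀) b), ?_⟩
      show θ (e (e.symm _)) = _
      rw [e.apply_symm_apply, hθ]
    have hker : LinearMap.range (LinearMap.lsmul B N t) = LinearMap.ker ψ := by
      apply le_antisymm
      · rintro _ ⟨y, rfl⟩
        rw [LinearMap.mem_ker]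
        show ψ (t • y) = 0
        rw [map_smul]
        obtain ⟨b, hb⟩ := Ideal.Quotient.mk_surjective (ψ y)
        rw [← hb, ← Ideal.Quotient.mk_eq_mk, ← Submodule.Quotient.mk_smul,
          Submodule.Quotient.mk_eq_zero]
        exact J.mul_mem_right b (Ideal.mem_sup_right (Ideal.mem_span_singleton_self t))
      · intro x hx
        rw [LinearMap.mem_ker] at hx
        obtain ⟨b, hb⟩ := Ideal.Quotient.mk_surjective (e x)
        have hx' : θ (e x) = 0 := hx
        rw [← hb, hθ, Ideal.Quotient.eq_zero_iff_mem] at hx'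
        obtain ⟨p', hp', c', hc', hsum⟩ := Submodule.mem_sup.1 hx'
        obtain ⟨c, rfl⟩ := Ideal.mem_span_singleton'.1 hc'
        refine ⟨e.symm (Ideal.Quotient.mk (P i₀) c), ?_⟩
        apply e.injective
        show e (t • e.symm (Ideal.Quotient.mk (P i₀) c)) = e x
        rw [map_smul, e.apply_symm_apply, ← hb, ← hsum, map_add,
          Ideal.Quotient.eq_zero_iff_mem.2 hp', zero_add, map_mul, mul_comm]
        rfl
    exact ((Submodule.quotEquivOfEq _ _ hker).trans
      (LinearMap.quotKerEquivOfSurjective ψ hsurj)).length_eq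
  have h5 : ∀ i, i ≠ i₀ → lam (P i) N = 0 := by
    intro i hi
    rw [lam_congr (P i) e]
    apply lam_quot_of_not_le
    intro hle
    exact hi (hinc i₀ i hle).symm
  have h6 : lam (P i₀) N = 1 := by
    rw [lam_congr (P i₀) e, lam_quot_self]
  rw [h3, h4, zero_add, Finset.sum_eq_single i₀]
  · rw [h6, one_mul]
  · intro i _ hi
    rw [h5 i hi, zero_mul]
  · intro h
    exact absurd (Finset.mem_univ i₀) h

/-- **the one-dimensional associativity formula.** -/
theorem formula (ht : t ∈ maximalIdeal B) (hinc : ∀ i j, P i ≤ P j → i = j)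
    (htP : ∀ i, t ∉ P i) (hPm : ∀ i, P i ≠ maximalIdeal B)
    (N : Type u) [AddCommGroup N] [Module B N] [hfin : Module.Finite B N] (hN : Good P N) :
    Module.length B (Ct t N) = Module.length B (Kt t N) +
      ∑ i, lam (P i) N * Module.length B (B ⧸ (P i ⊔ Ideal.span {t})) := by
  refine IsNoetherianRing.induction_on_isQuotientEquivQuotientPrime B (M := N) hfin
    (motive := fun N _ _ _ => Good P N → Module.length B (Ct t N) = Module.length B (Kt t N) +
      ∑ i, lam (P i) N * Module.length B (B ⧸ (P i ⊔ Ideal.span {t}))) ?_ ?_ ?_ hN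
  · intro N _ _ _ _ _
    have h1 : Module.length B (Ct t N) = 0 := by
      rw [Module.length_eq_zero_iff]
      constructor
      intro a b
      obtain ⟨a, rfl⟩ := Submodule.mkQ_surjective _ a
      obtain ⟨b, rfl⟩ := Submodule.mkQ_surjective _ b
      rw [Subsingleton.elim a b]
    have h2 : Module.length B (Kt t N) = 0 := Module.length_eq_zero
    have h3 : ∀ i, lam (P i) N = 0 := fun i => lam_of_subsingleton (P i)
    rw [h1, h2]
    simp [h3]
  · intro N _ _ _ q e hN
    have hq : q ∈ Module.support B N := by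
      rw [e.support_eq, Module.mem_support_iff_of_finite, Ideal.annihilator_quotient]
    rcases hN q hq with h | ⟨i, hi⟩
    · exact formula_residue ht hPm N (e.trans (Submodule.quotEquivOfEq _ _ h))
    · exact formula_prime hinc htP N i (e.trans (Submodule.quotEquivOfEq _ _ hi))
  · intro N₁ _ _ _ N₂ _ _ _ N₃ _ _ _ f g hf hg hfg ih₁ ih₃ hN₂
    have e₁ := ih₁ (hN₂.of_injective f hf)
    have e₃ := ih₃ (hN₂.of_surjective g hg)
    have hs := snake_length t f g hf hg hfg
    have hl : ∀ i, lam (P i) N₂ = lam (P i) N₁ + lam (P i) N₃ :=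
      fun i => lam_exact (P i) f g hf hg hfg
    have hS : ∑ i, lam (P i) N₂ * Module.length B (B ⧸ (P i ⊔ Ideal.span {t})) =
        ∑ i, lam (P i) N₁ * Module.length B (B ⧸ (P i ⊔ Ideal.span {t})) +
        ∑ i, lam (P i) N₃ * Module.length B (B ⧸ (P i ⊔ Ideal.span {t})) := by
      rw [← Finset.sum_add_distrib]
      refine Finset.sum_congr rfl fun i _ => ?_
      rw [hl i, add_mul]
    have hK₁ := length_Kt_ne_top htP N₁ (hN₂.of_injective f hf)
    have hK₃ := length_Kt_ne_top htP N₃ (hN₂.of_surjective g hg)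
    rw [e₁, e₃] at hs
    rw [hS]
    have hne : Module.length B (Kt t N₁) + Module.length B (Kt t N₃) ≠ ⊤ :=
      WithTop.add_ne_top.2 ⟨hK₁, hK₃⟩
    apply ENat.add_right_injective_of_ne_top hne
    show Module.length B (Kt t N₁) + Module.length B (Kt t N₃) + Module.length B (Ct t N₂) = _
    rw [hs]
    ring

end Groth.Agent.Lib.Helper22.AssocLen
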