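import Mathlib
import Groth.Agent.Lib.Helper22.AssocLen3

/-!
# The support of a module `M` with `ℓ(M/tM) < ∞` over a Noetherian local ring (helper22)
-/

set_option autoImplicit false

universe u

open Function IsLocalRing

namespace Groth.Agent.Lib.Helper22.AssocLen

variable {B : Type u} [CommRing B] [IsNoetherianRing B] [IsLocalRing B]

lemma support_of_isFiniteLength {X : Type u} [AddCommGroup X] [Module B X]
    (h : IsFiniteLength B X) :
    ∀ q ∈ Module.support B X, q.asIdeal = maximalIdeal B := by
  induction h with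
  | of_subsingleton =>
    intro q hq
    rw [Module.support_eq_empty] at hq
    exact absurd hq (Set.notMem_empty q)
  | @of_simple_quotient M _ _ N hs hN ih =>
    intro q hq
    rw [Module.support_of_exact (LinearMap.exact_subtype_mkQ N) N.injective_subtype
      N.mkQ_surjective] at hq
    rcases hq with hq | hq
    · exact ih q hq
    · obtain ⟨I, hI, ⟨e⟩⟩ := isSimpleModule_iff_quot_maximal.1 hs
      rw [e.support_eq, Module.mem_support_iff_of_finite, Ideal.annihilator_quotient] at hq
      have := hI.eq_of_le q.2.ne_top hq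
      rw [← this]
      exact IsLocalRing.eq_maximalIdeal hI

/-- Krull's principal ideal theorem: no prime strictly between `p` and `𝔪` when `𝔪` is minimal
over `p + (t)`. -/
lemma no_prime_between {p q : Ideal B} [p.IsPrime] [q.IsPrime] (t : B) (hpq : p < q)
    (hqm : q < maximalIdeal B)
    (hmin : maximalIdeal B ∈ (p ⊔ Ideal.span {t}).minimalPrimes) : False := by
  let π := Ideal.Quotient.mk p
  have hπ : Surjective π := Ideal.Quotient.mk_surjective
  have hker : RingHom.ker π = p := Ideal.mk_ker
  have hcomap : Ideal.comap π (Ideal.span {π t}) = p ⊔ Ideal.span {t} := by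
    have h1 := Ideal.comap_map_of_surjective π hπ (Ideal.span {t})
    rw [Ideal.map_span, Set.image_singleton, ← RingHom.ker_eq_comap_bot, hker] at h1
    rw [h1, sup_comm]
  rw [← hcomap, Ideal.comap_minimalPrimes_eq_of_surjective hπ] at hmin
  obtain ⟨m'', hm'', hm''c⟩ := hmin
  haveI : m''.IsPrime := hm''.1.1
  have h1 : m''.height ≤ 1 :=
    Ideal.height_le_one_of_isPrincipal_of_mem_minimalPrimes (Ideal.span {π t}) m'' hm''
  have hq''p : (Ideal.map π q).IsPrime :=
    Ideal.map_isPrime_of_surjective hπ (by rw [hker]; exact hpq.le)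
  have hq''c : Ideal.comap π (Ideal.map π q) = q := by
    rw [Ideal.comap_map_of_surjective π hπ, ← RingHom.ker_eq_comap_bot, hker]
    exact sup_eq_left.2 hpq.le
  have hbot : (⊥ : Ideal (B ⧸ p)) < Ideal.map π q := by
    refine lt_of_le_of_ne bot_le ?_
    intro h
    have h2 := hq''c
    rw [← h, ← RingHom.ker_eq_comap_bot, hker] at h2
    exact hpq.ne h2
  have hlt : Ideal.map π q < m'' := by
    refine lt_of_le_of_ne ?_ ?_
    · rw [Ideal.map_le_iff_le_comap, hm''c]
      exact hqm.le
    · intro h
      have h2 := hq''c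
      rw [h, hm''c] at h2
      exact hqm.ne h2.symm
  haveI : (⊥ : Ideal (B ⧸ p)).IsPrime := Ideal.isPrime_bot
  have h2 := Ideal.height_add_one_le_of_lt_of_isPrime hbot
  have h3 := Ideal.height_add_one_le_of_lt_of_isPrime hlt
  have h4 : (1 : ℕ∞) ≤ (Ideal.map π q).height := le_trans (by simp) h2
  have h5 : (1 : ℕ∞) + 1 ≤ 1 := (add_le_add_left h4 1).trans (h3.trans h1)
  norm_num at h5

variable (t : B) (M : Type u) [AddCommGroup M] [Module B M] [Module.Finite B M]

/-- primes of the support containing `t` are the closed point. -/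
lemma eq_maximalIdeal_of_mem (hfin : Module.length B (M ⧸ (Ideal.span {t} • (⊤ : Submodule B M))) ≠ ⊤)
    (q : Ideal B) [hq : q.IsPrime] (hann : Module.annihilator B M ≤ q) (htq : t ∈ q) :
    q = maximalIdeal B := by
  have h1 : (⟨q, hq⟩ : PrimeSpectrum B) ∈
      Module.support B (M ⧸ (Ideal.span {t} • (⊤ : Submodule B M))) := by
    rw [Module.support_quotient]
    refine ⟨(Module.mem_support_iff_of_finite).2 hann, ?_⟩
    rw [PrimeSpectrum.zeroLocus_span, PrimeSpectrum.mem_zeroLocus]
    exact Set.singleton_subset_iff.2 htq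
  exact support_of_isFiniteLength (Module.length_ne_top_iff.1 hfin) _ h1

end Groth.Agent.Lib.Helper22.AssocLen
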