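import Mathlib
import Groth.Agent.Lib.Helper22.AssocLen4

/-!
# `ℓ(M/tM) ≥ ∑ₚ ℓ(M_p)` with equality iff `t` is regular and generates `𝔪` modulo every `p`
(helper22)
-/

set_option autoImplicit false

universe u

open Function IsLocalRing

namespace Groth.Agent.Lib.Helper22.AssocLen

variable {B : Type u} [CommRing B] [IsNoetherianRing B] [IsLocalRing B]
variable (t : B) (M : Type u) [AddCommGroup M] [Module B M] [Module.Finite B M]

/-- the minimal primes of the support. -/
abbrev Idx : Type u := {p : Ideal B // p ∈ (Module.annihilator B M).minimalPrimes}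

instance instIdxPrime (i : Idx (B := B) M) : i.1.IsPrime := i.2.1.1

theorem setup (ht : t ∈ maximalIdeal B) (hdim : 0 < Module.supportDim B M)
    (hfin : Module.length B (M ⧸ (Ideal.span {t} • (⊤ : Submodule B M))) ≠ ⊤) :
    (∀ i j : Idx (B := B) M, i.1 ≤ j.1 → i = j) ∧ (∀ i : Idx (B := B) M, t ∉ i.1) ∧
      (∀ i : Idx (B := B) M, i.1 ≠ maximalIdeal B) ∧
      Good (fun i : Idx (B := B) M => i.1) M := by
  have hinc : ∀ i j : Idx (B := B) M, i.1 ≤ j.1 → i = j := by
    intro i j hij
    exact Subtype.ext (le_antisymm hij (j.2.2 i.2.1 hij))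
  have hPm : ∀ i : Idx (B := B) M, i.1 ≠ maximalIdeal B := by
    intro i hi
    have hsub : Subsingleton (Module.support B M) := by
      have key : ∀ q : PrimeSpectrum B, q ∈ Module.support B M →
          q.asIdeal = maximalIdeal B := by
        intro q hq
        have h1 : Module.annihilator B M ≤ q.asIdeal := Module.mem_support_iff_of_finite.1 hq
        have h2 : q.asIdeal ≤ i.1 := hi ▸ IsLocalRing.le_maximalIdeal q.2.ne_top
        exact (le_antisymm h2 (i.2.2 ⟨q.2, h1⟩ h2)).trans hi
      constructor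
      rintro ⟨q, hq⟩ ⟨q', hq'⟩
      apply Subtype.ext
      apply PrimeSpectrum.ext
      rw [key q hq, key q' hq']
    have : Module.supportDim B M ≤ 0 := Order.krullDim_nonpos_of_subsingleton
    exact absurd hdim (not_lt.2 this)
  have htP : ∀ i : Idx (B := B) M, t ∉ i.1 := by
    intro i hti
    exact hPm i (eq_maximalIdeal_of_mem t M hfin i.1 i.2.1.2 hti)
  refine ⟨hinc, htP, hPm, ?_⟩
  intro q hq
  have h1 : Module.annihilator B M ≤ q.asIdeal := Module.mem_support_iff_of_finite.1 hq
  by_cases hqm : q.asIdeal = maximalIdeal B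
  · exact Or.inl hqm
  · right
    obtain ⟨p, hp, hpq⟩ := Ideal.exists_minimalPrimes_le h1
    by_cases hpq' : p = q.asIdeal
    · exact ⟨⟨p, hp⟩, hpq'.symm⟩
    · exfalso
      haveI : p.IsPrime := hp.1.1
      haveI : q.asIdeal.IsPrime := q.2
      refine no_prime_between (p := p) (q := q.asIdeal) t (lt_of_le_of_ne hpq hpq')
        (lt_of_le_of_ne (IsLocalRing.le_maximalIdeal q.2.ne_top) hqm) ?_
      refine ⟨⟨inferInstance, ?_⟩, ?_⟩
      · refine sup_le (IsLocalRing.le_maximalIdeal hp.1.1.ne_top) ?_
        rw [Ideal.span_le, Set.singleton_subset_iff]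
        exact ht
      · rintro q' ⟨hq'p, hq'le⟩ _
        have h2 : Module.annihilator B M ≤ q' := hp.1.2.trans (le_sup_left.trans hq'le)
        have h3 : t ∈ q' := hq'le (Ideal.mem_sup_right (Ideal.mem_span_singleton_self t))
        haveI := hq'p
        exact (eq_maximalIdeal_of_mem t M hfin q' h2 h3).ge

lemma enat_eq_zero_of_add_le {a c : ℕ∞} (hc : c ≠ ⊤) (h : a + c ≤ c) : a = 0 := by
  lift c to ℕ using hc
  cases a with
  | top => simp at h
  | coe a =>
    have : a + c ≤ c := by exact_mod_cast h
    have : a = 0 := by omega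
    simp [this]

lemma range_lsmul_eq : LinearMap.range (LinearMap.lsmul B M t) =
    Ideal.span {t} • (⊤ : Submodule B M) := by
  rw [Submodule.ideal_span_singleton_smul]
  ext x
  rw [Submodule.mem_smul_pointwise_iff_exists]
  constructor
  · rintro ⟨y, rfl⟩
    exact ⟨y, trivial, rfl⟩
  · rintro ⟨y, -, rfl⟩
    exact ⟨y, rfl⟩

lemma length_Kt_eq_zero_iff : Module.length B (Kt t M) = 0 ↔ IsSMulRegular M t := by
  rw [Module.length_eq_zero_iff, Submodule.subsingleton_iff_eq_bot, LinearMap.ker_eq_bot]
  rfl

lemma sup_eq_maximalIdeal_iff (p : Ideal B) (hp : p ≤ maximalIdeal B) :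
    p ⊔ Ideal.span {t} = maximalIdeal B ↔
      Ideal.map (Ideal.Quotient.mk p) (maximalIdeal B) =
        Ideal.span {Ideal.Quotient.mk p t} := by
  have hπ : Surjective (Ideal.Quotient.mk p) := Ideal.Quotient.mk_surjective
  constructor
  · intro h
    rw [← h, Ideal.map_sup, Ideal.map_quotient_self, bot_sup_eq, Ideal.map_span,
      Set.image_singleton]
  · intro h
    have h1 := congrArg (Ideal.comap (Ideal.Quotient.mk p)) h
    rw [Ideal.comap_map_of_surjective _ hπ, ← Ideal.map_span_singleton_aux t p,
      Ideal.comap_map_of_surjective _ hπ, ← RingHom.ker_eq_comap_bot, Ideal.mk_ker] at h1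
    rw [sup_eq_left.2 hp] at h1
    rw [h1, sup_comm]
where
  Ideal.map_span_singleton_aux (t : B) (p : Ideal B) :
      Ideal.map (Ideal.Quotient.mk p) (Ideal.span {t}) = Ideal.span {Ideal.Quotient.mk p t} := by
    rw [Ideal.map_span, Set.image_singleton]

lemma length_quot_eq_one_iff (J : Ideal B) (hJ : J ≤ maximalIdeal B) :
    Module.length B (B ⧸ J) = 1 ↔ J = maximalIdeal B := by
  rw [Module.length_eq_one_iff, isSimpleModule_iff_isCoatom]
  constructor
  · intro h
    exact IsLocalRing.eq_maximalIdeal (Ideal.isMaximal_def.2 h)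
  · rintro rfl
    exact Ideal.isMaximal_def.1 (IsLocalRing.maximalIdeal.isMaximal B)

/-- **the main theorem** (S12132). -/
theorem main (ht : t ∈ maximalIdeal B) (hdim : 0 < Module.supportDim B M)
    (hfin : Module.length B (M ⧸ (Ideal.span {t} • (⊤ : Submodule B M))) ≠ ⊤) :
    (∑ᶠ p : (Module.annihilator B M).minimalPrimes,
        haveI : p.1.IsPrime := p.2.1.1
        Module.length (Localization.AtPrime p.1) (LocalizedModule p.1.primeCompl M)) ≤
      Module.length B (M ⧸ (Ideal.span {t} • (⊤ : Submodule B M))) ∧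
    ((∑ᶠ p : (Module.annihilator B M).minimalPrimes,
        haveI : p.1.IsPrime := p.2.1.1
        Module.length (Localization.AtPrime p.1) (LocalizedModule p.1.primeCompl M)) =
      Module.length B (M ⧸ (Ideal.span {t} • (⊤ : Submodule B M))) ↔
    IsSMulRegular M t ∧
      ∀ p : (Module.annihilator B M).minimalPrimes,
        Ideal.map (Ideal.Quotient.mk p.1) (IsLocalRing.maximalIdeal B) =
          Ideal.span {Ideal.Quotient.mk p.1 t}) := by
  classical
  obtain ⟨hinc, htP, hPm, hgood⟩ := setup t M ht hdim hfin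
  haveI : Finite (Idx (B := B) M) :=
    (Ideal.finite_minimalPrimes_of_isNoetherianRing B (Module.annihilator B M)).to_subtype
  haveI : Fintype (Idx (B := B) M) := Fintype.ofFinite _
  have hform := formula (P := fun i : Idx (B := B) M => i.1) ht hinc htP hPm M hgood
  have hC : Module.length B (Ct t M) =
      Module.length B (M ⧸ (Ideal.span {t} • (⊤ : Submodule B M))) :=
    (Submodule.quotEquivOfEq _ _ (range_lsmul_eq t M)).length_eq
  rw [hC] at hform
  have hsum : (∑ᶠ p : (Module.annihilator B M).minimalPrimes,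
        haveI : p.1.IsPrime := p.2.1.1
        Module.length (Localization.AtPrime p.1) (LocalizedModule p.1.primeCompl M)) =
      ∑ i : Idx (B := B) M, lam i.1 M := by
    rw [finsum_eq_sum_of_fintype]
    rfl
  rw [hsum]
  set c : Idx (B := B) M → ℕ∞ := fun i => Module.length B (B ⧸ (i.1 ⊔ Ideal.span {t})) with hc
  have hJle : ∀ i : Idx (B := B) M, i.1 ⊔ Ideal.span {t} ≤ maximalIdeal B := by
    intro i
    refine sup_le (IsLocalRing.le_maximalIdeal i.2.1.1.ne_top) ?_
    rw [Ideal.span_le, Set.singleton_subset_iff]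
    exact ht
  have hc1 : ∀ i, 1 ≤ c i := by
    intro i
    rw [ENat.one_le_iff_ne_zero, Ne, Module.length_eq_zero_iff, not_subsingleton_iff_nontrivial]
    exact Ideal.Quotient.nontrivial_iff.2
      (fun h => (IsLocalRing.maximalIdeal.isMaximal B).ne_top (top_le_iff.1 (h ▸ hJle i)))
  have hl1 : ∀ i : Idx (B := B) M, 1 ≤ lam i.1 M := by
    intro i
    rw [ENat.one_le_iff_ne_zero, Ne]
    unfold lam
    rw [Module.length_eq_zero_iff, not_subsingleton_iff_nontrivial]
    have : (⟨i.1, i.2.1.1⟩ : PrimeSpectrum B) ∈ Module.support B M :=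
      Module.mem_support_iff_of_finite.2 i.2.1.2
    exact Module.mem_support_iff.1 this
  have hle : ∑ i : Idx (B := B) M, lam i.1 M ≤ ∑ i : Idx (B := B) M, lam i.1 M * c i :=
    Finset.sum_le_sum fun i _ => le_mul_of_one_le_right' (hc1 i)
  refine ⟨?_, ?_⟩
  · rw [hform]
    exact hle.trans le_add_self
  · constructor
    · intro heq
      have hT : ∑ i : Idx (B := B) M, lam i.1 M * c i ≠ ⊤ := by
        intro htop
        apply hfin
        rw [hform, htop, add_top]
      have hK0 : Module.length B (Kt t M) = 0 := by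
        apply enat_eq_zero_of_add_le hT
        rw [← hform, ← heq]
        exact hle
      have hterm_fin : ∀ i : Idx (B := B) M, lam i.1 M * c i ≠ ⊤ := by
        intro i
        exact ne_top_of_le_ne_top hT
          (Finset.single_le_sum_of_canonicallyOrdered (f := fun i : Idx (B := B) M => lam i.1 M * c i)
            (Finset.mem_univ i))
      have hlfin : ∀ i : Idx (B := B) M, lam i.1 M ≠ ⊤ := fun i =>
        ne_top_of_le_ne_top (hterm_fin i) (le_mul_of_one_le_right' (hc1 i))
      have hcfin : ∀ i, c i ≠ ⊤ := fun i =>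
        ne_top_of_le_ne_top (hterm_fin i) (le_mul_of_one_le_left' (hl1 i))
      obtain ⟨l, hl⟩ : ∃ l : Idx (B := B) M → ℕ, ∀ i, lam i.1 M = l i :=
        ⟨fun i => (lam i.1 M).toNat, fun i => (ENat.coe_toNat (hlfin i)).symm⟩
      obtain ⟨c', hc'⟩ : ∃ c' : Idx (B := B) M → ℕ, ∀ i, c i = c' i :=
        ⟨fun i => (c i).toNat, fun i => (ENat.coe_toNat (hcfin i)).symm⟩
      have heq2 : ∑ i, l i = ∑ i, l i * c' i := by
        have h1 : (∑ i : Idx (B := B) M, lam i.1 M) = ∑ i : Idx (B := B) M, lam i.1 M * c i := by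
          rw [heq, hform, hK0, zero_add]
        simp only [hl, hc'] at h1
        exact_mod_cast h1
      have hl1' : ∀ i, 1 ≤ l i := by
        intro i
        have := hl1 i
        rw [hl] at this
        exact_mod_cast this
      have hc1' : ∀ i, 1 ≤ c' i := by
        intro i
        have := hc1 i
        rw [hc'] at this
        exact_mod_cast this
      have hterm : ∀ i ∈ (Finset.univ : Finset (Idx (B := B) M)), l i = l i * c' i :=
        (Finset.sum_eq_sum_iff_of_le (fun i _ => Nat.le_mul_of_pos_right _ (hc1' i))).1 heq2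
      refine ⟨(length_Kt_eq_zero_iff t M).1 hK0, ?_⟩
      intro p
      rw [← sup_eq_maximalIdeal_iff t p.1 (IsLocalRing.le_maximalIdeal p.2.1.1.ne_top),
        ← length_quot_eq_one_iff _ (hJle p)]
      have h1 := hterm p (Finset.mem_univ p)
      have h2 : c' p = 1 := by
        have hp := hl1' p
        nlinarith
      show c p = 1
      rw [hc', h2]
      rfl
    · rintro ⟨hreg, hall⟩
      have hK0 := (length_Kt_eq_zero_iff t M).2 hreg
      have hcall : ∀ i, c i = 1 := by
        intro i
        show Module.length B (B ⧸ (i.1 ⊔ Ideal.span {t})) = 1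
        rw [length_quot_eq_one_iff _ (hJle i),
          sup_eq_maximalIdeal_iff t i.1 (IsLocalRing.le_maximalIdeal i.2.1.1.ne_top)]
        exact hall i
      rw [hform, hK0, zero_add]
      refine Finset.sum_congr rfl fun i _ => ?_
      have h1 : Module.length B (B ⧸ (i.1 ⊔ Ideal.span {t})) = 1 := hcall i
      rw [h1, mul_one]

end Groth.Agent.Lib.Helper22.AssocLen
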