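import Groth.Agent.Lib.Helper3.InvGen
import Groth.Agent.Lib.Helper3.TwistMul
import Groth.Agent.Lib.Helper3.InvTensor

/-!
# Invertible modules on an integral scheme: torsion-freeness of sections,
and triviality criteria when `Γ(X, O_X)` is a field (helper22)
-/

set_option autoImplicit false
set_option linter.style.haveILetI false
set_option linter.unusedSectionVars false
universe u
open CategoryTheory CategoryTheory.Limits AlgebraicGeometry TopologicalSpace Opposite
open Scheme.Modules

namespace Groth.Agent.Lib.Helper22.InvField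

open Groth.Agent.Lib.Helper3 Groth.Agent.Lib.Helper3.QCSec Groth.Agent.Lib.Helper3.InvGen

variable {X : Scheme.{u}} [IsIntegral X]

theorem rres_injective {A B : X.Opens} (h : A ≤ B) (hA : (A : Set X).Nonempty) :
    Function.Injective (rres X h) := by
  haveI : Nonempty A := hA.to_subtype
  exact map_injective_of_isIntegral X (homOfLE h)

theorem inter_nonempty {A B : X.Opens} (hA : (A : Set X).Nonempty) (hB : (B : Set X).Nonempty) :
    ((A ⊓ B : X.Opens) : Set X).Nonempty := by
  have hirr : IrreducibleSpace X := inferInstance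
  exact nonempty_preirreducible_inter A.2 B.2 hA hB

/-- Sections of an invertible module on an integral scheme restrict injectively to nonempty
opens. -/
theorem res_injective_of_isInvertible {L : X.Modules} (hL : PicF.IsInvertible L)
    {A B : X.Opens} (h : A ≤ B) (hA : (A : Set X).Nonempty) : Function.Injective (res L h) := by
  have hz : ∀ m : Γ(L, B), res L h m = 0 → m = 0 := by
    intro m hm
    have hloc : ∀ x : {x : X // x ∈ B}, ∃ (W : X.Opens) (hW : W ≤ B), x.1 ∈ W ∧
        res L hW m = 0 := by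
      intro x
      obtain ⟨U, e, hxU, hg⟩ := exists_isGen hL x.1
      refine ⟨U ⊓ B, inf_le_right, ⟨hxU, x.2⟩, ?_⟩
      have hgW := hg (U ⊓ B) inf_le_left
      obtain ⟨a, ha⟩ := hgW.2 (res L (inf_le_right : U ⊓ B ≤ B) m)
      dsimp only at ha
      have hne : (((U ⊓ B) ⊓ A : X.Opens) : Set X).Nonempty :=
        inter_nonempty ⟨x.1, ⟨hxU, x.2⟩⟩ hA
      have hgWA := hg ((U ⊓ B) ⊓ A) (inf_le_left.trans inf_le_left)
      have h1 : res L (inf_le_left : (U ⊓ B) ⊓ A ≤ U ⊓ B)
          (res L (inf_le_right : U ⊓ B ≤ B) m) = 0 := by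
        rw [res_res]
        have : res L ((inf_le_left : (U ⊓ B) ⊓ A ≤ U ⊓ B).trans (inf_le_right : U ⊓ B ≤ B)) m =
            res L (inf_le_right : (U ⊓ B) ⊓ A ≤ A) (res L h m) := by
          rw [res_res]
        rw [this, hm, res_zero]
      rw [← ha, res_smul, res_res] at h1
      have h2 := hgWA.eq_zero h1
      have h3 : a = 0 := rres_injective _ hne (by rw [h2]; exact (map_zero _).symm)
      rw [← ha, h3, zero_smul]
    choose W hW hxW hres using hloc
    exact sec_eq_of_locally_eq L W B hW (fun x hx => Opens.mem_iSup.mpr ⟨⟨x, hx⟩, hxW _⟩)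
      m 0 (fun i => by rw [hres i, res_zero])
  intro a b hab
  have h1 : res L h (a - b) = 0 := by rw [res_sub, hab, sub_self]
  exact sub_eq_zero.mp (hz _ h1)

theorem sec_top_ne_zero {L : X.Modules} (s : Coh.structureModule X ⟶ L) (hs : s ≠ 0) :
    sec s ⊤ ≠ 0 := by
  intro h0
  apply hs
  apply Scheme.Modules.hom_ext
  intro U
  ext r
  rw [Scheme.Modules.Hom.zero_app]
  have h1 : s.app U (ofFun U (toFun U r)) = (toFun U r) • sec s U := app_eq_smul_sec s U _
  rw [← res_sec s (le_top : U ≤ ⊤), h0, res_zero, smul_zero] at h1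
  exact h1

/-- the value of a cosection on a section, as a function -/
noncomputable def pair {L : X.Modules} (t : L ⟶ Coh.structureModule X) (V : X.Opens)
    (m : Γ(L, V)) : Γ(X, V) := toFun V (t.app V m)

theorem pair_smul {L : X.Modules} (t : L ⟶ Coh.structureModule X) (V : X.Opens)
    (r : Γ(X, V)) (m : Γ(L, V)) : pair t V (r • m) = r * pair t V m := by
  unfold pair
  rw [Scheme.Modules.Hom.app_smul]
  rfl

theorem pair_res {L : X.Modules} (t : L ⟶ Coh.structureModule X) {A B : X.Opens} (h : A ≤ B)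
    (m : Γ(L, B)) : pair t A (res L h m) = rres X h (pair t B m) := by
  unfold pair
  rw [QCExact.app_res']
  rfl

theorem isIso_cosection (hfield : IsField (Γ(X, ⊤) : Type u)) {L : X.Modules}
    (hL : PicF.IsInvertible L) (s : Coh.structureModule X ⟶ L) (hs : s ≠ 0)
    (t : L ⟶ Coh.structureModule X) (ht : t ≠ 0) : IsIso t := by
  obtain ⟨W, m, hm⟩ : ∃ (W : X.Opens) (m : Γ(L, W)), pair t W m ≠ 0 := by
    by_contra hcon
    push_neg at hcon
    apply ht
    apply Scheme.Modules.hom_ext
    intro U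
    ext m
    rw [Scheme.Modules.Hom.zero_app]
    exact hcon U m
  have hWne : (W : Set X).Nonempty := by
    by_contra hW
    rw [Set.not_nonempty_iff_eq_empty] at hW
    have hWb : W = ⊥ := by
      apply Opens.ext
      rw [hW]; rfl
    subst hWb
    exact hm (Subsingleton.elim _ _)
  obtain ⟨x, hxW⟩ := hWne
  obtain ⟨U, e, hxU, hg⟩ := exists_isGen hL x
  have hVne : ((U ⊓ W : X.Opens) : Set X).Nonempty := ⟨x, hxU, hxW⟩
  haveI : Nonempty ↥(U ⊓ W) := hVne.to_subtype
  have hgV := hg (U ⊓ W) inf_le_left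
  obtain ⟨y, hy⟩ := hgV.2 (res L (inf_le_right : U ⊓ W ≤ W) m)
  dsimp only at hy
  obtain ⟨a, ha⟩ := hgV.2 (sec s (U ⊓ W))
  dsimp only at ha
  set eV := res L (inf_le_left : U ⊓ W ≤ U) e with heV
  have hb : pair t (U ⊓ W) eV ≠ 0 := by
    intro hb0
    have h1 : pair t (U ⊓ W) (res L (inf_le_right : U ⊓ W ≤ W) m) = 0 := by
      rw [← hy, pair_smul, hb0, mul_zero]
    rw [pair_res] at h1
    exact hm (rres_injective _ hVne (h1.trans (map_zero _).symm))
  have ha0 : a ≠ 0 := by
    intro ha0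
    rw [ha0, zero_smul] at ha
    have h1 : res L (le_top : U ⊓ W ≤ ⊤) (sec s ⊤) = res L (le_top : U ⊓ W ≤ ⊤) 0 := by
      rw [res_sec, ← ha, res_zero]
    exact sec_top_ne_zero s hs (res_injective_of_isInvertible hL _ hVne h1)
  have hc : pair t ⊤ (sec s ⊤) ≠ 0 := by
    intro hc0
    have h1 : pair t (U ⊓ W) (sec s (U ⊓ W)) = 0 := by
      rw [← res_sec s (le_top : U ⊓ W ≤ ⊤), pair_res, hc0]
      exact map_zero _
    rw [← ha, pair_smul] at h1
    haveI hne' : Nonempty ((U ⊓ W : X.Opens) : Scheme.{u}) := ⟨⟨x, hxU, hxW⟩⟩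
    haveI : IsDomain Γ(X, U ⊓ W) := IsIntegral.component_integral (U ⊓ W)
    exact (mul_ne_zero ha0 hb) h1
  have hcu : IsUnit (pair t ⊤ (sec s ⊤)) := by
    letI := hfield.toField
    exact IsUnit.mk0 _ hc
  apply TwistMul.isIso_of_locally_bijective
  intro x'
  obtain ⟨U', e', hxU', hg'⟩ := exists_isGen hL x'
  refine ⟨U', hxU', fun V' hV' => ?_⟩
  have hgV' := hg' V' hV'
  obtain ⟨a', ha'⟩ := hgV'.2 (sec s V')
  dsimp only at ha'
  have hu : IsUnit (a' * pair t V' (res L hV' e')) := by
    rw [← pair_smul, ha', ← res_sec s (le_top : V' ≤ ⊤), pair_res]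
    exact hcu.map _
  have hbu : IsUnit (pair t V' (res L hV' e')) := isUnit_of_mul_isUnit_right hu
  rw [← Function.Bijective.of_comp_iff _ hgV']
  have hcomp : (⇑(ConcreteCategory.hom (t.app V')) ∘ fun a : Γ(X, V') => a • res L hV' e') =
      fun a : Γ(X, V') => ofFun V' (a * pair t V' (res L hV' e')) := by
    funext r
    change t.app V' (r • res L hV' e') = _
    have := pair_smul t V' r (res L hV' e')
    exact this
  rw [hcomp]
  obtain ⟨v, hv⟩ := hbu.exists_right_inv
  constructor
  · intro r1 r2 h12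
    have h12' : r1 * pair t V' (res L hV' e') = r2 * pair t V' (res L hV' e') := h12
    calc r1 = r1 * pair t V' (res L hV' e') * v := by rw [mul_assoc, hv, mul_one]
      _ = r2 * pair t V' (res L hV' e') * v := by rw [h12']
      _ = r2 := by rw [mul_assoc, hv, mul_one]
  · intro z
    refine ⟨toFun V' z * v, ?_⟩
    change ofFun V' (toFun V' z * v * pair t V' (res L hV' e')) = z
    rw [mul_assoc, mul_comm v, hv, mul_one]
    rfl

open Groth.Agent.Lib.Helper3.InvTensor in
theorem isIso_of_tensorPow_trivial (hfield : IsField (Γ(X, ⊤) : Type u)) {L : X.Modules}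
    (hL : PicF.IsInvertible L) (s : Coh.structureModule X ⟶ L) (hs : s ≠ 0) (d : ℕ) (hd : 0 < d)
    (φ : CohB1.tensorPow L d ≅ Coh.structureModule X) : IsIso s := by
  set sd := SecTwist.powHom s d with hsd
  have hx : Nonempty X := inferInstance
  obtain ⟨x⟩ := hx
  obtain ⟨U, e, hxU, hg⟩ := exists_isGen hL x
  have hUne : (U : Set X).Nonempty := ⟨x, hxU⟩
  haveI : Nonempty (U : Scheme.{u}) := ⟨⟨x, hxU⟩⟩
  haveI : IsDomain Γ(X, U) := IsIntegral.component_integral U
  obtain ⟨a, ha⟩ := hg.self.2 (sec s U)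
  dsimp only at ha
  have ha0 : a ≠ 0 := by
    intro ha0
    rw [ha0, zero_smul] at ha
    have h1 : res L (le_top : U ≤ ⊤) (sec s ⊤) = res L (le_top : U ≤ ⊤) 0 := by
      rw [res_sec, ← ha, res_zero]
    exact sec_top_ne_zero s hs (res_injective_of_isInvertible hL _ hUne h1)
  have h1 : sec sd U = a ^ d • lpow L e d := by rw [sec_powHom, ← ha, lpow_smul]
  have hsd0 : sd ≠ 0 := by
    intro h0
    have h2 : sec sd U = 0 := by rw [h0]; rfl
    rw [h1] at h2
    exact pow_ne_zero d ha0 ((isGen_lpow hg d).self.eq_zero h2)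
  have hc0 : sd ≫ φ.hom ≠ 0 := fun h => hsd0 (by rw [← cancel_mono φ.hom, h, zero_comp])
  have hc : pair φ.hom ⊤ (sec sd ⊤) ≠ 0 := sec_top_ne_zero _ hc0
  have hcu : IsUnit (pair φ.hom ⊤ (sec sd ⊤)) := by
    letI := hfield.toField
    exact IsUnit.mk0 _ hc
  apply TwistMul.isIso_of_locally_bijective
  intro x'
  obtain ⟨U', e', hxU', hg'⟩ := exists_isGen hL x'
  refine ⟨U', hxU', fun V' hV' => ?_⟩
  rw [bijective_app_iff]
  have hgV' := hg' V' hV'
  obtain ⟨a', ha'⟩ := hgV'.2 (sec s V')
  dsimp only at ha'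
  rw [← ha']
  apply hgV'.smul_unit
  have h2 : IsUnit (pair φ.hom V' (sec sd V')) := by
    rw [← res_sec sd (le_top : V' ≤ ⊤), pair_res]
    exact hcu.map _
  rw [sec_powHom, ← ha', lpow_smul, pair_smul] at h2
  exact (isUnit_pow_iff hd.ne').mp (isUnit_of_mul_isUnit_left h2)

end Groth.Agent.Lib.Helper22.InvField
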