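import Mathlib

/-!
# Extending a parameter element to a system of parameters inside a prescribed `m`-primary ideal
-/

set_option autoImplicit false
set_option linter.unusedSectionVars false

universe u

namespace Groth.Agent.Lib.Helper22.SOP

open IsLocalRing

variable {R : Type u} [CommRing R] [IsNoetherianRing R] [IsLocalRing R]

/-- prime avoidance for finitely many primes not containing `K`. -/
lemma exists_mem_notMem_of_finite (K : Ideal R) (T : Set (Ideal R)) (hT : T.Finite)
    (hprime : ∀ P ∈ T, P.IsPrime) (hK : ∀ P ∈ T, ¬ K ≤ P) : ∃ x ∈ K, ∀ P ∈ T, x ∉ P := by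
  classical
  by_contra hcon
  push Not at hcon
  have hsub : (K : Set R) ⊆ ⋃ P ∈ (↑hT.toFinset : Set (Ideal R)), (id P : Ideal R) := by
    intro x hx
    obtain ⟨P, hP, hxP⟩ := hcon x hx
    refine Set.mem_biUnion (x := P) ?_ hxP
    exact (Set.Finite.mem_toFinset hT).2 hP
  obtain ⟨P, hP, hKP⟩ := (Ideal.subset_union_prime (s := hT.toFinset) (f := id) ⊥ ⊥
    (fun P hP _ _ => hprime P ((Set.Finite.mem_toFinset hT).1 hP))).1 hsub
  exact hK P ((Set.Finite.mem_toFinset hT).1 hP) hKP

/-- the inductive construction. -/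
theorem exists_partial_sop (d : ℕ) (hd : ringKrullDim R = d) (f : R)
    (hmin : ∀ p ∈ minimalPrimes R, f ∉ p) (K : Ideal R) (hK : ∃ n : ℕ, maximalIdeal R ^ n ≤ K) :
    ∀ j : ℕ, j + 1 ≤ d → ∃ g : Fin j → R, (∀ i, g i ∈ K) ∧
      ∀ P ∈ (Ideal.span (insert f (Set.range g))).minimalPrimes, ((j + 1 : ℕ) : ℕ∞) ≤ P.height := by
  intro j
  induction j with
  | zero =>
    intro _
    refine ⟨Fin.elim0, fun i => i.elim0, ?_⟩
    intro P hP
    haveI := hP.1.1
    have hfP : f ∈ P := hP.1.2 (Ideal.subset_span (Set.mem_insert _ _))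
    have h0 : P.height ≠ 0 := by
      intro h
      rw [Ideal.height_eq_zero_iff] at h
      exact hmin P h hfP
    have : 1 ≤ P.height := Order.one_le_iff_ne_zero.2 h0
    simpa using this
  | succ j ih =>
    intro hj
    obtain ⟨g, hgK, hht⟩ := ih (by omega)
    set I := Ideal.span (insert f (Set.range g)) with hI
    have hfin : I.minimalPrimes.Finite := Ideal.finite_minimalPrimes_of_isNoetherianRing R I
    set T : Set (Ideal R) := I.minimalPrimes \ {maximalIdeal R} with hT
    have hTfin : T.Finite := hfin.subset Set.diff_subset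
    obtain ⟨n, hn⟩ := hK
    obtain ⟨x, hxK, hxT⟩ := exists_mem_notMem_of_finite K T hTfin (fun P hP => hP.1.1.1)
      (fun P hP hKP => by
        haveI := hP.1.1.1
        have h1 : maximalIdeal R ≤ P := Ideal.IsPrime.le_of_pow_le (hn.trans hKP)
        have h2 : P = maximalIdeal R :=
          ((maximalIdeal.isMaximal R).eq_of_le (Ideal.IsPrime.ne_top ‹_›) h1).symm
        exact hP.2 h2)
    refine ⟨Fin.snoc g x, ?_, ?_⟩
    · intro i
      refine Fin.lastCases ?_ (fun i => ?_) i
      · rw [Fin.snoc_last]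
        exact hxK
      · rw [Fin.snoc_castSucc]
        exact hgK i
    · intro Q hQ
      haveI hQp := hQ.1.1
      have hI'le : I ≤ Q := by
        refine le_trans (Ideal.span_mono ?_) hQ.1.2
        rw [Fin.range_snoc]
        intro y hy
        rcases hy with rfl | hy
        · exact Set.mem_insert _ _
        · exact Set.mem_insert_of_mem _ (Set.mem_insert_of_mem _ hy)
      have hxQ : x ∈ Q := by
        apply hQ.1.2
        apply Ideal.subset_span
        rw [Fin.range_snoc]
        exact Set.mem_insert_of_mem _ (Set.mem_insert _ _)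
      by_cases hQm : Q = maximalIdeal R
      · rw [hQm]
        have h1 : ((maximalIdeal R).height : WithBot ℕ∞) = (d : WithBot ℕ∞) := by
          rw [IsLocalRing.maximalIdeal_height_eq_ringKrullDim, hd]
        have h2 : (maximalIdeal R).height = (d : ℕ∞) := by exact_mod_cast h1
        rw [h2]
        exact_mod_cast hj
      · obtain ⟨P, hP, hPQ⟩ := Ideal.exists_minimalPrimes_le hI'le
        haveI := hP.1.1
        have hPm : P ≠ maximalIdeal R := by
          intro h
          rw [h] at hPQ
          exact hQm ((maximalIdeal.isMaximal R).eq_of_le hQp.ne_top hPQ).symm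
        have hxP : x ∉ P := hxT P ⟨hP, hPm⟩
        have hlt : P < Q := lt_of_le_of_ne hPQ (fun h => hxP (h ▸ hxQ))
        have h1 := Ideal.height_add_one_le_of_lt_of_isPrime hlt
        have h2 := hht P hP
        calc ((j + 1 + 1 : ℕ) : ℕ∞) = ((j + 1 : ℕ) : ℕ∞) + 1 := by push_cast; rfl
          _ ≤ P.height + 1 := by gcongr
          _ ≤ Q.height := h1

/-- **existence of a system of parameters containing `f`, with the other members in `K`.** -/
theorem exists_sop (d : ℕ) (hd : ringKrullDim R = d) (hd1 : 1 ≤ d) (f : R)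
    (hmin : ∀ p ∈ minimalPrimes R, f ∉ p) (K : Ideal R) (hK : ∃ n : ℕ, maximalIdeal R ^ n ≤ K) :
    ∃ g : Fin (d - 1) → R, (∀ i, g i ∈ K) ∧
      maximalIdeal R ≤ (Ideal.span (insert f (Set.range g))).radical := by
  obtain ⟨g, hgK, hht⟩ := exists_partial_sop d hd f hmin K hK (d - 1) (by omega)
  refine ⟨g, hgK, ?_⟩
  rw [← Ideal.sInf_minimalPrimes]
  refine le_sInf (fun P hP => ?_)
  haveI := hP.1.1
  have h1 := hht P hP
  have hd' : ((d - 1 + 1 : ℕ) : ℕ∞) = (d : ℕ∞) := by
    congr 1
    omega
  rw [hd'] at h1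
  by_contra hle
  have hPm : P < maximalIdeal R :=
    lt_of_le_of_ne (IsLocalRing.le_maximalIdeal (Ideal.IsPrime.ne_top ‹_›))
      (fun h => hle (h ▸ le_rfl))
  have h2 := Ideal.height_add_one_le_of_lt_of_isPrime hPm
  have h3 : ((maximalIdeal R).height : WithBot ℕ∞) = (d : WithBot ℕ∞) := by
    rw [IsLocalRing.maximalIdeal_height_eq_ringKrullDim, hd]
  have h4 : (maximalIdeal R).height = (d : ℕ∞) := by exact_mod_cast h3
  rw [h4] at h2
  have h5 : (d : ℕ∞) + 1 ≤ (d : ℕ∞) := by
    calc (d : ℕ∞) + 1 ≤ P.height + 1 := by gcongr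
      _ ≤ (d : ℕ∞) := h2
  have h6 : d + 1 ≤ d := by exact_mod_cast h5
  omega

end Groth.Agent.Lib.Helper22.SOP
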