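import Mathlib
import Groth.Agent.Lib.Helper4.RkLift

/-!
# Equidimensionality of fibres-type quotients `B/pB` for flat local maps into catenary
equidimensional rings
-/

set_option autoImplicit false
set_option linter.unusedSectionVars false

universe u

namespace Groth.Agent.Lib.Helper22.EquidimFlat

open Groth.Agent.Lib.Helper4

/-- if all quotients by minimal primes have the same dimension, this is the dimension. -/
theorem ringKrullDim_eq_of_forall_minimalPrimes {R : Type u} [CommRing R]
    (P0 : Ideal R) (hP0 : P0 ∈ minimalPrimes R)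
    (h : ∀ P ∈ minimalPrimes R, ringKrullDim (R ⧸ P) = ringKrullDim (R ⧸ P0)) :
    ringKrullDim R = ringKrullDim (R ⧸ P0) := by
  haveI hP0p : P0.IsPrime := hP0.1.1
  apply le_antisymm
  · haveI : Nonempty (PrimeSpectrum R) := ⟨⟨P0, hP0p⟩⟩
    rw [ringKrullDim, Order.krullDim_eq_iSup_coheight_of_nonempty,
      Groth.Agent.Lib.Helper14.ringKrullDim_quotient_eq_coheight ⟨P0, hP0p⟩]
    apply WithBot.coe_le_coe.mpr
    apply iSup_le
    intro a
    obtain ⟨P, hP, hPa⟩ := Ideal.exists_minimalPrimes_le (bot_le : (⊥ : Ideal R) ≤ a.asIdeal)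
    haveI hPp : P.IsPrime := hP.1.1
    have h1 : Order.coheight a ≤ Order.coheight (⟨P, hPp⟩ : PrimeSpectrum R) :=
      Order.coheight_anti (show (⟨P, hPp⟩ : PrimeSpectrum R) ≤ a from hPa)
    have h2 := h P hP
    rw [Groth.Agent.Lib.Helper14.ringKrullDim_quotient_eq_coheight ⟨P, hPp⟩,
      Groth.Agent.Lib.Helper14.ringKrullDim_quotient_eq_coheight ⟨P0, hP0p⟩] at h2
    have h3 : Order.coheight (⟨P, hPp⟩ : PrimeSpectrum R) =
        Order.coheight (⟨P0, hP0p⟩ : PrimeSpectrum R) := WithBot.coe_injective h2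
    rw [← h3]
    exact h1
  · exact ringKrullDim_le_of_surjective (Ideal.Quotient.mk P0) Ideal.Quotient.mk_surjective

variable {A B : Type u} [CommRing A] [CommRing B] [Algebra A B]

/-- a minimal prime over `pB` lies over `p` when going-down holds. -/
theorem comap_eq_of_mem_minimalPrimes [Algebra.HasGoingDown A B] (p : Ideal A) [p.IsPrime]
    (Q : Ideal B) (hQ : Q ∈ (p.map (algebraMap A B)).minimalPrimes) :
    Q.comap (algebraMap A B) = p := by
  haveI hQp : Q.IsPrime := hQ.1.1
  have hle : p ≤ Q.comap (algebraMap A B) := Ideal.map_le_iff_le_comap.mp hQ.1.2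
  haveI : (Q.comap (algebraMap A B)).IsPrime := Ideal.comap_isPrime _ _
  haveI : Q.LiesOver (Q.comap (algebraMap A B)) := ⟨rfl⟩
  obtain ⟨P, hPQ, hPp, hPover⟩ := Ideal.exists_ideal_le_liesOver_of_le Q hle
  have hPp' : p = P.comap (algebraMap A B) := hPover.over
  have hJP : p.map (algebraMap A B) ≤ P := by
    rw [Ideal.map_le_iff_le_comap, ← hPp']
  have hQP : Q ≤ P := hQ.2 ⟨hPp, hJP⟩ hPQ
  have : P = Q := le_antisymm hPQ hQP
  rw [← this, ← hPp']

theorem height_eq_of_mem_minimalPrimes [Algebra.HasGoingDown A B] [IsNoetherianRing A]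
    [IsNoetherianRing B]
    (p : Ideal A) [p.IsPrime]
    (Q : Ideal B) (hQ : Q ∈ (p.map (algebraMap A B)).minimalPrimes) :
    Q.height = p.height := by
  haveI hQp : Q.IsPrime := hQ.1.1
  haveI : Q.LiesOver p := ⟨(comap_eq_of_mem_minimalPrimes p Q hQ).symm⟩
  rw [Ideal.height_eq_height_add_of_liesOver_of_hasGoingDown p Q]
  have h0 : (Q.map (Ideal.Quotient.mk (p.map (algebraMap A B)))).height = 0 := by
    have hmin : Q.map (Ideal.Quotient.mk (p.map (algebraMap A B))) ∈
        minimalPrimes (B ⧸ p.map (algebraMap A B)) := by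
      have h1 := Ideal.minimalPrimes_eq_comap (I := p.map (algebraMap A B))
      rw [h1] at hQ
      obtain ⟨P', hP', rfl⟩ := hQ
      rw [Ideal.map_comap_of_surjective _ Ideal.Quotient.mk_surjective]
      exact hP'
    haveI : (Q.map (Ideal.Quotient.mk (p.map (algebraMap A B)))).IsPrime := hmin.1.1
    exact Ideal.height_eq_zero_iff.mpr hmin
  rw [h0, add_zero]

end Groth.Agent.Lib.Helper22.EquidimFlat
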