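import Mathlib.RingTheory.Flat.Equalizer
import Mathlib.Algebra.Homology.ShortComplex.ModuleCat
import Mathlib.Algebra.Homology.HomotopyCategory.Acyclic
import Mathlib.Algebra.Homology.HomotopyCategory.MappingCone
import Mathlib.LinearAlgebra.TensorProduct.Prod

/-!
# Helper lemmas on cochain complexes of modules (helper22)

* the sequences `0 → Z^i → K^i → Z^{i+1} → 0` of a cochain complex of modules;
* two-out-of-three for flatness in short exact sequences;
* a morphism of cochain complexes is a quasi-isomorphism iff its mapping cone is acyclic.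
-/

set_option autoImplicit false
universe v u

namespace Groth.Agent.Lib.Helper22

open CategoryTheory CategoryTheory.Limits

open TensorProduct in
/-- In a short exact sequence `0 → M → N → P → 0` with `N` and `P` flat, `M` is flat. -/
theorem flat_of_exact_of_flat {R : Type u} [CommRing R] {M N P : Type u}
    [AddCommGroup M] [AddCommGroup N] [AddCommGroup P] [Module R M] [Module R N] [Module R P]
    (g : M →ₗ[R] N) (f : N →ₗ[R] P) (hg : Function.Injective g) (hf : Function.Surjective f)
    (H : Function.Exact g f) [Module.Flat R N] [Module.Flat R P] : Module.Flat R M := by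
  rw [Module.Flat.iff_rTensor_preserves_injective_linearMap]
  intro N' P' _ _ _ _ i hi
  have h1 : Function.Injective (g.lTensor N') :=
    LinearMap.lTensor_injective_of_exact_of_flat f hf g hg H N'
  have h2 : Function.Injective (i.rTensor N) :=
    Module.Flat.rTensor_preserves_injective_linearMap _ hi
  have h3 : (i.rTensor N) ∘ₗ (g.lTensor N') = (g.lTensor P') ∘ₗ (i.rTensor M) := by
    rw [LinearMap.rTensor_comp_lTensor, LinearMap.lTensor_comp_rTensor]
  have h4 : Function.Injective ((g.lTensor P') ∘ₗ (i.rTensor M)) := by
    rw [← h3]
    exact h2.comp h1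
  exact Function.Injective.of_comp h4

open TensorProduct in
/-- a binary product of flat modules is flat -/
theorem flat_prod {R : Type u} [CommRing R] {M N : Type u}
    [AddCommGroup M] [AddCommGroup N] [Module R M] [Module R N]
    [Module.Flat R M] [Module.Flat R N] : Module.Flat R (M × N) := by
  rw [Module.Flat.iff_rTensor_preserves_injective_linearMap]
  intro N' P' _ _ _ _ f hf
  have h1 : Function.Injective (f.rTensor M) :=
    Module.Flat.rTensor_preserves_injective_linearMap _ hf
  have h2 : Function.Injective (f.rTensor N) :=
    Module.Flat.rTensor_preserves_injective_linearMap _ hf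
  have key : (TensorProduct.prodRight R R P' M N).toLinearMap ∘ₗ f.rTensor (M × N) =
      (LinearMap.prodMap (f.rTensor M) (f.rTensor N)) ∘ₗ
        (TensorProduct.prodRight R R N' M N).toLinearMap := by
    ext x m <;> simp
  have h3 : Function.Injective ((LinearMap.prodMap (f.rTensor M) (f.rTensor N)) ∘ₗ
        (TensorProduct.prodRight R R N' M N).toLinearMap) := by
    rw [LinearMap.coe_comp]
    refine Function.Injective.comp ?_ (LinearEquiv.injective _)
    exact Function.Injective.prodMap h1 h2
  rw [← key, LinearMap.coe_comp] at h3
  exact Function.Injective.of_comp h3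

section

variable {A : Type u} [CommRing A] (K : CochainComplex (ModuleCat.{u} A) ℤ)

theorem iCycles_injective (i : ℤ) : Function.Injective (K.iCycles i).hom :=
  (ModuleCat.mono_iff_injective _).1 inferInstance

theorem iCycles_toCycles_apply (i j : ℤ) (x : K.X i) :
    (K.iCycles j).hom ((K.toCycles i j).hom x) = (K.d i j).hom x := by
  have := K.toCycles_i i j
  rw [← this]
  rfl

theorem d_iCycles_apply (i j : ℤ) (z : K.cycles i) :
    (K.d i j).hom ((K.iCycles i).hom z) = 0 := by
  have := K.iCycles_d i j
  exact congrArg (fun φ => φ.hom z) this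

theorem toCycles_iCycles_apply (i j : ℤ) (z : K.cycles i) :
    (K.toCycles i j).hom ((K.iCycles i).hom z) = 0 := by
  apply iCycles_injective K j
  rw [iCycles_toCycles_apply, map_zero, d_iCycles_apply]

theorem toCycles_surjective (i j k : ℤ) (hij : i + 1 = j) (hjk : j + 1 = k)
    (hex : K.ExactAt j) : Function.Surjective (K.toCycles i j).hom := by
  rw [K.exactAt_iff' i j k (by simp [← hij]) (by simp [← hjk]),
    ShortComplex.moduleCat_exact_iff] at hex
  intro z
  obtain ⟨x, hx⟩ := hex ((K.iCycles j).hom z) (d_iCycles_apply K j k z)
  let x' : K.X i := x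
  refine ⟨x', iCycles_injective K j ?_⟩
  exact (iCycles_toCycles_apply K i j x').trans hx

theorem exact_iCycles_toCycles (i j : ℤ) (hij : i + 1 = j) :
    Function.Exact (K.iCycles i).hom (K.toCycles i j).hom := by
  have hker : (ShortComplex.mk (K.iCycles i) (K.d i j) (K.iCycles_d i j)).Exact :=
    ShortComplex.exact_of_f_is_kernel _ (K.cyclesIsKernel i j (by simp [← hij]))
  rw [ShortComplex.moduleCat_exact_iff] at hker
  intro y
  constructor
  · intro hy
    have hdy : (K.d i j).hom y = 0 := by
      rw [← iCycles_toCycles_apply, hy, map_zero]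
    obtain ⟨z, hz⟩ := hker y hdy
    exact ⟨z, hz⟩
  · rintro ⟨z, rfl⟩
    exact toCycles_iCycles_apply K i j z

end

/-- a morphism of cochain complexes in an abelian category is a quasi-isomorphism iff its mapping
cone is acyclic -/
theorem quasiIso_iff_exactAt_mappingCone {C : Type u} [Category.{v} C] [Abelian C]
    {K L : CochainComplex C ℤ} (φ : K ⟶ L) :
    QuasiIso φ ↔ ∀ n, (CochainComplex.mappingCone φ).ExactAt n := by
  rw [← HomologicalComplex.mem_quasiIso_iff, ← HomotopyCategory.quotient_map_mem_quasiIso_iff,
    HomotopyCategory.quasiIso_eq_trW_subcategoryAcyclic]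
  have h := (HomotopyCategory.subcategoryAcyclic C).trW_iff_of_distinguished _
    (HomotopyCategory.mappingCone_triangleh_distinguished φ)
  rw [← HomotopyCategory.quotient_obj_mem_subcategoryAcyclic_iff_exactAt]
  exact h

end Groth.Agent.Lib.Helper22
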