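import Mathlib

/-!
# Basic identities for Witt vectors over arbitrary commutative rings
-/

set_option autoImplicit false
universe u

namespace Groth.Agent.Lib.Helper22.Witt

open WittVector

variable {p : ℕ} [hp : Fact p.Prime] {R : Type u} [CommRing R]

local notation "𝕎" => WittVector p

/-- `V x * V y = p * V (x * y)` over any commutative ring. -/
theorem verschiebung_mul_verschiebung (x y : 𝕎 R) :
    verschiebung x * verschiebung y = (p : 𝕎 R) * verschiebung (x * y) := by
  rw [← verschiebung_mul_frobenius, frobenius_verschiebung]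
  have : x * (y * (p : 𝕎 R)) = p • (x * y) := by
    rw [nsmul_eq_mul]; ring
  rw [this, map_nsmul, nsmul_eq_mul]

/-- Every Witt vector is the sum of the Teichmüller lift of its zeroth component and a
Verschiebung. -/
theorem exists_eq_teichmuller_add_verschiebung (x : 𝕎 R) :
    ∃ q : 𝕎 R, x = teichmuller p (x.coeff 0) + verschiebung q := by
  have h0 : ∀ i < 1, (x - teichmuller p (x.coeff 0)).coeff i = 0 := by
    intro i hi
    obtain rfl : i = 0 := by omega
    have := map_sub (constantCoeff (p := p) (R := R)) x (teichmuller p (x.coeff 0))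
    simp only [constantCoeff_apply, teichmuller_coeff_zero, sub_self] at this
    exact this
  have := eq_iterate_verschiebung h0
  simp only [Function.iterate_one] at this
  exact ⟨_, by rw [← this]; ring⟩

/-- `p` divides the `n`-th power of a Verschiebung for `n ≥ 2`. -/
theorem p_dvd_verschiebung_pow (q : 𝕎 R) {n : ℕ} (hn : 2 ≤ n) :
    (p : 𝕎 R) ∣ (verschiebung q) ^ n := by
  obtain ⟨m, rfl⟩ : ∃ m, n = 2 + m := ⟨n - 2, by omega⟩
  rw [pow_add, pow_two, verschiebung_mul_verschiebung, mul_assoc]
  exact dvd_mul_right _ _

end Groth.Agent.Lib.Helper22.Witt
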