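import Groth.Prelude.Def_AlgGrp
import Mathlib.AlgebraicGeometry.Morphisms.Flat
import Mathlib.AlgebraicGeometry.PullbackCarrier

/-!
# Points calculus for `AlgGrp.Action` (helper22)

`smul a g x = g • x` for `T`-points `g : T ⟶ G`, `x : T ⟶ X`; functoriality in `T`,
`1 • x = x`, `(g * h) • x = g • (h • x)`; flat surjective morphisms are epimorphisms in `Over S`.
-/

universe u

open CategoryTheory MonoidalCategory CartesianMonoidalCategory MonObj GrpObj AlgebraicGeometry
open CategoryTheory.Limits

namespace Groth.Agent.Lib.Helper22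

variable {S : Scheme.{u}}

/-- action of a `T`-point of `G` on a `T`-point of `X` -/
noncomputable def smul {G X : Over S} [GrpObj G] (a : AlgGrp.Action G X) {T : Over S}
    (g : T ⟶ G) (x : T ⟶ X) : T ⟶ X :=
  lift g x ≫ a.act

theorem smul_def {G X : Over S} [GrpObj G] (a : AlgGrp.Action G X) {T : Over S}
    (g : T ⟶ G) (x : T ⟶ X) : smul a g x = lift g x ≫ a.act := rfl

theorem comp_smul {G X : Over S} [GrpObj G] (a : AlgGrp.Action G X) {T T' : Over S}
    (s : T' ⟶ T) (g : T ⟶ G) (x : T ⟶ X) : s ≫ smul a g x = smul a (s ≫ g) (s ≫ x) := by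
  simp only [smul_def, ← Category.assoc, comp_lift]

theorem pt_one_smul {G X : Over S} [GrpObj G] (a : AlgGrp.Action G X) {T : Over S}
    (x : T ⟶ X) : smul a (1 : T ⟶ G) x = x := by
  have h : lift (1 : T ⟶ G) x = lift (toUnit T) x ≫ (η[G] ▷ X) := by
    rw [lift_whiskerRight]; rfl
  rw [smul_def, h, Category.assoc, a.one_act, lift_leftUnitor_hom]

theorem pt_mul_smul {G X : Over S} [GrpObj G] (a : AlgGrp.Action G X) {T : Over S}
    (g h : T ⟶ G) (x : T ⟶ X) : smul a (g * h) x = smul a g (smul a h x) := by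
  have e : lift (g * h) x = lift (lift g h) x ≫ (μ[G] ▷ X) := by
    rw [lift_whiskerRight]; rfl
  rw [smul_def, e, Category.assoc, a.mul_act, ← Category.assoc, lift_lift_associator_hom,
    ← Category.assoc, lift_whiskerLeft]
  rfl

theorem pt_inv_smul_smul {G X : Over S} [GrpObj G] (a : AlgGrp.Action G X) {T : Over S}
    (g : T ⟶ G) (x : T ⟶ X) : smul a g⁻¹ (smul a g x) = x := by
  rw [← pt_mul_smul, inv_mul_cancel, pt_one_smul]

theorem pt_smul_inv_smul {G X : Over S} [GrpObj G] (a : AlgGrp.Action G X) {T : Over S}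
    (g : T ⟶ G) (x : T ⟶ X) : smul a g (smul a g⁻¹ x) = x := by
  rw [← pt_mul_smul, mul_inv_cancel, pt_one_smul]

/-- the orbit map on points -/
theorem comp_orbitMap {G X : Over S} [GrpObj G] (a : AlgGrp.Action G X)
    (o : 𝟙_ (Over S) ⟶ X) {T : Over S} (g : T ⟶ G) :
    g ≫ a.orbitMap o = smul a g (toUnit T ≫ o) := by
  unfold AlgGrp.Action.orbitMap
  rw [← Category.assoc, comp_lift, Category.comp_id, ← Category.assoc, toUnit_unique (g ≫ toUnit G)]
  rfl

/-- a morphism in `Over S` whose underlying morphism is flat and surjective is an epimorphism -/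
theorem epi_of_flat_of_surjective_left {T T' : Over S} (p : T' ⟶ T) [Flat p.left]
    [Surjective p.left] : Epi p := by
  have : Epi p.left := Flat.epi_of_flat_of_surjective p.left
  exact (Over.forget S).epi_of_epi_map this

/-- fppf-local lifting of a point along a flat surjective morphism: for `f : Y ⟶ Q` flat
surjective and a point `x : T ⟶ Q` there are `p : T' ⟶ T` flat surjective (so epi) and
`y : T' ⟶ Y` with `y ≫ f = p ≫ x`. -/
theorem exists_local_lift {Y Q T : Over S} (f : Y ⟶ Q) [Flat f.left] [Surjective f.left]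
    (x : T ⟶ Q) : ∃ (T' : Over S) (p : T' ⟶ T) (y : T' ⟶ Y), Epi p ∧ y ≫ f = p ≫ x := by
  let T' : Over S := Over.mk (pullback.snd f.left x.left ≫ T.hom)
  have w : pullback.fst f.left x.left ≫ Y.hom = pullback.snd f.left x.left ≫ T.hom := by
    rw [← Over.w f, ← Category.assoc, pullback.condition, Category.assoc, Over.w x]
  let y : T' ⟶ Y := Over.homMk (pullback.fst f.left x.left) w
  let p : T' ⟶ T := Over.homMk (pullback.snd f.left x.left) rfl
  have hp1 : Flat p.left := by
    show Flat (pullback.snd f.left x.left); infer_instance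
  have hp2 : Surjective p.left := by
    show Surjective (pullback.snd f.left x.left); infer_instance
  refine ⟨T', p, y, epi_of_flat_of_surjective_left p, ?_⟩
  ext
  exact pullback.condition

end Groth.Agent.Lib.Helper22
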