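import Mathlib
import Groth.Agent.Lib.Helper22.SmoothRelDim
import Groth.Agent.Lib.Helper12.Equidim

/-!
# Smooth morphisms are locally of constant relative dimension; additivity of fibre dimension
(helper22)
-/

set_option autoImplicit false
set_option linter.style.haveILetI false
set_option linter.unusedSectionVars false
universe u
open AlgebraicGeometry CategoryTheory CategoryTheory.Limits

namespace Groth.Agent.Lib.Helper22.SmoothRelDim

/-- `Spec` of a ring map standard smooth of relative dimension `n`. -/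
theorem smoothOfRelativeDimension_SpecMap (n : ℕ) {R S : CommRingCat.{u}} (φ : R ⟶ S)
    (h : φ.hom.IsStandardSmoothOfRelativeDimension n) :
    SmoothOfRelativeDimension n (Spec.map φ) := by
  rw [HasRingHomProperty.Spec_iff (P := @SmoothOfRelativeDimension n)]
  exact RingHom.locally_of RingHom.isStandardSmoothOfRelativeDimension_respectsIso _ h

/-- A smooth morphism is, locally on the source, smooth of some relative dimension. -/
theorem exists_smoothOfRelativeDimension {X Y : Scheme.{u}} (f : X ⟶ Y) [Smooth f] (x : X) :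
    ∃ (n : ℕ) (W : X.Opens), x ∈ W ∧ SmoothOfRelativeDimension n (W.ι ≫ f) := by
  obtain ⟨V, hV, W, hW, hxW, e, hss⟩ := Smooth.exists_isStandardSmooth f x
  obtain ⟨n, hn⟩ : ∃ n, (f.appLE V W e).hom.IsStandardSmoothOfRelativeDimension n := by
    letI := (f.appLE V W e).hom.toAlgebra
    have hss' : Algebra.IsStandardSmooth Γ(Y, V) Γ(X, W) := hss
    obtain ⟨ι, σ, h1, h2, ⟨P⟩⟩ := hss'
    exact ⟨P.dimension, ⟨ι, σ, h1, h2, P, rfl⟩⟩
  refine ⟨n, W, hxW, ?_⟩
  have h1 : W.ι ≫ f = hW.isoSpec.hom ≫ Spec.map (f.appLE V W e) ≫ hV.fromSpec := by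
    rw [IsAffineOpen.SpecMap_appLE_fromSpec f hV hW e, ← Category.assoc,
      IsAffineOpen.isoSpec_hom_fromSpec]
  haveI := smoothOfRelativeDimension_SpecMap n (f.appLE V W e) hn
  rw [h1]
  have : SmoothOfRelativeDimension (0 + (n + 0))
      (hW.isoSpec.hom ≫ Spec.map (f.appLE V W e) ≫ hV.fromSpec) := inferInstance
  simpa using this

/-- The fibre dimension of a smooth morphism is additive. -/
theorem fibreDimAt_comp {X Y Z : Scheme.{u}} (f : X ⟶ Y) (g : Y ⟶ Z) [Smooth f] [Smooth g]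
    (x : X) :
    FlatMor.fibreDimAt (f ≫ g) x = FlatMor.fibreDimAt f x + FlatMor.fibreDimAt g (f.base x) := by
  obtain ⟨n, Wf, hxf, hf⟩ := exists_smoothOfRelativeDimension f x
  obtain ⟨m, Wg, hxg, hg⟩ := exists_smoothOfRelativeDimension g (f.base x)
  haveI := hf
  haveI := hg
  -- fibre dimension of f at x
  have h1 : FlatMor.fibreDimAt f x = (n : WithBot ℕ∞) := by
    have := Groth.Agent.Lib.Helper12.Equidim.fibreDimAt_comp_openImmersion Wf.ι f ⟨x, hxf⟩
    rw [fibreDimAt_eq n (Wf.ι ≫ f) ⟨x, hxf⟩] at this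
    exact this.symm
  have h2 : FlatMor.fibreDimAt g (f.base x) = (m : WithBot ℕ∞) := by
    have := Groth.Agent.Lib.Helper12.Equidim.fibreDimAt_comp_openImmersion Wg.ι g
      ⟨f.base x, hxg⟩
    rw [fibreDimAt_eq m (Wg.ι ≫ g) ⟨f.base x, hxg⟩] at this
    exact this.symm
  -- the composite
  set f1 := Wf.ι ≫ f with hf1
  haveI : SmoothOfRelativeDimension n (f1 ∣_ Wg) := IsZariskiLocalAtTarget.restrict hf Wg
  haveI : SmoothOfRelativeDimension (n + m) ((f1 ∣_ Wg) ≫ (Wg.ι ≫ g)) := inferInstance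
  let j : ((f1 ⁻¹ᵁ Wg : (Wf : Scheme.{u}).Opens) : Scheme.{u}) ⟶ X := (f1 ⁻¹ᵁ Wg).ι ≫ Wf.ι
  have hj : j ≫ (f ≫ g) = (f1 ∣_ Wg) ≫ (Wg.ι ≫ g) := by
    rw [← Category.assoc (f1 ∣_ Wg), morphismRestrict_ι]
    simp [j, hf1, Category.assoc]
  let z : ((f1 ⁻¹ᵁ Wg : (Wf : Scheme.{u}).Opens) : Scheme.{u}) := ⟨⟨x, hxf⟩, hxg⟩
  have h3 := Groth.Agent.Lib.Helper12.Equidim.fibreDimAt_comp_openImmersion j (f ≫ g) z
  rw [hj, fibreDimAt_eq (n + m) ((f1 ∣_ Wg) ≫ (Wg.ι ≫ g)) z] at h3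
  have hjz : j.base z = x := rfl
  rw [hjz] at h3
  rw [← h3, h1, h2]
  push_cast
  rfl

end Groth.Agent.Lib.Helper22.SmoothRelDim
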