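import Mathlib
import Groth.Agent.S10930

/-!
# Bertini in characteristic zero: the local algebra (helper22)

For a smooth `k`-domain `A` and `a₀, …, a_m ∈ A` with `a_i = 1`, the quotient
`A / (Σ c_l a_l)` is smooth over `k` for `c` outside the zero set of a nonzero polynomial.
Proof: generic smoothness (S10930) for `Spec A[X_j] → 𝔸^{m+1}`.
-/

set_option autoImplicit false
set_option linter.style.haveILetI false
set_option linter.unusedSectionVars false
universe u
open CategoryTheory CategoryTheory.Limits AlgebraicGeometry TopologicalSpace MvPolynomial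

namespace Groth.Agent.Lib.Helper22.BertiniAlg

/-- If `f` restricted over an open `V` has `P` and `g` lands in `V`, the base change of `f` along
`g` has `P`. -/
theorem snd_of_restrict {P : MorphismProperty Scheme.{u}} [P.IsStableUnderBaseChange]
    {T Y W : Scheme.{u}} (f : T ⟶ Y) (V : Y.Opens) (hP : P (f ∣_ V)) (g : W ⟶ Y)
    (hg : Set.range g ⊆ V) : P (pullback.snd f g) := by
  have hrange : Set.range g ⊆ Set.range V.ι := by rw [Scheme.Opens.range_ι]; exact hg
  have hj' : IsOpenImmersion.lift V.ι g hrange ≫ V.ι = g := IsOpenImmersion.lift_fac _ _ _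
  generalize IsOpenImmersion.lift V.ι g hrange = j' at hj'
  have t : IsPullback (f ⁻¹ᵁ V).ι (f ∣_ V) f V.ι := (isPullback_morphismRestrict f V).flip
  have s : IsPullback (pullback.fst f g) (pullback.snd f g) f (j' ≫ V.ι) := by
    rw [hj']; exact IsPullback.of_hasPullback _ _
  exact MorphismProperty.of_isPullback (IsPullback.of_right' s t) hP

/-- A polynomial is congruent to its value at a point modulo the ideal of the point. -/
theorem sub_C_eval_mem {A σ : Type*} [CommRing A] (pt : σ → A) (b : MvPolynomial σ A) :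
    b - C (eval pt b) ∈
      Ideal.span (Set.range fun j => (X j - C (pt j) : MvPolynomial σ A)) := by
  set I := Ideal.span (Set.range fun j => (X j - C (pt j) : MvPolynomial σ A)) with hI
  have h : (Ideal.Quotient.mkₐ A I) =
      ((Ideal.Quotient.mkₐ A I).comp (Algebra.ofId A (MvPolynomial σ A))).comp (aeval pt) := by
    apply MvPolynomial.algHom_ext
    intro j
    simp only [AlgHom.comp_apply, aeval_X, Ideal.Quotient.mkₐ_eq_mk, Algebra.ofId_apply,
      MvPolynomial.algebraMap_eq]
    rw [Ideal.Quotient.eq]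
    exact Ideal.subset_span ⟨j, rfl⟩
  have h2 := congrArg (fun F => F b) h
  simp only [AlgHom.comp_apply, Ideal.Quotient.mkₐ_eq_mk, Algebra.ofId_apply,
    MvPolynomial.algebraMap_eq] at h2
  rw [← Ideal.Quotient.eq, h2]
  rfl

set_option backward.isDefEq.respectTransparency false in
open TensorProduct in
/-- If `Spec B → Spec R` is smooth over an open `V` containing the image of `Spec R/m`, then
`R/m → B/mB` is smooth. -/
theorem exists_smooth_quotient (R B : Type u) [CommRing R] [CommRing B] [Algebra R B]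
    (mc : Ideal R) (V : (Spec (CommRingCat.of R)).Opens)
    (hV : Smooth (Spec.map (CommRingCat.ofHom (algebraMap R B)) ∣_ V))
    (hg : Set.range (Spec.map (CommRingCat.ofHom (algebraMap R (R ⧸ mc)))) ⊆ V) :
    ∃ ρ : (R ⧸ mc) →+* (B ⧸ mc.map (algebraMap R B)), ρ.Smooth ∧
      ∀ r : R, ρ (Ideal.Quotient.mk mc r) = Ideal.Quotient.mk _ (algebraMap R B r) := by
  have hsm : Smooth (pullback.snd (Spec.map (CommRingCat.ofHom (algebraMap R B)))
      (Spec.map (CommRingCat.ofHom (algebraMap R (R ⧸ mc))))) :=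
    snd_of_restrict _ V hV _ hg
  have h1 : Smooth ((pullbackSpecIso R B (R ⧸ mc)).inv ≫ pullback.snd _ _) := inferInstance
  rw [pullbackSpecIso_inv_snd] at h1
  have h2 : RingHom.Smooth (RingHomClass.toRingHom
      (Algebra.TensorProduct.includeRight : (R ⧸ mc) →ₐ[R] B ⊗[R] (R ⧸ mc))) :=
    (HasRingHomProperty.Spec_iff (P := @Smooth)).mp h1
  have he3 : Function.Bijective
      (Algebra.TensorProduct.quotIdealMapEquivTensorQuot B mc).symm.toAlgHom.toRingHom :=
    (Algebra.TensorProduct.quotIdealMapEquivTensorQuot B mc).symm.bijective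
  refine ⟨(Algebra.TensorProduct.quotIdealMapEquivTensorQuot B mc).symm.toAlgHom.toRingHom.comp
    (RingHomClass.toRingHom
      (Algebra.TensorProduct.includeRight : (R ⧸ mc) →ₐ[R] B ⊗[R] (R ⧸ mc))),
    h2.comp (RingHom.Smooth.of_bijective he3), fun r => ?_⟩
  simp only [RingHom.comp_apply]
  change (Algebra.TensorProduct.quotIdealMapEquivTensorQuot B mc).symm
    ((1 : B) ⊗ₜ[R] (Ideal.Quotient.mk mc r)) = _
  rw [Algebra.TensorProduct.quotIdealMapEquivTensorQuot_symm_tmul, Algebra.smul_def, mul_one]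
  rfl

section Local

variable (k : Type u) [Field k] {A : Type u} [CommRing A] [Algebra k A] {m : ℕ}
  (a : Fin (m + 1) → A) (i : Fin (m + 1))

/-- The coordinates of the parametrisation `Spec A[X_j] → 𝔸^{m+1}` of the incidence variety
`Σ c_l a_l = 0` (solved for `c_i`, where `a_i = 1`). -/
noncomputable def vv : Fin (m + 1) → MvPolynomial (Fin m) A :=
  i.insertNth (-(∑ j, X j * C (a (i.succAbove j)))) (fun j => X j)

/-- The parametrisation, as a `k`-algebra map. -/
noncomputable def phi : MvPolynomial (Fin (m + 1)) k →ₐ[k] MvPolynomial (Fin m) A :=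
  aeval (vv a i)

/-- Evaluation at (the coordinates other than the `i`-th of) the point `c`. -/
noncomputable def psi (c : Fin (m + 1) → k) : MvPolynomial (Fin m) A →ₐ[A] A :=
  aeval (fun j => algebraMap k A (c (i.succAbove j)))

/-- The equation of the member of the linear system with parameter `c`. -/
def hh (c : Fin (m + 1) → k) : A := ∑ l, algebraMap k A (c l) * a l

theorem vv_self : vv a i i = -(∑ j, X j * C (a (i.succAbove j))) := by
  unfold vv; exact Fin.insertNth_apply_same _ _ _

theorem vv_succAbove (j : Fin m) : vv a i (i.succAbove j) = X j := by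
  unfold vv; exact Fin.insertNth_apply_succAbove _ _ _ _

theorem hh_eq (hai : a i = 1) (c : Fin (m + 1) → k) :
    hh k a c = algebraMap k A (c i) +
      ∑ j, algebraMap k A (c (i.succAbove j)) * a (i.succAbove j) := by
  unfold hh; rw [Fin.sum_univ_succAbove _ i, hai, mul_one]

theorem psi_vv_self (c : Fin (m + 1) → k) :
    psi k i c (vv a i i) =
      -(∑ j, algebraMap k A (c (i.succAbove j)) * a (i.succAbove j)) := by
  rw [vv_self, map_neg, map_sum]
  congr 1
  apply Finset.sum_congr rfl
  intro j _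
  rw [map_mul]
  simp [psi]

theorem psi_vv_succAbove (c : Fin (m + 1) → k) (j : Fin m) :
    psi k i c (vv a i (i.succAbove j)) = algebraMap k A (c (i.succAbove j)) := by
  rw [vv_succAbove]; simp [psi]

theorem mk_psi_phi (hai : a i = 1) (c : Fin (m + 1) → k) (r : MvPolynomial (Fin (m + 1)) k) :
    Ideal.Quotient.mk (Ideal.span {hh k a c}) (psi k i c (phi k a i r)) =
      algebraMap k (A ⧸ Ideal.span {hh k a c}) (eval c r) := by
  have h : ((Ideal.Quotient.mkₐ k (Ideal.span {hh k a c})).comp
      ((psi k i c).restrictScalars k)).comp (phi k a i) =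
      (Algebra.ofId k (A ⧸ Ideal.span {hh k a c})).comp (aeval c) := by
    apply MvPolynomial.algHom_ext
    intro l
    simp only [AlgHom.comp_apply, phi, aeval_X, AlgHom.restrictScalars_apply,
      Ideal.Quotient.mkₐ_eq_mk, Algebra.ofId_apply]
    rcases Fin.eq_self_or_eq_succAbove i l with rfl | ⟨j, rfl⟩
    · rw [psi_vv_self, IsScalarTower.algebraMap_apply k A (A ⧸ Ideal.span {hh k a c}),
        Ideal.Quotient.algebraMap_eq, Ideal.Quotient.eq, Ideal.mem_span_singleton']
      refine ⟨-1, ?_⟩
      rw [hh_eq k a l hai c]; ring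
    · rw [psi_vv_succAbove, IsScalarTower.algebraMap_apply k A (A ⧸ Ideal.span {hh k a c}),
        Ideal.Quotient.algebraMap_eq]
  have h2 := congrArg (fun F => F r) h
  simp only [AlgHom.comp_apply, AlgHom.restrictScalars_apply, Ideal.Quotient.mkₐ_eq_mk,
    Algebra.ofId_apply] at h2
  rw [h2, MvPolynomial.aeval_eq_eval]

/-- The local form of Bertini's theorem in characteristic zero. -/
theorem exists_poly [IsAlgClosed k] [CharZero k] [Algebra.Smooth k A] [IsDomain A]
    (hai : a i = 1) :
    ∃ p : MvPolynomial (Fin (m + 1)) k, p ≠ 0 ∧ ∀ c : Fin (m + 1) → k, eval c p ≠ 0 →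
      (algebraMap k (A ⧸ Ideal.span {hh k a c})).Smooth := by
  classical
  letI algRB : Algebra (MvPolynomial (Fin (m + 1)) k) (MvPolynomial (Fin m) A) :=
    (phi k a i).toRingHom.toAlgebra
  haveI tower : IsScalarTower k (MvPolynomial (Fin (m + 1)) k) (MvPolynomial (Fin m) A) :=
    IsScalarTower.of_algebraMap_eq (fun x => ((phi k a i).commutes x).symm)
  have hf : Spec.map (CommRingCat.ofHom (algebraMap (MvPolynomial (Fin (m + 1)) k)
        (MvPolynomial (Fin m) A))) ≫
      Spec.map (CommRingCat.ofHom (algebraMap k (MvPolynomial (Fin (m + 1)) k))) =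
      Spec.map (CommRingCat.ofHom (algebraMap k (MvPolynomial (Fin m) A))) := by
    rw [← Spec.map_comp, ← CommRingCat.ofHom_comp, ← IsScalarTower.algebraMap_eq]
  haveI : Algebra.Smooth A (MvPolynomial (Fin m) A) := {}
  haveI : Algebra.Smooth k (MvPolynomial (Fin m) A) :=
    Algebra.Smooth.comp k A (MvPolynomial (Fin m) A)
  haveI : Smooth (Spec.map (CommRingCat.ofHom (algebraMap k (MvPolynomial (Fin m) A)))) :=
    (HasRingHomProperty.Spec_iff (P := @Smooth)).mpr
      (RingHom.smooth_algebraMap.mpr inferInstance)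
  haveI : LocallyOfFiniteType
      (Spec.map (CommRingCat.ofHom (algebraMap k (MvPolynomial (Fin (m + 1)) k)))) :=
    (HasRingHomProperty.Spec_iff (P := @LocallyOfFiniteType)).mpr
      (RingHom.finiteType_algebraMap.mpr inferInstance)
  obtain ⟨V, ⟨x, hx⟩, hV⟩ := Groth.Agent.S10930.result k
    (Spec.map (CommRingCat.ofHom (algebraMap k (MvPolynomial (Fin m) A))))
    (Spec.map (CommRingCat.ofHom (algebraMap k (MvPolynomial (Fin (m + 1)) k))))
    (Spec.map (CommRingCat.ofHom (algebraMap (MvPolynomial (Fin (m + 1)) k)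
        (MvPolynomial (Fin m) A)))) hf
  obtain ⟨_, ⟨p, rfl⟩, hxp, hpV⟩ :=
    PrimeSpectrum.isTopologicalBasis_basic_opens.exists_subset_of_mem_open hx V.isOpen
  refine ⟨p, ?_, fun c hc => ?_⟩
  · rintro rfl
    simp at hxp
  -- the closed point `c`
  have hev_surj : Function.Surjective (eval c : MvPolynomial (Fin (m + 1)) k →+* k) :=
    fun x => ⟨C x, eval_C x⟩
  haveI hmax : (RingHom.ker (eval c : MvPolynomial (Fin (m + 1)) k →+* k)).IsMaximal :=
    RingHom.ker_isMaximal_of_surjective _ hev_surj
  generalize hmc : RingHom.ker (eval c : MvPolynomial (Fin (m + 1)) k →+* k) = mc at hmax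
  have hmem : ∀ r : MvPolynomial (Fin (m + 1)) k, r ∈ mc ↔ eval c r = 0 := by
    intro r; rw [← hmc]; exact RingHom.mem_ker
  have hg : Set.range (Spec.map (CommRingCat.ofHom
      (algebraMap (MvPolynomial (Fin (m + 1)) k) (MvPolynomial (Fin (m + 1)) k ⧸ mc)))) ⊆ V := by
    rintro _ ⟨P, rfl⟩
    apply hpV
    show p ∉ (PrimeSpectrum.comap
      (algebraMap (MvPolynomial (Fin (m + 1)) k) (MvPolynomial (Fin (m + 1)) k ⧸ mc)) P).asIdeal
    intro hp
    have hle : mc ≤ (PrimeSpectrum.comap
        (algebraMap (MvPolynomial (Fin (m + 1)) k) (MvPolynomial (Fin (m + 1)) k ⧸ mc))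
        P).asIdeal := by
      intro r hr
      show algebraMap (MvPolynomial (Fin (m + 1)) k) (MvPolynomial (Fin (m + 1)) k ⧸ mc) r ∈
        P.asIdeal
      rw [Ideal.Quotient.algebraMap_eq, Ideal.Quotient.eq_zero_iff_mem.mpr hr]
      exact zero_mem _
    have heq := hmax.eq_of_le (PrimeSpectrum.comap _ P).isPrime.ne_top hle
    rw [← heq] at hp
    exact hc ((hmem p).mp hp)
  obtain ⟨ρ, hρ, hρmk⟩ := exists_smooth_quotient (MvPolynomial (Fin (m + 1)) k)
    (MvPolynomial (Fin m) A) mc V hV hg
  haveI : Nontrivial ((MvPolynomial (Fin (m + 1)) k) ⧸ mc) := Ideal.Quotient.nontrivial_iff.mpr hmax.ne_top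
  -- `k → R/m_c` is bijective
  have he1 : Function.Bijective (algebraMap k ((MvPolynomial (Fin (m + 1)) k) ⧸ mc)) := by
    constructor
    · exact (algebraMap k ((MvPolynomial (Fin (m + 1)) k) ⧸ mc)).injective
    · intro z
      obtain ⟨r, rfl⟩ := Ideal.Quotient.mk_surjective z
      refine ⟨eval c r, ?_⟩
      rw [IsScalarTower.algebraMap_apply k (MvPolynomial (Fin (m + 1)) k) ((MvPolynomial (Fin (m + 1)) k) ⧸ mc), Ideal.Quotient.algebraMap_eq,
        Ideal.Quotient.eq, hmem]
      simp
  -- the map `B → A/(h)`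
  have hle : mc.map (algebraMap (MvPolynomial (Fin (m + 1)) k) (MvPolynomial (Fin m) A)) ≤
      RingHom.ker ((Ideal.Quotient.mk (Ideal.span {hh k a c})).comp
        (psi k i c).toRingHom) := by
    refine Ideal.map_le_iff_le_comap.mpr (fun r hr => ?_)
    rw [Ideal.mem_comap, RingHom.mem_ker]
    show Ideal.Quotient.mk (Ideal.span {hh k a c}) (psi k i c (phi k a i r)) = 0
    rw [mk_psi_phi k a i hai c r, (hmem r).mp hr, map_zero]
  have hJ1 : ∀ j : Fin m, (X j - C (algebraMap k A (c (i.succAbove j))) : (MvPolynomial (Fin m) A)) ∈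
      mc.map (algebraMap (MvPolynomial (Fin (m + 1)) k) (MvPolynomial (Fin m) A)) := by
    intro j
    have e : (X j - C (algebraMap k A (c (i.succAbove j))) : (MvPolynomial (Fin m) A)) =
        algebraMap (MvPolynomial (Fin (m + 1)) k) (MvPolynomial (Fin m) A) (X (i.succAbove j) - C (c (i.succAbove j))) := by
      rw [map_sub]
      show _ = phi k a i (X (i.succAbove j)) - phi k a i (C (c (i.succAbove j)))
      rw [phi, aeval_X, vv_succAbove, aeval_C, MvPolynomial.algebraMap_apply]
    rw [e]
    exact Ideal.mem_map_of_mem _ ((hmem _).mpr (by simp))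
  have hJ2 : Ideal.span (Set.range fun j : Fin m =>
      (X j - C (algebraMap k A (c (i.succAbove j))) : (MvPolynomial (Fin m) A))) ≤ mc.map (algebraMap (MvPolynomial (Fin (m + 1)) k) (MvPolynomial (Fin m) A)) :=
    Ideal.span_le.mpr (by rintro _ ⟨j, rfl⟩; exact hJ1 j)
  have hJ3 : (C (hh k a c) : (MvPolynomial (Fin m) A)) ∈ mc.map (algebraMap (MvPolynomial (Fin (m + 1)) k) (MvPolynomial (Fin m) A)) := by
    have e : (C (hh k a c) : (MvPolynomial (Fin m) A)) = -(algebraMap (MvPolynomial (Fin (m + 1)) k) (MvPolynomial (Fin m) A) (X i - C (c i))) -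
        ∑ j, (X j - C (algebraMap k A (c (i.succAbove j)))) * C (a (i.succAbove j)) := by
      rw [map_sub]
      show _ = -(phi k a i (X i) - phi k a i (C (c i))) - _
      rw [phi, aeval_X, vv_self, aeval_C, hh_eq k a i hai c, MvPolynomial.algebraMap_apply]
      simp only [map_add, map_sum, map_mul, sub_mul, Finset.sum_sub_distrib]
      ring
    rw [e]
    exact Ideal.sub_mem _ (neg_mem (Ideal.mem_map_of_mem _ ((hmem _).mpr (by simp))))
      (Ideal.sum_mem _ fun j _ => Ideal.mul_mem_right _ _ (hJ1 j))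
  have hge : RingHom.ker ((Ideal.Quotient.mk (Ideal.span {hh k a c})).comp
        (psi k i c).toRingHom) ≤ mc.map (algebraMap (MvPolynomial (Fin (m + 1)) k) (MvPolynomial (Fin m) A)) := by
    intro b hb
    have hb' : psi k i c b ∈ Ideal.span {hh k a c} :=
      Ideal.Quotient.eq_zero_iff_mem.mp (RingHom.mem_ker.mp hb)
    obtain ⟨r, hr⟩ := Ideal.mem_span_singleton'.mp hb'
    have h3 := hJ2 (sub_C_eval_mem (fun j => algebraMap k A (c (i.succAbove j))) b)
    have h4 : eval (fun j => algebraMap k A (c (i.succAbove j))) b = psi k i c b :=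
      (congrFun (MvPolynomial.aeval_eq_eval _) b).symm
    rw [h4, ← hr, map_mul] at h3
    have h5 := Ideal.add_mem _ h3 (Ideal.mul_mem_left _ (C r) hJ3)
    simpa using h5
  have hker : RingHom.ker ((Ideal.Quotient.mk (Ideal.span {hh k a c})).comp
        (psi k i c).toRingHom) = mc.map (algebraMap (MvPolynomial (Fin (m + 1)) k) (MvPolynomial (Fin m) A)) := le_antisymm hge hle
  have hΨsurj : Function.Surjective ((Ideal.Quotient.mk (Ideal.span {hh k a c})).comp
        (psi k i c).toRingHom) := by
    intro z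
    obtain ⟨x, rfl⟩ := Ideal.Quotient.mk_surjective z
    exact ⟨C x, by simp [psi]⟩
  have he4 : Function.Bijective (Ideal.Quotient.lift (mc.map (algebraMap (MvPolynomial (Fin (m + 1)) k) (MvPolynomial (Fin m) A)))
      ((Ideal.Quotient.mk (Ideal.span {hh k a c})).comp (psi k i c).toRingHom)
      (fun b hb => RingHom.mem_ker.mp (hle hb))) :=
    ⟨(Ideal.injective_lift_iff _).mpr hker, Ideal.Quotient.lift_surjective_of_surjective _ _ hΨsurj⟩
  have hcomp : algebraMap k (A ⧸ Ideal.span {hh k a c}) =
      ((Ideal.Quotient.lift (mc.map (algebraMap (MvPolynomial (Fin (m + 1)) k) (MvPolynomial (Fin m) A)))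
        ((Ideal.Quotient.mk (Ideal.span {hh k a c})).comp (psi k i c).toRingHom)
        (fun b hb => RingHom.mem_ker.mp (hle hb))).comp ρ).comp
      (algebraMap k ((MvPolynomial (Fin (m + 1)) k) ⧸ mc)) := by
    ext x
    simp only [RingHom.comp_apply]
    rw [IsScalarTower.algebraMap_apply k (MvPolynomial (Fin (m + 1)) k) ((MvPolynomial (Fin (m + 1)) k) ⧸ mc), Ideal.Quotient.algebraMap_eq, hρmk,
      Ideal.Quotient.lift_mk]
    show _ = Ideal.Quotient.mk _ (psi k i c (phi k a i (algebraMap k (MvPolynomial (Fin (m + 1)) k) x)))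
    rw [mk_psi_phi k a i hai c, MvPolynomial.algebraMap_eq, eval_C]
  rw [hcomp]
  exact (RingHom.Smooth.of_bijective he1).comp
    (hρ.comp (RingHom.Smooth.of_bijective he4))

end Local

end Groth.Agent.Lib.Helper22.BertiniAlg
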