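import Mathlib
import Groth.Agent.Lib.Helper3.InvGen
import Groth.Agent.Lib.Helper16.Mero.ZeroScheme
import Groth.Agent.Lib.Helper12.SchemeDimFT
import Groth.Agent.Lib.Helper22.BertiniAlg
import Groth.Prelude.Def_Formal
import Groth.Prelude.Def_FlatMod2

/-!
# Bertini in characteristic zero: the sheaf side (helper22)
-/

set_option autoImplicit false
set_option linter.style.haveILetI false
set_option linter.unusedSectionVars false
universe u
open CategoryTheory CategoryTheory.Limits AlgebraicGeometry TopologicalSpace MvPolynomial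

namespace Groth.Agent.Lib.Helper22.BertiniSh

open Groth.Agent.Lib.Helper3.InvGen Groth.Agent.Lib.Helper3.QCSec
open Groth.Agent.Lib.Helper12.SchemeDimFT
open Groth.Agent.Lib.Helper22.BertiniAlg

variable {X : Scheme.{u}}

theorem isInvertible_of_rank_one {L : X.Modules} (hL : FlatMod.IsFinLocFreeOfRank 1 L) :
    PicF.IsInvertible L := by
  intro x
  obtain ⟨U, hx, ⟨e⟩⟩ := hL x
  exact ⟨U, hx, ⟨e ≪≫ coproductUniqueIso (fun _ : Fin 1 => Coh.structureModule ↑U)⟩⟩

theorem sec_sum {L : X.Modules} {ι : Type*} (S : Finset ι) (t : ι → (Coh.structureModule X ⟶ L))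
    (U : X.Opens) : sec (∑ l ∈ S, t l) U = ∑ l ∈ S, sec (t l) U := by
  classical
  induction S using Finset.induction_on with
  | empty =>
    simp only [Finset.sum_empty]
    rfl
  | insert a S ha ih =>
    rw [Finset.sum_insert ha, Finset.sum_insert ha, sec_add, ih]

theorem sec_smulMod (k : Type u) [Field k] [X.Over (Spec (CommRingCat.of k))] {L : X.Modules}
    (s : Coh.structureModule X ⟶ L) (c : k) (U : X.Opens) :
    sec (Formal.smulMod k (Coh.structureModule X) c ≫ s) U = secMap k X U c • sec s U := by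
  have h1 : sec (Formal.smulMod k (Coh.structureModule X) c ≫ s) U =
      s.app U (ofFun U (secMap k X U c)) := by
    show s.app U ((Formal.smulMod k (Coh.structureModule X) c).app U (ofFun U 1)) = _
    congr 1
    show secMap k X U c * 1 = _
    rw [mul_one]
    rfl
  rw [h1, app_eq_smul_sec]

theorem sec_zero {L : X.Modules} (U : X.Opens) :
    sec (0 : Coh.structureModule X ⟶ L) U = 0 := rfl

/-- On an affine open where `L` has a generator `ε` and `t = c • ε`, the ideal of `Z(t)` is `(c)`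
(including the case `t = 0`). -/
theorem zeroScheme_ideal_eq_span' [IsIntegral X] {L : X.Modules} (hL : PicF.IsInvertible L)
    (t : Coh.structureModule X ⟶ L) {U : X.Opens} (hU : IsAffineOpen U)
    {ε : Γ(L, U)} (hg : IsGen L U ε) {c : Γ(X, U)} (hc : sec t U = c • ε) :
    (PicF2.zeroScheme L t).ideal ⟨U, hU⟩ = Ideal.span {c} := by
  by_cases ht : t = 0
  · subst ht
    have hc0 : c = 0 := by
      apply hg.self.eq_zero
      rw [← hc, sec_zero]
    subst hc0
    apply le_antisymm
    · intro a ha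
      have ha' : a ∈ PicF2.zeroIdealOn L 0 U :=
        Scheme.IdealSheafData.ideal_ofIdeals_le _ ⟨U, hU⟩ ha
      obtain ⟨b, hb⟩ : ∃ b : Γ(X, U), a • ε = b • sec (0 : Coh.structureModule X ⟶ L) U := ha' ε
      have h0 : a = 0 := hg.self.eq_zero (by rw [hb, sec_zero]; exact smul_zero b)
      rw [h0]
      exact Ideal.zero_mem _
    · rw [Ideal.span_singleton_le_iff_mem]
      exact Ideal.zero_mem _
  · exact H16Mero.zeroScheme_ideal_eq_span hL ht hU hg hc

/-- If the zero schemes of the `s i` have empty intersection, every point lies in some `X_{s i}`. -/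
theorem exists_mem_genLocus [IsIntegral X] {L : X.Modules} (hL : PicF.IsInvertible L) {ι : Type*}
    (s : ι → (Coh.structureModule X ⟶ L))
    (hgen : ⨆ i, PicF2.zeroScheme L (s i) = ⊤) (x : X) : ∃ i, x ∈ CohB1.genLocus L (s i) := by
  obtain ⟨U, ε, hU, hxU, hg⟩ := exists_affine_isGen hL x
  choose a ha using fun i => hg.self.exists_coord (sec (s i) U)
  have hid : ∀ i, (PicF2.zeroScheme L (s i)).ideal ⟨U, hU⟩ = Ideal.span {a i} :=
    fun i => zeroScheme_ideal_eq_span' hL (s i) hU hg (ha i).symm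
  have htop : (⨆ i, PicF2.zeroScheme L (s i)).ideal ⟨U, hU⟩ = ⊤ := by rw [hgen]; rfl
  rw [Scheme.IdealSheafData.ideal_iSup, iSup_apply] at htop
  simp only [hid] at htop
  by_contra hne
  push Not at hne
  have hle : ∀ i, a i ∈ (IsLocalRing.maximalIdeal (X.presheaf.stalk x)).comap
      (X.presheaf.germ U x hxU).hom := by
    intro i
    by_contra hi
    apply hne i
    have h1 : x ∈ X.basicOpen (a i) := by
      rw [X.mem_basicOpen (a i) x hxU]
      rw [Ideal.mem_comap, IsLocalRing.mem_maximalIdeal, mem_nonunits_iff, not_not] at hi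
      exact hi
    rw [← genLocus_inf_eq_basicOpen (s i) hg (a i) (ha i).symm] at h1
    exact h1.1
  have h2 : (⨆ i, Ideal.span {a i}) ≤ (IsLocalRing.maximalIdeal (X.presheaf.stalk x)).comap
      (X.presheaf.germ U x hxU).hom :=
    iSup_le fun i => (Ideal.span_singleton_le_iff_mem _).mpr (hle i)
  rw [htop] at h2
  have h3 : (1 : Γ(X, U)) ∈ (IsLocalRing.maximalIdeal (X.presheaf.stalk x)).comap
      (X.presheaf.germ U x hxU).hom := h2 trivial
  rw [Ideal.mem_comap, map_one] at h3
  exact (IsLocalRing.maximalIdeal.isMaximal _).ne_top ((Ideal.eq_top_iff_one _).mpr h3)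

theorem secMap_eq (k : Type u) [Field k] [X.Over (Spec (CommRingCat.of k))] (U : X.Opens) :
    secMap k X U = ((X ↘ Spec (CommRingCat.of k)).appLE ⊤ U (by simp)).hom.comp
      (Scheme.ΓSpecIso (CommRingCat.of k)).inv.hom := by
  ext c
  simp only [secMap, Coh.toGlobal, Scheme.Hom.appLE, RingHom.comp_apply, CommRingCat.hom_comp]
  rfl

theorem smooth_secMap (k : Type u) [Field k] [X.Over (Spec (CommRingCat.of k))]
    [Smooth (X ↘ Spec (CommRingCat.of k))] {U : X.Opens} (hU : IsAffineOpen U) :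
    (secMap k X U).Smooth := by
  rw [secMap_eq]
  exact (RingHom.Smooth.of_bijective (ConcreteCategory.bijective_of_isIso
    (Scheme.ΓSpecIso (CommRingCat.of k)).inv)).comp
    (Smooth.smooth_appLE _ (isAffineOpen_top _) hU _)

theorem smooth_subschemeCover_comp (k : Type u) [Field k] [X.Over (Spec (CommRingCat.of k))]
    (I : X.IdealSheafData) (U : X.affineOpens)
    (h : ((Ideal.Quotient.mk (I.ideal U)).comp (secMap k X U.1)).Smooth) :
    Smooth (I.subschemeCover.f U ≫ I.subschemeι ≫ (X ↘ Spec (CommRingCat.of k))) := by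
  have e0 : I.subschemeCover.f U ≫ I.subschemeι =
      Spec.map (CommRingCat.ofHom (Ideal.Quotient.mk (I.ideal U))) ≫ U.2.fromSpec := by
    rw [I.subschemeCover_map_subschemeι, I.glueDataObjι_ι]
  have e2 : U.2.fromSpec ≫ (X ↘ Spec (CommRingCat.of k)) =
      Spec.map ((X ↘ Spec (CommRingCat.of k)).appLE ⊤ U.1 (by simp)) ≫
        Spec.map (Scheme.ΓSpecIso (CommRingCat.of k)).inv := by
    rw [← IsAffineOpen.SpecMap_appLE_fromSpec (X ↘ Spec (CommRingCat.of k)) (isAffineOpen_top _)
        U.2 (by simp), IsAffineOpen.fromSpec_top, Scheme.isoSpec_Spec_inv]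
  have e3 : (Spec.map (CommRingCat.ofHom (Ideal.Quotient.mk (I.ideal U))) ≫ U.2.fromSpec) ≫
      (X ↘ Spec (CommRingCat.of k)) =
      Spec.map ((Scheme.ΓSpecIso (CommRingCat.of k)).inv ≫
        (X ↘ Spec (CommRingCat.of k)).appLE ⊤ U.1 (by simp) ≫
        CommRingCat.ofHom (Ideal.Quotient.mk (I.ideal U))) := by
    rw [Category.assoc, e2, ← Spec.map_comp, ← Spec.map_comp, Category.assoc]
  have h4 : Smooth (Spec.map ((Scheme.ΓSpecIso (CommRingCat.of k)).inv ≫
        (X ↘ Spec (CommRingCat.of k)).appLE ⊤ U.1 (by simp) ≫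
        CommRingCat.ofHom (Ideal.Quotient.mk (I.ideal U)))) := by
    rw [HasRingHomProperty.Spec_iff (P := @Smooth)]
    rw [secMap_eq] at h
    exact h
  have e5 : I.subschemeCover.f U ≫ I.subschemeι ≫ (X ↘ Spec (CommRingCat.of k)) =
      Spec.map ((Scheme.ΓSpecIso (CommRingCat.of k)).inv ≫
        (X ↘ Spec (CommRingCat.of k)).appLE ⊤ U.1 (by simp) ≫
        CommRingCat.ofHom (Ideal.Quotient.mk (I.ideal U))) := by
    refine (Category.assoc _ _ _).symm.trans ?_
    refine (congrArg (· ≫ (X ↘ Spec (CommRingCat.of k))) e0).trans ?_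
    exact e3
  rw [e5]
  exact h4

theorem exists_poly_local (k : Type u) [Field k] [IsAlgClosed k] [CharZero k]
    [X.Over (Spec (CommRingCat.of k))] [IsIntegral X] [Smooth (X ↘ Spec (CommRingCat.of k))]
    {L : X.Modules} (hL : PicF.IsInvertible L) {m : ℕ}
    (s : Fin (m + 1) → (Coh.structureModule X ⟶ L)) (i : Fin (m + 1))
    {D : X.Opens} (hD : IsAffineOpen D) (hne : Nonempty D) (hle : D ≤ CohB1.genLocus L (s i)) :
    ∃ p : MvPolynomial (Fin (m + 1)) k, p ≠ 0 ∧ ∀ c : Fin (m + 1) → k, eval c p ≠ 0 →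
      ((Ideal.Quotient.mk ((PicF2.zeroScheme L
        (∑ l, Formal.smulMod k (Coh.structureModule X) (c l) ≫ s l)).ideal ⟨D, hD⟩)).comp
        (secMap k X D)).Smooth := by
  have hg : IsGen L D (sec (s i) D) := isGen_sec_of_le (s i) hle
  choose a ha using fun l => hg.self.exists_coord (sec (s l) D)
  have hai : a i = 1 := hg.self.smul_inj (by rw [ha i, one_smul])
  letI := secAlgebra k X D
  haveI : Algebra.Smooth k Γ(X, D) := smooth_secMap k hD
  haveI : IsDomain Γ(X, D) := inferInstance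
  obtain ⟨p, hp0, hp⟩ := exists_poly k a i hai
  refine ⟨p, hp0, fun c hc => ?_⟩
  have hsec : sec (∑ l, Formal.smulMod k (Coh.structureModule X) (c l) ≫ s l) D =
      hh k a c • sec (s i) D := by
    rw [sec_sum]
    unfold hh
    rw [Finset.sum_smul]
    apply Finset.sum_congr rfl
    intro l _
    rw [sec_smulMod, ← ha l, mul_smul]
    rfl
  rw [zeroScheme_ideal_eq_span' hL _ hD hg hsec]
  exact hp c hc

theorem main (k : Type u) [Field k] [IsAlgClosed k] [CharZero k]
    (X : Scheme.{u}) [X.Over (Spec (CommRingCat.of k))] [IsIntegral X]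
    [Smooth (X ↘ Spec (CommRingCat.of k))] [QuasiCompact (X ↘ Spec (CommRingCat.of k))]
    (L : X.Modules) (hL : FlatMod.IsFinLocFreeOfRank 1 L) (m : ℕ)
    (s : Fin (m + 1) → (Coh.structureModule X ⟶ L))
    (hgen : ⨆ i : Fin (m + 1), PicF2.zeroScheme L (s i) = ⊤) :
    ∃ p : MvPolynomial (Fin (m + 1)) k, p ≠ 0 ∧ ∀ c : Fin (m + 1) → k,
      MvPolynomial.eval c p ≠ 0 →
      Smooth ((PicF2.zeroScheme L (∑ i : Fin (m + 1),
        Formal.smulMod k (Coh.structureModule X) (c i) ≫ s i)).subschemeι ≫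
        (X ↘ Spec (CommRingCat.of k))) := by
  classical
  have hL' := isInvertible_of_rank_one hL
  haveI : CompactSpace X :=
    QuasiCompact.compactSpace_of_compactSpace (X ↘ Spec (CommRingCat.of k))
  have key : ∀ x : X, ∃ (D : X.Opens) (i : Fin (m + 1)), IsAffineOpen D ∧ x ∈ D ∧
      D ≤ CohB1.genLocus L (s i) := by
    intro x
    obtain ⟨i, hi⟩ := exists_mem_genLocus hL' s hgen x
    obtain ⟨D, hD, hxD, hDle⟩ := Opens.isBasis_iff_nbhd.mp X.isBasis_affineOpens hi
    exact ⟨D, i, hD, hxD, hDle⟩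
  choose D i hD hxD hDle using key
  have hp := fun x => exists_poly_local k hL' s (i x) (hD x) ⟨⟨x, hxD x⟩⟩ (hDle x)
  choose p hp0 hp using hp
  obtain ⟨T, hT⟩ := isCompact_univ.elim_finite_subcover (fun x => (D x : Set X))
    (fun x => (D x).isOpen) (fun x _ => Set.mem_iUnion.mpr ⟨x, hxD x⟩)
  refine ⟨∏ x ∈ T, p x, Finset.prod_ne_zero_iff.mpr (fun x _ => hp0 x), fun c hc => ?_⟩
  rw [map_prod] at hc
  have hc' : ∀ x ∈ T, eval c (p x) ≠ 0 := fun x hx => (Finset.prod_ne_zero_iff.mp hc) x hx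
  set I := PicF2.zeroScheme L (∑ l, Formal.smulMod k (Coh.structureModule X) (c l) ≫ s l)
    with hI
  apply IsZariskiLocalAtSource.of_iSup_eq_top (P := @Smooth)
    (fun x : T => (I.subschemeCover.f ⟨D x, hD x⟩).opensRange)
  · rw [eq_top_iff]
    rintro z -
    obtain ⟨x, hxT, hzx⟩ : ∃ x ∈ T, I.subschemeι z ∈ D x := by
      have := hT (Set.mem_univ (I.subschemeι z))
      simpa using this
    rw [Opens.mem_iSup]
    refine ⟨⟨x, hxT⟩, ?_⟩
    rw [I.opensRange_subschemeCover_map]
    exact hzx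
  · rintro ⟨x, hxT⟩
    rw [← IsOpenImmersion.isoOfRangeEq_inv_fac (I.subschemeCover.f ⟨D x, hD x⟩)
      (Scheme.Opens.ι _)
      (congr_arg Opens.carrier (I.subschemeCover.f ⟨D x, hD x⟩).opensRange.opensRange_ι.symm),
      Category.assoc, MorphismProperty.cancel_left_of_respectsIso (P := @Smooth)]
    exact smooth_subschemeCover_comp k I ⟨D x, hD x⟩ (hp x c (hc' x hxT))

end Groth.Agent.Lib.Helper22.BertiniSh
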