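import Mathlib
import Groth.Prelude.Def_Flat

/-!
# Jacobi–Zariski criterion for formal smoothness over a local ring (helper22)

* `formallySmooth_of_lTensor_injective`: `A → B → C`, `C` local and formally smooth over `A`,
  `Ω[B/A]` finite, `Ω[C/A]` finite free, and `κ ⊗ (C ⊗ Ω[B/A]) → κ ⊗ Ω[C/A]` injective: then `C`
  is formally smooth over `B`.
* `lTensor_injective_of_finrank`: the injectivity follows from a rank count when `Ω[C/B]` is free.
* `lTensor_injective_of_formallySmooth`: converse (smooth ⇒ injective).
-/

set_option autoImplicit false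
set_option maxHeartbeats 400000
set_option linter.style.haveILetI false
set_option linter.unusedSectionVars false
universe u

open TensorProduct KaehlerDifferential

namespace Groth.Agent.Lib.Helper22.SmoothJZ

variable (A B C : Type u) [CommRing A] [CommRing B] [CommRing C]
  [Algebra A B] [Algebra B C] [Algebra A C] [IsScalarTower A B C]

theorem h1Cotangent_subsingleton_of_injective [Algebra.FormallySmooth A C]
    (hinj : Function.Injective (KaehlerDifferential.mapBaseChange A B C)) :
    Subsingleton (Algebra.H1Cotangent B C) := by
  have hδ : ∀ z, Algebra.H1Cotangent.δ A B C z = 0 := by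
    intro z
    apply hinj
    rw [map_zero]
    exact (Algebra.H1Cotangent.exact_δ_mapBaseChange A B C _).mpr ⟨z, rfl⟩
  refine ⟨fun a b => ?_⟩
  obtain ⟨a', rfl⟩ := (Algebra.H1Cotangent.exact_map_δ A B C a).mp (hδ a)
  obtain ⟨b', rfl⟩ := (Algebra.H1Cotangent.exact_map_δ A B C b).mp (hδ b)
  rw [Subsingleton.elim a' b']

theorem formallySmooth_of_lTensor_injective [IsLocalRing C] [Algebra.FormallySmooth A C]
    [Module.Finite B Ω[B⁄A]] [Module.Finite C Ω[C⁄A]] [Module.Free C Ω[C⁄A]]
    (h : Function.Injective
      ((KaehlerDifferential.mapBaseChange A B C).lTensor (IsLocalRing.ResidueField C))) :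
    Algebra.FormallySmooth B C := by
  obtain ⟨l', hl'⟩ := (IsLocalRing.split_injective_iff_lTensor_residueField_injective
    (KaehlerDifferential.mapBaseChange A B C)).mpr h
  have hinj : Function.Injective (KaehlerDifferential.mapBaseChange A B C) :=
    Function.HasLeftInverse.injective ⟨l', LinearMap.congr_fun hl'⟩
  haveI := h1Cotangent_subsingleton_of_injective A B C hinj
  haveI : Module.Free C Ω[C⁄B] :=
    Module.free_of_lTensor_residueField_injective (KaehlerDifferential.mapBaseChange A B C)
      (KaehlerDifferential.map A B C C) (KaehlerDifferential.map_surjective A B C)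
      (KaehlerDifferential.exact_mapBaseChange_map A B C) h
  exact ⟨inferInstance, inferInstance⟩

theorem lTensor_injective_of_formallySmooth [Algebra.FormallySmooth A C]
    [Algebra.FormallySmooth B C] (κ : Type u) [CommRing κ] [Algebra C κ] :
    Function.Injective ((KaehlerDifferential.mapBaseChange A B C).lTensor κ) := by
  have hinj : Function.Injective (KaehlerDifferential.mapBaseChange A B C) := by
    rw [injective_iff_map_eq_zero]
    intro a ha
    obtain ⟨z, rfl⟩ := (Algebra.H1Cotangent.exact_δ_mapBaseChange A B C a).mp ha
    rw [Subsingleton.elim z 0, map_zero]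
  obtain ⟨s, hs⟩ := Module.projective_lifting_property (KaehlerDifferential.map A B C C)
    LinearMap.id (KaehlerDifferential.map_surjective A B C)
  have h01 := (KaehlerDifferential.exact_mapBaseChange_map A B C).split_tfae'.out 0 1
  obtain ⟨-, l, hl⟩ := h01.mp ⟨hinj, s, hs⟩
  have : l.lTensor κ ∘ₗ (KaehlerDifferential.mapBaseChange A B C).lTensor κ = .id := by
    rw [← LinearMap.lTensor_comp, hl, LinearMap.lTensor_id]
  exact Function.HasLeftInverse.injective ⟨_, LinearMap.congr_fun this⟩

theorem lTensor_injective_of_finrank [IsLocalRing C]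
    [Module.Free B Ω[B⁄A]] [Module.Finite B Ω[B⁄A]]
    [Module.Free C Ω[C⁄A]] [Module.Finite C Ω[C⁄A]]
    [Module.Free C Ω[C⁄B]]
    (hr : Module.finrank B Ω[B⁄A] + Module.finrank C Ω[C⁄B] = Module.finrank C Ω[C⁄A]) :
    Function.Injective
      ((KaehlerDifferential.mapBaseChange A B C).lTensor (IsLocalRing.ResidueField C)) := by
  have hsurj : Function.Surjective (KaehlerDifferential.map A B C C) :=
    KaehlerDifferential.map_surjective A B C
  have hex : Function.Exact
      ((KaehlerDifferential.mapBaseChange A B C).baseChange (IsLocalRing.ResidueField C))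
      ((KaehlerDifferential.map A B C C).baseChange (IsLocalRing.ResidueField C)) :=
    lTensor_exact (IsLocalRing.ResidueField C)
      (KaehlerDifferential.exact_mapBaseChange_map A B C) hsurj
  have hsurjκ : Function.Surjective
      ((KaehlerDifferential.map A B C C).baseChange (IsLocalRing.ResidueField C)) :=
    LinearMap.lTensor_surjective (IsLocalRing.ResidueField C) hsurj
  haveI : Module.Finite C Ω[C⁄B] := Module.Finite.of_surjective _ hsurj
  haveI : Nontrivial B := (algebraMap B C).domain_nontrivial
  have hP : Module.finrank (IsLocalRing.ResidueField C)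
      ((IsLocalRing.ResidueField C) ⊗[C] (C ⊗[B] Ω[B⁄A])) = Module.finrank B Ω[B⁄A] := by
    rw [Module.finrank_baseChange, Module.finrank_baseChange]
  have hQ : Module.finrank (IsLocalRing.ResidueField C)
      ((IsLocalRing.ResidueField C) ⊗[C] Ω[C⁄A]) = Module.finrank C Ω[C⁄A] :=
    Module.finrank_baseChange
  have hR : Module.finrank (IsLocalRing.ResidueField C)
      ((IsLocalRing.ResidueField C) ⊗[C] Ω[C⁄B]) = Module.finrank C Ω[C⁄B] :=
    Module.finrank_baseChange
  have h1 := LinearMap.finrank_range_add_finrank_ker
    ((KaehlerDifferential.map A B C C).baseChange (IsLocalRing.ResidueField C))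
  have h2 := LinearMap.finrank_range_add_finrank_ker
    ((KaehlerDifferential.mapBaseChange A B C).baseChange (IsLocalRing.ResidueField C))
  have h3 : LinearMap.range
      ((KaehlerDifferential.map A B C C).baseChange (IsLocalRing.ResidueField C)) = ⊤ :=
    LinearMap.range_eq_top.mpr hsurjκ
  have h4 : LinearMap.ker
      ((KaehlerDifferential.map A B C C).baseChange (IsLocalRing.ResidueField C)) =
      LinearMap.range
        ((KaehlerDifferential.mapBaseChange A B C).baseChange (IsLocalRing.ResidueField C)) :=
    hex.linearMap_ker_eq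
  rw [h3, finrank_top, hR, hQ, h4] at h1
  rw [hP] at h2
  have h5 : Module.finrank (IsLocalRing.ResidueField C) (LinearMap.ker
      ((KaehlerDifferential.mapBaseChange A B C).baseChange (IsLocalRing.ResidueField C))) = 0 := by
    omega
  have h6 : LinearMap.ker
      ((KaehlerDifferential.mapBaseChange A B C).baseChange (IsLocalRing.ResidueField C)) = ⊥ :=
    Submodule.finrank_eq_zero.mp h5
  have h7 : Function.Injective
      ((KaehlerDifferential.mapBaseChange A B C).baseChange (IsLocalRing.ResidueField C)) :=
    LinearMap.ker_eq_bot.mp h6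
  exact h7

end Groth.Agent.Lib.Helper22.SmoothJZ
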