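import Mathlib
import Groth.Agent.S5005
import Groth.Agent.Lib.Helper1.DerFin
import Groth.Agent.Lib.Helper1.DerSmooth
import Groth.Agent.Lib.Helper17.FittSheaf
import Groth.Agent.Lib.Helper18.FittLib4
import Groth.Agent.Lib.Helper3.FreeBasis
import Groth.Agent.Lib.Helper3.NormAlg
import Groth.Agent.Lib.Helper14.HomogDim
import Groth.Agent.Lib.Helper12.SchemeDimFT2
import Groth.Agent.Lib.Helper12.FibreDominant
import Groth.Agent.Lib.Helper22.SmoothJZ
import Groth.Agent.Lib.Helper22.SmoothMono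

/-!
# Smoothness of a morphism between smooth `S`-schemes via differentials (helper22)

* `stalk_kaehler_of_sections`: `Ω[Γ(U)/Γ(V)]` free of rank `n` ⇒ `Ω[O_{X,x}/O_{S,h x}]` free of
  rank `n`.
* `exists_chart_kaehler_free`: `Ω_{X/Y}` locally free of rank `n` ⇒ charts with `Ω[Γ(U)/Γ(V)]` free
  of rank `n`.
* `mem_smoothLocus_of_kaehler`: `Y/S`, `X/S` smooth, `Ω_{X/Y}` locally free of rank
  `dim_x(X/S) - dim_{f x}(Y/S)` ⇒ `f` smooth at `x`.
* `isFinLocFreeOfRank_of_smoothOfRelativeDimension`.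
* `fibreDimAt_eq_of_irreducible_field`.
-/

set_option autoImplicit false
set_option maxHeartbeats 400000
set_option linter.style.haveILetI false
set_option linter.unusedSectionVars false
universe u

open TensorProduct AlgebraicGeometry CategoryTheory KaehlerDifferential TopologicalSpace

namespace Groth.Agent.Lib.Helper22.SmoothJZ

open Groth.Agent.Lib.Helper1 Groth.Agent.Lib.Helper12

theorem stalk_kaehler_of_sections {X S : Scheme.{u}} (h : X ⟶ S) {V : S.Opens}
    (hV : IsAffineOpen V) {U : X.Opens} (hU : IsAffineOpen U) (e : U ≤ h ⁻¹ᵁ V) (x : X)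
    (hxU : x ∈ U) (n : ℕ)
    (hfree : letI := (h.appLE V U e).hom.toAlgebra
      Module.Free Γ(X, U) Ω[Γ(X, U)⁄Γ(S, V)])
    (hfin : letI := (h.appLE V U e).hom.toAlgebra
      Module.Finite Γ(X, U) Ω[Γ(X, U)⁄Γ(S, V)])
    (hrank : letI := (h.appLE V U e).hom.toAlgebra
      Module.finrank Γ(X, U) Ω[Γ(X, U)⁄Γ(S, V)] = n) :
    letI := (h.stalkMap x).hom.toAlgebra
    Module.Free (X.presheaf.stalk x) Ω[X.presheaf.stalk x⁄S.presheaf.stalk (h.base x)] ∧
      Module.Finite (X.presheaf.stalk x) Ω[X.presheaf.stalk x⁄S.presheaf.stalk (h.base x)] ∧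
      Module.finrank (X.presheaf.stalk x)
        Ω[X.presheaf.stalk x⁄S.presheaf.stalk (h.base x)] = n := by
  letI algAC : Algebra (S.presheaf.stalk (h.base x)) (X.presheaf.stalk x) :=
    (h.stalkMap x).hom.toAlgebra
  letI algRT : Algebra Γ(S, V) Γ(X, U) := (h.appLE V U e).hom.toAlgebra
  letI algTC : Algebra Γ(X, U) (X.presheaf.stalk x) :=
    TopCat.Presheaf.algebra_section_stalk X.presheaf ⟨x, hxU⟩
  letI algRA : Algebra Γ(S, V) (S.presheaf.stalk (h.base x)) :=
    TopCat.Presheaf.algebra_section_stalk S.presheaf ⟨h.base x, e hxU⟩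
  letI algRC : Algebra Γ(S, V) (X.presheaf.stalk x) :=
    ((algebraMap Γ(X, U) (X.presheaf.stalk x)).comp (algebraMap Γ(S, V) Γ(X, U))).toAlgebra
  haveI : IsScalarTower Γ(S, V) Γ(X, U) (X.presheaf.stalk x) :=
    IsScalarTower.of_algebraMap_eq (fun _ => rfl)
  haveI : IsScalarTower Γ(S, V) (S.presheaf.stalk (h.base x)) (X.presheaf.stalk x) := by
    refine IsScalarTower.of_algebraMap_eq (fun a => ?_)
    show (X.presheaf.germ U x hxU).hom ((h.appLE V U e).hom a) =
      (h.stalkMap x).hom ((S.presheaf.germ V (h.base x) (e hxU)).hom a)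
    simp only [Scheme.Hom.germ_stalkMap_apply, Scheme.Hom.appLE, CommRingCat.hom_comp,
      RingHom.coe_comp, Function.comp_apply, X.presheaf.germ_res_apply]
  haveI locX : IsLocalization.AtPrime (X.presheaf.stalk x) (hU.primeIdealOf ⟨x, hxU⟩).asIdeal :=
    hU.isLocalization_stalk ⟨x, hxU⟩
  haveI locS : IsLocalization.AtPrime (S.presheaf.stalk (h.base x))
      (hV.primeIdealOf ⟨h.base x, e hxU⟩).asIdeal :=
    hV.isLocalization_stalk ⟨h.base x, e hxU⟩
  haveI : Algebra.FormallyEtale Γ(X, U) (X.presheaf.stalk x) :=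
    Algebra.FormallyEtale.of_isLocalization (hU.primeIdealOf ⟨x, hxU⟩).asIdeal.primeCompl
  haveI : Algebra.FormallyUnramified Γ(S, V) (S.presheaf.stalk (h.base x)) :=
    Algebra.FormallyUnramified.of_isLocalization
      (hV.primeIdealOf ⟨h.base x, e hxU⟩).asIdeal.primeCompl
  haveI := hfree
  haveI := hfin
  haveI : Nontrivial Γ(X, U) :=
    ⟨⟨0, 1, fun h01 => (hU.primeIdealOf ⟨x, hxU⟩).isPrime.ne_top
      ((Ideal.eq_top_iff_one _).mpr (h01 ▸ Ideal.zero_mem _))⟩⟩
  -- localise the source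
  let e₁ : (X.presheaf.stalk x) ⊗[Γ(X, U)] Ω[Γ(X, U)⁄Γ(S, V)] ≃ₗ[X.presheaf.stalk x]
      Ω[X.presheaf.stalk x⁄Γ(S, V)] :=
    KaehlerDifferential.tensorKaehlerEquivOfFormallyEtale Γ(S, V) Γ(X, U) (X.presheaf.stalk x)
  -- localise the base
  have hsurj : Function.Surjective (KaehlerDifferential.map Γ(S, V) (S.presheaf.stalk (h.base x))
      (X.presheaf.stalk x) (X.presheaf.stalk x)) :=
    KaehlerDifferential.map_surjective Γ(S, V) (S.presheaf.stalk (h.base x)) (X.presheaf.stalk x)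
  have hinj : Function.Injective (KaehlerDifferential.map Γ(S, V) (S.presheaf.stalk (h.base x))
      (X.presheaf.stalk x) (X.presheaf.stalk x)) := by
    rw [injective_iff_map_eq_zero]
    intro a ha
    have hzero : ∀ b : (X.presheaf.stalk x) ⊗[S.presheaf.stalk (h.base x)]
        Ω[S.presheaf.stalk (h.base x)⁄Γ(S, V)], b = 0 := by
      intro b
      induction b using TensorProduct.induction_on with
      | zero => rfl
      | tmul c d => rw [Subsingleton.elim d 0, TensorProduct.tmul_zero]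
      | add c d hc hd => rw [hc, hd, add_zero]
    obtain ⟨b, rfl⟩ := (KaehlerDifferential.exact_mapBaseChange_map Γ(S, V)
      (S.presheaf.stalk (h.base x)) (X.presheaf.stalk x) a).mp ha
    rw [hzero b, map_zero]
  let e₂ : Ω[X.presheaf.stalk x⁄Γ(S, V)] ≃ₗ[X.presheaf.stalk x]
      Ω[X.presheaf.stalk x⁄S.presheaf.stalk (h.base x)] :=
    LinearEquiv.ofBijective _ ⟨hinj, hsurj⟩
  refine ⟨Module.Free.of_equiv (e₁.trans e₂), Module.Finite.equiv (e₁.trans e₂), ?_⟩
  rw [← (e₁.trans e₂).finrank_eq, Module.finrank_baseChange, hrank]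

theorem exists_chart_kaehler_free {X Y : Scheme.{u}} (f : X ⟶ Y) [QuasiSeparated f] (n : ℕ)
    (hΩ : FlatMod.IsFinLocFreeOfRank n (Omega.sheaf f)) (x : X) :
    ∃ (V : Y.Opens) (_ : IsAffineOpen V) (U : X.Opens) (_ : IsAffineOpen U) (_ : x ∈ U)
      (e : U ≤ f ⁻¹ᵁ V),
      letI := (f.appLE V U e).hom.toAlgebra
      Module.Free Γ(X, U) Ω[Γ(X, U)⁄Γ(Y, V)] ∧ Module.Finite Γ(X, U) Ω[Γ(X, U)⁄Γ(Y, V)] ∧
        Module.finrank Γ(X, U) Ω[Γ(X, U)⁄Γ(Y, V)] = n := by
  have hd := Groth.Agent.S5005.result f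
  obtain ⟨U₁, b, hxU₁, hb⟩ := (Groth.Agent.Lib.Helper3.FreeBasis.isFinLocFreeOfRank_iff.mp hΩ) x
  obtain ⟨_, ⟨V, hV, rfl⟩, hxV, -⟩ :=
    Y.isBasis_affineOpens.exists_subset_of_mem_open (Set.mem_univ (f x)) isOpen_univ
  have hx' : x ∈ U₁ ⊓ f ⁻¹ᵁ V := ⟨hxU₁, hxV⟩
  obtain ⟨_, ⟨U, hU, rfl⟩, hxU, hUle⟩ :=
    X.isBasis_affineOpens.exists_subset_of_mem_open hx' (U₁ ⊓ f ⁻¹ᵁ V).2
  have hUU₁ : U ≤ U₁ := fun y hy => (hUle hy).1
  have e : U ≤ f ⁻¹ᵁ V := fun y hy => (hUle hy).2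
  refine ⟨V, hV, U, hU, hxU, e, ?_⟩
  letI := (f.appLE V U e).hom.toAlgebra
  haveI : Nontrivial Γ(X, U) :=
    ⟨⟨0, 1, fun h01 => (hU.primeIdealOf ⟨x, hxU⟩).isPrime.ne_top
      ((Ideal.eq_top_iff_one _).mpr (h01 ▸ Ideal.zero_mem _))⟩⟩
  let β : Module.Basis (Fin n) Γ(X, U) Γ(Omega.sheaf f, U) :=
    Groth.Agent.Lib.Helper3.NormAlg.basisOfBijective _ (hb.mono hUU₁).self
  let τ : Ω[Γ(X, U)⁄Γ(Y, V)] ≃ₗ[Γ(X, U)] Γ(Omega.sheaf f, U) :=
    DerFin.sectEquiv f (OmegaSh.dOmega f) hU hV e hd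
  let β' : Module.Basis (Fin n) Γ(X, U) Ω[Γ(X, U)⁄Γ(Y, V)] := β.map τ.symm
  refine ⟨Module.Free.of_basis β', Module.Finite.of_basis β', ?_⟩
  rw [Module.finrank_eq_card_basis β', Fintype.card_fin]

/-- `Y/S` and `X/S` smooth, `Ω_{X/Y}` locally free of rank `n` with
`dim_{g x}(Y/S) + n = dim_x(X/S)`: then `g : X ⟶ Y` is smooth at `x`. -/
theorem mem_smoothLocus_of_kaehler {X Y S : Scheme.{u}} (f : Y ⟶ S) [Smooth f] (g : X ⟶ Y)
    [Smooth (g ≫ f)] [QuasiSeparated g] [LocallyOfFinitePresentation g] (n : ℕ)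
    (hΩ : FlatMod.IsFinLocFreeOfRank n (Omega.sheaf g)) (x : X) (b c : ℕ)
    (hb : FlatMor.fibreDimAt f (g.base x) = (b : WithBot ℕ∞))
    (hc : FlatMor.fibreDimAt (g ≫ f) x = (c : WithBot ℕ∞)) (hbc : b + n = c) :
    x ∈ g.smoothLocus := by
  rw [Scheme.Hom.mem_smoothLocus]
  obtain ⟨c', hc', hfreeC, hfinC, hrankC⟩ := SmoothMono.stalk_kaehler (g ≫ f) x
  obtain ⟨b', hb', hfreeB, hfinB, hrankB⟩ := SmoothMono.stalk_kaehler f (g.base x)
  have hbb : b' = b := by
    rw [hb] at hb'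
    exact_mod_cast hb'.symm
  have hcc : c' = c := by
    rw [hc] at hc'
    exact_mod_cast hc'.symm
  subst hbb hcc
  obtain ⟨V, hV, U, hU, hxU, e, hfree, hfin, hrank⟩ := exists_chart_kaehler_free g n hΩ x
  obtain ⟨hfreeR, hfinR, hrankR⟩ := stalk_kaehler_of_sections g hV hU e x hxU n hfree hfin hrank
  letI algAB : Algebra (S.presheaf.stalk (f.base (g.base x))) (Y.presheaf.stalk (g.base x)) :=
    (f.stalkMap (g.base x)).hom.toAlgebra
  letI algBC : Algebra (Y.presheaf.stalk (g.base x)) (X.presheaf.stalk x) :=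
    (g.stalkMap x).hom.toAlgebra
  letI algAC : Algebra (S.presheaf.stalk (f.base (g.base x))) (X.presheaf.stalk x) :=
    ((g ≫ f).stalkMap x).hom.toAlgebra
  haveI : IsScalarTower (S.presheaf.stalk (f.base (g.base x))) (Y.presheaf.stalk (g.base x))
      (X.presheaf.stalk x) := by
    refine IsScalarTower.of_algebraMap_eq (fun a => ?_)
    show ((g ≫ f).stalkMap x).hom a = (g.stalkMap x).hom ((f.stalkMap (g.base x)).hom a)
    rw [Scheme.Hom.stalkMap_comp]
    rfl
  haveI : Algebra.FormallySmooth (S.presheaf.stalk (f.base (g.base x))) (X.presheaf.stalk x) := by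
    have h1 : x ∈ (g ≫ f).smoothLocus := by
      rw [Scheme.Hom.smoothLocus_eq_top]
      trivial
    exact h1
  haveI := hfreeB
  haveI := hfinB
  haveI hfreeC' : Module.Free (X.presheaf.stalk x)
      Ω[X.presheaf.stalk x⁄S.presheaf.stalk (f.base (g.base x))] := hfreeC
  haveI hfinC' : Module.Finite (X.presheaf.stalk x)
      Ω[X.presheaf.stalk x⁄S.presheaf.stalk (f.base (g.base x))] := hfinC
  have hrankC' : Module.finrank (X.presheaf.stalk x)
      Ω[X.presheaf.stalk x⁄S.presheaf.stalk (f.base (g.base x))] = c' := hrankC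
  haveI := hfreeR
  exact formallySmooth_of_lTensor_injective (S.presheaf.stalk (f.base (g.base x)))
    (Y.presheaf.stalk (g.base x)) (X.presheaf.stalk x)
    (lTensor_injective_of_finrank (S.presheaf.stalk (f.base (g.base x)))
      (Y.presheaf.stalk (g.base x)) (X.presheaf.stalk x) (by rw [hrankB, hrankR, hrankC', hbc]))

/-- For a morphism smooth of relative dimension `n`, `Ω_{X/Y}` is locally free of rank `n`. -/
theorem isFinLocFreeOfRank_of_smoothOfRelativeDimension {X Y : Scheme.{u}} (f : X ⟶ Y)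
    [QuasiSeparated f] (n : ℕ) [SmoothOfRelativeDimension n f] :
    FlatMod.IsFinLocFreeOfRank n (Omega.sheaf f) := by
  have hd := Groth.Agent.S5005.result f
  haveI : Smooth f := SmoothOfRelativeDimension.smooth n f
  haveI : (Omega.sheaf f).IsQuasicoherent := DerSmooth.isQuasicoherent f _ hd
  haveI : (Omega.sheaf f).IsFiniteType := DerFin.isFT f _ hd
  rw [Groth.Agent.Lib.Helper17.FittSheaf.isFinLocFreeOfRank_iff]
  have key : ∀ k, ∀ x : X, ∃ W : X.affineOpens, x ∈ W.1 ∧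
      Fitt.ideal Γ(X, W.1) Γ(Omega.sheaf f, W.1) k = if n ≤ k then ⊤ else ⊥ := by
    intro k x
    obtain ⟨V, hV, U, hU, hxU, e, hss⟩ :=
      SmoothOfRelativeDimension.exists_isStandardSmoothOfRelativeDimension (n := n) (f := f) x
    refine ⟨⟨U, hU⟩, hxU, ?_⟩
    letI := (f.appLE V U e).hom.toAlgebra
    haveI hn' : Algebra.IsStandardSmoothOfRelativeDimension n Γ(Y, V) Γ(X, U) := hss
    haveI : Algebra.IsStandardSmooth Γ(Y, V) Γ(X, U) :=
      Algebra.IsStandardSmoothOfRelativeDimension.isStandardSmooth n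
    haveI : Nontrivial Γ(X, U) :=
      ⟨⟨0, 1, fun h01 => (hU.primeIdealOf ⟨x, hxU⟩).isPrime.ne_top
        ((Ideal.eq_top_iff_one _).mpr (h01 ▸ Ideal.zero_mem _))⟩⟩
    have hrank : Module.finrank Γ(X, U) Ω[Γ(X, U)⁄Γ(Y, V)] = n :=
      Module.finrank_eq_of_rank_eq
        (Algebra.IsStandardSmoothOfRelativeDimension.rank_kaehlerDifferential n)
    let β : Module.Basis (Fin n) Γ(X, U) Ω[Γ(X, U)⁄Γ(Y, V)] :=
      Module.finBasisOfFinrankEq _ _ hrank
    let τ : Ω[Γ(X, U)⁄Γ(Y, V)] ≃ₗ[Γ(X, U)] Γ(Omega.sheaf f, U) :=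
      DerFin.sectEquiv f (OmegaSh.dOmega f) hU hV e hd
    exact Groth.Agent.Lib.Helper18.FittLib.fitt_of_basis (β.map τ) k
  constructor
  · intro k hk
    choose W hxW hW using key k
    apply Scheme.IdealSheafData.ext_of_iSup_eq_top W
    · rw [eq_top_iff]
      intro x _
      exact Opens.mem_iSup.mpr ⟨x, hxW x⟩
    · intro x
      rw [Groth.Agent.Lib.Helper17.FittSheaf.ideal_sheafIdeal, hW x, if_neg (by omega)]
      rfl
  · intro k hk
    choose W hxW hW using key k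
    apply Scheme.IdealSheafData.ext_of_iSup_eq_top W
    · rw [eq_top_iff]
      intro x _
      exact Opens.mem_iSup.mpr ⟨x, hxW x⟩
    · intro x
      rw [Groth.Agent.Lib.Helper17.FittSheaf.ideal_sheafIdeal, hW x, if_pos hk]
      rfl

/-- On an irreducible scheme locally of finite type over a field, the relative dimension over the
field at every point is the dimension. -/
theorem fibreDimAt_eq_of_irreducible_field (k : Type u) [Field k] {Z : Scheme.{u}}
    (q : Z ⟶ Spec (CommRingCat.of k)) [LocallyOfFiniteType q] [IrreducibleSpace Z] (d : ℕ)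
    (hd : topologicalKrullDim Z = (d : WithBot ℕ∞)) (z : Z) :
    FlatMor.fibreDimAt q z = (d : WithBot ℕ∞) := by
  haveI : Subsingleton ↥(Spec (CommRingCat.of k)) :=
    inferInstanceAs (Subsingleton (PrimeSpectrum k))
  rw [Groth.Agent.Lib.Helper14.HomogDim.fibreDimAt_eq_localDim_of_subsingleton]
  letI : Z.Over (Spec (CommRingCat.of k)) := ⟨q⟩
  haveI : LocallyOfFiniteType (Z ↘ Spec (CommRingCat.of k)) := ‹LocallyOfFiniteType q›
  obtain ⟨m, hm⟩ := SchemeDimFT.exists_trdeg_eq k Z (genericPoint Z)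
  rw [SchemeDimFT.localDim_eq_of_irreducible k Z m hm z]
  rw [SchemeDimFT.topologicalKrullDim_eq_of_irreducible k Z m hm] at hd
  exact hd

/-- A morphism between irreducible smooth `k`-schemes with `Ω_{X/Y}` locally free of rank
`dim X - dim Y` is smooth of that relative dimension. -/
theorem smoothOfRelativeDimension_of_kaehler (k : Type u) [Field k] {X Y : Scheme.{u}}
    (qY : Y ⟶ Spec (CommRingCat.of k)) [Smooth qY] [IrreducibleSpace Y]
    (f : X ⟶ Y) [Smooth (f ≫ qY)] [IrreducibleSpace X] [QuasiSeparated f]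
    (n dY : ℕ) (hY : topologicalKrullDim ↥Y = dY)
    (hX : topologicalKrullDim ↥X = ((dY + n : ℕ) : WithBot ℕ∞))
    (hΩ : FlatMod.IsFinLocFreeOfRank n (Omega.sheaf f)) :
    SmoothOfRelativeDimension n f := by
  haveI : LocallyOfFinitePresentation f :=
    Groth.Agent.Lib.Helper12.FibreDominant.locallyOfFinitePresentation_of_comp f qY
  have hdimX : ∀ x : X, FlatMor.fibreDimAt (f ≫ qY) x = ((dY + n : ℕ) : WithBot ℕ∞) :=
    fun x => fibreDimAt_eq_of_irreducible_field k (f ≫ qY) (dY + n) hX x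
  have hdimY : ∀ y : Y, FlatMor.fibreDimAt qY y = (dY : WithBot ℕ∞) :=
    fun y => fibreDimAt_eq_of_irreducible_field k qY dY hY y
  haveI : Smooth f := by
    rw [← Scheme.Hom.smoothLocus_eq_top_iff, ← top_le_iff]
    rintro x -
    exact mem_smoothLocus_of_kaehler qY f n hΩ x dY (dY + n) (hdimY _) (hdimX x) rfl
  refine ⟨fun x => ?_⟩
  obtain ⟨m, V, hV, W, hW, hxW, e, hss, hdim⟩ := SmoothMono.exists_chart f x
  have h1 := Groth.Agent.Lib.Helper22.SmoothRelDim.fibreDimAt_comp f qY x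
  rw [hdimX, hdim, hdimY] at h1
  have hm : m = n := by
    have h2 : dY + n = m + dY := by exact_mod_cast h1
    omega
  subst hm
  exact ⟨V, hV, W, hW, hxW, e, hss⟩

end Groth.Agent.Lib.Helper22.SmoothJZ
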