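import Mathlib

/-!
# dim B = dim A + dim B/m_A B under a going-down type hypothesis
-/

namespace Groth.Agent.Lib.Helper22.DimFibre

open IsLocalRing Ideal Pointwise

universe u

/-- quotient by an ideal inside the nilradical does not change the dimension. -/
lemma ringKrullDim_quotient_of_le_nilradical {R : Type*} [CommRing R] (I : Ideal R)
    (hI : I ≤ nilradical R) : ringKrullDim (R ⧸ I) = ringKrullDim R := by
  rw [ringKrullDim_quotient]
  have : PrimeSpectrum.zeroLocus (I : Set R) = Set.univ := by
    ext p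
    simp only [PrimeSpectrum.mem_zeroLocus, SetLike.coe_subset_coe, Set.mem_univ, iff_true]
    exact hI.trans (nilradical_le_prime p.asIdeal)
  rw [this]
  exact Order.krullDim_eq_of_orderIso (OrderIso.Set.univ)

/-- dimension drops by exactly one modulo a parameter avoiding minimal primes. -/
lemma ringKrullDim_quotient_span_singleton_succ {R : Type*} [CommRing R] [IsNoetherianRing R]
    [IsLocalRing R] {x : R} (hn : ∀ p ∈ minimalPrimes R, x ∉ p) (hx : x ∈ maximalIdeal R) :
    ringKrullDim (R ⧸ span {x}) + 1 = ringKrullDim R := by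
  have h : span {x} = x • (⊤ : Ideal R) := by simp [← Submodule.ideal_span_singleton_smul]
  rw [ringKrullDim_eq_of_ringEquiv (quotientEquivAlgOfEq R h).toRingEquiv]
  rw [← Module.supportDim_quotient_eq_ringKrullDim, ← Module.supportDim_self_eq_ringKrullDim]
  refine Module.supportDim_quotSMulTop_succ_eq_of_notMem_minimalPrimes_of_mem_maximalIdeal ?_ hx
  intro p hp
  apply hn p
  rw [Module.annihilator_eq_bot.mpr inferInstance] at hp
  exact hp

/-- unit in a quotient of a local ring by a proper ideal lifts. -/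
lemma isUnit_of_isUnit_mk {R : Type*} [CommRing R] [IsLocalRing R] (J : Ideal R) (hJ : J ≠ ⊤) {b : R}
    (hb : IsUnit (Ideal.Quotient.mk J b)) : IsUnit b := by
  haveI : IsLocalHom (Ideal.Quotient.mk J) := by
    apply isLocalHom_of_le_jacobson_bot
    rw [IsLocalRing.jacobson_eq_maximalIdeal ⊥ bot_ne_top]
    exact IsLocalRing.le_maximalIdeal hJ
  exact isUnit_of_map_unit (Ideal.Quotient.mk J) b hb

theorem dim_add_le (n : ℕ) : ∀ (A B : Type u) [CommRing A] [CommRing B] [IsNoetherianRing A]
    [IsNoetherianRing B] [IsLocalRing A] [IsLocalRing B] (f : A →+* B) [IsLocalHom f]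
    (_ : ∀ p : Ideal A, p.IsPrime → p ≠ maximalIdeal A →
      ∀ q ∈ (p.map f).minimalPrimes, q.comap f ≠ maximalIdeal A),
    ringKrullDim A = n →
    ringKrullDim A + ringKrullDim (B ⧸ (maximalIdeal A).map f) ≤ ringKrullDim B := by
  induction n with
  | zero =>
    intro A B _ _ _ _ _ _ f _ h hA
    haveI : Ring.KrullDimLE 0 A := by
      rw [Ring.krullDimLE_iff, hA]
    have h1 : maximalIdeal A = nilradical A := (Ring.KrullDimLE.nilradical_eq_maximalIdeal A).symm
    have h2 : (maximalIdeal A).map f ≤ nilradical B := by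
      rw [h1, Ideal.map_le_iff_le_comap]
      intro a ha
      rw [Ideal.mem_comap, mem_nilradical]
      exact IsNilpotent.map (mem_nilradical.1 ha) f
    rw [ringKrullDim_quotient_of_le_nilradical _ h2, hA]
    simp
  | succ n ih =>
    intro A B _ _ _ _ _ _ f _ h hA
    -- the maximal ideal of A is not a minimal prime
    have hmin_ne : ∀ p ∈ minimalPrimes A, p ≠ maximalIdeal A := by
      intro p hp heq
      have h0 : (maximalIdeal A).height = 0 := by
        rw [Ideal.height_eq_zero_iff, ← heq]
        exact hp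
      have h1 := IsLocalRing.maximalIdeal_height_eq_ringKrullDim (R := A)
      rw [h0, hA] at h1
      have h2 : ((0 : ℕ∞) : WithBot ℕ∞) = ((n + 1 : ℕ) : WithBot ℕ∞) := by exact_mod_cast h1
      have h3 : (0 : ℕ∞) = ((n + 1 : ℕ) : ℕ∞) := by exact_mod_cast h2
      have h4 : (0 : ℕ) = n + 1 := by exact_mod_cast h3
      omega
    -- minimal primes of B do not lie over the maximal ideal
    have hB : ∀ P ∈ minimalPrimes B, P.comap f ≠ maximalIdeal A := by
      intro P hP
      haveI : P.IsPrime := hP.1.1
      obtain ⟨p, hp, hpP⟩ := Ideal.exists_minimalPrimes_le (bot_le : ⊥ ≤ P.comap f)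
      have hp' : p.IsPrime := hp.1.1
      refine h p hp' (hmin_ne p hp) P ?_
      refine ⟨⟨hP.1.1, Ideal.map_le_iff_le_comap.2 hpP⟩, ?_⟩
      intro Q hQ hQP
      exact hP.2 ⟨hQ.1, bot_le⟩ hQP
    -- prime avoidance
    have hfinB : (minimalPrimes B).Finite := minimalPrimes.finite_of_isNoetherianRing B
    have hfinA : (minimalPrimes A).Finite := minimalPrimes.finite_of_isNoetherianRing A
    classical
    let S : Finset (Ideal A) := hfinA.toFinset ∪ (hfinB.toFinset.image (Ideal.comap f))
    have hS : ∀ q ∈ S, q.IsPrime ∧ q ≠ maximalIdeal A := by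
      intro q hq
      rcases Finset.mem_union.1 hq with h1 | h1
      · have h2 : q ∈ minimalPrimes A := hfinA.mem_toFinset.1 h1
        exact ⟨h2.1.1, hmin_ne q h2⟩
      · obtain ⟨P, hP, rfl⟩ := Finset.mem_image.1 h1
        have h2 : P ∈ minimalPrimes B := hfinB.mem_toFinset.1 hP
        haveI : P.IsPrime := h2.1.1
        exact ⟨inferInstance, hB P h2⟩
    have havoid : ¬ ((maximalIdeal A : Set A) ⊆ ⋃ q ∈ (S : Set (Ideal A)), (q : Set A)) := by
      rw [Ideal.subset_union_prime (f := fun q : Ideal A => q) ⊤ ⊤ (fun q hq _ _ => (hS q hq).1)]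
      rintro ⟨q, hq, hle⟩
      have hq' := hS q hq
      exact hq'.2 ((IsLocalRing.eq_maximalIdeal
        ((maximalIdeal.isMaximal A).eq_of_le hq'.1.ne_top hle ▸ maximalIdeal.isMaximal A)))
    obtain ⟨x, hxm, hxS⟩ := Set.not_subset.1 havoid
    have hxA : ∀ p ∈ minimalPrimes A, x ∉ p := by
      intro p hp hxp
      apply hxS
      simp only [Set.mem_iUnion]
      exact ⟨p, Finset.mem_union_left _ (hfinA.mem_toFinset.2 hp), hxp⟩
    have hxB : ∀ P ∈ minimalPrimes B, f x ∉ P := by
      intro P hP hxp
      apply hxS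
      simp only [Set.mem_iUnion]
      exact ⟨P.comap f, Finset.mem_union_right _
        (Finset.mem_image.2 ⟨P, hfinB.mem_toFinset.2 hP, rfl⟩), hxp⟩
    have hfx : f x ∈ maximalIdeal B := by
      rw [mem_maximalIdeal, mem_nonunits_iff]
      intro hu
      exact (mem_nonunits_iff.1 ((mem_maximalIdeal x).1 hxm)) (isUnit_of_map_unit f x hu)
    -- the quotients
    have hI : span {x} ≠ (⊤ : Ideal A) := fun h =>
      (maximalIdeal.isMaximal A).ne_top (top_le_iff.1 (h ▸ (span_singleton_le_iff_mem _).2 hxm))
    have hJ : span {f x} ≠ (⊤ : Ideal B) := fun h =>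
      (maximalIdeal.isMaximal B).ne_top (top_le_iff.1 (h ▸ (span_singleton_le_iff_mem _).2 hfx))
    haveI : Nontrivial (A ⧸ span {x}) := Ideal.Quotient.nontrivial_iff.2 hI
    haveI : Nontrivial (B ⧸ span {f x}) := Ideal.Quotient.nontrivial_iff.2 hJ
    haveI : IsLocalRing (A ⧸ span {x}) :=
      IsLocalRing.of_surjective' (Ideal.Quotient.mk (span {x})) Ideal.Quotient.mk_surjective
    haveI : IsLocalRing (B ⧸ span {f x}) :=
      IsLocalRing.of_surjective' (Ideal.Quotient.mk (span {f x})) Ideal.Quotient.mk_surjective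
    have hIJ : span {x} ≤ (span {f x}).comap f := by
      rw [span_singleton_le_iff_mem, Ideal.mem_comap]
      exact Ideal.mem_span_singleton_self _
    let f' : A ⧸ span {x} →+* B ⧸ span {f x} := Ideal.quotientMap (span {f x}) f hIJ
    have hf' : ∀ a, f' (Ideal.Quotient.mk _ a) = Ideal.Quotient.mk _ (f a) := fun a => rfl
    haveI : IsLocalHom f' := by
      constructor
      intro a ha
      obtain ⟨a0, rfl⟩ := Ideal.Quotient.mk_surjective a
      rw [hf'] at ha
      have h2 : IsUnit (f a0) := isUnit_of_isUnit_mk _ hJ ha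
      exact (isUnit_of_map_unit f a0 h2).map _
    -- maximal ideals of the quotients
    have hcmA : (maximalIdeal (A ⧸ span {x})).comap (Ideal.Quotient.mk (span {x})) = maximalIdeal A := by
      apply IsLocalRing.eq_maximalIdeal
      exact Ideal.comap_isMaximal_of_surjective _ Ideal.Quotient.mk_surjective
    have hmA' : maximalIdeal (A ⧸ span {x}) = (maximalIdeal A).map (Ideal.Quotient.mk _) := by
      rw [← hcmA, Ideal.map_comap_of_surjective _ Ideal.Quotient.mk_surjective]
    have hcomp : f'.comp (Ideal.Quotient.mk (span {x})) = (Ideal.Quotient.mk (span {f x})).comp f := rfl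
    -- transport of ideals
    have hmapmap : ∀ p : Ideal A, span {x} ≤ p →
        ((p.map (Ideal.Quotient.mk (span {x}))).map f').comap (Ideal.Quotient.mk (span {f x})) = p.map f := by
      intro p hxp
      rw [Ideal.map_map, hcomp, ← Ideal.map_map, Ideal.comap_map_of_surjective _ Ideal.Quotient.mk_surjective,
        ← RingHom.ker_eq_comap_bot, Ideal.mk_ker]
      refine sup_eq_left.2 ?_
      rw [span_singleton_le_iff_mem]
      exact Ideal.mem_map_of_mem f ((span_singleton_le_iff_mem _).1 hxp)
    -- hypothesis for the quotient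
    have h' : ∀ p' : Ideal (A ⧸ span {x}), p'.IsPrime → p' ≠ maximalIdeal (A ⧸ span {x}) →
        ∀ q' ∈ (p'.map f').minimalPrimes, q'.comap f' ≠ maximalIdeal (A ⧸ span {x}) := by
      intro p' hp' hne q' hq' heq
      have hpp : (p'.comap (Ideal.Quotient.mk (span {x}))).map (Ideal.Quotient.mk (span {x})) = p' :=
        Ideal.map_comap_of_surjective _ Ideal.Quotient.mk_surjective p'
      have hxp : span {x} ≤ p'.comap (Ideal.Quotient.mk (span {x})) := by
        rw [span_singleton_le_iff_mem, Ideal.mem_comap, Ideal.Quotient.eq_zero_iff_mem.2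
          (Ideal.mem_span_singleton_self x)]
        exact zero_mem _
      have hpne : p'.comap (Ideal.Quotient.mk (span {x})) ≠ maximalIdeal A := by
        intro h1
        apply hne
        rw [← hpp, h1, hmA']
      have hq := Ideal.minimalPrimes_comap_of_surjective
        (f := Ideal.Quotient.mk (span {f x})) Ideal.Quotient.mk_surjective hq'
      rw [← hpp, hmapmap _ hxp] at hq
      refine h _ (Ideal.comap_isPrime _ _) hpne _ hq ?_
      rw [Ideal.comap_comap, ← hcomp, ← Ideal.comap_comap, heq, hcmA]
    -- dimensions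
    have hdA := ringKrullDim_quotient_span_singleton_succ hxA hxm
    have hdB := ringKrullDim_quotient_span_singleton_succ hxB hfx
    have hdA' : ringKrullDim (A ⧸ span {x}) = n := by
      have h1 : ringKrullDim (A ⧸ span {x}) ≠ ⊥ := ringKrullDim_ne_bot
      have h2 : ringKrullDim (A ⧸ span {x}) ≠ ⊤ := ringKrullDim_ne_top
      rw [hA] at hdA
      generalize ringKrullDim (A ⧸ span {x}) = D at *
      lift D to ℕ∞ using h1 with D'
      have h3 : D' ≠ ⊤ := by
        intro h4
        apply h2
        rw [h4]
        rfl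
      lift D' to ℕ using h3 with k
      have h5 : ((k + 1 : ℕ) : WithBot ℕ∞) = ((n + 1 : ℕ) : WithBot ℕ∞) := by
        rw [← hdA]
        push_cast
        rfl
      have h6 : k + 1 = n + 1 := by exact_mod_cast h5
      have h7 : k = n := by omega
      rw [h7]
      rfl
    have key := ih (A ⧸ span {x}) (B ⧸ span {f x}) f' h' hdA'
    -- the fibre rings agree
    have hfib : ringKrullDim ((B ⧸ span {f x}) ⧸ (maximalIdeal (A ⧸ span {x})).map f') =
        ringKrullDim (B ⧸ (maximalIdeal A).map f) := by
      have e1 : (maximalIdeal (A ⧸ span {x})).map f' =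
          ((maximalIdeal A).map f).map (Ideal.Quotient.mk (span {f x})) := by
        rw [hmA', Ideal.map_map, hcomp, ← Ideal.map_map]
      have e3 : span {f x} ⊔ (maximalIdeal A).map f = (maximalIdeal A).map f := by
        refine sup_eq_right.2 ?_
        rw [span_singleton_le_iff_mem]
        exact Ideal.mem_map_of_mem f hxm
      exact ringKrullDim_eq_of_ringEquiv
        (((Ideal.quotEquivOfEq e1).trans (DoubleQuot.quotQuotEquivQuotSup _ _)).trans
          (Ideal.quotEquivOfEq e3))
    rw [hfib] at key
    rw [← hdA, ← hdB, add_right_comm]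
    exact add_le_add_left key 1

lemma exists_nat_ringKrullDim_eq (R : Type*) [CommRing R] [IsNoetherianRing R] [IsLocalRing R] :
    ∃ n : ℕ, ringKrullDim R = n := by
  have h1 : ringKrullDim R ≠ ⊥ := ringKrullDim_ne_bot
  have h2 : ringKrullDim R ≠ ⊤ := ringKrullDim_ne_top
  generalize ringKrullDim R = D at *
  lift D to ℕ∞ using h1 with D'
  have h3 : D' ≠ ⊤ := by
    intro h4
    apply h2
    rw [h4]
    rfl
  lift D' to ℕ using h3 with k
  exact ⟨k, rfl⟩

theorem dim_le_add {A B : Type*} [CommRing A] [CommRing B] [IsNoetherianRing A]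
    [IsNoetherianRing B] [IsLocalRing A] [IsLocalRing B] [Algebra A B] [IsLocalHom (algebraMap A B)] :
    ringKrullDim B ≤ ringKrullDim A +
      ringKrullDim (B ⧸ (maximalIdeal A).map (algebraMap A B)) := by
  haveI : (maximalIdeal B).LiesOver (maximalIdeal A) := inferInstance
  have hne : (maximalIdeal A).map (algebraMap A B) ≠ ⊤ := fun h =>
    (maximalIdeal.isMaximal B).ne_top
      (top_le_iff.1 (h ▸ IsLocalRing.map_maximalIdeal_le (algebraMap A B)))
  haveI : Nontrivial (B ⧸ (maximalIdeal A).map (algebraMap A B)) := Ideal.Quotient.nontrivial_iff.2 hne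
  haveI : IsLocalRing (B ⧸ (maximalIdeal A).map (algebraMap A B)) :=
    IsLocalRing.of_surjective' (Ideal.Quotient.mk _) Ideal.Quotient.mk_surjective
  have h1 := Ideal.height_le_height_add_of_liesOver (maximalIdeal A) (maximalIdeal B)
  have h2 : (maximalIdeal B).map (Ideal.Quotient.mk ((maximalIdeal A).map (algebraMap A B))) =
      maximalIdeal (B ⧸ (maximalIdeal A).map (algebraMap A B)) := by
    have hc : (maximalIdeal (B ⧸ (maximalIdeal A).map (algebraMap A B))).comap
        (Ideal.Quotient.mk ((maximalIdeal A).map (algebraMap A B))) = maximalIdeal B := by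
      apply IsLocalRing.eq_maximalIdeal
      exact Ideal.comap_isMaximal_of_surjective _ Ideal.Quotient.mk_surjective
    rw [← hc, Ideal.map_comap_of_surjective _ Ideal.Quotient.mk_surjective]
  rw [h2] at h1
  rw [← IsLocalRing.maximalIdeal_height_eq_ringKrullDim (R := B),
    ← IsLocalRing.maximalIdeal_height_eq_ringKrullDim (R := A),
    ← IsLocalRing.maximalIdeal_height_eq_ringKrullDim
      (R := B ⧸ (maximalIdeal A).map (algebraMap A B))]
  exact_mod_cast h1

theorem dim_eq_add {A B : Type u} [CommRing A] [CommRing B] [IsNoetherianRing A]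
    [IsNoetherianRing B] [IsLocalRing A] [IsLocalRing B] [Algebra A B] [IsLocalHom (algebraMap A B)]
    (h : ∀ p : Ideal A, p.IsPrime → p ≠ maximalIdeal A →
      ∀ q ∈ (p.map (algebraMap A B)).minimalPrimes,
        q.comap (algebraMap A B) ≠ maximalIdeal A) :
    ringKrullDim B = ringKrullDim A +
      ringKrullDim (B ⧸ (maximalIdeal A).map (algebraMap A B)) := by
  obtain ⟨n, hn⟩ := exists_nat_ringKrullDim_eq A
  exact le_antisymm dim_le_add (dim_add_le n A B (algebraMap A B) h hn)

end Groth.Agent.Lib.Helper22.DimFibre
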