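import Mathlib
import Groth.Agent.Lib.Helper22.DimFibre

/-!
# Going down for flat modules, and the dimension formula with zero-dimensional fibre
-/

set_option autoImplicit false
set_option linter.unusedSectionVars false

universe u

namespace Groth.Agent.Lib.Helper22.DimFlat

open TensorProduct IsLocalRing

section regular

variable {A : Type u} [CommRing A] (N : Type u) [AddCommGroup N] [Module A N] [Module.Flat A N]

/-- for a flat module and a prime `p`, elements outside `p` are regular on `N / pN`. -/
lemma mem_smul_top_of_smul_mem (p : Ideal A) [p.IsPrime] {a : A} (ha : a ∉ p) {n : N}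
    (h : a • n ∈ p • (⊤ : Submodule A N)) : n ∈ p • (⊤ : Submodule A N) := by
  set f : (A ⧸ p) →ₗ[A] (A ⧸ p) := a • LinearMap.id with hf
  have hfinj : Function.Injective f := by
    intro x y hxy
    simp only [hf, LinearMap.smul_apply, LinearMap.id_apply] at hxy
    obtain ⟨x, rfl⟩ := Ideal.Quotient.mk_surjective x
    obtain ⟨y, rfl⟩ := Ideal.Quotient.mk_surjective y
    rw [Algebra.smul_def, Algebra.smul_def, Ideal.Quotient.algebraMap_eq, ← map_mul, ← map_mul,
      Ideal.Quotient.eq, ← mul_sub] at hxy
    rw [Ideal.Quotient.eq]
    exact (Ideal.IsPrime.mem_or_mem ‹p.IsPrime› hxy).resolve_left ha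
  have hinj := Module.Flat.rTensor_preserves_injective_linearMap (M := N) f hfinj
  have hr : f.rTensor N = a • LinearMap.id := by
    rw [hf, LinearMap.rTensor_smul, LinearMap.rTensor_id]
  set e := TensorProduct.quotTensorEquivQuotSMul N p with he
  have h0 : (p • (⊤ : Submodule A N)).mkQ n = 0 := by
    have h1 : a • (p • (⊤ : Submodule A N)).mkQ n = 0 := by
      rw [← map_smul, Submodule.mkQ_apply, Submodule.Quotient.mk_eq_zero]
      exact h
    have h2 : f.rTensor N (e.symm ((p • (⊤ : Submodule A N)).mkQ n)) = 0 := by
      rw [hr, LinearMap.smul_apply, LinearMap.id_apply, ← map_smul, h1, map_zero]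
    have h3 := hinj (h2.trans (map_zero _).symm)
    exact e.symm.injective (h3.trans (map_zero _).symm)
  rwa [Submodule.mkQ_apply, Submodule.Quotient.mk_eq_zero] at h0

end regular

section goingdown

variable {A B : Type u} [CommRing A] [CommRing B] [Algebra A B] [IsNoetherianRing B]
  (N : Type u) [AddCommGroup N] [Module B N] [Module A N] [IsScalarTower A B N]
  [Module.Finite B N] [Module.Flat A N]

lemma map_smul_top_le (p : Ideal A) (y : N)
    (hy : y ∈ p.map (algebraMap A B) • (⊤ : Submodule B N)) : y ∈ p • (⊤ : Submodule A N) := by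
  refine Submodule.smul_induction_on hy ?_ ?_
  · intro j hj n _
    have key : ∀ n : N, j • n ∈ p • (⊤ : Submodule A N) := by
      refine Submodule.span_induction (p := fun j _ => ∀ n : N, j • n ∈ p • (⊤ : Submodule A N))
        ?_ ?_ ?_ ?_ hj
      · rintro _ ⟨a', ha', rfl⟩ n
        rw [algebraMap_smul]
        exact Submodule.smul_mem_smul ha' Submodule.mem_top
      · intro n
        rw [zero_smul]
        exact Submodule.zero_mem _
      · intro x y _ _ hx hy n
        rw [add_smul]
        exact Submodule.add_mem _ (hx n) (hy n)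
      · intro b x _ hx n
        rw [smul_eq_mul, mul_comm, mul_smul]
        exact hx (b • n)
    exact key n
  · intro x y hx hy
    exact Submodule.add_mem _ hx hy

/-- **Going down for flat modules** (contrapositive form used for dimension formulas): if `N` is
finite over `B`, flat over `A`, with full support, then a minimal prime over `pB` contracts to `p`
… here: it cannot contract to a prime strictly containing `p`. -/
theorem comap_le_of_mem_minimalPrimes (hsupp : Module.support B N = Set.univ) (p : Ideal A)
    [p.IsPrime] (q : Ideal B) (hq : q ∈ (p.map (algebraMap A B)).minimalPrimes) :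
    q.comap (algebraMap A B) ≤ p := by
  intro a haq
  by_contra hap
  have hqp : q.IsPrime := hq.1.1
  set J := p.map (algebraMap A B) with hJ
  have hsuppX : Module.support B (N ⧸ (J • (⊤ : Submodule B N))) = PrimeSpectrum.zeroLocus J := by
    rw [Module.support_quotient, hsupp, Set.univ_inter]
  have hqX : (⟨q, hqp⟩ : PrimeSpectrum B) ∈ Module.support B (N ⧸ (J • (⊤ : Submodule B N))) := by
    rw [hsuppX, PrimeSpectrum.mem_zeroLocus]
    exact hq.1.2
  rw [Module.support_eq_zeroLocus, PrimeSpectrum.mem_zeroLocus] at hqX
  have hAnnq : Module.annihilator B (N ⧸ (J • (⊤ : Submodule B N))) ≤ q := hqX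
  have hJAnn : J ≤ Module.annihilator B (N ⧸ (J • (⊤ : Submodule B N))) := by
    intro j hj
    rw [Module.mem_annihilator]
    intro x
    obtain ⟨n, rfl⟩ := Submodule.Quotient.mk_surjective _ x
    rw [← Submodule.Quotient.mk_smul, Submodule.Quotient.mk_eq_zero]
    exact Submodule.smul_mem_smul hj Submodule.mem_top
  have hqmin : q ∈ (Module.annihilator B (N ⧸ (J • (⊤ : Submodule B N)))).minimalPrimes :=
    ⟨⟨hqp, hAnnq⟩, fun q' hq' hq'q => hq.2 ⟨hq'.1, hJAnn.trans hq'.2⟩ hq'q⟩
  have hreg : IsSMulRegular (N ⧸ (J • (⊤ : Submodule B N))) (algebraMap A B a) := by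
    intro x y hxy
    obtain ⟨n, rfl⟩ := Submodule.Quotient.mk_surjective _ x
    obtain ⟨n', rfl⟩ := Submodule.Quotient.mk_surjective _ y
    simp only at hxy
    rw [← Submodule.Quotient.mk_smul, ← Submodule.Quotient.mk_smul, Submodule.Quotient.eq,
      ← smul_sub, algebraMap_smul] at hxy
    rw [Submodule.Quotient.eq]
    have h1 := map_smul_top_le N p _ hxy
    have h2 := mem_smul_top_of_smul_mem N p hap h1
    -- back to the `B`-submodule
    refine Submodule.smul_induction_on h2 ?_ ?_
    · intro a' ha' n'' _
      rw [← algebraMap_smul B a' n'']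
      exact Submodule.smul_mem_smul (Ideal.mem_map_of_mem _ ha') Submodule.mem_top
    · intro x y hx hy
      exact Submodule.add_mem _ hx hy
  exact hreg.notMem_of_mem_minimalPrimes hqmin haq

end goingdown

section dim

variable (A B : Type u) [CommRing A] [CommRing B] [IsNoetherianRing A] [IsNoetherianRing B]
  [IsLocalRing A] [IsLocalRing B] [Algebra A B] [IsLocalHom (algebraMap A B)]

/-- the dimension formula `dim B = dim A + dim B/m_A B` when some finite `B`-module, flat over
`A`, has full support. -/
theorem dim_eq_of_flat_module (N : Type u) [AddCommGroup N] [Module B N] [Module A N]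
    [IsScalarTower A B N] [Module.Finite B N] [Module.Flat A N]
    (hsupp : Module.support B N = Set.univ) :
    ringKrullDim B = ringKrullDim A +
      ringKrullDim (B ⧸ (maximalIdeal A).map (algebraMap A B)) := by
  apply Groth.Agent.Lib.Helper22.DimFibre.dim_eq_add
  intro p hp hpm q hq hcon
  haveI := hp
  have h1 := comap_le_of_mem_minimalPrimes N hsupp p q hq
  rw [hcon] at h1
  exact hpm (le_antisymm (IsLocalRing.le_maximalIdeal hp.ne_top) h1)

end dim

end Groth.Agent.Lib.Helper22.DimFlat
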