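import Mathlib
import Groth.Agent.Lib.Helper22.DimFlat
import Groth.Agent.Lib.Helper4.FlatLocal2

/-!
# The dimension formula `dim_B (N ⊗_A M) = dim_A M + dim_B (N / m_A N)` for flat `N`
-/

set_option autoImplicit false
set_option linter.unusedSectionVars false

universe u

namespace Groth.Agent.Lib.Helper22.DimFlat

open TensorProduct IsLocalRing

section goingdown2

variable {A B : Type u} [CommRing A] [CommRing B] [Algebra A B] [IsNoetherianRing B]
  (N : Type u) [AddCommGroup N] [Module B N] [Module A N] [IsScalarTower A B N]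
  [Module.Finite B N] [Module.Flat A N]

lemma smul_top_le_map_smul_top (p : Ideal A) (y : N)
    (hy : y ∈ p • (⊤ : Submodule A N)) : y ∈ p.map (algebraMap A B) • (⊤ : Submodule B N) := by
  refine Submodule.smul_induction_on hy ?_ ?_
  · intro a' ha' n'' _
    rw [← algebraMap_smul B a' n'']
    exact Submodule.smul_mem_smul (Ideal.mem_map_of_mem _ ha') Submodule.mem_top
  · intro x y hx hy
    exact Submodule.add_mem _ hx hy

/-- going down for flat modules, annihilator form: a minimal prime of the support of `N / pN`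
contracts into `p`. -/
theorem comap_le_of_mem_minimalPrimes_annihilator (p : Ideal A) [p.IsPrime] (q : Ideal B)
    (hq : q ∈ (Module.annihilator B
      (N ⧸ (p.map (algebraMap A B) • (⊤ : Submodule B N)))).minimalPrimes) :
    q.comap (algebraMap A B) ≤ p := by
  intro a haq
  by_contra hap
  set J := p.map (algebraMap A B) with hJ
  have hreg : IsSMulRegular (N ⧸ (J • (⊤ : Submodule B N))) (algebraMap A B a) := by
    intro x y hxy
    obtain ⟨n, rfl⟩ := Submodule.Quotient.mk_surjective _ x
    obtain ⟨n', rfl⟩ := Submodule.Quotient.mk_surjective _ y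
    simp only at hxy
    rw [← Submodule.Quotient.mk_smul, ← Submodule.Quotient.mk_smul, Submodule.Quotient.eq,
      ← smul_sub, algebraMap_smul] at hxy
    rw [Submodule.Quotient.eq]
    have h1 := map_smul_top_le N p _ hxy
    have h2 := mem_smul_top_of_smul_mem N p hap h1
    exact smul_top_le_map_smul_top N p _ h2
  exact hreg.notMem_of_mem_minimalPrimes hq haq

variable (M : Type u) [AddCommGroup M] [Module A M] [Module.Finite A M]

lemma map_le_annihilator_quot (J : Ideal B) :
    J ≤ Module.annihilator B (N ⧸ (J • (⊤ : Submodule B N))) := by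
  intro j hj
  rw [Module.mem_annihilator]
  intro x
  obtain ⟨n, rfl⟩ := Submodule.Quotient.mk_surjective _ x
  rw [← Submodule.Quotient.mk_smul, Submodule.Quotient.mk_eq_zero]
  exact Submodule.smul_mem_smul hj Submodule.mem_top

/-- `F1'`: for `p` in the support of `M`, the annihilator of `N ⊗ M` kills `N / pN`. -/
theorem annihilator_tensor_le (p : Ideal A) [p.IsPrime] (hp : Module.annihilator A M ≤ p) :
    Module.annihilator B (N ⊗[A] M) ≤
      Module.annihilator B (N ⧸ (p.map (algebraMap A B) • (⊤ : Submodule B N))) := by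
  intro β hβ
  rw [Module.mem_annihilator] at hβ
  -- an element of `M / pM` with annihilator `p`
  have hsupp : (⟨p, inferInstance⟩ : PrimeSpectrum A) ∈
      Module.support A (M ⧸ (p • (⊤ : Submodule A M))) := by
    rw [Module.support_quotient]
    refine ⟨(Module.mem_support_iff_of_finite).mpr hp, ?_⟩
    rw [PrimeSpectrum.mem_zeroLocus]
  obtain ⟨mbar, hmbar⟩ := (Module.mem_support_iff').mp hsupp
  obtain ⟨m, rfl⟩ := Submodule.Quotient.mk_surjective _ mbar
  set mb : M ⧸ (p • (⊤ : Submodule A M)) := Submodule.Quotient.mk m with hmb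
  have hker : p ≤ LinearMap.ker (LinearMap.toSpanSingleton A _ mb) := by
    intro r hr
    rw [LinearMap.mem_ker, LinearMap.toSpanSingleton_apply, hmb, ← Submodule.Quotient.mk_smul,
      Submodule.Quotient.mk_eq_zero]
    exact Submodule.smul_mem_smul hr Submodule.mem_top
  set g : (A ⧸ p) →ₗ[A] (M ⧸ (p • (⊤ : Submodule A M))) :=
    Submodule.liftQ p (LinearMap.toSpanSingleton A _ mb) hker with hg
  have hginj : Function.Injective g := by
    rw [← LinearMap.ker_eq_bot, eq_bot_iff]
    intro x hx
    obtain ⟨r, rfl⟩ := Ideal.Quotient.mk_surjective x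
    rw [LinearMap.mem_ker] at hx
    have h1 : g (Ideal.Quotient.mk p r) = r • mb := by
      rw [hg]
      exact (Submodule.liftQ_apply p _ r).trans (LinearMap.toSpanSingleton_apply _ _ _ _)
    rw [h1] at hx
    rw [Submodule.mem_bot, Ideal.Quotient.eq_zero_iff_mem]
    by_contra hr
    exact hmbar r hr hx
  have hinj := Module.Flat.lTensor_preserves_injective_linearMap (M := N) g hginj
  rw [Module.mem_annihilator]
  intro x
  obtain ⟨n, rfl⟩ := Submodule.Quotient.mk_surjective _ x
  rw [← Submodule.Quotient.mk_smul, Submodule.Quotient.mk_eq_zero]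
  apply smul_top_le_map_smul_top N p
  -- `(β n) ⊗ 1 = 0` in `N ⊗ A/p`
  have h1 : (g.lTensor N) ((β • n) ⊗ₜ[A] (1 : A ⧸ p)) = 0 := by
    rw [LinearMap.lTensor_tmul]
    have h2 : g 1 = mb := by
      have : g (Ideal.Quotient.mk p 1) = (1 : A) • mb := by
        rw [hg]
        exact (Submodule.liftQ_apply p _ (1 : A)).trans (LinearMap.toSpanSingleton_apply _ _ _ _)
      rw [one_smul, map_one] at this
      exact this
    rw [h2, hmb]
    have h3 : ((p • (⊤ : Submodule A M)).mkQ.lTensor N) ((β • n) ⊗ₜ[A] m) =
        (β • n) ⊗ₜ[A] (Submodule.Quotient.mk m : M ⧸ (p • (⊤ : Submodule A M))) := by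
      rw [LinearMap.lTensor_tmul]
      rfl
    rw [← h3, ← TensorProduct.smul_tmul', hβ, map_zero]
  have h4 : (β • n) ⊗ₜ[A] (1 : A ⧸ p) = 0 := hinj (h1.trans (map_zero _).symm)
  have h5 := congrArg (TensorProduct.tensorQuotEquivQuotSMul N p) h4
  rw [← map_one (Ideal.Quotient.mk p), TensorProduct.tensorQuotEquivQuotSMul_tmul_mk, one_smul,
    map_zero, Submodule.Quotient.mk_eq_zero] at h5
  exact h5

lemma annihilator_le_annihilator_tensor :
    Module.annihilator B N ≤ Module.annihilator B (N ⊗[A] M) := by
  intro β hβ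
  rw [Module.mem_annihilator] at hβ ⊢
  intro x
  induction x using TensorProduct.induction_on with
  | zero => rw [smul_zero]
  | tmul n m => rw [TensorProduct.smul_tmul', hβ, TensorProduct.zero_tmul]
  | add a b ha hb => rw [smul_add, ha, hb, add_zero]

/-- `RAD`: for `p ∈ Supp M`, `V(pB + Ann (N ⊗ M)) = Supp (N / pN)`. -/
theorem radical_sup_annihilator_tensor (p : Ideal A) [p.IsPrime]
    (hp : Module.annihilator A M ≤ p) :
    (p.map (algebraMap A B) ⊔ Module.annihilator B (N ⊗[A] M)).radical =
      (Module.annihilator B (N ⧸ (p.map (algebraMap A B) • (⊤ : Submodule B N)))).radical := by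
  set J := p.map (algebraMap A B) with hJ
  have hle : J ⊔ Module.annihilator B (N ⊗[A] M) ≤
      Module.annihilator B (N ⧸ (J • (⊤ : Submodule B N))) :=
    sup_le (map_le_annihilator_quot N J) (annihilator_tensor_le N M p hp)
  refine le_antisymm (Ideal.radical_mono hle) ?_
  rw [Ideal.radical_le_radical_iff, ← PrimeSpectrum.zeroLocus_subset_zeroLocus_iff,
    ← Module.support_eq_zeroLocus, Module.support_quotient, Module.support_eq_zeroLocus]
  intro x hx
  rw [PrimeSpectrum.mem_zeroLocus, SetLike.coe_subset_coe, sup_le_iff] at hx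
  refine ⟨?_, ?_⟩
  · rw [PrimeSpectrum.mem_zeroLocus, SetLike.coe_subset_coe]
    exact (annihilator_le_annihilator_tensor N M).trans hx.2
  · rw [PrimeSpectrum.mem_zeroLocus, SetLike.coe_subset_coe]
    exact hx.1

end goingdown2

section main

lemma ringKrullDim_quotient_eq_of_radical_eq {R : Type*} [CommRing R] {I J : Ideal R}
    (h : I.radical = J.radical) : ringKrullDim (R ⧸ I) = ringKrullDim (R ⧸ J) := by
  rw [ringKrullDim_quotient, ringKrullDim_quotient, ← PrimeSpectrum.zeroLocus_radical, h,
    PrimeSpectrum.zeroLocus_radical]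

variable (A B : Type u) [CommRing A] [CommRing B] [IsNoetherianRing A] [IsNoetherianRing B]
  [IsLocalRing A] [IsLocalRing B] [Algebra A B] [IsLocalHom (algebraMap A B)]
  (M : Type u) [AddCommGroup M] [Module A M] [Module.Finite A M] [Nontrivial M]
  (N : Type u) [AddCommGroup N] [Module B N] [Module A N] [IsScalarTower A B N]
  [Module.Finite B N] [Nontrivial N] [Module.Flat A N]

lemma annihilator_le_maximalIdeal : Module.annihilator A M ≤ maximalIdeal A := by
  apply IsLocalRing.le_maximalIdeal
  intro h
  rw [Module.annihilator_eq_top_iff] at h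
  exact not_subsingleton M h

lemma annihilator_quot_ne_top :
    Module.annihilator B (N ⧸ ((maximalIdeal A).map (algebraMap A B) • (⊤ : Submodule B N))) ≠ ⊤ := by
  intro h
  rw [Module.annihilator_eq_top_iff, Submodule.Quotient.subsingleton_iff] at h
  exact Groth.Agent.Lib.Helper4.map_maximalIdeal_smul_top_ne_top (R := A) (S := B) N h

lemma annihilator_tensor_ne_top : Module.annihilator B (N ⊗[A] M) ≠ ⊤ := by
  intro h
  have h1 := annihilator_tensor_le (B := B) N M (maximalIdeal A) (annihilator_le_maximalIdeal A M)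
  rw [h, top_le_iff] at h1
  exact annihilator_quot_ne_top A B N h1

end main

end Groth.Agent.Lib.Helper22.DimFlat
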