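import Mathlib
import Groth.Agent.Lib.Helper22.DimFlat2

/-!
# The dimension formula `dim_B (N ⊗_A M) = dim_A M + dim_B (N / m_A N)` for flat `N`: assembly
-/

set_option autoImplicit false
set_option linter.unusedSectionVars false
set_option linter.style.haveILetI false

universe u

namespace Groth.Agent.Lib.Helper22.DimFlat

open TensorProduct IsLocalRing

variable (A B : Type u) [CommRing A] [CommRing B] [IsNoetherianRing A] [IsNoetherianRing B]
  [IsLocalRing A] [IsLocalRing B] [Algebra A B] [IsLocalHom (algebraMap A B)]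
  (M : Type u) [AddCommGroup M] [Module A M] [Module.Finite A M] [Nontrivial M]
  (N : Type u) [AddCommGroup N] [Module B N] [Module A N] [IsScalarTower A B N]
  [Module.Finite B N] [Nontrivial N] [Module.Flat A N]

lemma annihilator_le_comap :
    Module.annihilator A M ≤ (Module.annihilator B (N ⊗[A] M)).comap (algebraMap A B) := by
  intro a ha
  rw [Module.mem_annihilator] at ha
  rw [Ideal.mem_comap, Module.mem_annihilator]
  intro x
  induction x using TensorProduct.induction_on with
  | zero => rw [smul_zero]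
  | tmul n m =>
    rw [TensorProduct.smul_tmul', algebraMap_smul, TensorProduct.smul_tmul, ha,
      TensorProduct.tmul_zero]
  | add a b ha hb => rw [smul_add, ha, hb, add_zero]

theorem supportDim_tensor_eq :
    Module.supportDim B (N ⊗[A] M) = Module.supportDim A M +
      Module.supportDim B (N ⧸ ((maximalIdeal A).map (algebraMap A B) • (⊤ : Submodule B N))) := by
  haveI : Module.Finite B (N ⊗[A] M) := Groth.Agent.Lib.Helper8.finite_tensor N M
  set I := Module.annihilator A M with hI
  set 𝔟 := Module.annihilator B (N ⊗[A] M) with h𝔟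
  have hI𝔟 : I ≤ 𝔟.comap (algebraMap A B) := annihilator_le_comap A B M N
  have hIne : I ≠ ⊤ := fun h => by
    rw [hI, Module.annihilator_eq_top_iff] at h
    exact not_subsingleton M h
  have h𝔟ne : 𝔟 ≠ ⊤ := annihilator_tensor_ne_top A B M N
  haveI : Nontrivial (A ⧸ I) := Ideal.Quotient.nontrivial_iff.mpr hIne
  haveI : Nontrivial (B ⧸ 𝔟) := Ideal.Quotient.nontrivial_iff.mpr h𝔟ne
  haveI : IsLocalRing (A ⧸ I) :=
    IsLocalRing.of_surjective' (Ideal.Quotient.mk I) Ideal.Quotient.mk_surjective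
  haveI : IsLocalRing (B ⧸ 𝔟) :=
    IsLocalRing.of_surjective' (Ideal.Quotient.mk 𝔟) Ideal.Quotient.mk_surjective
  set f' : (A ⧸ I) →+* (B ⧸ 𝔟) := Ideal.quotientMap 𝔟 (algebraMap A B) hI𝔟 with hf'
  letI : Algebra (A ⧸ I) (B ⧸ 𝔟) := f'.toAlgebra
  have hcomm : ∀ a : A, f' (Ideal.Quotient.mk I a) = Ideal.Quotient.mk 𝔟 (algebraMap A B a) :=
    fun a => Ideal.quotientMap_mk
  haveI : IsLocalHom (algebraMap (A ⧸ I) (B ⧸ 𝔟)) := by
    refine ⟨fun x hx => ?_⟩
    obtain ⟨a, rfl⟩ := Ideal.Quotient.mk_surjective x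
    change IsUnit (f' _) at hx
    rw [hcomm] at hx
    have h1 := Groth.Agent.Lib.Helper22.DimFibre.isUnit_of_isUnit_mk 𝔟 h𝔟ne hx
    exact (isUnit_of_map_unit (algebraMap A B) a h1).map _
  have hmaxA : (maximalIdeal A).map (Ideal.Quotient.mk I) = maximalIdeal (A ⧸ I) :=
    IsLocalRing.map_maximalIdeal_of_surjective (Ideal.Quotient.mk I) Ideal.Quotient.mk_surjective
  have hcomp : f'.comp (Ideal.Quotient.mk I) = (Ideal.Quotient.mk 𝔟).comp (algebraMap A B) :=
    RingHom.ext hcomm
  have hGD : ∀ p' : Ideal (A ⧸ I), p'.IsPrime → p' ≠ maximalIdeal (A ⧸ I) →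
      ∀ q' ∈ (p'.map (algebraMap (A ⧸ I) (B ⧸ 𝔟))).minimalPrimes,
        q'.comap (algebraMap (A ⧸ I) (B ⧸ 𝔟)) ≠ maximalIdeal (A ⧸ I) := by
    intro p' hp' hp'm q' hq' hcon
    change q' ∈ (p'.map f').minimalPrimes at hq'
    change q'.comap f' = _ at hcon
    set p := p'.comap (Ideal.Quotient.mk I) with hp
    haveI : p.IsPrime := Ideal.comap_isPrime _ _
    have hIp : I ≤ p := by
      intro a ha
      rw [hp, Ideal.mem_comap, Ideal.Quotient.eq_zero_iff_mem.mpr ha]
      exact zero_mem _
    have hp'eq : p' = p.map (Ideal.Quotient.mk I) :=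
      (Ideal.map_comap_of_surjective _ Ideal.Quotient.mk_surjective p').symm
    set q := q'.comap (Ideal.Quotient.mk 𝔟) with hq
    have h1 : (p'.map f').comap (Ideal.Quotient.mk 𝔟) = p.map (algebraMap A B) ⊔ 𝔟 := by
      rw [hp'eq, Ideal.map_map, hcomp, ← Ideal.map_map,
        Ideal.comap_map_of_surjective _ Ideal.Quotient.mk_surjective, ← RingHom.ker_eq_comap_bot,
        Ideal.mk_ker]
    have h2 : q ∈ (p.map (algebraMap A B) ⊔ 𝔟).minimalPrimes := by
      rw [← h1, Ideal.comap_minimalPrimes_eq_of_surjective Ideal.Quotient.mk_surjective]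
      exact ⟨q', hq', rfl⟩
    rw [← Ideal.radical_minimalPrimes, radical_sup_annihilator_tensor N M p hIp,
      Ideal.radical_minimalPrimes] at h2
    have h3 := comap_le_of_mem_minimalPrimes_annihilator N p q h2
    have h4 : q.comap (algebraMap A B) = maximalIdeal A := by
      rw [hq, Ideal.comap_comap, ← hcomp, ← Ideal.comap_comap, hcon]
      haveI := Ideal.comap_isMaximal_of_surjective (Ideal.Quotient.mk I)
        Ideal.Quotient.mk_surjective (K := maximalIdeal (A ⧸ I))
      exact IsLocalRing.eq_maximalIdeal inferInstance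
    rw [h4] at h3
    have h5 : p = maximalIdeal A :=
      le_antisymm (IsLocalRing.le_maximalIdeal (Ideal.IsPrime.ne_top inferInstance)) h3
    apply hp'm
    rw [hp'eq, h5, hmaxA]
  have key := Groth.Agent.Lib.Helper22.DimFibre.dim_eq_add (A := A ⧸ I) (B := B ⧸ 𝔟) hGD
  rw [Module.supportDim_eq_ringKrullDim_quotient_annihilator (R := B) (M := N ⊗[A] M),
    Module.supportDim_eq_ringKrullDim_quotient_annihilator (R := A) (M := M), key]
  congr 1
  rw [Module.supportDim_eq_ringKrullDim_quotient_annihilator]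
  have h5 : (maximalIdeal (A ⧸ I)).map (algebraMap (A ⧸ I) (B ⧸ 𝔟)) =
      ((maximalIdeal A).map (algebraMap A B)).map (Ideal.Quotient.mk 𝔟) := by
    change (maximalIdeal (A ⧸ I)).map f' = _
    rw [← hmaxA, Ideal.map_map, Ideal.map_map, hcomp]
  rw [h5, ringKrullDim_eq_of_ringEquiv
    (DoubleQuot.quotQuotEquivQuotSup 𝔟 ((maximalIdeal A).map (algebraMap A B)))]
  refine ringKrullDim_quotient_eq_of_radical_eq (R := B) ?_
  rw [sup_comm]
  exact radical_sup_annihilator_tensor N M (maximalIdeal A) (annihilator_le_maximalIdeal A M)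

end Groth.Agent.Lib.Helper22.DimFlat
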