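import Mathlib
import Groth.Prelude.Def_EGA4b
import Groth.Agent.Lib.Helper22.DimFlat3
import Groth.Agent.Lib.Helper4.FlatRing

/-!
# Cohen–Macaulayness of `N ⊗_A M` for flat `N`
-/

set_option autoImplicit false
set_option linter.unusedSectionVars false
set_option linter.style.haveILetI false

universe u

namespace Groth.Agent.Lib.Helper22.DimFlat

open TensorProduct IsLocalRing

section quotring

variable {B : Type u} [CommRing B] (J : Ideal B)
  (F : Type u) [AddCommGroup F] [Module B F] [Module (B ⧸ J) F] [IsScalarTower B (B ⧸ J) F]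

lemma annihilator_quotient_ring :
    Module.annihilator (B ⧸ J) F = (Module.annihilator B F).map (Ideal.Quotient.mk J) := by
  have h : (Module.annihilator (B ⧸ J) F).comap (Ideal.Quotient.mk J) = Module.annihilator B F := by
    ext b
    rw [Ideal.mem_comap, Module.mem_annihilator, Module.mem_annihilator]
    refine forall_congr' fun f => ?_
    rw [← Ideal.Quotient.algebraMap_eq, algebraMap_smul]
  rw [← h, Ideal.map_comap_of_surjective _ Ideal.Quotient.mk_surjective]

lemma le_annihilator_of_quotient_ring : J ≤ Module.annihilator B F := by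
  intro b hb
  rw [Module.mem_annihilator]
  intro f
  rw [← algebraMap_smul (B ⧸ J) b f, Ideal.Quotient.algebraMap_eq,
    Ideal.Quotient.eq_zero_iff_mem.mpr hb, zero_smul]

theorem supportDim_quotient_ring_eq [Module.Finite B F] [Module.Finite (B ⧸ J) F] :
    Module.supportDim (B ⧸ J) F = Module.supportDim B F := by
  rw [Module.supportDim_eq_ringKrullDim_quotient_annihilator,
    Module.supportDim_eq_ringKrullDim_quotient_annihilator, annihilator_quotient_ring,
    ringKrullDim_eq_of_ringEquiv (DoubleQuot.quotQuotEquivQuotSup J (Module.annihilator B F)),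
    sup_eq_right.mpr (le_annihilator_of_quotient_ring J F)]

theorem depth_quotient_ring_eq [IsLocalRing B] [IsNoetherianRing B] [IsLocalRing (B ⧸ J)]
    [Module.Finite (B ⧸ J) F] :
    LocCoh.depth (B ⧸ J) F = LocCoh.depth B F := by
  have h2 := Groth.Agent.Lib.Helper4.idealDepth_map_eq (A := B) (B := B ⧸ J)
    (IsLocalRing.maximalIdeal B) F
  have h3 : (IsLocalRing.maximalIdeal B).map (algebraMap B (B ⧸ J)) =
      IsLocalRing.maximalIdeal (B ⧸ J) :=
    IsLocalRing.map_maximalIdeal_of_surjective (Ideal.Quotient.mk J) Ideal.Quotient.mk_surjective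
  unfold LocCoh.depth
  rw [h2, h3]

end quotring

section cm

lemma add_eq_add_iff_of_le {a a' : WithBot ℕ∞} {d d' : ℕ∞} (ha : a ≠ ⊤) (ha' : a' ≠ ⊤)
    (hd : (d : WithBot ℕ∞) ≤ a) (hd' : (d' : WithBot ℕ∞) ≤ a') :
    a + a' = ((d + d' : ℕ∞) : WithBot ℕ∞) ↔ (a = d ∧ a' = d') := by
  constructor
  · intro h
    have hab : a ≠ ⊥ := fun h0 => by rw [h0] at hd; simp at hd
    have hab' : a' ≠ ⊥ := fun h0 => by rw [h0] at hd'; simp at hd'
    lift a to ℕ∞ using hab
    lift a' to ℕ∞ using hab'
    have ha0 : a ≠ ⊤ := fun h0 => ha (by rw [h0]; rfl)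
    have ha0' : a' ≠ ⊤ := fun h0 => ha' (by rw [h0]; rfl)
    lift a to ℕ using ha0
    lift a' to ℕ using ha0'
    have hd1 : d ≤ (a : ℕ∞) := by exact_mod_cast hd
    have hd1' : d' ≤ (a' : ℕ∞) := by exact_mod_cast hd'
    lift d to ℕ using ne_top_of_le_ne_top (ENat.coe_ne_top a) hd1
    lift d' to ℕ using ne_top_of_le_ne_top (ENat.coe_ne_top a') hd1'
    have h1 : a + a' = d + d' := by exact_mod_cast h
    have h2 : d ≤ a := by exact_mod_cast hd1
    have h3 : d' ≤ a' := by exact_mod_cast hd1'
    have h4 : a = d := by omega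
    have h5 : a' = d' := by omega
    subst h4 h5
    exact ⟨rfl, rfl⟩
  · rintro ⟨rfl, rfl⟩
    push_cast
    rfl

variable (A B : Type u) [CommRing A] [CommRing B] [IsNoetherianRing A] [IsNoetherianRing B]
  [IsLocalRing A] [IsLocalRing B] [Algebra A B] [IsLocalHom (algebraMap A B)]
  (M : Type u) [AddCommGroup M] [Module A M] [Module.Finite A M] [Nontrivial M]
  (N : Type u) [AddCommGroup N] [Module B N] [Module A N] [IsScalarTower A B N]
  [Module.Finite B N] [Nontrivial N] [Module.Flat A N]

lemma supportDim_ne_top {R : Type u} [CommRing R] [IsNoetherianRing R] [IsLocalRing R]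
    (P : Type u) [AddCommGroup P] [Module R P] : Module.supportDim R P ≠ ⊤ := by
  intro h
  have h1 := Module.supportDim_le_ringKrullDim R P
  rw [h, top_le_iff] at h1
  exact ringKrullDim_ne_top h1

theorem isCohenMacaulayModule_tensor_iff :
    LocCoh.IsCohenMacaulayModule B (N ⊗[A] M) ↔
      (LocCoh.IsCohenMacaulayModule A M ∧
        LocCoh.IsCohenMacaulayModule (EGA4.FibRing A B) (EGA4.FibMod A B N)) := by
  haveI : Nontrivial (EGA4.FibMod A B N) := by
    rw [Submodule.Quotient.nontrivial_iff]
    exact Groth.Agent.Lib.Helper4.map_maximalIdeal_smul_top_ne_top (R := A) (S := B) N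
  unfold LocCoh.IsCohenMacaulayModule
  rw [supportDim_tensor_eq A B M N, Groth.Agent.Lib.Helper4.depth_tensor_eq M N,
    supportDim_quotient_ring_eq (EGA4.mB A B) (EGA4.FibMod A B N),
    depth_quotient_ring_eq (EGA4.mB A B) (EGA4.FibMod A B N)]
  exact add_eq_add_iff_of_le (supportDim_ne_top M) (supportDim_ne_top _)
    (Groth.Agent.Lib.Helper4.depth_le_supportDim)
    (Groth.Agent.Lib.Helper4.depth_le_supportDim)

end cm

end Groth.Agent.Lib.Helper22.DimFlat
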