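import Mathlib
import Groth.Agent.Lib.Helper12.IntegralDim

/-!
# Krull dimension of a finitely generated domain over a field is its transcendence degree
-/

namespace Groth.Agent.Lib.Helper22

universe u

open Cardinal

/-- Noether normalization: a finitely generated domain over a field of transcendence degree `m`
has Krull dimension `m`. -/
theorem ringKrullDim_eq_of_trdeg {k R : Type u} [Field k] [CommRing R] [IsDomain R] [Algebra k R]
    [Algebra.FiniteType k R] (m : ℕ) (h : Algebra.trdeg k R = m) :
    ringKrullDim R = m := by
  obtain ⟨s, g, hinj, hint⟩ := exists_integral_inj_algHom_of_fg k R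
  letI : Algebra (MvPolynomial (Fin s) k) R := g.toRingHom.toAlgebra
  haveI : IsScalarTower k (MvPolynomial (Fin s) k) R :=
    IsScalarTower.of_algebraMap_eq (fun c => (g.commutes c).symm)
  haveI : Algebra.IsIntegral (MvPolynomial (Fin s) k) R := ⟨hint⟩
  have hinj' : Function.Injective (algebraMap (MvPolynomial (Fin s) k) R) := hinj
  haveI : FaithfulSMul (MvPolynomial (Fin s) k) R :=
    (faithfulSMul_iff_algebraMap_injective _ _).2 hinj'
  have hdim : ringKrullDim R = s := by
    refine le_antisymm ?_ ?_
    · have := Groth.Agent.Lib.Helper12.ringKrullDim_le_of_isIntegral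
        (R := MvPolynomial (Fin s) k) (S := R)
      rwa [Groth.Agent.Lib.Helper12.ringKrullDim_mvPolynomial_field] at this
    · have := Groth.Agent.Lib.Helper12.ringKrullDim_le_of_isIntegral_of_injective
        (R := MvPolynomial (Fin s) k) (S := R) hinj'
      rwa [Groth.Agent.Lib.Helper12.ringKrullDim_mvPolynomial_field] at this
  have htr : Algebra.trdeg k R = s := by
    have h1 := trdeg_add_eq k (MvPolynomial (Fin s) k) (A := R)
    rw [trdeg_eq_zero (R := MvPolynomial (Fin s) k) (A := R), add_zero,
      MvPolynomial.trdeg_of_isDomain] at h1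
    rw [← h1]
    simp
  rw [hdim]
  have : (s : Cardinal.{u}) = (m : Cardinal.{u}) := by rw [← htr, h]
  have hsm : s = m := by exact_mod_cast this
  rw [hsm]

end Groth.Agent.Lib.Helper22
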