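import Mathlib
import Groth.Prelude
import Groth.Agent.Lib.Helper13.LerayCollapse

/-!
(K2 for helper12's S7411) Over an affine base, vanishing of `R^q f_* M` gives vanishing of
`H^q(X, M)`.
-/

set_option autoImplicit false
universe u
open CategoryTheory CategoryTheory.Limits AlgebraicGeometry Opposite

namespace Groth.Agent.Lib.Helper22.HHofRpush

theorem subsingleton_HH_of_isZero_RpushAb {X S : Scheme.{u}} (f : X ⟶ S) [QuasiCompact f]
    [QuasiSeparated f] [IsAffine S] (M : X.Modules) [M.IsQuasicoherent] (q : ℕ)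
    (h0 : Limits.IsZero ((Coh.RpushAb f q).obj (Coh.toAb M))) : Subsingleton (Coh.HH X M q) := by
  obtain ⟨e⟩ := Groth.Agent.Lib.Helper13.LerayCollapse.nonempty_HH_equiv_sections f M q
  have hz : Limits.IsZero (((Coh.RpushAb f q).obj (Coh.toAb M)).obj.obj (op ⊤)) := by
    have h1 : Limits.IsZero ((sheafToPresheaf _ _).obj ((Coh.RpushAb f q).obj (Coh.toAb M))) :=
      Functor.map_isZero _ h0
    exact Functor.map_isZero ((evaluation _ _).obj (op ⊤)) h1
  haveI : Subsingleton ↑(((Coh.RpushAb f q).obj (Coh.toAb M)).obj.obj (op ⊤)) :=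
    AddCommGrpCat.subsingleton_of_isZero hz
  exact e.toEquiv.subsingleton

end Groth.Agent.Lib.Helper22.HHofRpush
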