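import Mathlib
import Groth.Prelude.Def_W4c2submetdescSubtr

/-!
# Helpers for S-subtrusive morphisms
-/

set_option autoImplicit false
universe u

open CategoryTheory CategoryTheory.Limits AlgebraicGeometry

namespace Groth.Agent.Lib.Helper22.SubtrLib

/-- The complement of the non-vanishing locus of a global section is open as soon as it is stable
under generization. -/
theorem isOpen_compl_basicOpen_of_stableUnderGeneralization {X : Scheme.{u}} (g : Γ(X, ⊤))
    (h : StableUnderGeneralization ((X.basicOpen g : Set X)ᶜ)) :
    IsOpen ((X.basicOpen g : Set X)ᶜ) := by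
  rw [isOpen_iff_forall_mem_open]
  intro x hx
  obtain ⟨U, hU, hxU, -⟩ := exists_isAffineOpen_mem_and_subset (x := x) (U := ⊤) trivial
  set gU : Γ(X, U) := X.presheaf.map (homOfLE le_top).op g with hgU
  have hb : X.basicOpen gU = U ⊓ X.basicOpen g := Scheme.basicOpen_res _ _ _
  have hpre : hU.fromSpec ⁻¹' ((X.basicOpen g : Set X)ᶜ) =
      ((hU.fromSpec ⁻¹ᵁ (X.basicOpen gU) : (Spec Γ(X, U)).Opens) : Set (Spec Γ(X, U)))ᶜ := by
    ext y
    have hyU : hU.fromSpec y ∈ U := by
      have : hU.fromSpec y ∈ Set.range hU.fromSpec := ⟨y, rfl⟩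
      rw [hU.range_fromSpec] at this
      exact this
    rw [hb]
    simp only [Set.mem_preimage, Set.mem_compl_iff, SetLike.mem_coe, Scheme.Hom.mem_preimage,
      TopologicalSpace.Opens.mem_inf]
    tauto
  have hopen : IsOpen (hU.fromSpec ⁻¹' ((X.basicOpen g : Set X)ᶜ)) := by
    apply PrimeSpectrum.isOpen_of_stableUnderGeneralization_of_isConstructible
      (R := Γ(X, U))
    · exact h.preimage hU.fromSpec.continuous
    · rw [hpre, hU.fromSpec_preimage_basicOpen gU]
      exact (PrimeSpectrum.isConstructible_basicOpen (f := gU)).compl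
  refine ⟨hU.fromSpec '' (hU.fromSpec ⁻¹' ((X.basicOpen g : Set X)ᶜ)), ?_, ?_, ?_⟩
  · exact Set.image_preimage_subset _ _
  · exact hU.fromSpec.isOpenEmbedding.isOpenMap _ hopen
  · rw [Set.image_preimage_eq_inter_range, hU.range_fromSpec]
    exact ⟨hx, hxU⟩

end Groth.Agent.Lib.Helper22.SubtrLib

namespace Groth.Agent.Lib.Helper22.SubtrLib

open IsLocalRing

/-- The generic point of the spectrum of a domain. -/
abbrev genPt (V : Type u) [CommRing V] [IsDomain V] : Spec (CommRingCat.of V) :=
  (⟨⊥, Ideal.isPrime_bot⟩ : PrimeSpectrum V)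

/-- The closed point of the spectrum of a local ring, as a point of the scheme. -/
abbrev clPt (V : Type u) [CommRing V] [IsLocalRing V] : Spec (CommRingCat.of V) :=
  (IsLocalRing.closedPoint V : PrimeSpectrum V)

set_option backward.isDefEq.respectTransparency.types false in
/-- Every specialization `y' ⤳ y` in a scheme is the image of the specialization of the generic
point to the closed point of the spectrum of a valuation ring. -/
theorem exists_valuationRing_of_specializes {Y : Scheme.{u}} {y y' : Y} (h : y' ⤳ y) :
    ∃ (V : Type u) (_ : CommRing V) (_ : IsDomain V) (_ : ValuationRing V)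
      (g : Spec (CommRingCat.of V) ⟶ Y), g (clPt V) = y ∧ g (genPt V) = y' := by
  let φ : Y.presheaf.stalk y ⟶ Y.residueField y' := Y.presheaf.stalkSpecializes h ≫ Y.residue y'
  obtain ⟨A, hA, hA_local⟩ := exists_factor_valuationRing φ.hom
  let ψ : Y.presheaf.stalk y ⟶ .of A := CommRingCat.ofHom (φ.hom.codRestrict _ hA)
  have w : Spec.map (CommRingCat.ofHom (algebraMap A (Y.residueField y'))) ≫
      Spec.map ψ ≫ Y.fromSpecStalk y = Y.fromSpecResidueField y' := by
    rw [Scheme.fromSpecResidueField, ← Scheme.SpecMap_stalkSpecializes_fromSpecStalk h]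
    simp_rw [← Spec.map_comp_assoc]
    rfl
  refine ⟨A, inferInstance, inferInstance, inferInstance, Spec.map ψ ≫ Y.fromSpecStalk y, ?_, ?_⟩
  · simp only [Scheme.Hom.comp_base, TopCat.coe_comp, Function.comp_apply]
    have : Spec.map ψ (closedPoint A) = closedPoint (Y.presheaf.stalk y) :=
      comap_closedPoint (S := A) (φ.hom.codRestrict A.toSubring hA)
    erw [this]
    exact Y.fromSpecStalk_closedPoint
  · have e : genPt A = Spec.map (CommRingCat.ofHom (algebraMap A (Y.residueField y')))
        (closedPoint (Y.residueField y')) := by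
      apply PrimeSpectrum.ext
      symm
      change Ideal.comap (algebraMap A (Y.residueField y')) (maximalIdeal (Y.residueField y')) = ⊥
      rw [IsLocalRing.maximalIdeal_eq_bot]
      exact Ideal.comap_bot_of_injective _ (FaithfulSMul.algebraMap_injective _ _)
    rw [e, ← Scheme.Hom.comp_apply, w]
    exact Scheme.fromSpecResidueField_apply y' _

end Groth.Agent.Lib.Helper22.SubtrLib

namespace Groth.Agent.Lib.Helper22.SubtrLib

open IsLocalRing

/-- An injective local homomorphism from a valuation ring to a local domain is surjective on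
spectra. -/
theorem comap_surjective_of_valuationRing {V V' : Type u} [CommRing V] [IsDomain V]
    [ValuationRing V] [CommRing V'] [IsDomain V'] [IsLocalRing V'] (φ : V →+* V')
    (hinj : Function.Injective φ) [IsLocalHom φ] :
    Function.Surjective (PrimeSpectrum.comap φ) := by
  let _ := φ.toAlgebra
  have hflat : Module.Flat V V' := by
    rw [Module.Flat.flat_iff_torsion_eq_bot_of_isBezout]
    rw [eq_bot_iff]
    intro x hx
    obtain ⟨a, ha⟩ := (Submodule.mem_torsion_iff x).mp hx
    rw [Submodule.mem_bot]
    have h1 : φ (a : V) * x = 0 := by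
      have := ha
      rwa [Submonoid.smul_def, Algebra.smul_def] at this
    rcases mul_eq_zero.mp h1 with h2 | h2
    · exfalso
      have : (a : V) = 0 := hinj (by rw [h2, map_zero])
      exact nonZeroDivisors.coe_ne_zero a this
    · exact h2
  have hloc : IsLocalHom (algebraMap V V') := ‹IsLocalHom φ›
  have : Module.FaithfullyFlat V V' := Module.FaithfullyFlat.of_flat_of_isLocalHom
  exact PrimeSpectrum.comap_surjective_of_faithfullyFlat (A := V) (B := V')

/-- A morphism between spectra of valuation rings preserving closed and generic points is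
surjective. -/
theorem surjective_of_clPt_genPt {V V' : Type u} [CommRing V] [IsDomain V] [ValuationRing V]
    [CommRing V'] [IsDomain V'] [ValuationRing V']
    (b : Spec (CommRingCat.of V') ⟶ Spec (CommRingCat.of V))
    (hcl : b (clPt V') = clPt V) (hgen : b (genPt V') = genPt V) : Surjective b := by
  obtain ⟨φ, rfl⟩ : ∃ φ : CommRingCat.of V ⟶ CommRingCat.of V', b = Spec.map φ :=
    ⟨Spec.preimage b, (Spec.map_preimage b).symm⟩
  have h1 : (maximalIdeal V').comap φ.hom = maximalIdeal V := by
    have := congrArg PrimeSpectrum.asIdeal hcl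
    exact this
  have h2 : (⊥ : Ideal V').comap φ.hom = ⊥ := by
    have := congrArg PrimeSpectrum.asIdeal hgen
    exact this
  have hloc : IsLocalHom φ.hom := ((local_hom_TFAE φ.hom).out 0 4).mpr h1
  have hinj : Function.Injective φ.hom := by
    rw [RingHom.injective_iff_ker_eq_bot]
    exact h2
  exact ⟨comap_surjective_of_valuationRing φ.hom hinj⟩

end Groth.Agent.Lib.Helper22.SubtrLib

namespace Groth.Agent.Lib.Helper22.SubtrLib

/-- In a quasi-sober T0 space every point is a specialization of a maximal point. -/
theorem exists_maximal_generization {α : Type*} [TopologicalSpace α] [QuasiSober α] [T0Space α]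
    (y : α) : ∃ y' : α, y' ⤳ y ∧ ∀ y'' : α, y'' ⤳ y' → y'' = y' := by
  have hirr : IsIrreducible (irreducibleComponent y) := isIrreducible_irreducibleComponent
  have hcl : IsClosed (irreducibleComponent y) := isClosed_irreducibleComponent
  have hgen := hirr.isGenericPoint_genericPoint hcl
  refine ⟨hirr.genericPoint, hgen.specializes mem_irreducibleComponent, fun y'' hy'' => ?_⟩
  have h1 : irreducibleComponent y ⊆ closure {y''} := by
    rw [← hgen.def]
    exact hy''.closure_subset
  have h2 : closure {y''} = irreducibleComponent y :=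
    eq_irreducibleComponent isIrreducible_singleton.closure.isPreirreducible h1
  have h3 : hirr.genericPoint ⤳ y'' := by
    rw [specializes_iff_mem_closure, hgen.def, ← h2]
    exact subset_closure rfl
  exact (hy''.antisymm h3).eq

end Groth.Agent.Lib.Helper22.SubtrLib
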