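import Mathlib
import Groth.Agent.S6883
import Groth.Agent.Lib.Helper14.FlatStage.Interface

/-!
# Descent of flatness along injective integral ring maps (f.p. modules over polynomial rings)

`flat_model_of_integral`: for `R → S` injective integral, if the model module `Mm L S` is flat over
`S` then `Mm L R` is flat over `R`.  Uses helper14's EGA IV 11.2.6 (`exists_fg_flat`) to descend to
Noetherian finite stage, then S6883 (Noetherian finite injective descent of flatness).
-/

set_option autoImplicit false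
universe u
open TensorProduct
open Groth.Agent.Lib.Helper14.FlatStage

namespace Groth.Agent.Lib.Helper22.IntFlatDescent

theorem flat_model_of_integral {R S : Type u} [CommRing R] [CommRing S] [Algebra R S]
    [Algebra.IsIntegral R S] (hinj : Function.Injective (algebraMap R S))
    (R₀ : Subalgebra ℤ R) (hR₀ : R₀.FG) {n b e : ℕ} (L : Fin e → Fm n b R₀)
    (h : Module.Flat S (Mm L S)) : Module.Flat R (Mm L R) := by
  classical
  rcases subsingleton_or_nontrivial R with hsub | hnt
  · haveI : Subsingleton (Mm L R) := Module.subsingleton R _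
    infer_instance
  haveI : Algebra.FiniteType ℤ R₀ := (Subalgebra.fg_iff_finiteType R₀).1 hR₀
  haveI : IsNoetherianRing R₀ := Algebra.FiniteType.isNoetherianRing ℤ R₀
  obtain ⟨C, hC, hCflat⟩ := exists_fg_flat L S h
  obtain ⟨T, hT⟩ := hC
  have hint : ∀ t : S, ∃ p : Polynomial R, p.Monic ∧ Polynomial.eval₂ (algebraMap R S) t p = 0 :=
    fun t => Algebra.IsIntegral.isIntegral t
  choose p hpm hp0 using hint
  let coeffs : Set R := ⋃ t ∈ T, ((p t).coeffs : Set R)
  have hcoeffs_fin : coeffs.Finite :=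
    Set.Finite.biUnion T.finite_toSet (fun t _ => Finset.finite_toSet _)
  let R₁ : Subalgebra R₀ R := Algebra.adjoin R₀ coeffs
  have hR₁fg : R₁.FG := ⟨hcoeffs_fin.toFinset, by simp [R₁]⟩
  haveI : Algebra.FiniteType R₀ R₁ := (Subalgebra.fg_iff_finiteType R₁).1 hR₁fg
  haveI : IsNoetherianRing R₁ := Algebra.FiniteType.isNoetherianRing R₀ R₁
  let S₁ : Subalgebra R₁ S := Algebra.adjoin R₁ (T : Set S)
  -- integrality of the generators over `R₁`
  have hintT : ∀ t ∈ (T : Set S), IsIntegral R₁ t := by
    intro t ht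
    have hl : p t ∈ Polynomial.lifts (algebraMap R₁ R) := by
      rw [Polynomial.lifts_iff_coeff_lifts]
      intro k
      by_cases hk : (p t).coeff k = 0
      · exact ⟨0, by rw [map_zero, hk]⟩
      · have hmem : (p t).coeff k ∈ coeffs :=
          Set.mem_biUnion ht (Polynomial.coeff_mem_coeffs hk)
        exact ⟨⟨(p t).coeff k, Algebra.subset_adjoin hmem⟩, rfl⟩
    obtain ⟨q, hq, -, hqm⟩ := Polynomial.lifts_and_degree_eq_and_monic hl (hpm t)
    refine ⟨q, hqm, ?_⟩
    rw [IsScalarTower.algebraMap_eq R₁ R S, ← Polynomial.eval₂_map, hq]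
    exact hp0 t
  haveI : Module.Finite R₁ S₁ :=
    Module.Finite.iff_fg.2 (fg_adjoin_of_finite T.finite_toSet hintT)
  haveI : IsNoetherianRing S₁ := Algebra.FiniteType.isNoetherianRing R₁ S₁
  have hinj₁ : Function.Injective (algebraMap R₁ S₁) := by
    intro x y hxy
    have h1 : algebraMap R S (x : R) = algebraMap R S (y : R) := congrArg Subtype.val hxy
    exact Subtype.ext (hinj h1)
  -- `C` maps to `S₁`
  have hle : ∀ c : S, c ∈ C → c ∈ S₁ := by
    intro c hc
    rw [← hT] at hc
    have h1 : Algebra.adjoin R₀ (T : Set S) ≤ S₁.restrictScalars R₀ :=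
      Algebra.adjoin_le (fun t ht => Algebra.subset_adjoin ht)
    exact h1 hc
  let φ : C →ₐ[R₀] S₁ :=
    { toFun := fun c => ⟨c.1, hle c.1 c.2⟩
      map_one' := rfl
      map_mul' := fun _ _ => rfl
      map_zero' := rfl
      map_add' := fun _ _ => rfl
      commutes' := fun _ => rfl }
  have hS₁flat : Module.Flat S₁ (Mm L S₁) := flat_of_algHom L φ hCflat
  haveI : Module.Flat S₁ (S₁ ⊗[R₁] Mm L R₁) :=
    Module.Flat.of_linearEquiv (isBaseChange_mapM L R₁ S₁).equiv
  have hR₁flat : Module.Flat R₁ (Mm L R₁) := Groth.Agent.S6883.result R₁ S₁ hinj₁ (Mm L R₁)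
  exact flat_of_algHom L R₁.val hR₁flat

theorem flat_of_integral_injective (R S : Type u) [CommRing R]
    [CommRing S] [Algebra R S] [Algebra.IsIntegral R S]
    (hinj : Function.Injective (algebraMap R S)) (n : ℕ)
    (M : Type u) [AddCommGroup M] [Module (MvPolynomial (Fin n) R) M] [Module R M]
    [IsScalarTower R (MvPolynomial (Fin n) R) M]
    [Module.FinitePresentation (MvPolynomial (Fin n) R) M]
    [Module.Flat S (S ⊗[R] M)] : Module.Flat R M := by
  obtain ⟨n', b, e, R₀, hR₀, L, ⟨iso⟩⟩ := exists_model R (MvPolynomial (Fin n) R) M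
  have e1 : S ⊗[R] M ≃ₗ[S] S ⊗[R] Mm L R :=
    TensorProduct.AlgebraTensorModule.congr (LinearEquiv.refl S S) iso
  have e2 : S ⊗[R] Mm L R ≃ₗ[S] Mm L S := (isBaseChange_mapM L R S).equiv
  haveI : Module.Flat S (Mm L S) := Module.Flat.of_linearEquiv (e1 ≪≫ₗ e2).symm
  have h1 : Module.Flat R (Mm L R) := flat_model_of_integral hinj R₀ hR₀ L inferInstance
  exact Module.Flat.of_linearEquiv iso

end Groth.Agent.Lib.Helper22.IntFlatDescent
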