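import Mathlib
import Groth.Agent.Lib.Helper12.DimFT
import Groth.Agent.Lib.Helper12.DimFT2
import Groth.Agent.Lib.Helper4.FlatRing
import Groth.Agent.Lib.Helper4.RegCM
import Groth.Agent.Lib.Helper22.EtaleDim1
import Groth.Agent.Lib.Helper22.SmoothDim
import Groth.Agent.S2082

/-!
# Quasi-finite algebras over regular rings: flat iff Cohen–Macaulay of the right dimension
-/

set_option linter.style.haveILetI false

namespace Groth.Agent.Lib.Helper22.QFFlat

universe u

open IsLocalRing

/-- the image of `q` in the fibre ring over `q ∩ A` of a quasi-finite algebra has height zero. -/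
theorem height_map_mk_eq_zero {A T : Type*} [CommRing A] [CommRing T] [Algebra A T]
    [Algebra.QuasiFinite A T] (q : Ideal T) [q.IsPrime] :
    (Ideal.map (Ideal.Quotient.mk (Ideal.map (algebraMap A T) (q.under A))) q).height = 0 := by
  set I : Ideal T := Ideal.map (algebraMap A T) (q.under A) with hI
  have hIq : I ≤ q := Ideal.map_le_iff_le_comap.mpr le_rfl
  have hker : RingHom.ker (Ideal.Quotient.mk I) ≤ q := by rw [Ideal.mk_ker]; exact hIq
  have hprime : (Ideal.map (Ideal.Quotient.mk I) q).IsPrime :=
    Ideal.map_isPrime_of_surjective Ideal.Quotient.mk_surjective hker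
  have hcomap : Ideal.comap (Ideal.Quotient.mk I) (Ideal.map (Ideal.Quotient.mk I) q) = q := by
    rw [Ideal.comap_map_of_surjective _ Ideal.Quotient.mk_surjective]
    rw [← RingHom.ker_eq_comap_bot, Ideal.mk_ker]
    exact sup_eq_left.mpr hIq
  have hmin : Ideal.map (Ideal.Quotient.mk I) q ∈ minimalPrimes (T ⧸ I) := by
    refine ⟨⟨hprime, bot_le⟩, ?_⟩
    rintro Q' ⟨hQ'prime, -⟩ hQ'le
    haveI := hQ'prime
    have hQprime : (Ideal.comap (Ideal.Quotient.mk I) Q').IsPrime := inferInstance
    have hQle : Ideal.comap (Ideal.Quotient.mk I) Q' ≤ q := by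
      rw [← hcomap]; exact Ideal.comap_mono hQ'le
    have hIQ : I ≤ Ideal.comap (Ideal.Quotient.mk I) Q' := by
      intro x hx
      rw [Ideal.mem_comap, Ideal.Quotient.eq_zero_iff_mem.mpr hx]
      exact Q'.zero_mem
    have hunder : (Ideal.comap (Ideal.Quotient.mk I) Q').under A = q.under A := by
      apply le_antisymm
      · exact Ideal.comap_mono hQle
      · intro a ha
        exact hIQ (Ideal.mem_map_of_mem _ ha)
    have heq := Algebra.QuasiFinite.eq_of_le_of_under_eq (R := A)
      (Ideal.comap (Ideal.Quotient.mk I) Q') q hQle hunder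
    rw [← heq, Ideal.map_comap_of_surjective _ Ideal.Quotient.mk_surjective]
  rw [Ideal.height_eq_zero_iff]
  exact hmin

section local_

variable (A B : Type u) [CommRing A] [CommRing B] [IsLocalRing A] [IsLocalRing B]
  [IsNoetherianRing A] [IsNoetherianRing B] [Algebra A B] [IsLocalHom (algebraMap A B)]
  [Algebra.QuasiFinite A B]

theorem map_maximalIdeal_ne_top : (maximalIdeal A).map (algebraMap A B) ≠ ⊤ := by
  intro h
  have hle : (maximalIdeal A).map (algebraMap A B) ≤ maximalIdeal B :=
    IsLocalRing.map_maximalIdeal_le (algebraMap A B)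
  rw [h] at hle
  exact (IsLocalRing.maximalIdeal.isMaximal B).ne_top (top_le_iff.mp hle)

theorem isLocalRing_fibre : IsLocalRing (B ⧸ (maximalIdeal A).map (algebraMap A B)) := by
  haveI : Nontrivial (B ⧸ (maximalIdeal A).map (algebraMap A B)) :=
    Ideal.Quotient.nontrivial_iff.mpr (map_maximalIdeal_ne_top A B)
  exact IsLocalRing.of_surjective' (Ideal.Quotient.mk _) Ideal.Quotient.mk_surjective

theorem height_maximalIdeal_fibre [IsLocalRing (B ⧸ (maximalIdeal A).map (algebraMap A B))] :
    (maximalIdeal (B ⧸ (maximalIdeal A).map (algebraMap A B))).height = 0 := by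
  have h := height_map_mk_eq_zero (A := A) (maximalIdeal B)
  have hu : (maximalIdeal B).under A = maximalIdeal A :=
    IsLocalRing.maximalIdeal_comap (algebraMap A B)
  rw [hu] at h
  rwa [IsLocalRing.map_maximalIdeal_of_surjective _ Ideal.Quotient.mk_surjective] at h

theorem ringKrullDim_fibre [IsLocalRing (B ⧸ (maximalIdeal A).map (algebraMap A B))] :
    ringKrullDim (B ⧸ (maximalIdeal A).map (algebraMap A B)) = 0 := by
  rw [← IsLocalRing.maximalIdeal_height_eq_ringKrullDim, height_maximalIdeal_fibre]
  rfl

theorem ringKrullDim_eq_of_flat [Module.Flat A B] : ringKrullDim B = ringKrullDim A := by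
  haveI := isLocalRing_fibre A B
  rw [Groth.Agent.Lib.Helper4.FlatRing.dim_eq_add_fibRing A B, ringKrullDim_fibre, add_zero]

theorem isCohenMacaulayLocalRing_of_flat [Module.Flat A B] [IsRegularLocalRing A] :
    LocCoh.IsCohenMacaulayLocalRing B := by
  haveI := isLocalRing_fibre A B
  refine { supportDim_eq_depth := ?_ }
  have h1 := Groth.Agent.Lib.Helper4.FlatRing.depth_eq_add_fibRing A B
  have h2 : LocCoh.depth (B ⧸ (maximalIdeal A).map (algebraMap A B))
      (B ⧸ (maximalIdeal A).map (algebraMap A B)) = 0 := by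
    have := Groth.Agent.Lib.Helper4.FlatRing.depth_self_le_height
      (B := B ⧸ (maximalIdeal A).map (algebraMap A B))
    rw [height_maximalIdeal_fibre] at this
    exact le_antisymm this bot_le
  rw [h2, add_zero] at h1
  rw [Module.supportDim_self_eq_ringKrullDim, ringKrullDim_eq_of_flat A B, h1]
  exact (Groth.Agent.Lib.Helper4.RegCM.depth_eq_ringKrullDim A).symm

theorem flat_of_isCohenMacaulayLocalRing [IsRegularLocalRing A]
    [LocCoh.IsCohenMacaulayLocalRing B] (h : ringKrullDim B = ringKrullDim A) :
    Module.Flat A B := by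
  haveI := isLocalRing_fibre A B
  refine Groth.Agent.S2082.result ?_
  rw [ringKrullDim_fibre, add_zero, h]

end local_

/-- coheight is preserved by contraction along a quasi-finite map of finite type algebras over a
field. -/
theorem coheight_comap_eq (k : Type u) [Field k] (P S : Type u) [CommRing P] [CommRing S]
    [Algebra k P] [Algebra k S] [Algebra P S] [IsScalarTower k P S] [Algebra.FiniteType k P]
    [Algebra.FiniteType k S] [Algebra.QuasiFinite P S] (q : PrimeSpectrum S) :
    Order.coheight (PrimeSpectrum.comap (algebraMap P S) q) = Order.coheight q := by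
  apply le_antisymm
  · have h1 := Groth.Agent.Lib.Helper12.DimFT.ringKrullDim_quotient_eq_coheight
      (PrimeSpectrum.comap (algebraMap P S) q)
    have h2 := Groth.Agent.Lib.Helper12.DimFT.ringKrullDim_quotient_eq_coheight q
    have hasI : (PrimeSpectrum.comap (algebraMap P S) q).asIdeal = q.asIdeal.under P := rfl
    rw [hasI] at h1
    haveI : Algebra.FiniteType k (P ⧸ q.asIdeal.under P) :=
      Algebra.FiniteType.of_surjective (Ideal.Quotient.mkₐ k _) (Ideal.Quotient.mkₐ_surjective k _)
    haveI : Algebra.FiniteType k (S ⧸ q.asIdeal) :=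
      Algebra.FiniteType.of_surjective (Ideal.Quotient.mkₐ k _) (Ideal.Quotient.mkₐ_surjective k _)
    obtain ⟨s, hs, hts, -⟩ :=
      Groth.Agent.Lib.Helper12.DimFT.exists_dim_eq_trdeg k (P ⧸ q.asIdeal.under P)
    obtain ⟨t, ht, htt, -⟩ := Groth.Agent.Lib.Helper12.DimFT.exists_dim_eq_trdeg k (S ⧸ q.asIdeal)
    have hle := trdeg_le_of_injective
      (IsScalarTower.toAlgHom k (P ⧸ q.asIdeal.under P) (S ⧸ q.asIdeal))
      (FaithfulSMul.algebraMap_injective _ _)
    rw [hts, htt] at hle
    have hst : s ≤ t := by exact_mod_cast hle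
    rw [hs] at h1
    rw [ht] at h2
    have h3 : ((Order.coheight (PrimeSpectrum.comap (algebraMap P S) q) : ℕ∞) : WithBot ℕ∞) ≤
        (Order.coheight q : ℕ∞) := by
      rw [← h1, ← h2]
      exact_mod_cast hst
    exact_mod_cast h3
  · exact Order.coheight_le_coheight_apply_of_strictMono _
      (Groth.Agent.Lib.Helper22.EtaleDim.strictMono_comap (R := P) (E := S)) q

end Groth.Agent.Lib.Helper22.QFFlat
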