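import Mathlib
import Groth.Agent.Lib.Helper1.ThickSq
import Groth.Agent.Lib.Helper22.FormalFlat

set_option autoImplicit false
set_option linter.style.haveILetI false
set_option linter.unusedSectionVars false

/-!
# Global sections of a flat scheme over an Artinian local ring
-/

universe u

namespace Groth.Agent.Lib.Helper22.ArtinFlatSec

section Algebra

/-- Flatness and colon ideals: if `M` is flat, `e • x ∈ J M` and `(J : e) ⊆ K`, then `x ∈ K M`. -/
lemma mem_smul_top_of_smul_mem {R M : Type*} [CommRing R] [AddCommGroup M] [Module R M]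
    [Module.Flat R M] (J K : Ideal R) (e : R) (hK : ∀ a, e * a ∈ J → a ∈ K) (x : M)
    (h : e • x ∈ J • (⊤ : Submodule R M)) : x ∈ K • (⊤ : Submodule R M) := by
  classical
  have h' : e • x ∈ J • Submodule.span R (Set.range (id : M → M)) := by
    rw [Set.range_id, Submodule.span_univ]; exact h
  obtain ⟨a, ha, hsum⟩ := (Submodule.mem_ideal_smul_span_iff_exists_sum J (id : M → M) (e • x)).mp h'
  let f' : Option a.support → R := fun o => o.elim e (fun m => -(a m.1))
  let x' : Option a.support → M := fun o => o.elim x (fun m => m.1)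
  have hrel : ∑ i, f' i • x' i = 0 := by
    rw [Fintype.sum_option]
    simp only [f', x', Option.elim_none, Option.elim_some, neg_smul, Finset.sum_neg_distrib]
    rw [Finset.sum_coe_sort a.support (fun m => a m • m)]
    have : a.sum (fun i c => c • id i) = ∑ m ∈ a.support, a m • m := rfl
    rw [← this, hsum, add_neg_cancel]
  obtain ⟨k, A, y, hx, hA⟩ := Module.Flat.isTrivialRelation_of_sum_smul_eq_zero hrel
  have h0 := hx none
  simp only [x', Option.elim_none] at h0
  rw [h0]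
  refine Submodule.sum_mem _ (fun j _ => Submodule.smul_mem_smul (hK _ ?_) Submodule.mem_top)
  have h1 := hA j
  rw [Fintype.sum_option] at h1
  simp only [f', Option.elim_none, Option.elim_some, neg_mul, Finset.sum_neg_distrib] at h1
  rw [add_neg_eq_zero] at h1
  rw [h1]
  exact Ideal.sum_mem _ (fun m _ => Ideal.mul_mem_right _ _ (ha m.1))

/-- Ring-hom form of `mem_smul_top_of_smul_mem`. -/
lemma mem_map_of_mul_mem_map {R S : Type*} [CommRing R] [CommRing S] (φ : R →+* S) (hφ : φ.Flat)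
    (J K : Ideal R) (e : R) (hK : ∀ a, e * a ∈ J → a ∈ K) (x : S)
    (h : φ e * x ∈ J.map φ) : x ∈ K.map φ := by
  letI := φ.toAlgebra
  haveI : Module.Flat R S := hφ
  have h1 : e • x ∈ J • (⊤ : Submodule R S) := by
    rw [Ideal.smul_top_eq_map, Submodule.restrictScalars_mem, Algebra.smul_def]
    exact h
  have h2 := mem_smul_top_of_smul_mem J K e hK x h1
  rw [Ideal.smul_top_eq_map, Submodule.restrictScalars_mem] at h2
  exact h2

/-- In an Artinian local ring, every nonzero ideal `I` has a "simple step" `J < I = J + (e)` with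
`(J : e) = m`. -/
lemma exists_step {C : Type*} [CommRing C] [IsLocalRing C] [IsArtinianRing C] (I : Ideal C)
    (hI : I ≠ ⊥) :
    ∃ (J : Ideal C) (e : C), J < I ∧ I = J ⊔ Ideal.span {e} ∧
      (∀ a, e * a ∈ J → a ∈ IsLocalRing.maximalIdeal C) ∧
      (∀ a ∈ IsLocalRing.maximalIdeal C, a * e ∈ J) := by
  have hne : ({J : Ideal C | J < I}).Nonempty := ⟨⊥, bot_lt_iff_ne_bot.mpr hI⟩
  obtain ⟨J, hJI, hJmax⟩ := (set_has_maximal_iff_noetherian (R := C) (M := C)).mpr inferInstance
    {J : Ideal C | J < I} hne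
  have hJI' : J < I := hJI
  obtain ⟨e, heI, heJ⟩ := SetLike.exists_of_lt hJI'
  have hstep : ∀ x ∈ I, x ∉ J → J ⊔ Ideal.span {x} = I := by
    intro x hxI hxJ
    have h1 : J < J ⊔ Ideal.span {x} := by
      refine lt_of_le_of_ne le_sup_left (fun h => hxJ ?_)
      rw [h]
      exact Ideal.mem_sup_right (Ideal.subset_span rfl)
    have h2 : J ⊔ Ideal.span {x} ≤ I :=
      sup_le hJI'.le ((Ideal.span_singleton_le_iff_mem I).mpr hxI)
    by_contra h3
    exact hJmax _ (lt_of_le_of_ne h2 h3) h1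
  refine ⟨J, e, hJI', (hstep e heI heJ).symm, ?_, ?_⟩
  · intro a ha
    by_contra hna
    have hu : IsUnit a := by
      by_contra hnu
      exact hna ((IsLocalRing.mem_maximalIdeal a).mpr hnu)
    obtain ⟨u, rfl⟩ := hu
    apply heJ
    have : e = (↑u⁻¹ : C) * (e * ↑u) := by
      rw [mul_comm e, ← mul_assoc, Units.inv_mul, one_mul]
    rw [this]
    exact Ideal.mul_mem_left _ _ ha
  · intro a ha
    by_contra hae
    have h1 := hstep (a * e) (Ideal.mul_mem_left _ _ heI) hae
    have h2 : e ∈ J ⊔ Ideal.span {a * e} := h1 ▸ heI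
    obtain ⟨j, hj, y, hy, hjy⟩ := Submodule.mem_sup.mp h2
    obtain ⟨c, rfl⟩ := Ideal.mem_span_singleton'.mp hy
    have h3 : (1 - c * a) * e = j := by
      linear_combination (-1 : C) * hjy
    have hu : IsUnit (1 - c * a) := by
      by_contra hnu
      have h4 : (1 - c * a) ∈ IsLocalRing.maximalIdeal C := (IsLocalRing.mem_maximalIdeal _).mpr hnu
      have h5 : (1 : C) ∈ IsLocalRing.maximalIdeal C := by
        have := Ideal.add_mem _ h4 (Ideal.mul_mem_left _ c ha)
        simp at this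
      exact (Ideal.ne_top_iff_one _).mp (IsLocalRing.maximalIdeal.isMaximal C).ne_top h5
    obtain ⟨u, hu⟩ := hu
    apply heJ
    have : e = (↑u⁻¹ : C) * j := by
      rw [← h3, ← hu, ← mul_assoc, Units.inv_mul, one_mul]
    rw [this]
    exact Ideal.mul_mem_left _ _ hj

end Algebra

section Scheme

open AlgebraicGeometry CategoryTheory Limits Opposite TopologicalSpace
open Groth.Agent.Lib.Helper1 Groth.Agent.Lib.Helper22.FormalFlat

variable (C : Type u) [CommRing C] [IsLocalRing C]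
variable {X X₀ : Scheme.{u}} (g : X ⟶ Spec (CommRingCat.of C))
  (i : X₀ ⟶ X) (f₀ : X₀ ⟶ Spec (CommRingCat.of (C ⧸ IsLocalRing.maximalIdeal C)))

/-- The structure map `C → Γ(X, ⊤)`. -/
noncomputable abbrev gs : C →+* Γ(X, ⊤) :=
  ((Scheme.ΓSpecIso (CommRingCat.of C)).inv ≫ g.appTop).hom

/-- Restriction `Γ(X, ⊤) → Γ(X, V)`. -/
noncomputable abbrev ρ (X : Scheme.{u}) (V : X.Opens) : Γ(X, ⊤) →+* Γ(X, V) :=
  (X.presheaf.map (homOfLE (le_top : V ≤ ⊤)).op).hom

/-- The structure map `C → Γ(X, V)`. -/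
noncomputable abbrev φ (V : X.Opens) : C →+* Γ(X, V) := (ρ X V).comp (gs C g)

lemma φ_eq (V : X.Opens) :
    φ C g V = (g.appLE ⊤ V le_top).hom.comp (gammaEquiv C : C →+* _) := by
  ext c
  simp only [φ, ρ, gs, RingHom.comp_apply, CommRingCat.hom_comp, Scheme.Hom.appLE]
  rfl

lemma flat_φ [Flat g] {V : X.Opens} (hV : IsAffineOpen V) : (φ C g V).Flat := by
  rw [φ_eq]
  refine RingHom.Flat.comp ?_ (g.flat_appLE (isAffineOpen_top _) hV le_top)
  exact RingHom.Flat.of_bijective (gammaEquiv C).bijective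

variable {C g i f₀}

lemma ker_π (hsq : IsPullback i f₀ g
      (Spec.map (CommRingCat.ofHom (Ideal.Quotient.mk (IsLocalRing.maximalIdeal C)))))
    {V : X.Opens} (hV : IsAffineOpen V) :
    RingHom.ker (i.app V).hom = (IsLocalRing.maximalIdeal C).map (φ C g V) ∧
      Function.Surjective (i.app V).hom := by
  haveI : IsClosedImmersion (Spec.map (CommRingCat.ofHom
      (Ideal.Quotient.mk (IsLocalRing.maximalIdeal C)))) :=
    IsClosedImmersion.spec_of_surjective _ Ideal.Quotient.mk_surjective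
  have hpo := ThickSq.isPushout_appLE hsq (isAffineOpen_top _) hV (le_top : V ≤ g ⁻¹ᵁ ⊤)
    (fun _ _ => trivial)
  have hsurj : Function.Surjective ((Spec.map (CommRingCat.ofHom
      (Ideal.Quotient.mk (IsLocalRing.maximalIdeal C)))).app ⊤) :=
    Scheme.Hom.app_surjective _ ⊤ (isAffineOpen_top _)
  constructor
  · rw [ThickSq.ker_eq_map_of_isPushout hpo hsurj, φ_eq, ← Ideal.map_map]
    congr 1
    exact ker_appTop C _
  · exact ThickSq.surjective_of_isPushout hpo hsurj

lemma app_ρ (i : X₀ ⟶ X) (V : X.Opens) (s : Γ(X, ⊤)) :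
    (i.app V) (ρ X V s) = ρ X₀ (i ⁻¹ᵁ V) (i.appTop s) :=
  ConcreteCategory.congr_hom (i.naturality (homOfLE (le_top : V ≤ ⊤)).op) s

lemma app_res (i : X₀ ⟶ X) {V V' : X.Opens} (h : V' ≤ V) (t : Γ(X, V)) :
    (i.app V') (X.presheaf.map (homOfLE h).op t) =
      X₀.presheaf.map (homOfLE (i.preimage_mono h)).op ((i.app V) t) :=
  ConcreteCategory.congr_hom (i.naturality (homOfLE h).op) t

lemma res_ρ (X : Scheme.{u}) {V V' : X.Opens} (h : V' ≤ V) (s : Γ(X, ⊤)) :
    X.presheaf.map (homOfLE h).op (ρ X V s) = ρ X V' s := by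
  simp only [ρ, ← CommRingCat.comp_apply, ← Functor.map_comp]
  rfl

lemma appTop_gs (hsq : IsPullback i f₀ g
      (Spec.map (CommRingCat.ofHom (Ideal.Quotient.mk (IsLocalRing.maximalIdeal C))))) (c : C) :
    i.appTop (gs C g c) =
      ((Scheme.ΓSpecIso (CommRingCat.of (C ⧸ IsLocalRing.maximalIdeal C))).inv ≫ f₀.appTop)
        (Ideal.Quotient.mk (IsLocalRing.maximalIdeal C) c) := by
  have h1 : g.appTop ≫ i.appTop = (Spec.map (CommRingCat.ofHom
      (Ideal.Quotient.mk (IsLocalRing.maximalIdeal C)))).appTop ≫ f₀.appTop := by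
    rw [← Scheme.Hom.comp_appTop, ← Scheme.Hom.comp_appTop, hsq.w]
  have h2 := Scheme.ΓSpecIso_inv_naturality (CommRingCat.ofHom
      (Ideal.Quotient.mk (IsLocalRing.maximalIdeal C)))
  have h3 : (Scheme.ΓSpecIso (CommRingCat.of C)).inv ≫ g.appTop ≫ i.appTop =
      CommRingCat.ofHom (Ideal.Quotient.mk (IsLocalRing.maximalIdeal C)) ≫
        (Scheme.ΓSpecIso (CommRingCat.of (C ⧸ IsLocalRing.maximalIdeal C))).inv ≫ f₀.appTop := by
    rw [h1, ← Category.assoc, ← h2, Category.assoc]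
  exact ConcreteCategory.congr_hom h3 c

lemma eq_zero_of_forall_affine (X : Scheme.{u}) (s : Γ(X, ⊤))
    (h : ∀ V : X.affineOpens, ρ X V.1 s = 0) : s = 0 := by
  refine X.sheaf.eq_of_locally_eq' (fun V : X.affineOpens => V.1) ⊤
    (fun V => homOfLE le_top) ?_ s 0 ?_
  · rw [AlgebraicGeometry.iSup_affineOpens_eq_top]
  · intro V
    rw [map_zero]
    exact h V

lemma exists_glue (i : X₀ ⟶ X) (τ : ∀ V : X.affineOpens, Γ(X₀, i ⁻¹ᵁ V.1))
    (hτ : ∀ (V V' : X.affineOpens) (h : V'.1 ≤ V.1),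
      X₀.presheaf.map (homOfLE (i.preimage_mono h)).op (τ V) = τ V') :
    ∃ t : Γ(X₀, ⊤), ∀ V : X.affineOpens, ρ X₀ (i ⁻¹ᵁ V.1) t = τ V := by
  have hcover : (⊤ : X₀.Opens) ≤ ⨆ V : X.affineOpens, i ⁻¹ᵁ V.1 := by
    rw [← Scheme.Hom.preimage_iSup, AlgebraicGeometry.iSup_affineOpens_eq_top]
    exact le_rfl
  have hcompat : TopCat.Presheaf.IsCompatible X₀.sheaf.1
      (fun V : X.affineOpens => i ⁻¹ᵁ V.1) τ := by
    intro V W
    refine X₀.sheaf.eq_of_locally_eq'
      (fun V' : {V' : X.affineOpens // V'.1 ≤ V.1 ⊓ W.1} => i ⁻¹ᵁ V'.1.1) _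
      (fun V' => homOfLE (le_inf (i.preimage_mono (V'.2.trans inf_le_left))
        (i.preimage_mono (V'.2.trans inf_le_right)))) ?_ _ _ ?_
    · intro x hx
      have hx' : i x ∈ V.1 ⊓ W.1 := hx
      obtain ⟨_, ⟨V', hV', rfl⟩, hxV', hV'le⟩ :=
        X.isBasis_affineOpens.exists_subset_of_mem_open hx' (V.1 ⊓ W.1).2
      rw [Opens.mem_iSup]
      exact ⟨⟨⟨V', hV'⟩, hV'le⟩, hxV'⟩
    · intro V'
      have e1 := hτ V V'.1 (V'.2.trans inf_le_left)
      have e2 := hτ W V'.1 (V'.2.trans inf_le_right)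
      simp only [← CommRingCat.comp_apply, ← Functor.map_comp]
      exact e1.trans e2.symm
  obtain ⟨t, ht, -⟩ := X₀.sheaf.existsUnique_gluing' (fun V : X.affineOpens => i ⁻¹ᵁ V.1) ⊤
    (fun V => homOfLE le_top) hcover τ hcompat
  exact ⟨t, ht⟩

variable [IsArtinianRing C] [Flat g]

theorem mem_map_of_forall (hsq : IsPullback i f₀ g
      (Spec.map (CommRingCat.ofHom (Ideal.Quotient.mk (IsLocalRing.maximalIdeal C)))))
    (h0 : Function.Bijective
      ((Scheme.ΓSpecIso (CommRingCat.of (C ⧸ IsLocalRing.maximalIdeal C))).inv ≫ f₀.appTop))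
    (I : Ideal C) : ∀ s : Γ(X, ⊤),
      (∀ V : X.affineOpens, ρ X V.1 s ∈ I.map (φ C g V.1)) → ∃ c ∈ I, s = gs C g c := by
  refine IsArtinian.induction (P := fun I : Ideal C => ∀ s : Γ(X, ⊤),
      (∀ V : X.affineOpens, ρ X V.1 s ∈ I.map (φ C g V.1)) → ∃ c ∈ I, s = gs C g c) ?_ I
  intro I IH s hs
  by_cases hI : I = ⊥
  · subst hI
    refine ⟨0, Submodule.zero_mem _, ?_⟩
    rw [map_zero]
    apply eq_zero_of_forall_affine
    intro V
    have := hs V
    rwa [Ideal.map_bot, Ideal.mem_bot] at this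
  · obtain ⟨J, e, hJI, hIJ, hcolon, hme⟩ := exists_step I hI
    set m := IsLocalRing.maximalIdeal C with hm
    have ha : ∀ V : X.affineOpens, ∃ t : Γ(X, V.1),
        ρ X V.1 s - φ C g V.1 e * t ∈ J.map (φ C g V.1) := by
      intro V
      have h1 := hs V
      rw [hIJ, Ideal.map_sup, Ideal.map_span, Set.image_singleton] at h1
      obtain ⟨j, hj, y, hy, hjy⟩ := Submodule.mem_sup.mp h1
      obtain ⟨t, rfl⟩ := Ideal.mem_span_singleton'.mp hy
      refine ⟨t, ?_⟩
      have : ρ X V.1 s - φ C g V.1 e * t = j := by rw [← hjy]; ring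
      rw [this]; exact hj
    choose t ht using ha
    have hb : ∀ (V : X.affineOpens) (t' : Γ(X, V.1)),
        ρ X V.1 s - φ C g V.1 e * t' ∈ J.map (φ C g V.1) →
          (i.app V.1) t' = (i.app V.1) (t V) := by
      intro V t' ht'
      have h1 : φ C g V.1 e * (t V - t') ∈ J.map (φ C g V.1) := by
        have := Ideal.sub_mem _ ht' (ht V)
        convert this using 1; ring
      have h2 := mem_map_of_mul_mem_map (φ C g V.1) (flat_φ C g V.2) J m e hcolon _ h1
      rw [← (ker_π hsq V.2).1, RingHom.mem_ker, map_sub, sub_eq_zero] at h2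
      exact h2.symm
    let τ : ∀ V : X.affineOpens, Γ(X₀, i ⁻¹ᵁ V.1) := fun V => (i.app V.1) (t V)
    have hres : ∀ (V V' : X.affineOpens) (h : V'.1 ≤ V.1),
        (X.presheaf.map (homOfLE h).op).hom.comp (φ C g V.1) = φ C g V'.1 := by
      intro V V' h
      ext c
      exact res_ρ X h _
    have hτ : ∀ (V V' : X.affineOpens) (h : V'.1 ≤ V.1),
        X₀.presheaf.map (homOfLE (i.preimage_mono h)).op (τ V) = τ V' := by
      intro V V' h
      simp only [τ]
      rw [← app_res i h (t V)]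
      apply hb V'
      have h1 := Ideal.mem_map_of_mem (X.presheaf.map (homOfLE h).op).hom (ht V)
      rw [Ideal.map_map, hres V V' h] at h1
      convert h1 using 1
      rw [map_sub, map_mul]
      congr 1
      · exact (res_ρ X h s).symm
      · congr 1
        exact (RingHom.congr_fun (hres V V' h) e).symm
    obtain ⟨τ₀, hτ₀⟩ := exists_glue i τ hτ
    obtain ⟨lbar, hlbar⟩ := h0.2 τ₀
    obtain ⟨l, rfl⟩ := Ideal.Quotient.mk_surjective lbar
    have hs' : ∀ V : X.affineOpens, ρ X V.1 (s - gs C g (e * l)) ∈ J.map (φ C g V.1) := by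
      intro V
      have h1 : (i.app V.1) (t V - φ C g V.1 l) = 0 := by
        rw [map_sub, sub_eq_zero]
        show τ V = _
        rw [← hτ₀ V, ← hlbar, ← appTop_gs hsq l, ← app_ρ]
        rfl
      have h2 : t V - φ C g V.1 l ∈ m.map (φ C g V.1) := by
        rw [← (ker_π hsq V.2).1]; exact h1
      have h3 : φ C g V.1 e * (t V - φ C g V.1 l) ∈ J.map (φ C g V.1) := by
        have hle : Ideal.span {e} * m ≤ J := by
          rw [Ideal.mul_le]
          intro r hr a ha
          obtain ⟨c, rfl⟩ := Ideal.mem_span_singleton'.mp hr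
          have := Ideal.mul_mem_left J c (hme a ha)
          convert this using 1; ring
        apply Ideal.map_mono hle
        rw [Ideal.map_mul]
        exact Ideal.mul_mem_mul (Ideal.mem_map_of_mem _ (Ideal.subset_span rfl)) h2
      have : ρ X V.1 (s - gs C g (e * l)) =
          (ρ X V.1 s - φ C g V.1 e * t V) + φ C g V.1 e * (t V - φ C g V.1 l) := by
        simp only [map_sub, map_mul, φ, RingHom.comp_apply]; ring
      rw [this]; exact Ideal.add_mem _ (ht V) h3
    obtain ⟨c, hc, hsc⟩ := IH J hJI _ hs'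
    refine ⟨c + e * l, ?_, ?_⟩
    · rw [hIJ]
      exact Submodule.add_mem_sup hc (Ideal.mul_mem_right _ _ (Ideal.subset_span rfl))
    · rw [map_add, ← hsc]; ring

theorem bijective_gs (hsq : IsPullback i f₀ g
      (Spec.map (CommRingCat.ofHom (Ideal.Quotient.mk (IsLocalRing.maximalIdeal C)))))
    (h0 : Function.Bijective
      ((Scheme.ΓSpecIso (CommRingCat.of (C ⧸ IsLocalRing.maximalIdeal C))).inv ≫ f₀.appTop)) :
    Function.Bijective (gs C g) := by
  constructor
  · rw [injective_iff_map_eq_zero]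
    intro c hc
    by_contra hc0
    have h1 : ∀ V : X.affineOpens,
        (1 : Γ(X, V.1)) ∈ (IsLocalRing.maximalIdeal C).map (φ C g V.1) := by
      intro V
      apply mem_map_of_mul_mem_map (φ C g V.1) (flat_φ C g V.2) ⊥ _ c ?_ 1 ?_
      · intro a ha
        by_contra hna
        have hu : IsUnit a := by
          by_contra hnu
          exact hna ((IsLocalRing.mem_maximalIdeal a).mpr hnu)
        rw [Ideal.mem_bot] at ha
        exact hc0 (hu.mul_left_eq_zero.mp ha)
      · rw [mul_one, Ideal.map_bot, Ideal.mem_bot]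
        show ρ X V.1 (gs C g c) = 0
        rw [hc, map_zero]
    have hcover : (⊤ : X₀.Opens) ≤ ⨆ V : X.affineOpens, i ⁻¹ᵁ V.1 := by
      rw [← Scheme.Hom.preimage_iSup, AlgebraicGeometry.iSup_affineOpens_eq_top]
      exact le_rfl
    have h2 : (1 : Γ(X₀, ⊤)) = 0 := by
      refine X₀.sheaf.eq_of_locally_eq' (fun V : X.affineOpens => i ⁻¹ᵁ V.1) ⊤
        (fun V => homOfLE le_top) hcover 1 0 ?_
      intro V
      show ρ X₀ (i ⁻¹ᵁ V.1) 1 = ρ X₀ (i ⁻¹ᵁ V.1) 0
      rw [map_one, map_zero]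
      have := h1 V
      rw [← (ker_π hsq V.2).1, RingHom.mem_ker, map_one] at this
      exact this
    haveI : Nontrivial (C ⧸ IsLocalRing.maximalIdeal C) :=
      Ideal.Quotient.nontrivial_iff.mpr (IsLocalRing.maximalIdeal.isMaximal C).ne_top
    have h3 : (1 : C ⧸ IsLocalRing.maximalIdeal C) = 0 := by
      apply h0.1
      rw [map_one, map_zero]
      exact h2
    exact one_ne_zero h3
  · intro s
    obtain ⟨c, -, hc⟩ := mem_map_of_forall hsq h0 ⊤ s (fun V => by rw [Ideal.map_top]; trivial)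
    exact ⟨c, hc.symm⟩

end Scheme

end Groth.Agent.Lib.Helper22.ArtinFlatSec
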