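import Mathlib
import Groth.Agent.Lib.Helper22.Samuel7

/-!
# The Hilbert–Samuel polynomial and its degree
-/

set_option autoImplicit false
set_option linter.unusedSectionVars false

universe u

namespace Groth.Agent.Lib.Helper22.Samuel

open Groth.Agent.Lib.Helper22.HS Module PrimeSpectrum Order Polynomial

variable {A : Type u} [CommRing A] [IsNoetherianRing A] (I : Ideal A) [IsArtinianRing (A ⧸ I)]

/-- **Hilbert–Samuel polynomial**: existence, and its degree is the dimension of the support. -/
theorem exists_samuel_polynomial (hIJ : I ≤ Ring.jacobson A) (M : Type u) [AddCommGroup M]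
    [Module A M] [Module.Finite A M] [Nontrivial M] :
    ∃ (P : ℚ[X]) (N : ℕ), (∀ n, N ≤ n → (chi I M n : ℚ) = P.eval (n : ℚ)) ∧
      (P.natDegree : WithBot ℕ∞) = supportDim A M := by
  obtain ⟨E, hE⟩ := exists_evPoly_chi I M
  obtain ⟨P, N, hP⟩ := hE.exists_polynomial
  have hP0 : P ≠ 0 := by
    rintro rfl
    have h0 : EvPoly 0 (chi I M) := by
      rw [evPoly_zero_iff]
      refine ⟨N, fun n hn => ?_⟩
      have := hP n hn
      simp only [eval_zero] at this
      exact_mod_cast this
    haveI := subsingleton_of_evPoly_zero I hIJ M h0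
    exact not_subsingleton M inferInstance
  have hiff : ∀ e, EvPoly e (chi I M) ↔ P.natDegree < e := fun e =>
    evPoly_iff_natDegree_lt hP0 hP (chi_nonneg I M)
  refine ⟨P, N, hP, ?_⟩
  have hle : supportDim A M ≤ (P.natDegree : WithBot ℕ∞) :=
    supportDim_le_of_evPoly I hIJ _ M ((hiff _).2 (Nat.lt_succ_self _))
  refine le_antisymm ?_ hle
  rcases Nat.eq_zero_or_pos P.natDegree with h0 | hpos
  · rw [h0]
    have : Nonempty (Module.support A M) := nonempty_support_of_nontrivial.to_subtype
    exact krullDim_nonneg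
  · obtain ⟨D, hD⟩ := Nat.exists_eq_succ_of_ne_zero (Nat.pos_iff_ne_zero.1 hpos)
    by_contra hcon
    rw [not_le, hD, supportDim, krullDim_lt_coe_iff] at hcon
    have h1 : supportDim A M ≤ (D : WithBot ℕ∞) := by
      rw [supportDim, krullDim_le_coe_iff]
      intro l
      have := hcon l
      omega
    have h2 := evPoly_chi_of_supportDim_le I D M h1
    have := (hiff _).1 h2
    omega

/-- if the Samuel function is eventually polynomial of degree `≤ d`... (packaged upper bound) -/
theorem evPoly_chi_of_le (M : Type u) [AddCommGroup M]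
    [Module A M] [Module.Finite A M] {d : ℕ} (h : supportDim A M ≤ (d : WithBot ℕ∞)) :
    EvPoly (d + 1) (chi I M) :=
  evPoly_chi_of_supportDim_le I d M h

omit [IsArtinianRing (A ⧸ I)] in
/-- a quotient of a Noetherian ring in which every prime is maximal is Artinian. -/
lemma isArtinianRing_quotient_of_forall_isMaximal
    (h : ∀ p : Ideal A, p.IsPrime → I ≤ p → p.IsMaximal) : IsArtinianRing (A ⧸ I) := by
  haveI : Ring.KrullDimLE 0 (A ⧸ I) := by
    rw [Ring.krullDimLE_zero_iff]
    intro J hJ
    have hp : (J.comap (Ideal.Quotient.mk I)).IsPrime := hJ.comap _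
    have hle : I ≤ J.comap (Ideal.Quotient.mk I) := by
      intro a ha
      rw [Ideal.mem_comap, Ideal.Quotient.eq_zero_iff_mem.2 ha]
      exact J.zero_mem
    have hmax := h _ hp hle
    rcases Ideal.map_eq_top_or_isMaximal_of_surjective (Ideal.Quotient.mk I)
      Ideal.Quotient.mk_surjective hmax with h1 | h1
    · rw [Ideal.map_comap_of_surjective _ Ideal.Quotient.mk_surjective] at h1
      exact absurd h1 hJ.ne_top
    · rwa [Ideal.map_comap_of_surjective _ Ideal.Quotient.mk_surjective] at h1
  exact IsNoetherianRing.isArtinianRing_of_krullDimLE_zero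

/-- for a semi-local Noetherian ring, the quotient by the Jacobson radical is Artinian. -/
lemma isArtinianRing_quotient_jacobson [Finite (MaximalSpectrum A)] :
    IsArtinianRing (A ⧸ Ring.jacobson A) := by
  classical
  apply isArtinianRing_quotient_of_forall_isMaximal
  intro p hp hle
  haveI := Fintype.ofFinite (MaximalSpectrum A)
  have h1 : (Finset.univ : Finset (MaximalSpectrum A)).inf (fun m => m.asIdeal) ≤ p := by
    refine le_trans ?_ hle
    rw [← Ideal.jacobson_bot, Ideal.jacobson]
    refine le_sInf ?_
    rintro J ⟨_, hJ⟩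
    exact Finset.inf_le (f := fun m : MaximalSpectrum A => m.asIdeal)
      (Finset.mem_univ (⟨J, hJ⟩ : MaximalSpectrum A))
  obtain ⟨m, _, hm⟩ := (Ideal.IsPrime.inf_le' hp).1 h1
  have := m.isMaximal.eq_of_le hp.ne_top hm
  rw [← this]
  exact m.isMaximal

end Groth.Agent.Lib.Helper22.Samuel
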