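import Mathlib
import Groth.Agent.Lib.Helper22.Samuel8

/-!
# Normal flatness: the graded pieces `I^j M / I^(j+1) M`
-/

set_option autoImplicit false
set_option linter.unusedSectionVars false

universe u

namespace Groth.Agent.Lib.Helper22.NormFlat

open Groth.Agent.Lib.Helper22.Samuel

variable {A : Type u} [CommRing A] (I : Ideal A) (M : Type u) [AddCommGroup M] [Module A M]

/-- the prelude's graded piece `I^j M / I (I^j M)`. -/
abbrev Piece (j : ℕ) : Type u :=
  ↥(I ^ j • (⊤ : Submodule A M)) ⧸ (I • (⊤ : Submodule A ↥(I ^ j • (⊤ : Submodule A M))))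

lemma pow_succ_smul_le (j : ℕ) :
    I ^ (j + 1) • (⊤ : Submodule A M) ≤ I ^ j • (⊤ : Submodule A M) :=
  Submodule.smul_mono_left (Ideal.pow_le_pow_right (Nat.le_succ j))

/-- the map `I^j M → M / I^(j+1) M`. -/
noncomputable def toQuot (j : ℕ) :
    ↥(I ^ j • (⊤ : Submodule A M)) →ₗ[A] (M ⧸ (I ^ (j + 1) • (⊤ : Submodule A M))) :=
  (I ^ (j + 1) • (⊤ : Submodule A M)).mkQ ∘ₗ (I ^ j • (⊤ : Submodule A M)).subtype

lemma range_toQuot (j : ℕ) : LinearMap.range (toQuot I M j) = D I (M := M) j := by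
  unfold toQuot D
  rw [LinearMap.range_comp, Submodule.range_subtype]

lemma ker_toQuot (j : ℕ) :
    LinearMap.ker (toQuot I M j) = I • (⊤ : Submodule A ↥(I ^ j • (⊤ : Submodule A M))) := by
  have h1 : (I • (⊤ : Submodule A ↥(I ^ j • (⊤ : Submodule A M)))).map
      (I ^ j • (⊤ : Submodule A M)).subtype = I ^ (j + 1) • (⊤ : Submodule A M) := by
    rw [Submodule.map_smul'', Submodule.map_top, Submodule.range_subtype, ← mul_smul,
      ← pow_succ']
  ext x
  rw [LinearMap.mem_ker]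
  unfold toQuot
  rw [LinearMap.comp_apply, Submodule.mkQ_apply, Submodule.Quotient.mk_eq_zero, ← h1]
  constructor
  · rintro ⟨y, hy, hyx⟩
    have : y = x := Subtype.ext hyx
    rwa [← this]
  · intro hx
    exact ⟨x, hx, rfl⟩

/-- the prelude's piece is the piece `D` of the Samuel library. -/
noncomputable def pieceEquivD (j : ℕ) : Piece I M j ≃ₗ[A] ↥(D I (M := M) j) :=
  (Submodule.quotEquivOfEq _ _ (ker_toQuot I M j).symm) ≪≫ₗ
    (toQuot I M j).quotKerEquivRange ≪≫ₗ LinearEquiv.ofEq _ _ (range_toQuot I M j)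

lemma exact_D (j : ℕ) :
    Function.Exact (D I (M := M) j).subtype (Submodule.factor (pow_succ_smul_le I M j)) := by
  intro q
  constructor
  · intro hq
    obtain ⟨y, rfl⟩ := Submodule.mkQ_surjective _ q
    rw [Submodule.factor_mk, Submodule.mkQ_apply, Submodule.Quotient.mk_eq_zero] at hq
    exact ⟨⟨_, ⟨y, hq, rfl⟩⟩, rfl⟩
  · rintro ⟨⟨_, ⟨y, hy, rfl⟩⟩, rfl⟩
    change Submodule.factor (pow_succ_smul_le I M j)
      ((I ^ (j + 1) • (⊤ : Submodule A M)).mkQ y) = 0
    rw [Submodule.factor_mk, Submodule.mkQ_apply, Submodule.Quotient.mk_eq_zero]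
    exact hy

/-- `(M / I^(j+1) M) / D_j ≅ M / I^j M`. -/
noncomputable def quotDEquiv (j : ℕ) :
    ((M ⧸ (I ^ (j + 1) • (⊤ : Submodule A M))) ⧸ D I (M := M) j) ≃ₗ[A]
      (M ⧸ (I ^ j • (⊤ : Submodule A M))) :=
  (Submodule.quotEquivOfEq _ _ (by
    rw [(exact_D I M j).linearMap_ker_eq, Submodule.range_subtype])) ≪≫ₗ
    (Submodule.factor (pow_succ_smul_le I M j)).quotKerEquivOfSurjective
      (Submodule.factor_surjective _)

end Groth.Agent.Lib.Helper22.NormFlat
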