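import Mathlib
import Groth.Agent.Lib.Helper22.Samuel8

/-!
# Limits of Samuel functions; additivity of multiplicities
-/

set_option autoImplicit false
set_option linter.unusedSectionVars false

universe u

namespace Groth.Agent.Lib.Helper22.Samuel

open Groth.Agent.Lib.Helper22.HS Module Filter Topology

/-- an eventually polynomial sequence of degree `< d` is `o(n^d)`. -/
theorem tendsto_div_pow_of_evPoly {d : ℕ} {g : ℕ → ℤ} (hg : EvPoly d g) :
    Tendsto (fun n : ℕ => (g n : ℝ) / (n : ℝ) ^ d) atTop (𝓝 0) := by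
  obtain ⟨a, N, h⟩ := hg.exists_choose
  have h1 : ∀ k : Fin d, Tendsto (fun n : ℕ => ((n.choose (k : ℕ) : ℕ) : ℝ) * (a k : ℝ) /
      (n : ℝ) ^ d) atTop (𝓝 0) := by
    intro k
    have h2 : Tendsto (fun n : ℕ => ((n.choose (k : ℕ) : ℕ) : ℝ) / (n : ℝ) ^ d) atTop (𝓝 0) := by
      refine tendsto_of_tendsto_of_tendsto_of_le_of_le' tendsto_const_nhds
        (tendsto_one_div_atTop_nhds_zero_nat (𝕜 := ℝ)) ?_ ?_
      · exact Eventually.of_forall fun n => by positivity
      · filter_upwards [eventually_ge_atTop 1] with n hn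
        have hn' : (1 : ℝ) ≤ (n : ℝ) := by exact_mod_cast hn
        have hnpos : (0 : ℝ) < (n : ℝ) := by linarith
        have hc : ((n.choose (k : ℕ) : ℕ) : ℝ) ≤ (n : ℝ) ^ (k : ℕ) := by
          exact_mod_cast Nat.choose_le_pow n k
        have hk : (k : ℕ) + 1 ≤ d := k.2
        have hpow : (n : ℝ) ^ ((k : ℕ) + 1) ≤ (n : ℝ) ^ d := pow_le_pow_right₀ hn' hk
        rw [div_le_div_iff₀ (by positivity) hnpos]
        calc ((n.choose (k : ℕ) : ℕ) : ℝ) * (n : ℝ) ≤ (n : ℝ) ^ (k : ℕ) * (n : ℝ) :=
              mul_le_mul_of_nonneg_right hc hnpos.le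
          _ = (n : ℝ) ^ ((k : ℕ) + 1) := by ring
          _ ≤ (n : ℝ) ^ d := hpow
          _ = 1 * (n : ℝ) ^ d := by ring
    have h3 := h2.mul_const (a k : ℝ)
    simp only [zero_mul] at h3
    refine h3.congr (fun n => ?_)
    ring
  have h4 := tendsto_finset_sum (Finset.univ : Finset (Fin d)) (fun k _ => h1 k)
  simp only [Finset.sum_const_zero] at h4
  refine h4.congr' ?_
  filter_upwards [eventually_ge_atTop N] with n hn
  rw [h n hn, ← Finset.sum_div]
  congr 1
  push_cast
  refine Finset.sum_congr rfl fun k _ => ?_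
  simp [nsmul_eq_mul]

section localring

variable {A : Type u} [CommRing A] [IsNoetherianRing A] [IsLocalRing A] (I : Ideal A)

lemma isArtinianRing_quotient_of_local
    (hI : I ≤ IsLocalRing.maximalIdeal A ∧ ∃ n : ℕ, IsLocalRing.maximalIdeal A ^ n ≤ I) :
    IsArtinianRing (A ⧸ I) := by
  apply isArtinianRing_quotient_of_forall_isMaximal
  intro p hp hle
  obtain ⟨n, hn⟩ := hI.2
  have h1 : IsLocalRing.maximalIdeal A ≤ p := hp.le_of_pow_le (hn.trans hle)
  have := (IsLocalRing.maximalIdeal.isMaximal A).eq_of_le hp.ne_top h1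
  rw [← this]
  exact IsLocalRing.maximalIdeal.isMaximal A

lemma le_jacobson_of_local (hI : I ≤ IsLocalRing.maximalIdeal A) : I ≤ Ring.jacobson A := by
  rwa [IsLocalRing.ringJacobson_eq_maximalIdeal]

end localring

section additive

variable {A : Type u} [CommRing A] [IsNoetherianRing A] (I : Ideal A) [IsArtinianRing (A ⧸ I)]
  {M' M M'' : Type u} [AddCommGroup M'] [Module A M'] [AddCommGroup M] [Module A M]
  [AddCommGroup M''] [Module A M''] [Module.Finite A M'] [Module.Finite A M] [Module.Finite A M'']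

/-- the defect of additivity of Samuel functions on a short exact sequence. -/
theorem exists_chi_defect (f : M' →ₗ[A] M) (g : M →ₗ[A] M'') (hf : Function.Injective f)
    (hg : Function.Surjective g) (hfg : LinearMap.range f = LinearMap.ker g) :
    ∃ k : ℕ, ∀ n, k ≤ n → 0 ≤ chi I M' n + chi I M'' n - chi I M n ∧
      chi I M' n + chi I M'' n - chi I M n ≤ chi I M' n - chi I M' (n - k) := by
  obtain ⟨k, hk⟩ := exists_chi_sub I (LinearMap.range f)
  refine ⟨k, fun n hn => ?_⟩
  have e1 : M' ≃ₗ[A] ↥(LinearMap.range f) := LinearEquiv.ofInjective f hf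
  have e2 : (M ⧸ LinearMap.range f) ≃ₗ[A] M'' :=
    (Submodule.quotEquivOfEq _ _ hfg).trans (g.quotKerEquivOfSurjective hg)
  have h1 := hk n hn
  have h2 := chi_le_add I (LinearMap.range f) n
  rw [← chi_congr I e1 n, chi_congr I e2 n] at h2
  rw [← chi_congr I e1 (n - k), chi_congr I e2 n] at h1
  constructor <;> linarith

end additive

end Groth.Agent.Lib.Helper22.Samuel
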