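import Mathlib
import Groth.Agent.Lib.Helper22.Samuel9

/-!
# Reductions of ideals: an ideal integral over a subideal has the same multiplicity
-/

set_option autoImplicit false
set_option linter.unusedSectionVars false

universe u

namespace Groth.Agent.Lib.Helper22.Samuel

open Groth.Agent.Lib.Helper22.HS Groth.Agent.Lib.Helper22.GrFree Module Filter Topology

attribute [local instance] MvPolynomial.gradedAlgebra

variable {A : Type u} [CommRing A]

lemma pow_mem_of_integral {a b : Ideal A} (hba : b ≤ a) {x : A} (hx : x ∈ a) {n : ℕ}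
    (hn : 0 < n) (c : Fin n → A) (hc : ∀ i : Fin n, c i ∈ b ^ ((i : ℕ) + 1))
    (heq : x ^ n + ∑ i : Fin n, c i * x ^ (n - 1 - (i : ℕ)) = 0) :
    x ^ n ∈ b * a ^ (n - 1) := by
  have h1 : x ^ n = - ∑ i : Fin n, c i * x ^ (n - 1 - (i : ℕ)) := eq_neg_of_add_eq_zero_left heq
  rw [h1]
  refine Ideal.neg_mem_iff _ |>.2 (Ideal.sum_mem _ fun i _ => ?_)
  have h2 : c i ∈ b * a ^ (i : ℕ) := by
    have := hc i
    rw [pow_succ'] at this
    exact Ideal.mul_mono_right (Ideal.pow_right_mono hba _) this
  have h3 : x ^ (n - 1 - (i : ℕ)) ∈ a ^ (n - 1 - (i : ℕ)) := Ideal.pow_mem_pow hx _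
  have h4 := Ideal.mul_mem_mul h2 h3
  rw [mul_assoc, ← pow_add] at h4
  have : (i : ℕ) + (n - 1 - (i : ℕ)) = n - 1 := by have := i.2; omega
  rwa [this] at h4

/-- monomials of large degree in integral generators lie in `b a^(R-1)`. -/
lemma monomial_mem {a b : Ideal A} {s : ℕ} (x : Fin s → A) (hxa : ∀ j, x j ∈ a)
    (n : Fin s → ℕ) (hn : ∀ j, 0 < n j) (hx : ∀ j, x j ^ n j ∈ b * a ^ (n j - 1))
    (e : Fin s →₀ ℕ) (he : ∑ j, n j < e.degree) :
    MvPolynomial.aeval x (MvPolynomial.monomial e (1 : A)) ∈ b * a ^ (e.degree - 1) := by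
  classical
  -- pigeonhole
  have hex : ∃ j, n j ≤ e j := by
    by_contra hcon
    push Not at hcon
    have : e.degree ≤ ∑ j, n j := by
      rw [Finsupp.degree_eq_sum]
      exact Finset.sum_le_sum fun j _ => (hcon j).le
    omega
  obtain ⟨j, hj⟩ := hex
  set e' : Fin s →₀ ℕ := e - Finsupp.single j (n j) with he'
  have hsum : e = Finsupp.single j (n j) + e' := by
    ext i
    by_cases hi : i = j
    · subst hi
      simp [he']
      omega
    · simp [he', Finsupp.single_apply, Ne.symm hi]
  have hdeg : e.degree = n j + e'.degree := by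
    conv_lhs => rw [hsum]
    rw [map_add, Finsupp.degree_single]
  have hmon : (MvPolynomial.monomial e (1 : A)) =
      MvPolynomial.X j ^ n j * MvPolynomial.monomial e' (1 : A) := by
    rw [MvPolynomial.X_pow_eq_monomial, MvPolynomial.monomial_mul, one_mul, ← hsum]
  rw [hmon, map_mul, map_pow, MvPolynomial.aeval_X]
  have h1 : MvPolynomial.aeval x (MvPolynomial.monomial e' (1 : A)) ∈ a ^ e'.degree := by
    apply aeval_mem_pow a x hxa
    rw [MvPolynomial.mem_homogeneousSubmodule]
    have := MvPolynomial.isHomogeneous_monomial (R := A) (d := e') (1 : A) (n := e'.degree)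
      (by rw [Finsupp.degree_eq_weight_one])
    exact this
  have h2 := Ideal.mul_mem_mul (hx j) h1
  rw [mul_assoc, ← pow_add] at h2
  have : n j - 1 + e'.degree = e.degree - 1 := by have := hn j; omega
  rwa [this] at h2

/-- **reduction**: if the finitely generated ideal `a` is integral over `b ≤ a`, then
`a^(m+r) ≤ b^m` for some `r` and all `m`. -/
theorem exists_reduction [IsNoetherianRing A] (a b : Ideal A) (hba : b ≤ a)
    (hint : ∀ x ∈ a, ∃ n : ℕ, 0 < n ∧ ∃ c : Fin n → A,
      (∀ i : Fin n, c i ∈ b ^ ((i : ℕ) + 1)) ∧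
        x ^ n + ∑ i : Fin n, c i * x ^ (n - 1 - (i : ℕ)) = 0) :
    ∃ r : ℕ, ∀ m, a ^ (m + r) ≤ b ^ m := by
  classical
  obtain ⟨s, x, hx⟩ := Submodule.fg_iff_exists_fin_generating_family.1 (IsNoetherian.noetherian a)
  have hxa : ∀ j, x j ∈ a := fun j => by
    rw [← hx]
    exact Submodule.subset_span ⟨j, rfl⟩
  choose n hn c hc heq using fun j => hint (x j) (hxa j)
  have hxn : ∀ j, x j ^ n j ∈ b * a ^ (n j - 1) := fun j =>
    pow_mem_of_integral hba (hxa j) (hn j) (c j) (hc j) (heq j)
  set R := ∑ j, n j + 1 with hR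
  -- key inclusion
  have hkey : ∀ k, a ^ (R + k) ≤ b * a ^ (R + k - 1) := by
    intro k y hy
    have hy' : y ∈ a ^ (R + k) • (⊤ : Submodule A A) := by simpa using hy
    obtain ⟨v, hv, hvy⟩ := exists_E_eq a x (fun _ : Fin 1 => (1 : A)) hx.symm
      (by
        rw [eq_top_iff]
        intro z _
        have : z = z • (1 : A) := by simp
        rw [this]
        exact Submodule.smul_mem _ _ (Submodule.subset_span ⟨0, rfl⟩)) (R + k) y hy'
    rw [E_apply] at hvy
    simp only [Finset.univ_unique, Fin.default_eq_zero, smul_eq_mul, mul_one,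
      Finset.sum_singleton] at hvy
    rw [← hvy]
    have hhom := (mem_piGr _ 1).1 hv 0
    rw [MvPolynomial.mem_homogeneousSubmodule] at hhom
    rw [(v 0).as_sum, map_sum]
    refine Ideal.sum_mem _ fun e he => ?_
    have hdeg : e.degree = R + k := by
      have := hhom (MvPolynomial.mem_support_iff.1 he)
      rwa [Finsupp.degree_eq_weight_one]
    have h1 : MvPolynomial.monomial e (MvPolynomial.coeff e (v 0)) =
        MvPolynomial.C (MvPolynomial.coeff e (v 0)) * MvPolynomial.monomial e (1 : A) := by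
      rw [MvPolynomial.C_mul_monomial, mul_one]
    rw [h1, map_mul]
    apply Ideal.mul_mem_left
    have := monomial_mem (a := a) (b := b) x hxa n hn hxn e (by omega)
    rwa [hdeg] at this
  refine ⟨R - 1, fun m => ?_⟩
  induction m with
  | zero => simp
  | succ m ih =>
    have h1 : m + 1 + (R - 1) = R + m := by omega
    rw [h1]
    refine (hkey m).trans ?_
    have h2 : R + m - 1 = m + (R - 1) := by omega
    rw [h2, pow_succ']
    exact Ideal.mul_mono_right ih

end Groth.Agent.Lib.Helper22.Samuel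

namespace Groth.Agent.Lib.Helper22.Samuel

open Groth.Agent.Lib.Helper22.HS Module

variable {A : Type u} [CommRing A] [IsNoetherianRing A]

lemma length_quot_pow_eq (I : Ideal A) [IsArtinianRing (A ⧸ I)] (n : ℕ) :
    Module.length A (A ⧸ I ^ n) = ((chi I A n).toNat : ℕ∞) := by
  rw [← length_eq_chi I A n]
  have h : I ^ n • (⊤ : Submodule A A) = I ^ n := by simp
  exact (Submodule.quotEquivOfEq _ _ h).length_eq.symm

lemma toNat_length_quot_pow (I : Ideal A) [IsArtinianRing (A ⧸ I)] (n : ℕ) :
    ((Module.length A (A ⧸ I ^ n)).toNat : ℤ) = chi I A n := by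
  rw [length_quot_pow_eq]
  simp only [ENat.toNat_coe]
  exact Int.toNat_of_nonneg (chi_nonneg I A n)

/-- comparison of Samuel functions of two ideals. -/
lemma chi_le_chi_of_pow_le (I J : Ideal A) [IsArtinianRing (A ⧸ I)] [IsArtinianRing (A ⧸ J)]
    {n n' : ℕ} (h : J ^ n' ≤ I ^ n) : chi I A n ≤ chi J A n' := by
  have h1 : Module.length A (A ⧸ I ^ n) ≤ Module.length A (A ⧸ J ^ n') :=
    Module.length_le_of_surjective (Submodule.factor h) (Submodule.factor_surjective h)
  rw [length_quot_pow_eq, length_quot_pow_eq] at h1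
  have h2 : (chi I A n).toNat ≤ (chi J A n').toNat := by exact_mod_cast h1
  have h3 := chi_nonneg I A n
  have h4 := chi_nonneg J A n'
  omega

end Groth.Agent.Lib.Helper22.Samuel
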