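import Mathlib
import Groth.Agent.Lib.Helper22.Samuel10

/-!
# Lengths of localizations at top-dimensional primes
-/

set_option autoImplicit false
set_option linter.unusedSectionVars false

universe u

namespace Groth.Agent.Lib.Helper22.Samuel

open Groth.Agent.Lib.Helper22.HS Module PrimeSpectrum Order

variable {A : Type u} [CommRing A] [IsNoetherianRing A]

/-- the length of the localization of `X` at `p`, as a real number. -/
noncomputable def lenLoc (p : PrimeSpectrum A) (X : Type u) [AddCommGroup X] [Module A X] : ℝ :=
  ((Module.length (Localization.AtPrime p.asIdeal)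
    (LocalizedModule p.asIdeal.primeCompl X)).toNat : ℝ)

section dim

variable {X : Type u} [AddCommGroup X] [Module A X] [Module.Finite A X]

/-- no prime of the support lies strictly below a prime `p` with `dim A/p = d ≥ dim X`. -/
lemma not_lt_of_dim {d : ℕ} (hX : supportDim A X ≤ (d : WithBot ℕ∞)) (p : PrimeSpectrum A)
    (hp : ringKrullDim (A ⧸ p.asIdeal) = d) (q : Ideal A) [hq : q.IsPrime]
    (hqX : annihilator A X ≤ q) (hlt : q < p.asIdeal) : False := by
  rw [ringKrullDim_quotient] at hp
  obtain ⟨l, hl⟩ := (le_krullDim_iff (α := ↥(zeroLocus (p.asIdeal : Set A))) (n := d)).1 hp.ge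
  have hmem : ∀ z : ↥(zeroLocus (p.asIdeal : Set A)), z.1 ∈ support A X := by
    intro z
    rw [Module.support_eq_zeroLocus, mem_zeroLocus]
    have hz : (p.asIdeal : Set A) ⊆ z.1.asIdeal := (mem_zeroLocus _ _).1 z.2
    exact fun a ha => hz (hlt.le (hqX ha))
  let l' : LTSeries (support A X) :=
    l.map (fun z => ⟨z.1, hmem z⟩) (fun _ _ h => h)
  let q' : support A X := ⟨⟨q, hq⟩, by
    rw [Module.support_eq_zeroLocus, mem_zeroLocus]
    exact hqX⟩
  have hq'lt : q' < l'.head := by
    have hz : (p.asIdeal : Set A) ⊆ l.head.1.asIdeal := (mem_zeroLocus _ _).1 l.head.2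
    have h1 : q < l.head.1.asIdeal := lt_of_lt_of_le hlt hz
    have h2 : l'.head = ⟨l.head.1, hmem l.head⟩ := by simp [l']
    rw [h2]
    exact h1
  have h3 := LTSeries.length_le_krullDim (l'.cons q' hq'lt)
  have h4 : ((l'.cons q' hq'lt).length : WithBot ℕ∞) ≤ (d : WithBot ℕ∞) := h3.trans hX
  simp only [RelSeries.cons_length, l', LTSeries.map_length, hl] at h4
  have : d + 1 ≤ d := by exact_mod_cast h4
  omega

/-- the localization of `X` at a top-dimensional prime has finite length. -/
theorem isFiniteLength_localized {d : ℕ} (hX : supportDim A X ≤ (d : WithBot ℕ∞))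
    (p : PrimeSpectrum A) (hp : ringKrullDim (A ⧸ p.asIdeal) = d) :
    IsFiniteLength (Localization.AtPrime p.asIdeal) (LocalizedModule p.asIdeal.primeCompl X) := by
  set Ap := Localization.AtPrime p.asIdeal with hAp
  set J : Ideal Ap := Ideal.map (algebraMap A Ap) (annihilator A X) with hJ
  haveI : IsArtinianRing (Ap ⧸ J) := by
    apply isArtinianRing_quotient_of_forall_isMaximal
    intro P hP hle
    set q := P.comap (algebraMap A Ap) with hq
    haveI hqp : q.IsPrime := hP.comap _
    have hqX : annihilator A X ≤ q := Ideal.map_le_iff_le_comap.1 hle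
    have hqle : q ≤ p.asIdeal := by
      have h1 : P ≤ IsLocalRing.maximalIdeal Ap := IsLocalRing.le_maximalIdeal hP.ne_top
      have h2 := Ideal.comap_mono (f := algebraMap A Ap) h1
      rwa [show Ideal.comap (algebraMap A Ap) (IsLocalRing.maximalIdeal Ap) = p.asIdeal from
        Localization.AtPrime.under_maximalIdeal] at h2
    have hqeq : q = p.asIdeal := by
      by_contra hne
      exact not_lt_of_dim hX p hp q hqX (lt_of_le_of_ne hqle hne)
    have hP' : P = IsLocalRing.maximalIdeal Ap := by
      have h5 : Ideal.map (algebraMap A Ap) q = P :=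
        IsLocalization.map_under p.asIdeal.primeCompl Ap P
      rw [← h5, hqeq]
      exact Localization.AtPrime.map_eq_maximalIdeal
    rw [hP']
    exact IsLocalRing.maximalIdeal.isMaximal Ap
  refine isFiniteLength_of_torsion J _ ?_
  have hJle : J ≤ annihilator Ap (LocalizedModule p.asIdeal.primeCompl X) := by
    rw [hJ, Ideal.map_le_iff_le_comap]
    intro j hj
    rw [Ideal.mem_comap, Module.mem_annihilator]
    intro y
    induction y using LocalizedModule.induction_on with
    | h x s =>
      rw [algebraMap_smul, LocalizedModule.smul'_mk, Module.mem_annihilator.1 hj x,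
        LocalizedModule.zero_mk]
  exact fun a ha y => Module.mem_annihilator.1 (hJle ha) y

end dim

section basic

lemma lenLoc_eq_zero_of_subsingleton (p : PrimeSpectrum A) (X : Type u) [AddCommGroup X]
    [Module A X] [Subsingleton X] : lenLoc p X = 0 := by
  simp only [lenLoc]
  rw [Module.length_eq_zero]
  simp

lemma lenLoc_congr (p : PrimeSpectrum A) {X Y : Type u} [AddCommGroup X] [Module A X]
    [AddCommGroup Y] [Module A Y] (e : X ≃ₗ[A] Y) : lenLoc p X = lenLoc p Y := by
  simp only [lenLoc]
  have e' := IsLocalizedModule.mapEquiv p.asIdeal.primeCompl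
    (LocalizedModule.mkLinearMap p.asIdeal.primeCompl X)
    (LocalizedModule.mkLinearMap p.asIdeal.primeCompl Y) (Localization.AtPrime p.asIdeal) e
  rw [e'.length_eq]

/-- additivity on short exact sequences, given finiteness. -/
lemma lenLoc_add (p : PrimeSpectrum A) {X Y Z : Type u} [AddCommGroup X] [Module A X]
    [AddCommGroup Y] [Module A Y] [AddCommGroup Z] [Module A Z]
    (f : X →ₗ[A] Y) (g : Y →ₗ[A] Z) (hf : Function.Injective f) (hg : Function.Surjective g)
    (hfg : Function.Exact f g)
    (hfin : IsFiniteLength (Localization.AtPrime p.asIdeal)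
      (LocalizedModule p.asIdeal.primeCompl Y)) :
    lenLoc p Y = lenLoc p X + lenLoc p Z := by
  simp only [lenLoc]
  set S := p.asIdeal.primeCompl
  have hex : Function.Exact (LocalizedModule.map S f) (LocalizedModule.map S g) := by
    have := LocalizedModule.map_exact S f g hfg
    intro y
    exact this y
  have h1 := Module.length_eq_add_of_exact (LocalizedModule.map S f) (LocalizedModule.map S g)
    (LocalizedModule.map_injective S f hf) (LocalizedModule.map_surjective S g hg) hex
  have hY := Module.length_ne_top_iff.2 hfin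
  have hX : Module.length (Localization.AtPrime p.asIdeal) (LocalizedModule S X) ≠ ⊤ := by
    intro h
    rw [h, top_add] at h1
    exact hY h1
  have hZ : Module.length (Localization.AtPrime p.asIdeal) (LocalizedModule S Z) ≠ ⊤ := by
    intro h
    rw [h, add_top] at h1
    exact hY h1
  rw [h1, ENat.toNat_add hX hZ]
  push_cast
  rfl

end basic

end Groth.Agent.Lib.Helper22.Samuel
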