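import Mathlib
import Groth.Agent.Lib.Helper22.Samuel11

/-!
# Lengths of localizations of `A / q`
-/

set_option autoImplicit false
set_option linter.unusedSectionVars false

universe u

namespace Groth.Agent.Lib.Helper22.Samuel

open Groth.Agent.Lib.Helper22.HS Module PrimeSpectrum Order

variable {A : Type u} [CommRing A] [IsNoetherianRing A]

lemma lenLoc_quotient_of_not_le (p : PrimeSpectrum A) (q : Ideal A) (h : ¬ q ≤ p.asIdeal) :
    lenLoc p (A ⧸ q) = 0 := by
  obtain ⟨s, hsq, hsp⟩ := SetLike.not_le_iff_exists.1 h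
  haveI : Subsingleton (LocalizedModule p.asIdeal.primeCompl (A ⧸ q)) := by
    rw [LocalizedModule.subsingleton_iff]
    intro m
    refine ⟨s, hsp, ?_⟩
    rw [Algebra.smul_def, Ideal.Quotient.algebraMap_eq, Ideal.Quotient.eq_zero_iff_mem.2 hsq,
      zero_mul]
  simp only [lenLoc]
  rw [Module.length_eq_zero]
  simp

lemma lenLoc_quotient_self (p : PrimeSpectrum A) : lenLoc p (A ⧸ p.asIdeal) = 1 := by
  set S := p.asIdeal.primeCompl with hS
  set Ap := Localization.AtPrime p.asIdeal with hAp
  set Xp := LocalizedModule S (A ⧸ p.asIdeal) with hXp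
  set g : Xp := LocalizedModule.mk (1 : A ⧸ p.asIdeal) (1 : S) with hg
  set φ : Ap →ₗ[Ap] Xp := LinearMap.toSpanSingleton Ap Xp g with hφ
  have hmk : ∀ (a : A) (s : S), φ (IsLocalization.mk' Ap a s) =
      LocalizedModule.mk (Ideal.Quotient.mk p.asIdeal a) s := by
    intro a s
    rw [hφ, LinearMap.toSpanSingleton_apply, hg, IsLocalizedModule.mk_eq_mk',
      IsLocalizedModule.mk_eq_mk', IsLocalizedModule.mk'_smul_mk', mul_one]
    congr 1
    rw [Algebra.smul_def, mul_one]
    rfl
  have hsurj : Function.Surjective φ := by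
    intro y
    induction y using LocalizedModule.induction_on with
    | h x s =>
      obtain ⟨a, rfl⟩ := Ideal.Quotient.mk_surjective x
      exact ⟨IsLocalization.mk' Ap a s, hmk a s⟩
  have hker : LinearMap.ker φ = IsLocalRing.maximalIdeal Ap := by
    have hle : IsLocalRing.maximalIdeal Ap ≤ LinearMap.ker φ := by
      intro z hz
      obtain ⟨a, s, rfl⟩ := IsLocalization.exists_mk'_eq S z
      rw [IsLocalization.AtPrime.mk'_mem_maximal_iff Ap p.asIdeal] at hz
      rw [LinearMap.mem_ker, hmk, Ideal.Quotient.eq_zero_iff_mem.2 hz, LocalizedModule.zero_mk]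
    have hne : LinearMap.ker φ ≠ ⊤ := by
      intro htop
      have h1 : (1 : Ap) ∈ LinearMap.ker φ := by rw [htop]; trivial
      rw [LinearMap.mem_ker, hφ, LinearMap.toSpanSingleton_apply, one_smul, hg,
        ← LocalizedModule.zero_mk (1 : S), LocalizedModule.mk_eq] at h1
      obtain ⟨u, hu⟩ := h1
      simp only [one_smul, smul_zero] at hu
      have h2 : (u : A) ∈ p.asIdeal := by
        rw [← Ideal.Quotient.eq_zero_iff_mem]
        have : (u : A) • (1 : A ⧸ p.asIdeal) = 0 := hu
        rwa [Algebra.smul_def, mul_one] at this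
      exact u.2 h2
    exact ((IsLocalRing.maximalIdeal.isMaximal Ap).eq_of_le hne hle).symm
  have e : (Ap ⧸ LinearMap.ker φ) ≃ₗ[Ap] Xp := φ.quotKerEquivOfSurjective hsurj
  have : IsSimpleModule Ap (Ap ⧸ LinearMap.ker φ) := by
    rw [isSimpleModule_iff_isCoatom, hker]
    exact Ideal.isMaximal_def.1 (IsLocalRing.maximalIdeal.isMaximal Ap)
  simp only [lenLoc]
  rw [← e.length_eq, Module.length_eq_one_iff.2 inferInstance]
  simp

end Groth.Agent.Lib.Helper22.Samuel
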