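import Mathlib
import Groth.Agent.Lib.Helper22.Samuel12

/-!
# The multiplicity formula `e_I(M,d) = ∑_{dim A/p = d} ℓ(M_p) e_I(A/p,d)`
-/

set_option autoImplicit false
set_option linter.unusedSectionVars false

universe u

namespace Groth.Agent.Lib.Helper22.Samuel

open Groth.Agent.Lib.Helper22.HS Module PrimeSpectrum Order Filter Topology

variable {A : Type u} [CommRing A] [IsNoetherianRing A]

section prelim

lemma lenLoc_nonneg (p : PrimeSpectrum A) (X : Type u) [AddCommGroup X] [Module A X] :
    0 ≤ lenLoc p X := by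
  simp only [lenLoc]
  positivity

lemma lenLoc_eq_zero_of_not_le (p : PrimeSpectrum A) (X : Type u) [AddCommGroup X] [Module A X]
    (h : ¬ annihilator A X ≤ p.asIdeal) : lenLoc p X = 0 := by
  obtain ⟨s, hsq, hsp⟩ := SetLike.not_le_iff_exists.1 h
  haveI : Subsingleton (LocalizedModule p.asIdeal.primeCompl X) := by
    rw [LocalizedModule.subsingleton_iff]
    intro m
    exact ⟨s, hsp, Module.mem_annihilator.1 hsq m⟩
  simp only [lenLoc]
  rw [Module.length_eq_zero]
  simp

/-- the top-dimensional primes where `X` has nonzero length are minimal over the annihilator. -/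
lemma finite_support_lenLoc {d : ℕ} (X : Type u) [AddCommGroup X] [Module A X] [Module.Finite A X]
    (hX : supportDim A X ≤ (d : WithBot ℕ∞)) :
    {p : PrimeSpectrum A | ringKrullDim (A ⧸ p.asIdeal) = d ∧ lenLoc p X ≠ 0}.Finite := by
  have hfin := Ideal.finite_minimalPrimes_of_isNoetherianRing A (annihilator A X)
  refine (hfin.preimage (f := PrimeSpectrum.asIdeal) ?_).subset ?_
  · intro p _ q _ hpq
    exact PrimeSpectrum.ext hpq
  · rintro p ⟨hp, hne⟩
    have hle : annihilator A X ≤ p.asIdeal := by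
      by_contra hnle
      exact hne (lenLoc_eq_zero_of_not_le p X hnle)
    show p.asIdeal ∈ (annihilator A X).minimalPrimes
    refine ⟨⟨p.2, hle⟩, fun q hq hqp => ?_⟩
    by_contra hnot
    haveI := hq.1
    exact not_lt_of_dim hX p hp q hq.2 (lt_of_le_of_ne hqp (fun h => hnot h.ge))

end prelim

section main

variable (I : Ideal A) [IsArtinianRing (A ⧸ I)]

/-- the normalized Samuel function `d! χ(t) / t^d`. -/
noncomputable def nchi (d : ℕ) (N : Type u) [AddCommGroup N] [Module A N] (t : ℕ) : ℝ :=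
  (d.factorial : ℝ) * (chi I N t : ℝ) / (t : ℝ) ^ d

lemma chi_of_subsingleton (N : Type u) [AddCommGroup N] [Module A N] [Subsingleton N] (n : ℕ) :
    chi I N n = 0 := by
  simp only [chi]
  rw [Module.length_eq_zero]
  simp

/-- additivity of the limit of normalized Samuel functions. -/
theorem tendsto_nchi_of_exact {M' M M'' : Type u} [AddCommGroup M'] [Module A M'] [AddCommGroup M]
    [Module A M] [AddCommGroup M''] [Module A M''] [Module.Finite A M'] [Module.Finite A M]
    [Module.Finite A M'']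
    (f : M' →ₗ[A] M) (g : M →ₗ[A] M'') (hf : Function.Injective f) (hg : Function.Surjective g)
    (hfg : LinearMap.range f = LinearMap.ker g)
    (d : ℕ) (hd : Module.supportDim A M ≤ (d : WithBot ℕ∞)) (e' e'' : ℝ)
    (h' : Tendsto (nchi I d M') atTop (𝓝 e')) (h'' : Tendsto (nchi I d M'') atTop (𝓝 e'')) :
    Tendsto (nchi I d M) atTop (𝓝 (e' + e'')) := by
  obtain ⟨k, hk⟩ := exists_chi_defect I f g hf hg hfg
  have hd' : Module.supportDim A M' ≤ (d : WithBot ℕ∞) :=
    (Module.supportDim_le_of_injective f hf).trans hd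
  have hev := evPoly_chi_of_le I M' hd'
  have hgz := tendsto_div_pow_of_evPoly (hev.sub_shift k)
  have hδ : Tendsto (fun n : ℕ =>
      ((chi I M' n + chi I M'' n - chi I M n : ℤ) : ℝ) / (n : ℝ) ^ d) atTop (𝓝 0) := by
    refine tendsto_of_tendsto_of_tendsto_of_le_of_le' tendsto_const_nhds hgz ?_ ?_
    · filter_upwards [eventually_ge_atTop k] with n hn
      have h0 := (hk n hn).1
      have : (0 : ℝ) ≤ ((chi I M' n + chi I M'' n - chi I M n : ℤ) : ℝ) := by exact_mod_cast h0
      positivity
    · filter_upwards [eventually_ge_atTop k] with n hn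
      have h1 := (hk n hn).2
      have : ((chi I M' n + chi I M'' n - chi I M n : ℤ) : ℝ) ≤
          ((chi I M' n - chi I M' (n - k) : ℤ) : ℝ) := by exact_mod_cast h1
      exact div_le_div_of_nonneg_right this (by positivity)
  have hcomb := (h'.add h'').sub (hδ.const_mul (d.factorial : ℝ))
  rw [mul_zero, sub_zero] at hcomb
  refine hcomb.congr (fun n => ?_)
  simp only [nchi]
  push_cast
  ring

/-- modules of smaller dimension have vanishing normalized limit. -/
theorem tendsto_nchi_zero_of_lt (N : Type u) [AddCommGroup N] [Module A N] [Module.Finite A N]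
    (d : ℕ) (hd : Module.supportDim A N ≤ (d : WithBot ℕ∞)) :
    Tendsto (nchi I (d + 1) N) atTop (𝓝 0) := by
  have hev := evPoly_chi_of_le I N hd
  have h := (tendsto_div_pow_of_evPoly hev).const_mul (((d + 1).factorial : ℕ) : ℝ)
  rw [mul_zero] at h
  refine h.congr (fun n => ?_)
  simp only [nchi]
  ring

variable (d : ℕ) (e : PrimeSpectrum A → ℝ)

/-- the right-hand side of the multiplicity formula. -/
noncomputable def Phi (N : Type u) [AddCommGroup N] [Module A N] : ℝ :=
  ∑ᶠ p : PrimeSpectrum A, (if ringKrullDim (A ⧸ p.asIdeal) = d then lenLoc p N * e p else 0)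

lemma Phi_eq (N : Type u) [AddCommGroup N] [Module A N] :
    Phi d e N = ∑ᶠ (p : PrimeSpectrum A) (_ : ringKrullDim (A ⧸ p.asIdeal) = d),
      lenLoc p N * e p := by
  classical
  simp only [Phi]
  refine finsum_congr (fun p => ?_)
  rw [finsum_eq_if]

lemma hasFiniteSupport_Phi (N : Type u) [AddCommGroup N] [Module A N] [Module.Finite A N]
    (hN : supportDim A N ≤ (d : WithBot ℕ∞)) :
    (Function.support fun p : PrimeSpectrum A =>
      (if ringKrullDim (A ⧸ p.asIdeal) = d then lenLoc p N * e p else 0)).Finite := by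
  refine (finite_support_lenLoc N hN).subset ?_
  intro p hp
  rw [Function.mem_support] at hp
  by_cases h : ringKrullDim (A ⧸ p.asIdeal) = d
  · rw [if_pos h] at hp
    exact ⟨h, fun h0 => hp (by rw [h0, zero_mul])⟩
  · rw [if_neg h] at hp
    exact absurd rfl hp

lemma Phi_of_subsingleton (N : Type u) [AddCommGroup N] [Module A N] [Subsingleton N] :
    Phi d e N = 0 := by
  simp only [Phi]
  refine (finsum_congr (fun p => ?_)).trans (finsum_zero (α := PrimeSpectrum A))
  rw [lenLoc_eq_zero_of_subsingleton, zero_mul, ite_self]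

lemma Phi_congr {N N' : Type u} [AddCommGroup N] [Module A N] [AddCommGroup N'] [Module A N']
    (f : N ≃ₗ[A] N') : Phi d e N = Phi d e N' := by
  simp only [Phi]
  refine finsum_congr (fun p => ?_)
  rw [lenLoc_congr p f]

lemma Phi_add {N₁ N₂ N₃ : Type u} [AddCommGroup N₁] [Module A N₁] [AddCommGroup N₂] [Module A N₂]
    [AddCommGroup N₃] [Module A N₃] [Module.Finite A N₁] [Module.Finite A N₂] [Module.Finite A N₃]
    (f : N₁ →ₗ[A] N₂) (g : N₂ →ₗ[A] N₃) (hf : Function.Injective f) (hg : Function.Surjective g)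
    (hfg : Function.Exact f g) (hN : supportDim A N₂ ≤ (d : WithBot ℕ∞)) :
    Phi d e N₂ = Phi d e N₁ + Phi d e N₃ := by
  have h1 : supportDim A N₁ ≤ (d : WithBot ℕ∞) :=
    (Module.supportDim_le_of_injective f hf).trans hN
  have h3 : supportDim A N₃ ≤ (d : WithBot ℕ∞) :=
    (Module.supportDim_le_of_surjective g hg).trans hN
  simp only [Phi]
  rw [← finsum_add_distrib (hasFiniteSupport_Phi d e N₁ h1) (hasFiniteSupport_Phi d e N₃ h3)]
  refine finsum_congr (fun p => ?_)
  by_cases h : ringKrullDim (A ⧸ p.asIdeal) = d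
  · rw [if_pos h, if_pos h, if_pos h,
      lenLoc_add p f g hf hg hfg (isFiniteLength_localized hN p h), add_mul]
  · rw [if_neg h, if_neg h, if_neg h, add_zero]

/-- `Phi` of `A ⧸ p₀`, top-dimensional case. -/
lemma Phi_quotient_of_eq (p₀ : PrimeSpectrum A) (h0 : ringKrullDim (A ⧸ p₀.asIdeal) = d) :
    Phi d e (A ⧸ p₀.asIdeal) = e p₀ := by
  simp only [Phi]
  rw [finsum_eq_single _ p₀, if_pos h0, lenLoc_quotient_self, one_mul]
  intro p hp
  by_cases h : ringKrullDim (A ⧸ p.asIdeal) = d
  · rw [if_pos h]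
    have : ¬ p₀.asIdeal ≤ p.asIdeal := by
      intro hle
      have hlt : p₀.asIdeal < p.asIdeal :=
        lt_of_le_of_ne hle (fun h => hp (PrimeSpectrum.ext h.symm))
      have := p₀.2
      refine not_lt_of_dim (X := A ⧸ p₀.asIdeal) ?_ p h p₀.asIdeal ?_ hlt
      · rw [Module.supportDim_quotient_eq_ringKrullDim, h0]
      · rw [Ideal.annihilator_quotient]
    rw [lenLoc_quotient_of_not_le p _ this, zero_mul]
  · rw [if_neg h]

/-- `Phi` of `A ⧸ p₀`, lower-dimensional case. -/
lemma Phi_quotient_of_lt (p₀ : PrimeSpectrum A) (h0 : ringKrullDim (A ⧸ p₀.asIdeal) ≤ d)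
    (h0' : ringKrullDim (A ⧸ p₀.asIdeal) ≠ d) :
    Phi d e (A ⧸ p₀.asIdeal) = 0 := by
  simp only [Phi]
  refine (finsum_congr (fun p => ?_)).trans (finsum_zero (α := PrimeSpectrum A))
  by_cases h : ringKrullDim (A ⧸ p.asIdeal) = d
  · rw [if_pos h]
    have : ¬ p₀.asIdeal ≤ p.asIdeal := by
      intro hle
      have hlt : p₀.asIdeal < p.asIdeal :=
        lt_of_le_of_ne hle (fun h1 => h0' (by rw [h1, h]))
      have := p₀.2
      refine not_lt_of_dim (X := A ⧸ p₀.asIdeal) ?_ p h p₀.asIdeal ?_ hlt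
      · rw [Module.supportDim_quotient_eq_ringKrullDim]
        exact h0
      · rw [Ideal.annihilator_quotient]
    rw [lenLoc_quotient_of_not_le p _ this, zero_mul]
  · rw [if_neg h]

/-- **The multiplicity formula.** -/
theorem tendsto_nchi_Phi
    (he : ∀ p : PrimeSpectrum A, ringKrullDim (A ⧸ p.asIdeal) = d →
      Tendsto (nchi I d (A ⧸ p.asIdeal)) atTop (𝓝 (e p)))
    (M : Type u) [AddCommGroup M] [Module A M] [hM : Module.Finite A M]
    (hd : supportDim A M ≤ (d : WithBot ℕ∞)) :
    Tendsto (nchi I d M) atTop (𝓝 (Phi d e M)) := by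
  induction hM using IsNoetherianRing.induction_on_isQuotientEquivQuotientPrime A with
  | subsingleton N =>
    rw [Phi_of_subsingleton]
    refine tendsto_const_nhds.congr (fun n => ?_)
    simp only [nchi]
    rw [chi_of_subsingleton]
    simp
  | quotient N p f =>
    have hdim : ringKrullDim (A ⧸ p.asIdeal) ≤ (d : WithBot ℕ∞) := by
      rw [← Module.supportDim_quotient_eq_ringKrullDim]
      exact (Module.supportDim_le_of_injective f.symm.toLinearMap f.symm.injective).trans hd
    have hcongr : nchi I d N = nchi I d (A ⧸ p.asIdeal) := by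
      funext n
      simp only [nchi]
      rw [chi_congr I f n]
    rw [Phi_congr d e f, hcongr]
    by_cases h : ringKrullDim (A ⧸ p.asIdeal) = d
    · rw [Phi_quotient_of_eq d e p h]
      exact he p h
    · rw [Phi_quotient_of_lt d e p hdim h]
      have hlt : ringKrullDim (A ⧸ p.asIdeal) < (d : WithBot ℕ∞) := lt_of_le_of_ne hdim h
      have : Nontrivial (A ⧸ p.asIdeal) := Ideal.Quotient.nontrivial_iff.2 p.2.ne_top
      have hnn : (0 : WithBot ℕ∞) ≤ ringKrullDim (A ⧸ p.asIdeal) := ringKrullDim_nonneg_of_nontrivial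
      obtain ⟨d', rfl⟩ : ∃ d', d = d' + 1 := by
        rcases d with _ | d'
        · exact absurd (lt_of_le_of_lt hnn hlt) (by simp)
        · exact ⟨d', rfl⟩
      have hle : ringKrullDim (A ⧸ p.asIdeal) ≤ (d' : WithBot ℕ∞) := by
        obtain ⟨x, hx⟩ : ∃ x : ℕ∞, ringKrullDim (A ⧸ p.asIdeal) = (x : WithBot ℕ∞) :=
          ⟨(ringKrullDim (A ⧸ p.asIdeal)).unbot (by
            intro hbot; rw [hbot] at hnn; simp at hnn), by simp⟩
        rw [hx] at hlt ⊢
        have h1 : x < ((d' + 1 : ℕ) : ℕ∞) := by exact_mod_cast hlt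
        have h2 : x ≤ (d' : ℕ∞) := by
          push_cast at h1
          exact (ENat.lt_add_one_iff (ENat.natCast_ne_top d')).1 h1
        exact_mod_cast h2
      refine tendsto_nchi_zero_of_lt I (A ⧸ p.asIdeal) d' ?_
      rw [Module.supportDim_quotient_eq_ringKrullDim]
      exact hle
  | exact N₁ N₂ N₃ f g hf hg hfg h₁ h₃ =>
    have h1 : supportDim A N₁ ≤ (d : WithBot ℕ∞) :=
      (Module.supportDim_le_of_injective f hf).trans hd
    have h3 : supportDim A N₃ ≤ (d : WithBot ℕ∞) :=
      (Module.supportDim_le_of_surjective g hg).trans hd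
    rw [Phi_add d e f g hf hg hfg hd]
    exact tendsto_nchi_of_exact I f g hf hg (LinearMap.exact_iff.1 hfg).symm d hd _ _
      (h₁ h1) (h₃ h3)

end main

end Groth.Agent.Lib.Helper22.Samuel
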