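import Mathlib
import Groth.Agent.Lib.Helper22.NormFlat1
import Groth.Agent.Lib.Helper22.Samuel13
import Groth.Agent.Lib.Helper22.AssocLen2

/-!
# Normal flatness: lengths along the `I`-adic filtration
-/

set_option autoImplicit false
set_option linter.unusedSectionVars false
set_option linter.style.haveILetI false

universe u

namespace Groth.Agent.Lib.Helper22.NormFlat

open Groth.Agent.Lib.Helper22.Samuel Groth.Agent.Lib.Helper22.AssocLen

section pi

variable {A : Type u} [CommRing A] (X : Type u) [AddCommGroup X] [Module A X]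

/-- first coordinate inclusion. -/
noncomputable def piIncl (h : ℕ) : X →ₗ[A] (Fin (h + 1) → X) :=
  LinearMap.single A (fun _ : Fin (h + 1) => X) 0

/-- forgetting the first coordinate. -/
noncomputable def piTail (h : ℕ) : (Fin (h + 1) → X) →ₗ[A] (Fin h → X) :=
  LinearMap.funLeft A X Fin.succ

lemma piIncl_injective (h : ℕ) : Function.Injective (piIncl (A := A) X h) :=
  Pi.single_injective (M := fun _ : Fin (h + 1) => X) (0 : Fin (h + 1))

lemma piTail_surjective (h : ℕ) : Function.Surjective (piTail (A := A) X h) := by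
  intro w
  refine ⟨Fin.cons 0 w, ?_⟩
  ext i
  simp [piTail, LinearMap.funLeft_apply]

lemma pi_exact (h : ℕ) : Function.Exact (piIncl (A := A) X h) (piTail (A := A) X h) := by
  intro v
  constructor
  · intro hv
    refine ⟨v 0, ?_⟩
    ext i
    refine Fin.cases ?_ (fun i => ?_) i
    · simp [piIncl]
    · have := congrFun hv i
      simp only [piTail, LinearMap.funLeft_apply, Pi.zero_apply] at this
      simp [piIncl, this]
  · rintro ⟨x, rfl⟩
    ext i
    simp [piTail, piIncl, LinearMap.funLeft_apply]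

end pi

section lam

variable {A : Type u} [CommRing A] (p : Ideal A) [p.IsPrime]

lemma lam_pi (X : Type u) [AddCommGroup X] [Module A X] (h : ℕ) :
    lam p (Fin h → X) = h • lam p X := by
  induction h with
  | zero => rw [zero_smul]; exact lam_of_subsingleton p
  | succ h ih =>
    rw [lam_exact p (piIncl X h) (piTail X h) (piIncl_injective X h) (piTail_surjective X h)
      (pi_exact X h), ih, succ_nsmul, add_comm]

variable (I : Ideal A) (M : Type u) [AddCommGroup M] [Module A M]

/-- the length of `(M / I^n M)_p` when the graded pieces are free over `A/I`. -/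
theorem lam_quot_pow (h : ℕ → ℕ)
    (hfree : ∀ j, Nonempty (Piece I M j ≃ₗ[A] (Fin (h j) → A ⧸ I))) (n : ℕ) :
    lam p (M ⧸ (I ^ n • (⊤ : Submodule A M))) =
      (∑ j ∈ Finset.range n, h j) • lam p (A ⧸ I) := by
  induction n with
  | zero =>
    rw [Finset.range_zero, Finset.sum_empty, zero_smul]
    haveI : Subsingleton (M ⧸ (I ^ 0 • (⊤ : Submodule A M))) := by
      rw [pow_zero, Ideal.one_eq_top, Submodule.top_smul]
      exact Submodule.Quotient.subsingleton_iff.2 rfl
    exact lam_of_subsingleton p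
  | succ n ih =>
    obtain ⟨e⟩ := hfree n
    rw [lam_exact p (D I (M := M) n).subtype (Submodule.factor (pow_succ_smul_le I M n))
      (Submodule.subtype_injective _) (Submodule.factor_surjective _) (exact_D I M n), ih,
      lam_congr p ((pieceEquivD I M n).symm ≪≫ₗ e), lam_pi, Finset.sum_range_succ, add_smul,
      add_comm]

end lam

section chi

variable {A : Type u} [CommRing A] [IsNoetherianRing A] (𝔪 : Ideal A) [IsArtinianRing (A ⧸ 𝔪)]

lemma chi_le_of_exact {X Y Z : Type u} [AddCommGroup X] [Module A X] [Module.Finite A X]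
    [AddCommGroup Y] [Module A Y] [Module.Finite A Y] [AddCommGroup Z] [Module A Z]
    [Module.Finite A Z] (f : X →ₗ[A] Y) (g : Y →ₗ[A] Z) (hf : Function.Injective f)
    (hg : Function.Surjective g) (hfg : Function.Exact f g) (n : ℕ) :
    chi 𝔪 Y n ≤ chi 𝔪 Z n + chi 𝔪 X n := by
  have h1 := chi_le_add 𝔪 (LinearMap.range f) n
  have e1 : (Y ⧸ LinearMap.range f) ≃ₗ[A] Z :=
    (Submodule.quotEquivOfEq _ _ hfg.linearMap_ker_eq.symm) ≪≫ₗ g.quotKerEquivOfSurjective hg
  have e2 : X ≃ₗ[A] ↥(LinearMap.range f) := LinearEquiv.ofInjective f hf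
  rw [chi_congr 𝔪 e1 n, ← chi_congr 𝔪 e2 n] at h1
  exact h1

lemma chi_pi_le (X : Type u) [AddCommGroup X] [Module A X] [Module.Finite A X] (h n : ℕ) :
    chi 𝔪 (Fin h → X) n ≤ h * chi 𝔪 X n := by
  induction h with
  | zero =>
    rw [chi_of_subsingleton]
    simp
  | succ h ih =>
    have h1 := chi_le_of_exact 𝔪 (piIncl X h) (piTail X h) (piIncl_injective X h)
      (piTail_surjective X h) (pi_exact X h) n
    push_cast
    linarith

variable (I : Ideal A) (hI : I ≤ 𝔪) (M : Type u) [AddCommGroup M] [Module A M] [Module.Finite A M]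

theorem chi_quot_pow_le (h : ℕ → ℕ)
    (hfree : ∀ j, Nonempty (Piece I M j ≃ₗ[A] (Fin (h j) → A ⧸ I))) (n k : ℕ) :
    chi 𝔪 (M ⧸ (I ^ k • (⊤ : Submodule A M))) n ≤
      (∑ j ∈ Finset.range k, (h j : ℤ)) * chi 𝔪 (A ⧸ I) n := by
  induction k with
  | zero =>
    haveI : Subsingleton (M ⧸ (I ^ 0 • (⊤ : Submodule A M))) := by
      rw [pow_zero, Ideal.one_eq_top, Submodule.top_smul]
      exact Submodule.Quotient.subsingleton_iff.2 rfl
    rw [chi_of_subsingleton]
    simp
  | succ k ih =>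
    obtain ⟨e⟩ := hfree k
    have h1 := chi_le_of_exact 𝔪 (D I (M := M) k).subtype
      (Submodule.factor (pow_succ_smul_le I M k))
      (Submodule.subtype_injective _) (Submodule.factor_surjective _) (exact_D I M k) n
    have h2 : chi 𝔪 ↥(D I (M := M) k) n = chi 𝔪 (Fin (h k) → A ⧸ I) n :=
      chi_congr 𝔪 ((pieceEquivD I M k).symm ≪≫ₗ e) n
    have h3 := chi_pi_le 𝔪 (A ⧸ I) (h k) n
    rw [Finset.sum_range_succ, add_mul]
    linarith

include hI in
theorem chi_le_chi_quot_pow (n : ℕ) :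
    chi 𝔪 M n ≤ chi 𝔪 (M ⧸ (I ^ n • (⊤ : Submodule A M))) n := by
  apply chi_le_of_length_le
  have h1 := length_quot_eq 𝔪 (I ^ n • (⊤ : Submodule A M)).mkQ (Submodule.mkQ_surjective _) n
  rw [Submodule.ker_mkQ] at h1
  have h2 : (I ^ n • (⊤ : Submodule A M)).map (𝔪 ^ n • (⊤ : Submodule A M)).mkQ = ⊥ := by
    rw [eq_bot_iff]
    rintro _ ⟨y, hy, rfl⟩
    rw [Submodule.mem_bot, Submodule.mkQ_apply, Submodule.Quotient.mk_eq_zero]
    exact Submodule.smul_mono_left (Ideal.pow_right_mono hI n) hy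
  rw [h1, h2]
  have h3 : Module.length A ↥(⊥ : Submodule A (M ⧸ (𝔪 ^ n • (⊤ : Submodule A M)))) = 0 :=
    Module.length_eq_zero
  rw [h3, zero_add]

include hI in
/-- the Samuel function of `M` is bounded by `H(n) · χ_{A/I}(n)`. -/
theorem chi_le_mul (h : ℕ → ℕ)
    (hfree : ∀ j, Nonempty (Piece I M j ≃ₗ[A] (Fin (h j) → A ⧸ I))) (n : ℕ) :
    chi 𝔪 M n ≤ (∑ j ∈ Finset.range n, (h j : ℤ)) * chi 𝔪 (A ⧸ I) n :=
  (chi_le_chi_quot_pow 𝔪 I hI M n).trans (chi_quot_pow_le 𝔪 I M h hfree n n)

end chi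

end Groth.Agent.Lib.Helper22.NormFlat
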