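import Mathlib
import Groth.Agent.Lib.Helper22.NormFlat2
import Groth.Agent.Lib.Helper22.Samuel9

/-!
# Normal flatness: the dimension of `M_p` at a minimal prime over `I`
-/

set_option autoImplicit false
set_option linter.unusedSectionVars false
set_option linter.style.haveILetI false

universe u

namespace Groth.Agent.Lib.Helper22.NormFlat

open Groth.Agent.Lib.Helper22.Samuel Groth.Agent.Lib.Helper22.AssocLen
  Groth.Agent.Lib.Helper22.HS

section evpoly

lemma evPoly_const_mul_iff {c : ℤ} (hc : c ≠ 0) (e : ℕ) (H : ℕ → ℤ) :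
    EvPoly e (fun n => c * H n) ↔ EvPoly e H := by
  have h1 : (fun n => c * H n) = c • H := by
    ext n
    simp
  rw [h1]
  unfold EvPoly
  simp only [fwdDiff_iter_const_smul, Pi.smul_apply, smul_eq_mul, mul_eq_zero, hc, false_or]

end evpoly

section free

variable {A : Type u} [CommRing A] [IsNoetherianRing A] [IsLocalRing A] (I : Ideal A)
  (M : Type u) [AddCommGroup M] [Module A M] [Module.Finite A M]

/-- a flat graded piece is free over the local ring `A/I`. -/
theorem exists_free_piece (hI : I ≠ ⊤) (j : ℕ) (hfl : Module.Flat (A ⧸ I) (Piece I M j)) :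
    ∃ h : ℕ, Nonempty (Piece I M j ≃ₗ[A] (Fin h → A ⧸ I)) := by
  haveI : Nontrivial (A ⧸ I) := Ideal.Quotient.nontrivial_iff.2 hI
  haveI : IsLocalRing (A ⧸ I) :=
    IsLocalRing.of_surjective' (Ideal.Quotient.mk I) Ideal.Quotient.mk_surjective
  haveI : Module.Finite (A ⧸ I) (Piece I M j) :=
    Module.Finite.of_restrictScalars_finite A (A ⧸ I) _
  haveI : Module.Free (A ⧸ I) (Piece I M j) := Module.free_of_flat_of_isLocalRing
  exact ⟨_, ⟨((Module.finBasis (A ⧸ I) (Piece I M j)).equivFun).restrictScalars A⟩⟩

end free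

section loc

variable {A : Type u} [CommRing A] [IsNoetherianRing A] (I : Ideal A) (p : Ideal A) [p.IsPrime]
  (M : Type u) [AddCommGroup M] [Module A M] [Module.Finite A M]

/-- the localization of `M / I^n M` is `M_p / I_p^n M_p`. -/
noncomputable def locQuotEquiv (n : ℕ) :
    LocalizedModule p.primeCompl (M ⧸ (I ^ n • (⊤ : Submodule A M))) ≃ₗ[Localization.AtPrime p]
      (LocalizedModule p.primeCompl M ⧸
        ((I.map (algebraMap A (Localization.AtPrime p))) ^ n •
          (⊤ : Submodule (Localization.AtPrime p) (LocalizedModule p.primeCompl M)))) :=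
  (localizedQuotientEquiv _ _).symm ≪≫ₗ
      Submodule.quotEquivOfEq _ _ (by rw [Submodule.localized,
        Submodule.localized'_smul, Ideal.localized'_eq_map, Submodule.localized'_top,
        Ideal.map_pow])

lemma length_loc_quot (n : ℕ) :
    Module.length (Localization.AtPrime p) (LocalizedModule p.primeCompl M ⧸
        ((I.map (algebraMap A (Localization.AtPrime p))) ^ n •
          (⊤ : Submodule (Localization.AtPrime p) (LocalizedModule p.primeCompl M)))) =
      lam p (M ⧸ (I ^ n • (⊤ : Submodule A M))) :=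
  (locQuotEquiv I p M n).length_eq.symm

variable {I p}

lemma map_le_maximalIdeal (hIp : I ≤ p) :
    I.map (algebraMap A (Localization.AtPrime p)) ≤
      IsLocalRing.maximalIdeal (Localization.AtPrime p) := by
  rw [← Localization.AtPrime.map_eq_maximalIdeal]
  exact Ideal.map_mono hIp

lemma isArtinianRing_loc_quot (hp : p ∈ I.minimalPrimes) :
    IsArtinianRing (Localization.AtPrime p ⧸ I.map (algebraMap A (Localization.AtPrime p))) := by
  apply isArtinianRing_quotient_of_forall_isMaximal
  intro q hq hle
  have h1 : I ≤ q.comap (algebraMap A (Localization.AtPrime p)) :=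
    Ideal.map_le_iff_le_comap.mp hle
  have h2 : q.comap (algebraMap A (Localization.AtPrime p)) ≤ p := by
    have := (IsLocalization.AtPrime.orderIsoOfPrime (Localization.AtPrime p) p ⟨q, hq⟩).2.2
    exact this
  haveI : (q.comap (algebraMap A (Localization.AtPrime p))).IsPrime := Ideal.comap_isPrime _ _
  have h3 : q.comap (algebraMap A (Localization.AtPrime p)) = p :=
    le_antisymm h2 (hp.2 ⟨inferInstance, h1⟩ h2)
  have h4 : q = IsLocalRing.maximalIdeal (Localization.AtPrime p) := by
    rw [← Localization.AtPrime.map_eq_maximalIdeal]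
    have h5 : Ideal.map (algebraMap A (Localization.AtPrime p))
        (q.comap (algebraMap A (Localization.AtPrime p))) = q :=
      IsLocalization.map_comap p.primeCompl (Localization.AtPrime p) q
    rw [h3] at h5
    exact h5.symm
  rw [h4]
  exact IsLocalRing.maximalIdeal.isMaximal _

lemma lam_quot_ne_top (hp : p ∈ I.minimalPrimes) : lam p (A ⧸ I) ≠ ⊤ := by
  haveI := isArtinianRing_loc_quot hp
  have h1 := isFiniteLength_quot (I.map (algebraMap A (Localization.AtPrime p)))
    (LocalizedModule p.primeCompl A) 1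
  rw [← Module.length_ne_top_iff, length_loc_quot I p A 1] at h1
  have e : (A ⧸ (I ^ 1 • (⊤ : Submodule A A))) ≃ₗ[A] (A ⧸ I) :=
    Submodule.quotEquivOfEq _ _ (by rw [pow_one, smul_eq_mul, Ideal.mul_top])
  rwa [lam_congr p e] at h1

lemma lam_quot_ne_zero (hIp : I ≤ p) : lam p (A ⧸ I) ≠ 0 := by
  unfold lam
  rw [Ne, Module.length_eq_zero_iff, not_subsingleton_iff_nontrivial]
  have h1 : (⟨p, inferInstance⟩ : PrimeSpectrum A) ∈ Module.support A (A ⧸ I) := by
    rw [Module.mem_support_iff_of_finite, Ideal.annihilator_quotient]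
    exact hIp
  exact (Module.mem_support_iff).mp h1

theorem supportDim_loc_le_iff (hp : p ∈ I.minimalPrimes) (h : ℕ → ℕ)
    (hfree : ∀ j, Nonempty (Piece I M j ≃ₗ[A] (Fin (h j) → A ⧸ I))) (d : ℕ) :
    Module.supportDim (Localization.AtPrime p) (LocalizedModule p.primeCompl M) ≤
        (d : WithBot ℕ∞) ↔
      EvPoly (d + 1) (fun n => ∑ j ∈ Finset.range n, (h j : ℤ)) := by
  haveI := isArtinianRing_loc_quot hp
  have hIJ := le_jacobson_of_local _ (map_le_maximalIdeal (I := I) (p := p) hp.1.2)
  set c := lam p (A ⧸ I) with hc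
  have hc0 : ((c.toNat : ℕ) : ℤ) ≠ 0 := by
    have h1 : c.toNat ≠ 0 := by
      rw [Ne, ENat.toNat_eq_zero, not_or]
      exact ⟨lam_quot_ne_zero hp.1.2, lam_quot_ne_top hp⟩
    exact_mod_cast h1
  have hchi : chi (I.map (algebraMap A (Localization.AtPrime p)))
      (LocalizedModule p.primeCompl M) =
      fun n => ((c.toNat : ℕ) : ℤ) * ∑ j ∈ Finset.range n, (h j : ℤ) := by
    funext n
    simp only [chi]
    rw [length_loc_quot I p M n, lam_quot_pow p I M h hfree n, nsmul_eq_mul, ENat.toNat_mul,
      ENat.toNat_natCast]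
    push_cast
    ring
  constructor
  · intro hle
    have h1 := evPoly_chi_of_supportDim_le (I.map (algebraMap A (Localization.AtPrime p))) d
      (LocalizedModule p.primeCompl M) hle
    rw [hchi] at h1
    exact (evPoly_const_mul_iff hc0 _ _).mp h1
  · intro hev
    apply supportDim_le_of_evPoly (I.map (algebraMap A (Localization.AtPrime p))) hIJ d
      (LocalizedModule p.primeCompl M)
    rw [hchi]
    exact (evPoly_const_mul_iff hc0 _ _).mpr hev

end loc

end Groth.Agent.Lib.Helper22.NormFlat
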