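import Mathlib
import Groth.Agent.Lib.Helper22.NormFlat3
import Groth.Agent.Lib.Helper28.SuppLoc
import Groth.Agent.Lib.Helper12.DimFT2

/-!
# Normal flatness: dimension bounds
-/

set_option autoImplicit false
set_option linter.unusedSectionVars false
set_option linter.style.haveILetI false

universe u

namespace Groth.Agent.Lib.Helper22.NormFlat

open Groth.Agent.Lib.Helper22.Samuel Groth.Agent.Lib.Helper22.AssocLen
  Groth.Agent.Lib.Helper22.HS Polynomial

section evpoly

theorem evPoly_mul {a b : ℕ} {f g : ℕ → ℤ} (hf : EvPoly (a + 1) f) (hg : EvPoly (b + 1) g)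
    (hf0 : ∀ n, 0 ≤ f n) (hg0 : ∀ n, 0 ≤ g n) :
    EvPoly (a + b + 1) (fun n => f n * g n) := by
  obtain ⟨P, N₁, hP⟩ := hf.exists_polynomial
  obtain ⟨Q, N₂, hQ⟩ := hg.exists_polynomial
  by_cases hP0 : P = 0
  · have h0 : EvPoly 0 (fun n => f n * g n) := by
      rw [evPoly_zero_iff]
      refine ⟨N₁, fun n hn => ?_⟩
      have h1 := hP n hn
      rw [hP0, eval_zero] at h1
      have h2 : f n = 0 := by exact_mod_cast h1
      rw [h2, zero_mul]
    exact h0.mono (Nat.zero_le _)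
  by_cases hQ0 : Q = 0
  · have h0 : EvPoly 0 (fun n => f n * g n) := by
      rw [evPoly_zero_iff]
      refine ⟨N₂, fun n hn => ?_⟩
      have h1 := hQ n hn
      rw [hQ0, eval_zero] at h1
      have h2 : g n = 0 := by exact_mod_cast h1
      rw [h2, mul_zero]
    exact h0.mono (Nat.zero_le _)
  have h1 : P.natDegree < a + 1 := (evPoly_iff_natDegree_lt hP0 hP hf0).mp hf
  have h2 : Q.natDegree < b + 1 := (evPoly_iff_natDegree_lt hQ0 hQ hg0).mp hg
  refine evPoly_of_natDegree_lt (P := P * Q) (N := max N₁ N₂) ?_ ?_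
  · intro m hm
    rw [eval_mul, ← hP m (le_trans (le_max_left _ _) hm), ← hQ m (le_trans (le_max_right _ _) hm)]
    push_cast
    rfl
  · have := Polynomial.natDegree_mul_le (p := P) (q := Q)
    omega

end evpoly

section upper

variable {A : Type u} [CommRing A] [IsNoetherianRing A] [IsLocalRing A] (I : Ideal A)
  (M : Type u) [AddCommGroup M] [Module A M] [Module.Finite A M]

theorem supportDim_le_add (hI : I ≤ IsLocalRing.maximalIdeal A) (h : ℕ → ℕ)
    (hfree : ∀ j, Nonempty (Piece I M j ≃ₗ[A] (Fin (h j) → A ⧸ I))) (d₀ δ : ℕ)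
    (hd₀ : ringKrullDim (A ⧸ I) ≤ (d₀ : WithBot ℕ∞))
    (hδ : EvPoly (δ + 1) (fun n => ∑ j ∈ Finset.range n, (h j : ℤ))) :
    Module.supportDim A M ≤ ((δ + d₀ : ℕ) : WithBot ℕ∞) := by
  set 𝔪 := IsLocalRing.maximalIdeal A with h𝔪
  haveI : IsArtinianRing (A ⧸ 𝔪) :=
    isArtinianRing_quotient_of_local 𝔪 ⟨le_rfl, 1, by rw [pow_one]⟩
  have hIJ : 𝔪 ≤ Ring.jacobson A := le_jacobson_of_local 𝔪 le_rfl
  have h1 : EvPoly (d₀ + 1) (chi 𝔪 (A ⧸ I)) := by
    apply evPoly_chi_of_supportDim_le 𝔪 d₀ (A ⧸ I)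
    rw [Module.supportDim_quotient_eq_ringKrullDim]
    exact hd₀
  have h2 := evPoly_mul hδ h1
    (fun n => Finset.sum_nonneg fun j _ => Int.natCast_nonneg _) (chi_nonneg 𝔪 (A ⧸ I))
  have h3 : EvPoly (δ + d₀ + 1) (chi 𝔪 M) :=
    EvPoly.of_le (exists_evPoly_chi 𝔪 M) h2 0
      (fun n _ => ⟨chi_nonneg 𝔪 M n, chi_le_mul 𝔪 I hI M h hfree n⟩)
  exact supportDim_le_of_evPoly 𝔪 hIJ (δ + d₀) M h3

end upper

section lower

variable {A : Type u} [CommRing A] (M : Type u) [AddCommGroup M] [Module A M]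

lemma comap_le_of_prime (p : Ideal A) [p.IsPrime] (Q : Ideal (Localization.AtPrime p))
    [hQ : Q.IsPrime] : Q.comap (algebraMap A (Localization.AtPrime p)) ≤ p :=
  (IsLocalization.AtPrime.orderIsoOfPrime (Localization.AtPrime p) p ⟨Q, hQ⟩).2.2

/-- chain concatenation: `dim M_p + dim A/p ≤ dim M` for `p` in the support. -/
theorem supportDim_loc_add_le (p : Ideal A) [hp : p.IsPrime]
    (hpM : (⟨p, hp⟩ : PrimeSpectrum A) ∈ Module.support A M) :
    Module.supportDim (Localization.AtPrime p) (LocalizedModule p.primeCompl M) +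
      ringKrullDim (A ⧸ p) ≤ Module.supportDim A M := by
  set x₀ : Module.support A M := ⟨⟨p, hp⟩, hpM⟩ with hx₀
  haveI : Nonempty (Module.support A M) := ⟨x₀⟩
  have h1 : Module.supportDim (Localization.AtPrime p) (LocalizedModule p.primeCompl M) ≤
      ((Order.height x₀ : ℕ∞) : WithBot ℕ∞) := by
    rw [Order.height_eq_krullDim_Iic]
    refine Order.krullDim_le_of_strictMono
      (fun Q => (⟨⟨PrimeSpectrum.comap (algebraMap A (Localization.AtPrime p)) Q.1,
        (Groth.Agent.Lib.Helper28.mem_support_localizedModule_iff p Q.1).mp Q.2⟩,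
        comap_le_of_prime p Q.1.asIdeal⟩ : Set.Iic x₀)) ?_
    intro Q₁ Q₂ hlt
    have h2 : Q₁.1.asIdeal < Q₂.1.asIdeal := hlt
    exact (IsLocalization.orderEmbedding p.primeCompl (Localization.AtPrime p)).lt_iff_lt.mpr h2
  have h2 : ringKrullDim (A ⧸ p) ≤ ((Order.coheight x₀ : ℕ∞) : WithBot ℕ∞) := by
    rw [Order.coheight_eq_krullDim_Ici, ringKrullDim_quotient]
    refine Order.krullDim_le_of_strictMono
      (fun q => (⟨⟨q.1, Module.mem_support_mono
        (show (⟨p, hp⟩ : PrimeSpectrum A) ≤ q.1 from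
          (PrimeSpectrum.mem_zeroLocus _ _).mp q.2) hpM⟩,
        (PrimeSpectrum.mem_zeroLocus _ _).mp q.2⟩ : Set.Ici x₀)) ?_
    intro q₁ q₂ hlt
    exact hlt
  have h3 : ((Order.height x₀ + Order.coheight x₀ : ℕ∞) : WithBot ℕ∞) ≤
      Module.supportDim A M := by
    unfold Module.supportDim
    rw [Order.krullDim_eq_iSup_height_add_coheight_of_nonempty, WithBot.coe_le_coe]
    exact le_iSup (fun a : Module.support A M => Order.height a + Order.coheight a) x₀
  refine le_trans (add_le_add h1 h2) ?_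
  rw [← WithBot.coe_add]
  exact h3

/-- the dimension of `A/I` is attained on the minimal primes over `I`. -/
theorem ringKrullDim_quotient_le_of_minimalPrimes (I : Ideal A) (c : WithBot ℕ∞)
    (h : ∀ p' ∈ I.minimalPrimes, ringKrullDim (A ⧸ p') ≤ c) : ringKrullDim (A ⧸ I) ≤ c := by
  apply Groth.Agent.Lib.Helper12.DimFT2.ringKrullDim_le_of_minimalPrimes
  intro P hP hPp
  have h1 : P.comap (Ideal.Quotient.mk I) ∈ I.minimalPrimes := by
    have h2 := Ideal.comap_minimalPrimes_eq_of_surjective (f := Ideal.Quotient.mk I)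
      Ideal.Quotient.mk_surjective (⊥ : Ideal (A ⧸ I))
    rw [← RingHom.ker_eq_comap_bot, Ideal.mk_ker] at h2
    rw [h2]
    exact ⟨P, hP, rfl⟩
  refine le_trans ?_ (h _ h1)
  exact ringKrullDim_le_of_surjective
    (Ideal.quotientMap P (Ideal.Quotient.mk I) (le_refl _))
    (Ideal.quotientMap_surjective Ideal.Quotient.mk_surjective)

end lower

end Groth.Agent.Lib.Helper22.NormFlat
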