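import Mathlib
import Groth.Agent.Lib.Helper8.SmoothNormal
import Groth.Agent.Lib.Helper8.EtaleReducedLoc

/-!
# Reducedness and normality of local rings along smooth ring maps (helper22)
-/

set_option autoImplicit false
set_option linter.style.haveILetI false
set_option linter.unusedSectionVars false
universe u
open IsLocalRing TensorProduct

namespace Groth.Agent.Lib.Helper22.SmoothNormalLoc

/-- Transfer along the canonical identification of `(S_f)_{Q S_f}` with `S_Q`. -/
theorem exists_ringEquiv_away {S : Type u} [CommRing S] (Q : Ideal S) [Q.IsPrime] (f : S)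
    (hfQ : f ∉ Q) (T : Type u) [CommRing T] [Algebra S T] [IsLocalization.AtPrime T Q] :
    ∃ (Q₁ : Ideal (Localization.Away f)) (_ : Q₁.IsPrime),
      Q₁.comap (algebraMap S (Localization.Away f)) = Q ∧
      Nonempty (Localization.AtPrime Q₁ ≃+* T) := by
  have hdisj : Disjoint (Submonoid.powers f : Set S) (Q : Set S) :=
    (Ideal.disjoint_powers_iff_notMem_of_isPrime f).mpr hfQ
  haveI hq₁ : (Q.map (algebraMap S (Localization.Away f))).IsPrime :=
    IsLocalization.isPrime_of_isPrime_disjoint (Submonoid.powers f) _ Q ‹_› hdisj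
  have hcomap : (Q.map (algebraMap S (Localization.Away f))).comap
      (algebraMap S (Localization.Away f)) = Q :=
    IsLocalization.under_map_of_isPrime_disjoint (Submonoid.powers f) _ ‹Q.IsPrime› hdisj
  refine ⟨Q.map (algebraMap S (Localization.Away f)), hq₁, hcomap, ?_⟩
  haveI h1 : IsLocalization.AtPrime
      (Localization.AtPrime (Q.map (algebraMap S (Localization.Away f))))
      ((Q.map (algebraMap S (Localization.Away f))).comap
        (algebraMap S (Localization (Submonoid.powers f)))) := inferInstance
  have hpc : ((Q.map (algebraMap S (Localization.Away f))).comap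
      (algebraMap S (Localization (Submonoid.powers f)))).primeCompl = Q.primeCompl := by
    ext x
    rw [Ideal.mem_primeCompl_iff, Ideal.mem_primeCompl_iff]
    exact not_congr (by rw [hcomap])
  haveI h2 : IsLocalization Q.primeCompl
      (Localization.AtPrime (Q.map (algebraMap S (Localization.Away f)))) := by
    rw [← hpc]
    exact h1
  let e : Localization.AtPrime (Q.map (algebraMap S (Localization.Away f))) ≃ₐ[S] T :=
    IsLocalization.algEquiv Q.primeCompl _ _
  exact ⟨e.toRingEquiv⟩

/-- A local ring of a smooth algebra over a reduced ring is reduced. -/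
theorem isReduced_of_smooth (A : Type u) [CommRing A] [IsReduced A] (S : Type u) [CommRing S]
    [Algebra A S] [Algebra.Smooth A S] (Q : Ideal S) [Q.IsPrime] (T : Type u) [CommRing T]
    [Algebra S T] [IsLocalization.AtPrime T Q] : IsReduced T := by
  obtain ⟨f, hfQ, n, alg, htower, hse⟩ :=
    Algebra.IsSmoothAt.exists_isStandardEtale_mvPolynomial (R := A) (p := Q)
  letI := alg
  haveI := htower
  haveI := hse
  obtain ⟨Q₁, hQ₁, hcomap, ⟨e⟩⟩ := exists_ringEquiv_away Q f hfQ T
  haveI := hQ₁
  set P := Q₁.comap (algebraMap (MvPolynomial (Fin n) A) (Localization.Away f)) with hP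
  haveI : P.IsPrime := Ideal.IsPrime.comap _
  haveI : Q₁.LiesOver P := ⟨rfl⟩
  haveI : IsReduced (Localization.AtPrime Q₁) :=
    Groth.Agent.Lib.Helper8.EtaleReducedLoc.isReduced_atPrime_of_etale
      (R := MvPolynomial (Fin n) A) (S := Localization.Away f) Q₁ P (Localization.AtPrime P)
      (Localization.AtPrime Q₁)
  exact isReduced_of_injective e.symm.toRingHom e.symm.injective

attribute [local instance] Algebra.TensorProduct.rightAlgebra in
/-- `S_q` is the local ring at a prime of the base change `R_p ⊗ S`. -/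
theorem exists_ringEquiv_baseChange (R S : Type u) [CommRing R] [CommRing S] [Algebra R S]
    (q : Ideal S) [q.IsPrime] (p : Ideal R) [p.IsPrime] [q.LiesOver p]
    (A : Type u) [CommRing A] [Algebra R A] [IsLocalization.AtPrime A p]
    (B : Type u) [CommRing B] [Algebra S B] [IsLocalization.AtPrime B q] :
    ∃ (Q' : Ideal (A ⊗[R] S)) (_ : Q'.IsPrime), Nonempty (Localization.AtPrime Q' ≃+* B) := by
  haveI hloc : IsLocalization (Algebra.algebraMapSubmonoid S p.primeCompl) (A ⊗[R] S) :=
    IsLocalization.tensorRight A p.primeCompl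
  have hdisj : Disjoint (Algebra.algebraMapSubmonoid S p.primeCompl : Set S) (q : Set S) := by
    rw [Set.disjoint_left]
    rintro _ ⟨r, hr, rfl⟩ hx
    exact hr ((Ideal.mem_of_liesOver q p r).mpr hx)
  haveI hq₁ : (q.map (algebraMap S (A ⊗[R] S))).IsPrime :=
    IsLocalization.isPrime_of_isPrime_disjoint (Algebra.algebraMapSubmonoid S p.primeCompl) _ q
      ‹_› hdisj
  have hcomap : (q.map (algebraMap S (A ⊗[R] S))).comap (algebraMap S (A ⊗[R] S)) = q :=
    IsLocalization.under_map_of_isPrime_disjoint (Algebra.algebraMapSubmonoid S p.primeCompl) _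
      ‹q.IsPrime› hdisj
  refine ⟨q.map (algebraMap S (A ⊗[R] S)), hq₁, ?_⟩
  haveI : IsScalarTower S (A ⊗[R] S)
      (Localization.AtPrime (q.map (algebraMap S (A ⊗[R] S)))) := inferInstance
  haveI h1 : IsLocalization.AtPrime
      (Localization.AtPrime (q.map (algebraMap S (A ⊗[R] S))))
      ((q.map (algebraMap S (A ⊗[R] S))).comap (algebraMap S (A ⊗[R] S))) :=
    IsLocalization.isLocalization_isLocalization_atPrime_isLocalization
      (Algebra.algebraMapSubmonoid S p.primeCompl) _ _
  have hpc : ((q.map (algebraMap S (A ⊗[R] S))).comap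
      (algebraMap S (A ⊗[R] S))).primeCompl = q.primeCompl := by
    ext x
    rw [Ideal.mem_primeCompl_iff, Ideal.mem_primeCompl_iff]
    exact not_congr (by rw [hcomap])
  haveI h2 : IsLocalization q.primeCompl
      (Localization.AtPrime (q.map (algebraMap S (A ⊗[R] S)))) := by
    rw [← hpc]
    exact h1
  let e : Localization.AtPrime (q.map (algebraMap S (A ⊗[R] S))) ≃ₐ[S] B :=
    IsLocalization.algEquiv q.primeCompl _ _
  exact ⟨e.toRingEquiv⟩

/-- Ascent of reducedness along a smooth ring map, locally. -/
theorem isReduced_ascent (R S : Type u) [CommRing R] [CommRing S] [Algebra R S]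
    [Algebra.Smooth R S]
    (q : Ideal S) [q.IsPrime] (p : Ideal R) [p.IsPrime] [q.LiesOver p]
    (A : Type u) [CommRing A] [Algebra R A] [IsLocalization.AtPrime A p]
    (B : Type u) [CommRing B] [Algebra S B] [IsLocalization.AtPrime B q] [IsReduced A] :
    IsReduced B := by
  obtain ⟨Q', hQ', ⟨e⟩⟩ := exists_ringEquiv_baseChange R S q p A B
  haveI := hQ'
  haveI : IsReduced (Localization.AtPrime Q') :=
    isReduced_of_smooth A (A ⊗[R] S) Q' (Localization.AtPrime Q')
  exact isReduced_of_injective e.symm.toRingHom e.symm.injective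

/-- Ascent of normality along a smooth ring map, locally. -/
theorem isNormal_ascent (R S : Type u) [CommRing R] [CommRing S] [Algebra R S]
    [Algebra.Smooth R S]
    (q : Ideal S) [q.IsPrime] (p : Ideal R) [p.IsPrime] [q.LiesOver p]
    (A : Type u) [CommRing A] [Algebra R A] [IsLocalization.AtPrime A p]
    (B : Type u) [CommRing B] [Algebra S B] [IsLocalization.AtPrime B q] [IsDomain A]
    [IsIntegrallyClosed A] :
    IsDomain B ∧ IsIntegrallyClosed B := by
  obtain ⟨Q', hQ', ⟨e⟩⟩ := exists_ringEquiv_baseChange R S q p A B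
  haveI := hQ'
  obtain ⟨hd, hic⟩ := Groth.Agent.Lib.Helper8.SmoothNormal.isDomain_isIntegrallyClosed_of_smooth
    A (A ⊗[R] S) Q' (Localization.AtPrime Q')
  haveI := hd
  haveI := hic
  exact ⟨MulEquiv.isDomain _ e.symm.toMulEquiv, IsIntegrallyClosed.of_equiv e⟩

end Groth.Agent.Lib.Helper22.SmoothNormalLoc
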