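import Mathlib
import Groth.Agent.Lib.Helper22.Samuel13

/-!
# Leading coefficients of Samuel functions: existence, positivity, and the bound by `ℓ(M/qM)`
-/

set_option autoImplicit false
set_option linter.unusedSectionVars false

universe u

namespace Groth.Agent.Lib.Helper22.HS

open Filter Topology

/-- `d! C(n,d) / n^d → 1`. -/
theorem tendsto_choose_div_pow (d : ℕ) :
    Tendsto (fun n : ℕ => (d.factorial : ℝ) * (n.choose d : ℝ) / (n : ℝ) ^ d) atTop (𝓝 1) := by
  have h := isEquivalent_choose d
  have hz : ∀ᶠ (n : ℕ) in atTop, ((n : ℝ) ^ d / (d.factorial : ℝ)) ≠ 0 := by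
    filter_upwards [eventually_ge_atTop 1] with n hn
    have : (0 : ℝ) < (n : ℝ) := by exact_mod_cast hn
    positivity
  rw [Asymptotics.isEquivalent_iff_tendsto_one hz] at h
  refine h.congr (fun n => ?_)
  simp only [Pi.div_apply]
  rw [div_div_eq_mul_div, mul_comm]

/-- `d! C(n+j,d) / n^d → 1`. -/
theorem tendsto_choose_add_div_pow (d j : ℕ) :
    Tendsto (fun n : ℕ => (d.factorial : ℝ) * ((n + j).choose d : ℝ) / (n : ℝ) ^ d) atTop
      (𝓝 1) := by
  have h1 := (tendsto_choose_div_pow d).comp (tendsto_add_atTop_nat j)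
  have h2 : Tendsto (fun n : ℕ => (1 + (j : ℝ) / (n : ℝ)) ^ d) atTop (𝓝 1) := by
    have := ((tendsto_const_div_atTop_nhds_zero_nat (j : ℝ)).const_add (1 : ℝ)).pow d
    simpa using this
  have h3 := h1.mul h2
  rw [mul_one] at h3
  refine h3.congr' ?_
  filter_upwards [eventually_ge_atTop 1] with n hn
  have hn0 : (n : ℝ) ≠ 0 := by
    have : (0 : ℝ) < (n : ℝ) := by exact_mod_cast hn
    exact this.ne'
  have hnj : ((n : ℝ) + (j : ℝ)) ≠ 0 := by positivity
  simp only [Function.comp_apply]
  push_cast
  have : (1 + (j : ℝ) / (n : ℝ)) = ((n : ℝ) + (j : ℝ)) / (n : ℝ) := by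
    field_simp
  rw [this, div_pow]
  field_simp

/-- an eventually polynomial sequence of degree `≤ d` has a leading coefficient. -/
theorem EvPoly.tendsto_leading {d : ℕ} {f : ℕ → ℤ} (hf : EvPoly (d + 1) f) :
    ∃ c : ℤ, Tendsto (fun n : ℕ => (d.factorial : ℝ) * (f n : ℝ) / (n : ℝ) ^ d) atTop
      (𝓝 (c : ℝ)) ∧ (c = 0 → EvPoly d f) := by
  obtain ⟨N, hN⟩ := hf
  set h : ℕ → ℤ := (fwdDiff 1)^[d] f with hh
  have hconst : ∀ n, N ≤ n → h n = h N := by
    intro n hn
    induction n, hn using Nat.le_induction with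
    | base => rfl
    | succ n hn ih =>
      have h1 : fwdDiff 1 h n = 0 := by
        have := hN n hn
        rwa [Function.iterate_succ_apply'] at this
      rw [fwdDiff] at h1
      rw [← ih]
      linarith
  set c : ℤ := h N with hc
  refine ⟨c, ?_, ?_⟩
  · set g : ℕ → ℤ := f - c • (fun x : ℕ => (x.choose d : ℤ)) with hg
    have hgE : EvPoly d g := by
      refine ⟨N, fun n hn => ?_⟩
      have h0 := fwdDiff_iter_choose 0 d
      rw [add_zero] at h0
      rw [hg, fwdDiff_iter_sub, fwdDiff_iter_const_smul, h0, Pi.sub_apply, ← hh, hconst n hn]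
      simp [hc]
    have h1 := (Groth.Agent.Lib.Helper22.Samuel.tendsto_div_pow_of_evPoly hgE).const_mul (d.factorial : ℝ)
    have h2 := (tendsto_choose_div_pow d).const_mul (c : ℝ)
    have h3 := h1.add h2
    rw [mul_zero, zero_add, mul_one] at h3
    refine h3.congr (fun n => ?_)
    simp only [hg, Pi.sub_apply, Pi.smul_apply, smul_eq_mul]
    push_cast
    ring
  · intro hc0
    refine ⟨N, fun n hn => ?_⟩
    show h n = 0
    rw [hconst n hn]
    exact hc0

end Groth.Agent.Lib.Helper22.HS

namespace Groth.Agent.Lib.Helper22.Samuel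

open Groth.Agent.Lib.Helper22.HS Module PrimeSpectrum Order Filter Topology Pointwise

variable {A : Type u} [CommRing A] [IsNoetherianRing A] (I : Ideal A) [IsArtinianRing (A ⧸ I)]

/-- the normalized Samuel function of a module of dimension `≤ d` converges to an integer. -/
theorem exists_tendsto_nchi (N : Type u) [AddCommGroup N] [Module A N] [Module.Finite A N]
    (d : ℕ) (hd : supportDim A N ≤ (d : WithBot ℕ∞)) :
    ∃ c : ℤ, Tendsto (nchi I d N) atTop (𝓝 (c : ℝ)) ∧ (c = 0 → EvPoly d (chi I N)) :=
  (evPoly_chi_of_le I N hd).tendsto_leading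

lemma nchi_nonneg (N : Type u) [AddCommGroup N] [Module A N] (d n : ℕ) : 0 ≤ nchi I d N n := by
  simp only [nchi]
  have : (0 : ℝ) ≤ (chi I N n : ℝ) := by
    simp only [chi]
    exact_mod_cast Int.natCast_nonneg _
  positivity

/-- the multiplicity of a module of dimension exactly `d` is positive. -/
theorem one_le_of_supportDim_eq (hIJ : I ≤ Ring.jacobson A) (N : Type u) [AddCommGroup N]
    [Module A N] [Module.Finite A N] (d : ℕ) (hd : supportDim A N = (d : WithBot ℕ∞)) (c : ℤ)
    (hc : Tendsto (nchi I d N) atTop (𝓝 (c : ℝ))) (hc0 : c = 0 → EvPoly d (chi I N)) :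
    1 ≤ c := by
  have h0 : (0 : ℝ) ≤ (c : ℝ) :=
    ge_of_tendsto' hc (fun n => nchi_nonneg I N d n)
  have h0' : 0 ≤ c := by exact_mod_cast h0
  rcases h0'.lt_or_eq with h | h
  · omega
  · exfalso
    have hE := hc0 h.symm
    rcases d with _ | d'
    · have := subsingleton_of_evPoly_zero I hIJ N hE
      rw [Module.supportDim_eq_bot_of_subsingleton] at hd
      simp at hd
    · have := supportDim_le_of_evPoly I hIJ d' N hE
      rw [hd] at this
      have h2 : ((d' + 1 : ℕ) : ℕ∞) ≤ (d' : ℕ∞) := by exact_mod_cast this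
      have h3 : d' + 1 ≤ d' := by exact_mod_cast h2
      omega

/-- the Samuel function is bounded by `L · C(n+k,k)` if `I` is generated mod the annihilator by
`k` elements and `L` bounds the Samuel function of `M/(x)M`. -/
theorem chi_le_choose : ∀ (k : ℕ) (M : Type u) [AddCommGroup M] [Module A M] [Module.Finite A M]
    (x : Fin k → A) (_ : ∀ i, x i ∈ I) (L : ℤ)
    (_ : ∀ n, chi I (M ⧸ (Ideal.span (Set.range x) • (⊤ : Submodule A M))) n ≤ L) (n : ℕ),
    chi I M n ≤ L * ((n + k).choose k : ℤ) := by
  intro k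
  induction k with
  | zero =>
    intro M _ _ _ x hx L hL n
    have hbot : (Ideal.span (Set.range x) • (⊤ : Submodule A M)) = ⊥ := by
      rw [Set.range_eq_empty, Ideal.span_empty, Submodule.bot_smul]
    have e := Submodule.quotEquivOfEqBot _ hbot
    rw [Nat.choose_zero_right, Nat.cast_one, mul_one, ← chi_congr I e n]
    exact hL n
  | succ k ih =>
    intro M _ _ _ x hx L hL n
    set M' := QuotSMulTop (x 0) M with hM'
    set x' : Fin k → A := Fin.tail x with hx'
    set K' : Submodule A M' := Ideal.span (Set.range x') • (⊤ : Submodule A M') with hK'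
    set ψ : M →ₗ[A] (M' ⧸ K') := K'.mkQ.comp (x 0 • (⊤ : Submodule A M)).mkQ with hψ
    have hψs : Function.Surjective ψ :=
      (Submodule.mkQ_surjective _).comp (Submodule.mkQ_surjective _)
    have hker : Ideal.span (Set.range x) • (⊤ : Submodule A M) ≤ LinearMap.ker ψ := by
      rw [Submodule.smul_le]
      intro r hr m _
      induction hr using Submodule.span_induction with
      | mem r hr =>
        obtain ⟨i, rfl⟩ := hr
        rw [LinearMap.mem_ker]
        refine Fin.cases ?_ (fun j => ?_) i
        · rw [hψ, LinearMap.comp_apply]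
          have : (x 0 • (⊤ : Submodule A M)).mkQ (x 0 • m) = 0 := by
            rw [Submodule.mkQ_apply, Submodule.Quotient.mk_eq_zero]
            exact Submodule.smul_mem_pointwise_smul m (x 0) ⊤ Submodule.mem_top
          rw [this, map_zero]
        · rw [map_smul, hψ, LinearMap.comp_apply, ← map_smul, Submodule.mkQ_apply,
            Submodule.Quotient.mk_eq_zero]
          exact Submodule.smul_mem_smul (Ideal.subset_span ⟨j, rfl⟩) Submodule.mem_top
      | zero => simp
      | add a b _ _ ha hb => rw [add_smul]; exact Submodule.add_mem _ ha hb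
      | smul a b _ hb => rw [smul_eq_mul, mul_smul]; exact Submodule.smul_mem _ a hb
    set φ := Submodule.liftQ _ ψ hker with hφ
    have hφs : Function.Surjective φ := by
      intro y
      obtain ⟨m, rfl⟩ := hψs y
      exact ⟨Submodule.Quotient.mk m, by simp [hφ]⟩
    have hL' : ∀ n, chi I (M' ⧸ K') n ≤ L := fun n =>
      (chi_le_of_surjective I φ hφs n).trans (hL n)
    have ih' := ih M' x' (fun i => hx i.succ) L hL'
    have hL0 : 0 ≤ L := (chi_nonneg I _ 0).trans (hL 0)
    induction n with
    | zero =>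
      rw [chi_zero]
      positivity
    | succ n ihn =>
      have h1 := chi_succ_le_quotSMulTop I M (hx 0) n
      have h2 := ih' (n + 1)
      have hp : ((n + 1 + (k + 1)).choose (k + 1) : ℤ) =
          ((n + 1 + k).choose k : ℤ) + ((n + (k + 1)).choose (k + 1) : ℤ) := by
        have e1 : n + 1 + (k + 1) = (n + 1 + k) + 1 := by omega
        have e2 : n + (k + 1) = n + 1 + k := by omega
        rw [e1, Nat.choose_succ_succ, e2]
        push_cast
        ring
      rw [hp, mul_add]
      linarith

end Groth.Agent.Lib.Helper22.Samuel
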