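import Mathlib

/-!
# Division of power series over a field by order (helper22)
-/

set_option autoImplicit false
universe u

namespace Groth.Agent.Lib.Helper22.PSDiv

open PowerSeries

variable {k : Type u} [Field k]

theorem X_pow_dvd_of_le_order (p : PowerSeries k) (n : ℕ) (h : (n : ℕ∞) ≤ p.order) :
    (X : PowerSeries k) ^ n ∣ p := by
  rw [PowerSeries.X_pow_dvd_iff]
  intro m hm
  apply PowerSeries.coeff_of_lt_order
  exact lt_of_lt_of_le (by exact_mod_cast hm) h

theorem le_order_of_X_pow_dvd (p : PowerSeries k) (n : ℕ) (h : (X : PowerSeries k) ^ n ∣ p) :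
    (n : ℕ∞) ≤ p.order := by
  obtain ⟨q, rfl⟩ := h
  rw [PowerSeries.order_mul, PowerSeries.order_X_pow]
  exact le_self_add

/-- If `order q = l` and `l + c ≤ order p` then `p = r * q` with `c ≤ order r`. -/
theorem exists_mul_eq_of_order (p q : PowerSeries k) (l c : ℕ) (hq : q.order = (l : ℕ∞))
    (hp : ((l + c : ℕ) : ℕ∞) ≤ p.order) :
    ∃ r : PowerSeries k, p = r * q ∧ (c : ℕ∞) ≤ r.order := by
  have hq0 : q ≠ 0 := by
    intro h
    rw [h, PowerSeries.order_zero] at hq
    exact ENat.top_ne_natCast l hq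
  have hu : IsUnit (divXPowOrder q) := by
    rw [PowerSeries.isUnit_iff_constantCoeff, isUnit_iff_ne_zero]
    intro h
    exact hq0 (PowerSeries.constantCoeff_divXPowOrder_eq_zero_iff.mp h)
  have hqe : (X : PowerSeries k) ^ l * divXPowOrder q = q := by
    have := PowerSeries.X_pow_order_mul_divXPowOrder (f := q)
    rw [hq, ENat.toNat_natCast] at this
    exact this
  obtain ⟨p', hp'⟩ := X_pow_dvd_of_le_order p (l + c) hp
  obtain ⟨v, hv⟩ := hu.exists_left_inv
  refine ⟨X ^ c * p' * v, ?_, ?_⟩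
  · conv_rhs => rw [← hqe]
    calc p = X ^ (l + c) * p' := hp'
      _ = X ^ c * p' * (v * divXPowOrder q) * X ^ l := by rw [hv, pow_add]; ring
      _ = X ^ c * p' * v * (X ^ l * divXPowOrder q) := by ring
  · rw [mul_assoc]
    exact le_order_of_X_pow_dvd _ c (Dvd.intro _ rfl)

end Groth.Agent.Lib.Helper22.PSDiv
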