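import Mathlib
import Groth.Agent.Lib.Helper22.SmoothNormalLoc
import Groth.Agent.Lib.Helper29.NormalDescent

/-!
# Reducedness and normality of stalks along smooth morphisms (helper22)
-/

set_option autoImplicit false
set_option linter.style.haveILetI false
set_option linter.unusedSectionVars false
universe u
open AlgebraicGeometry CategoryTheory

namespace Groth.Agent.Lib.Helper22.SmoothNormalSch

theorem stalk_iff_of_smooth {X Y : Scheme.{u}} (g : X ⟶ Y) [Smooth g] (x : X) :
    (_root_.IsReduced (X.presheaf.stalk x) ↔ _root_.IsReduced (Y.presheaf.stalk (g.base x))) ∧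
    ((IsDomain (X.presheaf.stalk x) ∧ IsIntegrallyClosed (X.presheaf.stalk x)) ↔
      (IsDomain (Y.presheaf.stalk (g.base x)) ∧
        IsIntegrallyClosed (Y.presheaf.stalk (g.base x)))) := by
  -- descent via faithful flatness
  have hfl : (g.stalkMap x).hom.Flat := Flat.stalkMap g x
  have hdesc : (_root_.IsReduced (X.presheaf.stalk x) →
      _root_.IsReduced (Y.presheaf.stalk (g.base x))) ∧
      ((IsDomain (X.presheaf.stalk x) ∧ IsIntegrallyClosed (X.presheaf.stalk x)) →
      (IsDomain (Y.presheaf.stalk (g.base x)) ∧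
        IsIntegrallyClosed (Y.presheaf.stalk (g.base x)))) := by
    letI : Algebra (Y.presheaf.stalk (g.base x)) (X.presheaf.stalk x) :=
      (g.stalkMap x).hom.toAlgebra
    haveI : Module.Flat (Y.presheaf.stalk (g.base x)) (X.presheaf.stalk x) := hfl
    haveI : IsLocalHom (algebraMap (Y.presheaf.stalk (g.base x)) (X.presheaf.stalk x)) :=
      inferInstanceAs (IsLocalHom (g.stalkMap x).hom)
    haveI : Module.FaithfullyFlat (Y.presheaf.stalk (g.base x)) (X.presheaf.stalk x) :=
      Module.FaithfullyFlat.of_flat_of_isLocalHom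
    constructor
    · intro hX
      have hinj : Function.Injective
          (algebraMap (Y.presheaf.stalk (g.base x)) (X.presheaf.stalk x)) :=
        FaithfulSMul.algebraMap_injective _ _
      exact isReduced_of_injective _ hinj
    · rintro ⟨hd, hic⟩
      haveI := hd
      haveI := hic
      exact Groth.Agent.Lib.Helper29.NormalDescent.isDomain_and_isIntegrallyClosed
        (R := Y.presheaf.stalk (g.base x)) (S := X.presheaf.stalk x)
  -- ascent via charts
  obtain ⟨V, hV, W, hW, hxW, e, hss⟩ := Smooth.exists_isStandardSmooth g x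
  letI : Algebra Γ(Y, V) Γ(X, W) := (g.appLE V W e).hom.toAlgebra
  haveI hsm : Algebra.IsStandardSmooth Γ(Y, V) Γ(X, W) := hss
  haveI : Algebra.Smooth Γ(Y, V) Γ(X, W) := inferInstance
  set q := (hW.primeIdealOf ⟨x, hxW⟩).asIdeal with hq
  set p := (hV.primeIdealOf ⟨g.base x, e hxW⟩).asIdeal with hp
  have hqp : q.comap (algebraMap Γ(Y, V) Γ(X, W)) = p := by
    have := IsAffineOpen.comap_primeIdealOf_appLE (f := g) (x := x) V hV W hW e hxW
    exact congrArg PrimeSpectrum.asIdeal this
  haveI : q.LiesOver p := ⟨hqp.symm⟩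
  letI : Algebra Γ(X, W) (X.presheaf.stalk x) :=
    TopCat.Presheaf.algebra_section_stalk X.presheaf ⟨x, hxW⟩
  letI : Algebra Γ(Y, V) (Y.presheaf.stalk (g.base x)) :=
    TopCat.Presheaf.algebra_section_stalk Y.presheaf ⟨g.base x, e hxW⟩
  haveI : IsLocalization.AtPrime (X.presheaf.stalk x) q := hW.isLocalization_stalk ⟨x, hxW⟩
  haveI : IsLocalization.AtPrime (Y.presheaf.stalk (g.base x)) p :=
    hV.isLocalization_stalk ⟨g.base x, e hxW⟩
  refine ⟨⟨hdesc.1, fun h => ?_⟩, ⟨hdesc.2, fun h => ?_⟩⟩
  · haveI := h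
    exact Groth.Agent.Lib.Helper22.SmoothNormalLoc.isReduced_ascent Γ(Y, V) Γ(X, W) q p
      (Y.presheaf.stalk (g.base x)) (X.presheaf.stalk x)
  · obtain ⟨hd, hic⟩ := h
    haveI := hd
    haveI := hic
    exact Groth.Agent.Lib.Helper22.SmoothNormalLoc.isNormal_ascent Γ(Y, V) Γ(X, W) q p
      (Y.presheaf.stalk (g.base x)) (X.presheaf.stalk x)

end Groth.Agent.Lib.Helper22.SmoothNormalSch
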