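import Mathlib
import Groth.Agent.Lib.Helper25.RegPerfectSmooth

/-!
# A regular point of a scheme locally of finite type over a perfect field is a smooth point
(helper22)
-/

set_option autoImplicit false
set_option maxHeartbeats 1600000
set_option linter.style.haveILetI false
universe u

open CategoryTheory AlgebraicGeometry

namespace Groth.Agent.Lib.Helper22.RegPerfSm

set_option backward.isDefEq.respectTransparency false in
theorem mem_smoothLocus_of_isRegularLocalRing (K : Type u) [Field K] [PerfectField K]
    {X : Scheme.{u}} (f : X ⟶ Spec (.of K)) [LocallyOfFinitePresentation f] (x : X)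
    (hreg : IsRegularLocalRing (X.presheaf.stalk x)) : x ∈ f.smoothLocus := by
  have := LocallyOfFiniteType.stalkMap f x
  rw [Scheme.Hom.mem_smoothLocus]
  algebraize [(f.stalkMap x).hom]
  let K' := (Spec.structureSheaf K).presheaf.stalk (f x)
  let e : K ≃ₐ[K] K' := IsLocalization.atUnits _ (f x).asIdeal.primeCompl
      (fun x hx ↦ by aesop (add simp IsUnit.mem_submonoid_iff))
  have : Algebra.IsAlgebraic K K' :=
    .of_injective e.symm.toAlgHom e.symm.injective
  let : Field K' := (e.toRingEquiv.symm.isField (Field.toIsField K)).toField
  let : Field ((Spec (.of K)).presheaf.stalk (f x)) := this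
  have : PerfectField ((Spec (.of K)).presheaf.stalk (f x)) :=
    Algebra.IsAlgebraic.perfectField (K := K)
      (L := (Spec.structureSheaf K).presheaf.stalk (f x))
  exact Groth.Agent.Lib.Helper25.RegPerfectSmooth.formallySmooth_of_isRegularLocalRing_of_perfectField
    _ _ hreg

theorem smooth_of_forall_isRegularLocalRing (K : Type u) [Field K] [PerfectField K]
    {X : Scheme.{u}} (f : X ⟶ Spec (.of K)) [LocallyOfFinitePresentation f]
    (hreg : ∀ x : X, IsRegularLocalRing (X.presheaf.stalk x)) : Smooth f := by
  rw [← Scheme.Hom.smoothLocus_eq_top_iff, ← top_le_iff]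
  rintro y -
  exact mem_smoothLocus_of_isRegularLocalRing K f y (hreg y)

end Groth.Agent.Lib.Helper22.RegPerfSm
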