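import Mathlib
import Groth.Agent.Lib.Helper4.CMLoc
import Groth.Agent.Lib.Helper4.LocTrans
import Groth.Agent.Lib.Helper4.FlatFibre

set_option autoImplicit false
set_option linter.style.haveILetI false
set_option linter.unusedSectionVars false

/-!
# Localizations of Cohen–Macaulay local rings are Cohen–Macaulay
-/

universe u

namespace Groth.Agent.Lib.Helper22.CMLocalize

open Groth.Agent.Lib.Helper4 Groth.Agent.Lib.Helper4.FlatFibre

theorem isCohenMacaulayLocalRing_localization_atPrime (R : Type u) [CommRing R]
    [hR : LocCoh.IsCohenMacaulayLocalRing R] (p : Ideal R) [hp : p.IsPrime] :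
    LocCoh.IsCohenMacaulayLocalRing (Localization.AtPrime p) := by
  haveI : IsNoetherianRing R := inferInstance
  haveI : IsLocalRing R := inferInstance
  haveI : IsNoetherianRing (Localization.AtPrime p) :=
    IsLocalization.isNoetherianRing p.primeCompl _ inferInstance
  have hM : LocCoh.IsCohenMacaulayModule R R := hR.supportDim_eq_depth
  have hsupp : (⟨p, hp⟩ : PrimeSpectrum R) ∈ Module.support R R := by
    rw [Module.mem_support_iff_of_finite]
    intro a ha
    have := Module.mem_annihilator.mp ha (1 : R)
    rw [smul_eq_mul, mul_one] at this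
    rw [this]
    exact zero_mem _
  have h := cm_localizedModule hM ⟨p, hp⟩ hsupp
  have h1 := LocTrans.depth_supportDim_of_isLocalizedModule p (Localization.AtPrime p)
    (Localization.AtPrime p) (Algebra.linearMap R (Localization.AtPrime p))
  refine { supportDim_eq_depth := ?_ }
  rw [h1.1, h1.2]
  exact h

theorem isCohenMacaulayLocalRing_of_ringEquiv {X Y : Type u} [CommRing X] [CommRing Y]
    (e : X ≃+* Y) [hX : LocCoh.IsCohenMacaulayLocalRing X] : LocCoh.IsCohenMacaulayLocalRing Y := by
  haveI : IsNoetherianRing X := inferInstance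
  haveI : IsLocalRing X := inferInstance
  haveI : IsNoetherianRing Y := isNoetherianRing_of_ringEquiv X e
  haveI : IsLocalRing Y := e.isLocalRing
  rw [isCohenMacaulayLocalRing_iff_closedCM] at hX ⊢
  exact closedCM_of_ringEquiv X Y e hX

end Groth.Agent.Lib.Helper22.CMLocalize
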