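import Mathlib
import Groth.Agent.Lib.Helper14.SkTensor
import Groth.Agent.Lib.Helper14.CMFlat
import Groth.Agent.Lib.Helper26.RegularSch
import Groth.Agent.Lib.Helper26.RegularNormal
import Groth.Agent.Lib.Helper4.FlatFibre
import Groth.Agent.S2608
import Groth.Agent.S2609

/-!
# `(S_k)` and `(R_k)` along standard smooth ring maps (helper22)
-/

set_option autoImplicit false
set_option linter.style.haveILetI false
set_option linter.unusedSectionVars false
universe u
open IsLocalRing TensorProduct

namespace Groth.Agent.Lib.Helper22.SmoothSkRk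

section alg

variable (R S : Type u) [CommRing R] [CommRing S] [Algebra R S] [IsNoetherianRing R]
  [IsNoetherianRing S] [Algebra.IsStandardSmooth R S]

/-- The fibres of a standard smooth algebra are regular rings. -/
theorem isRegularRing_fiber (P : Ideal R) [P.IsPrime] : IsRegularRing (P.Fiber S) := by
  haveI : IsNoetherianRing (P.Fiber S) :=
    Groth.Agent.Lib.Helper4.FlatFibre.isNoetherianRing_fiber R S P
  haveI : Algebra.IsStandardSmooth P.ResidueField (P.Fiber S) :=
    inferInstanceAs (Algebra.IsStandardSmooth P.ResidueField (P.ResidueField ⊗[R] S))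
  refine ⟨fun 𝔮 _ => ?_⟩
  exact Groth.Agent.Lib.Helper26.RegularSch.isRegularLocalRing_atPrime_of_isStandardSmooth
    (algebraMap P.ResidueField (P.Fiber S))
    (RingHom.isStandardSmooth_algebraMap.mpr inferInstance) 𝔮

theorem isRegularLocalRing_fibLocRing (q : Ideal S) [q.IsPrime] :
    IsRegularLocalRing (EGA4.FibLocRing R S q) := by
  haveI : (q.comap (algebraMap R S)).IsPrime := Ideal.IsPrime.comap _
  have h := (Groth.Agent.Lib.Helper4.FlatFibre.forall_fiber_localization_iff R S
    (q.comap (algebraMap R S)) (fun X _ => IsRegularLocalRing X)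
    (fun X Y _ _ e hX => by haveI := hX; exact IsRegularLocalRing.of_ringEquiv e)).mp
  refine h (fun 𝔮 _ => ?_) q rfl
  haveI := isRegularRing_fiber R S (q.comap (algebraMap R S))
  infer_instance

theorem hasSk_atPrime_iff (n : ℕ) (q : Ideal S) [q.IsPrime] :
    LocCoh.HasSk n (Localization.AtPrime q) (Localization.AtPrime q) ↔
      LocCoh.HasSk n (Localization.AtPrime (q.comap (algebraMap R S)))
        (Localization.AtPrime (q.comap (algebraMap R S))) := by
  haveI : (q.comap (algebraMap R S)).IsPrime := Ideal.IsPrime.comap _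
  haveI : Module.Flat R S := inferInstance
  rw [← Groth.Agent.Lib.Helper14.CMFieldBC.hasSkAt_self_iff_hasSk,
    ← Groth.Agent.Lib.Helper14.CMFieldBC.hasSkAt_self_iff_hasSk]
  refine (Groth.Agent.Lib.Helper14.CMFieldBC.hasSkAt_iff R S (fun P _ => ?_) n q).symm
  haveI := isRegularRing_fiber R S P
  exact Groth.Agent.Lib.Helper14.CMFlat.cm_of_isRegularRing _

theorem hasRk_atPrime_iff (n : ℕ) (q : Ideal S) [q.IsPrime] :
    LocCoh.HasRk n (Localization.AtPrime q) ↔
      LocCoh.HasRk n (Localization.AtPrime (q.comap (algebraMap R S))) := by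
  haveI : (q.comap (algebraMap R S)).IsPrime := Ideal.IsPrime.comap _
  haveI : Module.Flat R S := inferInstance
  constructor
  · intro h
    exact Groth.Agent.S2608.result n R S q h
  · intro h
    refine Groth.Agent.S2609.result n R S (fun r _ => ?_) q h
    haveI := isRegularLocalRing_fibLocRing R S r
    haveI := Groth.Agent.Lib.Helper26.RegularRing.isRegularRing_of_isRegularLocalRing
      (EGA4.FibLocRing R S r)
    exact Groth.Agent.Lib.Helper26.RegularNormal.hasRk_of_isRegularRing _ n

end alg

theorem hasRk_of_ringEquiv {X Y : Type u} [CommRing X] [CommRing Y] (e : X ≃+* Y) (n : ℕ)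
    (h : LocCoh.HasRk n X) : LocCoh.HasRk n Y := by
  intro q' _ hq'
  set q := q'.comap (e : X →+* Y) with hq
  haveI : q.IsPrime := Ideal.IsPrime.comap _
  have H : Submonoid.map (e : X →* Y) q.primeCompl = q'.primeCompl := by
    ext y
    constructor
    · rintro ⟨z, hz, rfl⟩
      exact hz
    · intro hy
      refine ⟨e.symm y, ?_, by simp⟩
      show e.symm y ∉ q
      rw [hq, Ideal.mem_comap]
      simpa using hy
  have hht : q.height = q'.height := RingEquiv.height_comap e q'
  haveI := h q (hht ▸ hq')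
  exact IsRegularLocalRing.of_ringEquiv
    (IsLocalization.ringEquivOfRingEquiv (Localization.AtPrime q) (Localization.AtPrime q') e H)

section sch

open AlgebraicGeometry CategoryTheory

theorem stalk_iff_of_smooth {X Y : Scheme.{u}} (g : X ⟶ Y) [Smooth g] [IsLocallyNoetherian Y]
    (x : X) (n : ℕ) :
    (LocCoh.HasSk n (X.presheaf.stalk x) (X.presheaf.stalk x) ↔
        LocCoh.HasSk n (Y.presheaf.stalk (g.base x)) (Y.presheaf.stalk (g.base x))) ∧
      (LocCoh.HasRk n (X.presheaf.stalk x) ↔ LocCoh.HasRk n (Y.presheaf.stalk (g.base x))) := by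
  obtain ⟨V, hV, W, hW, hxW, e, hss⟩ := Smooth.exists_isStandardSmooth g x
  haveI : IsNoetherianRing Γ(Y, V) := IsLocallyNoetherian.component_noetherian ⟨V, hV⟩
  letI : Algebra Γ(Y, V) Γ(X, W) := (g.appLE V W e).hom.toAlgebra
  haveI hsm : Algebra.IsStandardSmooth Γ(Y, V) Γ(X, W) := hss
  haveI : IsNoetherianRing Γ(X, W) := Algebra.FiniteType.isNoetherianRing Γ(Y, V) Γ(X, W)
  haveI : IsLocallyNoetherian X := LocallyOfFiniteType.isLocallyNoetherian g
  set q := (hW.primeIdealOf ⟨x, hxW⟩).asIdeal with hq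
  set p := (hV.primeIdealOf ⟨g.base x, e hxW⟩).asIdeal with hp
  have hqp : q.comap (algebraMap Γ(Y, V) Γ(X, W)) = p := by
    have := IsAffineOpen.comap_primeIdealOf_appLE (f := g) (x := x) V hV W hW e hxW
    exact congrArg PrimeSpectrum.asIdeal this
  letI : Algebra Γ(X, W) (X.presheaf.stalk x) :=
    TopCat.Presheaf.algebra_section_stalk X.presheaf ⟨x, hxW⟩
  letI : Algebra Γ(Y, V) (Y.presheaf.stalk (g.base x)) :=
    TopCat.Presheaf.algebra_section_stalk Y.presheaf ⟨g.base x, e hxW⟩
  haveI : IsLocalization.AtPrime (X.presheaf.stalk x) q := hW.isLocalization_stalk ⟨x, hxW⟩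
  haveI : IsLocalization.AtPrime (Y.presheaf.stalk (g.base x)) p :=
    hV.isLocalization_stalk ⟨g.base x, e hxW⟩
  let eX : Localization.AtPrime q ≃+* X.presheaf.stalk x :=
    (IsLocalization.algEquiv q.primeCompl (Localization.AtPrime q)
      (X.presheaf.stalk x)).toRingEquiv
  let eY : Localization.AtPrime p ≃+* Y.presheaf.stalk (g.base x) :=
    (IsLocalization.algEquiv p.primeCompl (Localization.AtPrime p)
      (Y.presheaf.stalk (g.base x))).toRingEquiv
  have h1 := hasSk_atPrime_iff Γ(Y, V) Γ(X, W) n q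
  have h2 := hasRk_atPrime_iff Γ(Y, V) Γ(X, W) n q
  have hcongr : ∀ (P P' : Ideal Γ(Y, V)) [P.IsPrime] [P'.IsPrime], P = P' →
      ((LocCoh.HasSk n (Localization.AtPrime P) (Localization.AtPrime P) ↔
        LocCoh.HasSk n (Localization.AtPrime P') (Localization.AtPrime P')) ∧
      (LocCoh.HasRk n (Localization.AtPrime P) ↔ LocCoh.HasRk n (Localization.AtPrime P'))) := by
    intro P P' _ _ h
    subst h
    exact ⟨Iff.rfl, Iff.rfl⟩
  haveI : (q.comap (algebraMap Γ(Y, V) Γ(X, W))).IsPrime := Ideal.IsPrime.comap _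
  obtain ⟨h3, h4⟩ := hcongr _ _ hqp
  constructor
  · constructor
    · intro h
      exact Groth.Agent.Lib.Helper14.SkTensor.hasSk_self_of_ringEquiv eY n
        (h3.mp (h1.mp (Groth.Agent.Lib.Helper14.SkTensor.hasSk_self_of_ringEquiv eX.symm n h)))
    · intro h
      exact Groth.Agent.Lib.Helper14.SkTensor.hasSk_self_of_ringEquiv eX n
        (h1.mpr (h3.mpr (Groth.Agent.Lib.Helper14.SkTensor.hasSk_self_of_ringEquiv eY.symm n h)))
  · constructor
    · intro h
      exact hasRk_of_ringEquiv eY n (h4.mp (h2.mp (hasRk_of_ringEquiv eX.symm n h)))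
    · intro h
      exact hasRk_of_ringEquiv eX n (h2.mpr (h4.mpr (hasRk_of_ringEquiv eY.symm n h)))

end sch

end Groth.Agent.Lib.Helper22.SmoothSkRk
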