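/-
Helper22 library: (S_k) and Cohen–Macaulayness along syntomic morphisms.
-/
import Mathlib
import Groth.Agent.Lib.Helper22.SmoothSkRk
import Groth.Agent.Lib.Helper22.CMLocalize
import Groth.Agent.Lib.Helper14.CMFieldBC
import Groth.Agent.Lib.Helper6.LciCM
import Groth.Agent.Lib.Helper16.NoethDescent
import Groth.Agent.Lib.Helper24.SyntLocalSch

set_option autoImplicit false
set_option linter.style.haveILetI false
set_option linter.unusedSectionVars false
universe u
open IsLocalRing TensorProduct Groth.Agent.Lib.Helper4 Groth.Agent.Lib.Helper4.FlatRing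
  Groth.Agent.Lib.Helper4.FlatFibre

namespace Groth.Agent.Lib.Helper22.SyntCM

section alg

variable (R S : Type u) [CommRing R] [CommRing S] [Algebra R S] [IsNoetherianRing R]
  [IsNoetherianRing S]

theorem cm_fiber (h : Synt.IsSyntomic R S) (P : Ideal R) [hP : P.IsPrime] :
    LocCoh.IsCohenMacaulayRing (P.Fiber S) :=
  Groth.Agent.Lib.Helper6.LciCM.main _ _ (h.2.2 ⟨P, hP⟩)

theorem hasSk_atPrime_iff (h : Synt.IsSyntomic R S) (n : ℕ) (q : Ideal S) [q.IsPrime] :
    LocCoh.HasSk n (Localization.AtPrime q) (Localization.AtPrime q) ↔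
      LocCoh.HasSk n (Localization.AtPrime (q.comap (algebraMap R S)))
        (Localization.AtPrime (q.comap (algebraMap R S))) := by
  haveI : (q.comap (algebraMap R S)).IsPrime := Ideal.IsPrime.comap _
  haveI : Module.Flat R S := h.1
  rw [← Groth.Agent.Lib.Helper14.CMFieldBC.hasSkAt_self_iff_hasSk,
    ← Groth.Agent.Lib.Helper14.CMFieldBC.hasSkAt_self_iff_hasSk]
  exact (Groth.Agent.Lib.Helper14.CMFieldBC.hasSkAt_iff R S
    (fun P _ => cm_fiber R S h P) n q).symm

theorem cm_atPrime_iff (h : Synt.IsSyntomic R S) (q : Ideal S) [q.IsPrime] :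
    LocCoh.IsCohenMacaulayLocalRing (Localization.AtPrime q) ↔
      LocCoh.IsCohenMacaulayLocalRing (Localization.AtPrime (q.comap (algebraMap R S))) := by
  haveI : (q.comap (algebraMap R S)).IsPrime := Ideal.IsPrime.comap _
  haveI : Module.Flat R S := h.1
  obtain ⟨c, hc, h1, h2⟩ := Groth.Agent.Lib.Helper14.CMFieldBC.local_formulas_of_cm_fibre R S q
    (cm_fiber R S h _)
  haveI : IsNoetherianRing (Localization.AtPrime q) :=
    IsLocalization.isNoetherianRing q.primeCompl _ inferInstance
  haveI : IsNoetherianRing (Localization.AtPrime (q.comap (algebraMap R S))) :=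
    IsLocalization.isNoetherianRing (q.comap (algebraMap R S)).primeCompl _ inferInstance
  rw [isCohenMacaulayLocalRing_iff_closedCM, isCohenMacaulayLocalRing_iff_closedCM]
  constructor
  · intro hq _
    have h' : (maximalIdeal (Localization.AtPrime q)).height =
        LocCoh.depth (Localization.AtPrime q) (Localization.AtPrime q) := hq
    rw [SerreNormal.height_maximalIdeal_atPrime, h1, h2] at h'
    rw [SerreNormal.height_maximalIdeal_atPrime]
    exact ENat.add_left_injective_of_ne_top hc h'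
  · intro hp _
    have h' : (maximalIdeal (Localization.AtPrime (q.comap (algebraMap R S)))).height =
        LocCoh.depth (Localization.AtPrime (q.comap (algebraMap R S)))
          (Localization.AtPrime (q.comap (algebraMap R S))) := hp
    rw [SerreNormal.height_maximalIdeal_atPrime] at h' ⊢
    rw [h1, h2, h']

end alg

section sch

open AlgebraicGeometry CategoryTheory Limits
open Groth.Agent.Lib.Helper24.SyntLocalSch

theorem lfp_of_isSyntomicMor {X S : Scheme.{u}} (f : X ⟶ S) (h : Synt.IsSyntomicMor f) :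
    LocallyOfFinitePresentation f := by
  rw [HasRingHomProperty.iff_appLE (P := @LocallyOfFinitePresentation)]
  intro V U e
  exact ((isSyntomicMor_iff_forall_affineOpens f).mp h U V e).2.1

theorem flat_of_isSyntomicMor {X S : Scheme.{u}} (f : X ⟶ S) (h : Synt.IsSyntomicMor f) :
    Flat f := by
  rw [HasRingHomProperty.iff_appLE (P := @Flat)]
  intro V U e
  exact ((isSyntomicMor_iff_forall_affineOpens f).mp h U V e).1

theorem stalk_iff_of_isSyntomicAt {X Y : Scheme.{u}} (g : X ⟶ Y) [IsLocallyNoetherian Y]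
    (x : X) (hx : Synt.IsSyntomicAt g x) (n : ℕ) :
    (LocCoh.HasSk n (X.presheaf.stalk x) (X.presheaf.stalk x) ↔
        LocCoh.HasSk n (Y.presheaf.stalk (g.base x)) (Y.presheaf.stalk (g.base x))) ∧
      (LocCoh.IsCohenMacaulayLocalRing (X.presheaf.stalk x) ↔
        LocCoh.IsCohenMacaulayLocalRing (Y.presheaf.stalk (g.base x))) := by
  obtain ⟨⟨W, hW⟩, ⟨V, hV⟩, e, hxW, hsyn⟩ := hx
  haveI : IsNoetherianRing Γ(Y, V) := IsLocallyNoetherian.component_noetherian ⟨V, hV⟩
  letI : Algebra Γ(Y, V) Γ(X, W) := (g.appLE V W e).hom.toAlgebra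
  have hsyn' : Synt.IsSyntomic Γ(Y, V) Γ(X, W) := hsyn
  haveI : Algebra.FinitePresentation Γ(Y, V) Γ(X, W) := hsyn'.2.1
  haveI : IsNoetherianRing Γ(X, W) := Algebra.FiniteType.isNoetherianRing Γ(Y, V) Γ(X, W)
  set q := (hW.primeIdealOf ⟨x, hxW⟩).asIdeal with hq
  set p := (hV.primeIdealOf ⟨g.base x, e hxW⟩).asIdeal with hp
  have hqp : q.comap (algebraMap Γ(Y, V) Γ(X, W)) = p := by
    have := IsAffineOpen.comap_primeIdealOf_appLE (f := g) (x := x) V hV W hW e hxW
    exact congrArg PrimeSpectrum.asIdeal this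
  letI : Algebra Γ(X, W) (X.presheaf.stalk x) :=
    TopCat.Presheaf.algebra_section_stalk X.presheaf ⟨x, hxW⟩
  letI : Algebra Γ(Y, V) (Y.presheaf.stalk (g.base x)) :=
    TopCat.Presheaf.algebra_section_stalk Y.presheaf ⟨g.base x, e hxW⟩
  haveI : IsLocalization.AtPrime (X.presheaf.stalk x) q := hW.isLocalization_stalk ⟨x, hxW⟩
  haveI : IsLocalization.AtPrime (Y.presheaf.stalk (g.base x)) p :=
    hV.isLocalization_stalk ⟨g.base x, e hxW⟩
  haveI : IsNoetherianRing (X.presheaf.stalk x) :=
    IsLocalization.isNoetherianRing q.primeCompl _ inferInstance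
  let eX : Localization.AtPrime q ≃+* X.presheaf.stalk x :=
    (IsLocalization.algEquiv q.primeCompl (Localization.AtPrime q)
      (X.presheaf.stalk x)).toRingEquiv
  let eY : Localization.AtPrime p ≃+* Y.presheaf.stalk (g.base x) :=
    (IsLocalization.algEquiv p.primeCompl (Localization.AtPrime p)
      (Y.presheaf.stalk (g.base x))).toRingEquiv
  have h1 := hasSk_atPrime_iff Γ(Y, V) Γ(X, W) hsyn' n q
  have h2 := cm_atPrime_iff Γ(Y, V) Γ(X, W) hsyn' q
  have hcongr : ∀ (P P' : Ideal Γ(Y, V)) [P.IsPrime] [P'.IsPrime], P = P' →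
      ((LocCoh.HasSk n (Localization.AtPrime P) (Localization.AtPrime P) ↔
        LocCoh.HasSk n (Localization.AtPrime P') (Localization.AtPrime P')) ∧
      (LocCoh.IsCohenMacaulayLocalRing (Localization.AtPrime P) ↔
        LocCoh.IsCohenMacaulayLocalRing (Localization.AtPrime P'))) := by
    intro P P' _ _ h
    subst h
    exact ⟨Iff.rfl, Iff.rfl⟩
  haveI : (q.comap (algebraMap Γ(Y, V) Γ(X, W))).IsPrime := Ideal.IsPrime.comap _
  obtain ⟨h3, h4⟩ := hcongr _ _ hqp
  constructor
  · constructor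
    · intro h
      exact Groth.Agent.Lib.Helper14.SkTensor.hasSk_self_of_ringEquiv eY n
        (h3.mp (h1.mp (Groth.Agent.Lib.Helper14.SkTensor.hasSk_self_of_ringEquiv eX.symm n h)))
    · intro h
      exact Groth.Agent.Lib.Helper14.SkTensor.hasSk_self_of_ringEquiv eX n
        (h1.mpr (h3.mpr (Groth.Agent.Lib.Helper14.SkTensor.hasSk_self_of_ringEquiv eY.symm n h)))
  · constructor
    · intro h
      haveI := h
      haveI := Groth.Agent.Lib.Helper22.CMLocalize.isCohenMacaulayLocalRing_of_ringEquiv eX.symm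
      haveI := h4.mp (h2.mp inferInstance)
      exact Groth.Agent.Lib.Helper22.CMLocalize.isCohenMacaulayLocalRing_of_ringEquiv eY
    · intro h
      haveI := h
      haveI := Groth.Agent.Lib.Helper22.CMLocalize.isCohenMacaulayLocalRing_of_ringEquiv eY.symm
      haveI := h2.mpr (h4.mpr inferInstance)
      exact Groth.Agent.Lib.Helper22.CMLocalize.isCohenMacaulayLocalRing_of_ringEquiv eX

theorem isLocallyNoetherian_of_family {ι : Type u} {S : Scheme.{u}} {X : ι → Scheme.{u}}
    (f : ∀ i, X i ⟶ S) (hsurj : ∀ s : S, ∃ i, s ∈ Set.range (f i).base)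
    (hsyn : ∀ i, Synt.IsSyntomicMor (f i)) (hX : ∀ i, IsLocallyNoetherian (X i)) :
    IsLocallyNoetherian S := by
  haveI : ∀ i, Flat (f i) := fun i => flat_of_isSyntomicMor _ (hsyn i)
  haveI : ∀ i, LocallyOfFinitePresentation (f i) := fun i => lfp_of_isSyntomicMor _ (hsyn i)
  haveI : Flat (Sigma.desc f) :=
    IsZariskiLocalAtSource.sigmaDesc (P := @Flat) (fun i => inferInstance)
  haveI : LocallyOfFinitePresentation (Sigma.desc f) :=
    IsZariskiLocalAtSource.sigmaDesc (P := @LocallyOfFinitePresentation) (fun i => inferInstance)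
  haveI : Surjective (Sigma.desc f) := ⟨fun s => by
    obtain ⟨i, x, hx⟩ := hsurj s
    refine ⟨(Sigma.ι X i).base x, ?_⟩
    rw [← Scheme.Hom.comp_apply, Sigma.ι_desc]
    exact hx⟩
  haveI : IsLocallyNoetherian (∐ X) :=
    (isLocallyNoetherian_iff_openCover (sigmaOpenCover X)).mpr (fun i => hX i)
  exact Groth.Agent.Lib.Helper16.isLocallyNoetherian_of_fppf_surjective (Sigma.desc f)

end sch

end Groth.Agent.Lib.Helper22.SyntCM
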