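import Mathlib
import Groth.Prelude.Def_LCI2
import Groth.Agent.Lib.Helper5.RegSeqSpread
import Groth.Agent.Lib.Helper5.RegQuot
import Groth.Agent.Lib.Helper1.SecReg
import Groth.Agent.Lib.Helper26.RegularSmooth
import Groth.Agent.Lib.Helper26.RegularSch

/-!
# Helper22: an ideal of a regular ring with regular quotient is Koszul-regular
-/

set_option autoImplicit false
universe u

open CategoryTheory AlgebraicGeometry RingTheory.Sequence

namespace Groth.Agent.Lib.Helper22.KoszRegQuot

open Groth.Agent.Lib.Helper5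

/-- Spreading out: if `I S` is generated by a weakly regular sequence in `S = P_𝔭`, then on some
`D(g) ∋ 𝔭` the ideal `I P_g` is generated by a Koszul-regular sequence. -/
theorem exists_away_of_atPrime {P : Type u} [CommRing P] [IsNoetherianRing P] (I : Ideal P)
    (𝔭 : Ideal P) [h𝔭 : 𝔭.IsPrime] (S : Type u) [CommRing S] [Algebra P S]
    [IsLocalization.AtPrime S 𝔭] (rsS : List S) (hrsS : IsWeaklyRegular S rsS)
    (hJrs : I.map (algebraMap P S) = Ideal.ofList rsS) :
    ∃ g : P, g ∉ 𝔭 ∧
    ∃ l : List (Localization.Away g), LCI.IsKoszulRegularSeq (Localization.Away g) l ∧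
      I.map (algebraMap P (Localization.Away g)) = Ideal.span {x | x ∈ l} := by
  classical
  have hrep : ∀ s : S, ∃ a : P,
      s ∈ I.map (algebraMap P S) → a ∈ I ∧ ∃ u : Sˣ, algebraMap P S a = s * u := by
    intro s
    by_cases hs : s ∈ I.map (algebraMap P S)
    · have hs' := hs
      rw [IsLocalization.mem_map_algebraMap_iff 𝔭.primeCompl] at hs'
      obtain ⟨⟨a, σ⟩, hσ⟩ := hs'
      refine ⟨a.1, fun _ => ⟨a.2, (IsLocalization.map_units S σ).unit, ?_⟩⟩
      exact hσ.symm
    · exact ⟨0, fun h => absurd h hs⟩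
  choose c hc using hrep
  have hφ : ∀ s ∈ rsS, ∃ u : Sˣ, (fun s => algebraMap P S (c s)) s = s * u := by
    intro s hs
    exact (hc s (hJrs ▸ Ideal.subset_span hs)).2
  have hmapmap : (rsS.map c).map (algebraMap P S) = rsS.map (fun s => algebraMap P S (c s)) := by
    rw [List.map_map]; rfl
  have hregA : IsWeaklyRegular S ((rsS.map c).map (algebraMap P S)) := by
    rw [hmapmap]
    exact RegSeq.isWeaklyRegular_map_unit rsS _ hφ hrsS
  have hofA : (Ideal.ofList (rsS.map c)).map (algebraMap P S) = I.map (algebraMap P S) := by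
    rw [Ideal.map_ofList, hmapmap, RegSeq.ofList_map_unit rsS _ hφ, hJrs]
  have hmemA : ∀ a ∈ rsS.map c, a ∈ I := by
    intro a ha
    obtain ⟨s, hs, rfl⟩ := List.mem_map.mp ha
    exact (hc s (hJrs ▸ Ideal.subset_span hs)).1
  obtain ⟨h₂, hh₂, hcol⟩ := RegSeq.exists_notMem_forall_colon (S := S) 𝔭 (rsS.map c) hregA
  obtain ⟨h₃, hh₃, hmul⟩ := RegSeq.exists_notMem_forall_mul_mem (S := S) 𝔭 I
    (Ideal.ofList (rsS.map c)) (IsNoetherian.noetherian _) (by
      intro z hz
      rw [hofA]
      exact Ideal.mem_map_of_mem _ hz)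
  refine ⟨h₂ * h₃, fun h => (h𝔭.mem_or_mem h).elim hh₂ hh₃,
    (rsS.map c).map (algebraMap P (Localization.Away (h₂ * h₃))), ?_, ?_⟩
  · apply Groth.Agent.Lib.Helper1.SecReg.isKoszulRegularSeq_of_isWeaklyRegular
    apply RegSeq.isWeaklyRegular_map_of_away (h₂ * h₃)
    intro i hi z hz
    rw [mul_comm h₂ h₃, mul_assoc]
    exact Ideal.mul_mem_left _ _ (hcol i hi z hz)
  · have e : Ideal.span {x | x ∈ (rsS.map c).map (algebraMap P (Localization.Away (h₂ * h₃)))} =
        (Ideal.ofList (rsS.map c)).map (algebraMap P (Localization.Away (h₂ * h₃))) := by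
      rw [Ideal.map_ofList]
    rw [e]
    apply le_antisymm
    · rw [Ideal.map_le_iff_le_comap]
      intro z hz
      rw [Ideal.mem_comap]
      apply RegSeq.algebraMap_mem_map_of_mul_mem (h₂ * h₃)
      rw [mul_assoc]
      exact Ideal.mul_mem_left _ _ (hmul z hz)
    · apply Ideal.map_mono
      rw [Ideal.ofList, Ideal.span_le]
      intro a ha
      exact hmemA a ha

/-- Local criterion: if at every prime `𝔭 ⊇ I` the ideal `I P_𝔭` is generated by a weakly regular
sequence, then `I` is a Koszul-regular ideal. -/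
theorem isKoszulRegularIdeal_of_local {P : Type u} [CommRing P] [IsNoetherianRing P] (I : Ideal P)
    (h : ∀ (𝔭 : Ideal P) [𝔭.IsPrime], I ≤ 𝔭 →
      ∃ rsS : List (Localization.AtPrime 𝔭), IsWeaklyRegular (Localization.AtPrime 𝔭) rsS ∧
        I.map (algebraMap P (Localization.AtPrime 𝔭)) = Ideal.ofList rsS) :
    LCI.IsKoszulRegularIdeal I := by
  intro 𝔭 hI𝔭
  obtain ⟨rsS, hrsS, hJrs⟩ := h 𝔭.asIdeal hI𝔭
  exact exists_away_of_atPrime I 𝔭.asIdeal (Localization.AtPrime 𝔭.asIdeal) rsS hrsS hJrs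

/-- An ideal of a regular ring with regular quotient ring is Koszul-regular. -/
theorem isKoszulRegularIdeal_of_regular {P : Type u} [CommRing P] [IsRegularRing P] (I : Ideal P)
    [IsRegularRing (P ⧸ I)] : LCI.IsKoszulRegularIdeal I := by
  apply isKoszulRegularIdeal_of_local
  intro 𝔭 h𝔭 hI
  set S := Localization.AtPrime 𝔭
  set J := I.map (algebraMap P S)
  have hJtop : J ≠ ⊤ := by
    intro h
    have h1 : J ≤ IsLocalRing.maximalIdeal S := by
      rw [← IsLocalization.AtPrime.map_eq_maximalIdeal 𝔭 S]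
      exact Ideal.map_mono hI
    rw [h] at h1
    exact (IsLocalRing.maximalIdeal.isMaximal S).ne_top (top_le_iff.mp h1)
  have hker : RingHom.ker (Ideal.Quotient.mk I) ≤ 𝔭 := by rw [Ideal.mk_ker]; exact hI
  haveI h𝔮 : (𝔭.map (Ideal.Quotient.mk I)).IsPrime :=
    Ideal.map_isPrime_of_surjective Ideal.Quotient.mk_surjective hker
  have hsub : Algebra.algebraMapSubmonoid (P ⧸ I) 𝔭.primeCompl =
      (𝔭.map (Ideal.Quotient.mk I)).primeCompl := by
    ext x
    constructor
    · rintro ⟨a, ha, rfl⟩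
      intro hx
      apply ha
      have : a ∈ Ideal.comap (Ideal.Quotient.mk I) (𝔭.map (Ideal.Quotient.mk I)) :=
        Ideal.mem_comap.mpr hx
      rw [Ideal.comap_map_of_surjective _ Ideal.Quotient.mk_surjective, ← RingHom.ker_eq_comap_bot,
        sup_eq_left.mpr hker] at this
      exact this
    · intro hx
      obtain ⟨a, rfl⟩ := Ideal.Quotient.mk_surjective x
      exact ⟨a, fun ha => hx (Ideal.mem_map_of_mem _ ha), rfl⟩
  haveI hloc : IsLocalization.AtPrime (S ⧸ J) (𝔭.map (Ideal.Quotient.mk I)) := by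
    have : IsLocalization (Algebra.algebraMapSubmonoid (P ⧸ I) 𝔭.primeCompl) (S ⧸ J) :=
      inferInstance
    rw [hsub] at this
    exact this
  haveI : IsRegularLocalRing (S ⧸ J) :=
    IsRegularLocalRing.of_ringEquiv
      (IsLocalization.algEquiv (𝔭.map (Ideal.Quotient.mk I)).primeCompl
        (Localization.AtPrime (𝔭.map (Ideal.Quotient.mk I))) (S ⧸ J)).toRingEquiv
  obtain ⟨rs, hrs, hJ⟩ := RegQuot.exists_isRegular_of_quotient_regular S J hJtop
  exact ⟨rs, hrs.toIsWeaklyRegular, hJ⟩

/-- Sections over an affine open of a regular scheme form a regular ring. -/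
theorem isRegularRing_of_isAffineOpen {X : Scheme.{u}} [IsLocallyNoetherian X]
    (hX : ∀ x : X, IsRegularLocalRing (X.presheaf.stalk x)) {U : X.Opens} (hU : IsAffineOpen U) :
    IsRegularRing Γ(X, U) := by
  haveI : IsNoetherianRing Γ(X, U) := IsLocallyNoetherian.component_noetherian ⟨U, hU⟩
  refine ⟨fun p hp => ?_⟩
  have hy : hU.fromSpec ⟨p, hp⟩ ∈ U := by
    have := hU.range_fromSpec
    exact (Set.ext_iff.mp this _).mp (Set.mem_range_self _)
  letI := TopCat.Presheaf.algebra_section_stalk X.presheaf ⟨hU.fromSpec ⟨p, hp⟩, hy⟩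
  haveI : IsLocalization.AtPrime (X.presheaf.stalk (hU.fromSpec ⟨p, hp⟩)) p :=
    hU.isLocalization_stalk' ⟨p, hp⟩ hy
  haveI := hX (hU.fromSpec ⟨p, hp⟩)
  exact IsRegularLocalRing.of_ringEquiv
    (IsLocalization.algEquiv p.primeCompl (X.presheaf.stalk (hU.fromSpec ⟨p, hp⟩))
      (Localization.AtPrime p)).toRingEquiv

/-- A finite type algebra which is a regular ring over a regular ring is a local complete
intersection. -/
theorem isLCI_of_regular (A B : Type u) [CommRing A] [CommRing B] [Algebra A B]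
    [Algebra.FiniteType A B] [IsRegularRing A] [IsRegularRing B] : LCI.IsLCI A B := by
  refine ⟨inferInstance, ?_⟩
  obtain ⟨n, f, hf⟩ := Algebra.FiniteType.iff_quotient_mvPolynomial''.mp
    (inferInstance : Algebra.FiniteType A B)
  refine ⟨n, f, hf, ?_⟩
  haveI : Algebra.Smooth A (MvPolynomial (Fin n) A) := ⟨inferInstance, inferInstance⟩
  haveI : IsRegularRing (MvPolynomial (Fin n) A) :=
    Groth.Agent.Lib.Helper26.RegularSmooth.isRegularRing_of_smooth A _
  haveI : IsRegularRing (MvPolynomial (Fin n) A ⧸ RingHom.ker f.toRingHom) :=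
    IsRegularRing.of_ringEquiv (RingHom.quotientKerEquivOfSurjective (f := f.toRingHom) hf).symm
  exact isKoszulRegularIdeal_of_regular _

end Groth.Agent.Lib.Helper22.KoszRegQuot
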