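import Mathlib
import Groth.Prelude.Def_CInt
import Groth.Prelude.Def_RegImm
import Groth.Prelude.Def_EGA4b
import Groth.Agent.Lib.Helper24.CIGen
import Groth.Agent.Lib.Helper24.SyntLocalSch
import Groth.Agent.Lib.Helper27.CILocusC
import Groth.Agent.Lib.Helper6.SyntCover
import Groth.Agent.Lib.Helper6.FiberStalkIso
import Groth.Agent.Lib.Helper22.SyntCM

/-!
# Complete-intersection morphisms (fibrewise sense) = syntomic morphisms (helper22)

* `ci_iff_exists_globalCI`: for `S = k[x]/I` and a prime `q` of `S`, the local ring `S_q` is a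
  complete intersection (`Pi1.IsCompleteIntersection`) iff some `S_g`, `g ∉ q`, is a global complete
  intersection over `k`.
* `isLCIOver_iff_forall_ci`: a finite type `k`-algebra is a local complete intersection over `k`
  iff all its local rings are complete intersections.
* `isSyntomic_iff_forall_ciw`: a ring map is syntomic iff it is flat, of finite presentation and all
  fibre local rings `S_r / p S_r` are complete intersections.
* `nonempty_fiberStalk_equiv`: the local ring of the fibre at `x` is `B_r / p B_r` in affine charts.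
* `isCIMorphism_iff_isSyntomicMor`.
-/

set_option autoImplicit false
set_option maxHeartbeats 400000
set_option linter.style.haveILetI false
set_option linter.unusedSectionVars false
universe u

open RingTheory.Sequence MvPolynomial IsLocalRing

namespace Groth.Agent.Lib.Helper22.CIMorSynt

open Groth.Agent.Lib.Helper24 Groth.Agent.Lib.Helper27

/-- `X` is a local ring which is a complete intersection. -/
def CIw (X : Type u) [CommRing X] : Prop :=
  ∃ _ : IsLocalRing X, Pi1.IsCompleteIntersection X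

theorem ciw_iff (X : Type u) [CommRing X] [IsLocalRing X] :
    CIw X ↔ Pi1.IsCompleteIntersection X :=
  ⟨fun ⟨_, h⟩ => h, fun h => ⟨inferInstance, h⟩⟩

theorem ciw_of_ringEquiv {X Y : Type u} [CommRing X] [CommRing Y] (e : X ≃+* Y) (h : CIw X) :
    CIw Y := by
  obtain ⟨hl, h⟩ := h
  haveI : IsLocalRing Y := e.isLocalRing
  exact ⟨inferInstance, CILocus.isCompleteIntersection_of_ringEquiv e h⟩

section poly

variable (k : Type u) [Field k] (n : ℕ) (I : Ideal (MvPolynomial (Fin n) k))
  (q : Ideal (MvPolynomial (Fin n) k ⧸ I)) [q.IsPrime]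

theorem map_ne_top' :
    I.map (algebraMap (MvPolynomial (Fin n) k)
      (Localization.AtPrime (q.comap (Ideal.Quotient.mk I)))) ≠ ⊤ := by
  have h1 := CIGen.map_le_maximalIdeal I (q.comap (Ideal.Quotient.mk I))
    (CIGen.le_comap_mk k n I q)
  intro htop
  rw [htop] at h1
  exact (IsLocalRing.maximalIdeal.isMaximal _).ne_top (top_le_iff.mp h1)

theorem ci_iff_exists_regular :
    Pi1.IsCompleteIntersection (Localization.AtPrime q) ↔
      ∃ rs : List (Localization.AtPrime (q.comap (Ideal.Quotient.mk I))),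
        IsRegular (Localization.AtPrime (q.comap (Ideal.Quotient.mk I))) rs ∧
        Ideal.ofList rs = I.map (algebraMap _
          (Localization.AtPrime (q.comap (Ideal.Quotient.mk I)))) := by
  have hJ := map_ne_top' k n I q
  haveI : Nontrivial (Localization.AtPrime (q.comap (Ideal.Quotient.mk I)) ⧸
      I.map (algebraMap (MvPolynomial (Fin n) k)
        (Localization.AtPrime (q.comap (Ideal.Quotient.mk I))))) :=
    Ideal.Quotient.nontrivial_iff.mpr hJ
  haveI : IsLocalRing (Localization.AtPrime (q.comap (Ideal.Quotient.mk I)) ⧸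
      I.map (algebraMap (MvPolynomial (Fin n) k)
        (Localization.AtPrime (q.comap (Ideal.Quotient.mk I))))) :=
    IsLocalRing.of_surjective' (Ideal.Quotient.mk _) Ideal.Quotient.mk_surjective
  rw [CILocus.ci_localization_quotient_iff I q, ← CILocus.ci_iff_spanFinrank_le_height _ _ hJ,
    Groth.Agent.S2166.result _ hJ]
  constructor
  · rintro ⟨rs, h1, h2⟩
    exact ⟨rs, h2, h1⟩
  · rintro ⟨rs, h1, h2⟩
    exact ⟨rs, h2, h1⟩

theorem hc_of_regular {P : Type u} [CommRing P] [IsNoetherianRing P] (I Q : Ideal P)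
    [Q.IsPrime] (hIQ : I ≤ Q) (rs : List (Localization.AtPrime Q))
    (hreg : IsRegular (Localization.AtPrime Q) rs)
    (hrs : Ideal.ofList rs = I.map (algebraMap P (Localization.AtPrime Q))) :
    (rs.length : ℕ∞) + (Q.map (Ideal.Quotient.mk I)).height = Q.height := by
  haveI : IsNoetherianRing (Localization.AtPrime Q) :=
    IsLocalization.isNoetherianRing Q.primeCompl _ inferInstance
  have hdim := ringKrullDim_add_length_eq_ringKrullDim_of_isRegular rs hreg
  rw [ringKrullDim_eq_of_ringEquiv (Ideal.quotEquivOfEq hrs),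
    CIGen.ringKrullDim_locQuot I Q hIQ,
    IsLocalization.AtPrime.ringKrullDim_eq_height Q (Localization.AtPrime Q)] at hdim
  have hQfin : Q.height ≠ ⊤ := Ideal.height_ne_top (Ideal.IsPrime.ne_top inferInstance)
  obtain ⟨a, ha⟩ := ENat.ne_top_iff_exists.mp hQfin
  haveI hQ' : (Q.map (Ideal.Quotient.mk I)).IsPrime :=
    Ideal.map_isPrime_of_surjective Ideal.Quotient.mk_surjective (by rwa [Ideal.mk_ker])
  have hQ'fin : (Q.map (Ideal.Quotient.mk I)).height ≠ ⊤ :=
    Ideal.height_ne_top (Ideal.IsPrime.ne_top hQ')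
  obtain ⟨b, hb⟩ := ENat.ne_top_iff_exists.mp hQ'fin
  rw [← ha, ← hb] at hdim
  rw [← ha, ← hb]
  have h1 : b + rs.length = a := by exact_mod_cast hdim
  have h2 : rs.length + b = a := by omega
  exact_mod_cast h2

theorem ci_iff_exists_globalCI :
    Pi1.IsCompleteIntersection (Localization.AtPrime q) ↔
      ∃ g : MvPolynomial (Fin n) k ⧸ I, g ∉ q ∧ Synt.IsGlobalCI k (Localization.Away g) := by
  classical
  rw [ci_iff_exists_regular]
  constructor
  · rintro ⟨rs, hreg, hrs⟩
    have hIQ := CIGen.le_comap_mk k n I q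
    have hc := hc_of_regular I _ hIQ rs hreg hrs
    rw [Ideal.map_comap_of_surjective _ Ideal.Quotient.mk_surjective q] at hc
    have hnd := CIGen.nodup_of_isRegular rs hreg
    exact CIGen.h21 k n I q rs.length hc rs.toFinset
      (by rw [List.toFinset_card_of_nodup hnd])
      (by rw [← hrs, Ideal.ofList, List.coe_toFinset])
  · rintro ⟨g, hg, hci⟩
    exact CIGen.h15 k n I q g hg hci

end poly

section field

variable (k F : Type u) [Field k] [CommRing F] [Algebra k F]

theorem isLCIOver_iff_forall_ci [Algebra.FiniteType k F] :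
    Synt.IsLCIOver k F ↔
      ∀ (Q : Ideal F) [Q.IsPrime], Pi1.IsCompleteIntersection (Localization.AtPrime Q) := by
  obtain ⟨n, φ, hφ⟩ := Algebra.FiniteType.iff_quotient_mvPolynomial''.mp
    (inferInstance : Algebra.FiniteType k F)
  let e : (MvPolynomial (Fin n) k ⧸ RingHom.ker φ) ≃ₐ[k] F :=
    Ideal.quotientKerAlgEquivOfSurjective hφ
  constructor
  · intro h Q _
    have h' : Synt.IsLCIOver k (MvPolynomial (Fin n) k ⧸ RingHom.ker φ) :=
      Groth.Agent.Lib.Helper6.SyntCover.isLCIOver_of_algEquiv e.symm h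
    haveI : (Q.comap e.toRingEquiv).IsPrime := Ideal.comap_isPrime _ _
    obtain ⟨g, hg, hci⟩ := h'.2 ⟨Q.comap e.toRingEquiv, inferInstance⟩
    have hq := (ci_iff_exists_globalCI k n (RingHom.ker φ) (Q.comap e.toRingEquiv)).mpr
      ⟨g, hg, hci⟩
    exact CILocus.isCompleteIntersection_of_ringEquiv
      (Localization.localRingEquiv (Q.comap e.toRingEquiv) Q e.toRingEquiv rfl) hq
  · intro h
    refine Groth.Agent.Lib.Helper6.SyntCover.isLCIOver_of_algEquiv e ⟨?_, fun q => ?_⟩
    · exact Algebra.FiniteType.of_surjective (Ideal.Quotient.mkₐ k _)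
        (Ideal.Quotient.mkₐ_surjective k _)
    · haveI := q.isPrime
      apply (ci_iff_exists_globalCI k n (RingHom.ker φ) q.asIdeal).mp
      haveI : (q.asIdeal.comap e.symm.toRingEquiv).IsPrime := Ideal.comap_isPrime _ _
      have hQ := h (q.asIdeal.comap e.symm.toRingEquiv)
      exact CILocus.isCompleteIntersection_of_ringEquiv
        (Localization.localRingEquiv (q.asIdeal.comap e.symm.toRingEquiv) q.asIdeal
          e.symm.toRingEquiv rfl) hQ

end field

section rel

variable (R S : Type u) [CommRing R] [CommRing S] [Algebra R S]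

theorem comap_comap_includeRight (p : Ideal R) [p.IsPrime] (𝔮 : Ideal (p.Fiber S)) [𝔮.IsPrime] :
    (𝔮.comap (Algebra.TensorProduct.includeRight : S →ₐ[R] p.Fiber S)).comap
      (algebraMap R S) = p := by
  have h1 : p = 𝔮.under R := Ideal.LiesOver.over
  have h2 : ∀ x, x ∈ p ↔ algebraMap R (p.Fiber S) x ∈ 𝔮 := fun x =>
    (SetLike.ext_iff.mp h1 x).trans Ideal.mem_comap
  ext x
  rw [Ideal.mem_comap, Ideal.mem_comap, h2, AlgHom.commutes]

theorem nonempty_localization_fiber_equiv (p : Ideal R) [p.IsPrime] (𝔮 : Ideal (p.Fiber S))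
    [𝔮.IsPrime] :
    Nonempty (Localization.AtPrime 𝔮 ≃+* EGA4.FibLocRing R S
      (𝔮.comap (Algebra.TensorProduct.includeRight : S →ₐ[R] p.Fiber S))) := by
  have h := comap_comap_includeRight R S p 𝔮
  haveI : (𝔮.comap (Algebra.TensorProduct.includeRight : S →ₐ[R] p.Fiber S)).LiesOver p :=
    ⟨h.symm⟩
  letI := Localization.AtPrime.algebraOfLiesOver p
    (𝔮.comap (Algebra.TensorProduct.includeRight : S →ₐ[R] p.Fiber S))
  have e := Ideal.Fiber.localizationAlgEquivQuotient p 𝔮
  exact ⟨e.toRingEquiv.trans (Ideal.quotEquivOfEq (by rw [h]))⟩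

theorem exists_fiber_prime (p : Ideal R) [p.IsPrime] (r : Ideal S) [r.IsPrime]
    (hr : r.comap (algebraMap R S) = p) :
    ∃ (𝔮 : Ideal (p.Fiber S)) (_ : 𝔮.IsPrime),
      𝔮.comap (Algebra.TensorProduct.includeRight : S →ₐ[R] p.Fiber S) = r := by
  let x : (PrimeSpectrum.comap (algebraMap R S)) ⁻¹' {(⟨p, inferInstance⟩ : PrimeSpectrum R)} :=
    ⟨⟨r, inferInstance⟩, by
      rw [Set.mem_preimage, Set.mem_singleton_iff]
      exact PrimeSpectrum.ext hr⟩
  refine ⟨(PrimeSpectrum.preimageEquivFiber R S ⟨p, inferInstance⟩ x).asIdeal,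
    (PrimeSpectrum.preimageEquivFiber R S ⟨p, inferInstance⟩ x).2, ?_⟩
  have h := (PrimeSpectrum.preimageEquivFiber R S ⟨p, inferInstance⟩).symm_apply_apply x
  have h' := congrArg (fun z => z.1.asIdeal) h
  ext y
  have h'' := SetLike.ext_iff.mp h' y
  exact h''

theorem ciw_congr (r r' : Ideal S) [r.IsPrime] [r'.IsPrime] (h : r = r')
    (H : CIw (EGA4.FibLocRing R S r)) : CIw (EGA4.FibLocRing R S r') := by
  subst h
  exact H

/-- A ring map is syntomic iff it is flat, of finite presentation, and all the local rings of its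
fibres are complete intersections. -/
theorem isSyntomic_iff_forall_ciw :
    Synt.IsSyntomic R S ↔ Module.Flat R S ∧ Algebra.FinitePresentation R S ∧
      ∀ (r : Ideal S) [r.IsPrime], CIw (EGA4.FibLocRing R S r) := by
  constructor
  · rintro ⟨hfl, hfp, hfib⟩
    refine ⟨hfl, hfp, fun r _ => ?_⟩
    haveI : (r.comap (algebraMap R S)).IsPrime := Ideal.comap_isPrime _ _
    obtain ⟨𝔮, h𝔮, h𝔮r⟩ := exists_fiber_prime R S (r.comap (algebraMap R S)) r rfl
    haveI := h𝔮
    have hL := hfib ⟨r.comap (algebraMap R S), inferInstance⟩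
    haveI : Algebra.FiniteType (r.comap (algebraMap R S)).ResidueField
        ((r.comap (algebraMap R S)).Fiber S) := hL.1
    have hci := (isLCIOver_iff_forall_ci _ _).mp hL 𝔮
    obtain ⟨e⟩ := nonempty_localization_fiber_equiv R S (r.comap (algebraMap R S)) 𝔮
    have h1 : CIw (EGA4.FibLocRing R S
        (𝔮.comap (Algebra.TensorProduct.includeRight :
          S →ₐ[R] (r.comap (algebraMap R S)).Fiber S))) :=
      ciw_of_ringEquiv e ⟨inferInstance, hci⟩
    exact ciw_congr R S _ r h𝔮r h1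
  · rintro ⟨hfl, hfp, hci⟩
    refine ⟨hfl, hfp, fun p => ?_⟩
    haveI := p.isPrime
    haveI : Algebra.FiniteType p.asIdeal.ResidueField (p.asIdeal.Fiber S) := inferInstance
    rw [isLCIOver_iff_forall_ci]
    intro 𝔮 _
    obtain ⟨e⟩ := nonempty_localization_fiber_equiv R S p.asIdeal 𝔮
    haveI : (𝔮.comap (Algebra.TensorProduct.includeRight :
        S →ₐ[R] p.asIdeal.Fiber S)).IsPrime := Ideal.comap_isPrime _ _
    have h1 := hci (𝔮.comap (Algebra.TensorProduct.includeRight : S →ₐ[R] p.asIdeal.Fiber S))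
    exact (ciw_iff _).mp (ciw_of_ringEquiv e.symm h1)

end rel

section sch

open AlgebraicGeometry CategoryTheory

theorem exists_primeIdealOf_eq {X : Scheme.{u}} {U : X.Opens} (hU : IsAffineOpen U)
    (y : PrimeSpectrum Γ(X, U)) : ∃ x : U, hU.primeIdealOf x = y := by
  refine ⟨hU.isoSpec.inv y, ?_⟩
  unfold IsAffineOpen.primeIdealOf
  rw [← Scheme.Hom.comp_apply, Iso.inv_hom_id]
  rfl

/-- In affine charts, the local ring of the fibre at `x` is `B_r / p B_r`. -/
theorem nonempty_fiberStalk_equiv {X Y : Scheme.{u}} (f : X ⟶ Y) (x : X) {U : X.Opens}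
    (hU : IsAffineOpen U) {V : Y.Opens} (hV : IsAffineOpen V) (e : U ≤ f ⁻¹ᵁ V) (hx : x ∈ U) :
    letI := (f.appLE V U e).hom.toAlgebra
    Nonempty (CInt.fiberStalk f x ≃+*
      EGA4.FibLocRing Γ(Y, V) Γ(X, U) (hU.primeIdealOf ⟨x, hx⟩).asIdeal) := by
  letI := (f.appLE V U e).hom.toAlgebra
  letI algX : Algebra Γ(X, U) (X.presheaf.stalk x) :=
    TopCat.Presheaf.algebra_section_stalk X.presheaf ⟨x, hx⟩
  letI algY : Algebra Γ(Y, V) (Y.presheaf.stalk (f.base x)) :=
    TopCat.Presheaf.algebra_section_stalk Y.presheaf ⟨f.base x, e hx⟩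
  haveI locX : IsLocalization.AtPrime (X.presheaf.stalk x) (hU.primeIdealOf ⟨x, hx⟩).asIdeal :=
    hU.isLocalization_stalk ⟨x, hx⟩
  haveI locY : IsLocalization.AtPrime (Y.presheaf.stalk (f.base x))
      (hV.primeIdealOf ⟨f.base x, e hx⟩).asIdeal :=
    hV.isLocalization_stalk ⟨f.base x, e hx⟩
  have hqp : (hU.primeIdealOf ⟨x, hx⟩).asIdeal.comap (algebraMap Γ(Y, V) Γ(X, U)) =
      (hV.primeIdealOf ⟨f.base x, e hx⟩).asIdeal := by
    have := IsAffineOpen.comap_primeIdealOf_appLE (f := f) (x := x) V hV U hU e hx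
    exact congrArg PrimeSpectrum.asIdeal this
  let eX : Localization.AtPrime (hU.primeIdealOf ⟨x, hx⟩).asIdeal ≃ₐ[Γ(X, U)]
      X.presheaf.stalk x :=
    IsLocalization.algEquiv (hU.primeIdealOf ⟨x, hx⟩).asIdeal.primeCompl _ _
  have hideal : Groth.Agent.Lib.Helper6.fiberIdeal f x =
      (((hU.primeIdealOf ⟨x, hx⟩).asIdeal.comap (algebraMap Γ(Y, V) Γ(X, U))).map
        (algebraMap Γ(Y, V) (Localization.AtPrime (hU.primeIdealOf ⟨x, hx⟩).asIdeal))).map
          (eX.toRingEquiv : Localization.AtPrime (hU.primeIdealOf ⟨x, hx⟩).asIdeal →+*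
            X.presheaf.stalk x) := by
    rw [Ideal.map_map, hqp]
    unfold Groth.Agent.Lib.Helper6.fiberIdeal
    rw [← IsLocalization.AtPrime.map_eq_maximalIdeal
      (hV.primeIdealOf ⟨f.base x, e hx⟩).asIdeal (Y.presheaf.stalk (f.base x)), Ideal.map_map]
    congr 1
    ext a
    show (f.stalkMap x).hom ((Y.presheaf.germ V (f.base x) (e hx)).hom a) =
      eX (algebraMap Γ(Y, V) (Localization.AtPrime (hU.primeIdealOf ⟨x, hx⟩).asIdeal) a)
    rw [IsScalarTower.algebraMap_apply Γ(Y, V) Γ(X, U)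
      (Localization.AtPrime (hU.primeIdealOf ⟨x, hx⟩).asIdeal), AlgEquiv.commutes]
    show _ = (X.presheaf.germ U x hx).hom ((f.appLE V U e).hom a)
    simp only [Scheme.Hom.germ_stalkMap_apply, Scheme.Hom.appLE, CommRingCat.hom_comp,
      RingHom.coe_comp, Function.comp_apply, X.presheaf.germ_res_apply]
  exact ⟨(Groth.Agent.Lib.Helper6.fiberStalkEquiv f x).trans
    (Ideal.quotientEquiv _ _ eX.toRingEquiv hideal).symm⟩

/-- A morphism is a complete-intersection morphism in the fibrewise sense iff it is syntomic. -/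
theorem isCIMorphism_iff_isSyntomicMor {X Y : Scheme.{u}} (f : X ⟶ Y) :
    CInt.IsCIMorphism f ↔ Synt.IsSyntomicMor f := by
  constructor
  · rintro ⟨hfl, hfp, hci⟩
    rw [SyntLocalSch.isSyntomicMor_iff_forall_affineOpens]
    intro U V e
    letI := (f.appLE V.1 U.1 e).hom.toAlgebra
    have h1 : Module.Flat Γ(Y, V.1) Γ(X, U.1) :=
      HasRingHomProperty.appLE (P := @Flat) _ hfl V U e
    have h2 : Algebra.FinitePresentation Γ(Y, V.1) Γ(X, U.1) :=
      HasRingHomProperty.appLE (P := @LocallyOfFinitePresentation) _ hfp V U e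
    refine (isSyntomic_iff_forall_ciw _ _).mpr ⟨h1, h2, ?_⟩
    intro r _
    obtain ⟨x, hxr⟩ := exists_primeIdealOf_eq U.2 ⟨r, inferInstance⟩
    obtain ⟨ε⟩ := nonempty_fiberStalk_equiv f x.1 U.2 V.2 e x.2
    have h3 := ciw_of_ringEquiv ε ⟨inferInstance, hci x.1⟩
    exact ciw_congr _ _ _ r (congrArg PrimeSpectrum.asIdeal hxr) h3
  · intro h
    refine ⟨SyntCM.flat_of_isSyntomicMor f h, SyntCM.lfp_of_isSyntomicMor f h, fun x => ?_⟩
    obtain ⟨U, V, e, hx, hsyn⟩ := h x
    letI := (f.appLE V.1 U.1 e).hom.toAlgebra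
    have hsyn' : Synt.IsSyntomic Γ(Y, V.1) Γ(X, U.1) := hsyn
    obtain ⟨-, -, hci⟩ := (isSyntomic_iff_forall_ciw _ _).mp hsyn'
    obtain ⟨ε⟩ := nonempty_fiberStalk_equiv f x U.2 V.2 e hx
    exact (ciw_iff _).mp (ciw_of_ringEquiv ε.symm (hci _))

end sch

end Groth.Agent.Lib.Helper22.CIMorSynt
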