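import Mathlib
import Groth.Agent.Lib.Helper14.LCF.SliceSeq
import Groth.Agent.Lib.Helper14.QuasiRegReg
import Groth.Agent.Lib.Helper6.QRegBC
import Groth.Agent.Lib.Helper22.RegFlatBC

/-!
# Flatness of a quotient by a fibrewise quasi-regular sequence (helper22)

If `R → S` is flat of finite presentation and `g₁, …, gₙ ∈ S` is quasi-regular modulo `𝔭S` for
every prime `𝔭` of `R`, then `S/(g)` is flat over `R`.  Application: lifting flatness along a
locally nilpotent thickening.
-/

set_option autoImplicit false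
set_option linter.style.haveILetI false
set_option linter.unusedSectionVars false
universe u
open TensorProduct

namespace Groth.Agent.Lib.Helper22.NilFlat

open Groth.Agent.Lib.Helper22.RegFlatBC Groth.Agent.Lib.Helper6

/-- a quasi-regular sequence modulo `𝔣` lying in the maximal ideal of a local ring `B` with
`B/𝔣` Noetherian is regular modulo `𝔣`. -/
theorem reg_of_qr_quot {B : Type u} [CommRing B] [IsLocalRing B] (𝔣 : Ideal B)
    [IsNoetherianRing (B ⧸ 𝔣)] {c : ℕ} (r : Fin c → B)
    (hm : ∀ j, r j ∈ IsLocalRing.maximalIdeal B)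
    (hqb : CAlgX.IsQuasiRegular (fun j => Ideal.Quotient.mk 𝔣 (r j)))
    (k : Fin c) (w : B)
    (hw : r k * w ∈ 𝔣 ⊔ Ideal.span (r '' {j : Fin c | j < k})) :
    w ∈ 𝔣 ⊔ Ideal.span (r '' {j : Fin c | j < k}) := by
  have hjac : ∀ j, Ideal.Quotient.mk 𝔣 (r j) ∈ Ring.jacobson (B ⧸ 𝔣) := by
    intro j
    apply Ring.le_comap_jacobson (Ideal.Quotient.mk 𝔣)
    rw [IsLocalRing.ringJacobson_eq_maximalIdeal]
    exact hm j
  have hreg := Groth.Agent.Lib.Helper14.QuasiRegReg.reg_of_qr c
    (fun j => Ideal.Quotient.mk 𝔣 (r j)) hjac hqb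
  have hI : Groth.Agent.Lib.Helper14.ReesKer.I (fun j => Ideal.Quotient.mk 𝔣 (r j)) k.val =
      (Ideal.span (r '' {j : Fin c | j < k})).map (Ideal.Quotient.mk 𝔣) := by
    unfold Groth.Agent.Lib.Helper14.ReesKer.I
    rw [Ideal.map_span, Set.image_image]
    rfl
  have h3 := hreg k (Ideal.Quotient.mk 𝔣 w) (by
    show Ideal.Quotient.mk 𝔣 (r k) * Ideal.Quotient.mk 𝔣 w ∈ _
    rw [hI, ← map_mul, Ideal.mem_quotient_iff_mem_sup, sup_comm]
    exact hw)
  rw [hI, Ideal.mem_quotient_iff_mem_sup, sup_comm] at h3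
  exact h3

/-- flat base change of quasi-regularity modulo an ideal. -/
theorem isQuasiRegular_quot_map_of_flat {S W : Type u} [CommRing S] [CommRing W] [Algebra S W]
    [Module.Flat S W] (𝔟 : Ideal S) {n : ℕ} (g : Fin n → S)
    (hq : CAlgX.IsQuasiRegular (fun i => Ideal.Quotient.mk 𝔟 (g i))) :
    CAlgX.IsQuasiRegular
      (fun i => Ideal.Quotient.mk (𝔟.map (algebraMap S W)) (algebraMap S W (g i))) := by
  have h1 := isQuasiRegular_tensor_of_flat S (S ⧸ 𝔟) W n (fun i => Ideal.Quotient.mk 𝔟 (g i)) hq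
  let e : W ⊗[S] (S ⧸ 𝔟) ≃+* W ⧸ 𝔟.map (algebraMap S W) :=
    (Algebra.TensorProduct.quotIdealMapEquivTensorQuot W 𝔟).symm.toRingEquiv
  have he : ∀ s : S, e ((1 : W) ⊗ₜ[S] Ideal.Quotient.mk 𝔟 s) =
      Ideal.Quotient.mk (𝔟.map (algebraMap S W)) (algebraMap S W s) := by
    intro s
    show (Algebra.TensorProduct.quotIdealMapEquivTensorQuot W 𝔟).symm _ = _
    rw [AlgEquiv.symm_apply_eq]
    show (1 : W) ⊗ₜ[S] Ideal.Quotient.mk 𝔟 s = algebraMap S W s ⊗ₜ[S] (1 : S ⧸ 𝔟)
    rw [Algebra.algebraMap_eq_smul_one, TensorProduct.smul_tmul]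
    congr 1
    rw [Algebra.smul_def, mul_one]
    rfl
  have h2 := isQuasiRegular_of_ringEquiv e _ h1
  have h3 : (fun i => e ((1 : W) ⊗ₜ[S] Ideal.Quotient.mk 𝔟 (g i))) =
      fun i => Ideal.Quotient.mk (𝔟.map (algebraMap S W)) (algebraMap S W (g i)) := by
    funext i; exact he (g i)
  rw [h3] at h2
  exact h2

/-- local step: around a prime `Q` containing the sequence, the quotient is flat on a basic open. -/
theorem exists_away_flat {R S : Type u} [CommRing R] [CommRing S] [Algebra R S]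
    [Module.Flat R S] [Algebra.FinitePresentation R S] {n : ℕ} (g : Fin n → S)
    (𝔭 : Ideal R) (Q : Ideal S) [Q.IsPrime]
    (hQ𝔭 : Q.comap (algebraMap R S) = 𝔭)
    (hqr : CAlgX.IsQuasiRegular (fun i => Ideal.Quotient.mk (𝔭.map (algebraMap R S)) (g i)))
    (hN : IsNoetherianRing (Localization.AtPrime Q ⧸
      (𝔭.map (algebraMap R S)).map (algebraMap S (Localization.AtPrime Q))))
    (hJ : ∀ i, g i ∈ Q) :
    ∃ c : S, c ∉ Q ∧ Module.Flat R (Localization.Away c ⧸
      Ideal.span (Set.range fun i => algebraMap S (Localization.Away c) (g i))) := by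
  haveI := hN
  haveI : Module.Flat S (Localization.AtPrime Q) :=
    IsLocalization.flat (Localization.AtPrime Q) Q.primeCompl
  haveI : Module.Flat R (Localization.AtPrime Q) := Module.Flat.trans R S (Localization.AtPrime Q)
  have hm : ∀ j, algebraMap S (Localization.AtPrime Q) (g j) ∈
      IsLocalRing.maximalIdeal (Localization.AtPrime Q) := fun j =>
    (IsLocalization.AtPrime.to_map_mem_maximal_iff (Localization.AtPrime Q) Q (g j)).2 (hJ j)
  have hqW := isQuasiRegular_quot_map_of_flat (W := Localization.AtPrime Q)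
    (𝔭.map (algebraMap R S)) g hqr
  have hreg : ∀ (k : Fin n) (w : Localization.AtPrime Q),
      g k • w ∈ ((Q.comap (algebraMap R S)).map (algebraMap R S) ⊔
        Ideal.span (g '' {j : Fin n | j < k})) • (⊤ : Submodule S (Localization.AtPrime Q)) →
      w ∈ ((Q.comap (algebraMap R S)).map (algebraMap R S) ⊔
        Ideal.span (g '' {j : Fin n | j < k})) • (⊤ : Submodule S (Localization.AtPrime Q)) := by
    intro k w hw
    rw [hQ𝔭] at hw ⊢
    rw [Ideal.smul_top_eq_map, Submodule.restrictScalars_mem, Ideal.map_sup, Ideal.map_span,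
      Set.image_image] at hw ⊢
    have e : g k • w = algebraMap S (Localization.AtPrime Q) (g k) * w := Algebra.smul_def _ _
    rw [e] at hw
    exact reg_of_qr_quot ((𝔭.map (algebraMap R S)).map (algebraMap S (Localization.AtPrime Q)))
      (fun j => algebraMap S (Localization.AtPrime Q) (g j)) hm hqW k w hw
  obtain ⟨c, hc, H⟩ := Groth.Agent.Lib.Helper14.LCF.exists_away_regular_seq (A := R) (C := S)
    Q g hJ (Algebra.linearMap S (Localization.AtPrime Q)) hreg
  exact ⟨c, hc, (H (Localization.Away c)).2⟩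

theorem flat_quot_congr {R T : Type u} [CommRing R] [CommRing T] [Algebra R T] {p p' : Ideal T}
    (h : p = p') (hf : Module.Flat R (T ⧸ p)) : Module.Flat R (T ⧸ p') := by
  subst h; exact hf

/-- **fibrewise criterion**: if `S` is flat of finite presentation over `R` and `g` is
quasi-regular modulo `𝔭S` for every prime `𝔭` of `R`, then `S/(g)` is flat over `R`. -/
theorem flat_quot_of_fibrewise_qr {R S : Type u} [CommRing R] [CommRing S] [Algebra R S]
    [Module.Flat R S] [Algebra.FinitePresentation R S] {n : ℕ} (g : Fin n → S)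
    (H : ∀ (𝔭 : Ideal R) [𝔭.IsPrime],
      CAlgX.IsQuasiRegular (fun i => Ideal.Quotient.mk (𝔭.map (algebraMap R S)) (g i))) :
    Module.Flat R (S ⧸ Ideal.span (Set.range g)) := by
  classical
  let 𝒮 : Set S := {c | Module.Flat R (Localization.Away c ⧸
      Ideal.span (Set.range fun i => algebraMap S (Localization.Away c) (g i)))}
  have hspan : Ideal.span 𝒮 = ⊤ := by
    by_contra hne
    obtain ⟨Q, hQmax, hle⟩ := Ideal.exists_le_maximal _ hne
    haveI := hQmax.isPrime
    by_cases hall : ∀ i, g i ∈ Q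
    · let p : PrimeSpectrum R := ⟨Q.comap (algebraMap R S), inferInstance⟩
      let q : PrimeSpectrum (p.asIdeal.Fiber S) :=
        PrimeSpectrum.preimageEquivFiber R S p ⟨⟨Q, hQmax.isPrime⟩, rfl⟩
      have hq' : Ideal.comap (Algebra.TensorProduct.includeRight :
          S →ₐ[R] p.asIdeal.Fiber S).toRingHom q.asIdeal = Q :=
        congrArg (fun z => z.1.asIdeal)
          ((PrimeSpectrum.preimageEquivFiber R S p).left_inv ⟨⟨Q, hQmax.isPrime⟩, rfl⟩)
      have hq : Ideal.comap (Algebra.TensorProduct.includeRight :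
          S →ₐ[R] p.asIdeal.Fiber S) q.asIdeal = Q :=
        (Ideal.ext fun x => Iff.rfl).trans hq'
      haveI : IsNoetherianRing (p.asIdeal.Fiber S) :=
        Algebra.FiniteType.isNoetherianRing p.asIdeal.ResidueField _
      have hN := isNoetherianRing_of_ringEquiv _
        (Ideal.Fiber.algEquivAux₂ p.asIdeal q.asIdeal).toRingEquiv
      have hrp : (Ideal.comap (Algebra.TensorProduct.includeRight :
          S →ₐ[R] p.asIdeal.Fiber S) q.asIdeal).comap (algebraMap R S) = p.asIdeal :=
        congrArg (Ideal.comap (algebraMap R S)) hq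
      obtain ⟨c, hc, hfl⟩ := exists_away_flat g p.asIdeal _ hrp (H p.asIdeal) hN
        (fun i => by rw [hq]; exact hall i)
      rw [hq] at hc
      exact hc (hle (Ideal.subset_span hfl))
    · push_neg at hall
      obtain ⟨i, hi⟩ := hall
      apply hi
      apply hle
      apply Ideal.subset_span
      show Module.Flat R _
      haveI : Subsingleton (Localization.Away (g i) ⧸
          Ideal.span (Set.range fun j => algebraMap S (Localization.Away (g i)) (g j))) := by
        rw [Ideal.Quotient.subsingleton_iff]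
        exact Ideal.eq_top_of_isUnit_mem _ (Ideal.subset_span ⟨i, rfl⟩)
          (IsLocalization.Away.algebraMap_isUnit (g i))
      infer_instance
  refine Module.flat_of_isLocalized_span S (S ⧸ Ideal.span (Set.range g)) 𝒮 hspan
    (fun c => Localization.Away c.1 ⧸ (Ideal.span (Set.range g)).localized' (Localization.Away c.1)
      (Submonoid.powers c.1) (Algebra.linearMap S (Localization.Away c.1)))
    (fun c => Submodule.toLocalizedQuotient' (Localization.Away c.1) (Submonoid.powers c.1)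
      (Algebra.linearMap S (Localization.Away c.1)) (Ideal.span (Set.range g))) ?_
  intro c
  have h1 : Module.Flat R (Localization.Away c.1 ⧸
      Ideal.span (Set.range fun i => algebraMap S (Localization.Away c.1) (g i))) := c.2
  refine flat_quot_congr ?_ h1
  rw [Ideal.localized'_eq_map, Ideal.map_span, ← Set.range_comp]
  rfl

/-- quasi-regularity with flat quotient is preserved modulo any ideal of the base. -/
theorem qr_quot_of_flat {A B : Type u} [CommRing A] [CommRing B] [Algebra A B] {r : ℕ}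
    (f : Fin r → B) (hq : CAlgX.IsQuasiRegular f)
    (hflat : Module.Flat A (B ⧸ Ideal.span (Set.range f))) (P : Ideal A) :
    CAlgX.IsQuasiRegular (fun i => Ideal.Quotient.mk (P.map (algebraMap A B)) (f i)) := by
  let e : (A ⧸ P) ⊗[A] B ≃+* B ⧸ P.map (algebraMap A B) :=
    (Algebra.TensorProduct.quotIdealMapEquivQuotTensor B P).symm.toRingEquiv
  have he : ∀ b : B, e ((1 : A ⧸ P) ⊗ₜ[A] b) = Ideal.Quotient.mk (P.map (algebraMap A B)) b := by
    intro b
    show (Algebra.TensorProduct.quotIdealMapEquivQuotTensor B P).symm _ = _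
    rw [AlgEquiv.symm_apply_eq]
    rfl
  have h1 := isQuasiRegular_of_ringEquiv e _ (QRegBC.main272 A B (A ⧸ P) r f hflat hq)
  have h2 : (fun j => e ((1 : A ⧸ P) ⊗ₜ[A] f j)) =
      fun j => Ideal.Quotient.mk (P.map (algebraMap A B)) (f j) := by
    funext j; exact he (f j)
  rw [h2] at h1
  exact h1

/-- the thickening step: quasi-regularity modulo `IB'` with flat quotient over `A'/I` gives
quasi-regularity modulo `𝔭B'` for every ideal `𝔭 ⊇ I`. -/
theorem qr_quot_of_nil {A' B' : Type u} [CommRing A'] [CommRing B'] [Algebra A' B']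
    (I : Ideal A') {r : ℕ} (f' : Fin r → B')
    (hq : CAlgX.IsQuasiRegular
      (fun i => Ideal.Quotient.mk (Ideal.map (algebraMap A' B') I) (f' i)))
    (hflat : Module.Flat (A' ⧸ I)
      ((B' ⧸ Ideal.map (algebraMap A' B') I) ⧸
        Ideal.span (Set.range (fun i =>
          Ideal.Quotient.mk (Ideal.map (algebraMap A' B') I) (f' i)))))
    (𝔭 : Ideal A') (hI𝔭 : I ≤ 𝔭) :
    CAlgX.IsQuasiRegular (fun i => Ideal.Quotient.mk (𝔭.map (algebraMap A' B')) (f' i)) := by
  have h1 := qr_quot_of_flat (A := A' ⧸ I) (B := B' ⧸ Ideal.map (algebraMap A' B') I)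
    (fun i => Ideal.Quotient.mk (Ideal.map (algebraMap A' B') I) (f' i)) hq hflat
    (𝔭.map (Ideal.Quotient.mk I))
  have hcomp : (algebraMap (A' ⧸ I) (B' ⧸ Ideal.map (algebraMap A' B') I)).comp
      (Ideal.Quotient.mk I) =
      (Ideal.Quotient.mk (Ideal.map (algebraMap A' B') I)).comp (algebraMap A' B') := by
    ext x; rfl
  have hideal : (𝔭.map (Ideal.Quotient.mk I)).map
      (algebraMap (A' ⧸ I) (B' ⧸ Ideal.map (algebraMap A' B') I)) =
      (𝔭.map (algebraMap A' B')).map (Ideal.Quotient.mk (Ideal.map (algebraMap A' B') I)) := by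
    rw [Ideal.map_map, Ideal.map_map, hcomp]
  have hle : Ideal.map (algebraMap A' B') I ≤ 𝔭.map (algebraMap A' B') := Ideal.map_mono hI𝔭
  let e₂ : (B' ⧸ Ideal.map (algebraMap A' B') I) ⧸ (𝔭.map (Ideal.Quotient.mk I)).map
      (algebraMap (A' ⧸ I) (B' ⧸ Ideal.map (algebraMap A' B') I)) ≃+*
      (B' ⧸ Ideal.map (algebraMap A' B') I) ⧸
        (𝔭.map (algebraMap A' B')).map (Ideal.Quotient.mk (Ideal.map (algebraMap A' B') I)) :=
    Ideal.quotEquivOfEq hideal
  let e₃ : (B' ⧸ Ideal.map (algebraMap A' B') I) ⧸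
        (𝔭.map (algebraMap A' B')).map (Ideal.Quotient.mk (Ideal.map (algebraMap A' B') I)) ≃+*
      B' ⧸ 𝔭.map (algebraMap A' B') := DoubleQuot.quotQuotEquivQuotOfLE hle
  have h2 := isQuasiRegular_of_ringEquiv (e₂.trans e₃) _ h1
  have h3 : (fun i => (e₂.trans e₃) (Ideal.Quotient.mk ((𝔭.map (Ideal.Quotient.mk I)).map
      (algebraMap (A' ⧸ I) (B' ⧸ Ideal.map (algebraMap A' B') I)))
        (Ideal.Quotient.mk (Ideal.map (algebraMap A' B') I) (f' i)))) =
      fun i => Ideal.Quotient.mk (𝔭.map (algebraMap A' B')) (f' i) := by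
    funext i; rfl
  rw [h3] at h2
  exact h2

/-- **smooth version**: lifting smoothness of the quotient along a locally nilpotent thickening. -/
theorem smooth_quot_of_nil (A' B' : Type u) [CommRing A'] [CommRing B'] [Algebra A' B']
    [Module.Flat A' B'] [Algebra.FinitePresentation A' B']
    (I : Ideal A') (hI : ∀ x ∈ I, IsNilpotent x) (r : ℕ) (f' : Fin r → B')
    (hq : CAlgX.IsQuasiRegular
      (fun i => Ideal.Quotient.mk (Ideal.map (algebraMap A' B') I) (f' i)))
    (hsm : Algebra.Smooth (A' ⧸ I)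
      ((B' ⧸ Ideal.map (algebraMap A' B') I) ⧸
        Ideal.span (Set.range (fun i =>
          Ideal.Quotient.mk (Ideal.map (algebraMap A' B') I) (f' i))))) :
    Algebra.Smooth A' (B' ⧸ Ideal.span (Set.range f')) := by
  haveI := hsm
  have hI𝔭 : ∀ (𝔭 : Ideal A') [𝔭.IsPrime], I ≤ 𝔭 := by
    intro 𝔭 h𝔭 x hx
    obtain ⟨n, hn⟩ := hI x hx
    exact h𝔭.mem_of_pow_mem n (hn ▸ 𝔭.zero_mem)
  have hflat : Module.Flat (A' ⧸ I) ((B' ⧸ Ideal.map (algebraMap A' B') I) ⧸
      Ideal.span (Set.range (fun i =>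
        Ideal.Quotient.mk (Ideal.map (algebraMap A' B') I) (f' i)))) := inferInstance
  haveI hfl' : Module.Flat A' (B' ⧸ Ideal.span (Set.range f')) :=
    flat_quot_of_fibrewise_qr f' (fun 𝔭 h𝔭 => qr_quot_of_nil I f' hq hflat 𝔭 (hI𝔭 𝔭))
  haveI hfp : Algebra.FinitePresentation A' (B' ⧸ Ideal.span (Set.range f')) :=
    Algebra.FinitePresentation.quotient (Submodule.fg_span (Set.finite_range f'))
  have hK1 : Ideal.span (Set.range (fun i =>
      Ideal.Quotient.mk (Ideal.map (algebraMap A' B') I) (f' i))) =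
      (Ideal.span (Set.range f')).map (Ideal.Quotient.mk (Ideal.map (algebraMap A' B') I)) := by
    rw [Ideal.map_span, ← Set.range_comp]; rfl
  have hK2 : I.map (algebraMap A' (B' ⧸ Ideal.span (Set.range f'))) =
      (Ideal.map (algebraMap A' B') I).map (Ideal.Quotient.mk (Ideal.span (Set.range f'))) := by
    rw [Ideal.map_map]; rfl
  let E₀r : ((B' ⧸ Ideal.map (algebraMap A' B') I) ⧸
        Ideal.span (Set.range (fun i =>
          Ideal.Quotient.mk (Ideal.map (algebraMap A' B') I) (f' i)))) ≃+*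
      (B' ⧸ Ideal.span (Set.range f')) ⧸
        I.map (algebraMap A' (B' ⧸ Ideal.span (Set.range f'))) :=
    (Ideal.quotEquivOfEq hK1).trans
      ((DoubleQuot.quotQuotEquivComm (Ideal.map (algebraMap A' B') I)
        (Ideal.span (Set.range f'))).trans (Ideal.quotEquivOfEq hK2.symm))
  let E₀ : ((B' ⧸ Ideal.map (algebraMap A' B') I) ⧸
        Ideal.span (Set.range (fun i =>
          Ideal.Quotient.mk (Ideal.map (algebraMap A' B') I) (f' i)))) ≃ₐ[A' ⧸ I]
      (B' ⧸ Ideal.span (Set.range f')) ⧸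
        I.map (algebraMap A' (B' ⧸ Ideal.span (Set.range f'))) :=
    AlgEquiv.ofRingEquiv (f := E₀r) (fun x => by
      obtain ⟨a, rfl⟩ := Ideal.Quotient.mk_surjective x
      rfl)
  haveI : Algebra.FormallySmooth (A' ⧸ I)
      ((A' ⧸ I) ⊗[A'] (B' ⧸ Ideal.span (Set.range f'))) :=
    Algebra.FormallySmooth.of_equiv (E₀.trans
      (Algebra.TensorProduct.quotIdealMapEquivQuotTensor (B' ⧸ Ideal.span (Set.range f')) I))
  refine Algebra.Smooth.of_formallySmooth_fiber ?_
  intro 𝔭 h𝔭
  have h0 : ∀ a ∈ I, algebraMap A' 𝔭.ResidueField a = 0 := fun a ha =>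
    Ideal.algebraMap_residueField_eq_zero.2 (hI𝔭 𝔭 ha)
  letI algκ : Algebra (A' ⧸ I) 𝔭.ResidueField :=
    (Ideal.Quotient.lift I (algebraMap A' 𝔭.ResidueField) h0).toAlgebra
  haveI : IsScalarTower A' (A' ⧸ I) 𝔭.ResidueField :=
    IsScalarTower.of_algebraMap_eq (fun a => rfl)
  exact Algebra.FormallySmooth.of_equiv
    (Algebra.TensorProduct.cancelBaseChange A' (A' ⧸ I) 𝔭.ResidueField 𝔭.ResidueField
      (B' ⧸ Ideal.span (Set.range f')))

end Groth.Agent.Lib.Helper22.NilFlat
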