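import Mathlib
import Groth.Agent.Lib.Helper22.NilFlat
import Groth.Agent.Lib.Helper22.QRegNoeth
import Groth.Agent.Lib.Helper24.RelGCIDim
import Groth.Agent.Lib.Helper4.Unmixed
import Groth.Agent.Lib.Helper1.KDesc2
import Groth.Agent.Lib.Helper6.QuasiRegBasis

/-!
# Relative global complete intersections: fibrewise regularity, flatness, Koszul-regularity
(helper22)
-/

set_option autoImplicit false
set_option linter.style.haveILetI false
set_option linter.unusedSectionVars false
set_option maxHeartbeats 400000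
universe u
open TensorProduct RingTheory.Sequence

namespace Groth.Agent.Lib.Helper22.RelGCIReg

open Groth.Agent.Lib.Helper12 Groth.Agent.Lib.Helper22.NilFlat

section Aux

variable {R S : Type u} [CommRing R] [CommRing S] [Algebra R S] (p : Ideal R) [p.IsPrime]

/-- the comparison `(κ(p) ⊗ S)_q ≃ S_r / p S_r` is compatible with the maps from `S`. -/
theorem algEquivAux₂_apply (q : Ideal (p.Fiber S)) [q.IsPrime] (s : S) :
    Ideal.Fiber.algEquivAux₂ p q (algebraMap (p.Fiber S) (Localization.AtPrime q)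
      ((1 : p.ResidueField) ⊗ₜ[R] s)) =
    Ideal.Quotient.mk _ (algebraMap S (Localization.AtPrime
      (q.comap (Algebra.TensorProduct.includeRight : S →ₐ[R] p.Fiber S))) s) := by
  unfold Ideal.Fiber.algEquivAux₂
  simp
  letI : Algebra S (p.Fiber S) := Algebra.TensorProduct.rightAlgebra
  have h1 : ((1 : p.ResidueField) ⊗ₜ[R] s : p.Fiber S) = algebraMap S (p.Fiber S) s := rfl
  rw [h1, AlgEquiv.commutes]
  rw [← IsScalarTower.algebraMap_apply S
    (Localization (Algebra.algebraMapSubmonoid S p.primeCompl) ⧸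
            Ideal.map (algebraMap S (Localization (Algebra.algebraMapSubmonoid S p.primeCompl)))
              (Ideal.map (algebraMap R S) p))
    (Localization.AtPrime (Ideal.comap (Ideal.Fiber.algEquivAux₁ p).symm q))]
  rw [IsScalarTower.algebraMap_apply S (S ⧸ Ideal.map (algebraMap R S) p)
    (Localization.AtPrime (Ideal.comap (Ideal.Fiber.algEquivAux₁ p).symm q))]
  refine (@IsLocalization.map_eq _ _ _ _ _ _ _ _ ?_ _ _ _ _ _ ?_ _ _).trans ?_
  rfl

end Aux

/-- from elementwise regularity in a quotient to a lifted membership statement. -/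
theorem reg_quot_lift {B : Type u} [CommRing B] (𝔣 : Ideal B) {c : ℕ} (r : Fin c → B)
    (hreg : Groth.Agent.Lib.Helper14.ReesKer.Reg (fun j => Ideal.Quotient.mk 𝔣 (r j)))
    (k : Fin c) (w : B)
    (hw : r k * w ∈ 𝔣 ⊔ Ideal.span (r '' {j : Fin c | j < k})) :
    w ∈ 𝔣 ⊔ Ideal.span (r '' {j : Fin c | j < k}) := by
  have hI : Groth.Agent.Lib.Helper14.ReesKer.I (fun j => Ideal.Quotient.mk 𝔣 (r j)) k.val =
      (Ideal.span (r '' {j : Fin c | j < k})).map (Ideal.Quotient.mk 𝔣) := by
    unfold Groth.Agent.Lib.Helper14.ReesKer.I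
    rw [Ideal.map_span, Set.image_image]
    rfl
  have h3 := hreg k (Ideal.Quotient.mk 𝔣 w) (by
    show Ideal.Quotient.mk 𝔣 (r k) * Ideal.Quotient.mk 𝔣 w ∈ _
    rw [hI, ← map_mul, Ideal.mem_quotient_iff_mem_sup, sup_comm]
    exact hw)
  rw [hI, Ideal.mem_quotient_iff_mem_sup, sup_comm] at h3
  exact h3

/-- in a finite type domain of dimension `n` over a field, the minimal primes of an ideal whose
quotient is equidimensional of dimension `n - c` have height `c`. -/
theorem le_height_of_equidim (κ : Type u) [Field κ] (T : Type u) [CommRing T] [IsDomain T]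
    [Algebra κ T] [Algebra.FiniteType κ T] (n c : ℕ) (hcn : c ≤ n)
    (hT : ringKrullDim T = n) (JT : Ideal T)
    (hequi : ∀ P' ∈ minimalPrimes (T ⧸ JT),
      ringKrullDim ((T ⧸ JT) ⧸ P') = ((n - c : ℕ) : WithBot ℕ∞))
    (𝔯 : Ideal T) (h𝔯 : 𝔯 ∈ JT.minimalPrimes) : (c : ℕ∞) ≤ 𝔯.height := by
  have h1 := Ideal.comap_minimalPrimes_eq_of_surjective (f := Ideal.Quotient.mk JT)
    Ideal.Quotient.mk_surjective ⊥
  rw [← RingHom.ker_eq_comap_bot, Ideal.mk_ker] at h1
  rw [h1] at h𝔯
  obtain ⟨P', hP', rfl⟩ := h𝔯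
  haveI hP'p : P'.IsPrime := hP'.1.1
  haveI h𝔯p : (P'.comap (Ideal.Quotient.mk JT)).IsPrime := Ideal.comap_isPrime _ _
  have hquot : ringKrullDim (T ⧸ P'.comap (Ideal.Quotient.mk JT)) =
      ringKrullDim ((T ⧸ JT) ⧸ P') := by
    have e : (T ⧸ P'.comap (Ideal.Quotient.mk JT)) ≃+* ((T ⧸ JT) ⧸ P') :=
      RingEquiv.ofBijective (Ideal.quotientMap P' (Ideal.Quotient.mk JT) le_rfl)
        ⟨Ideal.quotientMap_injective, Ideal.quotientMap_surjective Ideal.Quotient.mk_surjective⟩
    exact ringKrullDim_eq_of_ringEquiv e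
  have hsum := DimFT2.height_add_coheight' κ T n hT ⟨P'.comap (Ideal.Quotient.mk JT), h𝔯p⟩
  rw [hequi P' hP', DimFT.ringKrullDim_quotient_eq_coheight
    ⟨P'.comap (Ideal.Quotient.mk JT), h𝔯p⟩] at hquot
  have hco : Order.coheight (⟨P'.comap (Ideal.Quotient.mk JT), h𝔯p⟩ : PrimeSpectrum T) =
      ((n - c : ℕ) : ℕ∞) := by
    apply WithBot.coe_injective
    rw [hquot]
    rfl
  rw [hco] at hsum
  have hne : Order.height (⟨P'.comap (Ideal.Quotient.mk JT), h𝔯p⟩ : PrimeSpectrum T) ≠ ⊤ := by
    intro h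
    rw [h, top_add] at hsum
    exact ENat.top_ne_natCast n hsum
  obtain ⟨a', ha'⟩ := ENat.ne_top_iff_exists.mp hne
  rw [← PrimeSpectrum.height_eq_orderHeight] at ha'
  change (a' : ℕ∞) = (P'.comap (Ideal.Quotient.mk JT)).height at ha'
  rw [← PrimeSpectrum.height_eq_orderHeight] at hsum
  change (P'.comap (Ideal.Quotient.mk JT)).height + _ = _ at hsum
  rw [← ha'] at hsum ⊢
  have h2 : a' + (n - c) = n := by exact_mod_cast hsum
  have h3 : c ≤ a' := by omega
  exact_mod_cast h3

theorem ofList_ofFn_map {T A : Type*} [CommRing T] [CommRing A] [Algebra T A] {c : ℕ}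
    (g : Fin c → T) :
    Ideal.ofList (List.ofFn fun i => algebraMap T A (g i)) =
      (Ideal.span (Set.range g)).map (algebraMap T A) := by
  rw [Groth.Agent.Lib.Helper14.LCF.ofList_ofFn, Ideal.map_span, ← Set.range_comp]
  rfl

section Fibre

variable (R : Type u) [CommRing R] (n c : ℕ) (F : Fin c → MvPolynomial (Fin n) R)

/-- in the local ring of the fibre `κ(𝔭)[x]` at a prime containing the equations, the equations
form a regular sequence. -/
theorem fibre_weaklyRegular (𝔭 : Ideal R) [𝔭.IsPrime]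
    (qf : Ideal (𝔭.Fiber (MvPolynomial (Fin n) R))) [qf.IsPrime]
    (hFq : ∀ i, (1 : 𝔭.ResidueField) ⊗ₜ[R] F i ∈ qf) (hcn : c ≤ n)
    (hdim : ringKrullDim (𝔭.Fiber (Synt.RelGCIRing R n c F)) = ((n - c : ℕ) : WithBot ℕ∞)) :
    IsWeaklyRegular (Localization.AtPrime qf)
      (List.ofFn fun i => algebraMap (𝔭.Fiber (MvPolynomial (Fin n) R)) (Localization.AtPrime qf)
        ((1 : 𝔭.ResidueField) ⊗ₜ[R] F i)) := by
  let eT : 𝔭.Fiber (MvPolynomial (Fin n) R) ≃ₐ[𝔭.ResidueField]
      MvPolynomial (Fin n) 𝔭.ResidueField := MvPolynomial.algebraTensorAlgEquiv R 𝔭.ResidueField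
  haveI : IsDomain (𝔭.Fiber (MvPolynomial (Fin n) R)) := eT.toRingEquiv.toMulEquiv.isDomain _
  haveI : IsRegularRing (𝔭.Fiber (MvPolynomial (Fin n) R)) :=
    IsRegularRing.of_ringEquiv eT.symm.toRingEquiv
  have hT : ringKrullDim (𝔭.Fiber (MvPolynomial (Fin n) R)) = n :=
    (ringKrullDim_eq_of_ringEquiv eT.toRingEquiv).trans
      (Groth.Agent.Lib.Helper24.LocCI.ringKrullDim_mvPolynomial 𝔭.ResidueField n)
  let e_fib := Algebra.TensorProduct.tensorQuotientEquiv (R := R) 𝔭.ResidueField
    (MvPolynomial (Fin n) R) 𝔭.ResidueField (Ideal.span (Set.range F))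
  have hdimB := (ringKrullDim_eq_of_ringEquiv e_fib.toRingEquiv).symm.trans hdim
  have hequi := Groth.Agent.Lib.Helper24.RelGCIDim.fibre_equidim R n c F 𝔭.ResidueField e_fib hdimB
  have hJTspan : (Ideal.span (Set.range F)).map
      (Algebra.TensorProduct.includeRight (R := R) (A := 𝔭.ResidueField)
        (B := MvPolynomial (Fin n) R)) =
      Ideal.span (Set.range fun i => (1 : 𝔭.ResidueField) ⊗ₜ[R] F i) := by
    rw [Ideal.map_span, ← Set.range_comp]
    rfl
  have hmem : ∀ x ∈ (List.ofFn fun i => algebraMap (𝔭.Fiber (MvPolynomial (Fin n) R))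
      (Localization.AtPrime qf) ((1 : 𝔭.ResidueField) ⊗ₜ[R] F i)),
      x ∈ IsLocalRing.maximalIdeal (Localization.AtPrime qf) := by
    intro x hx
    rw [List.mem_ofFn] at hx
    obtain ⟨i, rfl⟩ := hx
    exact (IsLocalization.AtPrime.to_map_mem_maximal_iff (Localization.AtPrime qf) qf _).mpr
      (hFq i)
  have hJTht : (c : ℕ∞) ≤ (Ideal.span (Set.range fun i =>
      ((1 : 𝔭.ResidueField) ⊗ₜ[R] F i : 𝔭.Fiber (MvPolynomial (Fin n) R)))).height := by
    rw [← hJTspan, Ideal.height_eq_inf_minimalPrimes]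
    refine le_iInf₂ fun 𝔯 h𝔯 => ?_
    exact le_height_of_equidim 𝔭.ResidueField (𝔭.Fiber (MvPolynomial (Fin n) R)) n c hcn hT
      _ hequi 𝔯 h𝔯
  refine (Groth.Agent.Lib.Helper4.Unmixed.unmixed_local (Localization.AtPrime qf) _ hmem ?_).1
  rw [List.length_ofFn, ofList_ofFn_map (T := 𝔭.Fiber (MvPolynomial (Fin n) R))
    (A := Localization.AtPrime qf) (fun i => (1 : 𝔭.ResidueField) ⊗ₜ[R] F i),
    ← IsLocalization.height_under qf.primeCompl]
  exact hJTht.trans (Ideal.height_mono Ideal.le_comap_map)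

/-- fibrewise regularity at the prime `Q` below `qf`. -/
theorem fibre_hreg_aux (𝔭 : Ideal R) [𝔭.IsPrime]
    (qf : Ideal (𝔭.Fiber (MvPolynomial (Fin n) R))) [qf.IsPrime]
    (hFq : ∀ i, (1 : 𝔭.ResidueField) ⊗ₜ[R] F i ∈ qf) (hcn : c ≤ n)
    (hdim : ringKrullDim (𝔭.Fiber (Synt.RelGCIRing R n c F)) = ((n - c : ℕ) : WithBot ℕ∞))
    (Q : Ideal (MvPolynomial (Fin n) R)) [Q.IsPrime]
    (hQ : qf.comap (Algebra.TensorProduct.includeRight :
      MvPolynomial (Fin n) R →ₐ[R] 𝔭.Fiber (MvPolynomial (Fin n) R)) = Q) :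
    ∀ (k : Fin c) (w : Localization.AtPrime Q),
      F k • w ∈ ((Q.comap (algebraMap R (MvPolynomial (Fin n) R))).map
          (algebraMap R (MvPolynomial (Fin n) R)) ⊔
        Ideal.span (F '' {j : Fin c | j < k})) •
          (⊤ : Submodule (MvPolynomial (Fin n) R) (Localization.AtPrime Q)) →
      w ∈ ((Q.comap (algebraMap R (MvPolynomial (Fin n) R))).map
          (algebraMap R (MvPolynomial (Fin n) R)) ⊔
        Ideal.span (F '' {j : Fin c | j < k})) •
          (⊤ : Submodule (MvPolynomial (Fin n) R) (Localization.AtPrime Q)) := by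
  subst hQ
  intro k w hw
  have hQ𝔭 : (qf.comap (Algebra.TensorProduct.includeRight :
      MvPolynomial (Fin n) R →ₐ[R] 𝔭.Fiber (MvPolynomial (Fin n) R))).comap
      (algebraMap R (MvPolynomial (Fin n) R)) = 𝔭 := by
    ext x
    rw [Ideal.mem_comap, Ideal.mem_comap]
    have : (Algebra.TensorProduct.includeRight :
      MvPolynomial (Fin n) R →ₐ[R] 𝔭.Fiber (MvPolynomial (Fin n) R))
        (algebraMap R (MvPolynomial (Fin n) R) x) =
        algebraMap R (𝔭.Fiber (MvPolynomial (Fin n) R)) x := AlgHom.commutes _ x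
    rw [this]
    exact (Ideal.mem_of_liesOver qf 𝔭 x).symm
  rw [hQ𝔭] at hw ⊢
  rw [Ideal.smul_top_eq_map, Submodule.restrictScalars_mem, Ideal.map_sup, Ideal.map_span,
    Set.image_image] at hw ⊢
  have e : F k • w = algebraMap (MvPolynomial (Fin n) R) _ (F k) * w := Algebra.smul_def _ _
  rw [e] at hw
  refine reg_quot_lift _ (fun j => algebraMap (MvPolynomial (Fin n) R) _ (F j)) ?_ k w hw
  apply Groth.Agent.Lib.Helper14.ReesKer.reg_of_isWeaklyRegular
  have hA := fibre_weaklyRegular R n c F 𝔭 qf hFq hcn hdim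
  have h2 := ((Ideal.Fiber.algEquivAux₂ 𝔭 qf).toRingEquiv.toAddEquiv.isWeaklyRegular_congr
    (as := List.ofFn fun i => algebraMap (𝔭.Fiber (MvPolynomial (Fin n) R))
      (Localization.AtPrime qf) ((1 : 𝔭.ResidueField) ⊗ₜ[R] F i))
    (bs := (List.ofFn fun i => algebraMap (𝔭.Fiber (MvPolynomial (Fin n) R))
      (Localization.AtPrime qf) ((1 : 𝔭.ResidueField) ⊗ₜ[R] F i)).map
        (Ideal.Fiber.algEquivAux₂ 𝔭 qf).toRingEquiv)
    (List.forall₂_map_right_iff.mpr (List.forall₂_same.mpr fun r _ x =>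
      map_mul (Ideal.Fiber.algEquivAux₂ 𝔭 qf).toRingEquiv r x))).mp hA
  rw [List.map_ofFn] at h2
  have hl : (⇑(Ideal.Fiber.algEquivAux₂ 𝔭 qf).toRingEquiv ∘
      fun i => algebraMap (𝔭.Fiber (MvPolynomial (Fin n) R))
        (Localization.AtPrime qf) ((1 : 𝔭.ResidueField) ⊗ₜ[R] F i)) =
      fun j => Ideal.Quotient.mk _ (algebraMap (MvPolynomial (Fin n) R) _ (F j)) :=
    funext fun j => algEquivAux₂_apply 𝔭 qf (F j)
  rw [hl] at h2
  exact h2

/-- **fibrewise regularity** of a relative global complete intersection at a prime containing the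
equations. -/
theorem fibre_hreg (hF : Synt.IsRelGCI R n c F) (Q : Ideal (MvPolynomial (Fin n) R)) [Q.IsPrime]
    (hJQ : Ideal.span (Set.range F) ≤ Q) :
    ∀ (k : Fin c) (w : Localization.AtPrime Q),
      F k • w ∈ ((Q.comap (algebraMap R (MvPolynomial (Fin n) R))).map
          (algebraMap R (MvPolynomial (Fin n) R)) ⊔
        Ideal.span (F '' {j : Fin c | j < k})) •
          (⊤ : Submodule (MvPolynomial (Fin n) R) (Localization.AtPrime Q)) →
      w ∈ ((Q.comap (algebraMap R (MvPolynomial (Fin n) R))).map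
          (algebraMap R (MvPolynomial (Fin n) R)) ⊔
        Ideal.span (F '' {j : Fin c | j < k})) •
          (⊤ : Submodule (MvPolynomial (Fin n) R) (Localization.AtPrime Q)) := by
  let p : PrimeSpectrum R := ⟨Q.comap (algebraMap R (MvPolynomial (Fin n) R)), inferInstance⟩
  let q : PrimeSpectrum (p.asIdeal.Fiber (MvPolynomial (Fin n) R)) :=
    PrimeSpectrum.preimageEquivFiber R (MvPolynomial (Fin n) R) p ⟨⟨Q, inferInstance⟩, rfl⟩
  have hq' : Ideal.comap (Algebra.TensorProduct.includeRight :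
      MvPolynomial (Fin n) R →ₐ[R] p.asIdeal.Fiber (MvPolynomial (Fin n) R)).toRingHom
      q.asIdeal = Q :=
    congrArg (fun z => z.1.asIdeal)
      ((PrimeSpectrum.preimageEquivFiber R (MvPolynomial (Fin n) R) p).left_inv
        ⟨⟨Q, inferInstance⟩, rfl⟩)
  have hq : Ideal.comap (Algebra.TensorProduct.includeRight :
      MvPolynomial (Fin n) R →ₐ[R] p.asIdeal.Fiber (MvPolynomial (Fin n) R)) q.asIdeal = Q :=
    (Ideal.ext fun x => Iff.rfl).trans hq'
  have hmemq : ∀ x ∈ Ideal.span (Set.range F), (1 : p.asIdeal.ResidueField) ⊗ₜ[R] x ∈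
      q.asIdeal := by
    intro x hx
    have h1 : x ∈ Ideal.comap (Algebra.TensorProduct.includeRight :
      MvPolynomial (Fin n) R →ₐ[R] p.asIdeal.Fiber (MvPolynomial (Fin n) R)) q.asIdeal := by
      rw [hq]; exact hJQ hx
    exact h1
  have hFq : ∀ i, (1 : p.asIdeal.ResidueField) ⊗ₜ[R] F i ∈ q.asIdeal := fun i =>
    hmemq _ (Ideal.subset_span ⟨i, rfl⟩)
  have hnt : Nontrivial (p.asIdeal.Fiber (Synt.RelGCIRing R n c F)) := by
    have hle : (Ideal.span (Set.range F)).map (Algebra.TensorProduct.includeRight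
        (R := R) (A := p.asIdeal.ResidueField) (B := MvPolynomial (Fin n) R)) ≤ q.asIdeal := by
      rw [Ideal.map_le_iff_le_comap]
      intro x hx
      exact hmemq x hx
    have hJT : (Ideal.span (Set.range F)).map (Algebra.TensorProduct.includeRight
        (R := R) (A := p.asIdeal.ResidueField) (B := MvPolynomial (Fin n) R)) ≠ ⊤ := by
      intro h
      exact q.isPrime.ne_top (top_le_iff.mp (h ▸ hle))
    haveI : Nontrivial ((p.asIdeal.Fiber (MvPolynomial (Fin n) R)) ⧸
        (Ideal.span (Set.range F)).map (Algebra.TensorProduct.includeRight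
        (R := R) (A := p.asIdeal.ResidueField) (B := MvPolynomial (Fin n) R))) :=
      Ideal.Quotient.nontrivial_iff.mpr hJT
    exact (Algebra.TensorProduct.tensorQuotientEquiv (R := R) p.asIdeal.ResidueField
      (MvPolynomial (Fin n) R) p.asIdeal.ResidueField
      (Ideal.span (Set.range F))).symm.injective.nontrivial
  obtain ⟨hcn, hdim⟩ := hF p hnt
  exact fibre_hreg_aux R n c F p.asIdeal q.asIdeal hFq hcn hdim Q hq

end Fibre

section Local

variable {R : Type u} [CommRing R] {n : ℕ}

theorem map_away_ne_top {P : Type u} [CommRing P] (q : Ideal P) [q.IsPrime] (c₀ : P)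
    (hc : c₀ ∉ q) : q.map (algebraMap P (Localization.Away c₀)) ≠ ⊤ := by
  rw [IsLocalization.map_algebraMap_ne_top_iff_disjoint (Submonoid.powers c₀)]
  rw [Set.disjoint_left]
  rintro x ⟨k, rfl⟩ hx
  exact hc (Ideal.IsPrime.mem_of_pow_mem inferInstance k hx)

/-- the fibrewise regularity statement restricts to initial segments. -/
theorem hreg_castLE {c m : ℕ} (hm : m ≤ c) (F : Fin c → MvPolynomial (Fin n) R)
    (Q : Ideal (MvPolynomial (Fin n) R)) [Q.IsPrime]
    (hreg : ∀ (k : Fin c) (w : Localization.AtPrime Q),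
      F k • w ∈ ((Q.comap (algebraMap R (MvPolynomial (Fin n) R))).map
          (algebraMap R (MvPolynomial (Fin n) R)) ⊔
        Ideal.span (F '' {j : Fin c | j < k})) •
          (⊤ : Submodule (MvPolynomial (Fin n) R) (Localization.AtPrime Q)) →
      w ∈ ((Q.comap (algebraMap R (MvPolynomial (Fin n) R))).map
          (algebraMap R (MvPolynomial (Fin n) R)) ⊔
        Ideal.span (F '' {j : Fin c | j < k})) •
          (⊤ : Submodule (MvPolynomial (Fin n) R) (Localization.AtPrime Q))) :
    ∀ (k : Fin m) (w : Localization.AtPrime Q),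
      (fun j : Fin m => F (Fin.castLE hm j)) k • w ∈
        ((Q.comap (algebraMap R (MvPolynomial (Fin n) R))).map
          (algebraMap R (MvPolynomial (Fin n) R)) ⊔
        Ideal.span ((fun j : Fin m => F (Fin.castLE hm j)) '' {j : Fin m | j < k})) •
          (⊤ : Submodule (MvPolynomial (Fin n) R) (Localization.AtPrime Q)) →
      w ∈ ((Q.comap (algebraMap R (MvPolynomial (Fin n) R))).map
          (algebraMap R (MvPolynomial (Fin n) R)) ⊔
        Ideal.span ((fun j : Fin m => F (Fin.castLE hm j)) '' {j : Fin m | j < k})) •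
          (⊤ : Submodule (MvPolynomial (Fin n) R) (Localization.AtPrime Q)) := by
  intro k w hw
  have hset : (fun j : Fin m => F (Fin.castLE hm j)) '' {j : Fin m | j < k} =
      F '' {j : Fin c | j < Fin.castLE hm k} := by
    ext x
    constructor
    · rintro ⟨j, hj, rfl⟩
      exact ⟨Fin.castLE hm j, (show (Fin.castLE hm j).val < (Fin.castLE hm k).val from hj), rfl⟩
    · rintro ⟨j, hj, rfl⟩
      have hj' : j.val < k.val := hj
      refine ⟨⟨j.val, lt_trans hj' k.isLt⟩, (show j.val < k.val from hj'), ?_⟩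
      show F (Fin.castLE hm ⟨j.val, _⟩) = F j
      congr 1
  rw [hset] at hw ⊢
  exact hreg (Fin.castLE hm k) w hw

/-- local form: regularity and flatness of the quotient in the local ring. -/
theorem local_regular_flat {m : ℕ} (gs : Fin m → MvPolynomial (Fin n) R)
    (Q : Ideal (MvPolynomial (Fin n) R)) [Q.IsPrime] (hgs : ∀ i, gs i ∈ Q)
    (hreg : ∀ (k : Fin m) (w : Localization.AtPrime Q),
      gs k • w ∈ ((Q.comap (algebraMap R (MvPolynomial (Fin n) R))).map
          (algebraMap R (MvPolynomial (Fin n) R)) ⊔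
        Ideal.span (gs '' {j : Fin m | j < k})) •
          (⊤ : Submodule (MvPolynomial (Fin n) R) (Localization.AtPrime Q)) →
      w ∈ ((Q.comap (algebraMap R (MvPolynomial (Fin n) R))).map
          (algebraMap R (MvPolynomial (Fin n) R)) ⊔
        Ideal.span (gs '' {j : Fin m | j < k})) •
          (⊤ : Submodule (MvPolynomial (Fin n) R) (Localization.AtPrime Q))) :
    IsWeaklyRegular (Localization.AtPrime Q)
        (List.ofFn fun i => algebraMap (MvPolynomial (Fin n) R) (Localization.AtPrime Q) (gs i)) ∧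
      Module.Flat R (Localization.AtPrime Q ⧸ Ideal.span (Set.range fun i =>
        algebraMap (MvPolynomial (Fin n) R) (Localization.AtPrime Q) (gs i))) := by
  have h0 := Groth.Agent.Lib.Helper14.LCF.flat_mvPolynomial_of_regular_fibre (A := R) Q gs
    (Algebra.linearMap (MvPolynomial (Fin n) R) (Localization.AtPrime Q)) hgs hreg
  exact Groth.Agent.Lib.Helper14.LCF.regular_and_flat_quot_of_flat_mvPolynomial (A := R) gs
    (Localization.AtPrime Q) h0

/-- open form. -/
theorem exists_away {m : ℕ} (gs : Fin m → MvPolynomial (Fin n) R)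
    (Q : Ideal (MvPolynomial (Fin n) R)) [Q.IsPrime] (hgs : ∀ i, gs i ∈ Q)
    (hreg : ∀ (k : Fin m) (w : Localization.AtPrime Q),
      gs k • w ∈ ((Q.comap (algebraMap R (MvPolynomial (Fin n) R))).map
          (algebraMap R (MvPolynomial (Fin n) R)) ⊔
        Ideal.span (gs '' {j : Fin m | j < k})) •
          (⊤ : Submodule (MvPolynomial (Fin n) R) (Localization.AtPrime Q)) →
      w ∈ ((Q.comap (algebraMap R (MvPolynomial (Fin n) R))).map
          (algebraMap R (MvPolynomial (Fin n) R)) ⊔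
        Ideal.span (gs '' {j : Fin m | j < k})) •
          (⊤ : Submodule (MvPolynomial (Fin n) R) (Localization.AtPrime Q))) :
    ∃ c₀ : MvPolynomial (Fin n) R, c₀ ∉ Q ∧
      IsWeaklyRegular (Localization.Away c₀)
        (List.ofFn fun i => algebraMap (MvPolynomial (Fin n) R) (Localization.Away c₀) (gs i)) ∧
      Module.Flat R (Localization.Away c₀ ⧸ Ideal.span (Set.range fun i =>
        algebraMap (MvPolynomial (Fin n) R) (Localization.Away c₀) (gs i))) := by
  obtain ⟨c₀, hc₀, H⟩ := Groth.Agent.Lib.Helper14.LCF.exists_away_regular_seq (A := R)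
    (C := MvPolynomial (Fin n) R) Q gs hgs
    (Algebra.linearMap (MvPolynomial (Fin n) R) (Localization.AtPrime Q)) hreg
  exact ⟨c₀, hc₀, H (Localization.Away c₀)⟩

end Local

/-- gluing flatness of a quotient from basic opens around the primes containing the ideal. -/
theorem flat_quot_of_forall_away {R S : Type u} [CommRing R] [CommRing S] [Algebra R S] {n : ℕ}
    (g : Fin n → S)
    (H : ∀ (Q : Ideal S) [Q.IsPrime], (∀ i, g i ∈ Q) → ∃ c : S, c ∉ Q ∧
      Module.Flat R (Localization.Away c ⧸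
        Ideal.span (Set.range fun i => algebraMap S (Localization.Away c) (g i)))) :
    Module.Flat R (S ⧸ Ideal.span (Set.range g)) := by
  classical
  let 𝒮 : Set S := {c | Module.Flat R (Localization.Away c ⧸
      Ideal.span (Set.range fun i => algebraMap S (Localization.Away c) (g i)))}
  have hspan : Ideal.span 𝒮 = ⊤ := by
    by_contra hne
    obtain ⟨Q, hQmax, hle⟩ := Ideal.exists_le_maximal _ hne
    haveI := hQmax.isPrime
    by_cases hall : ∀ i, g i ∈ Q
    · obtain ⟨c, hc, hfl⟩ := H Q hall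
      exact hc (hle (Ideal.subset_span hfl))
    · push Not at hall
      obtain ⟨i, hi⟩ := hall
      apply hi
      apply hle
      apply Ideal.subset_span
      show Module.Flat R _
      haveI : Subsingleton (Localization.Away (g i) ⧸
          Ideal.span (Set.range fun j => algebraMap S (Localization.Away (g i)) (g j))) := by
        rw [Ideal.Quotient.subsingleton_iff]
        exact Ideal.eq_top_of_isUnit_mem _ (Ideal.subset_span ⟨i, rfl⟩)
          (IsLocalization.Away.algebraMap_isUnit (g i))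
      infer_instance
  refine Module.flat_of_isLocalized_span S (S ⧸ Ideal.span (Set.range g)) 𝒮 hspan
    (fun c => Localization.Away c.1 ⧸ (Ideal.span (Set.range g)).localized' (Localization.Away c.1)
      (Submonoid.powers c.1) (Algebra.linearMap S (Localization.Away c.1)))
    (fun c => Submodule.toLocalizedQuotient' (Localization.Away c.1) (Submonoid.powers c.1)
      (Algebra.linearMap S (Localization.Away c.1)) (Ideal.span (Set.range g))) ?_
  intro c
  have h1 : Module.Flat R (Localization.Away c.1 ⧸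
      Ideal.span (Set.range fun i => algebraMap S (Localization.Away c.1) (g i))) := c.2
  refine flat_quot_congr ?_ h1
  rw [Ideal.localized'_eq_map, Ideal.map_span, ← Set.range_comp]
  rfl

section Main

variable (R : Type u) [CommRing R] (n c : ℕ) (F : Fin c → MvPolynomial (Fin n) R)

/-- a relative global complete intersection is cut out by a Koszul-regular sequence. -/
theorem isKoszulRegularSeq (hF : Synt.IsRelGCI R n c F) :
    LCI.IsKoszulRegularSeq (MvPolynomial (Fin n) R) (List.ofFn F) := by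
  apply Groth.Agent.Lib.Helper1.KDesc.isKoszulRegularSeq_of_forall_prime
  intro q'
  by_cases hJ : Ideal.span (Set.range F) ≤ q'.asIdeal
  · obtain ⟨c₀, hc₀, hW, -⟩ := exists_away F q'.asIdeal
      (fun i => hJ (Ideal.subset_span ⟨i, rfl⟩)) (fibre_hreg R n c F hF q'.asIdeal hJ)
    refine ⟨Localization.Away c₀, inferInstance, inferInstance,
      IsLocalization.flat _ (Submonoid.powers c₀),
      ⟨q'.asIdeal.map (algebraMap _ _), map_away_ne_top q'.asIdeal c₀ hc₀, le_rfl⟩, ?_⟩
    rw [List.map_ofFn]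
    exact Groth.Agent.Lib.Helper1.SecReg.isKoszulRegularSeq_of_isWeaklyRegular _ hW
  · have hex : ∃ i, F i ∉ q'.asIdeal := by
      by_contra hcon
      push Not at hcon
      exact hJ (Ideal.span_le.2 (by rintro _ ⟨i, rfl⟩; exact hcon i))
    obtain ⟨i, hi⟩ := hex
    refine ⟨Localization.Away (F i), inferInstance, inferInstance,
      IsLocalization.flat _ (Submonoid.powers (F i)),
      ⟨q'.asIdeal.map (algebraMap _ _), map_away_ne_top q'.asIdeal (F i) hi, le_rfl⟩, ?_⟩
    apply Groth.Agent.Lib.Helper1.KDesc.isKoszulRegularSeq_of_ofList_eq_top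
    exact Ideal.eq_top_of_isUnit_mem _
      (Ideal.subset_span (List.mem_map_of_mem (List.mem_ofFn.2 ⟨i, rfl⟩)))
      (IsLocalization.Away.algebraMap_isUnit (F i))

/-- a relative global complete intersection is flat. -/
theorem flat (hF : Synt.IsRelGCI R n c F) : Module.Flat R (Synt.RelGCIRing R n c F) := by
  refine flat_quot_of_forall_away F ?_
  intro Q _ hall
  obtain ⟨c₀, hc₀, -, hfl⟩ := exists_away F Q hall
    (fibre_hreg R n c F hF Q (Ideal.span_le.2 (by rintro _ ⟨i, rfl⟩; exact hall i)))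
  exact ⟨c₀, hc₀, hfl⟩

/-- a relative global complete intersection is syntomic. -/
theorem isSyntomic (hF : Synt.IsRelGCI R n c F) :
    Synt.IsSyntomic R (Synt.RelGCIRing R n c F) := by
  haveI hfp : Algebra.FinitePresentation R (Synt.RelGCIRing R n c F) :=
    Algebra.FinitePresentation.quotient (Submodule.fg_span (Set.finite_range F))
  refine ⟨flat R n c F hF, hfp, fun p => ?_⟩
  refine ⟨inferInstance, fun 𝔯 => ⟨1, fun h => 𝔯.isPrime.ne_top
    ((Ideal.eq_top_iff_one _).2 h), ?_⟩⟩
  apply Groth.Agent.Lib.Helper24.LocCI.isGlobalCI_away p.asIdeal.ResidueField _ 1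
  have hnt : Nontrivial (p.asIdeal.Fiber (Synt.RelGCIRing R n c F)) := 𝔯.nontrivial
  obtain ⟨hcn, hdim⟩ := hF p hnt
  right
  let P' := (Algebra.Presentation.naive (v := F)).baseChange p.asIdeal.ResidueField
  refine ⟨n, c, hcn, MvPolynomial.aeval P'.val, P'.relation, P'.aeval_val_surjective, ?_, hdim⟩
  rw [P'.span_range_relation_eq_ker]
  exact P'.ker_eq_ker_aeval_val.symm

/-- the equations of a relative global complete intersection are quasi-regular. -/
theorem isQuasiRegular (hF : Synt.IsRelGCI R n c F) : CAlgX.IsQuasiRegular F := by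
  have h1 := isKoszulRegularSeq R n c F hF
  have h2 : CAlgX.IsH1Regular (List.ofFn F).get := fun a ha =>
    H10KL.h1_of_isZero_homology _ (List.ofFn F) (h1 (-1) (by norm_num)) a ha
  have h3 := Groth.Agent.Lib.Helper14.H1Reg.qr_of_h1 (List.ofFn F).get h2
  have h4 := Groth.Agent.Lib.Helper22.RegFlatBC.isQuasiRegular_cast
    (List.length_ofFn (f := F)).symm (List.ofFn F).get h3
  have h5 : (fun i : Fin c => (List.ofFn F).get (Fin.cast (List.length_ofFn (f := F)).symm i)) =
      F := by
    funext i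
    simp
  rw [h5] at h4
  exact h4

end Main

end Groth.Agent.Lib.Helper22.RelGCIReg
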