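import Mathlib
import Groth.Prelude.Def_CAlg
import Groth.Agent.Lib.Helper4.CM
import Groth.Agent.S0341

/-!
# Liaison: Cohen–Macaulay rings have no embedded primes
-/

set_option autoImplicit false

namespace Groth.Agent.Lib.Helper22.Liaison

open Groth.Agent.Lib.Helper4

universe u

section General

variable {A : Type u} [CommRing A]

/-- a Gorenstein ring is Cohen–Macaulay. -/
theorem cm_of_gorenstein [LocCoh.IsGorensteinRing A] : LocCoh.IsCohenMacaulayRing A where
  isCohenMacaulayLocalRing_localization := fun p _ => by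
    haveI := LocCoh.IsGorensteinRing.isGorensteinLocalRing_localization (A := A) p
    exact Groth.Agent.S0341.result (Localization.AtPrime p)

/-- in a Cohen–Macaulay ring, associated primes of the ring are minimal. -/
theorem ass_subset_minimalPrimes [LocCoh.IsCohenMacaulayRing A] :
    associatedPrimes A A ⊆ minimalPrimes A := by
  intro p hp
  haveI : p.IsPrime := hp.isPrime
  let B := Localization.AtPrime p
  haveI hB : LocCoh.IsCohenMacaulayLocalRing B :=
    LocCoh.IsCohenMacaulayRing.isCohenMacaulayLocalRing_localization (R := A) p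
  have h1 : IsLocalRing.maximalIdeal B ∈ associatedPrimes B B := by
    apply Module.associatedPrimes.mem_associatedPrimes_of_comap_mem_associatedPrimes_of_isLocalizedModule
      p.primeCompl (Algebra.linearMap A B)
    have : Ideal.comap (algebraMap A B) (IsLocalRing.maximalIdeal B) = p :=
      Localization.AtPrime.comap_maximalIdeal
    rw [this]
    exact hp
  have hcm : LocCoh.IsCohenMacaulayModule B B := hB.supportDim_eq_depth
  have h2 := cm_ringKrullDim_quotient_eq hcm h1
  rw [Module.supportDim_self_eq_ringKrullDim,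
    ringKrullDim_eq_zero_of_isField
      ((Ideal.Quotient.maximal_ideal_iff_isField_quotient _).1 inferInstance),
    IsLocalization.AtPrime.ringKrullDim_eq_height p B] at h2
  have h3 : p.height = 0 := by
    exact_mod_cast h2.symm
  exact Ideal.height_eq_zero_iff.1 h3

end General

section Quot

variable {R : Type u} [CommRing R] [IsNoetherianRing R] (c : Ideal R)

/-- associated primes of `R/c` over `R` are associated primes of `R/c` over itself. -/
theorem map_mem_ass_of_mem_ass {P : Ideal R} (hP : P ∈ associatedPrimes R (R ⧸ c)) :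
    ∃ 𝔭 ∈ associatedPrimes (R ⧸ c) (R ⧸ c), P = 𝔭.comap (Ideal.Quotient.mk c) := by
  obtain ⟨hprime, x, hx⟩ := isAssociatedPrime_iff.1 hP
  have hcomap : P = ((⊥ : Submodule (R ⧸ c) (R ⧸ c)).colon {x}).comap (Ideal.Quotient.mk c) := by
    ext r
    rw [hx, Ideal.mem_comap, Submodule.mem_colon_singleton, Submodule.mem_colon_singleton,
      Submodule.mem_bot, Submodule.mem_bot]
    rfl
  refine ⟨(⊥ : Submodule (R ⧸ c) (R ⧸ c)).colon {x}, ?_, hcomap⟩
  rw [AssociatedPrimes.mem_iff, isAssociatedPrime_iff]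
  refine ⟨?_, x, rfl⟩
  have hle : c ≤ P := by
    intro r hr
    rw [hx, Submodule.mem_colon_singleton, Submodule.mem_bot]
    obtain ⟨y, rfl⟩ := Ideal.Quotient.mk_surjective x
    show (Ideal.Quotient.mk c) r * (Ideal.Quotient.mk c) y = 0
    rw [Ideal.Quotient.eq_zero_iff_mem.2 hr, zero_mul]
  have h1 : (P.map (Ideal.Quotient.mk c)).IsPrime :=
    Ideal.map_isPrime_of_surjective Ideal.Quotient.mk_surjective (by rwa [Ideal.mk_ker])
  have h2 : P.map (Ideal.Quotient.mk c) = (⊥ : Submodule (R ⧸ c) (R ⧸ c)).colon {x} := by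
    rw [hcomap, Ideal.map_comap_of_surjective _ Ideal.Quotient.mk_surjective]
  rwa [h2] at h1

/-- when `R/c` is Cohen–Macaulay, `c` has no embedded primes. -/
theorem ass_subset_minimalPrimes_quot [LocCoh.IsCohenMacaulayRing (R ⧸ c)] :
    associatedPrimes R (R ⧸ c) ⊆ c.minimalPrimes := by
  intro P hP
  obtain ⟨𝔭, h𝔭, rfl⟩ := map_mem_ass_of_mem_ass c hP
  rw [Ideal.minimalPrimes_eq_comap]
  exact ⟨𝔭, ass_subset_minimalPrimes h𝔭, rfl⟩

/-- minimal primes over `I` are associated primes of `R/I`. -/
theorem minimalPrimes_subset_ass (I : Ideal R) : I.minimalPrimes ⊆ associatedPrimes R (R ⧸ I) := by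
  have := Module.associatedPrimes.minimalPrimes_annihilator_subset_associatedPrimes R (R ⧸ I)
  rwa [Ideal.annihilator_quotient] at this

/-- a minimal prime over `c` containing `I ≥ c` is minimal over `I`. -/
theorem mem_minimalPrimes_of_le {c I P : Ideal R} (hP : P ∈ c.minimalPrimes) (hcI : c ≤ I)
    (hIP : I ≤ P) : P ∈ I.minimalPrimes := by
  refine ⟨⟨hP.1.1, hIP⟩, ?_⟩
  rintro Q ⟨hQ, hIQ⟩ hQP
  exact hP.2 ⟨hQ, hcI.trans hIQ⟩ hQP

theorem le_colon (I : Ideal R) (S : Set R) : I ≤ I.colon S := by
  intro x hx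
  rw [Submodule.mem_colon]
  intro s _
  exact I.mul_mem_right _ hx

/-- **geometric linkage from disjoint associated primes.** -/
theorem inf_eq_of_linked [LocCoh.IsCohenMacaulayRing (R ⧸ c)] (I J : Ideal R)
    (hIJ : c.colon (I : Set R) = J) (hJI : c.colon (J : Set R) = I)
    (hdisj : Disjoint (associatedPrimes R (R ⧸ I)) (associatedPrimes R (R ⧸ J))) :
    I ⊓ J = c := by
  have hcI : c ≤ I := hJI ▸ le_colon c _
  have hcJ : c ≤ J := hIJ ▸ le_colon c _
  apply le_antisymm _ (le_inf hcI hcJ)
  rintro x ⟨hxI, hxJ⟩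
  by_contra hxc
  have hx0 : (Ideal.Quotient.mk c x) ≠ 0 := fun h => hxc (Ideal.Quotient.eq_zero_iff_mem.1 h)
  obtain ⟨P, hP, hle⟩ := exists_le_isAssociatedPrime_of_isNoetherianRing R
    (Ideal.Quotient.mk c x) hx0
  have hcol : ∀ a : R, a * x ∈ c → a ∈ P := by
    intro a ha
    apply hle
    rw [Submodule.mem_colon_singleton, Submodule.mem_bot]
    show (Ideal.Quotient.mk c) a * (Ideal.Quotient.mk c) x = 0
    rw [← map_mul]
    exact Ideal.Quotient.eq_zero_iff_mem.2 ha
  have hJP : J ≤ P := by
    intro a ha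
    rw [← hIJ, Submodule.mem_colon] at ha
    exact hcol a (ha x hxI)
  have hIP : I ≤ P := by
    intro a ha
    rw [← hJI, Submodule.mem_colon] at ha
    exact hcol a (ha x hxJ)
  have hPmin := ass_subset_minimalPrimes_quot c hP
  have h1 := minimalPrimes_subset_ass I (mem_minimalPrimes_of_le hPmin hcI hIP)
  have h2 := minimalPrimes_subset_ass J (mem_minimalPrimes_of_le hPmin hcJ hJP)
  exact Set.disjoint_left.1 hdisj h1 h2

end Quot

end Groth.Agent.Lib.Helper22.Liaison
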