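import Mathlib
import Groth.Prelude.Def_GrSyz
import Groth.Agent.Lib.Helper12.DimFT2
import Groth.Agent.Lib.Helper22.Liaison1

/-!
# Liaison: homogeneous Cohen–Macaulay quotients of polynomial rings are equidimensional
-/

set_option autoImplicit false

namespace Groth.Agent.Lib.Helper22.Liaison

open Groth.Agent.Lib.Helper4 MvPolynomial

universe u

section Poly

variable (K : Type u) [Field K] (n : ℕ)

/-- the irrelevant maximal ideal of the polynomial ring. -/
noncomputable def irr : Ideal (MvPolynomial (Fin (n + 1)) K) :=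
  RingHom.ker (MvPolynomial.constantCoeff (R := K) (σ := Fin (n + 1)))

instance irr_isMaximal : (irr K n).IsMaximal :=
  RingHom.ker_isMaximal_of_surjective _ (fun c => ⟨C c, constantCoeff_C _ c⟩)

variable {K n}

lemma comp_zero (p : MvPolynomial (Fin (n + 1)) K) :
    weightedHomogeneousComponent (fun _ : Fin (n + 1) => (1 : ℤ)) 0 p = C (constantCoeff p) := by
  classical
  ext1 d
  rw [coeff_weightedHomogeneousComponent, coeff_C]
  by_cases hd : d = 0
  · subst hd
    simp [constantCoeff_eq]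
  · rw [if_neg (Ne.symm hd), if_neg]
    intro h
    apply hd
    simp only [Finsupp.weight, LinearMap.toAddMonoidHom_coe, Finsupp.linearCombination_apply,
      Finsupp.sum] at h
    ext i
    by_contra hi
    have hpos : ∀ j ∈ d.support, (0 : ℤ) ≤ ((d j : ℕ) • (1 : ℤ)) := by
      intro j _
      positivity
    have hsum := (Finset.sum_eq_zero_iff_of_nonneg hpos).1 h i (Finsupp.mem_support_iff.2 hi)
    simp at hsum
    exact hi hsum

lemma le_irr {𝔞 : Ideal (MvPolynomial (Fin (n + 1)) K)}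
    (h𝔞 : 𝔞.IsHomogeneous (GrSyz.stdGr K (Fin (n + 1)))) (hne : 𝔞 ≠ ⊤) : 𝔞 ≤ irr K n := by
  classical
  intro a ha
  show constantCoeff a = 0
  by_contra h0
  have h1 : weightedHomogeneousComponent (fun _ : Fin (n + 1) => (1 : ℤ)) 0 a ∈ 𝔞 :=
    weightedHomogeneousComponent_mem_of_mem K _ h𝔞 ha 0
  rw [comp_zero] at h1
  apply hne
  apply Ideal.eq_top_of_isUnit_mem _ h1
  exact (IsUnit.mk0 _ h0).map C

/-- minimal primes over a homogeneous ideal are homogeneous. -/
lemma isHomogeneous_of_mem_minimalPrimes {𝔞 : Ideal (MvPolynomial (Fin (n + 1)) K)}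
    (h𝔞 : 𝔞.IsHomogeneous (GrSyz.stdGr K (Fin (n + 1)))) {P : Ideal (MvPolynomial (Fin (n + 1)) K)}
    (hP : P ∈ 𝔞.minimalPrimes) : P.IsHomogeneous (GrSyz.stdGr K (Fin (n + 1))) := by
  have hPp : P.IsPrime := hP.1.1
  have hcore : (P.homogeneousCore (GrSyz.stdGr K (Fin (n + 1)))).toIdeal.IsPrime :=
    Ideal.IsPrime.homogeneousCore hPp
  have hle : 𝔞 ≤ (P.homogeneousCore (GrSyz.stdGr K (Fin (n + 1)))).toIdeal :=
    h𝔞.toIdeal_homogeneousCore_eq_self.symm.trans_le (Ideal.homogeneousCore_mono _ hP.1.2)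
  have h1 := hP.2 ⟨hcore, hle⟩ (Ideal.toIdeal_homogeneousCore_le _ P)
  have heq : (P.homogeneousCore (GrSyz.stdGr K (Fin (n + 1)))).toIdeal = P :=
    le_antisymm (Ideal.toIdeal_homogeneousCore_le _ P) h1
  rw [← heq]
  exact (P.homogeneousCore (GrSyz.stdGr K (Fin (n + 1)))).isHomogeneous

end Poly

section Spec

lemma strictMono_comap_of_surjective {A A' : Type*} [CommRing A] [CommRing A'] (f : A →+* A')
    (hf : Function.Surjective f) : StrictMono (PrimeSpectrum.comap f) :=
  Monotone.strictMono_of_injective (fun _ _ h => Ideal.comap_mono h)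
    (PrimeSpectrum.comap_injective_of_surjective f hf)

lemma strictMono_comap_localization {A : Type*} (B : Type*) [CommRing A] [CommRing B] [Algebra A B]
    (M : Submonoid A) [IsLocalization M B] : StrictMono (PrimeSpectrum.comap (algebraMap A B)) :=
  Monotone.strictMono_of_injective (fun _ _ h => Ideal.comap_mono h)
    (PrimeSpectrum.localization_comap_injective B M)

end Spec

section Equidim

variable {K : Type u} [Field K] {n : ℕ}

/-- the dimension of the localization of `R/c` at the irrelevant ideal bounds `dim R/P` from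
above, for homogeneous primes `P ⊇ c`. -/
theorem dim_quot_le_height (c : Ideal (MvPolynomial (Fin (n + 1)) K))
    (P : Ideal (MvPolynomial (Fin (n + 1)) K)) [P.IsPrime]
    (hP : P.IsHomogeneous (GrSyz.stdGr K (Fin (n + 1)))) (hcP : c ≤ P) :
    ringKrullDim (MvPolynomial (Fin (n + 1)) K ⧸ P) ≤
      (((irr K n).map (Ideal.Quotient.mk c)).height : WithBot ℕ∞) := by
  have hPne : P ≠ ⊤ := Ideal.IsPrime.ne_top'
  have hPm : P ≤ irr K n := le_irr hP hPne
  -- the dimension of `R/P` is a natural number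
  have hfin : ringKrullDim (MvPolynomial (Fin (n + 1)) K ⧸ P) ≤ ((n + 1 : ℕ) : WithBot ℕ∞) := by
    refine (ringKrullDim_quotient_le P).trans ?_
    rw [MvPolynomial.ringKrullDim_of_isNoetherianRing, ringKrullDim_eq_zero_of_field]
    simp
  have hnn : (0 : WithBot ℕ∞) ≤ ringKrullDim (MvPolynomial (Fin (n + 1)) K ⧸ P) :=
    ringKrullDim_nonneg_of_nontrivial
  obtain ⟨d, hd⟩ : ∃ d : ℕ, ringKrullDim (MvPolynomial (Fin (n + 1)) K ⧸ P) = d := by
    generalize ringKrullDim (MvPolynomial (Fin (n + 1)) K ⧸ P) = x at hfin hnn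
    induction x using WithBot.recBotCoe with
    | bot => exact absurd hnn (by simp)
    | coe x =>
      induction x using ENat.recTopCoe with
      | top =>
        exfalso
        have : ((⊤ : ℕ∞) : WithBot ℕ∞) ≤ ((n + 1 : ℕ) : ℕ∞) := by exact_mod_cast hfin
        rw [WithBot.coe_le_coe] at this
        exact absurd this (by simp)
      | coe m => exact ⟨m, rfl⟩
  have hker : RingHom.ker (Ideal.Quotient.mk P) ≤ irr K n := by rwa [Ideal.mk_ker]
  have hmax : ((irr K n).map (Ideal.Quotient.mk P)).IsMaximal := by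
    rcases Ideal.map_eq_top_or_isMaximal_of_surjective (Ideal.Quotient.mk P)
      Ideal.Quotient.mk_surjective (irr_isMaximal K n) with h | h
    · exfalso
      have h2 := congrArg (Ideal.comap (Ideal.Quotient.mk P)) h
      rw [Ideal.comap_map_of_surjective _ Ideal.Quotient.mk_surjective, Ideal.comap_top,
        ← RingHom.ker_eq_comap_bot, sup_eq_left.2 hker] at h2
      exact (irr_isMaximal K n).ne_top h2
    · exact h
  have h1 := Groth.Agent.Lib.Helper12.DimFT.height_eq_of_isMaximal K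
    (MvPolynomial (Fin (n + 1)) K ⧸ P) d hd ((irr K n).map (Ideal.Quotient.mk P))
  rw [hd]
  have hkerc : RingHom.ker (Ideal.Quotient.mk c) ≤ irr K n := by
    rw [Ideal.mk_ker]
    exact hcP.trans hPm
  haveI hprc : ((irr K n).map (Ideal.Quotient.mk c)).IsPrime :=
    Ideal.map_isPrime_of_surjective Ideal.Quotient.mk_surjective hkerc
  -- compare heights along `R/c → R/P`
  let g : (MvPolynomial (Fin (n + 1)) K ⧸ c) →+* (MvPolynomial (Fin (n + 1)) K ⧸ P) :=
    Ideal.Quotient.factor hcP
  have hg : Function.Surjective g := Ideal.Quotient.factor_surjective hcP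
  have hcomap : Ideal.comap g ((irr K n).map (Ideal.Quotient.mk P)) =
      (irr K n).map (Ideal.Quotient.mk c) := by
    apply Ideal.comap_injective_of_surjective (Ideal.Quotient.mk c) Ideal.Quotient.mk_surjective
    rw [Ideal.comap_comap, Ideal.comap_map_of_surjective _ Ideal.Quotient.mk_surjective,
      ← RingHom.ker_eq_comap_bot, sup_eq_left.2 hkerc]
    have : g.comp (Ideal.Quotient.mk c) = Ideal.Quotient.mk P := by
      ext x <;> rfl
    rw [this, Ideal.comap_map_of_surjective _ Ideal.Quotient.mk_surjective,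
      ← RingHom.ker_eq_comap_bot, sup_eq_left.2 hker]
  have h2 := Order.height_le_height_apply_of_strictMono _ (strictMono_comap_of_surjective g hg)
    (⟨(irr K n).map (Ideal.Quotient.mk P), hmax.isPrime⟩ : PrimeSpectrum _)
  rw [← PrimeSpectrum.height_eq_orderHeight, ← PrimeSpectrum.height_eq_orderHeight] at h2
  have h3 : (PrimeSpectrum.comap g ⟨(irr K n).map (Ideal.Quotient.mk P), hmax.isPrime⟩).asIdeal =
      (irr K n).map (Ideal.Quotient.mk c) := hcomap
  rw [h3] at h2
  simp only at h2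
  rw [h1] at h2
  exact_mod_cast h2

/-- for a minimal prime `P` of `c` with `R/c` Cohen–Macaulay, `dim R/P` is at least the dimension
of the localization at the irrelevant ideal. -/
theorem height_le_dim_quot (c : Ideal (MvPolynomial (Fin (n + 1)) K))
    [LocCoh.IsCohenMacaulayRing (MvPolynomial (Fin (n + 1)) K ⧸ c)]
    (P : Ideal (MvPolynomial (Fin (n + 1)) K)) (hP : P ∈ c.minimalPrimes) (hPm : P ≤ irr K n) :
    (((irr K n).map (Ideal.Quotient.mk c)).height : WithBot ℕ∞) ≤
      ringKrullDim (MvPolynomial (Fin (n + 1)) K ⧸ P) := by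
  haveI hPp : P.IsPrime := hP.1.1
  have hcP : c ≤ P := hP.1.2
  have hkerc : RingHom.ker (Ideal.Quotient.mk c) ≤ irr K n := by
    rw [Ideal.mk_ker]
    exact hcP.trans hPm
  haveI hprc : ((irr K n).map (Ideal.Quotient.mk c)).IsPrime :=
    Ideal.map_isPrime_of_surjective Ideal.Quotient.mk_surjective hkerc
  set 𝔪A := (irr K n).map (Ideal.Quotient.mk c) with h𝔪A
  have hcomap𝔪 : Ideal.comap (Ideal.Quotient.mk c) 𝔪A = irr K n := by
    rw [h𝔪A, Ideal.comap_map_of_surjective _ Ideal.Quotient.mk_surjective,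
      ← RingHom.ker_eq_comap_bot, sup_eq_left.2 hkerc]
  rw [Ideal.minimalPrimes_eq_comap] at hP
  obtain ⟨𝔭, h𝔭, h𝔭P⟩ := hP
  haveI h𝔭p : 𝔭.IsPrime := h𝔭.1.1
  have h𝔭le : 𝔭 ≤ 𝔪A := by
    rw [← Ideal.comap_le_comap_iff_of_surjective (Ideal.Quotient.mk c) Ideal.Quotient.mk_surjective,
      h𝔭P, hcomap𝔪]
    exact hPm
  let B := Localization.AtPrime 𝔪A
  haveI hB : LocCoh.IsCohenMacaulayLocalRing B :=
    LocCoh.IsCohenMacaulayRing.isCohenMacaulayLocalRing_localization
      (R := MvPolynomial (Fin (n + 1)) K ⧸ c) 𝔪A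
  have hdisj : Disjoint (𝔪A.primeCompl : Set (MvPolynomial (Fin (n + 1)) K ⧸ c)) (𝔭 : Set _) := by
    rw [Set.disjoint_left]
    intro x hx hx𝔭
    exact hx (h𝔭le hx𝔭)
  set q := 𝔭.map (algebraMap (MvPolynomial (Fin (n + 1)) K ⧸ c) B) with hq
  haveI hqp : q.IsPrime := IsLocalization.isPrime_of_isPrime_disjoint 𝔪A.primeCompl B 𝔭 h𝔭p hdisj
  have hqc : q.under (MvPolynomial (Fin (n + 1)) K ⧸ c) = 𝔭 :=
    IsLocalization.under_map_of_isPrime_disjoint 𝔪A.primeCompl B h𝔭p hdisj
  have hqmin : q ∈ minimalPrimes B := by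
    have h1 := IsLocalization.minimalPrimes_map 𝔪A.primeCompl B
      (⊥ : Ideal (MvPolynomial (Fin (n + 1)) K ⧸ c))
    rw [Ideal.map_bot] at h1
    show q ∈ (⊥ : Ideal B).minimalPrimes
    rw [h1, Set.mem_preimage, hqc]
    exact h𝔭
  have hann : Module.annihilator B B = ⊥ := by
    rw [eq_bot_iff]
    intro r hr
    have := Module.mem_annihilator.1 hr (1 : B)
    rw [smul_eq_mul, mul_one] at this
    rw [this]
    exact Submodule.zero_mem _
  have hqass : q ∈ associatedPrimes B B := by
    have h1 := Module.associatedPrimes.minimalPrimes_annihilator_subset_associatedPrimes B B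
    rw [hann] at h1
    exact h1 hqmin
  have hcm : LocCoh.IsCohenMacaulayModule B B := hB.supportDim_eq_depth
  have h2 := cm_ringKrullDim_quotient_eq hcm hqass
  rw [Module.supportDim_self_eq_ringKrullDim,
    IsLocalization.AtPrime.ringKrullDim_eq_height 𝔪A B] at h2
  rw [← h2]
  -- transfer coheight along the comap
  have h3 := Groth.Agent.Lib.Helper12.DimFT.ringKrullDim_quotient_eq_coheight (A := B)
    ⟨q, hqp⟩
  have h4 := Groth.Agent.Lib.Helper12.DimFT.ringKrullDim_quotient_eq_coheight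
    (⟨P, hPp⟩ : PrimeSpectrum (MvPolynomial (Fin (n + 1)) K))
  simp only at h3 h4
  rw [h3, h4]
  have hsm : StrictMono ((PrimeSpectrum.comap (Ideal.Quotient.mk c)) ∘
      (PrimeSpectrum.comap (algebraMap (MvPolynomial (Fin (n + 1)) K ⧸ c) B))) :=
    (strictMono_comap_of_surjective _ Ideal.Quotient.mk_surjective).comp
      (strictMono_comap_localization B 𝔪A.primeCompl)
  have h5 := Order.coheight_le_coheight_apply_of_strictMono _ hsm ⟨q, hqp⟩
  have h6 : ((PrimeSpectrum.comap (Ideal.Quotient.mk c)) ∘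
      (PrimeSpectrum.comap (algebraMap (MvPolynomial (Fin (n + 1)) K ⧸ c) B))) ⟨q, hqp⟩ =
      (⟨P, hPp⟩ : PrimeSpectrum (MvPolynomial (Fin (n + 1)) K)) := by
    apply PrimeSpectrum.ext
    show Ideal.comap (Ideal.Quotient.mk c) (q.under _) = P
    rw [hqc, h𝔭P]
  rw [h6] at h5
  exact_mod_cast h5

/-- **equidimensionality**: all minimal primes of a homogeneous ideal with Cohen–Macaulay quotient
have the same coheight. -/
theorem dim_quot_eq_of_mem_minimalPrimes (c : Ideal (MvPolynomial (Fin (n + 1)) K))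
    (hc : c.IsHomogeneous (GrSyz.stdGr K (Fin (n + 1))))
    [LocCoh.IsCohenMacaulayRing (MvPolynomial (Fin (n + 1)) K ⧸ c)]
    (P : Ideal (MvPolynomial (Fin (n + 1)) K)) (hP : P ∈ c.minimalPrimes) :
    ringKrullDim (MvPolynomial (Fin (n + 1)) K ⧸ P) =
      (((irr K n).map (Ideal.Quotient.mk c)).height : WithBot ℕ∞) := by
  haveI hPp : P.IsPrime := hP.1.1
  have hPh := isHomogeneous_of_mem_minimalPrimes hc hP
  have hPm : P ≤ irr K n := le_irr hPh Ideal.IsPrime.ne_top'
  exact le_antisymm (dim_quot_le_height c P hPh hP.1.2) (height_le_dim_quot c P hP hPm)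

/-- all minimal primes of a homogeneous ideal with Cohen–Macaulay quotient have the same height,
equal to the height of the ideal. -/
theorem height_eq_of_mem_minimalPrimes (c : Ideal (MvPolynomial (Fin (n + 1)) K))
    (hc : c.IsHomogeneous (GrSyz.stdGr K (Fin (n + 1))))
    [LocCoh.IsCohenMacaulayRing (MvPolynomial (Fin (n + 1)) K ⧸ c)]
    (P : Ideal (MvPolynomial (Fin (n + 1)) K)) (hP : P ∈ c.minimalPrimes) :
    P.height = c.height := by
  have hdimR : ringKrullDim (MvPolynomial (Fin (n + 1)) K) = ((n + 1 : ℕ) : WithBot ℕ∞) := by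
    rw [MvPolynomial.ringKrullDim_of_isNoetherianRing, ringKrullDim_eq_zero_of_field]
    simp
  have key : ∀ Q ∈ c.minimalPrimes, P.height = Q.height := by
    intro Q hQ
    haveI hPp : P.IsPrime := hP.1.1
    haveI hQp : Q.IsPrime := hQ.1.1
    have e1 := dim_quot_eq_of_mem_minimalPrimes c hc P hP
    have e2 := dim_quot_eq_of_mem_minimalPrimes c hc Q hQ
    rw [Groth.Agent.Lib.Helper12.DimFT.ringKrullDim_quotient_eq_coheight
      (⟨P, hPp⟩ : PrimeSpectrum (MvPolynomial (Fin (n + 1)) K))] at e1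
    rw [Groth.Agent.Lib.Helper12.DimFT.ringKrullDim_quotient_eq_coheight
      (⟨Q, hQp⟩ : PrimeSpectrum (MvPolynomial (Fin (n + 1)) K))] at e2
    have e3 : Order.coheight (⟨P, hPp⟩ : PrimeSpectrum (MvPolynomial (Fin (n + 1)) K)) =
        Order.coheight (⟨Q, hQp⟩ : PrimeSpectrum (MvPolynomial (Fin (n + 1)) K)) := by
      have := e1.trans e2.symm
      exact_mod_cast this
    have a1 := Groth.Agent.Lib.Helper12.DimFT2.height_add_coheight' K
      (MvPolynomial (Fin (n + 1)) K) (n + 1) hdimR ⟨P, hPp⟩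
    have a2 := Groth.Agent.Lib.Helper12.DimFT2.height_add_coheight' K
      (MvPolynomial (Fin (n + 1)) K) (n + 1) hdimR ⟨Q, hQp⟩
    rw [← PrimeSpectrum.height_eq_orderHeight] at a1 a2
    simp only at a1 a2
    rw [e3] at a1
    have hfin : Order.coheight (⟨Q, hQp⟩ : PrimeSpectrum (MvPolynomial (Fin (n + 1)) K)) ≠ ⊤ := by
      refine ne_top_of_le_ne_top (ENat.coe_ne_top (n + 1)) ?_
      rw [← a2]
      exact le_add_self
    have := a1.trans a2.symm
    exact (ENat.add_left_injective_of_ne_top hfin) this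
  rw [Ideal.height_eq_inf_minimalPrimes c]
  apply le_antisymm
  · exact le_iInf₂ (fun Q hQ => (key Q hQ).le)
  · exact iInf₂_le P hP

end Equidim

end Groth.Agent.Lib.Helper22.Liaison
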