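import Mathlib
import Groth.Agent.Lib.Helper22.Liaison2

/-!
# Liaison: the linked ideal `c : I` is unmixed
-/

set_option autoImplicit false

namespace Groth.Agent.Lib.Helper22.Liaison

open Groth.Agent.Lib.Helper4 MvPolynomial

universe u

section Colon

variable {R : Type u} [CommRing R] [IsNoetherianRing R]

/-- the annihilator of the class of `x` in `R/(c : I)`, as an intersection of colons. -/
lemma colon_bot_quot_colon (c I : Ideal R) (s : Finset R) (hs : Ideal.span (s : Set R) = I) (x : R) :
    (⊥ : Submodule R (R ⧸ c.colon (I : Set R))).colon {Ideal.Quotient.mk _ x} =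
      s.inf (fun f => c.colon {x * f}) := by
  ext r
  rw [Submodule.mem_colon_singleton, Submodule.mem_bot, Submodule.mem_finsetInf]
  have h1 : r • (Ideal.Quotient.mk (c.colon (I : Set R)) x) = 0 ↔ r * x ∈ c.colon (I : Set R) := by
    rw [← Ideal.Quotient.eq_zero_iff_mem, map_mul]
    rfl
  rw [h1]
  constructor
  · intro h f hf
    rw [Submodule.mem_colon_singleton]
    have := Submodule.mem_colon.1 h f (hs ▸ Ideal.subset_span hf)
    rw [smul_eq_mul] at this ⊢
    rw [← mul_assoc]
    exact this
  · intro h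
    rw [Submodule.mem_colon]
    have hle : I ≤ c.colon {r * x} := by
      rw [← hs, Ideal.span_le]
      intro f hf
      have := h f hf
      rw [Submodule.mem_colon_singleton, smul_eq_mul] at this
      rw [SetLike.mem_coe, Submodule.mem_colon_singleton, smul_eq_mul, mul_comm]
      rw [← mul_assoc] at this
      exact this
    intro i hi
    have := hle hi
    rw [Submodule.mem_colon_singleton, smul_eq_mul] at this
    rw [smul_eq_mul, mul_comm]
    exact this

/-- associated primes of `R/(c : I)` are associated primes of `R/c`. -/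
theorem ass_colon_subset (c I : Ideal R) :
    associatedPrimes R (R ⧸ c.colon (I : Set R)) ⊆ associatedPrimes R (R ⧸ c) := by
  classical
  intro P hP
  obtain ⟨hprime, x, hx⟩ := isAssociatedPrime_iff.1 hP
  obtain ⟨x, rfl⟩ := Ideal.Quotient.mk_surjective x
  obtain ⟨s, hs⟩ := (isNoetherianRing_iff_ideal_fg R).1 inferInstance I
  rw [colon_bot_quot_colon c I s hs x] at hx
  obtain ⟨f, hf, hfP⟩ := (Ideal.IsPrime.inf_le' hprime).1 (le_of_eq hx.symm)
  have hPf : P = c.colon {x * f} := le_antisymm (hx ▸ Finset.inf_le hf) hfP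
  rw [AssociatedPrimes.mem_iff, isAssociatedPrime_iff]
  refine ⟨hprime, Ideal.Quotient.mk c (x * f), ?_⟩
  rw [hPf]
  ext r
  rw [Submodule.mem_colon_singleton, Submodule.mem_colon_singleton, Submodule.mem_bot,
    smul_eq_mul, ← Ideal.Quotient.eq_zero_iff_mem, map_mul]
  rfl

end Colon

section Main

variable {K : Type u} [Field K] {n : ℕ}

/-- every associated prime of a homogeneous Cohen–Macaulay quotient has the height of the ideal. -/
theorem height_eq_of_mem_ass (c : Ideal (MvPolynomial (Fin (n + 1)) K))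
    (hc : c.IsHomogeneous (GrSyz.stdGr K (Fin (n + 1))))
    [LocCoh.IsCohenMacaulayRing (MvPolynomial (Fin (n + 1)) K ⧸ c)]
    (P : Ideal (MvPolynomial (Fin (n + 1)) K))
    (hP : P ∈ associatedPrimes (MvPolynomial (Fin (n + 1)) K) (MvPolynomial (Fin (n + 1)) K ⧸ c)) :
    P.height = c.height :=
  height_eq_of_mem_minimalPrimes c hc P (ass_subset_minimalPrimes_quot c hP)

/-- **the linked ideal is unmixed.** -/
theorem colon_unmixed (c I : Ideal (MvPolynomial (Fin (n + 1)) K))
    (hc : c.IsHomogeneous (GrSyz.stdGr K (Fin (n + 1))))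
    [LocCoh.IsCohenMacaulayRing (MvPolynomial (Fin (n + 1)) K ⧸ c)] (hIc : ¬ I ≤ c) :
    (c.colon (I : Set (MvPolynomial (Fin (n + 1)) K))).height = c.height ∧
      ∀ p ∈ associatedPrimes (MvPolynomial (Fin (n + 1)) K)
        (MvPolynomial (Fin (n + 1)) K ⧸ c.colon (I : Set (MvPolynomial (Fin (n + 1)) K))),
        p.height = c.height := by
  have hass : ∀ p ∈ associatedPrimes (MvPolynomial (Fin (n + 1)) K)
      (MvPolynomial (Fin (n + 1)) K ⧸ c.colon (I : Set (MvPolynomial (Fin (n + 1)) K))),
      p.height = c.height := fun p hp => height_eq_of_mem_ass c hc p (ass_colon_subset c I hp)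
  refine ⟨?_, hass⟩
  have hne : c.colon (I : Set (MvPolynomial (Fin (n + 1)) K)) ≠ ⊤ := by
    intro h
    apply hIc
    intro i hi
    have h1 : (1 : MvPolynomial (Fin (n + 1)) K) ∈ c.colon (I : Set (MvPolynomial (Fin (n + 1)) K)) :=
      h ▸ Submodule.mem_top
    have := Submodule.mem_colon.1 h1 i hi
    rwa [one_smul] at this
  rw [Ideal.height_eq_inf_minimalPrimes]
  obtain ⟨Q, hQ⟩ := Ideal.nonempty_minimalPrimes hne
  apply le_antisymm
  · exact (iInf₂_le Q hQ).trans (hass Q (minimalPrimes_subset_ass _ hQ)).le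
  · exact le_iInf₂ (fun Q' hQ' => (hass Q' (minimalPrimes_subset_ass _ hQ')).ge)

end Main

end Groth.Agent.Lib.Helper22.Liaison
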