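import Mathlib
import Groth.Agent.Lib.Helper22.Liaison3
import Groth.Agent.Lib.Helper22.CMGlue
import Groth.Agent.Lib.Helper22.CMReg

/-!
# Liaison: basic double links preserve unmixedness
-/

set_option autoImplicit false

namespace Groth.Agent.Lib.Helper22.Liaison

open Groth.Agent.Lib.Helper4 Groth.Agent.Lib.Helper22.CMG MvPolynomial

universe u

section Descent

variable {S : Type u} [CommRing S] [IsNoetherianRing S]

/-- the quotient of a Cohen–Macaulay quotient by a non-zero-divisor is Cohen–Macaulay. -/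
theorem isCMRing_sup_span (𝔞 : Ideal S) (x : S) [LocCoh.IsCohenMacaulayRing (S ⧸ 𝔞)]
    (hreg : ∀ a, x * a ∈ 𝔞 → a ∈ 𝔞) :
    LocCoh.IsCohenMacaulayRing (S ⧸ (𝔞 ⊔ Ideal.span {x})) := by
  apply isCMRing_quotient_of_forall
  intro P _ hP
  have h𝔞P : 𝔞 ≤ P := le_sup_left.trans hP
  have hxP : x ∈ P := hP (Ideal.mem_sup_right (Ideal.mem_span_singleton_self x))
  haveI := map_mk_isPrime 𝔞 P h𝔞P
  haveI : LocCoh.IsCohenMacaulayLocalRing (Localization.AtPrime (P.map (Ideal.Quotient.mk 𝔞))) :=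
    LocCoh.IsCohenMacaulayRing.isCohenMacaulayLocalRing_localization (R := S ⧸ 𝔞) _
  have h1 : CMat 𝔞 P :=
    cmAt_of_isCMLocalRing 𝔞 (P.map (Ideal.Quotient.mk 𝔞)) P (comap_map_mk_eq 𝔞 P h𝔞P).symm
  unfold CMat at h1 ⊢
  have hxm : algebraMap S (Localization.AtPrime P) x ∈
      IsLocalRing.maximalIdeal (Localization.AtPrime P) := by
    rw [IsLocalization.AtPrime.to_map_mem_maximal_iff (Localization.AtPrime P) P]
    exact hxP
  have h2 := cm_quotSMulTop h1 hxm (isSMulRegular_map 𝔞 x hreg P)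
  rw [Ideal.map_sup, Ideal.map_span, Set.image_singleton]
  exact (cm_congr (quotSMulTopQuotEquiv _ _)).1 h2

end Descent

section DoubleLink

variable {R : Type u} [CommRing R] [IsNoetherianRing R]

/-- multiplication by `f` from `R/I` to `R/(J + fI)`. -/
noncomputable def mulMap (J I : Ideal R) (f : R) :
    (R ⧸ I) →ₗ[R] (R ⧸ (J ⊔ Ideal.span {f} * I)) :=
  Submodule.mapQ I (J ⊔ Ideal.span {f} * I) (LinearMap.lsmul R R f) (by
    intro x hx
    rw [Submodule.mem_comap]
    exact Ideal.mem_sup_right (Ideal.mul_mem_mul (Ideal.mem_span_singleton_self f) hx))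

/-- the projection `R/(J + fI) → R/(J + (f))`. -/
noncomputable def projMap (J I : Ideal R) (f : R) :
    (R ⧸ (J ⊔ Ideal.span {f} * I)) →ₗ[R] (R ⧸ (J ⊔ Ideal.span {f})) :=
  Submodule.mapQ (J ⊔ Ideal.span {f} * I) (J ⊔ Ideal.span {f}) LinearMap.id (by
    intro x hx
    rw [Submodule.mem_comap, LinearMap.id_apply]
    exact (sup_le_sup_left Ideal.mul_le_left J) hx)

lemma mulMap_mk (J I : Ideal R) (f x : R) :
    mulMap J I f (Ideal.Quotient.mk I x) = Ideal.Quotient.mk _ (f * x) := rfl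

lemma projMap_mk (J I : Ideal R) (f x : R) :
    projMap J I f (Ideal.Quotient.mk _ x) = Ideal.Quotient.mk _ x := rfl

theorem mulMap_injective (J I : Ideal R) (f : R) (hJI : J ≤ I) (hJf : J.colon {f} = J) :
    Function.Injective (mulMap J I f) := by
  rw [← LinearMap.ker_eq_bot, eq_bot_iff]
  intro y hy
  obtain ⟨x, rfl⟩ := Ideal.Quotient.mk_surjective y
  rw [LinearMap.mem_ker, mulMap_mk, Ideal.Quotient.eq_zero_iff_mem] at hy
  rw [Submodule.mem_bot, Ideal.Quotient.eq_zero_iff_mem]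
  obtain ⟨j, hj, z, hz, hjz⟩ := Submodule.mem_sup.1 hy
  obtain ⟨i, hi, rfl⟩ := Ideal.mem_span_singleton_mul.1 hz
  have h1 : x - i ∈ J.colon {f} := by
    rw [Submodule.mem_colon_singleton, smul_eq_mul]
    have : (x - i) * f = j := by
      rw [← eq_sub_iff_add_eq] at hjz
      rw [hjz]
      ring
    rw [this]
    exact hj
  rw [hJf] at h1
  have h2 := I.add_mem (hJI h1) hi
  rwa [sub_add_cancel] at h2

theorem exact_mulMap_projMap (J I : Ideal R) (f : R) :
    Function.Exact (mulMap J I f) (projMap J I f) := by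
  intro y
  obtain ⟨y₀, rfl⟩ := Ideal.Quotient.mk_surjective y
  rw [projMap_mk, Ideal.Quotient.eq_zero_iff_mem]
  constructor
  · intro h
    obtain ⟨j, hj, z, hz, hjz⟩ := Submodule.mem_sup.1 h
    obtain ⟨r, rfl⟩ := Ideal.mem_span_singleton'.1 hz
    refine ⟨Ideal.Quotient.mk I r, ?_⟩
    rw [mulMap_mk, ← sub_eq_zero, ← map_sub, Ideal.Quotient.eq_zero_iff_mem]
    have : f * r - y₀ = -j := by
      rw [← hjz]
      ring
    rw [this]
    exact Ideal.mem_sup_left (J.neg_mem hj)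
  · rintro ⟨x, hx⟩
    obtain ⟨x₀, rfl⟩ := Ideal.Quotient.mk_surjective x
    rw [mulMap_mk] at hx
    have h1 : f * x₀ - y₀ ∈ J ⊔ Ideal.span {f} * I := by
      rw [← Ideal.Quotient.eq_zero_iff_mem, map_sub, hx, sub_self]
    have h2 : f * x₀ - y₀ ∈ J ⊔ Ideal.span {f} := (sup_le_sup_left Ideal.mul_le_left J) h1
    have h3 : f * x₀ ∈ J ⊔ Ideal.span {f} :=
      Ideal.mem_sup_right (Ideal.mem_span_singleton'.2 ⟨x₀, mul_comm _ _⟩)
    have := (J ⊔ Ideal.span {f}).sub_mem h3 h2
    rwa [sub_sub_cancel] at this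

end DoubleLink

section Main

variable {K : Type u} [Field K] {n : ℕ}

theorem hS_poly (P : Ideal (MvPolynomial (Fin (n + 1)) K)) [P.IsPrime] :
    LocCoh.IsCohenMacaulayLocalRing (Localization.AtPrime P) :=
  isCMLocalRing_of_isRegularRing P

/-- the associated primes of `R/(J + (f))` have height `ht J + 1`. -/
theorem height_of_mem_ass_sup_span (J : Ideal (MvPolynomial (Fin (n + 1)) K))
    (hJ : J.IsHomogeneous (GrSyz.stdGr K (Fin (n + 1))))
    [LocCoh.IsCohenMacaulayRing (MvPolynomial (Fin (n + 1)) K ⧸ J)]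
    (f : MvPolynomial (Fin (n + 1)) K) (hJf : J.colon {f} = J)
    (p : Ideal (MvPolynomial (Fin (n + 1)) K))
    (hp : p ∈ associatedPrimes (MvPolynomial (Fin (n + 1)) K)
      (MvPolynomial (Fin (n + 1)) K ⧸ (J ⊔ Ideal.span {f}))) :
    p.height = J.height + 1 := by
  have hreg : ∀ a, f * a ∈ J → a ∈ J := by
    intro a ha
    rw [← hJf, Submodule.mem_colon_singleton, smul_eq_mul, mul_comm]
    exact ha
  haveI := isCMRing_sup_span J f hreg
  have hpmin := ass_subset_minimalPrimes_quot _ hp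
  haveI hpp : p.IsPrime := hpmin.1.1
  have hJp : J ≤ p := le_sup_left.trans hpmin.1.2
  have hfp : f ∈ p := hpmin.1.2 (Ideal.mem_sup_right (Ideal.mem_span_singleton_self f))
  obtain ⟨P₀, hP₀, hP₀p⟩ := Ideal.exists_minimalPrimes_le hJp
  haveI hP₀p' : P₀.IsPrime := hP₀.1.1
  have hh : P₀.height = J.height := height_eq_of_mem_minimalPrimes J hJ P₀ hP₀
  have hfP₀ : f ∉ P₀ := by
    intro hf
    have hass := minimalPrimes_subset_ass J hP₀
    obtain ⟨-, y, hy⟩ := isAssociatedPrime_iff.1 hass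
    obtain ⟨y, rfl⟩ := Ideal.Quotient.mk_surjective y
    rw [hy, Submodule.mem_colon_singleton, Submodule.mem_bot] at hf
    have h1 : f * y ∈ J := by
      rw [← Ideal.Quotient.eq_zero_iff_mem, map_mul]
      exact hf
    have h2 := hreg y h1
    have h3 : (1 : MvPolynomial (Fin (n + 1)) K) ∈ P₀ := by
      rw [hy, Submodule.mem_colon_singleton, Submodule.mem_bot, one_smul]
      exact Ideal.Quotient.eq_zero_iff_mem.2 h2
    exact hP₀p'.ne_top ((Ideal.eq_top_iff_one _).2 h3)
  have hlt : P₀ < p := lt_of_le_of_ne hP₀p (fun h => hfP₀ (h ▸ hfp))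
  have hmin : p ∈ (P₀ ⊔ Ideal.span {f}).minimalPrimes := by
    refine mem_minimalPrimes_of_le hpmin (sup_le_sup_right hP₀.1.2 _) ?_
    exact sup_le hP₀p ((Ideal.span_singleton_le_iff_mem _).2 hfp)
  rw [height_eq_add_one_of_minimalPrimes (fun P _ => hS_poly P) P₀ p f hlt hmin, hh]

/-- **basic double links preserve unmixedness.** -/
theorem double_link_unmixed (J I : Ideal (MvPolynomial (Fin (n + 1)) K))
    (hJ : J.IsHomogeneous (GrSyz.stdGr K (Fin (n + 1)))) (hJI : J ≤ I)
    [LocCoh.IsCohenMacaulayRing (MvPolynomial (Fin (n + 1)) K ⧸ J)]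
    (f : MvPolynomial (Fin (n + 1)) K) (hJf : J.colon {f} = J) :
    (∀ p ∈ associatedPrimes (MvPolynomial (Fin (n + 1)) K) (MvPolynomial (Fin (n + 1)) K ⧸ I),
        p.height = J.height + 1) ↔
      ∀ p ∈ associatedPrimes (MvPolynomial (Fin (n + 1)) K)
        (MvPolynomial (Fin (n + 1)) K ⧸ (J ⊔ Ideal.span {f} * I)), p.height = J.height + 1 := by
  constructor
  · intro h p hp
    rcases associatedPrimes.subset_union_of_exact (mulMap_injective J I f hJI hJf)
      (exact_mulMap_projMap J I f) hp with h1 | h1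
    · exact h p h1
    · exact height_of_mem_ass_sup_span J hJ f hJf p h1
  · intro h p hp
    exact h p (associatedPrimes.subset_of_injective (mulMap_injective J I f hJI hJf) hp)

end Main

end Groth.Agent.Lib.Helper22.Liaison
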