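import Mathlib
import Groth.Prelude
import Groth.Agent.Lib.Helper22.SmoothDim

/-!
# Smooth algebras over a field are local complete intersections
-/

set_option linter.style.haveILetI false

namespace Groth.Agent.Lib.Helper22.SmoothLCI

universe u

open Groth.Agent.Lib.Helper22.SmoothDim

/-- A standard smooth algebra over a field is a global complete intersection. -/
theorem isGlobalCI_of_isStandardSmooth (k : Type u) [Field k] (T : Type u) [CommRing T]
    [Algebra k T] [Algebra.IsStandardSmooth k T] : Synt.IsGlobalCI k T := by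
  classical
  by_cases hT : Subsingleton T
  · exact Or.inl hT
  haveI : Nontrivial T := not_subsingleton_iff_nontrivial.mp hT
  obtain ⟨ι, σ, hσ, hι, ⟨P⟩⟩ := Algebra.IsStandardSmooth.out (R := k) (S := T)
  haveI := hσ
  haveI := hι
  right
  refine ⟨Nat.card ι, Nat.card σ, Nat.card_le_card_of_injective P.map P.map_inj, ?_⟩
  -- the dimension
  haveI : Algebra.IsStandardSmoothOfRelativeDimension (Nat.card ι - Nat.card σ) k T :=
    ⟨ι, σ, hσ, hι, P, rfl⟩
  obtain ⟨g, hg⟩ := Algebra.IsStandardSmoothOfRelativeDimension.exists_etale_mvPolynomial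
    (Nat.card ι - Nat.card σ) k T
  have hdim : ringKrullDim T = ((Nat.card ι - Nat.card σ : ℕ) : WithBot ℕ∞) := by
    algebraize [g.toRingHom]
    haveI : IsScalarTower k (MvPolynomial (Fin (Nat.card ι - Nat.card σ)) k) T :=
      IsScalarTower.of_algebraMap_eq' g.comp_algebraMap.symm
    haveI : Algebra.Etale (MvPolynomial (Fin (Nat.card ι - Nat.card σ)) k) T := hg
    exact ringKrullDim_eq_of_etale k _ T
  -- the presentation
  let eι : ι ≃ Fin (Nat.card ι) := Finite.equivFin ι
  let eσ : σ ≃ Fin (Nat.card σ) := Finite.equivFin σ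
  let E : MvPolynomial (Fin (Nat.card ι)) k ≃ₐ[k] MvPolynomial ι k :=
    MvPolynomial.renameEquiv k eι.symm
  refine ⟨(MvPolynomial.aeval P.val).comp E.toAlgHom,
    fun j => E.symm (P.relation (eσ.symm j)), ?_, ?_, hdim⟩
  · exact P.aeval_val_surjective.comp E.surjective
  · have hker : P.ker = RingHom.ker (MvPolynomial.aeval P.val).toRingHom :=
      P.ker_eq_ker_aeval_val
    have h1 : RingHom.ker ((MvPolynomial.aeval P.val).comp E.toAlgHom).toRingHom =
        Ideal.comap E.toRingEquiv.toRingHom (RingHom.ker (MvPolynomial.aeval P.val).toRingHom) := by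
      rw [RingHom.comap_ker]
      rfl
    rw [h1, ← hker, ← P.span_range_relation_eq_ker]
    have h2 : Ideal.comap E.toRingEquiv.toRingHom (Ideal.span (Set.range P.relation)) =
        Ideal.map E.symm.toRingEquiv.toRingHom (Ideal.span (Set.range P.relation)) := by
      ext x
      rw [Ideal.mem_comap]
      constructor
      · intro hx
        have := Ideal.mem_map_of_mem E.symm.toRingEquiv.toRingHom hx
        simpa using this
      · intro hx
        have := Ideal.mem_map_of_mem E.toRingEquiv.toRingHom hx
        rw [Ideal.map_map] at this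
        have hid : (E.toRingEquiv.toRingHom).comp (E.symm.toRingEquiv.toRingHom) =
            RingHom.id _ := by
          ext y <;> simp
        rw [hid, Ideal.map_id] at this
        exact this
    rw [h2, Ideal.map_span]
    congr 1
    ext x
    constructor
    · rintro ⟨y, ⟨i, rfl⟩, rfl⟩
      exact ⟨eσ i, by simp⟩
    · rintro ⟨j, rfl⟩
      exact ⟨P.relation (eσ.symm j), ⟨_, rfl⟩, rfl⟩

end Groth.Agent.Lib.Helper22.SmoothLCI
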