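import Mathlib

/-!
# Euler characteristic of a finite exact sequence of finite-dimensional pieces
-/

namespace Groth.Agent.Lib.Helper22.GrHilbEuler

open Module

variable {k : Type*} [Field k]

/-- rank-nullity for a linear map restricted to a finite-dimensional submodule, with the kernel
described inside the ambient space. -/
lemma finrank_eq_map_add_ker {V W : Type*} [AddCommGroup V] [Module k V] [AddCommGroup W] [Module k W]
    (f : V →ₗ[k] W) (P : Submodule k V) [FiniteDimensional k P] (Z : Submodule k V)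
    (hZ : ∀ v, v ∈ Z ↔ v ∈ P ∧ f v = 0) :
    finrank k P = finrank k (P.map f) + finrank k Z := by
  have h1 := LinearMap.finrank_range_add_finrank_ker (f.domRestrict P)
  rw [LinearMap.range_domRestrict] at h1
  have h2 : (LinearMap.ker (f.domRestrict P)).map P.subtype = Z := by
    ext v
    simp only [Submodule.mem_map, LinearMap.mem_ker, Submodule.subtype_apply, Subtype.exists,
      exists_and_right, exists_eq_right]
    rw [hZ]
    constructor
    · rintro ⟨hv, h0⟩
      exact ⟨hv, h0⟩
    · rintro ⟨hv, h0⟩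
      exact ⟨hv, h0⟩
  have h3 : finrank k (LinearMap.ker (f.domRestrict P)) = finrank k Z := by
    rw [← h2, Submodule.finrank_map_subtype_eq]
  omega

/-- Euler characteristic. -/
theorem euler {E : ℕ → Type*} [∀ i, AddCommGroup (E i)] [∀ i, Module k (E i)]
    {W : Type*} [AddCommGroup W] [Module k W]
    (δ : ∀ i, E (i + 1) →ₗ[k] E i) (ε : E 0 →ₗ[k] W)
    (P : ∀ i, Submodule k (E i)) [∀ i, FiniteDimensional k (P i)] (Q : Submodule k W)
    (hε : (P 0).map ε = Q)
    (hex0 : ∀ v, (v ∈ P 0 ∧ ε v = 0) ↔ v ∈ (P 1).map (δ 0))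
    (hex : ∀ i v, (v ∈ P (i + 1) ∧ δ i v = 0) ↔ v ∈ (P (i + 2)).map (δ (i + 1)))
    (m : ℕ) (hm : ∀ i, m < i → P i = ⊥) :
    (finrank k Q : ℤ) = ∑ i ∈ Finset.range (m + 1), (-1 : ℤ) ^ i * (finrank k (P i) : ℤ) := by
  -- c i = dim of the image of P (i+1) in E i
  set c : ℕ → ℕ := fun i => finrank k ((P (i + 1)).map (δ i)) with hc
  have hp0 : finrank k (P 0) = finrank k Q + c 0 := by
    have := finrank_eq_map_add_ker ε (P 0) ((P 1).map (δ 0)) (fun v => (hex0 v).symm)
    rw [hε] at this
    exact this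
  have hp : ∀ i, finrank k (P (i + 1)) = c i + c (i + 1) := by
    intro i
    exact finrank_eq_map_add_ker (δ i) (P (i + 1)) ((P (i + 2)).map (δ (i + 1)))
      (fun v => (hex i v).symm)
  have hcm : c m = 0 := by
    simp only [hc]
    rw [hm (m + 1) (Nat.lt_succ_self m), Submodule.map_bot, finrank_bot]
  have key : ∀ n : ℕ, ∑ i ∈ Finset.range (n + 1), (-1 : ℤ) ^ i * (finrank k (P i) : ℤ) =
      (finrank k Q : ℤ) + (-1 : ℤ) ^ n * (c n : ℤ) := by
    intro n
    induction n with
    | zero =>
      simp [hp0]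
    | succ n ih =>
      rw [Finset.sum_range_succ, ih, hp n]
      push_cast
      ring
  rw [key m, hcm]
  simp

end Groth.Agent.Lib.Helper22.GrHilbEuler
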