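import Mathlib
import Groth.Prelude.Def_GrSyz
import Groth.Agent.Lib.Helper22.GrHilbEuler

/-!
# Hilbert function from a finite graded free resolution
-/

namespace Groth.Agent.Lib.Helper22.GrHilb

open Module DirectSum Groth.Agent.Lib.Helper22.GrHilbEuler

universe u

section decomp

variable {k : Type u} [Field k] {R : Type u} [CommRing R] [Algebra k R] {M : Type u} [AddCommGroup M]
  [Module k M] [Module R M] [IsScalarTower k R M]
  (𝒜 : ℤ → Submodule k R) [GradedAlgebra 𝒜] (ℳ : ℤ → Submodule k M) [DirectSum.Decomposition ℳ]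
  [SetLike.GradedSMul 𝒜 ℳ]

lemma coe_decompose_smul_of_left_mem {a : R} {i : ℤ} (ha : a ∈ 𝒜 i) (m : M) (n : ℤ) :
    (decompose ℳ (a • m) n : M) = a • (decompose ℳ m (n - i) : M) := by
  induction m using DirectSum.Decomposition.inductionOn ℳ with
  | zero => simp
  | @homogeneous j m =>
    obtain ⟨x, hx⟩ := m
    change (decompose ℳ (a • x) n : M) = a • (decompose ℳ x (n - i) : M)
    have hmem : a • x ∈ ℳ (i + j) := SetLike.GradedSMul.smul_mem ha hx
    by_cases h : i + j = n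
    · have hj : j = n - i := by omega
      have h1 : a • x ∈ ℳ n := h ▸ hmem
      have h2 : x ∈ ℳ (n - i) := hj ▸ hx
      rw [decompose_of_mem_same ℳ h1, decompose_of_mem_same ℳ h2]
    · have hj : j ≠ n - i := by omega
      rw [decompose_of_mem_ne ℳ hmem h, decompose_of_mem_ne ℳ hx hj, smul_zero]
  | add m m' hm hm' =>
    rw [smul_add, decompose_add, decompose_add, DirectSum.add_apply, DirectSum.add_apply,
      AddMemClass.coe_add, AddMemClass.coe_add, hm, hm', smul_add]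

lemma coe_decompose_smul_of_right_mem (a : R) {j : ℤ} {m : M} (hm : m ∈ ℳ j) (n : ℤ) :
    (decompose ℳ (a • m) n : M) = (decompose 𝒜 a (n - j) : R) • m := by
  induction a using DirectSum.Decomposition.inductionOn 𝒜 with
  | zero => simp
  | @homogeneous i a =>
    obtain ⟨x, hx⟩ := a
    change (decompose ℳ (x • m) n : M) = (decompose 𝒜 x (n - j) : R) • m
    have hmem : x • m ∈ ℳ (i + j) := SetLike.GradedSMul.smul_mem hx hm
    by_cases h : i + j = n
    · have hi : i = n - j := by omega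
      have h1 : x • m ∈ ℳ n := h ▸ hmem
      have h2 : x ∈ 𝒜 (n - j) := hi ▸ hx
      rw [decompose_of_mem_same ℳ h1, decompose_of_mem_same 𝒜 h2]
    · have hi : i ≠ n - j := by omega
      rw [decompose_of_mem_ne ℳ hmem h, decompose_of_mem_ne 𝒜 hx hi, zero_smul]
  | add a a' ha ha' =>
    rw [add_smul, decompose_add, decompose_add, DirectSum.add_apply, DirectSum.add_apply,
      AddMemClass.coe_add, AddMemClass.coe_add, ha, ha', add_smul]

/-- the projection to the degree `n` piece, as an endomorphism. -/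
noncomputable def projM (n : ℤ) : M →ₗ[k] M where
  toFun m := (decompose ℳ m n : M)
  map_add' x y := by rw [decompose_add, DirectSum.add_apply, AddMemClass.coe_add]
  map_smul' c x := by
    simp only [decompose_smul, RingHom.id_apply]
    rfl

lemma projM_apply (n : ℤ) (m : M) : projM ℳ n m = (decompose ℳ m n : M) := rfl

lemma projM_mem (n : ℤ) (m : M) : projM ℳ n m ∈ ℳ n := (decompose ℳ m n).2

lemma projM_of_mem {n : ℤ} {m : M} (hm : m ∈ ℳ n) : projM ℳ n m = m :=
  decompose_of_mem_same ℳ hm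

end decomp

section free

variable {k : Type u} [Field k] {R : Type u} [CommRing R] [Algebra k R]
  (𝒜 : ℤ → Submodule k R) [GradedAlgebra 𝒜]

/-- the degree `d` piece of the free module with basis degrees `a`. -/
def piece {N : ℕ} (a : Fin N → ℤ) (d : ℤ) : Submodule k (Fin N → R) :=
  Submodule.pi Set.univ (fun b => 𝒜 (d - a b))

lemma mem_piece {N : ℕ} (a : Fin N → ℤ) (d : ℤ) (w : Fin N → R) :
    w ∈ piece 𝒜 a d ↔ ∀ b, w b ∈ 𝒜 (d - a b) := by
  simp [piece]

/-- projection to the degree `d` piece of a free module. -/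
noncomputable def projF {N : ℕ} (a : Fin N → ℤ) (d : ℤ) : (Fin N → R) →ₗ[k] (Fin N → R) :=
  LinearMap.pi (fun b => (projM 𝒜 (d - a b)).comp (LinearMap.proj b))

lemma projF_apply {N : ℕ} (a : Fin N → ℤ) (d : ℤ) (w : Fin N → R) (b : Fin N) :
    projF 𝒜 a d w b = (decompose 𝒜 (w b) (d - a b) : R) := rfl

lemma projF_mem {N : ℕ} (a : Fin N → ℤ) (d : ℤ) (w : Fin N → R) : projF 𝒜 a d w ∈ piece 𝒜 a d := by
  rw [mem_piece]
  intro b
  rw [projF_apply]
  exact (decompose 𝒜 (w b) (d - a b)).2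

lemma projF_of_mem {N : ℕ} (a : Fin N → ℤ) (d : ℤ) {w : Fin N → R} (hw : w ∈ piece 𝒜 a d) :
    projF 𝒜 a d w = w := by
  rw [mem_piece] at hw
  funext b
  rw [projF_apply]
  exact decompose_of_mem_same 𝒜 (hw b)

lemma projF_mulVec {N N' : ℕ} (a : Fin N → ℤ) (a' : Fin N' → ℤ) (D : Matrix (Fin N) (Fin N') R)
    (hD : ∀ x y, D x y ∈ 𝒜 (a' y - a x)) (d : ℤ) (w : Fin N' → R) :
    projF 𝒜 a d (D.mulVec w) = D.mulVec (projF 𝒜 a' d w) := by
  funext x
  rw [projF_apply]
  simp only [Matrix.mulVec, dotProduct]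
  have h1 : ((decompose 𝒜 (∑ y, D x y * w y) (d - a x)) : R) = projM 𝒜 (d - a x) (∑ y, D x y * w y) := rfl
  rw [h1, map_sum]
  refine Finset.sum_congr rfl (fun y _ => ?_)
  rw [projM_apply, projF_apply]
  have := coe_decompose_smul_of_left_mem 𝒜 𝒜 (hD x y) (w y) (d - a x)
  rw [smul_eq_mul, smul_eq_mul] at this
  have e : d - a x - (a' y - a x) = d - a' y := by omega
  rw [e] at this
  exact this

variable {M : Type u} [AddCommGroup M] [Module k M] [Module R M] [IsScalarTower k R M]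
  (ℳ : ℤ → Submodule k M) [DirectSum.Decomposition ℳ] [SetLike.GradedSMul 𝒜 ℳ]

lemma projM_linearCombination {N : ℕ} (a : Fin N → ℤ) (aug : Fin N → M) (haug : ∀ b, aug b ∈ ℳ (a b))
    (d : ℤ) (w : Fin N → R) :
    projM ℳ d (Fintype.linearCombination R aug w) =
      Fintype.linearCombination R aug (projF 𝒜 a d w) := by
  rw [Fintype.linearCombination_apply, Fintype.linearCombination_apply, map_sum]
  refine Finset.sum_congr rfl (fun b _ => ?_)
  rw [projM_apply, projF_apply]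
  exact coe_decompose_smul_of_right_mem 𝒜 ℳ (w b) (haug b) d

lemma linearCombination_mem {N : ℕ} (a : Fin N → ℤ) (aug : Fin N → M) (haug : ∀ b, aug b ∈ ℳ (a b))
    (d : ℤ) {w : Fin N → R} (hw : w ∈ piece 𝒜 a d) :
    Fintype.linearCombination R aug w ∈ ℳ d := by
  rw [← projF_of_mem 𝒜 a d hw, ← projM_linearCombination 𝒜 ℳ a aug haug]
  exact projM_mem ℳ d _

end free

section exact

variable {k : Type*} [Field k]

/-- exactness passes to pieces cut out by commuting projections. -/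
lemma exact_piece {E' E W : Type*} [AddCommGroup E'] [Module k E'] [AddCommGroup E] [Module k E]
    [AddCommGroup W] [Module k W]
    (f : E' →ₗ[k] E) (g : E →ₗ[k] W) (π' : E' →ₗ[k] E') (π : E →ₗ[k] E)
    (P' : Submodule k E') (P : Submodule k E)
    (hπ'mem : ∀ v, π' v ∈ P') (hπ'fix : ∀ v ∈ P', π' v = v)
    (hπmem : ∀ v, π v ∈ P) (hπfix : ∀ v ∈ P, π v = v)
    (hcomm : ∀ v, π (f v) = f (π' v))
    (hex : ∀ v, g v = 0 ↔ ∃ u, f u = v) (v : E) :
    (v ∈ P ∧ g v = 0) ↔ v ∈ P'.map f := by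
  constructor
  · rintro ⟨hv, h0⟩
    obtain ⟨u, rfl⟩ := (hex v).1 h0
    refine ⟨π' u, hπ'mem u, ?_⟩
    rw [← hcomm, hπfix _ hv]
  · rintro ⟨u, hu, rfl⟩
    refine ⟨?_, (hex _).2 ⟨u, rfl⟩⟩
    have : π (f u) = f u := by rw [hcomm, hπ'fix u hu]
    rw [← this]
    exact hπmem _

end exact

section main

variable {k : Type u} [Field k] {R : Type u} [CommRing R] [Algebra k R]
  (𝒜 : ℤ → Submodule k R) [GradedAlgebra 𝒜]

/-- the piece is the product of the pieces of the ring. -/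
noncomputable def pieceEquiv {N : ℕ} (a : Fin N → ℤ) (d : ℤ) :
    piece 𝒜 a d ≃ₗ[k] (∀ b, 𝒜 (d - a b)) where
  toFun w b := ⟨w.1 b, (mem_piece 𝒜 a d w.1).1 w.2 b⟩
  invFun v := ⟨fun b => (v b : R), (mem_piece 𝒜 a d _).2 (fun b => (v b).2)⟩
  map_add' := by intros; rfl
  map_smul' := by intros; rfl
  left_inv := by intro; rfl
  right_inv := by intro; rfl

instance piece_finiteDimensional [∀ n, FiniteDimensional k (𝒜 n)] {N : ℕ} (a : Fin N → ℤ) (d : ℤ) :
    FiniteDimensional k (piece 𝒜 a d) :=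
  Module.Finite.equiv (pieceEquiv 𝒜 a d).symm

lemma finrank_piece [∀ n, FiniteDimensional k (𝒜 n)] {N : ℕ} (a : Fin N → ℤ) (d : ℤ) :
    finrank k (piece 𝒜 a d) = ∑ b, finrank k (𝒜 (d - a b)) := by
  rw [LinearEquiv.finrank_eq (pieceEquiv 𝒜 a d), Module.finrank_pi_fintype]

variable [∀ n, FiniteDimensional k (𝒜 n)]
  {M : Type u} [AddCommGroup M] [Module k M] [Module R M] [IsScalarTower k R M]
  (ℳ : ℤ → Submodule k M) [DirectSum.Decomposition ℳ] [SetLike.GradedSMul 𝒜 ℳ]

/-- The Hilbert function of a graded module with a finite graded free resolution. -/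
theorem hilbert (F : GrSyz.FreeRes 𝒜 ℳ) (m : ℕ) (hF : F.HasLengthLE m) (d : ℤ) :
    (finrank k (ℳ d) : ℤ) = ∑ i ∈ Finset.range (m + 1), (-1 : ℤ) ^ i *
      ∑ b : Fin (F.rk i), (finrank k (𝒜 (d - F.deg i b)) : ℤ) := by
  have hε : (piece 𝒜 (F.deg 0) d).map (F.augLin.restrictScalars k) = ℳ d := by
    ext x
    constructor
    · rintro ⟨w, hw, rfl⟩
      exact linearCombination_mem 𝒜 ℳ (F.deg 0) F.aug F.aug_mem d hw
    · intro hx
      obtain ⟨w, rfl⟩ := F.aug_surjective x
      refine ⟨projF 𝒜 (F.deg 0) d w, projF_mem 𝒜 _ d w, ?_⟩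
      change Fintype.linearCombination R F.aug (projF 𝒜 (F.deg 0) d w) = _
      rw [← projM_linearCombination 𝒜 ℳ (F.deg 0) F.aug F.aug_mem, projM_of_mem ℳ hx]
  have hex0 : ∀ v, (v ∈ piece 𝒜 (F.deg 0) d ∧ (F.augLin.restrictScalars k) v = 0) ↔
      v ∈ (piece 𝒜 (F.deg 1) d).map ((F.dLin 0).restrictScalars k) := by
    intro v
    refine exact_piece ((F.dLin 0).restrictScalars k) (F.augLin.restrictScalars k)
      (projF 𝒜 (F.deg 1) d) (projF 𝒜 (F.deg 0) d) _ _ (projF_mem 𝒜 _ d)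
      (fun v hv => projF_of_mem 𝒜 _ d hv) (projF_mem 𝒜 _ d) (fun v hv => projF_of_mem 𝒜 _ d hv)
      (fun v => projF_mulVec 𝒜 (F.deg 0) (F.deg 1) (F.d 0) (F.d_mem 0) d v) ?_ v
    intro v
    have := F.exact_zero
    have h2 : v ∈ LinearMap.ker (Fintype.linearCombination R F.aug) ↔
        v ∈ LinearMap.range (Matrix.mulVecLin (F.d 0)) := by rw [this]
    exact h2
  have hex : ∀ i v, (v ∈ piece 𝒜 (F.deg (i + 1)) d ∧ ((F.dLin i).restrictScalars k) v = 0) ↔
      v ∈ (piece 𝒜 (F.deg (i + 2)) d).map ((F.dLin (i + 1)).restrictScalars k) := by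
    intro i v
    refine exact_piece ((F.dLin (i + 1)).restrictScalars k) ((F.dLin i).restrictScalars k)
      (projF 𝒜 (F.deg (i + 2)) d) (projF 𝒜 (F.deg (i + 1)) d) _ _ (projF_mem 𝒜 _ d)
      (fun v hv => projF_of_mem 𝒜 _ d hv) (projF_mem 𝒜 _ d) (fun v hv => projF_of_mem 𝒜 _ d hv)
      (fun v => projF_mulVec 𝒜 (F.deg (i + 1)) (F.deg (i + 2)) (F.d (i + 1)) (F.d_mem (i + 1)) d v) ?_ v
    intro v
    have := F.exact_succ i
    have h2 : v ∈ LinearMap.ker (Matrix.mulVecLin (F.d i)) ↔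
        v ∈ LinearMap.range (Matrix.mulVecLin (F.d (i + 1))) := by rw [this]
    exact h2
  have hm : ∀ i, m < i → piece 𝒜 (F.deg i) d = ⊥ := by
    intro i hi
    have h0 := hF i hi
    haveI : IsEmpty (Fin (F.rk i)) := by rw [h0]; infer_instance
    rw [Submodule.eq_bot_iff]
    intro x _
    exact Subsingleton.elim _ _
  have key := euler (k := k) (E := fun i => Fin (F.rk i) → R) (W := M)
    (fun i => (F.dLin i).restrictScalars k) (F.augLin.restrictScalars k)
    (fun i => piece 𝒜 (F.deg i) d) (ℳ d) hε hex0 hex m hm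
  rw [key]
  refine Finset.sum_congr rfl (fun i _ => ?_)
  rw [finrank_piece]
  push_cast
  rfl

end main

section std

variable (k : Type u) [Field k] (r : ℕ)

lemma weight_one (d : Fin (r + 1) →₀ ℕ) :
    Finsupp.weight (fun _ : Fin (r + 1) => (1 : ℤ)) d = ((∑ i, d i : ℕ) : ℤ) := by
  rw [Finsupp.weight_apply, Finsupp.sum_fintype _ _ (by simp)]
  simp

lemma setOf_weight_eq (n : ℤ) :
    {d : Fin (r + 1) →₀ ℕ | Finsupp.weight (fun _ : Fin (r + 1) => (1 : ℤ)) d = n} =
      if 0 ≤ n then ((Finset.univ : Finset (Fin (r + 1))).finsuppAntidiag n.toNat : Set _) else ∅ := by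
  ext d
  simp only [Set.mem_ofPred_eq, weight_one]
  split_ifs with h
  · simp only [Finset.mem_coe, Finset.mem_finsuppAntidiag, Finset.subset_univ, and_true]
    constructor
    · intro h1
      have : ((∑ i, d i : ℕ) : ℤ) = (n.toNat : ℤ) := by rw [h1, Int.toNat_of_nonneg h]
      exact_mod_cast this
    · intro h1
      rw [h1, Int.toNat_of_nonneg h]
  · simp only [Set.mem_empty_iff_false, iff_false]
    intro h1
    apply h
    rw [← h1]
    positivity

lemma finrank_supported (s : Finset (Fin (r + 1) →₀ ℕ)) :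
    finrank k (AddMonoidAlgebra.supported k k (s : Set (Fin (r + 1) →₀ ℕ))) = s.card := by
  rw [LinearEquiv.finrank_eq (AddMonoidAlgebra.supportedEquivFinsupp (s : Set (Fin (r + 1) →₀ ℕ)))]
  rw [Module.finrank_finsupp_self]
  simp

theorem finrank_stdGr (n : ℤ) :
    finrank k (GrSyz.stdGr k (Fin (r + 1)) n) = if 0 ≤ n then Nat.choose (r + n.toNat) r else 0 := by
  unfold GrSyz.stdGr
  rw [MvPolynomial.weightedHomogeneousSubmodule_eq_finsupp_supported, setOf_weight_eq]
  by_cases h : 0 ≤ n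
  · rw [if_pos h, if_pos h]
    rw [finrank_supported, Finset.card_finsuppAntidiag_nat_eq_choose]
    simp only [Finset.card_univ, Fintype.card_fin]
    rw [show r + 1 + n.toNat - 1 = r + n.toNat by omega, Nat.choose_symm_add]
  · rw [if_neg h, if_neg h]
    rw [LinearEquiv.finrank_eq (AddMonoidAlgebra.supportedEquivFinsupp (∅ : Set (Fin (r + 1) →₀ ℕ)))]
    rw [Module.finrank_finsupp_self]
    simp

instance finiteDimensional_stdGr (n : ℤ) : FiniteDimensional k (GrSyz.stdGr k (Fin (r + 1)) n) := by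
  unfold GrSyz.stdGr
  rw [MvPolynomial.weightedHomogeneousSubmodule_eq_finsupp_supported, setOf_weight_eq]
  by_cases h : 0 ≤ n
  · rw [if_pos h]
    have : Finite (↑(↑(Finset.univ.finsuppAntidiag n.toNat : Finset (Fin (r + 1) →₀ ℕ)) : Set (Fin (r + 1) →₀ ℕ))) :=
      Finset.finite_toSet _
    exact Module.Finite.equiv (AddMonoidAlgebra.supportedEquivFinsupp _).symm
  · rw [if_neg h]
    exact Module.Finite.equiv (AddMonoidAlgebra.supportedEquivFinsupp _).symm


/-- Hilbert function over the standard graded polynomial ring. -/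
theorem hilbert_std {M : Type u} [AddCommGroup M] [Module k M] [Module (MvPolynomial (Fin (r + 1)) k) M]
    [IsScalarTower k (MvPolynomial (Fin (r + 1)) k) M]
    (ℳ : ℤ → Submodule k M) [DirectSum.Decomposition ℳ] [SetLike.GradedSMul (GrSyz.stdGr k (Fin (r + 1))) ℳ]
    (F : GrSyz.FreeRes (GrSyz.stdGr k (Fin (r + 1))) ℳ) (m : ℕ) (hF : F.HasLengthLE m) (d : ℤ) :
    (Module.finrank k ↥(ℳ d) : ℤ) =
      ∑ i ∈ Finset.range (m + 1), (-1 : ℤ) ^ i * ∑ b : Fin (F.rk i),
        (if F.deg i b ≤ d then ((Nat.choose (r + (d - F.deg i b).toNat) r : ℕ) : ℤ) else 0) := by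
  rw [hilbert (GrSyz.stdGr k (Fin (r + 1))) ℳ F m hF d]
  refine Finset.sum_congr rfl (fun i _ => ?_)
  congr 1
  refine Finset.sum_congr rfl (fun b _ => ?_)
  rw [finrank_stdGr]
  by_cases h : F.deg i b ≤ d
  · rw [if_pos h, if_pos (by omega)]
  · rw [if_neg h, if_neg (by omega)]
    simp

end std

section poly

open Polynomial

/-- the polynomial `x ↦ C(x + r, r)`. -/
noncomputable def Qpoly (r : ℕ) : Polynomial ℚ :=
  Polynomial.C (1 / (r.factorial : ℚ)) * (ascPochhammer ℚ r).comp (Polynomial.X + 1)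

lemma Qpoly_eval (r : ℕ) (n : ℤ) (hn : -(r : ℤ) ≤ n) :
    (Qpoly r).eval (n : ℚ) = if 0 ≤ n then ((Nat.choose (r + n.toNat) r : ℕ) : ℚ) else 0 := by
  unfold Qpoly
  rw [eval_mul, eval_C, eval_comp, eval_add, eval_X, eval_one]
  by_cases h : 0 ≤ n
  · rw [if_pos h]
    obtain ⟨N, rfl⟩ := Int.eq_ofNat_of_zero_le h
    have h1 : ((N : ℤ) : ℚ) + 1 = ((N + 1 : ℕ) : ℚ) := by push_cast; ring
    rw [h1, ← ascPochhammer_eval_cast, ascPochhammer_nat_eq_ascFactorial,
      Nat.ascFactorial_eq_factorial_mul_choose]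
    have hr : (r.factorial : ℚ) ≠ 0 := by exact_mod_cast r.factorial_ne_zero
    push_cast
    rw [Int.toNat_natCast, add_comm N r, Nat.choose_symm_add]
    field_simp
  · rw [if_neg h]
    have h2 : ∃ j : ℕ, j < r ∧ (n : ℚ) + 1 = -(j : ℚ) := by
      refine ⟨(-n - 1).toNat, ?_, ?_⟩
      · omega
      · have : ((-n - 1).toNat : ℤ) = -n - 1 := Int.toNat_of_nonneg (by omega)
        have h3 : (((-n - 1).toNat : ℤ) : ℚ) = ((-n - 1 : ℤ) : ℚ) := by rw [this]
        push_cast at h3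
        rw [h3]
        ring
    obtain ⟨j, hj, hj2⟩ := h2
    rw [hj2, ascPochhammer_eval_neg_coe_nat_of_lt hj, mul_zero]

/-- the Hilbert polynomial attached to the data of ranks and degrees. -/
noncomputable def hilbPoly (r : ℕ) (m : ℕ) (rk : ℕ → ℕ) (deg : (i : ℕ) → Fin (rk i) → ℤ) : Polynomial ℚ :=
  ∑ i ∈ Finset.range (m + 1), Polynomial.C ((-1 : ℚ) ^ i) *
    ∑ b : Fin (rk i), (Qpoly r).comp (Polynomial.X - Polynomial.C (deg i b : ℚ))

lemma hilbPoly_eval (r : ℕ) (m : ℕ) (rk : ℕ → ℕ) (deg : (i : ℕ) → Fin (rk i) → ℤ) (d : ℤ)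
    (hd : ∀ (i : ℕ) (b : Fin (rk i)), deg i b - (r : ℤ) ≤ d) :
    (hilbPoly r m rk deg).eval (d : ℚ) =
      ((∑ i ∈ Finset.range (m + 1), (-1 : ℤ) ^ i * ∑ b : Fin (rk i),
        (if deg i b ≤ d then ((Nat.choose (r + (d - deg i b).toNat) r : ℕ) : ℤ) else 0) : ℤ) : ℚ) := by
  unfold hilbPoly
  rw [eval_finset_sum]
  push_cast
  refine Finset.sum_congr rfl (fun i _ => ?_)
  rw [eval_mul, eval_C, eval_finset_sum]
  congr 1
  refine Finset.sum_congr rfl (fun b _ => ?_)
  rw [eval_comp, eval_sub, eval_X, eval_C]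
  have h1 : (d : ℚ) - (deg i b : ℚ) = ((d - deg i b : ℤ) : ℚ) := by push_cast; ring
  rw [h1, Qpoly_eval r _ (by have := hd i b; omega)]
  by_cases h : deg i b ≤ d
  · rw [if_pos h, if_pos (by omega)]
  · rw [if_neg h, if_neg (by omega)]

end poly

section bettiForm

variable (rk : ℕ → ℕ) (deg : (i : ℕ) → Fin (rk i) → ℤ) (m : ℕ)

/-- alternating sum of the numbers of basis vectors of degree `j`. -/
def Bnum (j : ℤ) : ℤ :=
  ∑ i ∈ Finset.range (m + 1), (-1 : ℤ) ^ i *
    ((Finset.univ.filter fun b : Fin (rk i) => deg i b = j).card : ℤ)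

/-- the finite set of all generator degrees. -/
def degSet : Finset ℤ :=
  (Finset.range (m + 1)).biUnion (fun i => Finset.univ.image (deg i))

lemma Bnum_eq_zero {j : ℤ} (hj : j ∉ degSet rk deg m) : Bnum rk deg m j = 0 := by
  unfold Bnum
  refine Finset.sum_eq_zero (fun i hi => ?_)
  have : (Finset.univ.filter fun b : Fin (rk i) => deg i b = j) = ∅ := by
    rw [Finset.filter_eq_empty_iff]
    intro b _ hb
    apply hj
    unfold degSet
    rw [Finset.mem_biUnion]
    exact ⟨i, hi, Finset.mem_image.2 ⟨b, Finset.mem_univ _, hb⟩⟩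
  rw [this]
  simp

lemma sum_Bnum_mul (f : ℤ → ℤ) (T : Finset ℤ) (hT : degSet rk deg m ⊆ T) :
    ∑ j ∈ T, Bnum rk deg m j * f j =
      ∑ i ∈ Finset.range (m + 1), (-1 : ℤ) ^ i * ∑ b : Fin (rk i), f (deg i b) := by
  unfold Bnum
  simp_rw [Finset.sum_mul]
  rw [Finset.sum_comm]
  refine Finset.sum_congr rfl (fun i hi => ?_)
  simp_rw [mul_assoc]
  rw [← Finset.mul_sum]
  congr 1
  have hmaps : ∀ b ∈ (Finset.univ : Finset (Fin (rk i))), deg i b ∈ T := by
    intro b _
    apply hT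
    unfold degSet
    rw [Finset.mem_biUnion]
    exact ⟨i, hi, Finset.mem_image.2 ⟨b, Finset.mem_univ _, rfl⟩⟩
  rw [← Finset.sum_fiberwise_of_maps_to hmaps (fun b => f (deg i b))]
  refine Finset.sum_congr rfl (fun j _ => ?_)
  rw [Finset.sum_congr rfl (g := fun _ => f j)]
  · rw [Finset.sum_const, nsmul_eq_mul]
  · intro b hb
    rw [(Finset.mem_filter.1 hb).2]

lemma finsum_Bnum_mul (f : ℤ → ℤ) :
    ∑ᶠ j : ℤ, Bnum rk deg m j * f j =
      ∑ i ∈ Finset.range (m + 1), (-1 : ℤ) ^ i * ∑ b : Fin (rk i), f (deg i b) := by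
  rw [← sum_Bnum_mul rk deg m f (degSet rk deg m) (Finset.Subset.refl _)]
  apply finsum_eq_sum_of_support_subset
  intro j hj
  rw [Function.mem_support] at hj
  by_contra h
  apply hj
  rw [Bnum_eq_zero rk deg m h, zero_mul]

/-- triangular inversion. -/
lemma Bnum_inversion (c : ℤ → ℤ) (hc : c 0 = 1) (h : ℤ → ℤ)
    (hh : ∀ d : ℤ, h d = ∑ᶠ j : ℤ, Bnum rk deg m j * (if j ≤ d then c (d - j) else 0)) (j : ℤ) :
    Bnum rk deg m j = h j -
      ∑ᶠ n : ℤ, (if n < j then Bnum rk deg m n * c (j - n) else 0) := by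
  rw [hh j]
  set T : Finset ℤ := insert j (degSet rk deg m) with hT
  have h1 : ∑ᶠ n : ℤ, Bnum rk deg m n * (if n ≤ j then c (j - n) else 0) =
      ∑ n ∈ T, Bnum rk deg m n * (if n ≤ j then c (j - n) else 0) := by
    apply finsum_eq_sum_of_support_subset
    intro n hn
    rw [Function.mem_support] at hn
    by_contra h'
    apply hn
    have : n ∉ degSet rk deg m := fun h2 => h' (Finset.mem_insert_of_mem h2)
    rw [Bnum_eq_zero rk deg m this, zero_mul]
  have h2 : ∑ᶠ n : ℤ, (if n < j then Bnum rk deg m n * c (j - n) else 0) =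
      ∑ n ∈ T, (if n < j then Bnum rk deg m n * c (j - n) else 0) := by
    apply finsum_eq_sum_of_support_subset
    intro n hn
    rw [Function.mem_support] at hn
    by_contra h'
    apply hn
    have : n ∉ degSet rk deg m := fun h2 => h' (Finset.mem_insert_of_mem h2)
    rw [Bnum_eq_zero rk deg m this, zero_mul]
    simp
  rw [h1, h2, ← Finset.sum_sub_distrib]
  have h3 : ∀ n ∈ T, Bnum rk deg m n * (if n ≤ j then c (j - n) else 0) -
      (if n < j then Bnum rk deg m n * c (j - n) else 0) = if n = j then Bnum rk deg m j else 0 := by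
    intro n _
    rcases lt_trichotomy n j with hlt | heq | hgt
    · rw [if_pos hlt.le, if_pos hlt, if_neg hlt.ne, sub_self]
    · subst heq
      rw [if_pos le_rfl, if_neg (lt_irrefl _), if_pos rfl, sub_self, hc, mul_one, sub_zero]
    · rw [if_neg (not_le.2 hgt), if_neg (not_lt.2 hgt.le), if_neg hgt.ne', mul_zero, sub_zero]
  rw [Finset.sum_congr rfl h3, Finset.sum_ite_eq' T j]
  rw [if_pos (Finset.mem_insert_self _ _)]

end bettiForm

end Groth.Agent.Lib.Helper22.GrHilb
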