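import Mathlib
import Groth.Prelude.Def_GrSyz
import Groth.Agent.Lib.Helper22.GrHilb

/-!
# Minimal graded free resolutions: existence
-/

namespace Groth.Agent.Lib.Helper22.GrMinRes

open Module DirectSum Groth.Agent.Lib.Helper22.GrHilb

universe u

section gens

variable {k : Type u} [Field k] {R : Type u} [CommRing R] [Algebra k R]
  (𝒜 : ℤ → Submodule k R) [GradedAlgebra 𝒜]

/-- a family of "homogeneous component" maps on an `R`-module. -/
structure GrProj (X : Type*) [AddCommGroup X] [Module R X] where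
  π : ℤ → X →+ X
  sum_π : ∀ x, ∃ T : Finset ℤ, x = ∑ d ∈ T, π d x
  π_π : ∀ d x, π d (π d x) = π d x
  π_smul : ∀ (c : R) (x : X) (j d : ℤ), π j x = x →
    π d (c • x) = (decompose 𝒜 c (d - j) : R) • x

variable {𝒜} {X : Type*} [AddCommGroup X] [Module R X] (G : GrProj 𝒜 X)

theorem exists_homog_gens (K : Submodule R X) (hfg : K.FG) (hK : ∀ d, ∀ x ∈ K, G.π d x ∈ K) :
    ∃ (n : ℕ) (a : Fin n → ℤ) (g : Fin n → X), (∀ b, g b ∈ K) ∧ (∀ b, G.π (a b) (g b) = g b) ∧
      Submodule.span R (Set.range g) = K := by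
  classical
  obtain ⟨s, hs⟩ := hfg
  choose T hT using G.sum_π
  let P : Finset (X × ℤ) := s.biUnion (fun x => (T x).image (fun d => (x, d)))
  have hP : ∀ z ∈ P, z.1 ∈ s ∧ z.2 ∈ T z.1 := by
    intro z hz
    obtain ⟨x, hx, hz⟩ := Finset.mem_biUnion.1 hz
    obtain ⟨d, hd, rfl⟩ := Finset.mem_image.1 hz
    exact ⟨hx, hd⟩
  let e := P.equivFin
  have hsK : ∀ x ∈ s, x ∈ K := fun x hx => hs ▸ Submodule.subset_span hx
  refine ⟨P.card, fun b => (e.symm b).1.2, fun b => G.π (e.symm b).1.2 (e.symm b).1.1,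
    fun b => hK _ _ (hsK _ (hP _ (e.symm b).2).1), fun b => G.π_π _ _, ?_⟩
  apply le_antisymm
  · rw [Submodule.span_le]
    rintro _ ⟨b, rfl⟩
    exact hK _ _ (hsK _ (hP _ (e.symm b).2).1)
  · rw [← hs, Submodule.span_le]
    intro x hx
    rw [SetLike.mem_coe, hT x]
    refine sum_mem (fun d hd => Submodule.subset_span ?_)
    have hmem : (x, d) ∈ P :=
      Finset.mem_biUnion.2 ⟨x, hx, Finset.mem_image.2 ⟨d, hd, rfl⟩⟩
    refine ⟨e ⟨(x, d), hmem⟩, ?_⟩
    simp

variable (𝔪 : Ideal R) (hunit : ∀ c : R, c ∉ 𝔪 → IsUnit ((decompose 𝒜 c 0 : R)))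

include hunit in
theorem reduce_gens {m : ℕ} (a : Fin (m + 1) → ℤ) (g : Fin (m + 1) → X)
    (hg : ∀ b, G.π (a b) (g b) = g b) (c : Fin (m + 1) → R) (hc : ∑ b, c b • g b = 0)
    (b0 : Fin (m + 1)) (hb0 : c b0 ∉ 𝔪) :
    Submodule.span R (Set.range (g ∘ b0.succAbove)) = Submodule.span R (Set.range g) := by
  apply le_antisymm (Submodule.span_mono (Set.range_comp_subset_range _ _))
  have h1 : ∑ b, (decompose 𝒜 (c b) (a b0 - a b) : R) • g b = 0 := by
    have := congrArg (G.π (a b0)) hc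
    rw [map_sum, map_zero] at this
    rw [← this]
    exact Finset.sum_congr rfl (fun b _ => (G.π_smul (c b) (g b) (a b) (a b0) (hg b)).symm)
  rw [Fin.sum_univ_succAbove _ b0, sub_self] at h1
  obtain ⟨u, hu⟩ := hunit _ hb0
  have h3 := eq_neg_of_add_eq_zero_left h1
  have h2 : g b0 = -((↑u⁻¹ : R) • ∑ i, (decompose 𝒜 (c (b0.succAbove i))
      (a b0 - a (b0.succAbove i)) : R) • g (b0.succAbove i)) := by
    rw [← smul_neg, ← h3, ← hu, smul_smul, Units.inv_mul, one_smul]
  rw [Submodule.span_le]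
  rintro _ ⟨b, rfl⟩
  rw [SetLike.mem_coe]
  by_cases hb : b = b0
  · rw [hb, h2]
    refine neg_mem (Submodule.smul_mem _ _ (sum_mem (fun i _ => Submodule.smul_mem _ _
      (Submodule.subset_span ⟨i, rfl⟩))))
  · obtain ⟨i, rfl⟩ := Fin.exists_succAbove_eq hb
    exact Submodule.subset_span ⟨i, rfl⟩

include hunit in
theorem exists_min_gens (K : Submodule R X) (hfg : K.FG) (hK : ∀ d, ∀ x ∈ K, G.π d x ∈ K) :
    ∃ (n : ℕ) (a : Fin n → ℤ) (g : Fin n → X), (∀ b, g b ∈ K) ∧ (∀ b, G.π (a b) (g b) = g b) ∧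
      Submodule.span R (Set.range g) = K ∧ ∀ c : Fin n → R, ∑ b, c b • g b = 0 → ∀ b, c b ∈ 𝔪 := by
  classical
  let P : ℕ → Prop := fun n => ∃ (a : Fin n → ℤ) (g : Fin n → X), (∀ b, g b ∈ K) ∧
    (∀ b, G.π (a b) (g b) = g b) ∧ Submodule.span R (Set.range g) = K
  have hP : ∃ n, P n := by
    obtain ⟨n, a, g, h⟩ := exists_homog_gens G K hfg hK
    exact ⟨n, a, g, h⟩
  obtain ⟨n, ⟨a, g, h1, h2, h3⟩, hmin⟩ : ∃ n, P n ∧ ∀ m < n, ¬ P m :=
    ⟨Nat.find hP, Nat.find_spec hP, fun m hm => Nat.find_min hP hm⟩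
  refine ⟨n, a, g, h1, h2, h3, fun c hc b0 => ?_⟩
  by_contra hb0
  rcases n with _ | m
  · exact b0.elim0
  · refine hmin m (Nat.lt_succ_self m) ⟨a ∘ b0.succAbove, g ∘ b0.succAbove, fun b => h1 _,
      fun b => h2 _, ?_⟩
    rw [reduce_gens G 𝔪 hunit a g h2 c hc b0 hb0, h3]

end gens

section inst

variable {k : Type u} [Field k] {R : Type u} [CommRing R] [Algebra k R]
  (𝒜 : ℤ → Submodule k R) [GradedAlgebra 𝒜]
  {M : Type u} [AddCommGroup M] [Module k M] [Module R M] [IsScalarTower k R M]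
  (ℳ : ℤ → Submodule k M) [DirectSum.Decomposition ℳ] [SetLike.GradedSMul 𝒜 ℳ]

/-- the component maps of a graded module. -/
noncomputable def GrProj.ofModule : GrProj 𝒜 M where
  π d := (projM ℳ d).toAddMonoidHom
  sum_π x := by
    classical
    exact ⟨(decompose ℳ x).support, (DirectSum.sum_support_decompose ℳ x).symm⟩
  π_π d x := projM_of_mem ℳ (projM_mem ℳ d x)
  π_smul c x j d hx := by
    have hx' : x ∈ ℳ j := by
      have := projM_mem ℳ j x
      rwa [show projM ℳ j x = x from hx] at this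
    exact coe_decompose_smul_of_right_mem 𝒜 ℳ c hx' d

/-- the component maps of a free module with basis degrees `a`. -/
noncomputable def GrProj.ofFree {N : ℕ} (a : Fin N → ℤ) : GrProj 𝒜 (Fin N → R) where
  π d := (projF 𝒜 a d).toAddMonoidHom
  sum_π w := by
    classical
    refine ⟨Finset.univ.biUnion (fun b => ((decompose 𝒜 (w b)).support).image (· + a b)), ?_⟩
    funext b
    rw [Finset.sum_apply]
    change w b = ∑ d ∈ _, (decompose 𝒜 (w b) (d - a b) : R)
    set T := Finset.univ.biUnion (fun b => ((decompose 𝒜 (w b)).support).image (· + a b)) with hT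
    have h1 : ∑ d ∈ T, (decompose 𝒜 (w b) (d - a b) : R) =
        ∑ i ∈ T.image (· - a b), (decompose 𝒜 (w b) i : R) := by
      rw [Finset.sum_image]
      intro x _ y _ hxy
      simpa using hxy
    rw [h1]
    have hsub : (decompose 𝒜 (w b)).support ⊆ T.image (· - a b) := by
      intro i hi
      refine Finset.mem_image.2 ⟨i + a b, ?_, by simp⟩
      exact Finset.mem_biUnion.2 ⟨b, Finset.mem_univ _, Finset.mem_image.2 ⟨i, hi, rfl⟩⟩
    rw [← Finset.sum_subset hsub]
    · exact (DirectSum.sum_support_decompose 𝒜 (w b)).symm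
    · intro i _ hi
      rw [DFinsupp.mem_support_toFun, not_not] at hi
      rw [hi]
      rfl
  π_π d w := projF_of_mem 𝒜 a d (projF_mem 𝒜 a d w)
  π_smul c w j d hw := by
    have hw' : w ∈ piece 𝒜 a j := by
      have := projF_mem 𝒜 a j w
      rwa [show projF 𝒜 a j w = w from hw] at this
    rw [mem_piece] at hw'
    funext b
    change (decompose 𝒜 (c • w b) (d - a b) : R) = (decompose 𝒜 c (d - j) : R) • w b
    have := coe_decompose_smul_of_right_mem 𝒜 𝒜 c (hw' b) (d - a b)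
    have e : d - a b - (j - a b) = d - j := by omega
    rw [e] at this
    exact this

end inst

section build

variable {k : Type u} [Field k] {R : Type u} [CommRing R] [Algebra k R]
  (𝒜 : ℤ → Submodule k R) [GradedAlgebra 𝒜] [IsNoetherianRing R]
  (𝔪 : Ideal R) (hunit : ∀ c : R, c ∉ 𝔪 → IsUnit ((decompose 𝒜 c 0 : R)))

lemma mulVecLin_of_cols {n n' : ℕ} (g : Fin n' → (Fin n → R)) :
    Matrix.mulVecLin (Matrix.of fun x y => g y x) = Fintype.linearCombination R g := by
  ext w x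
  simp [Matrix.mulVec, dotProduct, Fintype.linearCombination_apply, mul_comm]

/-- the state of the construction: a graded submodule of a graded free module contained in
`𝔪` times the free module. -/
structure St where
  n : ℕ
  a : Fin n → ℤ
  K : Submodule R (Fin n → R)
  hK : ∀ d, ∀ w ∈ K, projF 𝒜 a d w ∈ K
  hm : ∀ w ∈ K, ∀ b, w b ∈ 𝔪

include hunit in
theorem step (s : St 𝒜 𝔪) : ∃ (s' : St 𝒜 𝔪) (D : Matrix (Fin s.n) (Fin s'.n) R),
    (∀ x y, D x y ∈ 𝒜 (s'.a y - s.a x)) ∧ LinearMap.range (Matrix.mulVecLin D) = s.K ∧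
      s'.K = LinearMap.ker (Matrix.mulVecLin D) := by
  obtain ⟨n', a', g, hg1, hg2, hg3, hg4⟩ := exists_min_gens (GrProj.ofFree 𝒜 s.a) 𝔪 hunit s.K
    (IsNoetherian.noetherian _) s.hK
  have hD : ∀ x y, (Matrix.of fun x y => g y x) x y ∈ 𝒜 (a' y - s.a x) := by
    intro x y
    have h1 : g y ∈ piece 𝒜 s.a (a' y) := by
      have := projF_mem 𝒜 s.a (a' y) (g y)
      rwa [show projF 𝒜 s.a (a' y) (g y) = g y from hg2 y] at this
    exact (mem_piece 𝒜 s.a (a' y) (g y)).1 h1 x
  have hrange : LinearMap.range (Matrix.mulVecLin (Matrix.of fun x y => g y x)) = s.K := by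
    rw [mulVecLin_of_cols, Fintype.range_linearCombination, hg3]
  have hk1 : ∀ d, ∀ w ∈ LinearMap.ker (Matrix.mulVecLin (Matrix.of fun x y => g y x)),
      projF 𝒜 a' d w ∈ LinearMap.ker (Matrix.mulVecLin (Matrix.of fun x y => g y x)) := by
    intro d w hw
    rw [LinearMap.mem_ker, Matrix.mulVecLin_apply] at hw ⊢
    rw [← projF_mulVec 𝒜 s.a a' _ hD d w, hw, map_zero]
  have hk2 : ∀ w ∈ LinearMap.ker (Matrix.mulVecLin (Matrix.of fun x y => g y x)),
      ∀ b, w b ∈ 𝔪 := by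
    intro w hw b
    rw [LinearMap.mem_ker, mulVecLin_of_cols, Fintype.linearCombination_apply] at hw
    exact hg4 w hw b
  exact ⟨⟨n', a', LinearMap.ker (Matrix.mulVecLin (Matrix.of fun x y => g y x)), hk1, hk2⟩,
    Matrix.of fun x y => g y x, hD, hrange, rfl⟩

variable {M : Type u} [AddCommGroup M] [Module k M] [Module R M] [IsScalarTower k R M]
  (ℳ : ℤ → Submodule k M) [DirectSum.Decomposition ℳ] [SetLike.GradedSMul 𝒜 ℳ]

include hunit in
/-- existence of a minimal graded free resolution. -/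
theorem exists_minimal [Module.Finite R M] : ∃ F : GrSyz.FreeRes 𝒜 ℳ, F.IsMinimal 𝔪 := by
  classical
  obtain ⟨n0, a0, g0, -, hg2, hg3, hg4⟩ := exists_min_gens (GrProj.ofModule 𝒜 ℳ) 𝔪 hunit ⊤
    Module.Finite.fg_top (fun _ _ _ => Submodule.mem_top)
  have haug : ∀ b, g0 b ∈ ℳ (a0 b) := by
    intro b
    have := projM_mem ℳ (a0 b) (g0 b)
    rwa [show projM ℳ (a0 b) (g0 b) = g0 b from hg2 b] at this
  let s0 : St 𝒜 𝔪 :=
    { n := n0
      a := a0
      K := LinearMap.ker (Fintype.linearCombination R g0)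
      hK := by
        intro d w hw
        rw [LinearMap.mem_ker] at hw ⊢
        rw [← projM_linearCombination 𝒜 ℳ a0 g0 haug d w, hw, map_zero]
      hm := by
        intro w hw b
        rw [LinearMap.mem_ker, Fintype.linearCombination_apply] at hw
        exact hg4 w hw b }
  choose nxt D hD1 hD2 hD3 using step 𝒜 𝔪 hunit
  let seq : ℕ → St 𝒜 𝔪 := fun i => Nat.rec s0 (fun _ s => nxt s) i
  have hseq : ∀ i, seq (i + 1) = nxt (seq i) := fun i => rfl
  let F : GrSyz.FreeRes 𝒜 ℳ :=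
    { rk := fun i => (seq i).n
      deg := fun i => (seq i).a
      d := fun i => D (seq i)
      aug := g0
      d_mem := fun i x y => hD1 (seq i) x y
      aug_mem := haug
      aug_surjective := by
        rw [← LinearMap.range_eq_top, Fintype.range_linearCombination]
        exact hg3
      exact_zero := (hD2 (seq 0)).symm
      exact_succ := fun i => by
        rw [← hD3 (seq i)]
        exact (hD2 (seq (i + 1))).symm }
  refine ⟨F, fun i x y => ?_⟩
  have h1 : (D (seq i)).mulVec (Pi.single y 1) ∈ (seq i).K := by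
    rw [← hD2 (seq i)]
    exact ⟨_, rfl⟩
  have h2 := (seq i).hm _ h1 x
  rw [Matrix.mulVec_single_one] at h2
  exact h2

end build

section std

variable (k : Type u) [Field k] (r : ℕ)

theorem weight_le_zero (m : Fin (r + 1) →₀ ℕ)
    (h : Finsupp.weight (fun _ : Fin (r + 1) => (1 : ℤ)) m ≤ 0) : m = 0 := by
  have hsum : Finsupp.weight (fun _ : Fin (r + 1) => (1 : ℤ)) m = ∑ j, (m j : ℤ) := by
    rw [Finsupp.weight_apply, Finsupp.sum_fintype _ _ (by simp)]
    simp
  have hge : (0 : ℤ) ≤ ∑ j, (m j : ℤ) := Finset.sum_nonneg (fun j _ => by positivity)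
  have hw0 : ∑ j, (m j : ℤ) = 0 := by
    rw [hsum] at h
    omega
  ext j
  have := (Finset.sum_eq_zero_iff_of_nonneg (fun j _ => by positivity)).mp hw0 j (Finset.mem_univ j)
  simpa using this

theorem stdGr_nonpos (n : ℤ) (hn : n ≤ 0) (p : MvPolynomial (Fin (r + 1)) k)
    (hp : p ∈ GrSyz.stdGr k (Fin (r + 1)) n) : p = MvPolynomial.C (MvPolynomial.coeff 0 p) := by
  rw [GrSyz.mem_stdGr_iff] at hp
  ext m
  rw [MvPolynomial.coeff_C]
  split_ifs with hm
  · rw [← hm]
  · by_contra hne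
    have hw := hp hne
    apply hm
    symm
    apply weight_le_zero
    rw [hw]
    exact hn

theorem stdGr_neg (n : ℤ) (hn : n < 0) (p : MvPolynomial (Fin (r + 1)) k)
    (hp : p ∈ GrSyz.stdGr k (Fin (r + 1)) n) : p = 0 := by
  have h1 := stdGr_nonpos k r n hn.le p hp
  rw [GrSyz.mem_stdGr_iff] at hp
  have h2 : MvPolynomial.coeff 0 p = 0 := by
    by_contra hne
    have := hp hne
    simp only [map_zero] at this
    omega
  rw [h1, h2, map_zero]

theorem constantCoeff_of_mem (n : ℤ) (hn : n ≠ 0) (p : MvPolynomial (Fin (r + 1)) k)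
    (hp : p ∈ GrSyz.stdGr k (Fin (r + 1)) n) : MvPolynomial.constantCoeff p = 0 := by
  rw [GrSyz.mem_stdGr_iff] at hp
  rw [MvPolynomial.constantCoeff_eq]
  apply hp.coeff_eq_zero
  simp only [map_zero]
  exact hn.symm

theorem constantCoeff_irrel :
    ∀ p ∈ (GrSyz.irrel (GrSyz.stdGr k (Fin (r + 1)))).toIdeal,
      MvPolynomial.constantCoeff p = 0 := by
  intro p hp
  have hle : (GrSyz.irrel (GrSyz.stdGr k (Fin (r + 1)))).toIdeal ≤
      RingHom.ker (MvPolynomial.constantCoeff (R := k) (σ := Fin (r + 1))) := by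
    change Ideal.span {q : MvPolynomial (Fin (r + 1)) k |
      ∃ n : ℤ, 0 < n ∧ q ∈ GrSyz.stdGr k (Fin (r + 1)) n} ≤ _
    rw [Ideal.span_le]
    rintro q ⟨n, hn, hq⟩
    rw [SetLike.mem_coe, RingHom.mem_ker]
    exact constantCoeff_of_mem k r n hn.ne' q hq
  exact hle hp

theorem hunit_std : ∀ c : MvPolynomial (Fin (r + 1)) k,
    c ∉ (GrSyz.irrel (GrSyz.stdGr k (Fin (r + 1)))).toIdeal →
      IsUnit ((decompose (GrSyz.stdGr k (Fin (r + 1))) c 0 : MvPolynomial (Fin (r + 1)) k)) := by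
  classical
  intro c hc
  have h0 := stdGr_nonpos k r 0 le_rfl _ (decompose (GrSyz.stdGr k (Fin (r + 1))) c 0).2
  rw [h0]
  refine (isUnit_iff_ne_zero.mpr ?_).map MvPolynomial.C
  intro hzero
  rw [hzero, map_zero] at h0
  apply hc
  rw [← DirectSum.sum_support_decompose (GrSyz.stdGr k (Fin (r + 1))) c]
  refine Ideal.sum_mem _ (fun i _ => ?_)
  rcases lt_trichotomy i 0 with hi | hi | hi
  · rw [stdGr_neg k r i hi _ (decompose (GrSyz.stdGr k (Fin (r + 1))) c i).2]
    exact Submodule.zero_mem _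
  · rw [hi, h0]
    exact Submodule.zero_mem _
  · change _ ∈ Ideal.span {q : MvPolynomial (Fin (r + 1)) k |
      ∃ n : ℤ, 0 < n ∧ q ∈ GrSyz.stdGr k (Fin (r + 1)) n}
    exact Ideal.subset_span ⟨i, hi, (decompose (GrSyz.stdGr k (Fin (r + 1))) c i).2⟩

end std

end Groth.Agent.Lib.Helper22.GrMinRes
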