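import Mathlib
import Groth.Prelude.Def_GrSyz
import Groth.Agent.Lib.Helper22.GrMinRes

/-!
# Comparison of graded free resolutions; graded Betti numbers of minimal resolutions
-/

namespace Groth.Agent.Lib.Helper22.GrMinResCmp

open Module DirectSum Groth.Agent.Lib.Helper22.GrHilb

universe u

section lift

variable {R : Type*} [CommRing R]

/-- lifting of matrices through a matrix whose range contains the range. -/
theorem exists_mul_eq {m n l : ℕ} (A : Matrix (Fin m) (Fin n) R) (B : Matrix (Fin m) (Fin l) R)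
    (h : ∀ v, A.mulVec v ∈ LinearMap.range (Matrix.mulVecLin B)) :
    ∃ H : Matrix (Fin l) (Fin n) R, B * H = A := by
  classical
  have h' : ∀ q : Fin n, ∃ y : Fin l → R, B.mulVec y = A.mulVec (Pi.single q 1) := fun q => h _
  choose y hy using h'
  refine ⟨Matrix.of fun p q => y q p, ?_⟩
  ext p q
  have := congrFun (hy q) p
  rw [Matrix.mulVec_single_one] at this
  simpa [Matrix.mul_apply, Matrix.mulVec, dotProduct] using this

/-- dependent choice for sequences in a varying family of types. -/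
theorem exists_dep_seq {α : ℕ → Type*} (P : ∀ i, α i → Prop) (Q : ∀ i, α i → α (i + 1) → Prop)
    (x0 : α 0) (hx0 : P 0 x0) (hstep : ∀ i x, P i x → ∃ y, P (i + 1) y ∧ Q i x y) :
    ∃ f : ∀ i, α i, f 0 = x0 ∧ (∀ i, P i (f i)) ∧ ∀ i, Q i (f i) (f (i + 1)) := by
  classical
  let g : ∀ i, {x : α i // P i x} := fun i =>
    Nat.rec (motive := fun i => {x : α i // P i x}) ⟨x0, hx0⟩
      (fun i x => ⟨(hstep i x.1 x.2).choose, (hstep i x.1 x.2).choose_spec.1⟩) i
  exact ⟨fun i => (g i).1, rfl, fun i => (g i).2, fun i => (hstep i (g i).1 (g i).2).choose_spec.2⟩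

end lift

section cmp

variable {k : Type u} [Field k] {R : Type u} [CommRing R] [Algebra k R]
  (𝒜 : ℤ → Submodule k R) [GradedAlgebra 𝒜]
  {M : Type u} [AddCommGroup M] [Module k M] [Module R M] [IsScalarTower k R M]
  (ℳ : ℤ → Submodule k M) [DirectSum.Decomposition ℳ] [SetLike.GradedSMul 𝒜 ℳ]

variable {𝒜 ℳ}

lemma d_comp_d (F : GrSyz.FreeRes 𝒜 ℳ) (i : ℕ) (v : Fin (F.rk (i + 1 + 1)) → R) :
    (F.d i).mulVec ((F.d (i + 1)).mulVec v) = 0 := by
  have h1 : (F.d (i + 1)).mulVec v ∈ LinearMap.range (Matrix.mulVecLin (F.d (i + 1))) := ⟨v, rfl⟩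
  rw [← F.exact_succ i, LinearMap.mem_ker] at h1
  exact h1

lemma aug_comp_d (F : GrSyz.FreeRes 𝒜 ℳ) (v : Fin (F.rk (0 + 1)) → R) :
    F.augLin ((F.d 0).mulVec v) = 0 := by
  have h1 : (F.d 0).mulVec v ∈ LinearMap.range (Matrix.mulVecLin (F.d 0)) := ⟨v, rfl⟩
  rw [← F.exact_zero, LinearMap.mem_ker] at h1
  exact h1

/-- existence of a (not necessarily graded) chain map between resolutions over the identity. -/
theorem exists_chainMap (F F' : GrSyz.FreeRes 𝒜 ℳ) :
    ∃ Φ : (i : ℕ) → Matrix (Fin (F'.rk i)) (Fin (F.rk i)) R,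
      (∀ v, F'.augLin ((Φ 0).mulVec v) = F.augLin v) ∧ ∀ i, F'.d i * Φ (i + 1) = Φ i * F.d i := by
  classical
  -- level zero
  have h' : ∀ q : Fin (F.rk 0), ∃ y : Fin (F'.rk 0) → R, F'.augLin y = F.aug q :=
    fun q => F'.aug_surjective _
  choose y hy using h'
  let Φ0 : Matrix (Fin (F'.rk 0)) (Fin (F.rk 0)) R := Matrix.of fun p q => y q p
  have hΦ0 : ∀ v, F'.augLin (Φ0.mulVec v) = F.augLin v := by
    have : F'.augLin ∘ₗ Matrix.mulVecLin Φ0 = F.augLin := by
      apply (Pi.basisFun R (Fin (F.rk 0))).ext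
      intro q
      rw [Pi.basisFun_apply, LinearMap.comp_apply, Matrix.mulVecLin_apply,
        Matrix.mulVec_single_one, Fintype.linearCombination_apply_single, one_smul]
      exact hy q
    intro v
    exact LinearMap.congr_fun this v
  obtain ⟨Φ, hΦz, hΦP, hΦQ⟩ := exists_dep_seq
    (α := fun i => Matrix (Fin (F'.rk i)) (Fin (F.rk i)) R)
    (fun i Φ => ∀ v, Φ.mulVec ((F.d i).mulVec v) ∈ LinearMap.range (Matrix.mulVecLin (F'.d i)))
    (fun i Φ Φ' => F'.d i * Φ' = Φ * F.d i) Φ0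
    (by
      intro v
      rw [← F'.exact_zero, LinearMap.mem_ker, hΦ0]
      exact aug_comp_d F v)
    (by
      intro i Φ hΦ
      obtain ⟨H, hH⟩ := exists_mul_eq (Φ * F.d i) (F'.d i) (fun v => by
        rw [← Matrix.mulVec_mulVec]
        exact hΦ v)
      refine ⟨H, fun v => ?_, hH⟩
      rw [← F'.exact_succ i, LinearMap.mem_ker, Matrix.mulVecLin_apply, Matrix.mulVec_mulVec, hH,
        ← Matrix.mulVec_mulVec, d_comp_d, Matrix.mulVec_zero])
  exact ⟨Φ, fun v => by rw [hΦz]; exact hΦ0 v, hΦQ⟩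

/-- the graded part of a matrix between graded free modules. -/
noncomputable def grPart {m n : ℕ} (a' : Fin m → ℤ) (a : Fin n → ℤ) (Φ : Matrix (Fin m) (Fin n) R) :
    Matrix (Fin m) (Fin n) R :=
  Matrix.of fun p q => (decompose 𝒜 (Φ p q) (a q - a' p) : R)

lemma grPart_apply {m n : ℕ} (a' : Fin m → ℤ) (a : Fin n → ℤ) (Φ : Matrix (Fin m) (Fin n) R) (p q) :
    grPart (𝒜 := 𝒜) a' a Φ p q = (decompose 𝒜 (Φ p q) (a q - a' p) : R) := rfl

lemma grPart_mem {m n : ℕ} (a' : Fin m → ℤ) (a : Fin n → ℤ) (Φ : Matrix (Fin m) (Fin n) R) (p q) :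
    grPart (𝒜 := 𝒜) a' a Φ p q ∈ 𝒜 (a q - a' p) :=
  (decompose 𝒜 (Φ p q) (a q - a' p)).2

lemma grPart_mul_left {l m n : ℕ} (a'' : Fin l → ℤ) (a' : Fin m → ℤ) (a : Fin n → ℤ)
    (D' : Matrix (Fin l) (Fin m) R) (hD' : ∀ x y, D' x y ∈ 𝒜 (a' y - a'' x))
    (Φ : Matrix (Fin m) (Fin n) R) :
    grPart (𝒜 := 𝒜) a'' a (D' * Φ) = D' * grPart (𝒜 := 𝒜) a' a Φ := by
  ext p q
  rw [grPart_apply, Matrix.mul_apply, Matrix.mul_apply]
  have h1 : ((decompose 𝒜 (∑ s, D' p s * Φ s q) (a q - a'' p)) : R) =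
      projM 𝒜 (a q - a'' p) (∑ s, D' p s * Φ s q) := rfl
  rw [h1, map_sum]
  refine Finset.sum_congr rfl (fun s _ => ?_)
  rw [projM_apply, grPart_apply]
  have := coe_decompose_smul_of_left_mem 𝒜 𝒜 (hD' p s) (Φ s q) (a q - a'' p)
  rw [smul_eq_mul, smul_eq_mul] at this
  have e : a q - a'' p - (a' s - a'' p) = a q - a' s := by omega
  rw [e] at this
  exact this

lemma grPart_mul_right {l m n : ℕ} (a' : Fin m → ℤ) (a : Fin n → ℤ) (b : Fin l → ℤ)
    (D : Matrix (Fin n) (Fin l) R) (hD : ∀ x y, D x y ∈ 𝒜 (b y - a x))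
    (Φ : Matrix (Fin m) (Fin n) R) :
    grPart (𝒜 := 𝒜) a' b (Φ * D) = grPart (𝒜 := 𝒜) a' a Φ * D := by
  ext p q
  rw [grPart_apply, Matrix.mul_apply, Matrix.mul_apply]
  have h1 : ((decompose 𝒜 (∑ s, Φ p s * D s q) (b q - a' p)) : R) =
      projM 𝒜 (b q - a' p) (∑ s, Φ p s * D s q) := rfl
  rw [h1, map_sum]
  refine Finset.sum_congr rfl (fun s _ => ?_)
  rw [projM_apply, grPart_apply]
  have := coe_decompose_smul_of_right_mem 𝒜 𝒜 (Φ p s) (hD s q) (b q - a' p)
  rw [smul_eq_mul, smul_eq_mul] at this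
  have e : b q - a' p - (b q - a s) = a s - a' p := by omega
  rw [e] at this
  exact this

lemma aug_grPart {m n : ℕ} (a' : Fin m → ℤ) (a : Fin n → ℤ) (aug' : Fin m → M) (aug : Fin n → M)
    (haug' : ∀ b, aug' b ∈ ℳ (a' b)) (haug : ∀ b, aug b ∈ ℳ (a b))
    (Φ : Matrix (Fin m) (Fin n) R)
    (h : ∀ v, Fintype.linearCombination R aug' (Φ.mulVec v) = Fintype.linearCombination R aug v) :
    ∀ v, Fintype.linearCombination R aug' ((grPart (𝒜 := 𝒜) a' a Φ).mulVec v) =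
      Fintype.linearCombination R aug v := by
  classical
  have : Fintype.linearCombination R aug' ∘ₗ Matrix.mulVecLin (grPart (𝒜 := 𝒜) a' a Φ) =
      Fintype.linearCombination R aug := by
    apply (Pi.basisFun R (Fin n)).ext
    intro q
    rw [Pi.basisFun_apply, LinearMap.comp_apply, Matrix.mulVecLin_apply,
      Matrix.mulVec_single_one, Fintype.linearCombination_apply_single, one_smul]
    have h2 := h (Pi.single q 1)
    rw [Matrix.mulVec_single_one, Fintype.linearCombination_apply_single, one_smul] at h2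
    have h3 := projM_linearCombination 𝒜 ℳ a' aug' haug' (a q) (Φ.col q)
    rw [h2, projM_of_mem ℳ (haug q)] at h3
    rw [h3]
    rfl
  intro v
  exact LinearMap.congr_fun this v

lemma d_mul_d (F : GrSyz.FreeRes 𝒜 ℳ) (i : ℕ) : F.d i * F.d (i + 1) = 0 := by
  classical
  ext p q
  have := congrFun (d_comp_d F i (Pi.single q 1)) p
  rw [Matrix.mulVec_mulVec, Matrix.mulVec_single_one] at this
  exact this

/-- a chain endomorphism of a minimal resolution over the identity is the identity modulo `𝔪`. -/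
theorem sub_one_mem (𝔪 : Ideal R) (F : GrSyz.FreeRes 𝒜 ℳ) (hF : F.IsMinimal 𝔪)
    (Θ : (i : ℕ) → Matrix (Fin (F.rk i)) (Fin (F.rk i)) R)
    (haug : ∀ v, F.augLin ((Θ 0).mulVec v) = F.augLin v)
    (hcomm : ∀ i, F.d i * Θ (i + 1) = Θ i * F.d i) (i : ℕ) :
    ∀ p q, (Θ i - 1) p q ∈ 𝔪 := by
  have hQ : ∀ i, ∃ (h : Matrix (Fin (F.rk (i + 1))) (Fin (F.rk i)) R)
      (E : Matrix (Fin (F.rk i)) (Fin (F.rk i)) R),
      (∀ p q, E p q ∈ 𝔪) ∧ Θ i - 1 = F.d i * h + E ∧ E * F.d i = 0 := by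
    intro i
    induction i with
    | zero =>
      obtain ⟨h, hh⟩ := exists_mul_eq (Θ 0 - 1) (F.d 0) (fun v => by
        rw [← F.exact_zero, LinearMap.mem_ker, Matrix.sub_mulVec, Matrix.one_mulVec, map_sub,
          haug, sub_self])
      exact ⟨h, 0, fun p q => 𝔪.zero_mem, by rw [hh, add_zero], Matrix.zero_mul _⟩
    | succ i ih =>
      obtain ⟨h, E, hE1, hE2, hE3⟩ := ih
      have hX : F.d i * (Θ (i + 1) - 1 - h * F.d i) = 0 := by
        rw [Matrix.mul_sub, Matrix.mul_sub, hcomm i, Matrix.mul_one, ← Matrix.mul_assoc]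
        have : Θ i * F.d i - F.d i - F.d i * h * F.d i = (Θ i - 1 - F.d i * h) * F.d i := by
          rw [Matrix.sub_mul, Matrix.sub_mul, Matrix.one_mul]
        rw [this, hE2, add_sub_cancel_left, hE3]
      obtain ⟨h', hh'⟩ := exists_mul_eq (Θ (i + 1) - 1 - h * F.d i) (F.d (i + 1)) (fun v => by
        rw [← F.exact_succ i, LinearMap.mem_ker, Matrix.mulVecLin_apply, Matrix.mulVec_mulVec, hX,
          Matrix.zero_mulVec])
      refine ⟨h', h * F.d i, fun p q => ?_, ?_, ?_⟩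
      · rw [Matrix.mul_apply]
        exact Ideal.sum_mem _ (fun s _ => Ideal.mul_mem_left _ _ (hF i s q))
      · rw [hh']
        abel
      · rw [Matrix.mul_assoc, d_mul_d, Matrix.mul_zero]
  obtain ⟨h, E, hE1, hE2, -⟩ := hQ i
  intro p q
  rw [hE2, Matrix.add_apply, Matrix.mul_apply]
  exact add_mem (Ideal.sum_mem _ (fun s _ => Ideal.mul_mem_right _ _ (hF i p s))) (hE1 p q)

/-- block argument: a left inverse respecting degree blocks gives an inequality of block sizes. -/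
theorem card_le_of_mul_eq_one {K : Type*} [Field K] {n n' : ℕ} (a : Fin n → ℤ) (a' : Fin n' → ℤ)
    (P : Matrix (Fin n') (Fin n) K) (Q : Matrix (Fin n) (Fin n') K) (hQP : Q * P = 1)
    (hP : ∀ p q, a q ≠ a' p → P p q = 0) (j : ℤ) :
    (Finset.univ.filter fun b : Fin n => a b = j).card ≤
      (Finset.univ.filter fun b : Fin n' => a' b = j).card := by
  classical
  rw [← Fintype.card_subtype, ← Fintype.card_subtype]
  set Pj : Matrix {p : Fin n' // a' p = j} {q : Fin n // a q = j} K :=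
    P.submatrix Subtype.val Subtype.val with hPj
  set Qj : Matrix {q : Fin n // a q = j} {p : Fin n' // a' p = j} K :=
    Q.submatrix Subtype.val Subtype.val with hQj
  have hmul : Qj * Pj = 1 := by
    ext ⟨q, hq⟩ ⟨q', hq'⟩
    rw [Matrix.mul_apply]
    have h1 : ∑ p : {p : Fin n' // a' p = j}, Qj ⟨q, hq⟩ p * Pj p ⟨q', hq'⟩ =
        ∑ p ∈ Finset.univ.filter (fun p : Fin n' => a' p = j), Q q p * P p q' := by
      rw [Finset.sum_subtype (Finset.univ.filter (fun p : Fin n' => a' p = j))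
        (p := fun p => a' p = j) (fun x => by simp) (fun p => Q q p * P p q')]
      rfl
    rw [h1, Finset.sum_filter_of_ne]
    · have := congrFun (congrFun hQP q) q'
      rw [Matrix.mul_apply] at this
      rw [this, Matrix.one_apply, Matrix.one_apply]
      simp
    · intro p _ hne
      by_contra hp
      apply hne
      rw [hP p q' (by rw [hq']; exact fun h => hp h.symm), mul_zero]
  have hinj : Function.Injective (Matrix.mulVecLin Pj) := by
    intro v w hvw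
    have := congrArg (Matrix.mulVecLin Qj) hvw
    simpa [Matrix.mulVecLin_apply, Matrix.mulVec_mulVec, hmul] using this
  have := LinearMap.finrank_le_finrank_of_injective hinj
  simpa [Module.finrank_fintype_fun_eq_card] using this

variable (𝒜 ℳ) in
/-- the graded Betti numbers of a minimal resolution are bounded by the graded ranks of any
resolution. -/
theorem betti_le {K : Type*} [Field K] (𝔪 : Ideal R) (ε : R →+* K) (hε𝔪 : ∀ x ∈ 𝔪, ε x = 0)
    (hεd : ∀ d : ℤ, d ≠ 0 → ∀ x ∈ 𝒜 d, ε x = 0)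
    (F F' : GrSyz.FreeRes 𝒜 ℳ) (hF : F.IsMinimal 𝔪) (i : ℕ) (j : ℤ) :
    F.betti i j ≤ F'.betti i j := by
  classical
  obtain ⟨Φ, hΦ0, hΦ⟩ := exists_chainMap F F'
  obtain ⟨Ψ, hΨ0, hΨ⟩ := exists_chainMap F' F
  set Φg : (i : ℕ) → Matrix (Fin (F'.rk i)) (Fin (F.rk i)) R :=
    fun i => grPart (𝒜 := 𝒜) (F'.deg i) (F.deg i) (Φ i) with hΦg
  set Ψg : (i : ℕ) → Matrix (Fin (F.rk i)) (Fin (F'.rk i)) R :=
    fun i => grPart (𝒜 := 𝒜) (F.deg i) (F'.deg i) (Ψ i) with hΨg
  have hΦg0 : ∀ v, F'.augLin ((Φg 0).mulVec v) = F.augLin v :=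
    aug_grPart (F'.deg 0) (F.deg 0) F'.aug F.aug F'.aug_mem F.aug_mem (Φ 0) hΦ0
  have hΨg0 : ∀ v, F.augLin ((Ψg 0).mulVec v) = F'.augLin v :=
    aug_grPart (F.deg 0) (F'.deg 0) F.aug F'.aug F.aug_mem F'.aug_mem (Ψ 0) hΨ0
  have hΦgc : ∀ i, F'.d i * Φg (i + 1) = Φg i * F.d i := by
    intro i
    rw [hΦg]
    simp only
    rw [← grPart_mul_left (F'.deg i) (F'.deg (i + 1)) (F.deg (i + 1)) (F'.d i) (F'.d_mem i),
      ← grPart_mul_right (F'.deg i) (F.deg i) (F.deg (i + 1)) (F.d i) (F.d_mem i), hΦ i]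
  have hΨgc : ∀ i, F.d i * Ψg (i + 1) = Ψg i * F'.d i := by
    intro i
    rw [hΨg]
    simp only
    rw [← grPart_mul_left (F.deg i) (F.deg (i + 1)) (F'.deg (i + 1)) (F.d i) (F.d_mem i),
      ← grPart_mul_right (F.deg i) (F'.deg i) (F'.deg (i + 1)) (F'.d i) (F'.d_mem i), hΨ i]
  have hΘ := sub_one_mem 𝔪 F hF (fun i => Ψg i * Φg i)
    (fun v => by rw [← Matrix.mulVec_mulVec, hΨg0, hΦg0])
    (fun i => by rw [← Matrix.mul_assoc, hΨgc, Matrix.mul_assoc, hΦgc, Matrix.mul_assoc]) i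
  have hQP : (Ψg i).map ε * (Φg i).map ε = 1 := by
    rw [← Matrix.map_mul]
    ext p q
    have h1 := hε𝔪 _ (hΘ p q)
    rw [Matrix.sub_apply, map_sub, sub_eq_zero] at h1
    rw [Matrix.map_apply, h1, Matrix.one_apply, Matrix.one_apply]
    split_ifs <;> simp
  exact card_le_of_mul_eq_one (F.deg i) (F'.deg i) ((Φg i).map ε) ((Ψg i).map ε) hQP
    (fun p q hne => by
      rw [Matrix.map_apply]
      exact hεd _ (sub_ne_zero.2 hne) _ (grPart_mem (F'.deg i) (F.deg i) (Φ i) p q)) j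

end cmp

section std

variable (k : Type u) [Field k] (r : ℕ)
  {M : Type u} [AddCommGroup M] [Module k M] [Module (MvPolynomial (Fin (r + 1)) k) M]
  [IsScalarTower k (MvPolynomial (Fin (r + 1)) k) M]
  (ℳ : ℤ → Submodule k M) [DirectSum.Decomposition ℳ]
  [SetLike.GradedSMul (GrSyz.stdGr k (Fin (r + 1))) ℳ]

theorem betti_le_std (F F' : GrSyz.FreeRes (GrSyz.stdGr k (Fin (r + 1))) ℳ)
    (hF : F.IsMinimal (GrSyz.irrel (GrSyz.stdGr k (Fin (r + 1)))).toIdeal) (i : ℕ) (j : ℤ) :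
    F.betti i j ≤ F'.betti i j :=
  betti_le (GrSyz.stdGr k (Fin (r + 1))) ℳ _ MvPolynomial.constantCoeff
    (Groth.Agent.Lib.Helper22.GrMinRes.constantCoeff_irrel k r)
    (fun d hd x hx => Groth.Agent.Lib.Helper22.GrMinRes.constantCoeff_of_mem k r d hd x hx)
    F F' hF i j

theorem betti_eq_std (F F' : GrSyz.FreeRes (GrSyz.stdGr k (Fin (r + 1))) ℳ)
    (hF : F.IsMinimal (GrSyz.irrel (GrSyz.stdGr k (Fin (r + 1)))).toIdeal)
    (hF' : F'.IsMinimal (GrSyz.irrel (GrSyz.stdGr k (Fin (r + 1)))).toIdeal) (i : ℕ) (j : ℤ) :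
    F.betti i j = F'.betti i j :=
  le_antisymm (betti_le_std k r ℳ F F' hF i j) (betti_le_std k r ℳ F' F hF' i j)

end std

end Groth.Agent.Lib.Helper22.GrMinResCmp
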