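import Mathlib
import Groth.Prelude.Def_GrSyz
import Groth.Agent.Lib.Helper22.GrMinResCmp

/-!
# Regularity from a minimal graded free resolution
-/

namespace Groth.Agent.Lib.Helper22.GrMinResReg

open Groth.Agent.Lib.Helper22.GrMinResCmp

universe u

lemma le_of_forall_int {x y : WithBot (WithTop ℤ)}
    (h : ∀ m : ℤ, y ≤ ((m : WithTop ℤ) : WithBot (WithTop ℤ)) →
      x ≤ ((m : WithTop ℤ) : WithBot (WithTop ℤ))) : x ≤ y := by
  induction y using WithBot.recBotCoe with
  | bot =>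
    have hx : ∀ m : ℤ, x ≤ ((m : WithTop ℤ) : WithBot (WithTop ℤ)) := fun m => h m bot_le
    induction x using WithBot.recBotCoe with
    | bot => exact le_rfl
    | coe x =>
      induction x using WithTop.recTopCoe with
      | top =>
        have := hx 0
        rw [WithBot.coe_le_coe] at this
        simp at this
      | coe z =>
        have := hx (z - 1)
        rw [WithBot.coe_le_coe, WithTop.coe_le_coe] at this
        omega
  | coe y =>
    induction y using WithTop.recTopCoe with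
    | top => exact le_top
    | coe m => exact h m le_rfl

section std

variable (k : Type u) [Field k] (r : ℕ)
  {M : Type u} [AddCommGroup M] [Module k M] [Module (MvPolynomial (Fin (r + 1)) k) M]
  [IsScalarTower k (MvPolynomial (Fin (r + 1)) k) M]
  (ℳ : ℤ → Submodule k M) [DirectSum.Decomposition ℳ]
  [SetLike.GradedSMul (GrSyz.stdGr k (Fin (r + 1))) ℳ]

theorem isRegLE_iff (F : GrSyz.FreeRes (GrSyz.stdGr k (Fin (r + 1))) ℳ)
    (hF : F.IsMinimal (GrSyz.irrel (GrSyz.stdGr k (Fin (r + 1)))).toIdeal) (s : ℤ) :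
    GrSyz.IsRegLE (GrSyz.stdGr k (Fin (r + 1))) ℳ
      (GrSyz.irrel (GrSyz.stdGr k (Fin (r + 1)))).toIdeal s ↔ F.IsGenLE s := by
  constructor
  · rintro ⟨F', hF', h'⟩ i b
    have h1 : 0 < F.betti i (F.deg i b) :=
      Finset.card_pos.2 ⟨b, Finset.mem_filter.2 ⟨Finset.mem_univ _, rfl⟩⟩
    rw [betti_eq_std k r ℳ F F' hF hF' i (F.deg i b)] at h1
    obtain ⟨b', hb'⟩ := Finset.card_pos.1 h1
    rw [← (Finset.mem_filter.1 hb').2]
    exact h' i b'
  · intro h
    exact ⟨F, hF, h⟩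

theorem reg_eq (F : GrSyz.FreeRes (GrSyz.stdGr k (Fin (r + 1))) ℳ)
    (hF : F.IsMinimal (GrSyz.irrel (GrSyz.stdGr k (Fin (r + 1)))).toIdeal) :
    GrSyz.reg (GrSyz.stdGr k (Fin (r + 1))) ℳ (GrSyz.irrel (GrSyz.stdGr k (Fin (r + 1)))).toIdeal =
      ⨆ i : ℕ, WithBot.map (fun t : ℤ => ((t - (i : ℤ) : ℤ) : WithTop ℤ)) (F.maxGenDeg i) := by
  have hmono : ∀ i : ℕ, Monotone (fun t : ℤ => ((t - (i : ℤ) : ℤ) : WithTop ℤ)) := by
    intro i a b hab
    exact WithTop.coe_le_coe.2 (by omega)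
  unfold GrSyz.reg
  apply le_antisymm
  · apply le_of_forall_int
    intro m hm
    refine iInf₂_le m ((isRegLE_iff k r ℳ F hF m).2 (fun i b => ?_))
    have h1 : WithBot.map (fun t : ℤ => ((t - (i : ℤ) : ℤ) : WithTop ℤ)) (F.maxGenDeg i) ≤
        ((m : WithTop ℤ) : WithBot (WithTop ℤ)) := (le_iSup _ i).trans hm
    have h2 : ((F.deg i b : ℤ) : WithBot ℤ) ≤ F.maxGenDeg i :=
      Finset.le_sup (f := fun b : Fin (F.rk i) => (F.deg i b : WithBot ℤ)) (Finset.mem_univ b)
    have h3 := (hmono i).withBot_map h2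
    have h4 := h3.trans h1
    rw [WithBot.map_coe, WithBot.coe_le_coe, WithTop.coe_le_coe] at h4
    omega
  · refine le_iInf₂ (fun s hs => iSup_le (fun i => ?_))
    have hs' := (isRegLE_iff k r ℳ F hF s).1 hs
    have h1 : F.maxGenDeg i ≤ ((s + i : ℤ) : WithBot ℤ) :=
      Finset.sup_le (fun b _ => WithBot.coe_le_coe.2 (hs' i b))
    have h2 := (hmono i).withBot_map h1
    refine h2.trans ?_
    rw [WithBot.map_coe, add_sub_cancel_right]

end std

end Groth.Agent.Lib.Helper22.GrMinResReg
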