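import Mathlib
import Groth.Agent.Lib.Helper22.Samuel14

/-!
# The number of top-dimensional primes is bounded by `ℓ(A/q)` for a parameter ideal `q`
-/

set_option autoImplicit false
set_option linter.unusedSectionVars false

universe u

namespace Groth.Agent.Lib.Helper22.Samuel

open Groth.Agent.Lib.Helper22.HS Module PrimeSpectrum Order Filter Topology Pointwise

variable {A : Type u} [CommRing A] [IsNoetherianRing A] (I : Ideal A) [IsArtinianRing (A ⧸ I)]

omit [IsArtinianRing (A ⧸ I)] in
/-- the localization of `A` at a top-dimensional prime has length at least one. -/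
lemma one_le_lenLoc_self (d : ℕ) (hd : ringKrullDim A = d) (p : PrimeSpectrum A)
    (hp : ringKrullDim (A ⧸ p.asIdeal) = d) : 1 ≤ lenLoc p A := by
  have hdA : supportDim A A ≤ (d : WithBot ℕ∞) := by
    rw [Module.supportDim_self_eq_ringKrullDim, hd]
  have hfin := isFiniteLength_localized hdA p hp
  have hnt : Nontrivial (LocalizedModule p.asIdeal.primeCompl A) := by
    by_contra hnot
    rw [not_nontrivial_iff_subsingleton, LocalizedModule.subsingleton_iff] at hnot
    obtain ⟨r, hr, hr0⟩ := hnot (1 : A)
    rw [smul_eq_mul, mul_one] at hr0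
    rw [hr0] at hr
    exact hr p.asIdeal.zero_mem
  have hpos : 0 < Module.length (Localization.AtPrime p.asIdeal)
      (LocalizedModule p.asIdeal.primeCompl A) := Module.length_pos
  have hne := Module.length_ne_top_iff.2 hfin
  simp only [lenLoc]
  have h1 : 1 ≤ (Module.length (Localization.AtPrime p.asIdeal)
      (LocalizedModule p.asIdeal.primeCompl A)).toNat := by
    rw [Nat.one_le_iff_ne_zero]
    intro h0
    rw [ENat.toNat_eq_zero] at h0
    rcases h0 with h0 | h0
    · exact hpos.ne' h0
    · exact hne h0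
  exact_mod_cast h1

/-- **Bound on the number of top-dimensional primes** by the colength of a parameter ideal. -/
theorem ncard_top_primes_le (hIJ : I ≤ Ring.jacobson A) (d : ℕ) (hd : ringKrullDim A = d)
    (x : Fin d → A) (hx : I = Ideal.span (Set.range x)) :
    {p : PrimeSpectrum A | ringKrullDim (A ⧸ p.asIdeal) = d}.Finite ∧
    ({p : PrimeSpectrum A | ringKrullDim (A ⧸ p.asIdeal) = d}.ncard : ℝ) ≤
      ((Module.length A (A ⧸ I)).toNat : ℝ) := by
  classical
  have hdA : supportDim A A ≤ (d : WithBot ℕ∞) := by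
    rw [Module.supportDim_self_eq_ringKrullDim, hd]
  have hle : ∀ p : PrimeSpectrum A, supportDim A (A ⧸ p.asIdeal) ≤ (d : WithBot ℕ∞) := by
    intro p
    rw [Module.supportDim_quotient_eq_ringKrullDim, ← hd]
    exact ringKrullDim_quotient_le _
  choose c hc hc0 using fun p : PrimeSpectrum A => exists_tendsto_nchi I (A ⧸ p.asIdeal) d (hle p)
  set e : PrimeSpectrum A → ℝ := fun p => (c p : ℝ) with he
  have hlim := tendsto_nchi_Phi I d e (fun p _ => hc p) A hdA
  -- the upper bound
  set L : ℕ := (Module.length A (A ⧸ I)).toNat with hL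
  have hbound : ∀ n, chi I A n ≤ (L : ℤ) * ((n + d).choose d : ℤ) := by
    refine chi_le_choose I d A x (fun i => hx ▸ Ideal.subset_span ⟨i, rfl⟩) L ?_
    intro n
    have hfl : IsFiniteLength A (A ⧸ (Ideal.span (Set.range x) • (⊤ : Submodule A A))) := by
      refine isFiniteLength_of_torsion I _ ?_
      intro a ha y
      obtain ⟨z, rfl⟩ := Submodule.Quotient.mk_surjective _ y
      rw [← Submodule.Quotient.mk_smul, Submodule.Quotient.mk_eq_zero, ← hx]
      exact Submodule.smul_mem_smul ha Submodule.mem_top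
    refine (chi_le_length I _ hfl n).trans ?_
    have heq : (Ideal.span (Set.range x) • (⊤ : Submodule A A)) = I := by
      rw [← hx, smul_eq_mul, Ideal.mul_top]
    rw [(Submodule.quotEquivOfEq _ _ heq).length_eq]
  have hub : Phi d e A ≤ (L : ℝ) := by
    have h2 := (tendsto_choose_add_div_pow d d).const_mul (L : ℝ)
    rw [mul_one] at h2
    refine le_of_tendsto_of_tendsto' hlim h2 (fun n => ?_)
    simp only [nchi]
    have h3 : (chi I A n : ℝ) ≤ (L : ℝ) * ((n + d).choose d : ℝ) := by exact_mod_cast hbound n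
    have h4 : (d.factorial : ℝ) * (chi I A n : ℝ) / (n : ℝ) ^ d ≤
        (d.factorial : ℝ) * ((L : ℝ) * ((n + d).choose d : ℝ)) / (n : ℝ) ^ d := by
      gcongr
    refine h4.trans (le_of_eq ?_)
    ring
  -- the lower bound
  set T : Set (PrimeSpectrum A) := {p : PrimeSpectrum A | ringKrullDim (A ⧸ p.asIdeal) = d} with hT
  have hTfin : T.Finite := by
    refine (finite_support_lenLoc A hdA).subset ?_
    intro p hp
    refine ⟨hp, fun h0 => ?_⟩
    have := one_le_lenLoc_self d hd p hp
    rw [h0] at this
    linarith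
  refine ⟨hTfin, ?_⟩
  have hsupp : (Function.support fun p : PrimeSpectrum A =>
      (if ringKrullDim (A ⧸ p.asIdeal) = d then lenLoc p A * e p else 0)) ⊆
      ↑hTfin.toFinset := by
    intro p hp
    rw [Function.mem_support] at hp
    rw [Set.Finite.coe_toFinset]
    by_contra hnot
    exact hp (if_neg hnot)
  have hPhi : Phi d e A = ∑ p ∈ hTfin.toFinset, lenLoc p A * e p := by
    simp only [Phi]
    rw [finsum_eq_sum_of_support_subset _ hsupp]
    refine Finset.sum_congr rfl (fun p hp => ?_)
    rw [Set.Finite.mem_toFinset] at hp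
    exact if_pos hp
  have hlb : (T.ncard : ℝ) ≤ Phi d e A := by
    rw [hPhi, Set.ncard_eq_toFinset_card T hTfin]
    have : ((hTfin.toFinset.card : ℕ) : ℝ) = ∑ p ∈ hTfin.toFinset, (1 : ℝ) := by simp
    rw [this]
    refine Finset.sum_le_sum (fun p hp => ?_)
    rw [Set.Finite.mem_toFinset] at hp
    have h1 := one_le_lenLoc_self d hd p hp
    have h2 : 1 ≤ c p := by
      refine one_le_of_supportDim_eq I hIJ (A ⧸ p.asIdeal) d ?_ (c p) (hc p) (hc0 p)
      rw [Module.supportDim_quotient_eq_ringKrullDim]
      exact hp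
    have h3 : (1 : ℝ) ≤ e p := by
      simp only [he]
      exact_mod_cast h2
    calc (1 : ℝ) = 1 * 1 := by ring
      _ ≤ lenLoc p A * e p := mul_le_mul h1 h3 zero_le_one (zero_le_one.trans h1)
  exact hlb.trans hub

end Groth.Agent.Lib.Helper22.Samuel
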