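import Mathlib
import Groth.Agent.Lib.Helper22.Samuel15

/-!
# Samuel functions of graded quotients of a polynomial ring with respect to the irrelevant ideal
-/

set_option autoImplicit false
set_option linter.unusedSectionVars false

universe u

namespace Groth.Agent.Lib.Helper22.GrSamuel

open Groth.Agent.Lib.Helper22.HS Groth.Agent.Lib.Helper22.Samuel Module MvPolynomial

/-- the polynomial ring. -/
abbrev PR (k : Type u) [Field k] (N : ℕ) : Type u := MvPolynomial (Fin N) k

/-- the irrelevant ideal. -/
noncomputable abbrev irr (k : Type u) [Field k] (N : ℕ) : Ideal (PR k N) :=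
  MvPolynomial.idealOfVars (Fin N) k

variable {k : Type u} [Field k] {N : ℕ}

attribute [local instance] MvPolynomial.gradedAlgebra

instance finite_homogeneousSubmodule (t : ℕ) :
    Module.Finite k ↥(homogeneousSubmodule (Fin N) k t) :=
  Module.Finite.iff_fg.2 (homogeneousSubmodule_fg (Fin N) k t)

lemma mem_irr_iff (p : PR k N) : p ∈ irr k N ↔ constantCoeff p = 0 := by
  have := mem_pow_idealOfVars_iff' (σ := Fin N) (R := k) 1 p
  rw [pow_one] at this
  rw [this, constantCoeff_eq]
  constructor
  · intro h
    exact h 0 (by simp)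
  · intro h x hx
    have : x = 0 := by
      have h1 : x.degree = 0 := by omega
      exact (Finsupp.degree_eq_zero_iff x).1 h1
    rw [this]
    exact h

lemma sub_C_mem_irr (p : PR k N) : p - C (constantCoeff p) ∈ irr k N := by
  rw [mem_irr_iff, map_sub, constantCoeff_C, sub_self]

instance irr_isMaximal : (irr k N).IsMaximal := by
  have hker : RingHom.ker (constantCoeff : PR k N →+* k) = irr k N := by
    ext p
    rw [RingHom.mem_ker, mem_irr_iff]
  rw [← hker]
  exact RingHom.ker_isMaximal_of_surjective _ (fun c => ⟨C c, constantCoeff_C _ c⟩)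

instance irr_isArtinianRing : IsArtinianRing (PR k N ⧸ irr k N) := by
  let _ : Field (PR k N ⧸ irr k N) := Ideal.Quotient.field _
  infer_instance

section killed

variable (Y : Type*) [AddCommGroup Y] [Module (PR k N) Y] [Module k Y] [IsScalarTower k (PR k N) Y]

/-- modules killed by the irrelevant ideal: the action is through the constant coefficient. -/
lemma smul_eq_of_killed (h : ∀ a ∈ irr k N, ∀ y : Y, a • y = 0) (r : PR k N) (y : Y) :
    r • y = constantCoeff r • y := by
  have h1 := h _ (sub_C_mem_irr r) y
  rw [sub_smul, sub_eq_zero] at h1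
  rw [h1, ← algebraMap_eq, algebraMap_smul]

/-- for modules killed by the irrelevant ideal, length over the polynomial ring is the dimension
over the field. -/
theorem length_eq_of_killed (h : ∀ a ∈ irr k N, ∀ y : Y, a • y = 0) :
    Module.length (PR k N) Y = Module.length k Y := by
  let e : Submodule (PR k N) Y ≃o Submodule k Y :=
    { toFun := fun W => W.restrictScalars k
      invFun := fun W =>
        { carrier := W
          add_mem' := W.add_mem
          zero_mem' := W.zero_mem
          smul_mem' := fun r y hy => by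
            rw [smul_eq_of_killed Y h r y]
            exact W.smul_mem _ hy }
      left_inv := fun W => by ext; rfl
      right_inv := fun W => by ext; rfl
      map_rel_iff' := by
        intro a b
        rfl }
  rw [Module.length, Module.length, WithBot.unbot_inj, Order.krullDim_eq_of_orderIso e]

end killed

section hilbert

variable (J : Ideal (PR k N))

/-- the Hilbert function of `k[X]/J`. -/
noncomputable def HF (t : ℕ) : ℤ :=
  (Module.finrank k ↥(homogeneousSubmodule (Fin N) k t) : ℤ) -
    (Module.finrank k ↥(Submodule.restrictScalars k J ⊓ homogeneousSubmodule (Fin N) k t) : ℤ)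

lemma smul_D_eq_zero {A : Type u} [CommRing A] (I : Ideal A) {M : Type u} [AddCommGroup M]
    [Module A M] (n : ℕ) {a : A} (ha : a ∈ I) (y : ↥(D I (M := M) n)) : a • y = 0 := by
  obtain ⟨_, z, hz, rfl⟩ := y
  apply Subtype.ext
  change a • (I ^ (n + 1) • (⊤ : Submodule A M)).mkQ z = 0
  rw [← map_smul, Submodule.mkQ_apply, Submodule.Quotient.mk_eq_zero, pow_succ', mul_smul]
  exact Submodule.smul_mem_smul ha hz

lemma mem_pow_irr_of_isHomogeneous {t : ℕ} {x : PR k N} (hx : x.IsHomogeneous t) :
    x ∈ irr k N ^ t := by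
  rw [mem_pow_idealOfVars_iff']
  intro d hd
  by_contra hne
  have h1 := hx hne
  have h2 : Finsupp.degree d = Finsupp.weight (1 : Fin N → ℕ) d := by
    rw [Finsupp.degree_eq_weight_one]
    rfl
  omega

lemma homogeneousComponent_eq_zero_of_mem_pow {t : ℕ} {b : PR k N} (hb : b ∈ irr k N ^ (t + 1)) :
    homogeneousComponent t b = 0 := by
  rw [mem_pow_idealOfVars_iff'] at hb
  ext d
  rw [coeff_homogeneousComponent, coeff_zero]
  split_ifs with h
  · exact hb d (by omega)
  · rfl

lemma sub_homogeneousComponent_mem {t : ℕ} {p : PR k N} (hp : p ∈ irr k N ^ t) :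
    p - homogeneousComponent t p ∈ irr k N ^ (t + 1) := by
  rw [mem_pow_idealOfVars_iff'] at hp ⊢
  intro d hd
  rw [coeff_sub, coeff_homogeneousComponent]
  split_ifs with h
  · rw [sub_self]
  · rw [sub_zero]
    exact hp d (by omega)

lemma mem_smul_top_quotient {I : Ideal (PR k N)} (y : PR k N ⧸ J) :
    y ∈ I • (⊤ : Submodule (PR k N) (PR k N ⧸ J)) ↔ ∃ p ∈ I, Ideal.Quotient.mk J p = y := by
  constructor
  · intro hy
    refine Submodule.smul_induction_on hy ?_ ?_
    · intro a ha z _
      obtain ⟨x, rfl⟩ := Ideal.Quotient.mk_surjective z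
      exact ⟨a * x, I.mul_mem_right _ ha, by rw [map_mul]; rfl⟩
    · rintro y₁ y₂ ⟨p₁, hp₁, rfl⟩ ⟨p₂, hp₂, rfl⟩
      exact ⟨p₁ + p₂, I.add_mem hp₁ hp₂, map_add _ _ _⟩
  · rintro ⟨p, hp, rfl⟩
    have : Ideal.Quotient.mk J p = p • (Submodule.Quotient.mk (p := J) (1 : PR k N)) := by
      rw [← Submodule.Quotient.mk_smul, smul_eq_mul, mul_one]
      rfl
    rw [this]
    exact Submodule.smul_mem_smul hp Submodule.mem_top

variable {J}

/-- the Hilbert function of the associated graded module of `k[X]/J` w.r.t. the irrelevant ideal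
is the Hilbert function of `J`, for homogeneous `J`. -/
theorem hgr_eq_HF (hJ : J.IsHomogeneous (homogeneousSubmodule (Fin N) k)) (t : ℕ) :
    hgr (irr k N) (PR k N ⧸ J) t = HF J t := by
  set W : Submodule (PR k N) (PR k N ⧸ J) :=
    irr k N ^ (t + 1) • (⊤ : Submodule (PR k N) (PR k N ⧸ J)) with hW
  set ψ : ↥(homogeneousSubmodule (Fin N) k t) →ₗ[k] ((PR k N ⧸ J) ⧸ W) :=
    (W.mkQ.restrictScalars k).comp ((Ideal.Quotient.mkₐ k J).toLinearMap.comp (homogeneousSubmodule (Fin N) k t).subtype) with hψ
  have hψa : ∀ x : ↥(homogeneousSubmodule (Fin N) k t), ψ x = W.mkQ (Ideal.Quotient.mk J x.1) := fun x => rfl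
  have hrange : LinearMap.range ψ =
      (D (irr k N) (M := PR k N ⧸ J) t).restrictScalars k := by
    ext y
    constructor
    · rintro ⟨x, rfl⟩
      rw [hψa]
      refine ⟨Ideal.Quotient.mk J x.1, ?_, rfl⟩
      exact (mem_smul_top_quotient J _).2 ⟨x.1, mem_pow_irr_of_isHomogeneous x.2, rfl⟩
    · rintro ⟨z, hz, rfl⟩
      obtain ⟨p, hp, rfl⟩ := (mem_smul_top_quotient J z).1 hz
      refine ⟨⟨homogeneousComponent t p, homogeneousComponent_mem t p⟩, ?_⟩
      rw [hψa]
      change W.mkQ (Ideal.Quotient.mk J (homogeneousComponent t p)) = W.mkQ (Ideal.Quotient.mk J p)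
      rw [← sub_eq_zero, ← map_sub, ← map_sub, Submodule.mkQ_apply, Submodule.Quotient.mk_eq_zero]
      refine (mem_smul_top_quotient J _).2 ⟨-(p - homogeneousComponent t p), ?_, ?_⟩
      · exact Ideal.neg_mem_iff _ |>.2 (sub_homogeneousComponent_mem hp)
      · rw [neg_sub]
  have hker : LinearMap.ker ψ =
      Submodule.comap (homogeneousSubmodule (Fin N) k t).subtype (Submodule.restrictScalars k J ⊓ (homogeneousSubmodule (Fin N) k t)) := by
    ext x
    rw [LinearMap.mem_ker, hψa, Submodule.mkQ_apply, Submodule.Quotient.mk_eq_zero,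
      Submodule.mem_comap, Submodule.subtype_apply, Submodule.mem_inf,
      Submodule.restrictScalars_mem]
    constructor
    · intro h
      obtain ⟨b, hb, hbx⟩ := (mem_smul_top_quotient J _).1 h
      refine ⟨?_, x.2⟩
      have h1 : x.1 - b ∈ J := by
        rw [← Ideal.Quotient.eq]
        exact hbx.symm
      have h2 := hJ t h1
      rw [DirectSum.decompose_sub] at h2
      have h3 : ((DirectSum.decompose (homogeneousSubmodule (Fin N) k) x.1 t :
          ↥(homogeneousSubmodule (Fin N) k t)) : PR k N) = x.1 :=
        DirectSum.decompose_of_mem_same _ x.2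
      have h4 : ((DirectSum.decompose (homogeneousSubmodule (Fin N) k) b t :
          ↥(homogeneousSubmodule (Fin N) k t)) : PR k N) = 0 := by
        have : ((DirectSum.decompose (homogeneousSubmodule (Fin N) k) b t :
          ↥(homogeneousSubmodule (Fin N) k t)) : PR k N) = homogeneousComponent t b :=
          MvPolynomial.decomposition.decompose'_apply b t
        rw [this]
        exact homogeneousComponent_eq_zero_of_mem_pow hb
      rw [DFinsupp.sub_apply, Submodule.coe_sub, h3, h4, sub_zero] at h2
      exact h2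
    · rintro ⟨hx, -⟩
      rw [Ideal.Quotient.eq_zero_iff_mem.2 hx]
      exact Submodule.zero_mem _
  -- dimension count
  have h1 := LinearMap.finrank_range_add_finrank_ker ψ
  have h2 : Module.finrank k ↥(LinearMap.ker ψ) =
      Module.finrank k ↥(Submodule.restrictScalars k J ⊓ (homogeneousSubmodule (Fin N) k t)) := by
    rw [hker]
    exact (Submodule.comapSubtypeEquivOfLe (inf_le_right)).finrank_eq
  have hfin : Module.Finite k ↥((D (irr k N) (M := PR k N ⧸ J) t).restrictScalars k) := by
    rw [← hrange]
    infer_instance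
  have h3 : Module.length (PR k N) ↥(D (irr k N) (M := PR k N ⧸ J) t) =
      (Module.finrank k ↥((D (irr k N) (M := PR k N ⧸ J) t).restrictScalars k) : ℕ∞) := by
    rw [length_eq_of_killed (k := k) (N := N) ↥(D (irr k N) (M := PR k N ⧸ J) t)
      (fun a ha y => smul_D_eq_zero (irr k N) t ha y)]
    haveI : Module.Finite k ↥(D (irr k N) (M := PR k N ⧸ J) t) := hfin
    exact Module.length_eq_finrank k _
  have h4 : Module.finrank k ↥((D (irr k N) (M := PR k N ⧸ J) t).restrictScalars k) =
      Module.finrank k ↥(LinearMap.range ψ) := by rw [hrange]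
  simp only [hgr, HF]
  rw [h3, ENat.toNat_natCast, h4]
  rw [h2] at h1
  have h5 : (Module.finrank k ↥(LinearMap.range ψ) : ℤ) +
      (Module.finrank k ↥(Submodule.restrictScalars k J ⊓ homogeneousSubmodule (Fin N) k t) : ℤ) =
      (Module.finrank k ↥(homogeneousSubmodule (Fin N) k t) : ℤ) := by exact_mod_cast h1
  linarith

end hilbert

end Groth.Agent.Lib.Helper22.GrSamuel
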