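import Mathlib
import Groth.Agent.Lib.Helper7.GradedLib
import Groth.Agent.Lib.Helper12.DimFT2
import Groth.Agent.Lib.Helper22.CMGlue

/-!
# Dimension at the irrelevant ideal of a graded algebra over a field
-/

set_option autoImplicit false

namespace Groth.Agent.Lib.Helper22.GrDim

open DirectSum

universe u v

variable {K : Type u} [Field K] {A : Type v} [CommRing A] [Algebra K A]
  (𝒜 : ℕ → Submodule K A) [GradedAlgebra 𝒜]

lemma proj_zero_eq (a : A) : GradedRing.proj 𝒜 0 a = (decompose 𝒜 a 0 : A) := rfl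

/-- a proper homogeneous ideal lies in the irrelevant ideal. -/
lemma le_irrelevant (h0 : ∀ a ∈ 𝒜 0, ∃ c : K, algebraMap K A c = a) (𝔞 : Ideal A)
    (h𝔞 : 𝔞.IsHomogeneous 𝒜) (hne : 𝔞 ≠ ⊤) :
    𝔞 ≤ (HomogeneousIdeal.irrelevant 𝒜).toIdeal := by
  intro a ha
  show a ∈ HomogeneousIdeal.irrelevant 𝒜
  rw [HomogeneousIdeal.mem_irrelevant_iff, proj_zero_eq]
  by_contra hne0
  have h1 : (decompose 𝒜 a 0 : A) ∈ 𝔞 := h𝔞 0 ha
  obtain ⟨c, hc⟩ := h0 _ (SetLike.coe_mem (decompose 𝒜 a 0))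
  have hc0 : c ≠ 0 := by
    rintro rfl
    rw [map_zero] at hc
    exact hne0 hc.symm
  apply hne
  apply Ideal.eq_top_of_isUnit_mem _ h1
  rw [← hc]
  exact (IsUnit.mk0 c hc0).map (algebraMap K A)

/-- the irrelevant ideal is maximal. -/
lemma irrelevant_isMaximal [Nontrivial A] (h0 : ∀ a ∈ 𝒜 0, ∃ c : K, algebraMap K A c = a) :
    (HomogeneousIdeal.irrelevant 𝒜).toIdeal.IsMaximal := by
  rw [Ideal.isMaximal_iff]
  constructor
  · show (1 : A) ∉ HomogeneousIdeal.irrelevant 𝒜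
    rw [HomogeneousIdeal.mem_irrelevant_iff, proj_zero_eq,
      decompose_of_mem_same 𝒜 (SetLike.GradedOne.one_mem)]
    exact one_ne_zero
  · intro J x hle hxn hxJ
    have hx0 : (decompose 𝒜 x 0 : A) ≠ 0 := by
      intro h
      apply hxn
      show x ∈ HomogeneousIdeal.irrelevant 𝒜
      rw [HomogeneousIdeal.mem_irrelevant_iff, proj_zero_eq]
      exact h
    obtain ⟨c, hc⟩ := h0 _ (SetLike.coe_mem (decompose 𝒜 x 0))
    have hc0 : c ≠ 0 := by
      rintro rfl
      rw [map_zero] at hc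
      exact hx0 hc.symm
    have h1 : x - (decompose 𝒜 x 0 : A) ∈ (HomogeneousIdeal.irrelevant 𝒜).toIdeal := by
      show x - (decompose 𝒜 x 0 : A) ∈ HomogeneousIdeal.irrelevant 𝒜
      rw [HomogeneousIdeal.mem_irrelevant_iff, proj_zero_eq, decompose_sub]
      simp only [DirectSum.sub_apply, AddSubgroupClass.coe_sub]
      rw [decompose_of_mem_same 𝒜 (SetLike.coe_mem (decompose 𝒜 x 0)), sub_self]
    have h2 : (decompose 𝒜 x 0 : A) ∈ J := by
      have : (decompose 𝒜 x 0 : A) = x - (x - (decompose 𝒜 x 0 : A)) := by ring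
      rw [this]
      exact J.sub_mem hxJ (hle h1)
    have h3 : IsUnit ((decompose 𝒜 x 0 : A)) := by
      rw [← hc]
      exact (IsUnit.mk0 c hc0).map (algebraMap K A)
    rw [← Ideal.eq_top_iff_one]
    exact Ideal.eq_top_of_isUnit_mem _ h2 h3

/-- minimal primes over a homogeneous ideal are homogeneous. -/
lemma isHomogeneous_of_mem_minimalPrimes {𝔞 : Ideal A} (h𝔞 : 𝔞.IsHomogeneous 𝒜) {P : Ideal A}
    (hP : P ∈ 𝔞.minimalPrimes) : P.IsHomogeneous 𝒜 := by
  have hPp : P.IsPrime := hP.1.1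
  have hcore : (P.homogeneousCore 𝒜).toIdeal.IsPrime := Ideal.IsPrime.homogeneousCore hPp
  have hle : 𝔞 ≤ (P.homogeneousCore 𝒜).toIdeal :=
    h𝔞.toIdeal_homogeneousCore_eq_self.symm.trans_le (Ideal.homogeneousCore_mono _ hP.1.2)
  have h1 := hP.2 ⟨hcore, hle⟩ (Ideal.toIdeal_homogeneousCore_le 𝒜 P)
  have heq : (P.homogeneousCore 𝒜).toIdeal = P :=
    le_antisymm (Ideal.toIdeal_homogeneousCore_le 𝒜 P) h1
  rw [← heq]
  exact (P.homogeneousCore 𝒜).isHomogeneous

/-- the degree zero part is a field. -/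
lemma isField_zero [Nontrivial A] (h0 : ∀ a ∈ 𝒜 0, ∃ c : K, algebraMap K A c = a) :
    IsField (𝒜 0) := by
  refine { exists_pair_ne := ⟨0, 1, ?_⟩, mul_comm := mul_comm, mul_inv_cancel := ?_ }
  · intro h
    have := congrArg (Subtype.val) h
    exact zero_ne_one this
  · intro a ha
    obtain ⟨c, hc⟩ := h0 _ a.2
    have hc0 : c ≠ 0 := by
      rintro rfl
      rw [map_zero] at hc
      exact ha (Subtype.ext hc.symm)
    refine ⟨⟨algebraMap K A c⁻¹, ?_⟩, ?_⟩
    · rw [Algebra.algebraMap_eq_smul_one]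
      exact Submodule.smul_mem _ _ SetLike.GradedOne.one_mem
    · apply Subtype.ext
      show (a : A) * algebraMap K A c⁻¹ = 1
      rw [← hc, ← map_mul, mul_inv_cancel₀ hc0, map_one]

section Dim

variable [IsNoetherianRing A]

/-- the height of the image of the irrelevant ideal is the dimension of the quotient. -/
theorem height_map_irrelevant (h0 : ∀ a ∈ 𝒜 0, ∃ c : K, algebraMap K A c = a) (𝔞 : Ideal A)
    (h𝔞 : 𝔞.IsHomogeneous 𝒜) (hne : 𝔞 ≠ ⊤)
    [hq : ((HomogeneousIdeal.irrelevant 𝒜).toIdeal.map (Ideal.Quotient.mk 𝔞)).IsPrime] :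
    (((HomogeneousIdeal.irrelevant 𝒜).toIdeal.map (Ideal.Quotient.mk 𝔞)).height : WithBot ℕ∞) =
      ringKrullDim (A ⧸ 𝔞) := by
  haveI : Nontrivial A := by
    by_contra hA
    rw [not_nontrivial_iff_subsingleton] at hA
    exact hne (Subsingleton.elim _ _)
  letI : Field (𝒜 0) := (isField_zero 𝒜 h0).toField
  haveI : Algebra.FiniteType (𝒜 0) A :=
    ((Groth.Agent.Lib.Helper7.isNoetherianRing_iff_degZero_and_finiteType 𝒜).1 inferInstance).2
  haveI : Algebra.FiniteType (𝒜 0) (A ⧸ 𝔞) :=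
    Algebra.FiniteType.of_surjective (Ideal.Quotient.mkₐ (𝒜 0) 𝔞) Ideal.Quotient.mk_surjective
  set q := (HomogeneousIdeal.irrelevant 𝒜).toIdeal.map (Ideal.Quotient.mk 𝔞) with hqdef
  have hmax : (HomogeneousIdeal.irrelevant 𝒜).toIdeal.IsMaximal := irrelevant_isMaximal 𝒜 h0
  have hqmax : q.IsMaximal := by
    rcases Ideal.map_eq_top_or_isMaximal_of_surjective (Ideal.Quotient.mk 𝔞)
      Ideal.Quotient.mk_surjective hmax with h | h
    · exact absurd h hq.ne_top
    · exact h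
  apply le_antisymm
  · exact Ideal.height_le_ringKrullDim_of_ne_top hq.ne_top
  · apply Groth.Agent.Lib.Helper12.DimFT2.ringKrullDim_le_of_minimalPrimes
    intro P hP hPp
    have hP' : P.comap (Ideal.Quotient.mk 𝔞) ∈ 𝔞.minimalPrimes := by
      rw [Ideal.minimalPrimes_eq_comap]
      exact ⟨P, hP, rfl⟩
    have hhom := isHomogeneous_of_mem_minimalPrimes 𝒜 h𝔞 hP'
    have hle := le_irrelevant 𝒜 h0 _ hhom hP'.1.1.ne_top
    have hPq : P ≤ q := by
      rw [← Ideal.map_comap_of_surjective (Ideal.Quotient.mk 𝔞) Ideal.Quotient.mk_surjective P]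
      exact Ideal.map_mono hle
    have h1 := Groth.Agent.Lib.Helper12.DimFT2.ringKrullDim_quotient_le_height_add_coheight
      (𝒜 0) (A ⧸ 𝔞) P ⟨q, hq⟩ hPq
    have hco : Order.coheight (⟨q, hq⟩ : PrimeSpectrum (A ⧸ 𝔞)) = 0 := by
      rw [Order.coheight_eq_zero]
      intro z hz
      have h2 : q ≤ z.asIdeal := hz
      have h3 : z.asIdeal = q := (hqmax.eq_of_le z.2.ne_top h2).symm
      exact le_of_eq (PrimeSpectrum.ext h3)
    rw [hco, add_zero, ← PrimeSpectrum.height_eq_orderHeight] at h1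
    exact h1

end Dim

end Groth.Agent.Lib.Helper22.GrDim
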