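import Mathlib
import Groth.Agent.Lib.Helper22.GrDim

/-!
# Graded Noether normalization I: homogeneous prime avoidance (helper22)
-/

set_option autoImplicit false
set_option maxHeartbeats 800000

universe u v

open DirectSum

namespace Groth.Agent.Lib.Helper22.GrNN

variable {k : Type u} [Field k] {R : Type v} [CommRing R] [Algebra k R]
  (𝒜 : ℕ → Submodule k R) [GradedAlgebra 𝒜]

/-- an element of the irrelevant ideal outside a prime has a homogeneous component of positive
degree outside the prime. -/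
lemma exists_homogeneous_notMem_of_not_le (Q : Ideal R)
    (hQ : ¬ (HomogeneousIdeal.irrelevant 𝒜).toIdeal ≤ Q) :
    ∃ d : ℕ, 0 < d ∧ ∃ x ∈ 𝒜 d, x ∉ Q := by
  classical
  obtain ⟨a, ha, haQ⟩ := Set.not_subset.1 hQ
  have ha0 : (decompose 𝒜 a 0 : R) = 0 := by
    have := (HomogeneousIdeal.mem_irrelevant_iff 𝒜 a).1 ha
    simpa [GradedRing.proj_apply] using this
  by_contra hcon
  push Not at hcon
  apply haQ
  rw [← DirectSum.sum_support_decompose 𝒜 a]
  refine Ideal.sum_mem _ (fun i _ => ?_)
  rcases Nat.eq_zero_or_pos i with rfl | hi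
  · rw [ha0]; exact Q.zero_mem
  · exact hcon i hi _ (SetLike.coe_mem _)

/-- **homogeneous prime avoidance.** -/
theorem exists_homogeneous_notMem :
    ∀ (n : ℕ) (s : Finset (Ideal R)), s.card = n → (∀ P ∈ s, P.IsPrime) →
      (∀ P ∈ s, ¬ (HomogeneousIdeal.irrelevant 𝒜).toIdeal ≤ P) →
      ∃ d : ℕ, 0 < d ∧ ∃ x ∈ 𝒜 d, ∀ P ∈ s, x ∉ P := by
  classical
  intro n
  induction n with
  | zero =>
    intro s hs _ _
    rw [Finset.card_eq_zero] at hs
    subst hs
    exact ⟨1, one_pos, 0, Submodule.zero_mem _, fun P hP => absurd hP (Finset.notMem_empty P)⟩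
  | succ n ih =>
    intro s hs hprime hirr
    have hIH : ∀ Q ∈ s, ∃ d : ℕ, 0 < d ∧ ∃ x ∈ 𝒜 d, ∀ P ∈ s.erase Q, x ∉ P := by
      intro Q hQ
      refine ih (s.erase Q) ?_ (fun P hP => hprime P (Finset.mem_of_mem_erase hP))
        (fun P hP => hirr P (Finset.mem_of_mem_erase hP))
      rw [Finset.card_erase_of_mem hQ, hs]
      rfl
    choose d hd x hx havoid using hIH
    by_cases hgood : ∃ Q, ∃ hQ : Q ∈ s, x Q hQ ∉ Q
    · obtain ⟨Q, hQ, hxQ⟩ := hgood
      refine ⟨d Q hQ, hd Q hQ, x Q hQ, hx Q hQ, fun P hP => ?_⟩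
      by_cases hPQ : P = Q
      · subst hPQ; exact hxQ
      · exact havoid Q hQ P (Finset.mem_erase.2 ⟨hPQ, hP⟩)
    · push Not at hgood
      have hne : s.Nonempty := by
        rw [← Finset.card_pos, hs]; exact Nat.succ_pos n
      obtain ⟨Q₀, hQ₀⟩ := hne
      rcases Nat.eq_zero_or_pos n with hn0 | hnpos
      · -- card = 1
        subst hn0
        have hs1 : s = {Q₀} := by
          obtain ⟨a, ha⟩ := Finset.card_eq_one.1 hs
          rw [ha] at hQ₀ ⊢
          rw [Finset.mem_singleton] at hQ₀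
          rw [hQ₀]
        obtain ⟨e, he, y, hy, hyQ⟩ := exists_homogeneous_notMem_of_not_le 𝒜 Q₀ (hirr Q₀ hQ₀)
        refine ⟨e, he, y, hy, fun P hP => ?_⟩
        rw [hs1, Finset.mem_singleton] at hP
        subst hP
        exact hyQ
      · -- card ≥ 2
        haveI := hprime Q₀ hQ₀
        set t := s.erase Q₀ with ht
        have htne : t.Nonempty := by
          rw [← Finset.card_pos, ht, Finset.card_erase_of_mem hQ₀, hs]
          simpa using hnpos
        set u := x Q₀ hQ₀ with hu
        set d₀ := d Q₀ hQ₀ with hd₀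
        set v := ∏ Q ∈ t.attach, x Q.1 (Finset.mem_of_mem_erase Q.2) with hv
        set e := ∑ Q ∈ t.attach, d Q.1 (Finset.mem_of_mem_erase Q.2) with he
        have hepos : 0 < e := by
          obtain ⟨Q₁, hQ₁⟩ := htne
          refine lt_of_lt_of_le (hd Q₁ (Finset.mem_of_mem_erase hQ₁)) ?_
          exact Finset.single_le_sum (f := fun Q : {x // x ∈ t} => d Q.1 (Finset.mem_of_mem_erase Q.2))
            (fun _ _ => Nat.zero_le _) (Finset.mem_attach t ⟨Q₁, hQ₁⟩)
        have hvmem : v ∈ 𝒜 e :=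
          SetLike.prod_mem_graded 𝒜 _ _ (fun Q _ => hx Q.1 (Finset.mem_of_mem_erase Q.2))
        have humem : u ∈ 𝒜 d₀ := hx Q₀ hQ₀
        have huQ₀ : u ∈ Q₀ := hgood Q₀ hQ₀
        have huP : ∀ P ∈ t, u ∉ P := havoid Q₀ hQ₀
        have hvP : ∀ P ∈ t, v ∈ P := by
          intro P hP
          have hdvd : x P (Finset.mem_of_mem_erase hP) ∣ v :=
            Finset.dvd_prod_of_mem (fun Q : {x // x ∈ t} => x Q.1 (Finset.mem_of_mem_erase Q.2))
              (Finset.mem_attach t ⟨P, hP⟩)
          obtain ⟨c, hc⟩ := hdvd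
          rw [hc]
          exact Ideal.mul_mem_right _ _ (hgood P (Finset.mem_of_mem_erase hP))
        have hvQ₀ : v ∉ Q₀ := by
          intro hmem
          obtain ⟨Q, -, hQmem⟩ := (Ideal.IsPrime.prod_mem_iff (hp := hprime Q₀ hQ₀)).1 hmem
          have hQs : Q.1 ∈ s := Finset.mem_of_mem_erase Q.2
          have hne : Q₀ ≠ Q.1 := by
            intro h
            have h2 : Q.1 ∈ t := Q.2
            rw [← h] at h2
            exact Finset.notMem_erase Q₀ s h2
          exact havoid Q.1 hQs Q₀ (Finset.mem_erase.2 ⟨hne, hQ₀⟩) hQmem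
        refine ⟨d₀ * e, Nat.mul_pos (hd Q₀ hQ₀) hepos, u ^ e + v ^ d₀, ?_, ?_⟩
        · refine Submodule.add_mem _ ?_ ?_
          · have := SetLike.pow_mem_graded e humem
            rwa [smul_eq_mul, mul_comm] at this
          · have := SetLike.pow_mem_graded d₀ hvmem
            rwa [smul_eq_mul] at this
        · intro P hP
          by_cases hPQ : P = Q₀
          · subst hPQ
            intro hmem
            have h1 : v ^ d₀ ∈ P := by
              have := P.sub_mem hmem (P.pow_mem_of_mem huQ₀ e hepos)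
              rwa [add_sub_cancel_left] at this
            exact hvQ₀ ((hprime P hP).mem_of_pow_mem _ h1)
          · have hPt : P ∈ t := Finset.mem_erase.2 ⟨hPQ, hP⟩
            intro hmem
            have h1 : u ^ e ∈ P := by
              have := P.sub_mem hmem (P.pow_mem_of_mem (hvP P hPt) d₀ (hd Q₀ hQ₀))
              rwa [add_sub_cancel_right] at this
            exact huP P hPt ((hprime P hP).mem_of_pow_mem _ h1)

end Groth.Agent.Lib.Helper22.GrNN
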