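import Mathlib
import Groth.Agent.Lib.Helper4.LC3
import Groth.Agent.Lib.Helper4.FiniteExt
import Groth.Agent.Lib.Helper7.GrSyzIrrel
import Groth.Agent.Lib.Helper22.Liaison4

/-!
# Depth of Cohen–Macaulay quotients along a prime, and local cohomology of basic double links
(helper22)
-/

set_option autoImplicit false
set_option maxHeartbeats 800000

universe u

open CategoryTheory Abelian MvPolynomial

namespace Groth.Agent.Lib.Helper22.Liaison

open Groth.Agent.Lib.Helper22.CMG Groth.Agent.Lib.Helper4 Groth.Agent.Lib.Helper4.LC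

section Depth

variable {R : Type u} [CommRing R]

/-- `(R/I)/x(R/I) ≃ R/(I + (x))`, over an arbitrary commutative ring. -/
noncomputable def quotSMulTopQuotEquiv' (I : Ideal R) (x : R) :
    QuotSMulTop x (R ⧸ I) ≃ₗ[R] R ⧸ (I ⊔ Ideal.span {x}) :=
  (quotSMulTopEquivSpan (R := R) (M := R ⧸ I) x) ≪≫ₗ
    (Submodule.quotEquivOfEq _ _ (by
      have h1 : (⊤ : Submodule R (R ⧸ I)) = Submodule.map (Submodule.mkQ I) ⊤ := by
        rw [Submodule.map_top, Submodule.range_mkQ]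
      rw [h1, ← Submodule.map_smul'']
      congr 1
      exact Ideal.mul_top _)) ≪≫ₗ
    (Submodule.quotientQuotientEquivQuotientSup I (Ideal.span {x}))

variable [IsNoetherianRing R]

lemma smul_top_ne_top_quot (𝔪 𝔞 : Ideal R) [𝔪.IsPrime] (h : 𝔞 ≤ 𝔪) :
    𝔪 • (⊤ : Submodule R (R ⧸ 𝔞)) ≠ ⊤ := by
  intro htop
  have h1 : (Ideal.Quotient.mk 𝔞 1 : R ⧸ 𝔞) ∈ 𝔪 • (⊤ : Submodule R (R ⧸ 𝔞)) := by
    rw [htop]; exact Submodule.mem_top
  have h2 : 𝔪 • (⊤ : Submodule R (R ⧸ 𝔞)) ≤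
      (𝔪.map (Ideal.Quotient.mk 𝔞)).restrictScalars R := by
    rw [Submodule.smul_le]
    intro r hr m _
    change r • m ∈ 𝔪.map (Ideal.Quotient.mk 𝔞)
    rw [Algebra.smul_def]
    exact Ideal.mul_mem_right _ _ (Ideal.mem_map_of_mem _ hr)
  have h3 : (Ideal.Quotient.mk 𝔞 1 : R ⧸ 𝔞) ∈ 𝔪.map (Ideal.Quotient.mk 𝔞) := h2 h1
  haveI := map_mk_isPrime 𝔞 𝔪 h
  rw [map_one] at h3
  exact (Ideal.ne_top_iff_one _).1 (Ideal.IsPrime.ne_top') h3

/-- the height of the image of `𝔪` drops by at most one modulo one more element of `𝔪`. -/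
lemma height_map_sup_span (𝔪 𝔞 : Ideal R) [𝔪.IsPrime] (h : 𝔞 ≤ 𝔪) (x : R) (hx : x ∈ 𝔪) :
    (𝔪.map (Ideal.Quotient.mk 𝔞)).height ≤
      (𝔪.map (Ideal.Quotient.mk (𝔞 ⊔ Ideal.span {x}))).height + 1 := by
  haveI := map_mk_isPrime 𝔞 𝔪 h
  have h2 := Ideal.height_le_height_add_one_of_mem (p := 𝔪.map (Ideal.Quotient.mk 𝔞))
    (r := Ideal.Quotient.mk 𝔞 x) (Ideal.mem_map_of_mem _ hx)
  refine h2.trans (add_le_add_left ?_ 1)
  have hsp : (Ideal.span {x}).map (Ideal.Quotient.mk 𝔞) = Ideal.span {Ideal.Quotient.mk 𝔞 x} := by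
    rw [Ideal.map_span, Set.image_singleton]
  let e : ((R ⧸ 𝔞) ⧸ Ideal.span {Ideal.Quotient.mk 𝔞 x}) ≃+* R ⧸ (𝔞 ⊔ Ideal.span {x}) :=
    (Ideal.quotEquivOfEq hsp.symm).trans (DoubleQuot.quotQuotEquivQuotSup 𝔞 (Ideal.span {x}))
  rw [← RingEquiv.height_map e]
  apply le_of_eq
  congr 1
  rw [Ideal.map_map]
  change Ideal.map (e.toRingHom) _ = _
  rw [Ideal.map_map]
  congr 1

/-- **depth of a Cohen–Macaulay quotient along a prime is at least the height.** -/
theorem le_idealDepth_of_cm (𝔪 : Ideal R) [𝔪.IsPrime] :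
    ∀ (k : ℕ) (𝔞 : Ideal R) [LocCoh.IsCohenMacaulayRing (R ⧸ 𝔞)], 𝔞 ≤ 𝔪 →
      (k : ℕ∞) ≤ (𝔪.map (Ideal.Quotient.mk 𝔞)).height →
      (k : ℕ∞) ≤ LocCoh.idealDepth 𝔪 (R ⧸ 𝔞) := by
  intro k
  induction k with
  | zero => intro 𝔞 _ _ _; simp
  | succ k ih =>
    intro 𝔞 _ h𝔞 hk
    haveI hprime := map_mk_isPrime 𝔞 𝔪 h𝔞
    have hIM := smul_top_ne_top_quot 𝔪 𝔞 h𝔞
    have h1 : 1 ≤ LocCoh.idealDepth 𝔪 (R ⧸ 𝔞) := by
      rw [Order.one_le_iff_pos, pos_iff_ne_zero]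
      intro h0
      obtain ⟨p, hp, hle⟩ := (idealDepth_eq_zero_iff_exists_le_associatedPrime 𝔪 hIM).1 h0
      have hpmin : p ∈ 𝔞.minimalPrimes := ass_subset_minimalPrimes_quot 𝔞 hp
      have h𝔪p : 𝔪 = p := le_antisymm hle (hpmin.2 ⟨inferInstance, h𝔞⟩ hle)
      have h0' : (𝔪.map (Ideal.Quotient.mk 𝔞)).height = 0 := by
        rw [Ideal.height_eq_zero_iff]
        rw [Ideal.minimalPrimes_eq_comap] at hpmin
        obtain ⟨q, hq, rfl⟩ := hpmin
        rw [h𝔪p, Ideal.map_comap_of_surjective _ Ideal.Quotient.mk_surjective]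
        exact hq
      rw [h0'] at hk
      simp at hk
    obtain ⟨x, hx𝔪, hxreg⟩ := (one_le_idealDepth_iff 𝔪 hIM).1 h1
    have hreg' : ∀ a, x * a ∈ 𝔞 → a ∈ 𝔞 := by
      intro a ha
      rw [← Ideal.Quotient.eq_zero_iff_mem]
      apply hxreg
      change x • (Ideal.Quotient.mk 𝔞 a : R ⧸ 𝔞) = x • (0 : R ⧸ 𝔞)
      rw [smul_zero]
      exact Ideal.Quotient.eq_zero_iff_mem.2 ha
    haveI := isCMRing_sup_span 𝔞 x hreg'
    have h𝔞' : 𝔞 ⊔ Ideal.span {x} ≤ 𝔪 :=
      sup_le h𝔞 ((Ideal.span_singleton_le_iff_mem _).2 hx𝔪)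
    have hht : (k : ℕ∞) ≤ (𝔪.map (Ideal.Quotient.mk (𝔞 ⊔ Ideal.span {x}))).height := by
      have h2 := hk.trans (height_map_sup_span 𝔪 𝔞 h𝔞 x hx𝔪)
      push_cast at h2
      exact (ENat.add_le_add_iff_right (by simp)).1 h2
    have h3 := ih (𝔞 ⊔ Ideal.span {x}) h𝔞' hht
    rw [← idealDepth_quotSMulTop_add_one 𝔪 x hx𝔪 hxreg,
      idealDepth_congr 𝔪 (quotSMulTopQuotEquiv' 𝔞 x)]
    push_cast
    exact add_le_add_left h3 1

end Depth

section Poly

variable {K : Type u} [Field K] {n : ℕ}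

/-- the height of the irrelevant ideal modulo a homogeneous Cohen–Macaulay ideal of height `h`. -/
theorem le_height_map_irr (J : Ideal (MvPolynomial (Fin (n + 1)) K))
    (hJ : J.IsHomogeneous (GrSyz.stdGr K (Fin (n + 1))))
    [LocCoh.IsCohenMacaulayRing (MvPolynomial (Fin (n + 1)) K ⧸ J)] (h : ℕ) (hJh : J.height = h) :
    ((n + 1 - h : ℕ) : ℕ∞) ≤ ((irr K n).map (Ideal.Quotient.mk J)).height := by
  have hJne : J ≠ ⊤ := by
    intro h'
    rw [h', Ideal.height_top] at hJh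
    exact ENat.top_ne_coe _ hJh
  obtain ⟨P, hP⟩ := Ideal.nonempty_minimalPrimes hJne
  haveI hPp : P.IsPrime := hP.1.1
  have hPh : P.height = h := (height_eq_of_mem_minimalPrimes J hJ P hP).trans hJh
  have hPhom := isHomogeneous_of_mem_minimalPrimes hJ hP
  have h1 := dim_quot_le_height J P hPhom hP.1.2
  have hdimR : ringKrullDim (MvPolynomial (Fin (n + 1)) K) = ((n + 1 : ℕ) : WithBot ℕ∞) := by
    rw [MvPolynomial.ringKrullDim_of_isNoetherianRing, ringKrullDim_eq_zero_of_field]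
    simp
  rw [Groth.Agent.Lib.Helper12.DimFT.ringKrullDim_quotient_eq_coheight
    (⟨P, hPp⟩ : PrimeSpectrum (MvPolynomial (Fin (n + 1)) K))] at h1
  have a1 := Groth.Agent.Lib.Helper12.DimFT2.height_add_coheight' K
    (MvPolynomial (Fin (n + 1)) K) (n + 1) hdimR ⟨P, hPp⟩
  rw [← PrimeSpectrum.height_eq_orderHeight] at a1
  simp only at a1
  rw [hPh] at a1
  have h2 : Order.coheight (⟨P, hPp⟩ : PrimeSpectrum (MvPolynomial (Fin (n + 1)) K)) ≤
      ((irr K n).map (Ideal.Quotient.mk J)).height := by exact_mod_cast h1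
  refine le_trans ?_ h2
  generalize Order.coheight (⟨P, hPp⟩ : PrimeSpectrum (MvPolynomial (Fin (n + 1)) K)) = y at a1
  induction y using ENat.recTopCoe with
  | top => exact le_top
  | coe m =>
    have : h + m = n + 1 := by exact_mod_cast a1
    exact_mod_cast (by omega : n + 1 - h ≤ m)

lemma irrel_eq_irr : (GrSyz.irrel (GrSyz.stdGr K (Fin (n + 1)))).toIdeal = irr K n :=
  Groth.Agent.Lib.Helper7.irrel_stdGr_eq_ker K (Fin (n + 1))

/-- depth of a homogeneous Cohen–Macaulay quotient along the irrelevant ideal. -/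
theorem le_idealDepth_irr (J : Ideal (MvPolynomial (Fin (n + 1)) K))
    (hJ : J.IsHomogeneous (GrSyz.stdGr K (Fin (n + 1))))
    [LocCoh.IsCohenMacaulayRing (MvPolynomial (Fin (n + 1)) K ⧸ J)] (h : ℕ) (hJh : J.height = h) :
    ((n + 1 - h : ℕ) : ℕ∞) ≤ LocCoh.idealDepth (irr K n) (MvPolynomial (Fin (n + 1)) K ⧸ J) := by
  have hJne : J ≠ ⊤ := by
    intro h'
    rw [h', Ideal.height_top] at hJh
    exact ENat.top_ne_coe _ hJh
  haveI : (irr K n).IsPrime := (irr_isMaximal K n).isPrime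
  exact le_idealDepth_of_cm (irr K n) _ J (le_irr hJ hJne) (le_height_map_irr J hJ h hJh)

/-- local cohomology of `R/(J + (f))` vanishes below `n - h`. -/
theorem subsingleton_HH_sup_span (J : Ideal (MvPolynomial (Fin (n + 1)) K))
    (hJ : J.IsHomogeneous (GrSyz.stdGr K (Fin (n + 1))))
    [LocCoh.IsCohenMacaulayRing (MvPolynomial (Fin (n + 1)) K ⧸ J)] (h : ℕ) (hJh : J.height = h)
    (f : MvPolynomial (Fin (n + 1)) K) (d : ℤ) (hf : f ∈ GrSyz.stdGr K (Fin (n + 1)) d)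
    (hJf : J.colon {f} = J) (i : ℕ) (hi : i + h < n) :
    Subsingleton (HH (irr K n)
      (ModuleCat.of (MvPolynomial (Fin (n + 1)) K)
        (MvPolynomial (Fin (n + 1)) K ⧸ (J ⊔ Ideal.span {f}))) i) := by
  by_cases htop : J ⊔ Ideal.span {f} = ⊤
  · haveI : Subsingleton (MvPolynomial (Fin (n + 1)) K ⧸ (J ⊔ Ideal.span {f})) := by
      rw [htop]
      exact Ideal.Quotient.subsingleton_iff.2 rfl
    exact HH.subsingleton_of_subsingleton _ _ i
  · have hhom : (J ⊔ Ideal.span {f}).IsHomogeneous (GrSyz.stdGr K (Fin (n + 1))) := by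
      refine hJ.sup ?_
      apply Ideal.homogeneous_span
      rintro x hx
      rw [Set.mem_singleton_iff] at hx
      subst hx
      exact ⟨d, hf⟩
    have hle := le_irr hhom htop
    have hfm : f ∈ irr K n := hle (Ideal.mem_sup_right (Ideal.mem_span_singleton_self f))
    have hreg : IsSMulRegular (MvPolynomial (Fin (n + 1)) K ⧸ J) f := by
      intro a b hab
      obtain ⟨a, rfl⟩ := Ideal.Quotient.mk_surjective a
      obtain ⟨b, rfl⟩ := Ideal.Quotient.mk_surjective b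
      have h1 : f * (a - b) ∈ J := by
        rw [← Ideal.Quotient.eq_zero_iff_mem, mul_sub, map_sub, sub_eq_zero]
        exact hab
      have h2 : a - b ∈ J.colon {f} := by
        rw [Submodule.mem_colon_singleton, smul_eq_mul, mul_comm]
        exact h1
      rw [hJf] at h2
      rw [← sub_eq_zero, ← map_sub]
      exact Ideal.Quotient.eq_zero_iff_mem.2 h2
    have h1 := le_idealDepth_irr J hJ h hJh
    rw [← idealDepth_quotSMulTop_add_one (irr K n) f hfm hreg,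
      idealDepth_congr (irr K n) (quotSMulTopQuotEquiv' J f)] at h1
    apply HH.subsingleton_of_lt_idealDepth
    have h2 : ((i + 1 + 1 : ℕ) : ℕ∞) ≤ ((n + 1 - h : ℕ) : ℕ∞) := by
      exact_mod_cast (by omega : i + 1 + 1 ≤ n + 1 - h)
    have h3 := h2.trans h1
    push_cast at h3
    have h4 := (ENat.add_le_add_iff_right (by simp)).1 h3
    exact lt_of_lt_of_le (by exact_mod_cast Nat.lt_succ_self i) h4

end Poly

end Groth.Agent.Lib.Helper22.Liaison
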