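import Mathlib
import Groth.Agent.Lib.Helper22.GrNN1
import Groth.Agent.Lib.Helper22.Liaison6

/-!
# Graded Noether normalization II: homogeneous systems of parameters (helper22)
-/

set_option autoImplicit false
set_option maxHeartbeats 800000

universe u

open DirectSum

namespace Groth.Agent.Lib.Helper22.GrNN

variable {k : Type u} [Field k] {R : Type u} [CommRing R] [Algebra k R]
  (𝒜 : ℕ → Submodule k R) [GradedAlgebra 𝒜]

lemma dim_quot_congr {I J : Ideal R} (h : I = J) :
    ringKrullDim (R ⧸ I) = ringKrullDim (R ⧸ J) := by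
  subst h; rfl

lemma withBot_le_of_add_one_le (a : WithBot ℕ∞) (d : ℕ) (h : a + 1 ≤ ((d + 1 : ℕ) : WithBot ℕ∞)) :
    a ≤ (d : WithBot ℕ∞) := by
  induction a using WithBot.recBotCoe with
  | bot => exact bot_le
  | coe a =>
    have h1 : ((a + 1 : ℕ∞) : WithBot ℕ∞) ≤ (((d + 1 : ℕ) : ℕ∞) : WithBot ℕ∞) := by
      exact_mod_cast h
    rw [WithBot.coe_le_coe] at h1
    push_cast at h1
    have := (ENat.add_le_add_iff_right (by simp)).1 h1
    exact_mod_cast this

/-- minimal primes over a homogeneous ideal are homogeneous. -/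
lemma isHomogeneous_of_mem_minimalPrimes {J : Ideal R} (hJ : J.IsHomogeneous 𝒜) {P : Ideal R}
    (hP : P ∈ J.minimalPrimes) : P.IsHomogeneous 𝒜 := by
  have hPp : P.IsPrime := hP.1.1
  have hcore : (P.homogeneousCore 𝒜).toIdeal.IsPrime := Ideal.IsPrime.homogeneousCore hPp
  have hle : J ≤ (P.homogeneousCore 𝒜).toIdeal :=
    hJ.toIdeal_homogeneousCore_eq_self.symm.trans_le (Ideal.homogeneousCore_mono _ hP.1.2)
  have h1 := hP.2 ⟨hcore, hle⟩ (Ideal.toIdeal_homogeneousCore_le _ P)
  have heq : (P.homogeneousCore 𝒜).toIdeal = P :=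
    le_antisymm (Ideal.toIdeal_homogeneousCore_le _ P) h1
  rw [← heq]
  exact (P.homogeneousCore 𝒜).isHomogeneous

variable [IsNoetherianRing R] [Nontrivial R]

/-- if some minimal prime over a homogeneous ideal contains the irrelevant ideal, the quotient has
dimension at most zero. -/
lemma dim_quot_le_zero_of_irrelevant_le (h0 : ∀ a ∈ 𝒜 0, ∃ c : k, algebraMap k R c = a)
    {J : Ideal R} (hJ : J.IsHomogeneous 𝒜) {P : Ideal R} (hP : P ∈ J.minimalPrimes)
    (hle : (HomogeneousIdeal.irrelevant 𝒜).toIdeal ≤ P) : ringKrullDim (R ⧸ J) ≤ 0 := by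
  have hmax := GrDim.irrelevant_isMaximal 𝒜 h0
  haveI : P.IsPrime := hP.1.1
  have hPeq : P = (HomogeneousIdeal.irrelevant 𝒜).toIdeal :=
    (hmax.eq_of_le Ideal.IsPrime.ne_top' hle).symm
  have hall : ∀ P' ∈ J.minimalPrimes, P'.IsMaximal := by
    intro P' hP'
    haveI : P'.IsPrime := hP'.1.1
    have h1 : P' ≤ (HomogeneousIdeal.irrelevant 𝒜).toIdeal :=
      GrDim.le_irrelevant 𝒜 h0 P' (isHomogeneous_of_mem_minimalPrimes 𝒜 hJ hP')
        Ideal.IsPrime.ne_top'
    rw [← hPeq] at h1
    have h2 : P ≤ P' := hP.2 hP'.1 h1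
    have : P' = P := le_antisymm h1 h2
    rw [this, hPeq]
    exact hmax
  have := (Ideal.krullDimLE_zero_quotient_iff_forall_minimalPrimes_isMaximal (I := J)).2 hall
  have h2 := (Ring.krullDimLE_iff (n := 0) (R := R ⧸ J)).1 this
  exact_mod_cast h2

/-- **existence of homogeneous parameters**: killing `d` homogeneous elements of positive degree
makes a quotient of dimension `≤ d` zero-dimensional. -/
theorem exists_homogeneous_parameters (h0 : ∀ a ∈ 𝒜 0, ∃ c : k, algebraMap k R c = a) :
    ∀ (d : ℕ) (J : Ideal R), J.IsHomogeneous 𝒜 → ringKrullDim (R ⧸ J) ≤ d →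
      ∃ x : Fin d → R, (∀ i, ∃ n : ℕ, 0 < n ∧ x i ∈ 𝒜 n) ∧
        ringKrullDim (R ⧸ (J ⊔ Ideal.span (Set.range x))) ≤ 0 := by
  classical
  intro d
  induction d with
  | zero =>
    intro J _ hd
    refine ⟨Fin.elim0, fun i => i.elim0, ?_⟩
    have : J ⊔ Ideal.span (Set.range (Fin.elim0 : Fin 0 → R)) = J := by
      rw [Set.range_eq_empty, Ideal.span_empty, sup_bot_eq]
    rw [dim_quot_congr this]
    exact_mod_cast hd
  | succ d ih =>
    intro J hJ hd
    by_cases hz : ringKrullDim (R ⧸ J) ≤ 0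
    · refine ⟨fun _ => 0, fun _ => ⟨1, one_pos, Submodule.zero_mem _⟩, ?_⟩
      have : J ⊔ Ideal.span (Set.range (fun _ : Fin (d + 1) => (0 : R))) = J := by
        rw [Set.range_const, Ideal.span_singleton_eq_bot.2 rfl, sup_bot_eq]
      rw [dim_quot_congr this]
      exact hz
    · have hfin : J.minimalPrimes.Finite := Ideal.finite_minimalPrimes_of_isNoetherianRing R J
      have hirr : ∀ P ∈ hfin.toFinset, ¬ (HomogeneousIdeal.irrelevant 𝒜).toIdeal ≤ P := by
        intro P hP hle
        rw [Set.Finite.mem_toFinset] at hP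
        exact hz (dim_quot_le_zero_of_irrelevant_le 𝒜 h0 hJ hP hle)
      obtain ⟨n₀, hn₀, x₀, hx₀, havoid⟩ := exists_homogeneous_notMem 𝒜 _ hfin.toFinset rfl
        (fun P hP => ((Set.Finite.mem_toFinset hfin).1 hP).1.1) hirr
      have hJ' : (J ⊔ Ideal.span {x₀}).IsHomogeneous 𝒜 := by
        refine hJ.sup ?_
        apply Ideal.homogeneous_span
        rintro y hy
        rw [Set.mem_singleton_iff] at hy
        subst hy
        exact ⟨n₀, hx₀⟩
      have hdim : ringKrullDim (R ⧸ (J ⊔ Ideal.span {x₀})) + 1 ≤ ringKrullDim (R ⧸ J) := by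
        have h1 := Module.supportDim_quotSMulTop_succ_le_of_notMem_minimalPrimes (R := R)
          (M := R ⧸ J) (x := x₀) (by
            intro p hp
            rw [Ideal.annihilator_quotient] at hp
            exact havoid p ((Set.Finite.mem_toFinset hfin).2 hp))
        rw [Module.supportDim_quotient_eq_ringKrullDim,
          Module.supportDim_eq_of_equiv (Liaison.quotSMulTopQuotEquiv' J x₀),
          Module.supportDim_quotient_eq_ringKrullDim] at h1
        exact h1
      have hd' : ringKrullDim (R ⧸ (J ⊔ Ideal.span {x₀})) ≤ d :=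
        withBot_le_of_add_one_le _ d (hdim.trans hd)
      obtain ⟨x', hx', hdim'⟩ := ih (J ⊔ Ideal.span {x₀}) hJ' hd'
      refine ⟨Fin.cons x₀ x', ?_, ?_⟩
      · intro i
        refine Fin.cases ?_ (fun j => ?_) i
        · rw [Fin.cons_zero]; exact ⟨n₀, hn₀, hx₀⟩
        · rw [Fin.cons_succ]; exact hx' j
      · have : J ⊔ Ideal.span (Set.range (Fin.cons x₀ x' : Fin (d + 1) → R)) =
            (J ⊔ Ideal.span {x₀}) ⊔ Ideal.span (Set.range x') := by
          rw [Fin.range_cons, ← Set.singleton_union, Ideal.span_union, sup_assoc]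
        rw [dim_quot_congr this]
        exact hdim'

end Groth.Agent.Lib.Helper22.GrNN
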