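import Mathlib
import Groth.Agent.Lib.Helper22.GrNN2

/-!
# Graded Noether normalization III: finiteness over the parameter subalgebra (helper22)
-/

set_option autoImplicit false
set_option maxHeartbeats 800000

universe u

open DirectSum

namespace Groth.Agent.Lib.Helper22.GrNN

variable {k : Type u} [Field k] {R : Type u} [CommRing R] [Algebra k R]
  (𝒜 : ℕ → Submodule k R) [GradedAlgebra 𝒜]

/-- the degree `n` component as a `k`-linear map. -/
noncomputable def projL (n : ℕ) : R →ₗ[k] R :=
  (𝒜 n).subtype.comp ((DirectSum.component k ℕ (fun i => 𝒜 i) n).comp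
    (DirectSum.decomposeLinearEquiv 𝒜).toLinearMap)

lemma projL_apply (n : ℕ) (a : R) : projL 𝒜 n a = (decompose 𝒜 a n : R) := rfl

lemma projL_of_mem {n : ℕ} {a : R} (ha : a ∈ 𝒜 n) : projL 𝒜 n a = a := by
  rw [projL_apply, decompose_of_mem_same 𝒜 ha]

lemma projL_of_mem_ne {n m : ℕ} {a : R} (ha : a ∈ 𝒜 m) (h : m ≠ n) : projL 𝒜 n a = 0 := by
  rw [projL_apply, decompose_of_mem_ne 𝒜 ha h]

lemma projL_mem (n : ℕ) (a : R) : projL 𝒜 n a ∈ 𝒜 n := (decompose 𝒜 a n).2

/-- **graded Nakayama**: if the quotient by homogeneous elements of positive degree is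
finite-dimensional, the ring is finite over the subalgebra they generate. -/
theorem finite_of_parameters {d : ℕ} (x : Fin d → R) (n : Fin d → ℕ) (hn : ∀ i, 0 < n i)
    (hx : ∀ i, x i ∈ 𝒜 (n i)) [Module.Finite k (R ⧸ Ideal.span (Set.range x))] :
    Module.Finite (Algebra.adjoin k (Set.range x)) R := by
  classical
  set 𝔞 := Ideal.span (Set.range x) with h𝔞
  set B := Algebra.adjoin k (Set.range x) with hB
  -- a finite spanning set of the quotient, lifted
  obtain ⟨G, hG⟩ := (Module.finite_def (R := k) (M := R ⧸ 𝔞)).1 inferInstance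
  have hlift : ∀ g : R ⧸ 𝔞, ∃ a : R, Ideal.Quotient.mk 𝔞 a = g := Ideal.Quotient.mk_surjective
  choose ℓ hℓ using hlift
  set F : Finset R := G.biUnion (fun g => ((decompose 𝒜 (ℓ g)).support).image
    (fun i => (decompose 𝒜 (ℓ g) i : R))) with hF
  have hFhom : ∀ f ∈ F, ∃ m : ℕ, f ∈ 𝒜 m := by
    intro f hf
    rw [hF, Finset.mem_biUnion] at hf
    obtain ⟨g, -, hf⟩ := hf
    rw [Finset.mem_image] at hf
    obtain ⟨i, -, rfl⟩ := hf
    exact ⟨i, SetLike.coe_mem _⟩
  set W : Submodule k R := Submodule.span k (F : Set R) with hW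
  -- every element is in `W + 𝔞`
  have hWa : ∀ a : R, ∃ w ∈ W, a - w ∈ 𝔞 := by
    intro a
    have hℓW : ∀ g ∈ G, ℓ g ∈ W := by
      intro g hg
      rw [← DirectSum.sum_support_decompose 𝒜 (ℓ g)]
      refine Submodule.sum_mem _ (fun i hi => Submodule.subset_span ?_)
      rw [hF, Finset.coe_biUnion]
      simp only [Set.mem_iUnion, Finset.mem_coe, Finset.mem_image]
      exact ⟨g, hg, i, hi, rfl⟩
    have h1 : (Ideal.Quotient.mk 𝔞 a : R ⧸ 𝔞) ∈ Submodule.span k (G : Set (R ⧸ 𝔞)) := by
      rw [hG]; exact Submodule.mem_top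
    have h2 : Submodule.span k (G : Set (R ⧸ 𝔞)) ≤
        W.map ((Ideal.Quotient.mkₐ k 𝔞).toLinearMap) := by
      rw [Submodule.span_le]
      intro g hg
      exact ⟨ℓ g, hℓW g hg, hℓ g⟩
    obtain ⟨w, hw, hwa⟩ := h2 h1
    refine ⟨w, hw, ?_⟩
    rw [← Ideal.Quotient.eq_zero_iff_mem, map_sub, sub_eq_zero]
    exact hwa.symm
  -- `W` is stable under taking components
  have hWproj : ∀ (m : ℕ) (w : R), w ∈ W → projL 𝒜 m w ∈ W := by
    intro m w hw
    induction hw using Submodule.span_induction with
    | mem f hf =>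
      obtain ⟨m', hm'⟩ := hFhom f hf
      by_cases h : m' = m
      · subst h; rw [projL_of_mem 𝒜 hm']; exact Submodule.subset_span hf
      · rw [projL_of_mem_ne 𝒜 hm' h]; exact Submodule.zero_mem _
    | zero => rw [map_zero]; exact Submodule.zero_mem _
    | add a b _ _ ha hb => rw [map_add]; exact Submodule.add_mem _ ha hb
    | smul c a _ ha => rw [map_smul]; exact Submodule.smul_mem _ _ ha
  set N : Submodule B R := Submodule.span B (F : Set R) with hN
  have hWN : ∀ w ∈ W, w ∈ N := by
    intro w hw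
    induction hw using Submodule.span_induction with
    | mem f hf => exact Submodule.subset_span hf
    | zero => exact Submodule.zero_mem _
    | add a b _ _ ha hb => exact Submodule.add_mem _ ha hb
    | smul c a _ ha =>
      have : c • a = (algebraMap k B c) • a := by
        rw [Algebra.smul_def, Algebra.smul_def]
        rfl
      rw [this]
      exact Submodule.smul_mem _ _ ha
  have hxN : ∀ (i : Fin d) (y : R), y ∈ N → y * x i ∈ N := by
    intro i y hy
    have : y * x i = (⟨x i, Algebra.subset_adjoin (Set.mem_range_self i)⟩ : B) • y := by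
      rw [Subalgebra.smul_def, smul_eq_mul, mul_comm]
    rw [this]
    exact Submodule.smul_mem _ _ hy
  -- all homogeneous elements lie in `N`
  have key : ∀ m : ℕ, ∀ a ∈ 𝒜 m, a ∈ N := by
    intro m
    induction m using Nat.strong_induction_on with
    | _ m ih =>
      intro a ha
      obtain ⟨w, hw, hz⟩ := hWa a
      obtain ⟨c, hc⟩ := (Ideal.mem_span_range_iff_exists_fun (R := R)).1 hz
      have h1 : a = projL 𝒜 m w + ∑ i, projL 𝒜 m (c i * x i) := by
        have h2 : a = w + ∑ i, c i * x i := by rw [hc]; ring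
        have h3 := congrArg (projL 𝒜 m) h2
        rw [projL_of_mem 𝒜 ha, map_add, map_sum] at h3
        exact h3
      rw [h1]
      refine Submodule.add_mem _ (hWN _ (hWproj m w hw)) (Submodule.sum_mem _ (fun i _ => ?_))
      rw [projL_apply]
      by_cases hle : n i ≤ m
      · rw [DirectSum.coe_decompose_mul_of_right_mem_of_le 𝒜 (hx i) hle]
        refine hxN i _ (ih (m - n i) ?_ _ (SetLike.coe_mem _))
        have := hn i
        omega
      · rw [DirectSum.coe_decompose_mul_of_right_mem_of_not_le 𝒜 (hx i) hle]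
        exact Submodule.zero_mem _
  refine Module.finite_def.2 ⟨F, ?_⟩
  rw [eq_top_iff]
  intro a _
  change a ∈ N
  rw [← DirectSum.sum_support_decompose 𝒜 a]
  exact Submodule.sum_mem _ (fun i _ => key i _ (SetLike.coe_mem _))

end Groth.Agent.Lib.Helper22.GrNN
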