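import Mathlib
import Groth.Agent.Lib.Helper22.GrNN3
import Groth.Agent.Lib.Helper12.IntegralDim

/-!
# Graded Noether normalization IV: algebraic independence and the main statement (helper22)
-/

set_option autoImplicit false
set_option maxHeartbeats 800000

universe u

open DirectSum

namespace Groth.Agent.Lib.Helper22.GrNN

variable {k : Type u} [Field k] {R : Type u} [CommRing R] [Algebra k R]

/-- if `R` of dimension `r` is integral over the subalgebra generated by `r` elements, these are
algebraically independent. -/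
theorem algebraicIndependent_of_isIntegral {r : ℕ} (x : Fin r → R)
    [Algebra.IsIntegral (Algebra.adjoin k (Set.range x)) R] (hdim : ringKrullDim R = r) :
    AlgebraicIndependent k x := by
  rw [algebraicIndependent_iff_injective_aeval, injective_iff_map_eq_zero]
  intro p hp
  by_contra hp0
  set B := Algebra.adjoin k (Set.range x) with hB
  have h1 : ringKrullDim R ≤ ringKrullDim B :=
    Groth.Agent.Lib.Helper12.ringKrullDim_le_of_isIntegral
  have hmemB : ∀ q : MvPolynomial (Fin r) k, MvPolynomial.aeval x q ∈ B := by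
    intro q
    rw [hB, Algebra.adjoin_range_eq_range_aeval]
    exact ⟨q, rfl⟩
  let φ : MvPolynomial (Fin r) k →ₐ[k] B := (MvPolynomial.aeval x).codRestrict B hmemB
  have hφsurj : Function.Surjective φ := by
    rintro ⟨b, hb⟩
    rw [hB, Algebra.adjoin_range_eq_range_aeval] at hb
    obtain ⟨q, rfl⟩ := hb
    exact ⟨q, rfl⟩
  have hφp : φ p = 0 := Subtype.ext hp
  let ψ : (MvPolynomial (Fin r) k ⧸ Ideal.span {p}) →+* B :=
    Ideal.Quotient.lift (Ideal.span {p}) φ.toRingHom (by
      intro a ha
      obtain ⟨c, rfl⟩ := Ideal.mem_span_singleton'.1 ha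
      change φ (c * p) = 0
      rw [map_mul, hφp, mul_zero])
  have hψsurj : Function.Surjective ψ := by
    intro b
    obtain ⟨q, rfl⟩ := hφsurj b
    exact ⟨Ideal.Quotient.mk _ q, rfl⟩
  have h2 : ringKrullDim B ≤ ringKrullDim (MvPolynomial (Fin r) k ⧸ Ideal.span {p}) :=
    ringKrullDim_le_of_surjective ψ hψsurj
  have h3 := ringKrullDim_quotient_succ_le_of_nonZeroDivisor
    (mem_nonZeroDivisors_of_ne_zero hp0)
  rw [Groth.Agent.Lib.Helper12.ringKrullDim_mvPolynomial_field] at h3
  have h4 : ringKrullDim R + 1 ≤ (r : WithBot ℕ∞) := le_trans (by gcongr; exact h1.trans h2) h3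
  rw [hdim] at h4
  have h5 : ((r + 1 : ℕ) : WithBot ℕ∞) ≤ ((r : ℕ) : WithBot ℕ∞) := by exact_mod_cast h4
  have h6 : (r + 1 : ℕ) ≤ r := by exact_mod_cast h5
  omega

variable (𝒜 : ℕ → Submodule k R) [GradedAlgebra 𝒜]

/-- **graded Noether normalization**, with parameters of equal (prescribable) degree. -/
theorem exists_parameters (h0 : ∀ a ∈ 𝒜 0, ∃ c : k, algebraMap k R c = a)
    [Algebra.FiniteType k R] (r : ℕ) (hdim : ringKrullDim R = r) :
    ∃ D : ℕ, 0 < D ∧ ∀ m : ℕ, 0 < m → ∃ x : Fin r → R, (∀ i, x i ∈ 𝒜 (m * D)) ∧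
      AlgebraicIndependent k x ∧ Algebra.IsIntegral (Algebra.adjoin k (Set.range x)) R := by
  classical
  haveI : IsNoetherianRing R := Algebra.FiniteType.isNoetherianRing k R
  haveI : Nontrivial R := by
    by_contra hR
    rw [not_nontrivial_iff_subsingleton] at hR
    rw [ringKrullDim_eq_bot_of_subsingleton] at hdim
    exact absurd hdim (by simp)
  have hbot : ringKrullDim (R ⧸ (⊥ : Ideal R)) ≤ r := by
    rw [ringKrullDim_eq_of_ringEquiv (RingEquiv.quotientBot R), hdim]
  obtain ⟨x₀, hx₀, hdim₀⟩ := exists_homogeneous_parameters 𝒜 h0 r ⊥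
    (Ideal.IsHomogeneous.bot 𝒜) hbot
  choose n hn hxn using hx₀
  refine ⟨∏ i, n i, Finset.prod_pos (fun i _ => hn i), fun m hm => ?_⟩
  set D := ∏ i, n i with hD
  have hdvd : ∀ i, n i ∣ D := fun i => Finset.dvd_prod_of_mem n (Finset.mem_univ i)
  set e : Fin r → ℕ := fun i => m * (D / n i) with he
  have hepos : ∀ i, 0 < e i := by
    intro i
    refine Nat.mul_pos hm (Nat.div_pos (Nat.le_of_dvd (Finset.prod_pos (fun i _ => hn i)) (hdvd i))
      (hn i))
  set x : Fin r → R := fun i => x₀ i ^ e i with hx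
  have hxmem : ∀ i, x i ∈ 𝒜 (m * D) := by
    intro i
    have := SetLike.pow_mem_graded (e i) (hxn i)
    rw [smul_eq_mul, he] at this
    simp only at this
    rwa [mul_assoc, Nat.div_mul_cancel (hdvd i)] at this
  -- the quotient by the powers is still zero-dimensional
  have hrad : (Ideal.span (Set.range x)).radical = (Ideal.span (Set.range x₀)).radical := by
    apply le_antisymm
    · apply Ideal.radical_mono
      rw [Ideal.span_le]
      rintro _ ⟨i, rfl⟩
      exact Ideal.pow_mem_of_mem _ (Ideal.subset_span (Set.mem_range_self i)) _ (hepos i)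
    · rw [Ideal.radical_le_radical_iff, Ideal.span_le]
      rintro _ ⟨i, rfl⟩
      exact ⟨e i, Ideal.subset_span ⟨i, rfl⟩⟩
  have hdimx : Ring.KrullDimLE 0 (R ⧸ Ideal.span (Set.range x)) := by
    rw [Ideal.krullDimLE_zero_quotient_iff_forall_minimalPrimes_isMaximal,
      ← Ideal.radical_minimalPrimes, hrad, Ideal.radical_minimalPrimes,
      ← Ideal.krullDimLE_zero_quotient_iff_forall_minimalPrimes_isMaximal,
      Ring.krullDimLE_iff]
    have : (⊥ : Ideal R) ⊔ Ideal.span (Set.range x₀) = Ideal.span (Set.range x₀) := bot_sup_eq _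
    rw [dim_quot_congr this] at hdim₀
    exact_mod_cast hdim₀
  haveI : Algebra.FiniteType k (R ⧸ Ideal.span (Set.range x)) :=
    Algebra.FiniteType.of_surjective (Ideal.Quotient.mkₐ k _) Ideal.Quotient.mk_surjective
  haveI : Module.Finite k (R ⧸ Ideal.span (Set.range x)) :=
    (Module.finite_iff_krullDimLE_zero k _).2 hdimx
  haveI hfin : Module.Finite (Algebra.adjoin k (Set.range x)) R :=
    finite_of_parameters 𝒜 x (fun _ => m * D) (fun _ => Nat.mul_pos hm
      (Finset.prod_pos (fun i _ => hn i))) hxmem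
  haveI hint : Algebra.IsIntegral (Algebra.adjoin k (Set.range x)) R := inferInstance
  exact ⟨x, hxmem, algebraicIndependent_of_isIntegral x hdim, hint⟩

end Groth.Agent.Lib.Helper22.GrNN
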