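import Mathlib
import Groth.Agent.Lib.Helper22.DimTrdeg

/-!
# The Segre product of two polynomial rings has dimension `r + s - 1` (helper22)
-/

set_option autoImplicit false
set_option maxHeartbeats 800000

universe u

open MvPolynomial

namespace Groth.Agent.Lib.Helper22.SegreDim

variable (k : Type u) [Field k] (r s : ℕ)

/-- the polynomial ring in the two groups of variables. -/
abbrev Pol := MvPolynomial (Fin r ⊕ Fin s) k

/-- the generators `xᵢ yⱼ`. -/
noncomputable def gen (p : Fin r × Fin s) : Pol k r s := X (Sum.inl p.1) * X (Sum.inr p.2)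

/-- the Segre subalgebra `k[xᵢ yⱼ]`. -/
noncomputable def segreSub : Subalgebra k (Pol k r s) := Algebra.adjoin k (Set.range (gen k r s))

/-- the weights: `+1` on the `x`, `-1` on the `y`. -/
def wt : Fin r ⊕ Fin s → ℤ := Sum.elim (fun _ => 1) (fun _ => -1)

variable {k r s}

lemma gen_mem (p : Fin r × Fin s) : gen k r s p ∈ segreSub k r s :=
  Algebra.subset_adjoin (Set.mem_range_self p)

lemma isWeightedHomogeneous_of_mem {a : Pol k r s} (ha : a ∈ segreSub k r s) :
    IsWeightedHomogeneous (wt r s) a 0 := by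
  induction ha using Algebra.adjoin_induction with
  | mem x hx =>
    obtain ⟨p, rfl⟩ := hx
    have h1 := isWeightedHomogeneous_X k (wt r s) (Sum.inl p.1)
    have h2 := isWeightedHomogeneous_X k (wt r s) (Sum.inr p.2)
    have := h1.mul h2
    simpa [wt, gen] using this
  | algebraMap c => exact isWeightedHomogeneous_C _ c
  | add x y _ _ hx hy => exact hx.add hy
  | mul x y _ _ hx hy =>
    have := hx.mul hy
    simpa using this

/-- `x₀` is transcendental over the Segre subalgebra. -/
theorem transcendental_X (i₀ : Fin r) :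
    Transcendental (segreSub k r s) (X (Sum.inl i₀) : Pol k r s) := by
  classical
  rw [transcendental_iff]
  intro p hp
  rw [Polynomial.aeval_eq_sum_range] at hp
  have hterm : ∀ m : ℕ, IsWeightedHomogeneous (wt r s)
      (p.coeff m • (X (Sum.inl i₀) : Pol k r s) ^ m) (m : ℤ) := by
    intro m
    have h1 := isWeightedHomogeneous_of_mem (p.coeff m).2
    have h2 : IsWeightedHomogeneous (wt r s) ((X (Sum.inl i₀) : Pol k r s) ^ m) (m • (1 : ℤ)) :=
      (isWeightedHomogeneous_X k (wt r s) (Sum.inl i₀)).pow m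
    have := h1.mul h2
    rw [zero_add, nsmul_eq_mul, mul_one] at this
    rw [Algebra.smul_def]
    exact this
  refine Polynomial.ext (fun m => ?_)
  rw [Polynomial.coeff_zero]
  have h3 := congrArg (weightedHomogeneousComponent (wt r s) (m : ℤ)) hp
  rw [map_sum, map_zero] at h3
  have h4 : ∀ j ∈ Finset.range (p.natDegree + 1),
      weightedHomogeneousComponent (wt r s) (m : ℤ)
        (p.coeff j • (X (Sum.inl i₀) : Pol k r s) ^ j) =
      if j = m then p.coeff m • (X (Sum.inl i₀) : Pol k r s) ^ m else 0 := by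
    intro j _
    rw [weightedHomogeneousComponent_of_mem (hterm j)]
    by_cases hjm : j = m
    · subst hjm; simp
    · rw [if_neg hjm, if_neg]
      exact_mod_cast Ne.symm hjm
  rw [Finset.sum_congr rfl h4, Finset.sum_ite_eq'] at h3
  by_cases hm : m ∈ Finset.range (p.natDegree + 1)
  · rw [if_pos hm, Algebra.smul_def, mul_eq_zero] at h3
    rcases h3 with h3 | h3
    · have h5 : ((p.coeff m : segreSub k r s) : Pol k r s) = 0 := h3
      exact Subtype.ext h5
    · exact absurd h3 (pow_ne_zero _ (X_ne_zero _))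
  · apply Polynomial.coeff_eq_zero_of_natDegree_lt
    rw [Finset.mem_range] at hm
    omega

/-- the subalgebra generated over the Segre subalgebra by `x₀`. -/
noncomputable abbrev E (i₀ : Fin r) : Subalgebra (segreSub k r s) (Pol k r s) :=
  Algebra.adjoin (segreSub k r s) {(X (Sum.inl i₀) : Pol k r s)}

noncomputable instance instCommRingE (i₀ : Fin r) : CommRing (E (k := k) (s := s) i₀) :=
  inferInstance

lemma isAlgebraic_of_linear (i₀ : Fin r) (a b : E (k := k) (s := s) i₀) (ha : a ≠ 0)
    (y : Pol k r s) (h : (a : Pol k r s) * y = b) : IsAlgebraic (E (k := k) (s := s) i₀) y := by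
  refine ⟨Polynomial.C a * Polynomial.X - Polynomial.C b, ?_, ?_⟩
  · intro h0
    have := congrArg (fun q => Polynomial.coeff q 1) h0
    simp at this
    exact ha this
  · rw [map_sub, map_mul, Polynomial.aeval_C, Polynomial.aeval_C, Polynomial.aeval_X]
    change (a : Pol k r s) * y - (b : Pol k r s) = 0
    rw [h, sub_self]

theorem isAlgebraic_E (i₀ : Fin r) (j₀ : Fin s) :
    Algebra.IsAlgebraic (E (k := k) (s := s) i₀) (Pol k r s) := by
  constructor
  set t : E (k := k) (s := s) i₀ := ⟨X (Sum.inl i₀), Algebra.subset_adjoin rfl⟩ with ht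
  have hincl : ∀ a : Pol k r s, a ∈ segreSub k r s → a ∈ E (k := k) (s := s) i₀ := by
    intro a ha
    exact (E (k := k) (s := s) i₀).algebraMap_mem ⟨a, ha⟩
  have hX : ∀ v : Fin r ⊕ Fin s, IsAlgebraic (E (k := k) (s := s) i₀) (X v : Pol k r s) := by
    intro v
    rcases v with i | j
    · -- `xᵢ · (x₀ y₀) = (xᵢ y₀) · x₀`
      refine isAlgebraic_of_linear i₀ ⟨gen k r s (i₀, j₀), hincl _ (gen_mem _)⟩
        (⟨gen k r s (i, j₀), hincl _ (gen_mem _)⟩ * t) ?_ _ ?_
      · intro h0
        have := congrArg Subtype.val h0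
        simp only [gen, ZeroMemClass.coe_zero, mul_eq_zero] at this
        rcases this with h | h <;> exact X_ne_zero _ h
      · change gen k r s (i₀, j₀) * X (Sum.inl i) = gen k r s (i, j₀) * X (Sum.inl i₀)
        simp only [gen]
        ring
    · -- `yⱼ · x₀ = x₀ yⱼ`
      refine isAlgebraic_of_linear i₀ t ⟨gen k r s (i₀, j), hincl _ (gen_mem _)⟩ ?_ _ ?_
      · intro h0
        have := congrArg Subtype.val h0
        exact X_ne_zero _ this
      · change X (Sum.inl i₀) * X (Sum.inr j) = gen k r s (i₀, j)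
        rfl
  intro q
  induction q using MvPolynomial.induction_on with
  | C c =>
    have : (C c : Pol k r s) = algebraMap (E (k := k) (s := s) i₀) (Pol k r s)
        (algebraMap k (E (k := k) (s := s) i₀) c) := rfl
    rw [this]
    exact isAlgebraic_algebraMap _
  | add p q hp hq => exact hp.add hq
  | mul_X p v hp => exact hp.mul (hX v)

theorem trdeg_pol_over_segre (hr : 0 < r) (hs : 0 < s) :
    Algebra.trdeg (segreSub k r s) (Pol k r s) = 1 := by
  set i₀ : Fin r := ⟨0, hr⟩
  set j₀ : Fin s := ⟨0, hs⟩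
  apply le_antisymm
  · haveI := isAlgebraic_E (k := k) i₀ j₀
    have := Algebra.IsAlgebraic.trdeg_le_cardinalMk (segreSub k r s)
      ({(X (Sum.inl i₀) : Pol k r s)} : Set _)
    simpa using this
  · have h1 : AlgebraicIndependent (segreSub k r s)
        (fun _ : PUnit.{u + 1} => (X (Sum.inl i₀) : Pol k r s)) :=
      algebraicIndependent_unique_type_iff.2 (transcendental_X i₀)
    have := h1.cardinalMk_le_trdeg
    simpa using this

instance : Algebra.FiniteType k (segreSub k r s) := by
  rw [← Subalgebra.fg_iff_finiteType]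
  exact Subalgebra.fg_def.2 ⟨_, Set.finite_range _, rfl⟩

/-- **the Segre product of two polynomial rings has dimension `r + s - 1`.** -/
theorem ringKrullDim_segreSub (hr : 0 < r) (hs : 0 < s) :
    ringKrullDim (segreSub k r s) = ((r + s - 1 : ℕ) : WithBot ℕ∞) := by
  apply Groth.Agent.Lib.Helper22.ringKrullDim_eq_of_trdeg (k := k)
  have h1 := trdeg_add_eq k (segreSub k r s) (A := Pol k r s)
  rw [trdeg_pol_over_segre hr hs, MvPolynomial.trdeg_of_isDomain] at h1
  have hfin : Algebra.trdeg k (segreSub k r s) < Cardinal.aleph0 :=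
    trdeg_lt_aleph0_of_finiteType
  obtain ⟨c, hc⟩ := Cardinal.lt_aleph0.1 hfin
  rw [hc] at h1 ⊢
  have h2 : ((c + 1 : ℕ) : Cardinal.{u}) = ((r + s : ℕ) : Cardinal.{u}) := by
    rw [Nat.cast_add, Nat.cast_one, h1]
    simp
  have h3 : c + 1 = r + s := by exact_mod_cast h2
  have : c = r + s - 1 := by omega
  rw [this]

end Groth.Agent.Lib.Helper22.SegreDim
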