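import Mathlib
import Groth.Agent.Lib.Helper22.SegreDim1
import Groth.Agent.Lib.Helper22.GrNN4

/-!
# Dimension of a Segre product: reduction to the polynomial case (part 1)

* `natGr`: the restriction of a `ℤ`-grading concentrated in nonnegative degrees to `ℕ`.
* `monomial_mem`: bi-balanced monomials lie in the Segre subalgebra.
* `isIntegral_of_reynolds`: descent of integrality along a Reynolds operator.
-/

set_option autoImplicit false
universe u
open scoped TensorProduct
open MvPolynomial

namespace Groth.Agent.Lib.Helper22.SegreDim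

section natGr

variable {k : Type u} [Field k] {R : Type u} [CommRing R] [Algebra k R]
  (𝒜 : ℤ → Submodule k R) [GradedAlgebra 𝒜]

/-- restriction of a `ℤ`-grading to `ℕ`. -/
def natGr (n : ℕ) : Submodule k R := 𝒜 (n : ℤ)

instance : SetLike.GradedMonoid (natGr 𝒜) where
  one_mem := by
    change (1 : R) ∈ 𝒜 ((0 : ℕ) : ℤ)
    rw [Nat.cast_zero]
    exact SetLike.GradedOne.one_mem
  mul_mem := fun i j a b ha hb => by
    change a * b ∈ 𝒜 ((i + j : ℕ) : ℤ)
    rw [Nat.cast_add]
    exact SetLike.GradedMul.mul_mem ha hb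

theorem natGr_isInternal (hpos : ∀ n : ℤ, n < 0 → 𝒜 n = ⊥) :
    DirectSum.IsInternal (natGr 𝒜) := by
  rw [DirectSum.isInternal_submodule_iff_iSupIndep_and_iSup_eq_top]
  constructor
  · have h1 : iSupIndep 𝒜 := (DirectSum.Decomposition.isInternal 𝒜).submodule_iSupIndep
    exact h1.comp (f := fun n : ℕ => (n : ℤ)) Nat.cast_injective
  · have h1 : iSup 𝒜 = ⊤ := (DirectSum.Decomposition.isInternal 𝒜).submodule_iSup_eq_top
    rw [eq_top_iff, ← h1]
    refine iSup_le fun n => ?_
    rcases lt_or_ge n 0 with hn | hn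
    · rw [hpos n hn]; exact bot_le
    · obtain ⟨m, rfl⟩ := Int.eq_ofNat_of_zero_le hn
      exact le_iSup (natGr 𝒜) m

/-- the `ℕ`-graded algebra structure. -/
noncomputable def natGrGradedAlgebra (hpos : ∀ n : ℤ, n < 0 → 𝒜 n = ⊥) :
    GradedAlgebra (natGr 𝒜) :=
  letI : DirectSum.Decomposition (natGr 𝒜) := (natGr_isInternal 𝒜 hpos).chooseDecomposition
  { (inferInstance : SetLike.GradedMonoid (natGr 𝒜)) with
    toDecomposition := (natGr_isInternal 𝒜 hpos).chooseDecomposition }

/-- graded Noether normalization for a `ℤ`-graded algebra in nonnegative degrees. -/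
theorem exists_parameters_int (hpos : ∀ n : ℤ, n < 0 → 𝒜 n = ⊥)
    (h0 : 𝒜 0 = Submodule.span k {(1 : R)}) [Algebra.FiniteType k R] (r : ℕ)
    (hdim : ringKrullDim R = r) :
    ∃ D : ℕ, 0 < D ∧ ∀ m : ℕ, 0 < m → ∃ x : Fin r → R, (∀ i, x i ∈ 𝒜 ((m * D : ℕ) : ℤ)) ∧
      AlgebraicIndependent k x ∧ Algebra.IsIntegral (Algebra.adjoin k (Set.range x)) R := by
  letI := natGrGradedAlgebra 𝒜 hpos
  refine GrNN.exists_parameters (natGr 𝒜) ?_ r hdim
  intro a ha
  change a ∈ 𝒜 ((0 : ℕ) : ℤ) at ha
  rw [Nat.cast_zero, h0] at ha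
  obtain ⟨c, rfl⟩ := Submodule.mem_span_singleton.1 ha
  exact ⟨c, Algebra.algebraMap_eq_smul_one c⟩

end natGr

section mono

variable {k : Type u} [Field k] {r s : ℕ}

theorem monomial_mem (n : ℕ) : ∀ d : (Fin r ⊕ Fin s) →₀ ℕ,
    ∑ i, d (Sum.inl i) = n → ∑ j, d (Sum.inr j) = n →
      monomial d (1 : k) ∈ segreSub k r s := by
  classical
  induction n with
  | zero =>
    intro d h1 h2
    have hd : d = 0 := by
      ext v
      cases v with
      | inl i => exact (Finset.sum_eq_zero_iff.1 h1) i (Finset.mem_univ _)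
      | inr j => exact (Finset.sum_eq_zero_iff.1 h2) j (Finset.mem_univ _)
    rw [hd]
    exact one_mem _
  | succ n ih =>
    intro d h1 h2
    obtain ⟨i, hi⟩ : ∃ i, 0 < d (Sum.inl i) := by
      by_contra h
      push Not at h
      have : ∑ i, d (Sum.inl i) = 0 := Finset.sum_eq_zero fun i _ => by simpa using h i
      omega
    obtain ⟨j, hj⟩ : ∃ j, 0 < d (Sum.inr j) := by
      by_contra h
      push Not at h
      have : ∑ j, d (Sum.inr j) = 0 := Finset.sum_eq_zero fun j _ => by simpa using h j
      omega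
    set e : (Fin r ⊕ Fin s) →₀ ℕ := Finsupp.single (Sum.inl i) 1 + Finsupp.single (Sum.inr j) 1
      with he
    have hle : e ≤ d := by
      intro v
      cases v with
      | inl i' =>
        simp only [he, Finsupp.add_apply, Finsupp.single_apply, Sum.inl.injEq, reduceCtorEq,
          if_false, add_zero]
        split_ifs with h
        · subst h; exact hi
        · exact Nat.zero_le _
      | inr j' =>
        simp only [he, Finsupp.add_apply, Finsupp.single_apply, Sum.inr.injEq, reduceCtorEq,
          if_false, zero_add]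
        split_ifs with h
        · subst h; exact hj
        · exact Nat.zero_le _
    have hd : d = (d - e) + e := (tsub_add_cancel_of_le hle).symm
    have hs1 : ∑ i', e (Sum.inl i') = 1 := by
      simp [he, Finsupp.single_apply, Finset.sum_add_distrib]
    have hs2 : ∑ j', e (Sum.inr j') = 1 := by
      simp [he, Finsupp.single_apply, Finset.sum_add_distrib]
    have h1' : ∑ i', (d - e) (Sum.inl i') = n := by
      have : ∑ i', d (Sum.inl i') = ∑ i', (d - e) (Sum.inl i') + ∑ i', e (Sum.inl i') := by
        rw [← Finset.sum_add_distrib]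
        refine Finset.sum_congr rfl fun i' _ => ?_
        conv_lhs => rw [hd]
        rfl
      omega
    have h2' : ∑ j', (d - e) (Sum.inr j') = n := by
      have : ∑ j', d (Sum.inr j') = ∑ j', (d - e) (Sum.inr j') + ∑ j', e (Sum.inr j') := by
        rw [← Finset.sum_add_distrib]
        refine Finset.sum_congr rfl fun j' _ => ?_
        conv_lhs => rw [hd]
        rfl
      omega
    have hmul : monomial d (1 : k) = monomial (d - e) 1 * gen k r s (i, j) := by
      conv_lhs => rw [hd]
      rw [gen, X, X, monomial_mul, monomial_mul, mul_one, mul_one]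
    rw [hmul]
    exact mul_mem (ih _ h1' h2') (gen_mem _)

end mono

section reynolds

/-- descent of integrality along a Reynolds-type operator. -/
theorem isIntegral_of_reynolds {C T A B : Type*} [CommRing C] [CommRing T] [CommRing A]
    [CommRing B] [Algebra A T] [Algebra B C] (ψ : T →+* C)
    (hψ : Function.Injective ψ) (π : C →+ C)
    (hmul : ∀ (t : T) (c : C), π (ψ t * c) = ψ t * π c) (hfix : ∀ t : T, π (ψ t) = ψ t)
    (hB : ∀ b : B, ∃ a : A, ψ (algebraMap A T a) = π (algebraMap B C b)) (t : T)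
    (ht : IsIntegral B (ψ t)) : IsIntegral A t := by
  classical
  obtain ⟨p, hmonic, hp⟩ := ht
  set m := p.natDegree with hm
  have hchoose : ∀ l : ℕ, ∃ a : A, ψ (algebraMap A T a) = π (algebraMap B C (p.coeff l)) :=
    fun l => hB _
  choose a ha using hchoose
  have hdeg : (∑ l ∈ Finset.range m, Polynomial.C (a l) * Polynomial.X ^ l).degree
      < (m : WithBot ℕ) := by
    refine (Polynomial.degree_sum_le _ _).trans_lt
      ((Finset.sup_lt_iff (WithBot.bot_lt_coe m)).2 fun l hl => ?_)
    refine (Polynomial.degree_C_mul_X_pow_le l _).trans_lt ?_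
    exact WithBot.coe_lt_coe.2 (Finset.mem_range.1 hl)
  refine ⟨Polynomial.X ^ m + ∑ l ∈ Finset.range m, Polynomial.C (a l) * Polynomial.X ^ l,
    Polynomial.monic_X_pow_add hdeg, ?_⟩
  apply hψ
  rw [map_zero]
  have h1 : p = Polynomial.X ^ m + ∑ l ∈ Finset.range m,
      Polynomial.C (p.coeff l) * Polynomial.X ^ l := hmonic.as_sum
  rw [h1] at hp
  simp only [Polynomial.eval₂_add, Polynomial.eval₂_pow, Polynomial.eval₂_X,
    Polynomial.eval₂_finsetSum, Polynomial.eval₂_mul, Polynomial.eval₂_C] at hp ⊢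
  have h2 := congrArg π hp
  rw [map_zero, map_add, map_sum] at h2
  rw [map_add, map_sum, map_pow]
  rw [← map_pow, hfix, map_pow] at h2
  rw [← h2]
  congr 1
  refine Finset.sum_congr rfl fun l _ => ?_
  rw [map_mul, map_pow]
  rw [mul_comm (algebraMap B C (p.coeff l)), ← map_pow, hmul, ha, mul_comm]

end reynolds

end Groth.Agent.Lib.Helper22.SegreDim
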