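import Mathlib
import Groth.Agent.Lib.Helper22.SegreDim2
import Groth.Agent.S18646

/-!
# Dimension of a Segre product: reduction to the polynomial case (part 2)
-/

set_option autoImplicit false
universe u
open scoped TensorProduct
open MvPolynomial

namespace Groth.Agent.Lib.Helper22.SegreDim

section main

variable (k : Type u) [Field k] {R : Type u} [CommRing R] [Algebra k R]
  {S : Type u} [CommRing S] [Algebra k S] {r s : ℕ} (x : Fin r → R) (y : Fin s → S)

/-- the map from the polynomial ring to the tensor product -/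
noncomputable def Phi : Pol k r s →ₐ[k] R ⊗[k] S :=
  aeval (Sum.elim (fun i => x i ⊗ₜ[k] (1 : S)) (fun j => (1 : R) ⊗ₜ[k] y j))

variable {k}

lemma Phi_gen (p : Fin r × Fin s) : Phi k x y (gen k r s p) = x p.1 ⊗ₜ[k] y p.2 := by
  simp [Phi, gen, Algebra.TensorProduct.tmul_mul_tmul]

lemma Phi_rename_inl (p : MvPolynomial (Fin r) k) :
    Phi k x y (rename Sum.inl p) = aeval x p ⊗ₜ[k] (1 : S) := by
  rw [Phi, aeval_rename]
  change _ = (Algebra.TensorProduct.includeLeft : R →ₐ[k] R ⊗[k] S) (aeval x p)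
  rw [← AlgHom.comp_apply, comp_aeval]
  rfl

lemma Phi_rename_inr (q : MvPolynomial (Fin s) k) :
    Phi k x y (rename Sum.inr q) = (1 : R) ⊗ₜ[k] aeval y q := by
  rw [Phi, aeval_rename]
  change _ = (Algebra.TensorProduct.includeRight : S →ₐ[k] R ⊗[k] S) (aeval y q)
  rw [← AlgHom.comp_apply, comp_aeval]
  rfl

lemma Phi_monomial (d : (Fin r ⊕ Fin s) →₀ ℕ) :
    Phi k x y (monomial d 1) =
      (∏ i, x i ^ d (Sum.inl i)) ⊗ₜ[k] (∏ j, y j ^ d (Sum.inr j)) := by
  rw [Phi, aeval_monomial, map_one, one_mul, Finsupp.prod_fintype _ _ (fun _ => pow_zero _),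
    Fintype.prod_sum_type]
  simp only [Sum.elim_inl, Sum.elim_inr, Algebra.TensorProduct.tmul_pow, one_pow]
  have h1 : ∏ i, (x i ^ d (Sum.inl i)) ⊗ₜ[k] (1 : S) =
      (∏ i, x i ^ d (Sum.inl i)) ⊗ₜ[k] (1 : S) :=
    (map_prod (Algebra.TensorProduct.includeLeft : R →ₐ[k] R ⊗[k] S) _ _).symm
  have h2 : ∏ j, (1 : R) ⊗ₜ[k] (y j ^ d (Sum.inr j)) =
      (1 : R) ⊗ₜ[k] (∏ j, y j ^ d (Sum.inr j)) :=
    (map_prod (Algebra.TensorProduct.includeRight : S →ₐ[k] R ⊗[k] S) _ _).symm
  rw [h1, h2, Algebra.TensorProduct.tmul_mul_tmul, mul_one, one_mul]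

/-- `Phi` is the composite of the tensor product of the evaluation maps with the
identification of the polynomial ring with a tensor product. -/
lemma Phi_comp_tensorEquivSum :
    (Phi k x y).comp (MvPolynomial.tensorEquivSum k (Fin r) (Fin s) k).toAlgHom =
      Algebra.TensorProduct.map (aeval x : MvPolynomial (Fin r) k →ₐ[k] R)
        (aeval y : MvPolynomial (Fin s) k →ₐ[k] S) := by
  apply Algebra.TensorProduct.ext
  · apply MvPolynomial.algHom_ext
    intro i
    simp [Phi]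
  · apply MvPolynomial.algHom_ext
    intro j
    simp [Phi]

theorem Phi_injective (hx : AlgebraicIndependent k x) (hy : AlgebraicIndependent k y) :
    Function.Injective (Phi k x y) := by
  have h1 : Function.Injective (Algebra.TensorProduct.map
      (aeval x : MvPolynomial (Fin r) k →ₐ[k] R) (aeval y : MvPolynomial (Fin s) k →ₐ[k] S)) := by
    have := TensorProduct.map_injective_of_flat_flat (R := k)
      (aeval x : MvPolynomial (Fin r) k →ₐ[k] R).toLinearMap
      (aeval y : MvPolynomial (Fin s) k →ₐ[k] S).toLinearMap hx hy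
    exact this
  rw [← Phi_comp_tensorEquivSum] at h1
  intro a b hab
  have := h1 (a₁ := (MvPolynomial.tensorEquivSum k (Fin r) (Fin s) k).symm a)
    (a₂ := (MvPolynomial.tensorEquivSum k (Fin r) (Fin s) k).symm b) (by simpa using hab)
  exact (MvPolynomial.tensorEquivSum k (Fin r) (Fin s) k).symm.injective this

end main

section final

variable {k : Type u} [Field k] {R : Type u} [CommRing R] [Algebra k R]
  (𝒜 : ℤ → Submodule k R) [GradedAlgebra 𝒜] {S : Type u} [CommRing S] [Algebra k S]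
  (ℬ : ℤ → Submodule k S) [GradedAlgebra ℬ] {r s : ℕ} (x : Fin r → R) (y : Fin s → S)

theorem diagProj_Phi_mem (N : ℤ) (hN : N ≠ 0) (hx : ∀ i, x i ∈ 𝒜 N) (hy : ∀ j, y j ∈ ℬ N)
    (u : Pol k r s) :
    Groth.Agent.S18646.diagProj 𝒜 ℬ (Phi k x y u) ∈ (segreSub k r s).map (Phi k x y) := by
  classical
  rw [← MvPolynomial.support_sum_monomial_coeff u, map_sum, map_sum]
  refine Subalgebra.sum_mem _ fun d _ => ?_
  have hmon : monomial d (coeff d u) = (coeff d u) • monomial d (1 : k) := by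
    rw [smul_monomial, smul_eq_mul, mul_one]
  rw [hmon, map_smul, map_smul]
  refine Subalgebra.smul_mem _ ?_ _
  rw [Phi_monomial]
  have ha : ∏ i, x i ^ d (Sum.inl i) ∈ 𝒜 (∑ i, d (Sum.inl i) • N) :=
    SetLike.prod_pow_mem_graded 𝒜 (fun _ => N) x (fun i => d (Sum.inl i)) (fun i _ => hx i)
  have hb : ∏ j, y j ^ d (Sum.inr j) ∈ ℬ (∑ j, d (Sum.inr j) • N) :=
    SetLike.prod_pow_mem_graded ℬ (fun _ => N) y (fun j => d (Sum.inr j)) (fun j _ => hy j)
  rw [Groth.Agent.S18646.diagProj_tmul_of_mem 𝒜 ℬ ha hb]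
  split_ifs with h
  · rw [← Phi_monomial]
    refine ⟨_, monomial_mem (∑ i, d (Sum.inl i)) d rfl ?_, rfl⟩
    rw [← Finset.sum_smul, ← Finset.sum_smul, nsmul_eq_mul, nsmul_eq_mul] at h
    have h' := mul_right_cancel₀ hN h
    exact_mod_cast h'.symm
  · exact zero_mem _

theorem isIntegral_Phi_range
    (hxint : Algebra.IsIntegral (Algebra.adjoin k (Set.range x)) R)
    (hyint : Algebra.IsIntegral (Algebra.adjoin k (Set.range y)) S) (z : R ⊗[k] S) :
    IsIntegral (Phi k x y).range z := by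
  have hL : ∀ a : R, IsIntegral (Phi k x y).range (a ⊗ₜ[k] (1 : S)) := by
    intro a
    have hmem : ∀ a' : Algebra.adjoin k (Set.range x),
        ((Algebra.TensorProduct.includeLeft : R →ₐ[k] R ⊗[k] S).comp
          (Algebra.adjoin k (Set.range x)).val) a' ∈ (Phi k x y).range := by
      intro a'
      have h : (a' : R) ∈ (aeval x : MvPolynomial (Fin r) k →ₐ[k] R).range := by
        rw [← Algebra.adjoin_range_eq_range_aeval]
        exact a'.2
      obtain ⟨p, hp⟩ := h
      refine ⟨rename Sum.inl p, ?_⟩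
      change Phi k x y (rename Sum.inl p) = (a' : R) ⊗ₜ[k] (1 : S)
      rw [Phi_rename_inl, ← hp]
      rfl
    let φ : Algebra.adjoin k (Set.range x) →ₐ[k] (Phi k x y).range :=
      ((Algebra.TensorProduct.includeLeft : R →ₐ[k] R ⊗[k] S).comp
          (Algebra.adjoin k (Set.range x)).val).codRestrict _ hmem
    exact IsIntegral.map_of_comp_eq φ.toRingHom
      (Algebra.TensorProduct.includeLeft : R →ₐ[k] R ⊗[k] S).toRingHom (by ext; rfl)
      (hxint.isIntegral a)
  have hR : ∀ b : S, IsIntegral (Phi k x y).range ((1 : R) ⊗ₜ[k] b) := by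
    intro b
    have hmem : ∀ b' : Algebra.adjoin k (Set.range y),
        ((Algebra.TensorProduct.includeRight : S →ₐ[k] R ⊗[k] S).comp
          (Algebra.adjoin k (Set.range y)).val) b' ∈ (Phi k x y).range := by
      intro b'
      have h : (b' : S) ∈ (aeval y : MvPolynomial (Fin s) k →ₐ[k] S).range := by
        rw [← Algebra.adjoin_range_eq_range_aeval]
        exact b'.2
      obtain ⟨p, hp⟩ := h
      refine ⟨rename Sum.inr p, ?_⟩
      change Phi k x y (rename Sum.inr p) = (1 : R) ⊗ₜ[k] (b' : S)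
      rw [Phi_rename_inr, ← hp]
      rfl
    let φ : Algebra.adjoin k (Set.range y) →ₐ[k] (Phi k x y).range :=
      ((Algebra.TensorProduct.includeRight : S →ₐ[k] R ⊗[k] S).comp
          (Algebra.adjoin k (Set.range y)).val).codRestrict _ hmem
    exact IsIntegral.map_of_comp_eq φ.toRingHom
      (Algebra.TensorProduct.includeRight : S →ₐ[k] R ⊗[k] S).toRingHom (by ext; rfl)
      (hyint.isIntegral b)
  induction z using TensorProduct.induction_on with
  | zero => exact isIntegral_zero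
  | tmul a b =>
    have : a ⊗ₜ[k] b = (a ⊗ₜ[k] (1 : S)) * ((1 : R) ⊗ₜ[k] b) := by
      rw [Algebra.TensorProduct.tmul_mul_tmul, mul_one, one_mul]
    rw [this]
    exact (hL a).mul (hR b)
  | add z w hz hw => exact hz.add hw

/-- **dimension of a Segre product, given equal-degree homogeneous systems of parameters.** -/
theorem ringKrullDim_eq_of_parameters {T : Type u} [CommRing T] [Algebra k T]
    (𝒯 : ℤ → Submodule k T) [GradedAlgebra 𝒯]
    (ψ : T →ₐ[k] R ⊗[k] S) (hψ : Function.Injective ψ)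
    (hdegT : ∀ n : ℤ, (𝒯 n).map ψ.toLinearMap =
      Submodule.span k {z : R ⊗[k] S | ∃ a ∈ 𝒜 n, ∃ b ∈ ℬ n, z = a ⊗ₜ[k] b})
    (N : ℤ) (hN : N ≠ 0) (hx : ∀ i, x i ∈ 𝒜 N) (hy : ∀ j, y j ∈ ℬ N)
    (hr : 0 < r) (hs : 0 < s) (hxalg : AlgebraicIndependent k x)
    (hyalg : AlgebraicIndependent k y)
    (hxint : Algebra.IsIntegral (Algebra.adjoin k (Set.range x)) R)
    (hyint : Algebra.IsIntegral (Algebra.adjoin k (Set.range y)) S) :
    ringKrullDim T = ((r + s - 1 : ℕ) : WithBot ℕ∞) := by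
  set 𝔖 : Subalgebra k (R ⊗[k] S) := (segreSub k r s).map (Phi k x y) with h𝔖
  have h𝔖le : 𝔖 ≤ ψ.range := by
    rw [h𝔖, segreSub, AlgHom.map_adjoin, Algebra.adjoin_le_iff]
    rintro _ ⟨_, ⟨p, rfl⟩, rfl⟩
    rw [Phi_gen]
    exact Groth.Agent.S18646.tmul_mem_range 𝒜 ℬ 𝒯 ψ hdegT (hx _) (hy _)
  set A : Subalgebra k T := 𝔖.comap ψ with hA
  let f : A →ₐ[k] 𝔖 := (ψ.comp A.val).codRestrict 𝔖 (fun a => a.2)
  have hfbij : Function.Bijective f := by
    constructor
    · intro a b hab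
      have : ψ a.val = ψ b.val := congrArg Subtype.val hab
      exact Subtype.ext (hψ this)
    · intro z
      obtain ⟨t, ht⟩ := h𝔖le z.2
      refine ⟨⟨t, ?_⟩, Subtype.ext ht⟩
      change ψ t ∈ 𝔖
      rw [show ψ t = (z : R ⊗[k] S) from ht]
      exact z.2
  have hdimA : ringKrullDim A = ((r + s - 1 : ℕ) : WithBot ℕ∞) := by
    rw [ringKrullDim_eq_of_ringEquiv (AlgEquiv.ofBijective f hfbij).toRingEquiv,
      ← ringKrullDim_eq_of_ringEquiv ((segreSub k r s).equivMapOfInjective (Phi k x y)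
        (Phi_injective x y hxalg hyalg)).toRingEquiv]
    exact ringKrullDim_segreSub hr hs
  haveI : Algebra.IsIntegral A T := by
    refine ⟨fun t => ?_⟩
    refine isIntegral_of_reynolds (B := (Phi k x y).range) ψ.toRingHom hψ
      (Groth.Agent.S18646.diagProj 𝒜 ℬ).toAddMonoidHom ?_ ?_ ?_ t ?_
    · intro t c
      exact Groth.Agent.S18646.diagProj_psi_mul 𝒜 ℬ 𝒯 ψ hdegT t c
    · intro t
      exact Groth.Agent.S18646.diagProj_psi 𝒜 ℬ 𝒯 ψ hdegT t
    · rintro ⟨_, u, rfl⟩
      have h1 := diagProj_Phi_mem 𝒜 ℬ x y N hN hx hy u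
      obtain ⟨t, ht⟩ := h𝔖le h1
      refine ⟨⟨t, ?_⟩, ht⟩
      change ψ t ∈ 𝔖
      rw [show ψ t = _ from ht]
      exact h1
    · exact isIntegral_Phi_range x y hxint hyint _
  refine le_antisymm ?_ ?_
  · rw [← hdimA]
    exact Groth.Agent.Lib.Helper12.ringKrullDim_le_of_isIntegral
  · rw [← hdimA]
    exact Groth.Agent.Lib.Helper12.ringKrullDim_le_of_isIntegral_of_injective
      Subtype.val_injective

end final

end Groth.Agent.Lib.Helper22.SegreDim
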