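/-
Helper22 library: `Ext¹` of a module with a two-term projective resolution as the cokernel of the
dual map, linearly; base change of this cokernel along a quotient map; local splitting of a
presentation at a prime where the module is projective.
-/
import Mathlib

set_option autoImplicit false
universe u
open CategoryTheory TensorProduct

namespace Groth.Agent.Lib.Helper22.ExtOne

section connecting

variable {R : Type u} [CommRing R] {N F M G : Type u} [AddCommGroup N] [Module R N]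
  [AddCommGroup F] [Module R F] [AddCommGroup M] [Module R M] [AddCommGroup G] [Module R G]

/-- the connecting map `Hom(N, G) → Ext¹(M, G)` of `0 → N → F → M → 0` with `F` projective is
linear, surjective, with kernel the maps factoring through `F`. -/
theorem exists_connecting [Module.Projective R F] (u : N →ₗ[R] F) (π : F →ₗ[R] M)
    (hu : Function.Injective u) (hπ : Function.Surjective π) (hex : Function.Exact u π) :
    ∃ δ : (N →ₗ[R] G) →ₗ[R] Abelian.Ext.{u} (ModuleCat.of R M) (ModuleCat.of R G) 1,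
      Function.Surjective δ ∧ ∀ φ, δ φ = 0 ↔ ∃ ψ : F →ₗ[R] G, ψ ∘ₗ u = φ := by
  let S : ShortComplex (ModuleCat.{u} R) :=
    ModuleCat.shortComplexOfCompEqZero u π hex.linearMap_comp_eq_zero
  have hS : S.ShortExact :=
    { exact := ModuleCat.shortComplex_exact _ hex
      mono_f := (ModuleCat.mono_iff_injective _).mpr hu
      epi_g := (ModuleCat.epi_iff_surjective _).mpr hπ }
  haveI : Projective S.X₂ :=
    ModuleCat.projective_of_categoryTheory_projective (ModuleCat.of R F)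
  let δ : (N →ₗ[R] G) →ₗ[R] Abelian.Ext.{u} (ModuleCat.of R M) (ModuleCat.of R G) 1 :=
    { toFun := fun φ => hS.extClass.comp (Abelian.Ext.mk₀ (ModuleCat.ofHom φ)) (add_zero 1)
      map_add' := fun φ₁ φ₂ => by
        rw [ModuleCat.ofHom_add, Abelian.Ext.mk₀_add, Abelian.Ext.comp_add]
      map_smul' := fun r φ => by
        have h1 : ModuleCat.ofHom (r • φ) = r • ModuleCat.ofHom φ := rfl
        rw [h1, Abelian.Ext.mk₀_smul, Abelian.Ext.comp_smul]
        rfl }
  have hδ : ∀ φ, δ φ = hS.extClass.comp (Abelian.Ext.mk₀ (ModuleCat.ofHom φ)) (add_zero 1) :=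
    fun _ => rfl
  refine ⟨δ, ?_, ?_⟩
  · intro x₃
    have h0 : (Abelian.Ext.mk₀ S.g).comp x₃ (zero_add 1) = 0 :=
      Abelian.Ext.eq_zero_of_projective _
    obtain ⟨x₁, hx₁⟩ :=
      Abelian.Ext.contravariant_sequence_exact₃ hS (ModuleCat.of R G) x₃ h0 (add_zero 1)
    obtain ⟨f, rfl⟩ := (Abelian.Ext.mk₀_bijective _ _).2 x₁
    refine ⟨f.hom, ?_⟩
    rw [hδ]
    exact hx₁
  · intro φ
    constructor
    · intro h
      rw [hδ] at h
      obtain ⟨x₂, hx₂⟩ := Abelian.Ext.contravariant_sequence_exact₁ hS (ModuleCat.of R G)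
        (Abelian.Ext.mk₀ (ModuleCat.ofHom φ)) (add_zero 1) h
      obtain ⟨g, rfl⟩ := (Abelian.Ext.mk₀_bijective _ _).2 x₂
      rw [Abelian.Ext.mk₀_comp_mk₀] at hx₂
      have h2 : S.f ≫ g = ModuleCat.ofHom φ := (Abelian.Ext.mk₀_bijective _ _).1 hx₂
      refine ⟨g.hom, ?_⟩
      have h3 := congrArg ModuleCat.Hom.hom h2
      exact h3
    · rintro ⟨ψ, rfl⟩
      rw [hδ]
      have h1 : ModuleCat.ofHom (ψ ∘ₗ u) = S.f ≫ ModuleCat.ofHom ψ := rfl
      rw [h1, ← Abelian.Ext.mk₀_comp_mk₀]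
      exact hS.extClass_comp_assoc _

end connecting

section split

variable {P : Type u} [CommRing P]

/-- if `M` is finitely presented and `M_S` is projective over `P_S`, then a surjection `F → M` has
a section up to an element of `S`. -/
theorem exists_section (S : Submonoid P) {F M : Type u} [AddCommGroup F] [Module P F]
    [AddCommGroup M] [Module P M] [Module.FinitePresentation P M]
    [Module.Projective (Localization S) (LocalizedModule S M)]
    (π : F →ₗ[P] M) (hπ : Function.Surjective π) :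
    ∃ s ∈ S, ∃ σ : M →ₗ[P] F, π ∘ₗ σ = s • LinearMap.id := by
  let fF := LocalizedModule.mkLinearMap S F
  let fM := LocalizedModule.mkLinearMap S M
  let πS : LocalizedModule S F →ₗ[P] LocalizedModule S M := IsLocalizedModule.map S fF fM π
  have hπS : Function.Surjective πS := IsLocalizedModule.map_surjective S fF fM π hπ
  let πS' : LocalizedModule S F →ₗ[Localization S] LocalizedModule S M :=
    LinearMap.extendScalarsOfIsLocalization S (Localization S) πS
  have hπS' : Function.Surjective πS' := hπS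
  obtain ⟨σ₀, hσ₀⟩ := Module.projective_lifting_property πS' LinearMap.id hπS'
  let g₀ : M →ₗ[P] LocalizedModule S F := (σ₀.restrictScalars P) ∘ₗ fM
  obtain ⟨h, s, hs⟩ := Module.FinitePresentation.exists_lift_of_isLocalizedModule S fF g₀
  have h2 : fM ∘ₗ (π ∘ₗ h) = fM ∘ₗ ((s : P) • LinearMap.id) := by
    ext m
    have e1 : πS (fF (h m)) = fM (π (h m)) := IsLocalizedModule.map_apply S fF fM π (h m)
    have e2 : fF (h m) = (s : P) • g₀ m := by
      have := LinearMap.congr_fun hs m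
      simpa [Submonoid.smul_def] using this
    have e3 : πS (σ₀ (fM m)) = fM m := by
      have := LinearMap.congr_fun hσ₀ (fM m)
      exact this
    simp only [LinearMap.coe_comp, Function.comp_apply, LinearMap.smul_apply, LinearMap.id_coe,
      id_eq]
    rw [← e1, e2, map_smul, map_smul]
    congr 1
  obtain ⟨t, ht⟩ := Module.Finite.exists_smul_of_comp_eq_of_isLocalizedModule S fM _ _ h2
  refine ⟨(t * s : S), (t * s).2, (t : P) • h, ?_⟩
  rw [LinearMap.comp_smul]
  have := ht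
  simp only [Submonoid.smul_def] at this
  rw [this, smul_smul]
  rfl

/-- a section of `π` up to `s` gives a retraction of `u` up to `s`. -/
theorem exists_retraction {N F M : Type u} [AddCommGroup N] [Module P N] [AddCommGroup F]
    [Module P F] [AddCommGroup M] [Module P M] (u : N →ₗ[P] F) (π : F →ₗ[P] M)
    (hu : Function.Injective u) (hex : Function.Exact u π) (s : P) (σ : M →ₗ[P] F)
    (hσ : π ∘ₗ σ = s • LinearMap.id) : ∃ ρ : F →ₗ[P] N, ρ ∘ₗ u = s • LinearMap.id := by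
  let τ : F →ₗ[P] F := s • LinearMap.id - σ ∘ₗ π
  have hτ : ∀ y, τ y ∈ LinearMap.range u := by
    intro y
    rw [← hex.linearMap_ker_eq, LinearMap.mem_ker]
    have h1 : π (σ (π y)) = s • π y := LinearMap.congr_fun hσ (π y)
    simp only [τ, LinearMap.sub_apply, LinearMap.smul_apply, LinearMap.id_coe, id_eq,
      LinearMap.coe_comp, Function.comp_apply, map_sub, map_smul, h1, sub_self]
  let e := LinearEquiv.ofInjective u hu
  refine ⟨e.symm.toLinearMap ∘ₗ (τ.codRestrict (LinearMap.range u) hτ), ?_⟩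
  ext x
  simp only [LinearMap.coe_comp, LinearEquiv.coe_coe, Function.comp_apply, LinearMap.smul_apply,
    LinearMap.id_coe, id_eq]
  rw [LinearEquiv.symm_apply_eq]
  apply Subtype.ext
  show τ (u x) = u (s • x)
  have h0 : π (u x) = 0 := hex.apply_apply_eq_zero x
  simp only [τ, LinearMap.sub_apply, LinearMap.smul_apply, LinearMap.id_coe, id_eq,
    LinearMap.coe_comp, Function.comp_apply, h0, map_zero, sub_zero, map_smul]

end split

section dual

variable {R : Type u} [CommRing R]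

/-- a linear form on a finite projective module with values in an ideal `𝔞` is an `𝔞`-linear
combination of linear forms. -/
theorem exists_sum_of_forall_mem (𝔞 : Ideal R) {N : Type u} [AddCommGroup N] [Module R N]
    [Module.Finite R N] [Module.Projective R N] (φ : N →ₗ[R] R) (h : ∀ n, φ n ∈ 𝔞) :
    ∃ (m : ℕ) (a : Fin m → R) (χ : Fin m → (N →ₗ[R] R)),
      (∀ i, a i ∈ 𝔞) ∧ φ = ∑ i, a i • χ i := by
  obtain ⟨m, f, g, -, -, hfg⟩ := Module.Finite.exists_comp_eq_id_of_projective R N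
  refine ⟨m, fun i => φ (f (fun j => if i = j then 1 else 0)),
    fun i => LinearMap.proj i ∘ₗ g, fun i => h _, ?_⟩
  ext n
  have h1 : f (g n) = n := LinearMap.congr_fun hfg n
  have h2 := LinearMap.pi_apply_eq_sum_univ (φ ∘ₗ f) (g n)
  simp only [LinearMap.coe_comp, Function.comp_apply, h1] at h2
  rw [h2, LinearMap.sum_apply]
  refine Finset.sum_congr rfl fun i _ => ?_
  simp only [LinearMap.smul_apply, LinearMap.coe_comp, LinearMap.coe_proj, Function.comp_apply,
    Function.eval, smul_eq_mul]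
  exact mul_comm _ _

/-- **Base change of `coker (F^∨ → N^∨)` along `R → R ⧸ 𝔞`**, in the form needed for `Ext¹`. -/
theorem bc_abs (𝔞 : Ideal R) {N F E₁ E₂ : Type u} [AddCommGroup N] [Module R N]
    [AddCommGroup F] [Module R F] [Module.Finite R N] [Module.Projective R N]
    [Module.Projective R F] [AddCommGroup E₁] [Module R E₁] [AddCommGroup E₂]
    [Module (R ⧸ 𝔞) E₂] [Module R E₂] [IsScalarTower R (R ⧸ 𝔞) E₂]
    (u : N →ₗ[R] F) (δ : (N →ₗ[R] R) →ₗ[R] E₁) (hδ : Function.Surjective δ)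
    (hδk : ∀ φ, δ φ = 0 ↔ ∃ ψ : F →ₗ[R] R, ψ ∘ₗ u = φ)
    (δ' : ((R ⧸ 𝔞) ⊗[R] N →ₗ[R ⧸ 𝔞] (R ⧸ 𝔞)) →ₗ[R ⧸ 𝔞] E₂) (hδ' : Function.Surjective δ')
    (hδ'k : ∀ χ, δ' χ = 0 ↔
      ∃ ψ' : (R ⧸ 𝔞) ⊗[R] F →ₗ[R ⧸ 𝔞] (R ⧸ 𝔞), ψ' ∘ₗ u.baseChange (R ⧸ 𝔞) = χ) :
    Nonempty ((R ⧸ 𝔞) ⊗[R] E₁ ≃ₗ[R ⧸ 𝔞] E₂) := by
  -- surjectivity of the base change of linear forms on a projective module
  have hT : ∀ (V : Type u) [AddCommGroup V] [Module R V] [Module.Projective R V],
      Function.Surjective (Module.Dual.baseChange (R := R) (V := V) (R ⧸ 𝔞)) := by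
    intro V _ _ _ χ
    let χ₀ : V →ₗ[R] (R ⧸ 𝔞) := (χ.restrictScalars R) ∘ₗ (TensorProduct.mk R (R ⧸ 𝔞) V 1)
    obtain ⟨φ, hφ⟩ := Module.projective_lifting_property (Algebra.linearMap R (R ⧸ 𝔞)) χ₀
      Ideal.Quotient.mk_surjective
    refine ⟨φ, ?_⟩
    apply TensorProduct.AlgebraTensorModule.ext
    intro a v
    rw [Module.Dual.baseChange_apply_tmul]
    have h1 : algebraMap R (R ⧸ 𝔞) (φ v) = χ (1 ⊗ₜ v) := LinearMap.congr_fun hφ v
    have h2 : a ⊗ₜ[R] v = a • ((1 : R ⧸ 𝔞) ⊗ₜ[R] v) := by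
      rw [TensorProduct.smul_tmul', smul_eq_mul, mul_one]
    rw [h2, map_smul, ← h1, smul_eq_mul, Algebra.smul_def, mul_comm]
  -- naturality
  have hnat : ∀ ψ : F →ₗ[R] R, Module.Dual.baseChange (R ⧸ 𝔞) (ψ ∘ₗ u) =
      (Module.Dual.baseChange (R ⧸ 𝔞) ψ) ∘ₗ u.baseChange (R ⧸ 𝔞) := by
    intro ψ
    apply TensorProduct.AlgebraTensorModule.ext
    intro a v
    rw [LinearMap.comp_apply, LinearMap.baseChange_tmul, Module.Dual.baseChange_apply_tmul,
      Module.Dual.baseChange_apply_tmul, LinearMap.comp_apply]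
  -- forms killed by base change have values in `𝔞`
  have hval : ∀ χ : N →ₗ[R] R, Module.Dual.baseChange (R ⧸ 𝔞) χ = 0 → ∀ n, χ n ∈ 𝔞 := by
    intro χ hχ n
    have h1 := LinearMap.congr_fun hχ ((1 : R ⧸ 𝔞) ⊗ₜ[R] n)
    rw [Module.Dual.baseChange_apply_tmul, LinearMap.zero_apply, Algebra.smul_def, mul_one] at h1
    exact Ideal.Quotient.eq_zero_iff_mem.mp h1
  let Θ : (N →ₗ[R] R) →ₗ[R] E₂ :=
    (δ'.restrictScalars R) ∘ₗ (Module.Dual.baseChange (R ⧸ 𝔞))
  have hΘ : ∀ φ, Θ φ = δ' (Module.Dual.baseChange (R ⧸ 𝔞) φ) := fun _ => rfl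
  have hker : LinearMap.ker δ ≤ LinearMap.ker Θ := by
    intro φ hφ
    rw [LinearMap.mem_ker] at hφ ⊢
    obtain ⟨ψ, rfl⟩ := (hδk φ).mp hφ
    rw [hΘ, hnat]
    exact (hδ'k _).mpr ⟨_, rfl⟩
  let θ : E₁ →ₗ[R] E₂ :=
    ((LinearMap.ker δ).liftQ Θ hker) ∘ₗ (δ.quotKerEquivOfSurjective hδ).symm.toLinearMap
  have hθ : ∀ φ, θ (δ φ) = Θ φ := by
    intro φ
    have h1 : (δ.quotKerEquivOfSurjective hδ).symm (δ φ) = Submodule.Quotient.mk φ := by
      rw [LinearEquiv.symm_apply_eq]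
      rfl
    show ((LinearMap.ker δ).liftQ Θ hker) ((δ.quotKerEquivOfSurjective hδ).symm (δ φ)) = _
    rw [h1]
    rfl
  let θ' : (R ⧸ 𝔞) ⊗[R] E₁ →ₗ[R ⧸ 𝔞] E₂ := LinearMap.liftBaseChange (R ⧸ 𝔞) θ
  have hone : ∀ z : (R ⧸ 𝔞) ⊗[R] E₁, ∃ e : E₁, z = (1 : R ⧸ 𝔞) ⊗ₜ[R] e := by
    intro z
    induction z using TensorProduct.induction_on with
    | zero => exact ⟨0, (TensorProduct.tmul_zero _ _).symm⟩
    | tmul a e =>
      obtain ⟨r, rfl⟩ := Ideal.Quotient.mk_surjective a
      refine ⟨r • e, ?_⟩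
      rw [TensorProduct.tmul_smul, TensorProduct.smul_tmul', Algebra.smul_def, mul_one]
      rfl
    | add x y hx hy =>
      obtain ⟨e₁, rfl⟩ := hx
      obtain ⟨e₂, rfl⟩ := hy
      exact ⟨e₁ + e₂, (TensorProduct.tmul_add _ _ _).symm⟩
  refine ⟨LinearEquiv.ofBijective θ' ⟨?_, ?_⟩⟩
  · rw [injective_iff_map_eq_zero]
    intro z hz
    obtain ⟨e, rfl⟩ := hone z
    obtain ⟨φ, rfl⟩ := hδ e
    rw [LinearMap.liftBaseChange_tmul, one_smul, hθ, hΘ] at hz
    obtain ⟨ψ', hψ'⟩ := (hδ'k _).mp hz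
    obtain ⟨ψ, rfl⟩ := hT F ψ'
    rw [← hnat] at hψ'
    have h0 : Module.Dual.baseChange (R ⧸ 𝔞) (φ - ψ ∘ₗ u) = 0 := by
      rw [map_sub, hψ', sub_self]
    obtain ⟨m, a, χ, ha, hsum⟩ := exists_sum_of_forall_mem 𝔞 (φ - ψ ∘ₗ u) (hval _ h0)
    have h3 : δ φ = ∑ i, a i • δ (χ i) := by
      have h4 : δ (ψ ∘ₗ u) = 0 := (hδk _).mpr ⟨ψ, rfl⟩
      have h5 : δ (φ - ψ ∘ₗ u) = δ φ := by rw [map_sub, h4, sub_zero]
      rw [← h5, hsum, map_sum]
      simp only [map_smul]
    rw [h3, TensorProduct.tmul_sum]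
    refine Finset.sum_eq_zero fun i _ => ?_
    rw [TensorProduct.tmul_smul, TensorProduct.smul_tmul', Algebra.smul_def, mul_one,
      show algebraMap R (R ⧸ 𝔞) (a i) = 0 from Ideal.Quotient.eq_zero_iff_mem.mpr (ha i),
      TensorProduct.zero_tmul]
  · intro e₂
    obtain ⟨χ, rfl⟩ := hδ' e₂
    obtain ⟨φ, rfl⟩ := hT N χ
    refine ⟨(1 : R ⧸ 𝔞) ⊗ₜ[R] δ φ, ?_⟩
    rw [LinearMap.liftBaseChange_tmul, one_smul, hθ, hΘ]

end dual

section kaehler

/-- for `P' = P ⧸ J P` the base change map `P' ⊗_P Ω_{P/A} → Ω_{P'/A}` is bijective. -/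
theorem mapBaseChange_bijective {A P : Type u} [CommRing A] [CommRing P] [Algebra A P]
    (J : Ideal A) :
    Function.Bijective
      (KaehlerDifferential.mapBaseChange A P (P ⧸ J.map (algebraMap A P))) := by
  have hsurj : Function.Surjective (algebraMap P (P ⧸ J.map (algebraMap A P))) :=
    Ideal.Quotient.mk_surjective
  refine ⟨?_, KaehlerDifferential.mapBaseChange_surjective A P _ hsurj⟩
  rw [injective_iff_map_eq_zero]
  intro z hz
  obtain ⟨c, rfl⟩ :=
    (KaehlerDifferential.exact_kerCotangentToTensor_mapBaseChange A P _ hsurj z).mp hz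
  obtain ⟨⟨x, hxk⟩, rfl⟩ := Ideal.toCotangent_surjective _ c
  rw [KaehlerDifferential.kerCotangentToTensor_toCotangent]
  have hx : x ∈ J.map (algebraMap A P) := by
    have := RingHom.mem_ker.mp hxk
    exact Ideal.Quotient.eq_zero_iff_mem.mp this
  show (1 : P ⧸ J.map (algebraMap A P)) ⊗ₜ[P] KaehlerDifferential.D A P x = 0
  have key : ∀ y (hy : y ∈ Ideal.span ((algebraMap A P) '' (J : Set A))),
      (1 : P ⧸ J.map (algebraMap A P)) ⊗ₜ[P] KaehlerDifferential.D A P y = 0 := by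
    intro y hy
    induction hy using Submodule.span_induction with
    | mem y hy =>
      obtain ⟨j, -, rfl⟩ := hy
      rw [Derivation.map_algebraMap, TensorProduct.tmul_zero]
    | zero => rw [map_zero, TensorProduct.tmul_zero]
    | add y₁ y₂ _ _ h₁ h₂ => rw [map_add, TensorProduct.tmul_add, h₁, h₂, add_zero]
    | smul b y hy ih =>
      rw [smul_eq_mul, Derivation.leibniz, TensorProduct.tmul_add, TensorProduct.tmul_smul, ih,
        smul_zero, zero_add, TensorProduct.tmul_smul, TensorProduct.smul_tmul', Algebra.smul_def,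
        mul_one,
        show algebraMap P (P ⧸ J.map (algebraMap A P)) y = 0 from
          Ideal.Quotient.eq_zero_iff_mem.mpr hy,
        TensorProduct.zero_tmul]
  exact key x hx

end kaehler

end Groth.Agent.Lib.Helper22.ExtOne
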