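import Mathlib
import Groth.Agent.Lib.Helper22.EtaleDim1

/-!
# A quotient of full dimension of a ring whose local ring is a domain is locally trivial
-/

set_option linter.style.haveILetI false

namespace Groth.Agent.Lib.Helper22.EtaleDim

universe u

open IsLocalRing

/-- Let `φ : E → B` be surjective, `Q` a prime of `B`, `q' = φ⁻¹ Q`, with `E_{q'}` a domain.
If `ht + coht ≤ n` everywhere on `Spec E` and `ht Q + coht Q ≥ n` on `Spec B`, then the kernel of
`φ` dies in `E_{q'}`. -/
theorem ker_le_ker_localization {E B : Type*} [CommRing E] [CommRing B] (φ : E →+* B)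
    (hφ : Function.Surjective φ) (Q : Ideal B) [hQ : Q.IsPrime] (n : ℕ)
    (hdom : IsDomain (Localization.AtPrime (Q.comap φ)))
    (hE : ∀ q : PrimeSpectrum E, Order.height q + Order.coheight q ≤ (n : ℕ∞))
    (hB : (n : ℕ∞) ≤ Order.height (⟨Q, hQ⟩ : PrimeSpectrum B) +
      Order.coheight (⟨Q, hQ⟩ : PrimeSpectrum B)) :
    ∀ x ∈ RingHom.ker φ, algebraMap E (Localization.AtPrime (Q.comap φ)) x = 0 := by
  intro x hx
  by_contra hx0
  have hΦ : StrictMono (PrimeSpectrum.comap φ) := RingHom.strictMono_comap_of_surjective hφ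
  set q' : PrimeSpectrum E := PrimeSpectrum.comap φ ⟨Q, hQ⟩ with hq'
  haveI hp₀ : (RingHom.ker (algebraMap E (Localization.AtPrime (Q.comap φ)))).IsPrime :=
    RingHom.ker_isPrime _
  have hEq := hE q'
  have hc : Order.coheight (⟨Q, hQ⟩ : PrimeSpectrum B) ≤ Order.coheight q' :=
    Order.coheight_le_coheight_apply_of_strictMono _ hΦ _
  have hh : Order.height (⟨Q, hQ⟩ : PrimeSpectrum B) ≤ Order.height q' :=
    Order.height_le_height_apply_of_strictMono _ hΦ _
  have hafin : Order.height (⟨Q, hQ⟩ : PrimeSpectrum B) ≠ ⊤ := by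
    intro htop
    rw [htop, top_le_iff] at hh
    rw [hh, top_add, top_le_iff] at hEq
    exact ENat.coe_ne_top n hEq
  obtain ⟨a, ha⟩ := ENat.ne_top_iff_exists.mp hafin
  obtain ⟨l, hlast, hlen⟩ := Order.exists_series_of_height_eq_coe
    (⟨Q, hQ⟩ : PrimeSpectrum B) ha.symm
  -- extend the image chain by the prime `𝔭₀`
  have hlt : (⟨RingHom.ker (algebraMap E (Localization.AtPrime (Q.comap φ))), hp₀⟩ :
      PrimeSpectrum E) < (l.map (PrimeSpectrum.comap φ) hΦ).head := by
    rw [LTSeries.head_map]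
    have hle : RingHom.ker (algebraMap E (Localization.AtPrime (Q.comap φ))) ≤
        (PrimeSpectrum.comap φ l.head).asIdeal := by
      intro y hy
      rw [RingHom.mem_ker, IsLocalization.map_eq_zero_iff (Q.comap φ).primeCompl] at hy
      obtain ⟨s, hs⟩ := hy
      have h1 : φ (s : E) * φ y ∈ l.head.asIdeal := by
        rw [← map_mul, hs, map_zero]; exact Ideal.zero_mem _
      have h2 : φ (s : E) ∉ l.head.asIdeal := by
        intro hmem
        have hle' : l.head ≤ (⟨Q, hQ⟩ : PrimeSpectrum B) := hlast ▸ l.head_le_last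
        exact s.2 (hle' hmem)
      exact (l.head.isPrime.mem_or_mem h1).resolve_left h2
    refine lt_of_le_of_ne hle ?_
    intro heq
    have hxm : x ∈ (PrimeSpectrum.comap φ l.head).asIdeal := by
      show φ x ∈ l.head.asIdeal
      rw [RingHom.mem_ker.mp hx]; exact Ideal.zero_mem _
    have : x ∈ RingHom.ker (algebraMap E (Localization.AtPrime (Q.comap φ))) := by
      have h := congrArg PrimeSpectrum.asIdeal heq
      simp only at h
      rw [h]; exact hxm
    exact hx0 (RingHom.mem_ker.mp this)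
  have hL := Order.length_le_height_last
    (p := (l.map (PrimeSpectrum.comap φ) hΦ).cons _ hlt)
  rw [RelSeries.last_cons, LTSeries.last_map, hlast, RelSeries.cons_length] at hL
  have hlen' : (l.map (PrimeSpectrum.comap φ) hΦ).length = a := hlen
  rw [hlen'] at hL
  -- arithmetic
  have h1 : ((a + 1 : ℕ) : ℕ∞) + Order.coheight q' ≤ n := (add_le_add hL le_rfl).trans hEq
  have h2 : (n : ℕ∞) ≤ (a : ℕ∞) + Order.coheight q' := by
    rw [← ha] at hB
    exact hB.trans (add_le_add le_rfl hc)
  have hcfin : Order.coheight q' ≠ ⊤ := by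
    intro htop
    rw [htop, add_top, top_le_iff] at h1
    exact ENat.coe_ne_top n h1
  obtain ⟨c, hc'⟩ := ENat.ne_top_iff_exists.mp hcfin
  rw [← hc'] at h1 h2
  have h1' : a + 1 + c ≤ n := by exact_mod_cast h1
  have h2' : n ≤ a + c := by exact_mod_cast h2
  omega

end Groth.Agent.Lib.Helper22.EtaleDim
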