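import Mathlib
import Groth.Agent.Lib.Helper22.EtaleDim2

/-!
# Étaleness at a prime of a quotient of an étale algebra whose kernel dies locally
-/

set_option linter.style.haveILetI false

namespace Groth.Agent.Lib.Helper22.EtaleDim

universe u

open IsLocalRing

theorem isEtaleAt_of_surjective {P E B : Type*} [CommRing P] [CommRing E] [CommRing B]
    [Algebra P E] [Algebra P B] [Algebra.FormallyEtale P E] (φ : E →ₐ[P] B)
    (hφ : Function.Surjective φ) (Q : Ideal B) [hQ : Q.IsPrime]
    (hker : ∀ x ∈ RingHom.ker φ.toRingHom,
      algebraMap E (Localization.AtPrime (Q.comap φ.toRingHom)) x = 0) :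
    Algebra.IsEtaleAt P Q := by
  let ψ : E →+* Localization.AtPrime Q := (algebraMap B (Localization.AtPrime Q)).comp φ.toRingHom
  letI : Algebra E (Localization.AtPrime Q) := ψ.toAlgebra
  haveI : IsScalarTower P E (Localization.AtPrime Q) := by
    refine IsScalarTower.of_algebraMap_eq fun p => ?_
    show algebraMap P (Localization.AtPrime Q) p =
      algebraMap B (Localization.AtPrime Q) (φ (algebraMap P E p))
    rw [φ.commutes, ← IsScalarTower.algebraMap_apply]
  haveI : IsLocalization (Q.comap φ.toRingHom).primeCompl (Localization.AtPrime Q) := by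
    refine ⟨?_, ?_, ?_⟩
    · rintro ⟨y, hy⟩
      have hy' : φ y ∉ Q := hy
      exact IsLocalization.map_units (Localization.AtPrime Q) (⟨φ y, hy'⟩ : Q.primeCompl)
    · intro z
      obtain ⟨⟨b, t⟩, hbt⟩ := IsLocalization.surj Q.primeCompl z
      obtain ⟨eb, rfl⟩ := hφ b
      obtain ⟨et, het⟩ := hφ (t : B)
      have het' : et ∈ (Q.comap φ.toRingHom).primeCompl := by
        show φ et ∉ Q
        rw [het]; exact t.2
      refine ⟨⟨eb, ⟨et, het'⟩⟩, ?_⟩
      show z * algebraMap B (Localization.AtPrime Q) (φ et) =
        algebraMap B (Localization.AtPrime Q) (φ eb)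
      rw [het]; exact hbt
    · intro x y hxy
      have hxy' : algebraMap B (Localization.AtPrime Q) (φ x) =
          algebraMap B (Localization.AtPrime Q) (φ y) := hxy
      obtain ⟨t, ht⟩ := (IsLocalization.eq_iff_exists Q.primeCompl (Localization.AtPrime Q)).mp hxy'
      obtain ⟨et, het⟩ := hφ (t : B)
      have het' : et ∈ (Q.comap φ.toRingHom).primeCompl := by
        show φ et ∉ Q
        rw [het]; exact t.2
      have hmem : et * (x - y) ∈ RingHom.ker φ.toRingHom := by
        rw [RingHom.mem_ker]
        show φ (et * (x - y)) = 0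
        rw [map_mul, map_sub, het, mul_sub, ht, sub_self]
      have h0 := hker _ hmem
      rw [IsLocalization.map_eq_zero_iff (Q.comap φ.toRingHom).primeCompl] at h0
      obtain ⟨c, hc⟩ := h0
      refine ⟨c * ⟨et, het'⟩, ?_⟩
      have : (c : E) * et * (x - y) = 0 := by rw [mul_assoc]; exact hc
      rw [mul_sub, sub_eq_zero] at this
      exact this
  haveI : Algebra.FormallyEtale E (Localization.AtPrime Q) :=
    Algebra.FormallyEtale.of_isLocalization (Q.comap φ.toRingHom).primeCompl
  exact Algebra.FormallyEtale.comp P E (Localization.AtPrime Q)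

/-- étaleness at a prime can be checked after inverting an element outside the prime. -/
theorem isEtaleAt_of_away {P A : Type*} [CommRing P] [CommRing A] [Algebra P A]
    (f : A) (q : Ideal A) [q.IsPrime] (hf : f ∉ q)
    (Q : Ideal (Localization.Away f)) [Q.IsPrime]
    (hQ : Q.comap (algebraMap A (Localization.Away f)) = q)
    (h : Algebra.IsEtaleAt P Q) : Algebra.IsEtaleAt P q := by
  subst hQ
  have : IsLocalization.AtPrime (Localization.AtPrime Q)
      (Q.comap (algebraMap A (Localization.Away f))) :=
    IsLocalization.isLocalization_isLocalization_atPrime_isLocalization (.powers f) _ Q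
  exact (Algebra.FormallyEtale.iff_of_equiv
    ((IsLocalization.algEquiv (Q.comap (algebraMap A (Localization.Away f))).primeCompl
      (Localization.AtPrime (Q.comap (algebraMap A (Localization.Away f))))
      (Localization.AtPrime Q)).restrictScalars P)).mpr h

end Groth.Agent.Lib.Helper22.EtaleDim
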