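import Mathlib
import Groth.Prelude.Def_Flat
import Groth.Agent.Lib.Helper12.DimFT2
import Groth.Agent.Lib.Helper22.EtaleDim3

/-!
# Unramified + full local dimension over `k[x_1..x_n]` implies étale
-/

set_option linter.style.haveILetI false

namespace Groth.Agent.Lib.Helper22.EtaleDim

universe u

open IsLocalRing TopologicalSpace

/-- The local dimension is invariant under open embeddings (copied from Helper12.SchemeDimFT). -/
theorem localDim_eq_of_isOpenEmbedding {Y X : Type*} [TopologicalSpace Y] [TopologicalSpace X]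
    (f : Y → X) (hf : Topology.IsOpenEmbedding f) (y : Y) :
    FlatMor.localDim Y y = FlatMor.localDim X (f y) := by
  unfold FlatMor.localDim
  apply le_antisymm
  · refine le_iInf fun W => ?_
    let V : {V : Opens Y // y ∈ V} := ⟨⟨f ⁻¹' W.1, W.1.2.preimage hf.continuous⟩, W.2⟩
    refine (iInf_le (fun V : {V : Opens Y // y ∈ V} => topologicalKrullDim (V.1 : Set Y)) V).trans ?_
    exact (Set.restrictPreimage_isInducing (W.1 : Set X) hf.isInducing).topologicalKrullDim_le
  · refine le_iInf fun V => ?_
    let W : {W : Opens X // f y ∈ W} :=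
      ⟨⟨f '' V.1, hf.isOpenMap _ V.1.2⟩, ⟨y, V.2, rfl⟩⟩
    refine (iInf_le (fun W : {W : Opens X // f y ∈ W} => topologicalKrullDim (W.1 : Set X)) W).trans ?_
    exact (IsHomeomorph.topologicalKrullDim_eq _
      (hf.isEmbedding.homeomorphImage (V.1 : Set Y)).isHomeomorph).ge

/-- **Unramified + full local dimension ⇒ étale** over a polynomial ring over a field. -/
theorem isEtaleAt_of_unramified (k : Type u) [Field k] (n : ℕ) (A : Type u) [CommRing A]
    [Algebra k A] [Algebra (MvPolynomial (Fin n) k) A] [IsScalarTower k (MvPolynomial (Fin n) k) A]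
    [Algebra.FiniteType (MvPolynomial (Fin n) k) A] (q : Ideal A) [hq : q.IsPrime]
    [Algebra.IsUnramifiedAt (MvPolynomial (Fin n) k) q]
    (hn : (n : WithBot ℕ∞) ≤ FlatMor.localDim (PrimeSpectrum A) ⟨q, hq⟩) :
    Algebra.IsEtaleAt (MvPolynomial (Fin n) k) q := by
  obtain ⟨f, hfq, Pr, φ, hφ⟩ :=
    Algebra.IsUnramifiedAt.exists_hasStandardEtaleSurjectionOn (R := MvPolynomial (Fin n) k) q
  haveI : Algebra.FiniteType k A := Algebra.FiniteType.trans (R := k)
    (S := MvPolynomial (Fin n) k) (A := A) inferInstance inferInstance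
  haveI : Algebra.FiniteType k (Localization.Away f) := inferInstance
  have hdisj : Disjoint ((Submonoid.powers f : Submonoid A) : Set A) (q : Set A) := by
    rw [Set.disjoint_left]
    rintro _ ⟨m, rfl⟩ hm
    exact hfq (hq.mem_of_pow_mem m hm)
  set Q : Ideal (Localization.Away f) := Ideal.map (algebraMap A (Localization.Away f)) q with hQdef
  haveI hQ : Q.IsPrime :=
    IsLocalization.isPrime_of_isPrime_disjoint (Submonoid.powers f) _ q hq hdisj
  have hQcomap : Q.comap (algebraMap A (Localization.Away f)) = q :=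
    IsLocalization.under_map_of_isPrime_disjoint (Submonoid.powers f) _ hq hdisj
  have hld : FlatMor.localDim (PrimeSpectrum (Localization.Away f)) ⟨Q, hQ⟩ =
      FlatMor.localDim (PrimeSpectrum A) ⟨q, hq⟩ := by
    rw [localDim_eq_of_isOpenEmbedding (PrimeSpectrum.comap (algebraMap A (Localization.Away f)))
      (PrimeSpectrum.localization_away_isOpenEmbedding (Localization.Away f) f) ⟨Q, hQ⟩]
    congr 1
    exact PrimeSpectrum.ext hQcomap
  have hB : (n : ℕ∞) ≤ Order.height (⟨Q, hQ⟩ : PrimeSpectrum (Localization.Away f)) +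
      Order.coheight (⟨Q, hQ⟩ : PrimeSpectrum (Localization.Away f)) := by
    have h1 := Groth.Agent.Lib.Helper12.DimFT2.localDim_primeSpectrum k (Localization.Away f)
      ⟨Q, hQ⟩
    rw [hld] at h1
    rw [h1] at hn
    exact_mod_cast hn
  have hE : ∀ q'' : PrimeSpectrum Pr.Ring, Order.height q'' + Order.coheight q'' ≤ (n : ℕ∞) :=
    fun q'' => height_add_coheight_le (R := MvPolynomial (Fin n) k) n
      (Groth.Agent.Lib.Helper22.SmoothDim.ringKrullDim_mvPolynomial_field k n).le q''
  have hdom : IsDomain (Localization.AtPrime (Q.comap φ.toRingHom)) :=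
    isDomain_localization k n Pr.Ring (Q.comap φ.toRingHom)
  have hker := ker_le_ker_localization φ.toRingHom hφ Q n hdom hE hB
  have hEt : Algebra.IsEtaleAt (MvPolynomial (Fin n) k) Q := isEtaleAt_of_surjective φ hφ Q hker
  exact isEtaleAt_of_away f q hfq Q hQcomap hEt

end Groth.Agent.Lib.Helper22.EtaleDim
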