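import Mathlib

/-!
# `dX_i` generate `Ω_{C/k}` iff `C` is formally unramified over `k[X]`
-/

set_option linter.style.haveILetI false

namespace Groth.Agent.Lib.Helper22.EtaleDim

open KaehlerDifferential

variable (k : Type*) [CommRing k] (σ : Type*) (C : Type*) [CommRing C] [Algebra k C]
  [Algebra (MvPolynomial σ k) C] [IsScalarTower k (MvPolynomial σ k) C]

theorem range_mapBaseChange_eq_span :
    LinearMap.range (KaehlerDifferential.mapBaseChange k (MvPolynomial σ k) C) =
      Submodule.span C (Set.range fun i : σ =>
        KaehlerDifferential.D k C (algebraMap (MvPolynomial σ k) C (MvPolynomial.X i))) := by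
  apply le_antisymm
  · rintro _ ⟨x, rfl⟩
    induction x using TensorProduct.induction_on with
    | zero => simp
    | add x y hx hy => rw [map_add]; exact add_mem hx hy
    | tmul c ω =>
      rw [KaehlerDifferential.mapBaseChange_tmul]
      apply Submodule.smul_mem
      have hω : ω ∈ Submodule.span (MvPolynomial σ k)
          (Set.range (KaehlerDifferential.mvPolynomialBasis k σ)) := by
        rw [(KaehlerDifferential.mvPolynomialBasis k σ).span_eq]; trivial
      induction hω using Submodule.span_induction with
      | mem y hy =>
        obtain ⟨i, rfl⟩ := hy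
        rw [KaehlerDifferential.mvPolynomialBasis_apply, KaehlerDifferential.map_D]
        exact Submodule.subset_span ⟨i, rfl⟩
      | zero => simp
      | add x y _ _ hx hy => rw [map_add]; exact add_mem hx hy
      | smul p y _ hy =>
        rw [map_smul, ← algebraMap_smul C p]
        exact Submodule.smul_mem _ _ hy
  · rw [Submodule.span_le]
    rintro _ ⟨i, rfl⟩
    refine ⟨1 ⊗ₜ KaehlerDifferential.D k (MvPolynomial σ k) (MvPolynomial.X i), ?_⟩
    rw [KaehlerDifferential.mapBaseChange_tmul, one_smul, KaehlerDifferential.map_D]

theorem span_eq_top_iff_formallyUnramified :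
    Submodule.span C (Set.range fun i : σ =>
        KaehlerDifferential.D k C (algebraMap (MvPolynomial σ k) C (MvPolynomial.X i))) = ⊤ ↔
      Algebra.FormallyUnramified (MvPolynomial σ k) C := by
  rw [← range_mapBaseChange_eq_span, KaehlerDifferential.range_mapBaseChange]
  constructor
  · intro h
    refine ⟨⟨fun a b => ?_⟩⟩
    obtain ⟨x, rfl⟩ := KaehlerDifferential.map_surjective k (MvPolynomial σ k) C a
    obtain ⟨y, rfl⟩ := KaehlerDifferential.map_surjective k (MvPolynomial σ k) C b
    have hx : x ∈ LinearMap.ker (KaehlerDifferential.map k (MvPolynomial σ k) C C) := by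
      rw [h]; trivial
    have hy : y ∈ LinearMap.ker (KaehlerDifferential.map k (MvPolynomial σ k) C C) := by
      rw [h]; trivial
    rw [LinearMap.mem_ker.mp hx, LinearMap.mem_ker.mp hy]
  · intro h
    rw [eq_top_iff]
    intro x _
    rw [LinearMap.mem_ker]
    exact Subsingleton.elim _ _

end Groth.Agent.Lib.Helper22.EtaleDim
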