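import Mathlib

/-!
# Elements of the maximal ideal with independent differentials generate it (regular case)
-/

set_option linter.style.haveILetI false

namespace Groth.Agent.Lib.Helper22.EtaleDim

open IsLocalRing TensorProduct

variable {k C : Type*} [CommRing k] [CommRing C] [Algebra k C] [IsLocalRing C]

/-- `1 ⊗ dz = 0` in `κ ⊗ Ω_{C/k}` for `z ∈ 𝔪²`. -/
theorem one_tmul_D_eq_zero_of_mem_sq (z : C) (hz : z ∈ maximalIdeal C ^ 2) :
    (1 : ResidueField C) ⊗ₜ[C] KaehlerDifferential.D k C z = 0 := by
  rw [pow_two] at hz
  refine Submodule.mul_induction_on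
    (C := fun z => (1 : ResidueField C) ⊗ₜ[C] KaehlerDifferential.D k C z = 0) hz ?_ ?_
  · intro a ha b hb
    have hra : (a • (1 : ResidueField C)) = 0 := by
      rw [Algebra.smul_def, mul_one, ResidueField.algebraMap_eq]
      exact (residue_eq_zero_iff a).mpr ha
    have hrb : (b • (1 : ResidueField C)) = 0 := by
      rw [Algebra.smul_def, mul_one, ResidueField.algebraMap_eq]
      exact (residue_eq_zero_iff b).mpr hb
    rw [Derivation.leibniz, tmul_add, ← smul_tmul, ← smul_tmul, hra, hrb, zero_tmul, zero_tmul,
      add_zero]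
  · intro x y hx hy
    rw [map_add, tmul_add, hx, hy, add_zero]

variable [IsNoetherianRing C]

/-- If `y_i ∈ 𝔪` have `κ`-linearly independent differentials `1 ⊗ dy_i` and their number is at
least `dim 𝔪/𝔪²`, then they generate `𝔪`. -/
theorem span_eq_maximalIdeal_of_linearIndependent {ι : Type*} [Fintype ι] (y : ι → C)
    (hy : ∀ i, y i ∈ maximalIdeal C)
    (hli : LinearIndependent (ResidueField C)
      (fun i => (1 : ResidueField C) ⊗ₜ[C] KaehlerDifferential.D k C (y i)))
    (hfr : Module.finrank (ResidueField C) (CotangentSpace C) ≤ Fintype.card ι) :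
    Ideal.span (Set.range y) = maximalIdeal C := by
  classical
  let v : ι → CotangentSpace C := fun i => (maximalIdeal C).toCotangent ⟨y i, hy i⟩
  have hv : LinearIndependent (ResidueField C) v := by
    rw [Fintype.linearIndependent_iff]
    intro g hg
    choose c hc using fun i => IsLocalRing.residue_surjective (g i)
    have h1 : (maximalIdeal C).toCotangent (∑ i, c i • (⟨y i, hy i⟩ : maximalIdeal C)) = 0 := by
      rw [map_sum, ← hg]
      refine Finset.sum_congr rfl fun i _ => ?_
      rw [map_smul, ← hc i, ← ResidueField.algebraMap_eq, algebraMap_smul]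
    rw [Ideal.toCotangent_eq_zero] at h1
    have h2 := one_tmul_D_eq_zero_of_mem_sq (k := k) _ h1
    have h3 : ((∑ i, c i • (⟨y i, hy i⟩ : maximalIdeal C) : maximalIdeal C) : C) =
        ∑ i, c i * y i := by
      rw [Submodule.coe_sum]
      rfl
    rw [h3, map_sum, tmul_sum] at h2
    have h4 : ∀ i, (1 : ResidueField C) ⊗ₜ[C] KaehlerDifferential.D k C (c i * y i) =
        g i • ((1 : ResidueField C) ⊗ₜ[C] KaehlerDifferential.D k C (y i)) := by
      intro i
      have hry : (y i • (1 : ResidueField C)) = 0 := by
        rw [Algebra.smul_def, mul_one, ResidueField.algebraMap_eq]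
        exact (residue_eq_zero_iff (y i)).mpr (hy i)
      have hrc : (c i • (1 : ResidueField C)) = g i := by
        rw [Algebra.smul_def, mul_one, ResidueField.algebraMap_eq, hc i]
      rw [Derivation.leibniz, tmul_add, ← smul_tmul, ← smul_tmul, hry, hrc, zero_tmul, add_zero,
        TensorProduct.smul_tmul', smul_eq_mul, mul_one]
    simp_rw [h4] at h2
    exact Fintype.linearIndependent_iff.mp hli g h2
  have hcard : Fintype.card ι = Module.finrank (ResidueField C) (CotangentSpace C) :=
    le_antisymm hv.fintype_card_le_finrank hfr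
  have hspan := hv.span_eq_top_of_card_eq_finrank' hcard
  have hrange : Set.range v = (maximalIdeal C).toCotangent ''
      (Set.range fun i => (⟨y i, hy i⟩ : maximalIdeal C)) := by
    rw [← Set.range_comp]; rfl
  rw [hrange, CotangentSpace.span_image_eq_top_iff] at hspan
  have h5 := congrArg (Submodule.map (maximalIdeal C).subtype) hspan
  rw [Submodule.map_span, Submodule.map_top, Submodule.range_subtype, ← Set.range_comp] at h5
  exact h5

end Groth.Agent.Lib.Helper22.EtaleDim
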