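import Mathlib
import Groth.Agent.Lib.Helper22.EtaleDim4
import Groth.Agent.Lib.Helper22.EtaleDim5
import Groth.Agent.Lib.Helper22.EtaleDim6

/-!
# Étale at a prime over `k[x_1..x_n]`: regularity, basis of differentials
-/

set_option linter.style.haveILetI false

namespace Groth.Agent.Lib.Helper22.EtaleDim

universe u

open IsLocalRing TensorProduct

theorem isLocalization_atPrime_of_comap {A : Type*} [CommRing A] (g : A)
    (Q : Ideal (Localization.Away g)) [Q.IsPrime] (p : Ideal A) [p.IsPrime]
    (h : Q.comap (algebraMap A (Localization.Away g)) = p) :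
    IsLocalization.AtPrime (Localization.AtPrime Q) p := by
  subst h
  exact IsLocalization.isLocalization_isLocalization_atPrime_isLocalization (.powers g) _ Q

section

variable (k : Type u) [Field k] (n : ℕ) (A : Type u) [CommRing A] [Algebra k A]
  [Algebra (MvPolynomial (Fin n) k) A] [IsScalarTower k (MvPolynomial (Fin n) k) A]
  [Algebra.FiniteType (MvPolynomial (Fin n) k) A] (p : Ideal A) [hp : p.IsPrime]

/-- if `A` is étale at `p` over `k[x_1..x_n]` then `A_p` is regular. -/
theorem isRegularLocalRing_of_isEtaleAt (h : Algebra.IsEtaleAt (MvPolynomial (Fin n) k) p) :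
    IsRegularLocalRing (Localization.AtPrime p) := by
  haveI : Algebra.FinitePresentation (MvPolynomial (Fin n) k) A :=
    Algebra.FinitePresentation.of_finiteType.mp inferInstance
  haveI := h
  obtain ⟨g, hgp, hEt⟩ := Algebra.exists_etale_of_isEtaleAt (R := MvPolynomial (Fin n) k) p
  have hdisj : Disjoint ((Submonoid.powers g : Submonoid A) : Set A) (p : Set A) := by
    rw [Set.disjoint_left]
    rintro _ ⟨m, rfl⟩ hm
    exact hgp (hp.mem_of_pow_mem m hm)
  set Q : Ideal (Localization.Away g) := Ideal.map (algebraMap A (Localization.Away g)) p
  haveI hQ : Q.IsPrime :=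
    IsLocalization.isPrime_of_isPrime_disjoint (Submonoid.powers g) _ p hp hdisj
  have hQcomap : Q.comap (algebraMap A (Localization.Away g)) = p :=
    IsLocalization.under_map_of_isPrime_disjoint (Submonoid.powers g) _ hp hdisj
  haveI := isRegularLocalRing_localization k n (Localization.Away g) Q
  haveI : IsLocalization.AtPrime (Localization.AtPrime Q) p :=
    isLocalization_atPrime_of_comap g Q p hQcomap
  exact IsRegularLocalRing.of_ringEquiv
    (IsLocalization.algEquiv p.primeCompl (Localization.AtPrime Q)
      (Localization.AtPrime p)).toRingEquiv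

/-- if `A` is étale at `p` over `k[x_1..x_n]`, the differentials `1 ⊗ dx_i` form a linearly
independent family in `κ(p) ⊗ Ω_{A_p/k}`. -/
theorem linearIndependent_one_tmul_D (h : Algebra.IsEtaleAt (MvPolynomial (Fin n) k) p) :
    LinearIndependent (ResidueField (Localization.AtPrime p))
      (fun i : Fin n => (1 : ResidueField (Localization.AtPrime p)) ⊗ₜ[Localization.AtPrime p]
        KaehlerDifferential.D k (Localization.AtPrime p)
          (algebraMap (MvPolynomial (Fin n) k) (Localization.AtPrime p) (MvPolynomial.X i))) := by
  haveI : Algebra.FormallyEtale (MvPolynomial (Fin n) k) (Localization.AtPrime p) := h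
  let b := ((KaehlerDifferential.mvPolynomialBasis k (Fin n)).baseChange
    (Localization.AtPrime p)).map
      (KaehlerDifferential.tensorKaehlerEquivOfFormallyEtale k (MvPolynomial (Fin n) k)
        (Localization.AtPrime p))
  have hb : ∀ i, b i = KaehlerDifferential.D k (Localization.AtPrime p)
      (algebraMap (MvPolynomial (Fin n) k) (Localization.AtPrime p) (MvPolynomial.X i)) := by
    intro i
    simp only [b, Module.Basis.map_apply, Module.Basis.baseChange_apply,
      KaehlerDifferential.mvPolynomialBasis_apply,
      KaehlerDifferential.tensorKaehlerEquivOfFormallyEtale_apply,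
      KaehlerDifferential.mapBaseChange_tmul, one_smul, KaehlerDifferential.map_D]
  have hli := (b.baseChange (ResidueField (Localization.AtPrime p))).linearIndependent
  convert hli using 1
  funext i
  rw [Module.Basis.baseChange_apply, hb]

end

end Groth.Agent.Lib.Helper22.EtaleDim
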