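import Mathlib
import Groth.Agent.Lib.Helper1.OmSeq

set_option autoImplicit false
set_option linter.style.haveILetI false
set_option linter.unusedVariables false
universe u
open TensorProduct

/-! Algebraic core: rank of the image of `K ⊗ Ω[B₁/A] → Ω[K/A]` when `B₁ → K` factors through a
field `κ` with `B₁ → κ` formally unramified and `κ → K` formally smooth. -/

namespace Groth.Agent.Lib.Helper22.OmegaGen4

open Groth.Agent.Lib.Helper1

section Extract

variable {K V : Type*} [Field K] [AddCommGroup V] [Module K V]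

/-- from a finite family spanning a subspace of dimension `≥ m`, extract `m` linearly independent
members -/
theorem exists_linearIndependent_comp {d : ℕ} (w : Fin d → V) (m : ℕ)
    (hm : m ≤ Module.finrank K (Submodule.span K (Set.range w))) :
    ∃ σ : Fin m → Fin d, LinearIndependent K (w ∘ σ) := by
  obtain ⟨ι', a, ha, hspan, hli⟩ := exists_linearIndependent' K w
  haveI : Finite ι' := Finite.of_injective a ha
  haveI : Fintype ι' := Fintype.ofFinite ι'
  have hcard : Module.finrank K (Submodule.span K (Set.range (w ∘ a))) = Fintype.card ι' :=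
    finrank_span_eq_card hli
  rw [hspan] at hcard
  have hle : Fintype.card (Fin m) ≤ Fintype.card ι' := by
    rw [Fintype.card_fin, ← hcard]; exact hm
  obtain ⟨emb⟩ := Function.Embedding.nonempty_of_card_le hle
  refine ⟨a ∘ emb, ?_⟩
  have := hli.comp emb emb.injective
  exact this

end Extract

section Core

variable (A B₁ B₂ κ K : Type u) [CommRing A] [CommRing B₁] [CommRing B₂] [Field κ] [Field K]
  [Algebra A B₁] [Algebra A B₂] [Algebra B₁ B₂] [IsScalarTower A B₁ B₂]
  [Algebra A κ] [Algebra B₁ κ] [IsScalarTower A B₁ κ]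
  [Algebra A K] [Algebra B₁ K] [Algebra B₂ K] [Algebra κ K]
  [IsScalarTower A B₁ K] [IsScalarTower A B₂ K] [IsScalarTower B₁ B₂ K]
  [IsScalarTower A κ K] [IsScalarTower B₁ κ K]

/-- the `B₂`-linear map `B₂ ⊗ Ω[B₁/A] → Ω[K/A]` -/
noncomputable def toK : B₂ ⊗[B₁] Ω[B₁⁄A] →ₗ[B₂] Ω[K⁄A] :=
  ((KaehlerDifferential.map A A B₂ K).restrictScalars B₂).comp
    (KaehlerDifferential.mapBaseChange A B₁ B₂)

theorem toK_tmul (b : B₂) (x : B₁) :
    toK A B₁ B₂ K (b ⊗ₜ KaehlerDifferential.D A B₁ x) =
      b • KaehlerDifferential.D A K (algebraMap B₁ K x) := by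
  unfold toK
  simp only [LinearMap.coe_comp, Function.comp_apply, LinearMap.coe_restrictScalars,
    KaehlerDifferential.mapBaseChange_tmul, map_smul, KaehlerDifferential.map_D]
  rw [← IsScalarTower.algebraMap_apply B₁ B₂ K]

variable [Algebra.FormallyUnramified B₁ κ] [Algebra.FormallySmooth κ K]

include κ in
theorem le_finrank_span_toK {d : ℕ} (z : Fin d → B₂ ⊗[B₁] Ω[B₁⁄A])
    (hz : Submodule.span B₂ (Set.range z) = ⊤) (m : ℕ) (hm : m ≤ Module.finrank κ Ω[κ⁄A]) :
    m ≤ Module.finrank K (Submodule.span K (Set.range (fun j => toK A B₁ B₂ K (z j)))) := by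
  set W : Submodule K Ω[K⁄A] := Submodule.span K (Set.range (fun j => toK A B₁ B₂ K (z j))) with hW
  -- every `toK` value lies in `W`
  have h1 : ∀ y : B₂ ⊗[B₁] Ω[B₁⁄A], toK A B₁ B₂ K y ∈ W := by
    intro y
    have hy : y ∈ Submodule.span B₂ (Set.range z) := by rw [hz]; trivial
    induction hy using Submodule.span_induction with
    | mem y hy =>
      obtain ⟨j, rfl⟩ := hy
      exact Submodule.subset_span ⟨j, rfl⟩
    | zero => rw [map_zero]; exact W.zero_mem
    | add a b _ _ ha hb => rw [map_add]; exact W.add_mem ha hb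
    | smul r a _ ha =>
      rw [map_smul, ← algebraMap_smul K r]
      exact W.smul_mem _ ha
  -- `D(b)` lies in `W` for `b` from `B₁`
  have h2 : ∀ x : B₁, KaehlerDifferential.D A K (algebraMap B₁ K x) ∈ W := by
    intro x
    have := h1 ((1 : B₂) ⊗ₜ KaehlerDifferential.D A B₁ x)
    rwa [toK_tmul, one_smul] at this
  -- `D(t)` lies in `W` for `t` from `κ`
  have hsurj : Function.Surjective (KaehlerDifferential.mapBaseChange A B₁ κ) :=
    (OmSeq.mapBaseChange_surjective_iff A B₁ κ).mpr inferInstance
  have h3 : ∀ ω : Ω[κ⁄A], KaehlerDifferential.map A A κ K ω ∈ W := by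
    intro ω
    obtain ⟨y, rfl⟩ := hsurj ω
    induction y using TensorProduct.induction_on with
    | zero => simp only [map_zero]; exact W.zero_mem
    | add a b ha hb => simp only [map_add]; exact W.add_mem ha hb
    | tmul t ω' =>
      have hω' : ω' ∈ Submodule.span B₁ (Set.range (KaehlerDifferential.D A B₁)) := by
        rw [KaehlerDifferential.span_range_derivation]; trivial
      induction hω' using Submodule.span_induction with
      | mem y hy =>
        obtain ⟨x, rfl⟩ := hy
        rw [KaehlerDifferential.mapBaseChange_tmul, map_smul, KaehlerDifferential.map_D,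
          KaehlerDifferential.map_D, ← IsScalarTower.algebraMap_apply B₁ κ K,
          ← algebraMap_smul K t]
        exact W.smul_mem _ (h2 x)
      | zero => simp only [TensorProduct.tmul_zero, map_zero]; exact W.zero_mem
      | add a b _ _ ha hb => simp only [TensorProduct.tmul_add, map_add]; exact W.add_mem ha hb
      | smul r a _ ha =>
        rw [TensorProduct.tmul_smul, ← algebraMap_smul κ r (t ⊗ₜ[B₁] a), map_smul, map_smul,
          ← algebraMap_smul K (algebraMap B₁ κ r)]
        exact W.smul_mem _ ha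
  have hinj : Function.Injective (KaehlerDifferential.mapBaseChange A κ K) :=
    OmSeq.mapBaseChange_injective_of_formallySmooth A κ K
  have h4 : LinearMap.range (KaehlerDifferential.mapBaseChange A κ K) ≤ W := by
    rintro _ ⟨y, rfl⟩
    induction y using TensorProduct.induction_on with
    | zero => simp only [map_zero]; exact W.zero_mem
    | add a b ha hb => simp only [map_add]; exact W.add_mem ha hb
    | tmul t ω => rw [KaehlerDifferential.mapBaseChange_tmul]; exact W.smul_mem _ (h3 ω)
  haveI : Module.Finite K W := by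
    rw [hW]; exact FiniteDimensional.span_of_finite K (Set.finite_range _)
  calc m ≤ Module.finrank κ Ω[κ⁄A] := hm
    _ = Module.finrank K (K ⊗[κ] Ω[κ⁄A]) := (Module.finrank_baseChange).symm
    _ = Module.finrank K (LinearMap.range (KaehlerDifferential.mapBaseChange A κ K)) :=
        (LinearMap.finrank_range_of_inj hinj).symm
    _ ≤ Module.finrank K W := Submodule.finrank_mono h4

include κ in
/-- **Core lemma.** If `z` spans `B₂ ⊗ Ω[B₁/A]` and `m ≤ dim_κ Ω[κ/A]`, then `m` of the images of
the `z j` in `Ω[K/A]` are `K`-linearly independent. -/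
theorem exists_linearIndependent_toK {d : ℕ} (z : Fin d → B₂ ⊗[B₁] Ω[B₁⁄A])
    (hz : Submodule.span B₂ (Set.range z) = ⊤) (m : ℕ) (hm : m ≤ Module.finrank κ Ω[κ⁄A]) :
    ∃ σ : Fin m → Fin d, LinearIndependent K (fun i => toK A B₁ B₂ K (z (σ i))) :=
  exists_linearIndependent_comp (fun j => toK A B₁ B₂ K (z j)) m
    (le_finrank_span_toK A B₁ B₂ κ K z hz m hm)

omit [IsScalarTower A B₁ K] [IsScalarTower B₁ B₂ K] in
/-- `K`-linear independence of the images in `Ω[K/A]` gives `B₂`-linear independence in
`Ω[B₂/A]` when `B₂ → K` is injective. -/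
theorem linearIndependent_of_toK (hinj : Function.Injective (algebraMap B₂ K)) {m : ℕ}
    (y : Fin m → B₂ ⊗[B₁] Ω[B₁⁄A])
    (hy : LinearIndependent K (fun i => toK A B₁ B₂ K (y i))) :
    LinearIndependent B₂ (fun i => KaehlerDifferential.mapBaseChange A B₁ B₂ (y i)) := by
  rw [Fintype.linearIndependent_iff] at hy ⊢
  intro b hb i
  have h1 := congrArg (KaehlerDifferential.map A A B₂ K) hb
  rw [map_sum, map_zero] at h1
  have h2 : ∑ j, (algebraMap B₂ K (b j)) • toK A B₁ B₂ K (y j) = 0 := by
    rw [← h1]
    apply Finset.sum_congr rfl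
    intro j _
    rw [algebraMap_smul, map_smul]
    rfl
  have := hy (fun j => algebraMap B₂ K (b j)) h2 i
  exact hinj (by rw [this, map_zero])

end Core

end Groth.Agent.Lib.Helper22.OmegaGen4
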