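import Mathlib
import Groth.Agent.Lib.Helper6.CartierIneq3

set_option autoImplicit false
set_option linter.style.haveILetI false
set_option linter.unusedVariables false
universe u
open TensorProduct

/-! `trdeg ≤ dim Ω` for finitely generated field extensions, over a base `A` which is a quotient of
the ground field. -/

namespace Groth.Agent.Lib.Helper22.OmegaGen5

/-- if `k → A` is surjective then `Ω[B/k] → Ω[B/A]` is bijective -/
theorem map_bijective_of_surjective (k A B : Type*) [CommRing k] [CommRing A] [CommRing B]
    [Algebra k A] [Algebra A B] [Algebra k B] [IsScalarTower k A B]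
    (h : Function.Surjective (algebraMap k A)) :
    Function.Bijective (KaehlerDifferential.map k A B B) := by
  refine ⟨?_, KaehlerDifferential.map_surjective k A B⟩
  rw [injective_iff_map_eq_zero]
  intro x hx
  obtain ⟨y, rfl⟩ := (KaehlerDifferential.exact_mapBaseChange_map k A B x).mp hx
  haveI : Subsingleton Ω[A⁄k] := KaehlerDifferential.subsingleton_of_surjective k A h
  rw [Subsingleton.elim y 0, map_zero]

/-- `trdeg_k κ ≤ dim_κ Ω[κ/A]` when `κ/k` is a finitely generated field extension and `A` is a
quotient of `k`. -/
theorem le_finrank_kaehler (k A κ : Type u) [Field k] [CommRing A] [Field κ]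
    [Algebra k A] [Algebra A κ] [Algebra k κ] [IsScalarTower k A κ] [Algebra.EssFiniteType k κ]
    (h : Function.Surjective (algebraMap k A)) (m : ℕ) (hm : Algebra.trdeg k κ = m) :
    m ≤ Module.finrank κ Ω[κ⁄A] := by
  obtain ⟨-, -, n, hn, hle⟩ := Groth.Agent.Lib.Helper6.CartierIneq.good_of_essFiniteType k κ
  have hnm : n = m := by
    have : (n : Cardinal.{u}) = (m : Cardinal.{u}) := hn.symm.trans hm
    exact_mod_cast this
  have e : Ω[κ⁄k] ≃ₗ[κ] Ω[κ⁄A] :=
    LinearEquiv.ofBijective (KaehlerDifferential.map k A κ κ) (map_bijective_of_surjective k A κ h)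
  rw [← e.finrank_eq]
  omega

end Groth.Agent.Lib.Helper22.OmegaGen5
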