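import Mathlib
import Groth.Agent.Lib.Helper14.GeomRedAt
import Groth.Agent.Lib.Helper14.SepGenSmooth
import Groth.Agent.Lib.Helper3.Reduced

set_option autoImplicit false
set_option linter.style.haveILetI false
universe u
open CategoryTheory CategoryTheory.Limits AlgebraicGeometry TopologicalSpace Opposite

namespace Groth.Agent.Lib.Helper22.OmegaGen2

/-- localization of a field at a prime is the field itself -/
theorem bijective_algebraMap_of_isField_of_atPrime {A S : Type*} [CommRing A] [CommRing S]
    [Algebra A S] (hA : IsField A) (p : Ideal A) [p.IsPrime] [IsLocalization.AtPrime S p] :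
    Function.Bijective (algebraMap A S) := by
  have H : p.primeCompl ≤ IsUnit.submonoid A := by
    intro m hm
    have hm0 : m ≠ 0 := fun h0 => hm (h0 ▸ p.zero_mem)
    obtain ⟨b, hb⟩ := hA.mul_inv_cancel hm0
    exact isUnit_iff_exists_inv.mpr ⟨b, hb⟩
  exact (IsLocalization.atUnits A p.primeCompl (S := S) H).bijective

/-- the residue map at the generic point of an integral scheme is bijective -/
theorem residue_genericPoint_bijective (Z : Scheme.{u}) [IsIntegral Z] :
    Function.Bijective (Z.residue (genericPoint Z)).hom := by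
  have hF : IsField (Z.presheaf.stalk (genericPoint Z)) := Field.toIsField Z.functionField
  have hmax : IsLocalRing.maximalIdeal (Z.presheaf.stalk (genericPoint Z)) = ⊥ :=
    IsLocalRing.isField_iff_maximalIdeal_eq.mp hF
  refine ⟨?_, Z.residue_surjective _⟩
  rw [injective_iff_map_eq_zero]
  intro a ha
  have hm : a ∈ IsLocalRing.maximalIdeal (Z.presheaf.stalk (genericPoint Z)) :=
    (IsLocalRing.residue_eq_zero_iff a).mp ha
  rw [hmax] at hm
  exact hm

/-- for a field `K`, the canonical map `K ⟶ O_{Spec K, s}` is bijective -/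
theorem toStalk_bijective_of_field (K : Type u) [Field K] (s : ↥(Spec (CommRingCat.of K))) :
    Function.Bijective ((Scheme.ΓSpecIso (CommRingCat.of K)).inv ≫
      (Spec (CommRingCat.of K)).presheaf.germ ⊤ s trivial).hom := by
  have h1 : Function.Bijective (Scheme.ΓSpecIso (CommRingCat.of K)).inv.hom :=
    ConcreteCategory.bijective_of_isIso (Scheme.ΓSpecIso (CommRingCat.of K)).inv
  have hA : IsField Γ(Spec (CommRingCat.of K), ⊤) :=
    MulEquiv.isField (Field.toIsField K)
      (Scheme.ΓSpecIso (CommRingCat.of K)).commRingCatIsoToRingEquiv.toMulEquiv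
  letI : Algebra Γ(Spec (CommRingCat.of K), ⊤) ((Spec (CommRingCat.of K)).presheaf.stalk s) :=
    ((Spec (CommRingCat.of K)).presheaf.germ ⊤ s trivial).hom.toAlgebra
  haveI loc : IsLocalization.AtPrime ((Spec (CommRingCat.of K)).presheaf.stalk s)
      ((isAffineOpen_top (Spec (CommRingCat.of K))).primeIdealOf ⟨s, trivial⟩).asIdeal :=
    (isAffineOpen_top (Spec (CommRingCat.of K))).isLocalization_stalk ⟨s, trivial⟩
  have h2 : Function.Bijective ((Spec (CommRingCat.of K)).presheaf.germ ⊤ s trivial).hom :=
    bijective_algebraMap_of_isField_of_atPrime hA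
      ((isAffineOpen_top (Spec (CommRingCat.of K))).primeIdealOf ⟨s, trivial⟩).asIdeal
  rw [CommRingCat.hom_comp]
  exact h2.comp h1

/-- Let `j : Spec K ⟶ Z` be flat and a preimmersion (`K` a field), and `f : X ⟶ Z` locally of
finite type with `X ×_Z Spec K ⟶ Spec K` geometrically reduced. At a point `w` of the fibre product
whose image `x₀` in `X` has a field as local ring, the stalk map of `f` at `x₀` is formally
smooth. -/
theorem formallySmooth_stalkMap_fst {X Z : Scheme.{u}} (f : X ⟶ Z) [LocallyOfFiniteType f]
    (K : Type u) [Field K] (j : Spec (CommRingCat.of K) ⟶ Z) [Flat j] [IsPreimmersion j]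
    (hsep : GeometricallyReduced (pullback.snd f j)) (w : ↥(pullback f j))
    (hF : IsField (X.presheaf.stalk ((pullback.fst f j) w))) :
    (f.stalkMap ((pullback.fst f j) w)).hom.FormallySmooth := by
  have he : Function.Bijective ((pullback.fst f j).stalkMap w).hom :=
    Groth.Agent.Lib.Helper14.GeomRedAt.stalkMap_bijective_of_flat_of_surjectiveOnStalks _ w
  have hjs : Function.Bijective (j.stalkMap ((pullback.snd f j) w)).hom :=
    Groth.Agent.Lib.Helper14.GeomRedAt.stalkMap_bijective_of_flat_of_surjectiveOnStalks _ _
  have hτ := toStalk_bijective_of_field K ((pullback.snd f j) w)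
  haveI isoτ : IsIso ((Scheme.ΓSpecIso (CommRingCat.of K)).inv ≫
      (Spec (CommRingCat.of K)).presheaf.germ ⊤ ((pullback.snd f j) w) trivial) :=
    (ConcreteCategory.isIso_iff_bijective _).mpr hτ
  -- the algebra structure on the local ring of the fibre product
  letI algW : Algebra K ((pullback f j).presheaf.stalk w) :=
    (((Scheme.ΓSpecIso (CommRingCat.of K)).inv ≫
      (Spec (CommRingCat.of K)).presheaf.germ ⊤ ((pullback.snd f j) w) trivial) ≫
        (pullback.snd f j).stalkMap w).hom.toAlgebra
  have hc : (pullback f j).fromSpecStalk w ≫ pullback.snd f j =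
      Spec.map (CommRingCat.ofHom (algebraMap K ((pullback f j).presheaf.stalk w))) := by
    have h1 : CommRingCat.ofHom (algebraMap K ((pullback f j).presheaf.stalk w)) =
        ((Scheme.ΓSpecIso (CommRingCat.of K)).inv ≫
          (Spec (CommRingCat.of K)).presheaf.germ ⊤ ((pullback.snd f j) w) trivial) ≫
            (pullback.snd f j).stalkMap w := rfl
    rw [h1, Spec.map_comp, ← Spec.fromSpecStalk_eq, Scheme.SpecMap_stalkMap_fromSpecStalk]
  have hgr : Algebra.IsGeometricallyReduced K ((pullback f j).presheaf.stalk w) :=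
    (Groth.Agent.Lib.Helper14.GeomRedAt.isGeomReducedAt_iff_stalk (pullback.snd f j) w hc).mp
      ((Groth.Agent.Lib.Helper14.GeomRedAt.geometricallyReduced_iff_forall_isGeomReducedAt
        (pullback.snd f j)).mp hsep w)
  have hEss0 : ((pullback.snd f j).stalkMap w).hom.EssFiniteType :=
    LocallyOfFiniteType.stalkMap (pullback.snd f j) w
  have hEss : Algebra.EssFiniteType K ((pullback f j).presheaf.stalk w) :=
    (RingHom.EssFiniteType.respectsIso.cancel_left_isIso
      ((Scheme.ΓSpecIso (CommRingCat.of K)).inv ≫
        (Spec (CommRingCat.of K)).presheaf.germ ⊤ ((pullback.snd f j) w) trivial)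
      ((pullback.snd f j).stalkMap w)).mpr hEss0
  have hFW : IsField ((pullback f j).presheaf.stalk w) :=
    MulEquiv.isField hF (RingEquiv.ofBijective _ he).symm.toMulEquiv
  have hsm : @Algebra.FormallySmooth K ((pullback f j).presheaf.stalk w) _ _ algW := by
    letI fieldW : Field ((pullback f j).presheaf.stalk w) := hFW.toField
    exact @Groth.Agent.Lib.Helper14.formallySmooth_of_isGeometricallyReduced K
      ((pullback f j).presheaf.stalk w) _ fieldW algW hEss hgr
  have hφ : (((Scheme.ΓSpecIso (CommRingCat.of K)).inv ≫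
      (Spec (CommRingCat.of K)).presheaf.germ ⊤ ((pullback.snd f j) w) trivial) ≫
        (pullback.snd f j).stalkMap w).hom.FormallySmooth := hsm
  have hg : ((pullback.snd f j).stalkMap w).hom.FormallySmooth :=
    (RingHom.FormallySmooth.respectsIso.cancel_left_isIso
      ((Scheme.ΓSpecIso (CommRingCat.of K)).inv ≫
        (Spec (CommRingCat.of K)).presheaf.germ ⊤ ((pullback.snd f j) w) trivial)
      ((pullback.snd f j).stalkMap w)).mp hφ
  -- the comparison of stalk maps
  have key := Scheme.Hom.stalkMap_congr_hom (pullback.fst f j ≫ f) (pullback.snd f j ≫ j)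
    pullback.condition w
  rw [Scheme.Hom.stalkMap_comp, Scheme.Hom.stalkMap_comp] at key
  haveI isoe : IsIso ((pullback.fst f j).stalkMap w) :=
    (ConcreteCategory.isIso_iff_bijective _).mpr he
  have H : (f.stalkMap ((pullback.fst f j) w) ≫ (pullback.fst f j).stalkMap w).hom.FormallySmooth := by
    rw [key]
    simp only [CommRingCat.hom_comp]
    refine RingHom.FormallySmooth.comp (RingHom.FormallySmooth.of_bijective ?_)
      (RingHom.FormallySmooth.comp (RingHom.FormallySmooth.of_bijective hjs) hg)
    exact ConcreteCategory.bijective_of_isIso _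
  exact (RingHom.FormallySmooth.respectsIso.cancel_right_isIso
    (f.stalkMap ((pullback.fst f j) w)) ((pullback.fst f j).stalkMap w)).mp H

end Groth.Agent.Lib.Helper22.OmegaGen2
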