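import Mathlib
import Groth.Agent.Lib.Helper22.OmegaGen2

set_option autoImplicit false
set_option linter.style.haveILetI false
set_option linter.unusedVariables false
universe u
open CategoryTheory CategoryTheory.Limits AlgebraicGeometry TopologicalSpace Opposite

/-! Fibres over a (not necessarily generic) point: the local ring of the fibre at a point lying
over a point of `X` whose local ring is a field. -/

namespace Groth.Agent.Lib.Helper22.OmegaGen6

open Groth.Agent.Lib.Helper22.OmegaGen2

/-- `appLE` followed by a germ only depends on the point. -/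
theorem appLE_germ {P Z : Scheme.{u}} (h : P ⟶ Z) (U₁ : Z.Opens) (W : P.Opens)
    (e : W ≤ h ⁻¹ᵁ U₁) (w : P) (hw : w ∈ W) :
    h.appLE U₁ W e ≫ P.presheaf.germ W w hw =
      Z.presheaf.germ U₁ (h w) (e hw) ≫ h.stalkMap w := by
  rw [Scheme.Hom.germ_stalkMap, Scheme.Hom.appLE, Category.assoc, P.presheaf.germ_res]

theorem appLE_germ_congr {P Z : Scheme.{u}} (h h' : P ⟶ Z) (hh : h = h') (U₁ : Z.Opens)
    (W W' : P.Opens) (e : W ≤ h ⁻¹ᵁ U₁) (e' : W' ≤ h' ⁻¹ᵁ U₁) (w : P) (hw : w ∈ W) (hw' : w ∈ W') :
    h.appLE U₁ W e ≫ P.presheaf.germ W w hw = h'.appLE U₁ W' e' ≫ P.presheaf.germ W' w hw' := by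
  subst hh
  rw [Scheme.Hom.appLE, Scheme.Hom.appLE, Category.assoc, Category.assoc, P.presheaf.germ_res,
    P.presheaf.germ_res]

/-- the map on sections induced by `Spec κ(η) ⟶ Z` is evaluation at `η` -/
theorem appLE_fromSpecResidueField (Z : Scheme.{u}) (η : Z) (U₁ : Z.Opens) (hη : η ∈ U₁)
    (e : (⊤ : (Spec (Z.residueField η)).Opens) ≤ (Z.fromSpecResidueField η) ⁻¹ᵁ U₁) :
    (Z.fromSpecResidueField η).appLE U₁ ⊤ e ≫ (Scheme.ΓSpecIso (Z.residueField η)).hom =
      Z.evaluation U₁ η hη := by
  haveI : IsLocalHom (Z.residue η).hom :=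
    inferInstanceAs (IsLocalHom (IsLocalRing.residue (Z.presheaf.stalk η)))
  have hpt : (Spec.map (Z.residue η) ≫ Z.fromSpecStalk η)
      (IsLocalRing.closedPoint (Z.residueField η)) = η := by
    rw [Scheme.Hom.comp_apply, Spec_closedPoint, Scheme.fromSpecStalk_closedPoint]
  have hU : (Spec.map (Z.residue η) ≫ Z.fromSpecStalk η)
      (IsLocalRing.closedPoint (Z.residueField η)) ∈ U₁ := by rw [hpt]; exact hη
  have h1 := Scheme.germ_stalkClosedPointTo_Spec_fromSpecStalk (Z.residue η) U₁ hU
  have h2 := Scheme.germ_stalkClosedPointTo (Spec.map (Z.residue η) ≫ Z.fromSpecStalk η) U₁ hU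
  rw [h2] at h1
  rw [← Scheme.germ_residue]
  rw [← h1]
  change ((Spec.map (Z.residue η) ≫ Z.fromSpecStalk η).app U₁ ≫ _) ≫ _ = _
  rw [Category.assoc]
  congr 1


/-- Let `j : Spec K ⟶ Z` be a preimmersion (`K` a field) and `f : X ⟶ Z` locally of finite type
with `X ×_Z Spec K ⟶ Spec K` geometrically reduced. At a point `w` of the fibre product whose
image in `X` has a field as local ring, the local ring of the fibre product at `w` is that field,
and it is formally smooth over `K`. -/
theorem formallySmooth_toStalk_snd {X Z : Scheme.{u}} (f : X ⟶ Z) [LocallyOfFiniteType f]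
    (K : Type u) [Field K] (j : Spec (CommRingCat.of K) ⟶ Z) [IsPreimmersion j]
    (hsep : GeometricallyReduced (pullback.snd f j)) (w : ↥(pullback f j))
    (hF : IsField (X.presheaf.stalk ((pullback.fst f j) w))) :
    Function.Bijective ((pullback.fst f j).stalkMap w).hom ∧
    (((Scheme.ΓSpecIso (CommRingCat.of K)).inv ≫
      (Spec (CommRingCat.of K)).presheaf.germ ⊤ ((pullback.snd f j) w) trivial) ≫
        (pullback.snd f j).stalkMap w).hom.FormallySmooth := by
  have he : Function.Bijective ((pullback.fst f j).stalkMap w).hom := by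
    refine ⟨?_, (pullback.fst f j).stalkMap_surjective w⟩
    rw [injective_iff_map_eq_zero]
    intro a ha
    by_contra hne
    obtain ⟨b, hb⟩ := hF.mul_inv_cancel hne
    have h1 : ((pullback.fst f j).stalkMap w).hom (a * b) = 1 := by rw [hb, map_one]
    rw [map_mul, ha, zero_mul] at h1
    exact zero_ne_one h1
  refine ⟨he, ?_⟩
  have hτ := toStalk_bijective_of_field K ((pullback.snd f j) w)
  haveI isoτ : IsIso ((Scheme.ΓSpecIso (CommRingCat.of K)).inv ≫
      (Spec (CommRingCat.of K)).presheaf.germ ⊤ ((pullback.snd f j) w) trivial) :=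
    (ConcreteCategory.isIso_iff_bijective _).mpr hτ
  letI algW : Algebra K ((pullback f j).presheaf.stalk w) :=
    (((Scheme.ΓSpecIso (CommRingCat.of K)).inv ≫
      (Spec (CommRingCat.of K)).presheaf.germ ⊤ ((pullback.snd f j) w) trivial) ≫
        (pullback.snd f j).stalkMap w).hom.toAlgebra
  have hc : (pullback f j).fromSpecStalk w ≫ pullback.snd f j =
      Spec.map (CommRingCat.ofHom (algebraMap K ((pullback f j).presheaf.stalk w))) := by
    have h1 : CommRingCat.ofHom (algebraMap K ((pullback f j).presheaf.stalk w)) =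
        ((Scheme.ΓSpecIso (CommRingCat.of K)).inv ≫
          (Spec (CommRingCat.of K)).presheaf.germ ⊤ ((pullback.snd f j) w) trivial) ≫
            (pullback.snd f j).stalkMap w := rfl
    rw [h1, Spec.map_comp, ← Spec.fromSpecStalk_eq, Scheme.SpecMap_stalkMap_fromSpecStalk]
  have hgr : Algebra.IsGeometricallyReduced K ((pullback f j).presheaf.stalk w) :=
    (Groth.Agent.Lib.Helper14.GeomRedAt.isGeomReducedAt_iff_stalk (pullback.snd f j) w hc).mp
      ((Groth.Agent.Lib.Helper14.GeomRedAt.geometricallyReduced_iff_forall_isGeomReducedAt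
        (pullback.snd f j)).mp hsep w)
  have hEss0 : ((pullback.snd f j).stalkMap w).hom.EssFiniteType :=
    LocallyOfFiniteType.stalkMap (pullback.snd f j) w
  have hEss : Algebra.EssFiniteType K ((pullback f j).presheaf.stalk w) :=
    (RingHom.EssFiniteType.respectsIso.cancel_left_isIso
      ((Scheme.ΓSpecIso (CommRingCat.of K)).inv ≫
        (Spec (CommRingCat.of K)).presheaf.germ ⊤ ((pullback.snd f j) w) trivial)
      ((pullback.snd f j).stalkMap w)).mpr hEss0
  have hFW : IsField ((pullback f j).presheaf.stalk w) :=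
    MulEquiv.isField hF (RingEquiv.ofBijective _ he).symm.toMulEquiv
  have hsm : @Algebra.FormallySmooth K ((pullback f j).presheaf.stalk w) _ _ algW := by
    letI fieldW : Field ((pullback f j).presheaf.stalk w) := hFW.toField
    exact @Groth.Agent.Lib.Helper14.formallySmooth_of_isGeometricallyReduced K
      ((pullback f j).presheaf.stalk w) _ fieldW algW hEss hgr
  exact hsm

/-- the two ways from `Γ(Z, U₁)` to the local ring of the fibre `X_η` at `w` agree -/
theorem tower_identity {X Z : Scheme.{u}} (f : X ⟶ Z) (η : Z)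
    (w : ↥(pullback f (Z.fromSpecResidueField η)))
    {U₁ : Z.Opens} {U₂ : X.Opens} (hη : η ∈ U₁) (e : U₂ ≤ f ⁻¹ᵁ U₁)
    (hx : (pullback.fst f (Z.fromSpecResidueField η)) w ∈ U₂) :
    f.appLE U₁ U₂ e ≫ X.presheaf.germ U₂ _ hx ≫
        (pullback.fst f (Z.fromSpecResidueField η)).stalkMap w =
      Z.evaluation U₁ η hη ≫ ((Scheme.ΓSpecIso (Z.residueField η)).inv ≫
        (Spec (Z.residueField η)).presheaf.germ ⊤
          ((pullback.snd f (Z.fromSpecResidueField η)) w) trivial) ≫
          (pullback.snd f (Z.fromSpecResidueField η)).stalkMap w := by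
  have e' : (⊤ : (Spec (Z.residueField η)).Opens) ≤ (Z.fromSpecResidueField η) ⁻¹ᵁ U₁ := by
    intro s _
    change (Z.fromSpecResidueField η) s ∈ U₁
    rw [Scheme.fromSpecResidueField_apply]
    exact hη
  rw [← appLE_fromSpecResidueField Z η U₁ hη e']
  simp only [Category.assoc, Iso.hom_inv_id_assoc]
  rw [Scheme.Hom.germ_stalkMap, Scheme.Hom.germ_stalkMap]
  rw [(pullback.fst f (Z.fromSpecResidueField η)).app_eq_appLE,
    (pullback.snd f (Z.fromSpecResidueField η)).app_eq_appLE]
  rw [← Category.assoc, ← Category.assoc, Scheme.Hom.appLE_comp_appLE,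
    Scheme.Hom.appLE_comp_appLE]
  exact appLE_germ_congr _ _ pullback.condition U₁ _ _ _ _ w _ _

end Groth.Agent.Lib.Helper22.OmegaGen6
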