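import Mathlib
import Groth.Agent.Lib.Helper22.OmegaGen3
import Groth.Agent.Lib.Helper22.OmegaGen4
import Groth.Agent.Lib.Helper22.OmegaGen5
import Groth.Agent.Lib.Helper22.OmegaGen6
import Groth.Agent.Lib.Helper12.SchemeDimFT3
import Groth.Agent.Lib.Helper3.FreeBasis

set_option autoImplicit false
set_option linter.style.haveILetI false
set_option linter.unusedVariables false
universe u
open CategoryTheory CategoryTheory.Limits AlgebraicGeometry TopologicalSpace Opposite TensorProduct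

/-! Generic rank of `f^*Ω_Z → Ω_X` for `f : X → Z` with `X` integral, in terms of the dimension of
the closure of the image. -/

namespace Groth.Agent.Lib.Helper22.OmegaGen7

open Groth.Agent.Lib.Helper3 Groth.Agent.Lib.Helper3.QCSec Groth.Agent.Lib.Helper3.FreeBasis
open Groth.Agent.Lib.Helper12

/-- copy of a commutative ring which is a field, carrying a `Field` instance -/
def FieldCopy (R : Type u) [CommRing R] (h : IsField R) : Type u := R

noncomputable instance (R : Type u) [CommRing R] (h : IsField R) : Field (FieldCopy R h) :=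
  h.toField

section Rank

variable (k : Type u) [Field k] (Z : Scheme.{u})
  [Z.Over (Spec (CommRingCat.of k))]

theorem formallyUnramified_evaluation {U₁ : Z.Opens} (hU₁ : IsAffineOpen U₁) (η : Z)
    (hη : η ∈ U₁) :
    letI : Algebra Γ(Z, U₁) (Z.residueField η) := (Z.evaluation U₁ η hη).hom.toAlgebra
    Algebra.FormallyUnramified Γ(Z, U₁) (Z.residueField η) := by
  letI algB₁κ : Algebra Γ(Z, U₁) (Z.residueField η) := (Z.evaluation U₁ η hη).hom.toAlgebra
  letI algB₁St : Algebra Γ(Z, U₁) (Z.presheaf.stalk η) := (Z.presheaf.germ U₁ η hη).hom.toAlgebra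
  letI algStκ : Algebra (Z.presheaf.stalk η) (Z.residueField η) := (Z.residue η).hom.toAlgebra
  haveI tw2 : IsScalarTower Γ(Z, U₁) (Z.presheaf.stalk η) (Z.residueField η) :=
    IsScalarTower.of_algebraMap_eq fun _ => rfl
  haveI loc : IsLocalization.AtPrime (Z.presheaf.stalk η) (hU₁.primeIdealOf ⟨η, hη⟩).asIdeal :=
    hU₁.isLocalization_stalk ⟨η, hη⟩
  haveI : Algebra.FormallyUnramified Γ(Z, U₁) (Z.presheaf.stalk η) :=
    Algebra.FormallyUnramified.of_isLocalization (hU₁.primeIdealOf ⟨η, hη⟩).asIdeal.primeCompl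
  haveI : Algebra.FormallyUnramified (Z.presheaf.stalk η) (Z.residueField η) :=
    Algebra.FormallyUnramified.of_surjective (Algebra.ofId _ _) (Z.residue_surjective η)
  exact Algebra.FormallyUnramified.comp Γ(Z, U₁) (Z.presheaf.stalk η) (Z.residueField η)

variable [LocallyOfFiniteType (Z ↘ Spec (CommRingCat.of k))]

theorem le_finrank_kaehler_residueField (η : Z) (m : ℕ)
    (hm : topologicalKrullDim (closure ({η} : Set Z)) = m)
    {U₁ : Z.Opens} (hU₁ : IsAffineOpen U₁) (hη : η ∈ U₁)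
    (e₁ : U₁ ≤ (Z ↘ Spec (CommRingCat.of k)) ⁻¹ᵁ ⊤) :
    letI : Algebra Γ(Spec (CommRingCat.of k), ⊤) (Z.residueField η) :=
      ((Z.evaluation U₁ η hη).hom.comp
        ((Z ↘ Spec (CommRingCat.of k)).appLE ⊤ U₁ e₁).hom).toAlgebra
    m ≤ Module.finrank (Z.residueField η)
      Ω[Z.residueField η⁄Γ(Spec (CommRingCat.of k), ⊤)] := by
  letI algAκ : Algebra Γ(Spec (CommRingCat.of k), ⊤) (Z.residueField η) :=
    ((Z.evaluation U₁ η hη).hom.comp
      ((Z ↘ Spec (CommRingCat.of k)).appLE ⊤ U₁ e₁).hom).toAlgebra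
  letI algkA : Algebra k Γ(Spec (CommRingCat.of k), ⊤) :=
    (Scheme.ΓSpecIso (CommRingCat.of k)).inv.hom.toAlgebra
  letI algkκ : Algebra k (Z.residueField η) := Curv2.resAlgebra k Z η
  have hsec : ∀ c : k, SchemeDimFT.secMap k Z U₁ c =
      ((Z ↘ Spec (CommRingCat.of k)).appLE ⊤ U₁ e₁).hom
        ((Scheme.ΓSpecIso (CommRingCat.of k)).inv.hom c) := by
    intro c
    simp only [SchemeDimFT.secMap, Coh.toGlobal, Scheme.Hom.appLE, RingHom.comp_apply,
      CommRingCat.hom_comp]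
    rfl
  have hres : ∀ c : k, Curv2.resMap k Z η c =
      (Z.evaluation U₁ η hη).hom (SchemeDimFT.secMap k Z U₁ c) := by
    intro c
    change (Z.residue η).hom ((Z.presheaf.germ ⊤ η trivial).hom
      (Coh.toGlobal (Z ↘ Spec (CommRingCat.of k)) c)) =
      (Z.residue η).hom ((Z.presheaf.germ U₁ η hη).hom (SchemeDimFT.secMap k Z U₁ c))
    congr 1
    simp only [SchemeDimFT.secMap, RingHom.comp_apply]
    exact (TopCat.Presheaf.germ_res_apply Z.presheaf (homOfLE (le_top : U₁ ≤ ⊤)) η hη _).symm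
  haveI tower : IsScalarTower k Γ(Spec (CommRingCat.of k), ⊤) (Z.residueField η) :=
    IsScalarTower.of_algebraMap_eq (fun c => by
      change Curv2.resMap k Z η c = (Z.evaluation U₁ η hη).hom
        (((Z ↘ Spec (CommRingCat.of k)).appLE ⊤ U₁ e₁).hom
          ((Scheme.ΓSpecIso (CommRingCat.of k)).inv.hom c))
      rw [hres, hsec])
  have hsurj : Function.Surjective (algebraMap k Γ(Spec (CommRingCat.of k), ⊤)) :=
    (ConcreteCategory.bijective_of_isIso (Scheme.ΓSpecIso (CommRingCat.of k)).inv).2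
  have htr : Algebra.trdeg k (Z.residueField η) = m := by
    have h1 := SchemeDimFT.tr_spec k Z η
    have h2 := SchemeDimFT.topologicalKrullDim_closure_singleton k Z η
    rw [hm] at h2
    have h3 : m = SchemeDimFT.tr k Z η := by exact_mod_cast h2
    rw [h1, h3]
  haveI hess : Algebra.EssFiniteType k (Z.residueField η) := by
    letI algkB₁ : Algebra k Γ(Z, U₁) := SchemeDimFT.secAlgebra k Z U₁
    haveI ft : Algebra.FiniteType k Γ(Z, U₁) := SchemeDimFT.finiteType_sec k Z U₁ hU₁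
    letI algB₁κ : Algebra Γ(Z, U₁) (Z.residueField η) := (Z.evaluation U₁ η hη).hom.toAlgebra
    haveI tw : IsScalarTower k Γ(Z, U₁) (Z.residueField η) :=
      IsScalarTower.of_algebraMap_eq (fun c => hres c)
    letI algB₁St : Algebra Γ(Z, U₁) (Z.presheaf.stalk η) :=
      (Z.presheaf.germ U₁ η hη).hom.toAlgebra
    letI algStκ : Algebra (Z.presheaf.stalk η) (Z.residueField η) := (Z.residue η).hom.toAlgebra
    haveI tw2 : IsScalarTower Γ(Z, U₁) (Z.presheaf.stalk η) (Z.residueField η) :=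
      IsScalarTower.of_algebraMap_eq fun _ => rfl
    haveI loc : IsLocalization.AtPrime (Z.presheaf.stalk η)
        (hU₁.primeIdealOf ⟨η, hη⟩).asIdeal := hU₁.isLocalization_stalk ⟨η, hη⟩
    haveI : Algebra.EssFiniteType Γ(Z, U₁) (Z.presheaf.stalk η) :=
      Algebra.EssFiniteType.of_isLocalization (Z.presheaf.stalk η)
        (hU₁.primeIdealOf ⟨η, hη⟩).asIdeal.primeCompl
    haveI : Algebra.FiniteType (Z.presheaf.stalk η) (Z.residueField η) :=
      Algebra.FiniteType.of_surjective (Algebra.ofId _ _) (Z.residue_surjective η)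
    haveI : Algebra.EssFiniteType Γ(Z, U₁) (Z.residueField η) :=
      Algebra.EssFiniteType.comp Γ(Z, U₁) (Z.presheaf.stalk η) (Z.residueField η)
    exact Algebra.EssFiniteType.comp k Γ(Z, U₁) (Z.residueField η)
  exact Groth.Agent.Lib.Helper22.OmegaGen5.le_finrank_kaehler k Γ(Spec (CommRingCat.of k), ⊤)
    (Z.residueField η) hsurj m htr

end Rank


section Main

variable (k : Type u) [Field k] {X Z : Scheme.{u}}
  [Z.Over (Spec (CommRingCat.of k))] [LocallyOfFiniteType (Z ↘ Spec (CommRingCat.of k))]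
  [IsIntegral X] (f : X ⟶ Z) [LocallyOfFiniteType f]
  (η : Z) (hη : f (genericPoint X) = η) (m : ℕ)
  (hm : topologicalKrullDim (closure ({η} : Set Z)) = m)
  (hsep : GeometricallyReduced (pullback.snd f (Z.fromSpecResidueField η)))
  {ΩZ : Z.Modules} (dZ : OmegaSh.Der (Z ↘ Spec (CommRingCat.of k)) ΩZ)
  (hdZ : OmegaSh.IsUniversal dZ)
  {ΩX : X.Modules} (dX : OmegaSh.Der (f ≫ (Z ↘ Spec (CommRingCat.of k))) ΩX)
  (hdX : OmegaSh.IsUniversal dX)
  (c : (Scheme.Modules.pullback f).obj ΩZ ⟶ ΩX) (hc : OmegaSh.IsDiffCompat f dZ dX c)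
  {d : ℕ} (e₀ : Fin d → Γ((Scheme.Modules.pullback f).obj ΩZ, ⊤))
  (he₀ : IsBasis ((Scheme.Modules.pullback f).obj ΩZ) ⊤ e₀)

include hη hm hsep hdZ hdX hc he₀ in
/-- **Generic rank.** Among the images under `c` of a global basis of `f^*Ω_Z`, there are
`m = dim (closure of the image of f)` which are linearly independent at the generic point. -/
theorem exists_generic_linearIndependent (U : X.Opens) (hU : genericPoint X ∈ U) :
    ∃ (σ : Fin m → Fin d) (U₂ : X.Opens) (_ : IsAffineOpen U₂) (_ : U₂ ≤ U)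
      (_ : genericPoint X ∈ U₂) (K : Type u) (_ : Field K) (_ : Algebra Γ(X, U₂) K)
      (V : Type u) (_ : AddCommGroup V) (_ : Module K V) (_ : Module Γ(X, U₂) V)
      (_ : IsScalarTower Γ(X, U₂) K V) (Ψ : Γ(ΩX, U₂) →ₗ[Γ(X, U₂)] V),
      Function.Injective (algebraMap Γ(X, U₂) K) ∧
      LinearIndependent K (fun i => Ψ (c.app U₂
        (res ((Scheme.Modules.pullback f).obj ΩZ) le_top (e₀ (σ i))))) := by
  classical
  -- the point of the fibre over the generic point
  have hpt : f (genericPoint X) =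
      (Z.fromSpecResidueField η) (IsLocalRing.closedPoint (Z.residueField η)) := by
    rw [hη, Scheme.fromSpecResidueField_apply]
  obtain ⟨w, hw1, hw2⟩ := Scheme.Pullback.exists_preimage_pullback (f := f)
    (g := Z.fromSpecResidueField η) (genericPoint X) (IsLocalRing.closedPoint _) hpt
  have hF : IsField (X.presheaf.stalk ((pullback.fst f (Z.fromSpecResidueField η)) w)) := by
    rw [hw1]; exact Field.toIsField X.functionField
  obtain ⟨he, hθ⟩ := Groth.Agent.Lib.Helper22.OmegaGen6.formallySmooth_toStalk_snd f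
    (Z.residueField η) (Z.fromSpecResidueField η) hsep w hF
  have hFW : IsField ((pullback f (Z.fromSpecResidueField η)).presheaf.stalk w) :=
    MulEquiv.isField hF (RingEquiv.ofBijective _ he).symm.toMulEquiv
  -- affine opens
  obtain ⟨_, ⟨U₁, hU₁, rfl⟩, hηU₁, -⟩ :=
    Z.isBasis_affineOpens.exists_subset_of_mem_open (Set.mem_univ η) isOpen_univ
  have hx₀ : (pullback.fst f (Z.fromSpecResidueField η)) w ∈ U ⊓ f ⁻¹ᵁ U₁ := by
    rw [hw1]
    refine ⟨hU, ?_⟩
    change f (genericPoint X) ∈ U₁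
    rw [hη]; exact hηU₁
  obtain ⟨_, ⟨U₂, hU₂, rfl⟩, hxU₂, hU₂le⟩ :=
    X.isBasis_affineOpens.exists_subset_of_mem_open hx₀ (U ⊓ f ⁻¹ᵁ U₁).isOpen
  have e : U₂ ≤ f ⁻¹ᵁ U₁ := fun y hy => (hU₂le hy).2
  have hle : U₂ ≤ U := fun y hy => (hU₂le hy).1
  have e₁ : U₁ ≤ (Z ↘ Spec (CommRingCat.of k)) ⁻¹ᵁ ⊤ := fun _ _ => trivial
  have hξU₂ : genericPoint X ∈ U₂ := by rw [← hw1]; exact hxU₂
  -- the rings
  letI alg₁ : Algebra Γ(Spec (CommRingCat.of k), ⊤) Γ(Z, U₁) :=
    ((Z ↘ Spec (CommRingCat.of k)).appLE ⊤ U₁ e₁).hom.toAlgebra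
  letI alg₃ : Algebra Γ(Z, U₁) Γ(X, U₂) := (f.appLE U₁ U₂ e).hom.toAlgebra
  letI alg₅ : Algebra Γ(Spec (CommRingCat.of k), ⊤) Γ(X, U₂) :=
    ((f.appLE U₁ U₂ e).hom.comp ((Z ↘ Spec (CommRingCat.of k)).appLE ⊤ U₁ e₁).hom).toAlgebra
  haveI t₁ : IsScalarTower Γ(Spec (CommRingCat.of k), ⊤) Γ(Z, U₁) Γ(X, U₂) :=
    IsScalarTower.of_algebraMap_eq fun _ => rfl
  obtain ⟨E, T, hET⟩ := Groth.Agent.Lib.Helper22.OmegaGen3.exists_linearEquivs_tower
    (Z ↘ Spec (CommRingCat.of k)) f dZ hdZ dX hdX c hc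
    (isAffineOpen_top (Spec (CommRingCat.of k))) hU₁ hU₂ e e₁
  -- the residue field `κ`
  letI algB₁κ : Algebra Γ(Z, U₁) (Z.residueField η) := (Z.evaluation U₁ η hηU₁).hom.toAlgebra
  letI algAκ : Algebra Γ(Spec (CommRingCat.of k), ⊤) (Z.residueField η) :=
    ((Z.evaluation U₁ η hηU₁).hom.comp
      ((Z ↘ Spec (CommRingCat.of k)).appLE ⊤ U₁ e₁).hom).toAlgebra
  haveI t₂ : IsScalarTower Γ(Spec (CommRingCat.of k), ⊤) Γ(Z, U₁) (Z.residueField η) :=
    IsScalarTower.of_algebraMap_eq fun _ => rfl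
  haveI unr : Algebra.FormallyUnramified Γ(Z, U₁) (Z.residueField η) :=
    formallyUnramified_evaluation Z hU₁ η hηU₁
  have hrank := le_finrank_kaehler_residueField k Z η m hm hU₁ hηU₁ e₁
  -- the field `K`
  let γ : Γ(X, U₂) →+* FieldCopy ((pullback f (Z.fromSpecResidueField η)).presheaf.stalk w) hFW :=
    (X.presheaf.germ U₂ _ hxU₂ ≫ (pullback.fst f (Z.fromSpecResidueField η)).stalkMap w).hom
  let θ : (Z.residueField η) →+*
      FieldCopy ((pullback f (Z.fromSpecResidueField η)).presheaf.stalk w) hFW :=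
    (((Scheme.ΓSpecIso (Z.residueField η)).inv ≫
      (Spec (Z.residueField η)).presheaf.germ ⊤
        ((pullback.snd f (Z.fromSpecResidueField η)) w) trivial) ≫
        (pullback.snd f (Z.fromSpecResidueField η)).stalkMap w).hom
  letI algB₂K : Algebra Γ(X, U₂)
      (FieldCopy ((pullback f (Z.fromSpecResidueField η)).presheaf.stalk w) hFW) := γ.toAlgebra
  letI algB₁K : Algebra Γ(Z, U₁)
      (FieldCopy ((pullback f (Z.fromSpecResidueField η)).presheaf.stalk w) hFW) :=
    (γ.comp (f.appLE U₁ U₂ e).hom).toAlgebra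
  letI algAK : Algebra Γ(Spec (CommRingCat.of k), ⊤)
      (FieldCopy ((pullback f (Z.fromSpecResidueField η)).presheaf.stalk w) hFW) :=
    ((γ.comp (f.appLE U₁ U₂ e).hom).comp
      ((Z ↘ Spec (CommRingCat.of k)).appLE ⊤ U₁ e₁).hom).toAlgebra
  letI algκK : Algebra (Z.residueField η)
      (FieldCopy ((pullback f (Z.fromSpecResidueField η)).presheaf.stalk w) hFW) := θ.toAlgebra
  haveI t₃ : IsScalarTower Γ(Spec (CommRingCat.of k), ⊤) Γ(Z, U₁)
      (FieldCopy ((pullback f (Z.fromSpecResidueField η)).presheaf.stalk w) hFW) :=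
    IsScalarTower.of_algebraMap_eq fun _ => rfl
  haveI t₄ : IsScalarTower Γ(Spec (CommRingCat.of k), ⊤) Γ(X, U₂)
      (FieldCopy ((pullback f (Z.fromSpecResidueField η)).presheaf.stalk w) hFW) :=
    IsScalarTower.of_algebraMap_eq fun _ => rfl
  haveI t₅ : IsScalarTower Γ(Z, U₁) Γ(X, U₂)
      (FieldCopy ((pullback f (Z.fromSpecResidueField η)).presheaf.stalk w) hFW) :=
    IsScalarTower.of_algebraMap_eq fun _ => rfl
  have hid := Groth.Agent.Lib.Helper22.OmegaGen6.tower_identity f η w hηU₁ e hxU₂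
  have hid' : ∀ b : Γ(Z, U₁), γ ((f.appLE U₁ U₂ e).hom b) =
      θ ((Z.evaluation U₁ η hηU₁).hom b) := fun b => congr($hid b)
  haveI t₆ : IsScalarTower Γ(Z, U₁) (Z.residueField η)
      (FieldCopy ((pullback f (Z.fromSpecResidueField η)).presheaf.stalk w) hFW) :=
    IsScalarTower.of_algebraMap_eq fun b => hid' b
  haveI t₇ : IsScalarTower Γ(Spec (CommRingCat.of k), ⊤) (Z.residueField η)
      (FieldCopy ((pullback f (Z.fromSpecResidueField η)).presheaf.stalk w) hFW) :=
    IsScalarTower.of_algebraMap_eq fun a => hid' _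
  haveI sm : Algebra.FormallySmooth (Z.residueField η)
      (FieldCopy ((pullback f (Z.fromSpecResidueField η)).presheaf.stalk w) hFW) := hθ
  have hγinj : Function.Injective (algebraMap Γ(X, U₂)
      (FieldCopy ((pullback f (Z.fromSpecResidueField η)).presheaf.stalk w) hFW)) := by
    change Function.Injective (X.presheaf.germ U₂ _ hxU₂ ≫
      (pullback.fst f (Z.fromSpecResidueField η)).stalkMap w).hom
    rw [CommRingCat.hom_comp]
    exact he.1.comp (germ_injective_of_isIntegral X _ hxU₂)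
  -- the spanning family
  have hbas : IsBasisAt ((Scheme.Modules.pullback f).obj ΩZ) U₂
      (fun i => res ((Scheme.Modules.pullback f).obj ΩZ) le_top (e₀ i)) := he₀ U₂ le_top
  have hz : Submodule.span Γ(X, U₂) (Set.range (fun i => E.symm
      (res ((Scheme.Modules.pullback f).obj ΩZ) le_top (e₀ i)))) = ⊤ := by
    rw [eq_top_iff]
    intro y _
    obtain ⟨a, ha⟩ := hbas.2 (E y)
    have hy : y = ∑ i, a i • E.symm (res ((Scheme.Modules.pullback f).obj ΩZ) le_top (e₀ i)) := by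
      apply E.injective
      rw [map_sum]
      simp only [map_smul, LinearEquiv.apply_symm_apply]
      exact ha.symm
    rw [hy]
    exact Submodule.sum_mem _ fun i _ => Submodule.smul_mem _ _ (Submodule.subset_span ⟨i, rfl⟩)
  obtain ⟨σ, hσ⟩ := Groth.Agent.Lib.Helper22.OmegaGen4.exists_linearIndependent_toK
    Γ(Spec (CommRingCat.of k), ⊤) Γ(Z, U₁) Γ(X, U₂) (Z.residueField η)
    (FieldCopy ((pullback f (Z.fromSpecResidueField η)).presheaf.stalk w) hFW)
    (fun i => E.symm (res ((Scheme.Modules.pullback f).obj ΩZ) le_top (e₀ i))) hz m hrank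
  refine ⟨σ, U₂, hU₂, hle, hξU₂,
    FieldCopy ((pullback f (Z.fromSpecResidueField η)).presheaf.stalk w) hFW, inferInstance,
    algB₂K, Ω[FieldCopy ((pullback f (Z.fromSpecResidueField η)).presheaf.stalk w) hFW⁄
      Γ(Spec (CommRingCat.of k), ⊤)], inferInstance, inferInstance, inferInstance, inferInstance,
    ((KaehlerDifferential.map Γ(Spec (CommRingCat.of k), ⊤) Γ(Spec (CommRingCat.of k), ⊤)
      Γ(X, U₂) (FieldCopy ((pullback f (Z.fromSpecResidueField η)).presheaf.stalk w)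
        hFW)).restrictScalars Γ(X, U₂)).comp T.symm.toLinearMap, hγinj, ?_⟩
  convert hσ using 2 with i
  have h1 : c.app U₂ (res ((Scheme.Modules.pullback f).obj ΩZ) le_top (e₀ (σ i))) =
      T (KaehlerDifferential.mapBaseChange Γ(Spec (CommRingCat.of k), ⊤) Γ(Z, U₁) Γ(X, U₂)
        (E.symm (res ((Scheme.Modules.pullback f).obj ΩZ) le_top (e₀ (σ i))))) := by
    rw [← hET, LinearEquiv.apply_symm_apply]
  rw [h1]
  simp only [LinearMap.coe_comp, LinearEquiv.coe_coe, Function.comp_apply,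
    LinearEquiv.symm_apply_apply]
  rfl

end Main

end Groth.Agent.Lib.Helper22.OmegaGen7
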