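import Mathlib
import Groth.Agent.Lib.Helper22.SmoothRelDim2
import Groth.Agent.Lib.Helper22.SmoothJZ2
import Groth.Agent.Lib.Helper22.OmegaGen7
import Groth.Agent.Lib.Helper6.CartierEq3

set_option autoImplicit false
set_option linter.style.haveILetI false
set_option linter.unusedVariables false
universe u
open CategoryTheory CategoryTheory.Limits AlgebraicGeometry TopologicalSpace Opposite TensorProduct

/-! Generic smoothness in characteristic zero (on the source). -/

namespace Groth.Agent.Lib.Helper22.GenSmooth

open Groth.Agent.Lib.Helper22.OmegaGen7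

/-- For a finitely generated formally smooth (= separable) field extension, the transcendence
degree is the dimension of the module of differentials. -/
theorem trdeg_eq_finrank_kaehler (K L : Type u) [Field K] [Field L] [Algebra K L]
    [Algebra.EssFiniteType K L] [Algebra.FormallySmooth K L] :
    Algebra.trdeg K L = (Module.finrank L Ω[L⁄K] : Cardinal) := by
  obtain ⟨_, _, n, hn, hi⟩ := Groth.Agent.Lib.Helper6.CartierEq.exact_of_essFiniteType K L
  haveI : Subsingleton (Algebra.H1Cotangent K L) := inferInstance
  rw [Module.finrank_zero_of_subsingleton, zero_add] at hi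
  rw [hn, hi]

theorem trdeg_eq_finrank_kaehler' (K L : Type u) [CommRing K] [CommRing L] [Algebra K L]
    (hK : IsField K) (hL : IsField L)
    [Algebra.EssFiniteType K L] [Algebra.FormallySmooth K L] :
    Algebra.trdeg K L = (Module.finrank L Ω[L⁄K] : Cardinal) := by
  letI alg : Algebra (FieldCopy K hK) (FieldCopy L hL) := ‹Algebra K L›
  haveI : Algebra.EssFiniteType (FieldCopy K hK) (FieldCopy L hL) := ‹Algebra.EssFiniteType K L›
  haveI : Algebra.FormallySmooth (FieldCopy K hK) (FieldCopy L hL) :=
    ‹Algebra.FormallySmooth K L›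
  exact trdeg_eq_finrank_kaehler (FieldCopy K hK) (FieldCopy L hL)

/-- A characteristic zero field extension is formally smooth. -/
theorem formallySmooth_of_charZero (K L : Type u) [CommRing K] [CommRing L] [Algebra K L]
    (hK : IsField K) (hL : IsField L) [CharZero K] [Algebra.EssFiniteType K L] :
    Algebra.FormallySmooth K L := by
  letI alg : Algebra (FieldCopy K hK) (FieldCopy L hL) := ‹Algebra K L›
  haveI : Algebra.EssFiniteType (FieldCopy K hK) (FieldCopy L hL) := ‹Algebra.EssFiniteType K L›
  haveI : CharZero (FieldCopy K hK) := ‹CharZero K›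
  have h : Algebra.FormallySmooth (FieldCopy K hK) (FieldCopy L hL) :=
    Algebra.FormallySmooth.of_perfectField
  exact h

open Groth.Agent.Lib.Helper22.SmoothRelDim Groth.Agent.Lib.Helper22.SmoothJZ in
theorem exists_open_smoothOfRelativeDimension
    (X Y : Scheme.{u}) [IsIntegral X] [IsIntegral Y] [IsNoetherian X] [IsNoetherian Y]
    (π : X ⟶ Y) [LocallyOfFiniteType π]
    (hdom : π.base (genericPoint X) = genericPoint Y) [CharZero Y.functionField]
    (n : ℕ) (hn : @Algebra.trdeg (Y.presheaf.stalk (π.base (genericPoint X))) X.functionField _ _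
      (π.stalkMap (genericPoint X)).hom.toAlgebra = n) :
    ∃ U : X.Opens, (U : Set X).Nonempty ∧ SmoothOfRelativeDimension n (U.ι ≫ π) := by
  haveI : LocallyOfFinitePresentation π := inferInstance
  have hK : IsField (Y.presheaf.stalk (π.base (genericPoint X))) := by
    rw [hdom]
    exact Field.toIsField Y.functionField
  have hL : IsField (X.presheaf.stalk (genericPoint X)) := Field.toIsField X.functionField
  haveI hchar : CharZero (Y.presheaf.stalk (π.base (genericPoint X))) := by
    rw [hdom]
    exact ‹CharZero Y.functionField›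
  letI algKL : Algebra (Y.presheaf.stalk (π.base (genericPoint X)))
      (X.presheaf.stalk (genericPoint X)) := (π.stalkMap (genericPoint X)).hom.toAlgebra
  haveI hess : Algebra.EssFiniteType (Y.presheaf.stalk (π.base (genericPoint X)))
      (X.presheaf.stalk (genericPoint X)) := LocallyOfFiniteType.stalkMap π (genericPoint X)
  haveI hfs : Algebra.FormallySmooth (Y.presheaf.stalk (π.base (genericPoint X)))
      (X.presheaf.stalk (genericPoint X)) := formallySmooth_of_charZero _ _ hK hL
  have H : (π.stalkMap (genericPoint X)).hom.FormallySmooth := hfs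
  obtain ⟨U, hU, V, hV, hVU, hξV, Hs⟩ := exists_smooth_of_formallySmooth_stalk π _ H
  obtain ⟨s, hs, hst⟩ := Hs.locally_isStandardSmooth
  obtain ⟨t, hts, htp⟩ : ∃ t ∈ s, t ∉ (hV.primeIdealOf ⟨genericPoint X, hξV⟩).asIdeal := by
    by_contra hcon
    push Not at hcon
    have h1 : Ideal.span s ≤ (hV.primeIdealOf ⟨genericPoint X, hξV⟩).asIdeal :=
      Ideal.span_le.mpr (fun t ht => hcon t ht)
    rw [hs] at h1
    exact (hV.primeIdealOf ⟨genericPoint X, hξV⟩).isPrime.ne_top (top_le_iff.mp h1)
  have hξV' : genericPoint X ∈ X.basicOpen t := by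
    rw [← PrimeSpectrum.mem_basicOpen, IsAffineOpen.primeIdealOf,
      ← hV.fromSpec_preimage_basicOpen] at htp
    have h3 : hV.fromSpec (hV.isoSpec.hom ⟨genericPoint X, hξV⟩) ∈ X.basicOpen t := htp
    have h4 : hV.fromSpec (hV.isoSpec.hom ⟨genericPoint X, hξV⟩) = genericPoint X := by
      rw [← Scheme.Hom.comp_apply, IsAffineOpen.isoSpec_hom_fromSpec]
      rfl
    rwa [h4] at h3
  have hV' : IsAffineOpen (X.basicOpen t) := hV.basicOpen t
  have e' : X.basicOpen t ≤ π ⁻¹ᵁ U := (X.basicOpen_le t).trans hVU
  have hss : (π.appLE U (X.basicOpen t) e').hom.IsStandardSmooth := by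
    haveI := hV.isLocalization_basicOpen t
    have h2 := RingHom.isStandardSmooth_respectsIso.1 _
      (IsLocalization.algEquiv (.powers t) (Localization.Away t)
        Γ(X, X.basicOpen t)).toRingEquiv (hst t hts)
    convert h2 using 1
    ext a
    simp only [RingHom.comp_apply, RingEquiv.toRingHom_eq_coe, RingHom.coe_coe,
      AlgEquiv.coe_ringEquiv, AlgEquiv.commutes]
    rw [← Scheme.Hom.appLE_map π hVU (homOfLE (X.basicOpen_le t)).op]
    rfl
  obtain ⟨n', hn'⟩ : ∃ n', (π.appLE U (X.basicOpen t) e').hom.IsStandardSmoothOfRelativeDimension n' := by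
    letI := (π.appLE U (X.basicOpen t) e').hom.toAlgebra
    have hss' : Algebra.IsStandardSmooth Γ(Y, U) Γ(X, X.basicOpen t) := hss
    obtain ⟨ι, σ, h1, h2, ⟨P⟩⟩ := hss'
    exact ⟨P.dimension, ⟨ι, σ, h1, h2, P, rfl⟩⟩
  have h1 : (X.basicOpen t).ι ≫ π =
      hV'.isoSpec.hom ≫ Spec.map (π.appLE U (X.basicOpen t) e') ≫ hU.fromSpec := by
    rw [IsAffineOpen.SpecMap_appLE_fromSpec π hU hV' e', ← Category.assoc,
      IsAffineOpen.isoSpec_hom_fromSpec]
  have hsm : SmoothOfRelativeDimension n' ((X.basicOpen t).ι ≫ π) := by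
    haveI := smoothOfRelativeDimension_SpecMap n' (π.appLE U (X.basicOpen t) e') hn'
    rw [h1]
    have : SmoothOfRelativeDimension (0 + (n' + 0))
        (hV'.isoSpec.hom ≫ Spec.map (π.appLE U (X.basicOpen t) e') ≫ hU.fromSpec) :=
      inferInstance
    simpa using this
  -- the rank of differentials
  have hΩ := stalk_kaehler_of_sections π hU hV' e' (genericPoint X) hξV' n'
    (by
      letI := (π.appLE U (X.basicOpen t) e').hom.toAlgebra
      haveI : Algebra.IsStandardSmoothOfRelativeDimension n' Γ(Y, U) Γ(X, X.basicOpen t) := hn'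
      haveI : Algebra.IsStandardSmooth Γ(Y, U) Γ(X, X.basicOpen t) :=
        Algebra.IsStandardSmoothOfRelativeDimension.isStandardSmooth n'
      infer_instance)
    (by
      letI := (π.appLE U (X.basicOpen t) e').hom.toAlgebra
      haveI : Algebra.IsStandardSmoothOfRelativeDimension n' Γ(Y, U) Γ(X, X.basicOpen t) := hn'
      haveI : Algebra.IsStandardSmooth Γ(Y, U) Γ(X, X.basicOpen t) :=
        Algebra.IsStandardSmoothOfRelativeDimension.isStandardSmooth n'
      infer_instance)
    (by
      letI := (π.appLE U (X.basicOpen t) e').hom.toAlgebra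
      haveI : Algebra.IsStandardSmoothOfRelativeDimension n' Γ(Y, U) Γ(X, X.basicOpen t) := hn'
      haveI : Nontrivial Γ(X, X.basicOpen t) := by
        haveI : Nonempty (X.basicOpen t) := ⟨⟨genericPoint X, hξV'⟩⟩
        infer_instance
      exact Module.finrank_eq_of_rank_eq
        (Algebra.IsStandardSmoothOfRelativeDimension.rank_kaehlerDifferential n'))
  have htr := trdeg_eq_finrank_kaehler' (Y.presheaf.stalk (π.base (genericPoint X)))
    (X.presheaf.stalk (genericPoint X)) hK hL
  have hfin : Module.finrank (X.presheaf.stalk (genericPoint X))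
      Ω[X.presheaf.stalk (genericPoint X)⁄Y.presheaf.stalk (π.base (genericPoint X))] = n' :=
    hΩ.2.2
  rw [hfin] at htr
  have hnn : (n : Cardinal) = (n' : Cardinal) := hn.symm.trans htr
  have hnn' : n = n' := by exact_mod_cast hnn
  subst hnn'
  exact ⟨X.basicOpen t, ⟨genericPoint X, hξV'⟩, hsm⟩

end Groth.Agent.Lib.Helper22.GenSmooth
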