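import Mathlib

/-!
# A Sard-type dimension bound: commutative algebra core and topological bookkeeping (helper22)
-/

set_option autoImplicit false
set_option maxHeartbeats 400000
universe u

open IsLocalRing

namespace Groth.Agent.Lib.Helper22.Sard

/-- Core algebra: a commutative square of local rings `A → B`, `A ↠ A'`, `B → B'`, `A' → B'` in which
`A' → B'` is injective on cotangent spaces, `A` surjects onto the residue field of `B`, and the
cotangent map of `A → B` has image inside the span of `≤ r` vectors, forces `dim A' ≤ r`. -/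
theorem ringKrullDim_le_of_cotangent
    {A B A' B' : Type u} [CommRing A] [CommRing B] [CommRing A'] [CommRing B']
    [IsLocalRing A] [IsLocalRing B] [IsLocalRing A'] [IsLocalRing B'] [IsNoetherianRing A']
    (φ : A →+* B) (α : A →+* A') (β : B →+* B') (φ' : A' →+* B')
    (hφ : ∀ a ∈ maximalIdeal A, φ a ∈ maximalIdeal B)
    (hα : ∀ a ∈ maximalIdeal A, α a ∈ maximalIdeal A')
    (hβ : ∀ b ∈ maximalIdeal B, β b ∈ maximalIdeal B')
    (hcomm : ∀ a, φ' (α a) = β (φ a))
    (hαs : ∀ a' ∈ maximalIdeal A', ∃ a ∈ maximalIdeal A, α a = a')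
    (hres : ∀ b : B, ∃ a : A, b - φ a ∈ maximalIdeal B)
    (hinj : ∀ a' ∈ maximalIdeal A', φ' a' ∈ maximalIdeal B' ^ 2 → a' ∈ maximalIdeal A' ^ 2)
    (r : ℕ) (S : Finset (CotangentSpace B)) (hS : S.card ≤ r)
    (hSspan : ∀ (a : A) (ha : a ∈ maximalIdeal A),
      (maximalIdeal B).toCotangent ⟨φ a, hφ a ha⟩ ∈
        Submodule.span (ResidueField B) (S : Set (CotangentSpace B))) :
    ringKrullDim A' ≤ r := by
  classical
  let G : Set (CotangentSpace B) :=
    Set.range (fun a : maximalIdeal A => (maximalIdeal B).toCotangent ⟨φ a.1, hφ a.1 a.2⟩)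
  obtain ⟨b, hbG, hbspan, hbli⟩ := exists_linearIndependent (ResidueField B) G
  have hGS : G ⊆ (Submodule.span (ResidueField B) (S : Set (CotangentSpace B)) : Set _) := by
    rintro _ ⟨a, rfl⟩
    exact hSspan a.1 a.2
  have hbS : Set.range ((↑) : b → CotangentSpace B) ≤
      Submodule.span (ResidueField B) (S : Set (CotangentSpace B)) := by
    rintro _ ⟨v, rfl⟩
    exact hGS (hbG v.2)
  haveI : Finite b := hbli.finite_of_le_span_finite _ (S : Set (CotangentSpace B)) hbS
  letI := Fintype.ofFinite b
  have hcard : Fintype.card b ≤ r := by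
    have h1 : Fintype.card b ≤ Fintype.card (S : Set (CotangentSpace B)) :=
      linearIndependent_le_span_aux' _ hbli (S : Set (CotangentSpace B)) hbS
    have h2 : Fintype.card (S : Set (CotangentSpace B)) = S.card := by simp
    rw [h2] at h1
    exact h1.trans hS
  have hch : ∀ v : b, ∃ a : maximalIdeal A,
      (maximalIdeal B).toCotangent ⟨φ a.1, hφ a.1 a.2⟩ = v.1 := fun v => hbG v.2
  choose g hg using hch
  -- lifting residue field elements to `A`
  have hlift : ∀ c : ResidueField B, ∃ a : A, residue B (φ a) = c := by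
    intro c
    obtain ⟨b0, rfl⟩ := residue_surjective c
    obtain ⟨a, ha⟩ := hres b0
    refine ⟨a, ?_⟩
    have : residue B (b0 - φ a) = 0 := (residue_eq_zero_iff _).mpr ha
    rw [map_sub, sub_eq_zero] at this
    exact this.symm
  have hβ2 : ∀ b0 ∈ maximalIdeal B ^ 2, β b0 ∈ maximalIdeal B' ^ 2 := by
    intro b0 hb0
    have h1 : (maximalIdeal B).map β ≤ maximalIdeal B' := by
      rw [Ideal.map_le_iff_le_comap]
      intro x hx
      exact hβ x hx
    have h2 : β b0 ∈ (maximalIdeal B ^ 2).map β := Ideal.mem_map_of_mem β hb0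
    rw [Ideal.map_pow] at h2
    exact Ideal.pow_right_mono h1 2 h2
  have key : ∀ a ∈ maximalIdeal A, α a ∈
      Ideal.span (Set.range (fun v : b => α (g v).1)) ⊔ maximalIdeal A' • maximalIdeal A' := by
    intro a ha
    have h1 : (maximalIdeal B).toCotangent ⟨φ a, hφ a ha⟩ ∈
        Submodule.span (ResidueField B) (b : Set (CotangentSpace B)) := by
      rw [hbspan]
      exact Submodule.subset_span ⟨⟨a, ha⟩, rfl⟩
    rw [← Subtype.range_coe (s := b), Submodule.mem_span_range_iff_exists_fun] at h1
    obtain ⟨c, hc⟩ := h1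
    choose cl hcl using fun v : b => hlift (c v)
    let d : A := a - ∑ v : b, cl v * (g v).1
    have hd : d ∈ maximalIdeal A := by
      refine Ideal.sub_mem _ ha (Ideal.sum_mem _ (fun v _ => ?_))
      exact Ideal.mul_mem_left _ _ (g v).2
    have hφd : φ d ∈ maximalIdeal B ^ 2 := by
      have h2 : (maximalIdeal B).toCotangent ⟨φ a, hφ a ha⟩ =
          (maximalIdeal B).toCotangent (∑ v : b, φ (cl v) • (⟨φ (g v).1, hφ _ (g v).2⟩ :
            maximalIdeal B)) := by
        rw [← hc, map_sum]
        refine Finset.sum_congr rfl (fun v _ => ?_)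
        rw [map_smul, hg v, ← hcl v]
        rfl
      rw [Ideal.toCotangent_eq] at h2
      have h3 : φ d = (φ a) - ((∑ v : b, φ (cl v) • (⟨φ (g v).1, hφ _ (g v).2⟩ :
            maximalIdeal B) : maximalIdeal B) : B) := by
        simp only [d, map_sub, map_sum, map_mul]
        congr 1
        rw [AddSubmonoidClass.coe_finset_sum]
        rfl
      rw [h3]
      exact h2
    have h4 : α d ∈ maximalIdeal A' ^ 2 := by
      refine hinj _ (hα d hd) ?_
      rw [hcomm]
      exact hβ2 _ hφd
    have h5 : α a = (∑ v : b, α (cl v) * α (g v).1) + α d := by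
      simp only [d, map_sub, map_sum, map_mul]
      ring
    rw [h5]
    refine Submodule.add_mem_sup ?_ ?_
    · refine Ideal.sum_mem _ (fun v _ => ?_)
      exact Ideal.mul_mem_left _ _ (Ideal.subset_span ⟨v, rfl⟩)
    · rw [smul_eq_mul, ← pow_two]
      exact h4
  have hle : maximalIdeal A' ≤ Ideal.span (Set.range (fun v : b => α (g v).1)) := by
    refine Submodule.le_of_le_smul_of_le_jacobson_bot (maximalIdeal A').fg_of_isNoetherianRing
      (maximalIdeal_le_jacobson ⊥) ?_
    intro a' ha'
    obtain ⟨a, ha, rfl⟩ := hαs a' ha'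
    exact key a ha
  have heq : maximalIdeal A' = Ideal.span (Set.range (fun v : b => α (g v).1)) := by
    refine le_antisymm hle ?_
    rw [Ideal.span_le]
    rintro _ ⟨v, rfl⟩
    exact hα _ (g v).2
  have h6 : (maximalIdeal A').spanFinrank ≤ r := by
    have hfin : (Set.range (fun v : b => α (g v).1)).Finite := Set.finite_range _
    have h7 : (Submodule.span A' (Set.range (fun v : b => α (g v).1))).spanFinrank ≤
        (Set.range (fun v : b => α (g v).1)).ncard :=
      Submodule.spanFinrank_span_le_ncard_of_finite hfin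
    have h8 : (Set.range (fun v : b => α (g v).1)).ncard ≤ Fintype.card b := by
      have : Set.range (fun v : b => α (g v).1) =
          ((Finset.univ.image (fun v : b => α (g v).1) : Finset A') : Set A') := by
        simp
      rw [this, Set.ncard_coe_finset]
      exact Finset.card_image_le.trans (by simp)
    have h9 : (maximalIdeal A').spanFinrank =
        (Submodule.span A' (Set.range (fun v : b => α (g v).1))).spanFinrank := by
      conv_lhs => rw [heq]
    omega
  refine (ringKrullDim_le_spanFinrank_maximalIdeal A').trans ?_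
  exact_mod_cast h6

open TopologicalSpace in
/-- Topological bookkeeping: every point of the closure of `f(E)` is a specialisation of `f ξ` for
some `ξ` such that `E ∩ closure {ξ}` is dense in `closure {ξ}`. -/
theorem exists_generic_of_mem_closure_image {X Y : Type*} [TopologicalSpace X] [TopologicalSpace Y]
    [NoetherianSpace X] [QuasiSober X] (f : X → Y) (hf : Continuous f) (E : Set X) :
    ∀ z ∈ closure (f '' E), ∃ ξ : X, f ξ ⤳ z ∧ ξ ∈ closure (E ∩ closure {ξ}) := by
  suffices H : ∀ W : Closeds X, ∀ z ∈ closure (f '' (E ∩ (W : Set X))),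
      ∃ ξ : X, f ξ ⤳ z ∧ ξ ∈ closure (E ∩ closure {ξ}) by
    intro z hz
    refine H ⊤ z ?_
    simpa using hz
  intro W
  apply wellFounded_lt.induction W; clear W
  intro W H z hz
  let D : Closeds X := ⟨closure (E ∩ (W : Set X)), isClosed_closure⟩
  have hDW : D ≤ W := by
    intro x hx
    exact closure_minimal Set.inter_subset_right W.isClosed hx
  rcases eq_or_lt_of_le hDW with hD | hD
  · by_cases h₁ : IsPreirreducible (W : Set X)
    · have hne : (W : Set X).Nonempty := by
        by_contra hcon
        rw [Set.not_nonempty_iff_eq_empty] at hcon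
        rw [hcon, Set.inter_empty, Set.image_empty, closure_empty] at hz
        exact hz
      have hirr : IsIrreducible (W : Set X) := ⟨hne, h₁⟩
      obtain ⟨ξ, hξ⟩ := QuasiSober.sober hirr W.isClosed
      refine ⟨ξ, ?_, ?_⟩
      · rw [specializes_iff_mem_closure]
        have h1 : f '' (E ∩ (W : Set X)) ⊆ closure {f ξ} := by
          rintro _ ⟨x, hx, rfl⟩
          have h0 : x ∈ closure {ξ} := by rw [hξ.def]; exact hx.2
          have h2 : ξ ⤳ x := specializes_iff_mem_closure.mpr h0
          exact specializes_iff_mem_closure.mp (h2.map hf)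
        exact closure_minimal h1 isClosed_closure hz
      · rw [hξ.def]
        have h0 : ξ ∈ (W : Set X) := hξ.mem
        have h3 : (D : Set X) = W := congrArg _ hD
        rw [← h3] at h0
        exact h0
    · simp only [isPreirreducible_iff_isClosed_union_isClosed, not_forall, not_or] at h₁
      obtain ⟨z₁, z₂, hz₁, hz₂, h, hz₁', hz₂'⟩ := h₁
      lift z₁ to Closeds X using hz₁
      lift z₂ to Closeds X using hz₂
      have hsplit : E ∩ (W : Set X) = (E ∩ ((W ⊓ z₁ : Closeds X) : Set X)) ∪
          (E ∩ ((W ⊓ z₂ : Closeds X) : Set X)) := by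
        ext x
        simp only [Set.mem_inter_iff, Set.mem_union, Closeds.coe_inf, SetLike.mem_coe]
        constructor
        · rintro ⟨hxE, hxW⟩
          rcases h hxW with h1 | h1
          · exact Or.inl ⟨hxE, hxW, h1⟩
          · exact Or.inr ⟨hxE, hxW, h1⟩
        · rintro (⟨hxE, hxW, -⟩ | ⟨hxE, hxW, -⟩) <;> exact ⟨hxE, hxW⟩
      rw [hsplit, Set.image_union, closure_union] at hz
      rcases hz with hz | hz
      · exact H (W ⊓ z₁) (inf_lt_left.2 hz₁') z hz
      · exact H (W ⊓ z₂) (inf_lt_left.2 hz₂') z hz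
  · refine H D hD z ?_
    have h0 : E ∩ (D : Set X) = E ∩ (W : Set X) := by
      ext x
      constructor
      · rintro ⟨hxE, hxD⟩; exact ⟨hxE, hDW hxD⟩
      · rintro ⟨hxE, hxW⟩; exact ⟨hxE, subset_closure ⟨hxE, hxW⟩⟩
    rw [h0]
    exact hz

end Groth.Agent.Lib.Helper22.Sard
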