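import Mathlib
import Groth.Agent.Lib.Helper22.SmoothJZ

/-!
# Cotangent spaces and the Jacobi–Zariski criterion (helper22)

`A → B → C` local homomorphism of local rings `B → C`, with `A → κ(C)` bijective (think of `A` an
algebraically closed field and `B`, `C` local rings at closed points of varieties).

* `mem_sq_of_tmul_D_eq_zero`: `1 ⊗ dc = 0` in `κ(C) ⊗ Ω[C/A]` and `c ∈ 𝔪_C` ⇒ `c ∈ 𝔪_C²`.
* `lTensor_injective_of_cotangent`: injectivity of `𝔪_B/𝔪_B² → 𝔪_C/𝔪_C²` (elementwise form) gives
  injectivity of `κ(C) ⊗ (C ⊗ Ω[B/A]) → κ(C) ⊗ Ω[C/A]`.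
* `cotangent_of_formallySmooth`: if `C` is formally smooth over `B` then
  `𝔪_B/𝔪_B² → 𝔪_C/𝔪_C²` is injective (elementwise form).
* `mapCotangent_injective_iff`.
-/

set_option autoImplicit false
set_option maxHeartbeats 400000
set_option linter.style.haveILetI false
set_option linter.unusedSectionVars false
universe u

open TensorProduct KaehlerDifferential IsLocalRing

namespace Groth.Agent.Lib.Helper22.SmoothJZ

theorem mapCotangent_injective_iff {R S : Type u} [CommRing R] [CommRing S] (I : Ideal R)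
    (J : Ideal S) (g : R →ₐ[ℤ] S) (h : I ≤ J.comap g) :
    Function.Injective (Ideal.mapCotangent I J g h) ↔ ∀ b ∈ I, g b ∈ J ^ 2 → b ∈ I ^ 2 := by
  constructor
  · intro hinj b hb hgb
    have h1 : Ideal.mapCotangent I J g h (I.toCotangent ⟨b, hb⟩) = 0 := by
      rw [Ideal.mapCotangent_toCotangent, Ideal.toCotangent_eq_zero]
      exact hgb
    have h2 : I.toCotangent ⟨b, hb⟩ = 0 := hinj (h1.trans (map_zero _).symm)
    rwa [Ideal.toCotangent_eq_zero] at h2
  · intro hcot
    rw [injective_iff_map_eq_zero]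
    intro z hz
    obtain ⟨⟨b, hb⟩, rfl⟩ := Ideal.toCotangent_surjective I z
    rw [Ideal.mapCotangent_toCotangent, Ideal.toCotangent_eq_zero] at hz
    rw [Ideal.toCotangent_eq_zero]
    exact hcot b hb hz

section L1

variable (A C : Type u) [CommRing A] [CommRing C] [Algebra A C] [IsLocalRing C]

theorem mem_sq_of_tmul_D_eq_zero
    (hbij : Function.Bijective (algebraMap A (ResidueField C)))
    (c : C) (hc : c ∈ maximalIdeal C)
    (h : (1 : ResidueField C) ⊗ₜ[C] KaehlerDifferential.D A C c = 0) :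
    c ∈ maximalIdeal C ^ 2 := by
  have hIm : RingHom.ker (algebraMap C (ResidueField C)) = maximalIdeal C := ker_residue
  have hsurj : Function.Surjective (algebraMap C (ResidueField C)) := residue_surjective
  let e : A ≃ₐ[A] ResidueField C := AlgEquiv.ofBijective (Algebra.ofId A _) hbij
  let g : ResidueField C →ₐ[A]
      C ⧸ RingHom.ker (IsScalarTower.toAlgHom A C (ResidueField C)).toRingHom ^ 2 :=
    (Algebra.ofId A _).comp e.symm.toAlgHom
  have hg : (IsScalarTower.toAlgHom A C (ResidueField C)).kerSquareLift.comp g =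
      AlgHom.id A _ := by
    apply AlgHom.ext
    intro y
    obtain ⟨a, rfl⟩ := hbij.2 y
    have h1 : e.symm (algebraMap A (ResidueField C) a) = a := by
      apply e.injective
      rw [AlgEquiv.apply_symm_apply]
      rfl
    show (IsScalarTower.toAlgHom A C (ResidueField C)).kerSquareLift
      (Algebra.ofId A _ (e.symm (algebraMap A (ResidueField C) a))) = _
    rw [h1, Algebra.ofId_apply, AlgHom.commutes]
    rfl
  obtain ⟨l, hl⟩ := (retractionKerCotangentToTensorEquivSection
    (R := A) (P := C) (S := ResidueField C) hsurj).symm ⟨g, hg⟩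
  have hcI : c ∈ RingHom.ker (algebraMap C (ResidueField C)) := by rw [hIm]; exact hc
  have h1 : KaehlerDifferential.kerCotangentToTensor A C (ResidueField C)
      (Ideal.toCotangent _ ⟨c, hcI⟩) = (1 : ResidueField C) ⊗ₜ[C] KaehlerDifferential.D A C c :=
    KaehlerDifferential.kerCotangentToTensor_toCotangent _ _ _ _
  have h2 : Ideal.toCotangent (RingHom.ker (algebraMap C (ResidueField C))) ⟨c, hcI⟩ = 0 := by
    have := LinearMap.congr_fun hl (Ideal.toCotangent _ ⟨c, hcI⟩)
    rw [LinearMap.comp_apply, h1, h, map_zero, LinearMap.id_apply] at this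
    exact this.symm
  rw [Ideal.toCotangent_eq_zero] at h2
  rw [← hIm]
  exact h2

end L1

variable (A B C : Type u) [CommRing A] [CommRing B] [CommRing C]
  [Algebra A B] [Algebra B C] [Algebra A C] [IsScalarTower A B C] [IsLocalRing B] [IsLocalRing C]
  [IsLocalHom (algebraMap B C)]

theorem algebraMap_mem_maximalIdeal (b : B) (hb : b ∈ maximalIdeal B) :
    algebraMap B C b ∈ maximalIdeal C :=
  (mem_maximalIdeal _).mpr (fun hu =>
    (mem_maximalIdeal _).mp hb (isUnit_of_map_unit (algebraMap B C) b hu))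

theorem algebraMap_residueField_eq_zero (b : B) (hb : b ∈ maximalIdeal B) :
    algebraMap B (ResidueField C) b = 0 := by
  rw [IsScalarTower.algebraMap_apply B C (ResidueField C), ResidueField.algebraMap_eq,
    residue_eq_zero_iff]
  exact algebraMap_mem_maximalIdeal B C b hb

theorem tmul_D_eq_zero_of_mem_sq (b : B) (hb : b ∈ maximalIdeal B ^ 2) :
    (1 : ResidueField C) ⊗ₜ[B] KaehlerDifferential.D A B b = 0 := by
  rw [pow_two] at hb
  refine Submodule.mul_induction_on hb ?_ ?_
  · intro x hx y hy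
    rw [Derivation.leibniz, TensorProduct.tmul_add, TensorProduct.tmul_smul,
      TensorProduct.tmul_smul, TensorProduct.smul_tmul', TensorProduct.smul_tmul',
      Algebra.smul_def, Algebra.smul_def, mul_one, mul_one,
      algebraMap_residueField_eq_zero B C x hx, algebraMap_residueField_eq_zero B C y hy]
    simp only [TensorProduct.zero_tmul, add_zero]
  · intro x y hx hy
    rw [map_add, TensorProduct.tmul_add, hx, hy, add_zero]

theorem exists_tmul_D (hA : Function.Surjective (algebraMap A (ResidueField C)))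
    (hB : ∀ b : B, ∃ a : A, b - algebraMap A B a ∈ maximalIdeal B)
    (ξ : (ResidueField C) ⊗[B] Ω[B⁄A]) :
    ∃ b ∈ maximalIdeal B, ξ = (1 : ResidueField C) ⊗ₜ[B] KaehlerDifferential.D A B b := by
  have hadd : ∀ b b' : B, (1 : ResidueField C) ⊗ₜ[B] KaehlerDifferential.D A B b +
      (1 : ResidueField C) ⊗ₜ[B] KaehlerDifferential.D A B b' =
      (1 : ResidueField C) ⊗ₜ[B] KaehlerDifferential.D A B (b + b') := by
    intro b b'
    rw [map_add, TensorProduct.tmul_add]
  have key : ∀ ω : Ω[B⁄A], ∀ l : ResidueField C, ∃ b ∈ maximalIdeal B,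
      l ⊗ₜ[B] ω = (1 : ResidueField C) ⊗ₜ[B] KaehlerDifferential.D A B b := by
    intro ω
    have hω : ω ∈ Submodule.span B (Set.range (KaehlerDifferential.D A B)) := by
      rw [KaehlerDifferential.span_range_derivation]
      trivial
    induction hω using Submodule.span_induction with
    | mem ω h =>
      obtain ⟨b', rfl⟩ := h
      intro l
      obtain ⟨a, rfl⟩ := hA l
      obtain ⟨a', ha'⟩ := hB b'
      refine ⟨algebraMap A B a * (b' - algebraMap A B a'), Ideal.mul_mem_left _ _ ha', ?_⟩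
      have h1 : KaehlerDifferential.D A B (algebraMap A B a * (b' - algebraMap A B a')) =
          algebraMap A B a • KaehlerDifferential.D A B b' := by
        rw [Derivation.leibniz, map_sub, Derivation.map_algebraMap, Derivation.map_algebraMap,
          sub_zero, smul_zero, add_zero]
      rw [h1, TensorProduct.tmul_smul, TensorProduct.smul_tmul', Algebra.smul_def, mul_one,
        ← IsScalarTower.algebraMap_apply A B (ResidueField C)]
    | zero =>
      intro l
      exact ⟨0, zero_mem _, by rw [map_zero, TensorProduct.tmul_zero, TensorProduct.tmul_zero]⟩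
    | add ω₁ ω₂ _ _ h₁ h₂ =>
      intro l
      obtain ⟨b₁, hb₁, e₁⟩ := h₁ l
      obtain ⟨b₂, hb₂, e₂⟩ := h₂ l
      exact ⟨b₁ + b₂, add_mem hb₁ hb₂, by rw [TensorProduct.tmul_add, e₁, e₂, hadd]⟩
    | smul r ω _ h =>
      intro l
      obtain ⟨b, hb, e⟩ := h (r • l)
      exact ⟨b, hb, by rw [← e, TensorProduct.smul_tmul]⟩
  induction ξ using TensorProduct.induction_on with
  | zero => exact ⟨0, zero_mem _, by rw [map_zero, TensorProduct.tmul_zero]⟩
  | tmul l ω => exact key ω l
  | add x y hx hy =>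
    obtain ⟨b₁, hb₁, rfl⟩ := hx
    obtain ⟨b₂, hb₂, rfl⟩ := hy
    exact ⟨b₁ + b₂, add_mem hb₁ hb₂, hadd _ _⟩

theorem exists_sub_mem_maximalIdeal
    (hA : Function.Surjective (algebraMap A (ResidueField C))) (b : B) :
    ∃ a : A, b - algebraMap A B a ∈ maximalIdeal B := by
  obtain ⟨a, ha⟩ := hA (algebraMap B (ResidueField C) b)
  refine ⟨a, ?_⟩
  by_contra hn
  have hu : IsUnit (b - algebraMap A B a) := by
    by_contra hnu
    exact hn ((mem_maximalIdeal _).mpr hnu)
  have hu' : IsUnit (algebraMap B (ResidueField C) (b - algebraMap A B a)) := hu.map _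
  rw [map_sub, ← IsScalarTower.algebraMap_apply A B (ResidueField C), ha, sub_self] at hu'
  exact not_isUnit_zero hu'

theorem lTensor_injective_of_cotangent
    (hA : Function.Bijective (algebraMap A (ResidueField C)))
    (hcot : ∀ b ∈ maximalIdeal B, algebraMap B C b ∈ maximalIdeal C ^ 2 → b ∈ maximalIdeal B ^ 2) :
    Function.Injective
      ((KaehlerDifferential.mapBaseChange A B C).lTensor (ResidueField C)) := by
  let e := TensorProduct.AlgebraTensorModule.cancelBaseChange B C (ResidueField C)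
    (ResidueField C) Ω[B⁄A]
  rw [injective_iff_map_eq_zero]
  intro ξ hξ
  obtain ⟨b, hb, hb'⟩ := exists_tmul_D A B C hA.2 (exists_sub_mem_maximalIdeal A B C hA.2) (e ξ)
  have he : e ((1 : ResidueField C) ⊗ₜ[C] ((1 : C) ⊗ₜ[B] KaehlerDifferential.D A B b)) =
      (1 : ResidueField C) ⊗ₜ[B] KaehlerDifferential.D A B b := by
    rw [TensorProduct.AlgebraTensorModule.cancelBaseChange_tmul, one_smul]
  have hξ' : ξ = (1 : ResidueField C) ⊗ₜ[C] ((1 : C) ⊗ₜ[B] KaehlerDifferential.D A B b) := by
    apply e.injective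
    rw [hb', he]
  rw [hξ'] at hξ ⊢
  rw [LinearMap.lTensor_tmul, KaehlerDifferential.mapBaseChange_tmul, one_smul,
    KaehlerDifferential.map_D] at hξ
  have hloc : algebraMap B C b ∈ maximalIdeal C := algebraMap_mem_maximalIdeal B C b hb
  have h1 := mem_sq_of_tmul_D_eq_zero A C hA (algebraMap B C b) hloc hξ
  have h3 := tmul_D_eq_zero_of_mem_sq A B C b (hcot b hb h1)
  apply e.injective
  rw [map_zero, he, h3]

/-- If `C` is formally smooth over `B` (local homomorphism of local rings with `B → κ(C)`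
surjective), then `𝔪_B/𝔪_B² → 𝔪_C/𝔪_C²` is injective. -/
theorem cotangent_of_formallySmooth [Algebra.FormallySmooth B C]
    (hsurj : Function.Surjective (algebraMap B (ResidueField C)))
    (b : B) (hb : b ∈ maximalIdeal B) (hφ : algebraMap B C b ∈ maximalIdeal C ^ 2) :
    b ∈ maximalIdeal B ^ 2 := by
  -- the target ring and its square-zero ideal
  let J : Ideal (B ⧸ maximalIdeal B ^ 2) := (maximalIdeal B).map (Ideal.Quotient.mk _)
  have hJ2 : J ^ 2 = ⊥ := by
    rw [← Ideal.map_pow, Ideal.map_quotient_self]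
  -- `κ(C) → T ⧸ J`
  let K : Ideal B := RingHom.ker (Algebra.ofId B (ResidueField C))
  have hK : ∀ a ∈ K, Algebra.ofId B ((B ⧸ maximalIdeal B ^ 2) ⧸ J) a = 0 := by
    intro a ha
    have ha' : a ∈ maximalIdeal B := by
      by_contra hn
      have hu : IsUnit a := by
        by_contra hnu
        exact hn ((mem_maximalIdeal _).mpr hnu)
      have hu' : IsUnit (algebraMap B (ResidueField C) a) := hu.map _
      have h0 : algebraMap B (ResidueField C) a = 0 := ha
      rw [h0] at hu'
      exact not_isUnit_zero hu'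
    show Ideal.Quotient.mk J (Ideal.Quotient.mk _ a) = 0
    rw [Ideal.Quotient.eq_zero_iff_mem]
    exact Ideal.mem_map_of_mem _ ha'
  let g₁ : (B ⧸ K) →ₐ[B] (B ⧸ maximalIdeal B ^ 2) ⧸ J := Ideal.Quotient.liftₐ K (Algebra.ofId B _) hK
  let ε : (B ⧸ K) ≃ₐ[B] ResidueField C :=
    Ideal.quotientKerAlgEquivOfSurjective (f := Algebra.ofId B (ResidueField C)) hsurj
  let g : C →ₐ[B] (B ⧸ maximalIdeal B ^ 2) ⧸ J :=
    (g₁.comp ε.symm.toAlgHom).comp (IsScalarTower.toAlgHom B C (ResidueField C))
  obtain ⟨ψ, hψ⟩ := Algebra.FormallySmooth.exists_lift J ⟨2, hJ2⟩ g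
  -- `ψ` maps `𝔪_C` into `J`
  have hψm : maximalIdeal C ≤ J.comap ψ := by
    intro c hc
    rw [Ideal.mem_comap, ← Ideal.Quotient.eq_zero_iff_mem]
    have h1 : Ideal.Quotient.mk J (ψ c) = g c := AlgHom.congr_fun hψ c
    rw [h1]
    show (g₁.comp ε.symm.toAlgHom) (algebraMap C (ResidueField C) c) = 0
    have h2 : algebraMap C (ResidueField C) c = 0 := by
      rw [ResidueField.algebraMap_eq, residue_eq_zero_iff]
      exact hc
    rw [h2, map_zero]
  have hψ2 : maximalIdeal C ^ 2 ≤ RingHom.ker ψ := by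
    calc maximalIdeal C ^ 2 ≤ (J.comap ψ) ^ 2 := Ideal.pow_right_mono hψm 2
      _ ≤ (J ^ 2).comap ψ := Ideal.le_comap_pow _ 2
      _ = RingHom.ker ψ := by rw [hJ2]; rfl
  have h3 : ψ (algebraMap B C b) = 0 := hψ2 hφ
  rw [AlgHom.commutes] at h3
  exact Ideal.Quotient.eq_zero_iff_mem.mp h3

end Groth.Agent.Lib.Helper22.SmoothJZ
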