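import Mathlib
import Groth.Prelude.Def_FixPt
import Groth.Agent.Lib.Helper22.SmoothJZ2
import Groth.Agent.Lib.Helper22.SmoothJZ3

/-!
# Smoothness of a morphism of smooth varieties via the cotangent maps at closed points (helper22)
-/

set_option autoImplicit false
set_option maxHeartbeats 400000
set_option linter.style.haveILetI false
set_option linter.unusedSectionVars false
universe u

open TensorProduct AlgebraicGeometry CategoryTheory KaehlerDifferential TopologicalSpace

namespace Groth.Agent.Lib.Helper22.SmoothJZ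

theorem isField_stalk_Spec (k : Type u) [Field k] (y : Spec (CommRingCat.of k)) :
    IsField ((Spec (CommRingCat.of k)).presheaf.stalk y) := by
  have hy : y.asIdeal = ⊥ := Ideal.eq_bot_of_prime _
  have h1 : IsField (Localization.AtPrime y.asIdeal) := by
    rw [IsLocalRing.isField_iff_maximalIdeal_eq,
      ← IsLocalization.AtPrime.map_eq_maximalIdeal y.asIdeal (Localization.AtPrime y.asIdeal),
      ← le_bot_iff, Ideal.map_le_iff_le_comap]
    intro a ha
    rw [hy, Ideal.mem_bot] at ha
    rw [ha]
    exact zero_mem _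
  exact MulEquiv.isField h1
    (Spec.stalkIso (CommRingCat.of k) y).commRingCatIsoToRingEquiv.toMulEquiv

theorem bijective_algebraMap_residueField (k : Type u) [Field k] [IsAlgClosed k] {X : Scheme.{u}}
    (qX : X ⟶ Spec (CommRingCat.of k)) [LocallyOfFiniteType qX] (x : X)
    (hx : IsClosed ({x} : Set X)) :
    letI := (qX.stalkMap x).hom.toAlgebra
    Function.Bijective (algebraMap ((Spec (CommRingCat.of k)).presheaf.stalk (qX.base x))
      (IsLocalRing.ResidueField (X.presheaf.stalk x))) := by
  letI := (qX.stalkMap x).hom.toAlgebra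
  have hcomp : ∀ a, algebraMap ((Spec (CommRingCat.of k)).presheaf.stalk (qX.base x))
      (IsLocalRing.ResidueField (X.presheaf.stalk x)) a =
      (qX.residueFieldMap x).hom (IsLocalRing.residue _ a) := fun a => rfl
  -- the residue field map is bijective
  have hrfm : Function.Surjective (qX.residueFieldMap x).hom := by
    have h1 := Scheme.Hom.SpecMap_residueFieldMap_fromSpecResidueField qX x
    rw [← SpecMap_residueFieldIsoBase_inv qX x hx,
      ← Scheme.Spec.map_residueFieldIso_inv_eq_fromSpecResidueField, ← Spec.map_comp, ← Spec.map_comp,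
      Spec.map_inj] at h1
    intro z
    obtain ⟨t, rfl⟩ : ∃ t, (residueFieldIsoBase qX x hx).inv.hom t = z :=
      ((ConcreteCategory.isIso_iff_bijective (residueFieldIsoBase qX x hx).inv).mp
        inferInstance).2 z
    rw [← h1]
    refine ⟨(CommRingCat.ofHom (algebraMap (CommRingCat.of k) (qX.base x).asIdeal.ResidueField) ≫
      (Scheme.Spec.residueFieldIso (CommRingCat.of k) (qX.base x)).inv).hom t, ?_⟩
    rfl
  have hfield := isField_stalk_Spec k (qX.base x)
  constructor
  · intro a b hab
    rw [hcomp, hcomp] at hab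
    have h2 := (qX.residueFieldMap x).hom.injective hab
    have h3 : a - b ∈ IsLocalRing.maximalIdeal _ := by
      rw [← IsLocalRing.residue_eq_zero_iff, map_sub, h2, sub_self]
    rw [IsLocalRing.isField_iff_maximalIdeal_eq.mp hfield, Ideal.mem_bot, sub_eq_zero] at h3
    exact h3
  · intro z
    obtain ⟨w, rfl⟩ := hrfm z
    obtain ⟨a, rfl⟩ := IsLocalRing.residue_surjective w
    exact ⟨a, hcomp a⟩

theorem stalkMapAt_rfl {X Y : Scheme.{u}} (f : X ⟶ Y) (x : X) (b : Y.presheaf.stalk (f.base x)) :
    FixPt.stalkMapAt f x (f.base x) rfl b = (f.stalkMap x).hom b := by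
  simp [FixPt.stalkMapAt, TopCat.Presheaf.stalkCongr]

theorem cotangentMapAt_injective_iff {X Y : Scheme.{u}} (f : X ⟶ Y) (x : X) :
    Function.Injective (FixPt.cotangentMapAt f x (f.base x) rfl) ↔
      ∀ b ∈ IsLocalRing.maximalIdeal (Y.presheaf.stalk (f.base x)),
        (f.stalkMap x).hom b ∈ IsLocalRing.maximalIdeal (X.presheaf.stalk x) ^ 2 →
          b ∈ IsLocalRing.maximalIdeal (Y.presheaf.stalk (f.base x)) ^ 2 := by
  unfold FixPt.cotangentMapAt
  rw [mapCotangent_injective_iff]
  constructor
  · intro h b hb hφ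
    refine h b hb ?_
    show FixPt.stalkMapAt f x (f.base x) rfl b ∈ _
    rw [stalkMapAt_rfl]
    exact hφ
  · intro h b hb hφ
    refine h b hb ?_
    have : FixPt.stalkMapAt f x (f.base x) rfl b ∈
        IsLocalRing.maximalIdeal (X.presheaf.stalk x) ^ 2 := hφ
    rwa [stalkMapAt_rfl] at this

/-- A smooth morphism between irreducible smooth `k`-schemes is smooth of relative dimension
`dim X - dim Y`. -/
theorem smoothOfRelativeDimension_of_smooth (k : Type u) [Field k] {X Y : Scheme.{u}}
    (qY : Y ⟶ Spec (CommRingCat.of k)) [Smooth qY] [IrreducibleSpace Y]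
    (f : X ⟶ Y) [Smooth (f ≫ qY)] [IrreducibleSpace X] [Smooth f]
    (n dY : ℕ) (hY : topologicalKrullDim ↥Y = dY)
    (hX : topologicalKrullDim ↥X = ((dY + n : ℕ) : WithBot ℕ∞)) :
    SmoothOfRelativeDimension n f := by
  have hdimX : ∀ x : X, FlatMor.fibreDimAt (f ≫ qY) x = ((dY + n : ℕ) : WithBot ℕ∞) :=
    fun x => fibreDimAt_eq_of_irreducible_field k (f ≫ qY) (dY + n) hX x
  have hdimY : ∀ y : Y, FlatMor.fibreDimAt qY y = (dY : WithBot ℕ∞) :=
    fun y => fibreDimAt_eq_of_irreducible_field k qY dY hY y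
  refine ⟨fun x => ?_⟩
  obtain ⟨m, V, hV, W, hW, hxW, e, hss, hdim⟩ := SmoothMono.exists_chart f x
  have h1 := Groth.Agent.Lib.Helper22.SmoothRelDim.fibreDimAt_comp f qY x
  rw [hdimX, hdim, hdimY] at h1
  have hm : m = n := by
    have h2 : dY + n = m + dY := by exact_mod_cast h1
    omega
  subst hm
  exact ⟨V, hV, W, hW, hxW, e, hss⟩

theorem mem_smoothLocus_of_cotangent (k : Type u) [Field k] [IsAlgClosed k] {X Y : Scheme.{u}}
    (qY : Y ⟶ Spec (CommRingCat.of k)) [Smooth qY] (f : X ⟶ Y) [Smooth (f ≫ qY)]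
    [LocallyOfFinitePresentation f] (x : X) (hx : IsClosed ({x} : Set X))
    (hinj : Function.Injective (FixPt.cotangentMapAt f x (f.base x) rfl)) :
    x ∈ f.smoothLocus := by
  rw [Scheme.Hom.mem_smoothLocus]
  obtain ⟨c', -, hfreeC, hfinC, -⟩ := SmoothMono.stalk_kaehler (f ≫ qY) x
  obtain ⟨b', -, hfreeB, hfinB, -⟩ := SmoothMono.stalk_kaehler qY (f.base x)
  letI algAB : Algebra ((Spec (CommRingCat.of k)).presheaf.stalk (qY.base (f.base x)))
      (Y.presheaf.stalk (f.base x)) := (qY.stalkMap (f.base x)).hom.toAlgebra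
  letI algBC : Algebra (Y.presheaf.stalk (f.base x)) (X.presheaf.stalk x) :=
    (f.stalkMap x).hom.toAlgebra
  letI algAC : Algebra ((Spec (CommRingCat.of k)).presheaf.stalk (qY.base (f.base x)))
      (X.presheaf.stalk x) := ((f ≫ qY).stalkMap x).hom.toAlgebra
  haveI : IsScalarTower ((Spec (CommRingCat.of k)).presheaf.stalk (qY.base (f.base x)))
      (Y.presheaf.stalk (f.base x)) (X.presheaf.stalk x) := by
    refine IsScalarTower.of_algebraMap_eq (fun a => ?_)
    show ((f ≫ qY).stalkMap x).hom a = (f.stalkMap x).hom ((qY.stalkMap (f.base x)).hom a)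
    rw [Scheme.Hom.stalkMap_comp]
    rfl
  haveI : Algebra.FormallySmooth ((Spec (CommRingCat.of k)).presheaf.stalk (qY.base (f.base x)))
      (X.presheaf.stalk x) := by
    have h1 : x ∈ (f ≫ qY).smoothLocus := by
      rw [Scheme.Hom.smoothLocus_eq_top]
      trivial
    exact h1
  haveI : IsLocalHom (algebraMap (Y.presheaf.stalk (f.base x)) (X.presheaf.stalk x)) :=
    inferInstanceAs (IsLocalHom (f.stalkMap x).hom)
  haveI := hfinB
  haveI hfreeC' : Module.Free (X.presheaf.stalk x)
      Ω[X.presheaf.stalk x⁄(Spec (CommRingCat.of k)).presheaf.stalk (qY.base (f.base x))] := hfreeC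
  haveI hfinC' : Module.Finite (X.presheaf.stalk x)
      Ω[X.presheaf.stalk x⁄(Spec (CommRingCat.of k)).presheaf.stalk (qY.base (f.base x))] := hfinC
  have hA : Function.Bijective
      (algebraMap ((Spec (CommRingCat.of k)).presheaf.stalk (qY.base (f.base x)))
        (IsLocalRing.ResidueField (X.presheaf.stalk x))) :=
    bijective_algebraMap_residueField k (f ≫ qY) x hx
  exact formallySmooth_of_lTensor_injective
    ((Spec (CommRingCat.of k)).presheaf.stalk (qY.base (f.base x)))
    (Y.presheaf.stalk (f.base x)) (X.presheaf.stalk x)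
    (lTensor_injective_of_cotangent _ _ _ hA ((cotangentMapAt_injective_iff f x).mp hinj))

theorem smooth_of_cotangent_injective (k : Type u) [Field k] [IsAlgClosed k] {X Y : Scheme.{u}}
    (qY : Y ⟶ Spec (CommRingCat.of k)) [Smooth qY] (f : X ⟶ Y) [Smooth (f ≫ qY)]
    (h : ∀ x : X, IsClosed ({x} : Set X) →
      Function.Injective (FixPt.cotangentMapAt f x (f.base x) rfl)) :
    Smooth f := by
  haveI : LocallyOfFinitePresentation f :=
    Groth.Agent.Lib.Helper12.FibreDominant.locallyOfFinitePresentation_of_comp f qY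
  haveI : JacobsonSpace X := LocallyOfFiniteType.jacobsonSpace (f ≫ qY)
  rw [← Scheme.Hom.smoothLocus_eq_top_iff]
  by_contra hne
  have hZ : ((f.smoothLocus : Set X)ᶜ).Nonempty := by
    rw [Set.nonempty_compl]
    intro htop
    apply hne
    ext y
    simp only [Opens.coe_top, Set.mem_univ, iff_true]
    have : y ∈ (f.smoothLocus : Set X) := by rw [htop]; trivial
    exact this
  obtain ⟨x, hxZ, hx⟩ := (jacobsonSpace_iff_locallyClosed.mp inferInstance) _ hZ
    (f.smoothLocus.2.isClosed_compl.isLocallyClosed)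
  exact hxZ (mem_smoothLocus_of_cotangent k qY f x hx (h x hx))

theorem cotangent_injective_of_smooth (k : Type u) [Field k] [IsAlgClosed k] {X Y : Scheme.{u}}
    (qY : Y ⟶ Spec (CommRingCat.of k)) (f : X ⟶ Y) [LocallyOfFiniteType (f ≫ qY)] [Smooth f]
    (x : X) (hx : IsClosed ({x} : Set X)) :
    Function.Injective (FixPt.cotangentMapAt f x (f.base x) rfl) := by
  rw [cotangentMapAt_injective_iff]
  letI algAB : Algebra ((Spec (CommRingCat.of k)).presheaf.stalk (qY.base (f.base x)))
      (Y.presheaf.stalk (f.base x)) := (qY.stalkMap (f.base x)).hom.toAlgebra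
  letI algBC : Algebra (Y.presheaf.stalk (f.base x)) (X.presheaf.stalk x) :=
    (f.stalkMap x).hom.toAlgebra
  letI algAC : Algebra ((Spec (CommRingCat.of k)).presheaf.stalk (qY.base (f.base x)))
      (X.presheaf.stalk x) := ((f ≫ qY).stalkMap x).hom.toAlgebra
  haveI : IsScalarTower ((Spec (CommRingCat.of k)).presheaf.stalk (qY.base (f.base x)))
      (Y.presheaf.stalk (f.base x)) (X.presheaf.stalk x) := by
    refine IsScalarTower.of_algebraMap_eq (fun a => ?_)
    show ((f ≫ qY).stalkMap x).hom a = (f.stalkMap x).hom ((qY.stalkMap (f.base x)).hom a)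
    rw [Scheme.Hom.stalkMap_comp]
    rfl
  haveI : IsLocalHom (algebraMap (Y.presheaf.stalk (f.base x)) (X.presheaf.stalk x)) :=
    inferInstanceAs (IsLocalHom (f.stalkMap x).hom)
  haveI : Algebra.FormallySmooth (Y.presheaf.stalk (f.base x)) (X.presheaf.stalk x) := by
    have h1 : x ∈ f.smoothLocus := by
      rw [Scheme.Hom.smoothLocus_eq_top]
      trivial
    exact h1
  have hA : Function.Bijective
      (algebraMap ((Spec (CommRingCat.of k)).presheaf.stalk (qY.base (f.base x)))
        (IsLocalRing.ResidueField (X.presheaf.stalk x))) :=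
    bijective_algebraMap_residueField k (f ≫ qY) x hx
  have hsurjB : Function.Surjective (algebraMap (Y.presheaf.stalk (f.base x))
      (IsLocalRing.ResidueField (X.presheaf.stalk x))) := by
    intro y
    obtain ⟨a, rfl⟩ := hA.2 y
    exact ⟨algebraMap _ _ a, (IsScalarTower.algebraMap_apply _ _ _ a).symm⟩
  intro b hb hφ
  exact cotangent_of_formallySmooth (Y.presheaf.stalk (f.base x)) (X.presheaf.stalk x) hsurjB b hb hφ

end Groth.Agent.Lib.Helper22.SmoothJZ
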