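import Mathlib
import Groth.Prelude.Def_FixPt
import Groth.Agent.Lib.Helper22.Sard1
import Groth.Agent.Lib.Helper22.SmoothJZ4
import Groth.Agent.Lib.Helper22.GenSmooth
import Groth.Agent.Lib.Helper12.FibreMax
import Groth.Agent.Lib.Helper12.SchemeDimFT4
import Groth.Agent.Lib.Helper12.ClosedSub
import Groth.Agent.Lib.Helper7.RedLib

/-!
# A Sard-type dimension bound: scheme-theoretic part (helper22)
-/

set_option autoImplicit false
set_option maxHeartbeats 400000
set_option linter.style.haveILetI false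
set_option linter.unusedSectionVars false
universe u

open AlgebraicGeometry CategoryTheory TopologicalSpace IsLocalRing

namespace Groth.Agent.Lib.Helper22.Sard

open Groth.Agent.Lib.Helper12 Groth.Agent.Lib.Helper22.SmoothJZ

attribute [local instance] Curv2.resAlgebra

theorem map_mem_maximalIdeal {R S : Type*} [CommRing R] [CommRing S] [IsLocalRing R]
    [IsLocalRing S] (ψ : R →+* S) [IsLocalHom ψ] (a : R) (ha : a ∈ maximalIdeal R) :
    ψ a ∈ maximalIdeal S := by
  rw [mem_maximalIdeal, mem_nonunits_iff] at ha ⊢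
  exact fun hu => ha ((isUnit_map_iff ψ a).mp hu)

/-- The local ring at a closed point of an irreducible scheme locally of finite type over a field
has the dimension of the scheme. -/
theorem ringKrullDim_stalk_eq_topologicalKrullDim (k : Type u) [Field k] (T : Scheme.{u})
    (q : T ⟶ Spec (CommRingCat.of k)) [LocallyOfFiniteType q] [IrreducibleSpace T]
    (y : T) (hy : IsClosed ({y} : Set T)) :
    ringKrullDim (T.presheaf.stalk y) = topologicalKrullDim T := by
  letI : T.Over (Spec (CommRingCat.of k)) := ⟨q⟩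
  haveI : LocallyOfFiniteType (T ↘ Spec (CommRingCat.of k)) := ‹LocallyOfFiniteType q›
  haveI : IsLocallyNoetherian T := LocallyOfFiniteType.isLocallyNoetherian q
  obtain ⟨m, hm⟩ := SchemeDimFT.exists_trdeg_eq k T (genericPoint T)
  have h1 := SchemeDimFT.topologicalKrullDim_eq_of_irreducible k T m hm
  have h2 := SchemeDimFT.localDim_eq_of_irreducible k T m hm y
  obtain ⟨b, hb⟩ := FibreMax.exists_nat_ringKrullDim_stalk T y
  have h0 : Algebra.trdeg k (T.residueField y) = ((0 : ℕ) : Cardinal.{u}) := by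
    rw [SchemeDimFT.tr_spec k T y, SchemeDimFT.tr_eq_zero_of_isClosed k T y hy]
  have h3 := SchemeDimFT.localDim_eq k T y 0 b h0 hb
  rw [h2] at h3
  rw [hb, h1, h3, zero_add]

/-- The local statement: in a commutative square `h ≫ i = j ≫ f` of `k`-schemes with `i` a closed
immersion and `h` smooth, a closed point `u` at which the cotangent map of `f` (at `j u`) has image
in the span of at most `r` vectors has `dim O_{T, h u} ≤ r`. -/
theorem ringKrullDim_stalk_le (k : Type u) [Field k] [IsAlgClosed k]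
    {X Y U T : Scheme.{u}} (qY : Y ⟶ Spec (CommRingCat.of k)) (f : X ⟶ Y)
    [LocallyOfFiniteType (f ≫ qY)]
    (j : U ⟶ X) (h : U ⟶ T) (i : T ⟶ Y) [IsClosedImmersion i] [Smooth h]
    [LocallyOfFiniteType (h ≫ i ≫ qY)] [IsLocallyNoetherian T]
    (hsq : h ≫ i = j ≫ f) (u : U) (hu : IsClosed ({u} : Set U))
    (hx : IsClosed ({j.base u} : Set X))
    (r : ℕ) (S : Finset (CotangentSpace (X.presheaf.stalk (j.base u)))) (hS : S.card ≤ r)
    (hSspan : (LinearMap.range (FixPt.cotangentMapAt f (j.base u) (f.base (j.base u)) rfl) :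
        Set (CotangentSpace (X.presheaf.stalk (j.base u)))) ⊆
      (Submodule.span (ResidueField (X.presheaf.stalk (j.base u)))
        (S : Set (CotangentSpace (X.presheaf.stalk (j.base u)))) :
          Set (CotangentSpace (X.presheaf.stalk (j.base u))))) :
    ringKrullDim (T.presheaf.stalk (h.base u)) ≤ r := by
  have e1 := Scheme.Hom.stalkMap_congr_hom (j ≫ f) (h ≫ i) hsq.symm u
  rw [Scheme.Hom.stalkMap_comp, Scheme.Hom.stalkMap_comp] at e1
  have hpt : (j ≫ f).base u = (h ≫ i).base u := by rw [hsq]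
  -- the four ring maps
  haveI hαloc : IsLocalHom
      ((Y.presheaf.stalkCongr (.of_eq hpt)).hom ≫ i.stalkMap (h.base u)).hom := by
    have h1 : IsLocalHom (Y.presheaf.stalkCongr (.of_eq hpt)).hom.hom :=
      isLocalHom_of_iso (Y.presheaf.stalkCongr (.of_eq hpt))
    have h2 : IsLocalHom (i.stalkMap (h.base u)).hom := inferInstance
    exact @CommRingCat.isLocalHom_comp _ _ _ (Y.presheaf.stalkCongr (.of_eq hpt)).hom
      (i.stalkMap (h.base u)) h2 h1
  have hαsurj : Function.Surjective
      ((Y.presheaf.stalkCongr (.of_eq hpt)).hom ≫ i.stalkMap (h.base u)).hom := by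
    intro a'
    obtain ⟨b, hb⟩ := i.stalkMap_surjective (h.base u) a'
    refine ⟨(Y.presheaf.stalkCongr (.of_eq hpt)).inv.hom b, ?_⟩
    show (i.stalkMap (h.base u)).hom ((Y.presheaf.stalkCongr (.of_eq hpt)).hom.hom
      ((Y.presheaf.stalkCongr (.of_eq hpt)).inv.hom b)) = a'
    rw [← CommRingCat.comp_apply, Iso.inv_hom_id, CommRingCat.id_apply]
    exact hb
  refine ringKrullDim_le_of_cotangent
    (A := Y.presheaf.stalk (f.base (j.base u))) (B := X.presheaf.stalk (j.base u))
    (A' := T.presheaf.stalk (h.base u)) (B' := U.presheaf.stalk u)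
    (f.stalkMap (j.base u)).hom
    ((Y.presheaf.stalkCongr (.of_eq hpt)).hom ≫ i.stalkMap (h.base u)).hom
    (j.stalkMap u).hom (h.stalkMap u).hom
    (fun a ha => map_mem_maximalIdeal (f.stalkMap (j.base u)).hom a ha)
    (fun a ha => map_mem_maximalIdeal
      ((Y.presheaf.stalkCongr (.of_eq hpt)).hom ≫ i.stalkMap (h.base u)).hom a ha)
    (fun a ha => map_mem_maximalIdeal (j.stalkMap u).hom a ha)
    ?_ ?_ ?_ ?_ r S hS ?_
  · intro a
    exact (congrArg (fun ψ : Y.presheaf.stalk (f.base (j.base u)) ⟶ U.presheaf.stalk u =>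
      ψ.hom a) e1).symm
  · intro a' ha'
    obtain ⟨a, rfl⟩ := hαsurj a'
    refine ⟨a, ?_, rfl⟩
    rw [mem_maximalIdeal] at ha' ⊢
    exact (map_mem_nonunits_iff
      ((Y.presheaf.stalkCongr (.of_eq hpt)).hom ≫ i.stalkMap (h.base u)).hom a).mp ha'
  · intro b
    letI := ((f ≫ qY).stalkMap (j.base u)).hom.toAlgebra
    obtain ⟨c, hc⟩ := (bijective_algebraMap_residueField k (f ≫ qY) (j.base u) hx).2
      (residue _ b)
    refine ⟨(qY.stalkMap (f.base (j.base u))).hom c, ?_⟩
    rw [← residue_eq_zero_iff, map_sub, sub_eq_zero, ← hc]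
    show residue _ (((f ≫ qY).stalkMap (j.base u)).hom c) = _
    rw [Scheme.Hom.stalkMap_comp]
    rfl
  · have h1 := cotangent_injective_of_smooth k (i ≫ qY) h u hu
    exact (cotangentMapAt_injective_iff h u).mp h1
  · intro a ha
    refine hSspan ?_
    refine ⟨(maximalIdeal (Y.presheaf.stalk (f.base (j.base u)))).toCotangent ⟨a, ha⟩, ?_⟩
    unfold FixPt.cotangentMapAt
    rw [Ideal.mapCotangent_toCotangent]
    congr 1
    apply Subtype.ext
    exact stalkMapAt_rfl f (j.base u) a

/-- schemes of finite type over a field are Noetherian -/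
theorem isNoetherian_of_finiteType (k : Type u) [Field k] {Z : Scheme.{u}}
    (q : Z ⟶ Spec (CommRingCat.of k)) [LocallyOfFiniteType q] [QuasiCompact q] :
    IsNoetherian Z :=
  { __ := LocallyOfFiniteType.isLocallyNoetherian q
    __ := QuasiCompact.compactSpace_of_compactSpace q }

theorem charZero_functionField (k : Type u) [Field k] [CharZero k] (T : Scheme.{u}) [IsIntegral T]
    (q : T ⟶ Spec (CommRingCat.of k)) : CharZero T.functionField := by
  let ψ : k →+* T.functionField :=
    (T.presheaf.germ ⊤ (genericPoint T) trivial).hom.comp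
      ((q.appTop).hom.comp (Scheme.ΓSpecIso (CommRingCat.of k)).inv.hom)
  exact charZero_of_injective_ringHom ψ.injective

open Groth.Agent.Lib.Helper22.GenSmooth in
/-- generic smoothness in characteristic zero, without the relative dimension -/
theorem exists_open_smooth
    (X Y : Scheme.{u}) [IsIntegral X] [IsIntegral Y] [IsNoetherian X] [IsNoetherian Y]
    (π : X ⟶ Y) [LocallyOfFiniteType π]
    (hdom : π.base (genericPoint X) = genericPoint Y) [CharZero Y.functionField] :
    ∃ U : X.Opens, (U : Set X).Nonempty ∧ Smooth (U.ι ≫ π) := by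
  have hK : IsField (Y.presheaf.stalk (π.base (genericPoint X))) := by
    rw [hdom]
    exact Field.toIsField Y.functionField
  have hL : IsField (X.presheaf.stalk (genericPoint X)) := Field.toIsField X.functionField
  haveI hchar : CharZero (Y.presheaf.stalk (π.base (genericPoint X))) := by
    rw [hdom]
    exact ‹CharZero Y.functionField›
  letI algKL : Algebra (Y.presheaf.stalk (π.base (genericPoint X)))
      (X.presheaf.stalk (genericPoint X)) := (π.stalkMap (genericPoint X)).hom.toAlgebra
  haveI hess : Algebra.EssFiniteType (Y.presheaf.stalk (π.base (genericPoint X)))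
      (X.presheaf.stalk (genericPoint X)) := LocallyOfFiniteType.stalkMap π (genericPoint X)
  haveI hfs : Algebra.FormallySmooth (Y.presheaf.stalk (π.base (genericPoint X)))
      (X.presheaf.stalk (genericPoint X)) := formallySmooth_of_charZero _ _ hK hL
  have hn := trdeg_eq_finrank_kaehler' (Y.presheaf.stalk (π.base (genericPoint X)))
      (X.presheaf.stalk (genericPoint X)) hK hL
  obtain ⟨U, hU, hsm⟩ := exists_open_smoothOfRelativeDimension X Y π hdom _ hn
  haveI := hsm
  exact ⟨U, hU, SmoothOfRelativeDimension.smooth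
    (Module.finrank (X.presheaf.stalk (genericPoint X))
      Ω[X.presheaf.stalk (genericPoint X)⁄Y.presheaf.stalk (π.base (genericPoint X))])
    (U.ι ≫ π)⟩

open Groth.Agent.Lib.Helper12.ClosedSub in
/-- Main step: if the set `E` of closed points at which the cotangent map has rank `≤ r` is dense
in `closure {ξ}`, then `dim closure {f ξ} ≤ r`. -/
theorem topologicalKrullDim_closure_le (k : Type u) [Field k] [IsAlgClosed k] [CharZero k]
    {X Y : Scheme.{u}} (qY : Y ⟶ Spec (CommRingCat.of k)) [LocallyOfFiniteType qY]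
    [QuasiCompact qY] (f : X ⟶ Y) [LocallyOfFiniteType (f ≫ qY)] [QuasiCompact (f ≫ qY)]
    (r : ℕ) (E : Set X)
    (hE : ∀ x ∈ E, IsClosed ({x} : Set X) ∧
      ∃ S : Finset (CotangentSpace (X.presheaf.stalk x)), S.card ≤ r ∧
        (LinearMap.range (FixPt.cotangentMapAt f x (f.base x) rfl) :
          Set (CotangentSpace (X.presheaf.stalk x))) ⊆
          (Submodule.span (ResidueField (X.presheaf.stalk x))
            (S : Set (CotangentSpace (X.presheaf.stalk x))) :
              Set (CotangentSpace (X.presheaf.stalk x))))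
    (ξ : X) (hξ : ξ ∈ closure (E ∩ closure {ξ})) :
    topologicalKrullDim (closure ({f.base ξ} : Set Y)) ≤ r := by
  haveI : IsReduced (clSub X ξ) := Groth.Agent.Lib.Helper7.isReduced_vanishingIdeal_subscheme _
  haveI : IsReduced (clSub Y (f.base ξ)) :=
    Groth.Agent.Lib.Helper7.isReduced_vanishingIdeal_subscheme _
  haveI : IsIntegral (clSub X ξ) := isIntegral_of_irreducibleSpace_of_isReduced _
  haveI : IsIntegral (clSub Y (f.base ξ)) := isIntegral_of_irreducibleSpace_of_isReduced _
  -- the induced morphism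
  obtain ⟨f', hf'⟩ := Groth.Agent.Lib.Helper7.exists_lift_of_isReduced_of_range_subset
    (clSubι X ξ ≫ f) (clSubι Y (f.base ξ)) (by
      rintro _ ⟨w, rfl⟩
      rw [range_clSubι]
      have h1 : ξ ⤳ clSubι X ξ w := specializes_clSubι X ξ w
      exact specializes_iff_mem_closure.mp (h1.map f.continuous))
  -- finiteness
  haveI : LocallyOfFiniteType (clSubι X ξ ≫ f ≫ qY) := inferInstance
  haveI : QuasiCompact (clSubι X ξ ≫ f ≫ qY) := inferInstance
  haveI : LocallyOfFiniteType (clSubι Y (f.base ξ) ≫ qY) := inferInstance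
  haveI : QuasiCompact (clSubι Y (f.base ξ) ≫ qY) := inferInstance
  haveI : IsNoetherian (clSub X ξ) := isNoetherian_of_finiteType k (clSubι X ξ ≫ f ≫ qY)
  haveI : IsNoetherian (clSub Y (f.base ξ)) :=
    isNoetherian_of_finiteType k (clSubι Y (f.base ξ) ≫ qY)
  have hcomp : f' ≫ clSubι Y (f.base ξ) ≫ qY = clSubι X ξ ≫ f ≫ qY := by
    rw [← Category.assoc, hf', Category.assoc]
  haveI : LocallyOfFiniteType (f' ≫ clSubι Y (f.base ξ) ≫ qY) := by
    rw [hcomp]; infer_instance
  haveI : LocallyOfFiniteType f' := locallyOfFiniteType_of_comp f' (clSubι Y (f.base ξ) ≫ qY)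
  haveI : CharZero (clSub Y (f.base ξ)).functionField :=
    charZero_functionField k _ (clSubι Y (f.base ξ) ≫ qY)
  have hdom : f'.base (genericPoint (clSub X ξ)) = genericPoint (clSub Y (f.base ξ)) := by
    apply (clSubι Y (f.base ξ)).isClosedEmbedding.injective
    rw [clSubι_genericPoint]
    have h1 : (clSubι Y (f.base ξ)).base (f'.base (genericPoint (clSub X ξ))) =
        (f' ≫ clSubι Y (f.base ξ)).base (genericPoint (clSub X ξ)) := rfl
    rw [h1, hf']
    show f.base ((clSubι X ξ).base (genericPoint (clSub X ξ))) = _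
    rw [clSubι_genericPoint]
  obtain ⟨U, hUne, hUsm⟩ := exists_open_smooth (clSub X ξ) (clSub Y (f.base ξ)) f' hdom
  -- a point of `U` over `E`
  obtain ⟨V, hV, hVU⟩ := (clSubι X ξ).isClosedEmbedding.isInducing.isOpen_iff.mp U.2
  have hgenU : genericPoint (clSub X ξ) ∈ (U : Set (clSub X ξ)) :=
    ((genericPoint_spec (clSub X ξ)).mem_open_set_iff U.2).mpr (by simpa using hUne)
  have hξV : ξ ∈ V := by
    have h1 : genericPoint (clSub X ξ) ∈ (clSubι X ξ).base ⁻¹' V := by rw [hVU]; exact hgenU
    rw [Set.mem_preimage, clSubι_genericPoint] at h1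
    exact h1
  obtain ⟨x, hxV, hxE, hxcl⟩ := mem_closure_iff.mp hξ V hV hξV
  rw [← range_clSubι X ξ] at hxcl
  obtain ⟨w, rfl⟩ := hxcl
  have hwU : w ∈ (U : Set (clSub X ξ)) := by
    have h1 : w ∈ (clSubι X ξ).base ⁻¹' V := hxV
    rw [hVU] at h1
    exact h1
  obtain ⟨hxclosed, S, hS, hSspan⟩ := hE _ hxE
  -- apply the local statement
  have hsq : (U.ι ≫ f') ≫ clSubι Y (f.base ξ) = (U.ι ≫ clSubι X ξ) ≫ f := by
    rw [Category.assoc, hf', Category.assoc]
  haveI : LocallyOfFiniteType ((U.ι ≫ f') ≫ clSubι Y (f.base ξ) ≫ qY) := by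
    have h1 : (U.ι ≫ f') ≫ clSubι Y (f.base ξ) ≫ qY = U.ι ≫ clSubι X ξ ≫ f ≫ qY := by
      rw [Category.assoc, hcomp]
    rw [h1]; infer_instance
  haveI := hUsm
  have hinj : Function.Injective (U.ι ≫ clSubι X ξ).base := by
    rw [Scheme.Hom.comp_base, TopCat.coe_comp]
    exact (clSubι X ξ).isClosedEmbedding.injective.comp U.ι.isOpenEmbedding.injective
  have hu : IsClosed ({(⟨w, hwU⟩ : U)} : Set U) := by
    have h1 := IsClosed.preimage (U.ι ≫ clSubι X ξ).continuous hxclosed
    have h2 : (U.ι ≫ clSubι X ξ).base ⁻¹' {(clSubι X ξ).base w} = {(⟨w, hwU⟩ : U)} := by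
      ext v
      simp only [Set.mem_preimage, Set.mem_singleton_iff]
      constructor
      · intro hv
        exact hinj hv
      · intro hv
        rw [hv]
        rfl
    rw [h2] at h1
    exact h1
  have hmain := ringKrullDim_stalk_le k qY f (U.ι ≫ clSubι X ξ) (U.ι ≫ f')
    (clSubι Y (f.base ξ)) hsq ⟨w, hwU⟩ hu hxclosed r S hS hSspan
  -- the image point is closed
  haveI : JacobsonSpace Y := LocallyOfFiniteType.jacobsonSpace qY
  haveI : LocallyOfFiniteType f := locallyOfFiniteType_of_comp f qY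
  have hfx : IsClosed ({f.base ((clSubι X ξ).base w)} : Set Y) :=
    f.closePoints_subset_preimage_closedPoints hxclosed
  have hy : IsClosed ({(U.ι ≫ f').base ⟨w, hwU⟩} : Set (clSub Y (f.base ξ))) := by
    have h1 := IsClosed.preimage (clSubι Y (f.base ξ)).continuous hfx
    have h2 : (clSubι Y (f.base ξ)).base ⁻¹' {f.base ((clSubι X ξ).base w)} =
        {(U.ι ≫ f').base ⟨w, hwU⟩} := by
      have h3 : (clSubι Y (f.base ξ)).base ((U.ι ≫ f').base ⟨w, hwU⟩) =
          f.base ((clSubι X ξ).base w) := by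
        have h4 : (clSubι Y (f.base ξ)).base ((U.ι ≫ f').base ⟨w, hwU⟩) =
            ((U.ι ≫ f') ≫ clSubι Y (f.base ξ)).base ⟨w, hwU⟩ := rfl
        rw [h4, hsq]
        rfl
      ext v
      simp only [Set.mem_preimage, Set.mem_singleton_iff]
      constructor
      · intro hv
        exact (clSubι Y (f.base ξ)).isClosedEmbedding.injective (hv.trans h3.symm)
      · intro hv
        rw [hv, h3]
    rw [h2] at h1
    exact h1
  have hD := ringKrullDim_stalk_eq_topologicalKrullDim k (clSub Y (f.base ξ))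
    (clSubι Y (f.base ξ) ≫ qY) _ hy
  rw [hD] at hmain
  -- transfer along the homeomorphism
  let e : clSub Y (f.base ξ) ≃ₜ ↥(closure ({f.base ξ} : Set Y)) :=
    (clSubι Y (f.base ξ)).isEmbedding.toHomeomorph.trans
      (Homeomorph.setCongr (range_clSubι Y (f.base ξ)))
  rw [← IsHomeomorph.topologicalKrullDim_eq e e.isHomeomorph]
  exact hmain

/-- The Sard-type bound. -/
theorem main (k : Type u) [Field k] [IsAlgClosed k] [CharZero k]
    {X Y : Scheme.{u}} (qY : Y ⟶ Spec (CommRingCat.of k)) [LocallyOfFiniteType qY]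
    [QuasiCompact qY] (f : X ⟶ Y) [LocallyOfFiniteType (f ≫ qY)] [QuasiCompact (f ≫ qY)]
    (r : ℕ) (E : Set X)
    (hE : ∀ x ∈ E, IsClosed ({x} : Set X) ∧
      ∃ S : Finset (CotangentSpace (X.presheaf.stalk x)), S.card ≤ r ∧
        (LinearMap.range (FixPt.cotangentMapAt f x (f.base x) rfl) :
          Set (CotangentSpace (X.presheaf.stalk x))) ⊆
          (Submodule.span (ResidueField (X.presheaf.stalk x))
            (S : Set (CotangentSpace (X.presheaf.stalk x))) :
              Set (CotangentSpace (X.presheaf.stalk x)))) :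
    topologicalKrullDim ↥(closure (f.base '' E)) ≤ r := by
  letI : Y.Over (Spec (CommRingCat.of k)) := ⟨qY⟩
  haveI : LocallyOfFiniteType (Y ↘ Spec (CommRingCat.of k)) := ‹LocallyOfFiniteType qY›
  haveI : IsNoetherian X := isNoetherian_of_finiteType k (f ≫ qY)
  refine SchemeDimFT.topologicalKrullDim_le_of_isLocallyClosed k Y _
    isClosed_closure.isLocallyClosed r ?_
  intro z hz
  obtain ⟨ξ, hξz, hξ⟩ := exists_generic_of_mem_closure_image f.base f.continuous E z hz
  have h1 := topologicalKrullDim_closure_le k qY f r E hE ξ hξ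
  rw [SchemeDimFT.topologicalKrullDim_closure_singleton k Y (f.base ξ)] at h1
  have h2 := SchemeDimFT.tr_le_of_specializes k Y (f.base ξ) z hξz
  have h3 : ((SchemeDimFT.tr k Y z : ℕ) : WithBot ℕ∞) ≤ (SchemeDimFT.tr k Y (f.base ξ) : ℕ) := by
    exact_mod_cast h2
  exact h3.trans h1

end Groth.Agent.Lib.Helper22.Sard
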