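import Mathlib

/-!
# Artin–Schreier theory for a Galois `ℤ/p`-algebra: algebra (helper22)

`B` a faithfully flat `A`-algebra (char `p`) with an action `σ : ZMod p → (B →ₐ[A] B)` such that
`B ⊗[A] B → ∏_{ZMod p} B`, `x ⊗ y ↦ (x · σ_g y)_g` is bijective. Then `B ≅ A[T]/(T^p - T - a)`
compatibly with `T ↦ T + j`.
-/

set_option autoImplicit false

universe u

open TensorProduct

namespace Groth.Agent.Lib.Helper22.ASch

section FF

variable {A : Type u} (B : Type u) [CommRing A] [CommRing B] [Algebra A B]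
  [Module.FaithfullyFlat A B]

/-- faithfully flat descent of membership in the range of a linear map -/
theorem mem_range_of_tmul_mem_range {M N : Type u} [AddCommGroup M] [AddCommGroup N] [Module A M]
    [Module A N] (D : M →ₗ[A] N) (n : N)
    (h : (1 : B) ⊗ₜ[A] n ∈ LinearMap.range (D.lTensor B)) : n ∈ LinearMap.range D := by
  have hex : Function.Exact D (LinearMap.range D).mkQ := LinearMap.exact_map_mkQ_range D
  have hex' := lTensor_exact B hex (Submodule.mkQ_surjective _)
  have h1 : ((LinearMap.range D).mkQ.lTensor B) ((1 : B) ⊗ₜ n) = 0 := (hex' _).mpr h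
  rw [LinearMap.lTensor_tmul] at h1
  have h2 : (LinearMap.range D).mkQ n = 0 := by
    apply Module.FaithfullyFlat.tensorProduct_mk_injective (A := A) (B := B)
    rw [map_zero]
    exact h1
  exact (Submodule.Quotient.mk_eq_zero _).mp h2

theorem algebraMap_injective_of_ff : Function.Injective (algebraMap A B) := by
  intro a a' h
  apply Module.FaithfullyFlat.tensorProduct_mk_injective (A := A) (B := B) A
  have h1 : ∀ x : A, TensorProduct.mk A B A 1 x = (TensorProduct.rid A B).symm (algebraMap A B x) := by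
    intro x
    rw [LinearEquiv.eq_symm_apply]
    simp [Algebra.smul_def]
  rw [h1, h1, h]

end FF

section Psi

variable {A B : Type u} [CommRing A] [CommRing B] [Algebra A B]

/-- `x ⊗ y ↦ x * τ y` -/
noncomputable def psi (τ : B →ₐ[A] B) : B ⊗[A] B →ₐ[A] B :=
  Algebra.TensorProduct.lift (AlgHom.id A B) τ (fun _ _ => Commute.all _ _)

@[simp]
theorem psi_tmul (τ : B →ₐ[A] B) (x y : B) : psi τ (x ⊗ₜ y) = x * τ y := by
  simp [psi]

/-- `x ⊗ y ↦ (x * σ_g y)_g` -/
noncomputable def Psi {G : Type*} (σ : G → B →ₐ[A] B) : B ⊗[A] B →ₐ[A] (G → B) :=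
  AlgHom.pi (fun g => psi (σ g))

@[simp]
theorem Psi_tmul {G : Type*} (σ : G → B →ₐ[A] B) (x y : B) (g : G) :
    Psi σ (x ⊗ₜ y) g = x * σ g y := by
  simp [Psi]

end Psi

end Groth.Agent.Lib.Helper22.ASch
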