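import Mathlib
import Groth.Agent.Lib.Helper22.ASchA

/-!
# Artin–Schreier theory for a Galois `ℤ/p`-algebra: the generator (helper22)
-/

set_option autoImplicit false

universe u

open TensorProduct Polynomial

namespace Groth.Agent.Lib.Helper22.ASch

variable {A B : Type u} [CommRing A] [CommRing B] [Algebra A B] (p : ℕ) [Fact p.Prime] [CharP A p]

/-- the ring homomorphism `ZMod p → A → B` -/
noncomputable def chi : ZMod p →+* B := (algebraMap A B).comp (ZMod.castHom (dvd_refl p) A)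

theorem chi_pow (j : ZMod p) : (chi (A := A) (B := B) p j) ^ p = chi (A := A) (B := B) p j := by
  rw [← map_pow, ZMod.pow_card]

theorem isUnit_chi (j : ZMod p) (hj : j ≠ 0) : IsUnit (chi (A := A) (B := B) p j) :=
  (IsUnit.mk0 j hj).map _

variable [Module.FaithfullyFlat A B] (σ : ZMod p → B →ₐ[A] B)

theorem exists_t (hσ : ∀ i j, σ (i + j) = (σ i).comp (σ j)) (hΨ : Function.Bijective (Psi σ)) :
    ∃ t : B, σ 1 t = t + 1 := by
  obtain ⟨D, hD⟩ : ∃ D : B →ₗ[A] B, D = (σ 1).toLinearMap - LinearMap.id := ⟨_, rfl⟩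
  have hDapp : ∀ y, D y = σ 1 y - y := by
    intro y; rw [hD]; rfl
  have key : ∀ (z : B ⊗[A] B) (g : ZMod p),
      Psi σ (D.lTensor B z) g = Psi σ z (g + 1) - Psi σ z g := by
    intro z g
    induction z using TensorProduct.induction_on with
    | zero => simp
    | tmul x y =>
      rw [LinearMap.lTensor_tmul, Psi_tmul, Psi_tmul, Psi_tmul, hDapp, map_sub, hσ g 1]
      rw [AlgHom.comp_apply]
      ring
    | add z₁ z₂ h₁ h₂ =>
      rw [map_add, map_add, Pi.add_apply, h₁, h₂, map_add, Pi.add_apply, Pi.add_apply]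
      ring
  obtain ⟨z, hz⟩ := hΨ.2 (fun g => chi (A := A) (B := B) p g)
  have h1 : D.lTensor B z = (1 : B) ⊗ₜ[A] (1 : B) := by
    apply hΨ.1
    funext g
    rw [key, hz, Psi_tmul, map_one, mul_one]
    show chi (A := A) (B := B) p (g + 1) - chi (A := A) (B := B) p g = 1
    rw [map_add, map_one, add_sub_cancel_left]
  have h2 : (1 : B) ∈ LinearMap.range D := mem_range_of_tmul_mem_range B D 1 ⟨z, h1⟩
  obtain ⟨t, ht⟩ := h2
  refine ⟨t, ?_⟩
  rw [hDapp] at ht
  rw [← ht]
  ring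

theorem sigma_t (hσ : ∀ i j, σ (i + j) = (σ i).comp (σ j)) (h0 : σ 0 = AlgHom.id A B)
    (t : B) (ht : σ 1 t = t + 1) (j : ZMod p) : σ j t = t + chi (A := A) (B := B) p j := by
  have hnat : ∀ n : ℕ, σ (n : ZMod p) t = t + (n : B) := by
    intro n
    induction n with
    | zero => rw [Nat.cast_zero, Nat.cast_zero, h0, add_zero]; rfl
    | succ n ih =>
      rw [Nat.cast_succ, hσ, AlgHom.comp_apply, ht, map_add, map_one, ih, Nat.cast_succ]
      ring
  have h1 := hnat j.val
  rw [ZMod.natCast_zmod_val] at h1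
  rw [h1]
  congr 1
  have h2 : chi (A := A) (B := B) p ((j.val : ℕ) : ZMod p) = ((j.val : ℕ) : B) := map_natCast _ _
  rw [← h2, ZMod.natCast_zmod_val]

theorem exists_a (hΨ : Function.Bijective (Psi σ)) (b : B) (hb : ∀ j, σ j b = b) :
    ∃ a : A, algebraMap A B a = b := by
  have h1 : b ⊗ₜ[A] (1 : B) = (1 : B) ⊗ₜ[A] b := by
    apply hΨ.1
    funext g
    rw [Psi_tmul, Psi_tmul, map_one, mul_one, one_mul, hb]
  have h2 : b ∈ LinearMap.range (Algebra.linearMap A B) := by
    apply mem_range_of_tmul_mem_range B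
    refine ⟨b ⊗ₜ[A] (1 : A), ?_⟩
    rw [LinearMap.lTensor_tmul, Algebra.linearMap_apply, map_one, h1]
  obtain ⟨a, ha⟩ := h2
  exact ⟨a, ha⟩

end Groth.Agent.Lib.Helper22.ASch
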