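import Mathlib
import Groth.Agent.Lib.Helper22.ASchB

/-!
# Artin–Schreier theory for a Galois `ℤ/p`-algebra: the isomorphism (helper22)
-/

set_option autoImplicit false

universe u

open TensorProduct Polynomial

namespace Groth.Agent.Lib.Helper22.ASch

variable {A B : Type u} [CommRing A] [CommRing B] [Algebra A B] (p : ℕ) [Fact p.Prime] [CharP A p]

/-- the Vandermonde matrix with nodes `t + k`, `k < p` -/
noncomputable def vdm (t : B) : Matrix (Fin p) (Fin p) B :=
  Matrix.vandermonde (fun k : Fin p => t + ((k : ℕ) : B))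

include A in
theorem isUnit_det_vdm (t : B) : IsUnit (vdm p t).det := by
  unfold vdm
  rw [Matrix.det_vandermonde]
  refine IsUnit.prod_univ_iff.mpr fun i => ?_
  refine (IsUnit.prod_iff).mpr fun j hj => ?_
  have hij : i < j := Finset.mem_Ioi.mp hj
  have h1 : t + ((j : ℕ) : B) - (t + ((i : ℕ) : B)) =
      chi (A := A) (B := B) p (((j : ℕ) : ZMod p) - ((i : ℕ) : ZMod p)) := by
    rw [map_sub, map_natCast, map_natCast]
    ring
  rw [h1]
  apply isUnit_chi
  intro h0
  rw [sub_eq_zero] at h0
  have h2 := congrArg ZMod.val h0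
  rw [ZMod.val_natCast, ZMod.val_natCast, Nat.mod_eq_of_lt j.2, Nat.mod_eq_of_lt i.2] at h2
  exact absurd (Fin.ext h2) (ne_of_gt hij)

include A in
theorem bijective_mulVec_vdm (t : B) : Function.Bijective (vdm p t).mulVec := by
  have hu : IsUnit (vdm p t) :=
    (Matrix.isUnit_iff_isUnit_det _).mpr (isUnit_det_vdm (A := A) p t)
  exact ⟨Matrix.mulVec_injective_of_isUnit hu, Matrix.mulVec_surjective_iff_isUnit.mpr hu⟩

end Groth.Agent.Lib.Helper22.ASch
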