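import Mathlib
import Groth.Agent.Lib.Helper22.ASchC

/-!
# Artin–Schreier theory for a Galois `ℤ/p`-algebra: `A[T]/(T^p - T - a) ≅ B` (helper22)
-/

set_option autoImplicit false

universe u

open TensorProduct Polynomial

namespace Groth.Agent.Lib.Helper22.ASch

variable {A B : Type u} [CommRing A] [CommRing B] [Algebra A B] (p : ℕ) [Fact p.Prime] [CharP A p]

/-- the Artin–Schreier polynomial -/
noncomputable def asPoly (a : A) : A[X] := X ^ p - X - C a

theorem asPoly_eq (a : A) : asPoly p a = X ^ p - (X + C a) := by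
  unfold asPoly; ring

theorem degree_lt (a : A) : degree (X + C a : A[X]) < (p : WithBot ℕ) := by
  haveI : Nontrivial A := CharP.nontrivial_of_char_ne_one (R := A) (v := p) (Fact.out : p.Prime).ne_one
  rw [degree_X_add_C]
  exact_mod_cast (Fact.out : p.Prime).one_lt

theorem monic_asPoly (a : A) : (asPoly p a).Monic := by
  rw [asPoly_eq]
  exact monic_X_pow_sub (degree_lt p a)

theorem natDegree_asPoly (a : A) : (asPoly p a).natDegree = p := by
  haveI : Nontrivial A := CharP.nontrivial_of_char_ne_one (R := A) (v := p) (Fact.out : p.Prime).ne_one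
  rw [asPoly_eq]
  have h1 : (X + C a : A[X]).natDegree < (X ^ p : A[X]).natDegree := by
    rw [natDegree_X_pow, natDegree_X_add_C]
    exact (Fact.out : p.Prime).one_lt
  rw [natDegree_sub_eq_left_of_natDegree_lt h1, natDegree_X_pow]

/-- the basis `1, T, …, T^(p-1)` -/
noncomputable def asBasis (a : A) : Module.Basis (Fin p) A (AdjoinRoot (asPoly p a)) :=
  (AdjoinRoot.powerBasis' (monic_asPoly p a)).basis.reindex (finCongr (natDegree_asPoly p a))

theorem asBasis_apply (a : A) (i : Fin p) :
    asBasis p a i = AdjoinRoot.root (asPoly p a) ^ (i : ℕ) := by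
  unfold asBasis
  rw [Module.Basis.reindex_apply, PowerBasis.basis_eq_pow]
  rfl

end Groth.Agent.Lib.Helper22.ASch
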