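import Mathlib
import Groth.Agent.Lib.Helper22.ASchD

/-!
# Artin–Schreier theory for a Galois `ℤ/p`-algebra: bijectivity of `A[T]/(T^p - T - a) → B`
(helper22)
-/

set_option autoImplicit false

universe u

open TensorProduct Polynomial

namespace Groth.Agent.Lib.Helper22.ASch

variable {A B : Type u} [CommRing A] [CommRing B] [Algebra A B] (p : ℕ) [Fact p.Prime] [CharP A p]
  [Module.FaithfullyFlat A B] (σ : ZMod p → B →ₐ[A] B)

/-- `c ↦ Σ c_i t^i` -/
noncomputable def lam (t : B) : (Fin p → A) →ₗ[A] B :=
  Fintype.linearCombination A (fun i : Fin p => t ^ (i : ℕ))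

theorem lam_single (t : B) (i : Fin p) :
    lam (A := A) p t (Pi.single i (1 : A)) = t ^ (i : ℕ) := by
  unfold lam
  rw [Fintype.linearCombination_apply_single, one_smul]

/-- reindexing `ZMod p → B` by `Fin p` -/
noncomputable def reidx : (ZMod p → B) →ₗ[A] (Fin p → B) :=
  LinearMap.funLeft A B (fun k : Fin p => ((k : ℕ) : ZMod p))

theorem reidx_bijective : Function.Bijective (reidx (A := A) (B := B) p) := by
  have hbij : Function.Bijective (fun k : Fin p => ((k : ℕ) : ZMod p)) := by
    haveI : NeZero p := ⟨(Fact.out : p.Prime).ne_zero⟩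
    refine (Fintype.bijective_iff_injective_and_card _).mpr ⟨?_, by simp [ZMod.card]⟩
    intro i j hij
    have h2 := congrArg ZMod.val hij
    simp only [ZMod.val_natCast, Nat.mod_eq_of_lt i.2, Nat.mod_eq_of_lt j.2] at h2
    exact Fin.ext h2
  exact ⟨LinearMap.funLeft_injective_of_surjective A B _ hbij.2,
    LinearMap.funLeft_surjective_of_injective A B _ hbij.1⟩

theorem lam_bijective (t : B) (hσt : ∀ j, σ j t = t + chi (A := A) (B := B) p j)
    (hΨ : Function.Bijective (Psi σ)) : Function.Bijective (lam (A := A) p t) := by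
  rw [← Module.FaithfullyFlat.lTensor_bijective_iff_bijective A B]
  obtain ⟨s, hs⟩ : ∃ s : (Fin p → B) →ₗ[A] B ⊗[A] (Fin p → A),
      s = ((TensorProduct.piScalarRight A B B (Fin p)).symm.toLinearMap.restrictScalars A) :=
    ⟨_, rfl⟩
  have hsbij : Function.Bijective s := by
    rw [hs]; exact (TensorProduct.piScalarRight A B B (Fin p)).symm.bijective
  have hs_single : ∀ (i : Fin p) (x : B), s (Pi.single i x) = x ⊗ₜ[A] Pi.single i (1 : A) := by
    intro i x
    rw [hs]
    exact TensorProduct.piScalarRight_symm_single A B B (Fin p) x i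
  have htotal : (reidx (A := A) (B := B) p) ∘ₗ (Psi σ).toLinearMap ∘ₗ
      ((lam (A := A) p t).lTensor B) ∘ₗ s =
      ((vdm p t).mulVecLin).restrictScalars A := by
    apply LinearMap.pi_ext
    intro i x
    funext k
    rw [LinearMap.comp_apply, LinearMap.comp_apply, LinearMap.comp_apply, hs_single,
      LinearMap.lTensor_tmul, lam_single]
    show Psi σ (x ⊗ₜ[A] (t ^ (i : ℕ))) (((k : ℕ) : ZMod p)) = (vdm p t).mulVec (Pi.single i x) k
    rw [Psi_tmul, map_pow, hσt, Matrix.mulVec_single]
    simp only [vdm, Matrix.vandermonde_apply, map_natCast, Pi.smul_apply, Matrix.col_apply,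
      MulOpposite.smul_eq_mul_unop, MulOpposite.unop_op]
    ring
  have hcomp : Function.Bijective ((reidx (A := A) (B := B) p) ∘ (Psi σ) ∘
      ((lam (A := A) p t).lTensor B) ∘ s) := by
    have h1 : ((reidx (A := A) (B := B) p) ∘ (Psi σ) ∘ ((lam (A := A) p t).lTensor B) ∘ s) =
        (vdm p t).mulVec := by
      funext c
      exact congrArg (fun f => f c) htotal
    rw [h1]
    exact bijective_mulVec_vdm (A := A) p t
  have h2 : Function.Bijective ((Psi σ) ∘ ((lam (A := A) p t).lTensor B) ∘ s) :=
    (Function.Bijective.of_comp_iff' (reidx_bijective (A := A) (B := B) p) _).mp hcomp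
  have h3 : Function.Bijective (((lam (A := A) p t).lTensor B) ∘ s) :=
    (Function.Bijective.of_comp_iff' hΨ _).mp h2
  exact (Function.Bijective.of_comp_iff _ hsbij).mp h3

end Groth.Agent.Lib.Helper22.ASch
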