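import Mathlib
import Groth.Agent.Lib.Helper22.ASchE

/-!
# Artin–Schreier theory for a Galois `ℤ/p`-algebra: main algebraic statement (helper22)
-/

set_option autoImplicit false

universe u

open TensorProduct Polynomial

namespace Groth.Agent.Lib.Helper22.ASch

variable {A B : Type u} [CommRing A] [CommRing B] [Algebra A B] (p : ℕ) [Fact p.Prime] [CharP A p]
  [Module.FaithfullyFlat A B] (σ : ZMod p → B →ₐ[A] B)

theorem lift_bijective (a : A) (t : B) (h : eval₂ (algebraMap A B) t (asPoly p a) = 0)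
    (hσt : ∀ j, σ j t = t + chi (A := A) (B := B) p j)
    (hΨ : Function.Bijective (Psi σ)) :
    Function.Bijective (AdjoinRoot.lift (algebraMap A B) t h) := by
  have h' : eval₂ (Algebra.ofId A B) t (asPoly p a) = 0 := h
  obtain ⟨Θ, hΘ⟩ : ∃ Θ : AdjoinRoot (asPoly p a) →ₐ[A] B,
      Θ = AdjoinRoot.liftAlgHom (asPoly p a) (Algebra.ofId A B) t h' := ⟨_, rfl⟩
  have hcoe : ⇑(AdjoinRoot.lift (algebraMap A B) t h) = ⇑Θ := by
    rw [hΘ]; rfl
  have hroot : Θ (AdjoinRoot.root (asPoly p a)) = t := by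
    rw [hΘ]; exact AdjoinRoot.liftAlgHom_root _ _ _ _
  have hlin : Θ.toLinearMap = (lam (A := A) p t) ∘ₗ (asBasis p a).equivFun.toLinearMap := by
    apply (asBasis p a).ext
    intro i
    rw [LinearMap.comp_apply]
    have h1 : (asBasis p a).equivFun (asBasis p a i) = Pi.single i (1 : A) := by
      funext j
      rw [Module.Basis.equivFun_self, Pi.single_apply]
      simp only [eq_comm]
    show Θ (asBasis p a i) = lam (A := A) p t ((asBasis p a).equivFun (asBasis p a i))
    rw [h1, lam_single, asBasis_apply, map_pow, hroot]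
  rw [hcoe]
  have h2 : ⇑Θ = (lam (A := A) p t) ∘ (asBasis p a).equivFun := by
    funext x
    exact congrArg (fun f => f x) hlin
  rw [h2]
  exact (lam_bijective p σ t hσt hΨ).comp (asBasis p a).equivFun.bijective

theorem main (hσ : ∀ i j, σ (i + j) = (σ i).comp (σ j)) (h0 : σ 0 = AlgHom.id A B)
    (hΨ : Function.Bijective (Psi σ)) :
    ∃ (a : A) (t : B) (h : eval₂ (algebraMap A B) t (asPoly p a) = 0),
      (∀ j, σ j t = t + chi (A := A) (B := B) p j) ∧
      Function.Bijective (AdjoinRoot.lift (algebraMap A B) t h) := by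
  haveI : CharP B p := charP_of_injective_algebraMap (algebraMap_injective_of_ff (A := A) B) p
  obtain ⟨t, ht⟩ := exists_t p σ hσ hΨ
  have hσt := sigma_t p σ hσ h0 t ht
  have hinv : ∀ j, σ j (t ^ p - t) = t ^ p - t := by
    intro j
    rw [map_sub, map_pow, hσt, add_pow_char, chi_pow]
    ring
  obtain ⟨a, ha⟩ := exists_a p σ hΨ (t ^ p - t) hinv
  have h : eval₂ (algebraMap A B) t (asPoly p a) = 0 := by
    unfold asPoly
    rw [eval₂_sub, eval₂_sub, eval₂_pow, eval₂_X, eval₂_C, ha]
    ring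
  exact ⟨a, t, h, hσt, lift_bijective p σ a t h hσt hΨ⟩

end Groth.Agent.Lib.Helper22.ASch
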