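import Mathlib
import Groth.Prelude.Def_FEt
import Groth.Agent.Lib.Helper22.ASchF

/-!
# A finite étale cover of `Spec A` with a group action, as an algebra with automorphisms
(helper22)
-/

set_option autoImplicit false
set_option linter.style.haveILetI false
set_option linter.unusedSectionVars false

universe u

open CategoryTheory CategoryTheory.Limits AlgebraicGeometry TensorProduct

namespace Groth.Agent.Lib.Helper22.ASch

variable {A : Type u} [CommRing A] (P : FEt.Cat (Spec (CommRingCat.of A)))

/-- the structure morphism with its codomain displayed as `Spec A` -/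
abbrev homP : P.left ⟶ Spec (CommRingCat.of A) := P.hom

instance instFiniteP : IsFinite (homP P) := P.prop.1
instance instEtaleP : Etale (homP P) := P.prop.2

instance instAffineP : IsAffine P.left := isAffine_of_isAffineHom (homP P)

/-- the structure map `A → Γ(P)` -/
noncomputable def phi : CommRingCat.of A ⟶ Γ(P.left, ⊤) :=
  (Scheme.ΓSpecIso (CommRingCat.of A)).inv ≫ (homP P).appTop

theorem isoSpec_phi : P.left.isoSpec.hom ≫ Spec.map (phi P) = homP P := by
  unfold phi
  rw [Spec.map_comp, ← Category.assoc, Scheme.isoSpec_hom_naturality, Category.assoc,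
    Scheme.isoSpec_hom, toSpecΓ_SpecMap_ΓSpecIso_inv, Category.comp_id]

/-- the `A`-algebra structure on `Γ(P)` -/
noncomputable instance algP : Algebra A Γ(P.left, ⊤) := (phi P).hom.toAlgebra

theorem algebraMap_eq : algebraMap A Γ(P.left, ⊤) = (phi P).hom := rfl

/-- an automorphism of `P` as an algebra endomorphism -/
noncomputable def sigmaOf (α : P ⟶ P) : Γ(P.left, ⊤) →ₐ[A] Γ(P.left, ⊤) :=
  { α.left.appTop.hom with
    commutes' := fun r => by
      show α.left.appTop.hom ((phi P).hom r) = (phi P).hom r
      have h1 : phi P ≫ α.left.appTop = phi P := by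
        unfold phi
        rw [Category.assoc, ← Scheme.Hom.comp_appTop]
        have h2 : α.left ≫ homP P = homP P := Over.w α.hom
        rw [h2]
      exact congrArg (fun ψ => ψ.hom r) h1 }

theorem sigmaOf_apply (α : P ⟶ P) (x : Γ(P.left, ⊤)) : sigmaOf P α x = α.left.appTop.hom x := rfl

theorem sigmaOf_id : sigmaOf P (𝟙 P) = AlgHom.id A _ := by
  ext x
  rw [sigmaOf_apply]
  have : (𝟙 P : P ⟶ P).left = 𝟙 P.left := rfl
  rw [this, Scheme.Hom.id_appTop]
  rfl

theorem sigmaOf_comp (α β : P ⟶ P) : sigmaOf P (α ≫ β) = (sigmaOf P α).comp (sigmaOf P β) := by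
  ext x
  rw [AlgHom.comp_apply, sigmaOf_apply, sigmaOf_apply, sigmaOf_apply]
  have : (α ≫ β).left = α.left ≫ β.left := rfl
  rw [this, Scheme.Hom.comp_appTop]
  rfl

theorem isoSpec_sigmaOf (α : P ⟶ P) :
    P.left.isoSpec.hom ≫ Spec.map (CommRingCat.ofHom (sigmaOf P α).toRingHom) =
      α.left ≫ P.left.isoSpec.hom := by
  have : CommRingCat.ofHom (sigmaOf P α).toRingHom = α.left.appTop := rfl
  rw [this, Scheme.isoSpec_hom_naturality]

end Groth.Agent.Lib.Helper22.ASch
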