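import Mathlib
import Groth.Agent.Lib.Helper22.ASchG

/-!
# Faithful flatness of a surjective finite étale cover of `Spec A` (helper22)
-/

set_option autoImplicit false
set_option linter.style.haveILetI false
set_option linter.unusedSectionVars false

universe u

open CategoryTheory CategoryTheory.Limits AlgebraicGeometry TensorProduct

namespace Groth.Agent.Lib.Helper22.ASch

variable {A : Type u} [CommRing A] (P : FEt.Cat (Spec (CommRingCat.of A)))

theorem flat_phi : (phi P).hom.Flat := by
  have h1 : ((homP P).appLE ⊤ ((homP P) ⁻¹ᵁ ⊤) le_rfl).hom.Flat :=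
    (homP P).flat_appLE (isAffineOpen_top _) (isAffineOpen_top _) _
  rw [Scheme.Hom.appLE_eq_app] at h1
  have h2 : (phi P).hom = ((homP P).app ⊤).hom.comp
      (Scheme.ΓSpecIso (CommRingCat.of A)).inv.hom := rfl
  rw [h2]
  exact RingHom.Flat.comp (RingHom.Flat.of_bijective
    (ConcreteCategory.bijective_of_isIso (Scheme.ΓSpecIso (CommRingCat.of A)).inv)) h1

instance flatP : Module.Flat A Γ(P.left, ⊤) := flat_phi P

theorem faithfullyFlatP (hsurj : Function.Surjective P.hom.base) :
    Module.FaithfullyFlat A Γ(P.left, ⊤) := by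
  apply Module.FaithfullyFlat.of_comap_surjective
  intro x
  obtain ⟨y, hy⟩ := hsurj x
  refine ⟨P.left.isoSpec.hom y, ?_⟩
  have h1 := congrArg (fun ψ => ψ.base y) (isoSpec_phi P)
  simp only [Scheme.Hom.comp_base, TopCat.hom_comp, ContinuousMap.comp_apply] at h1
  exact h1.trans hy

end Groth.Agent.Lib.Helper22.ASch
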