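import Mathlib
import Groth.Agent.Lib.Helper22.ASchH

/-!
# From the torsor isomorphism `∐_G P ≅ P ×_X P` to the Galois isomorphism `B ⊗ B ≅ ∏_G B`
(helper22)
-/

set_option autoImplicit false
set_option linter.style.haveILetI false
set_option linter.unusedSectionVars false

universe u

open CategoryTheory CategoryTheory.Limits AlgebraicGeometry TensorProduct

namespace Groth.Agent.Lib.Helper22.ASch

variable {A : Type u} [CommRing A] (P : FEt.Cat (Spec (CommRingCat.of A)))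

/-- a ring map is bijective when `Spec.map` of it is an isomorphism -/
theorem bijective_of_isIso_specMap {R S : CommRingCat.{u}} (f : R ⟶ S) [IsIso (Spec.map f)] :
    Function.Bijective f.hom := by
  haveI h0 : IsIso (Scheme.Spec.map f.op) := ‹IsIso (Spec.map f)›
  haveI : IsIso f.op := isIso_of_fully_faithful Scheme.Spec f.op
  haveI : IsIso f := isIso_of_op f
  exact ConcreteCategory.bijective_of_isIso f

variable {G : Type u} [Finite G] (α : G → (P ⟶ P))

theorem psi_bijective_of_isIso (w : ∀ g, 𝟙 P.left ≫ homP P = (α g).left ≫ homP P)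
    (hD : IsIso (Limits.Sigma.desc (fun g : G => pullback.lift (𝟙 P.left) (α g).left (w g)) :
      (∐ fun _ : G => P.left) ⟶ pullback (homP P) (homP P))) :
    Function.Bijective (Psi (fun g => sigmaOf P (α g))) := by
  obtain ⟨iB, hiB⟩ : ∃ iB : P.left ≅ Spec Γ(P.left, ⊤), iB = P.left.isoSpec := ⟨_, rfl⟩
  have hiφ : iB.hom ≫ Spec.map (CommRingCat.ofHom (algebraMap A Γ(P.left, ⊤))) = homP P := by
    rw [hiB]; exact isoSpec_phi P
  have hiσ : ∀ g, iB.inv ≫ (α g).left ≫ iB.hom =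
      Spec.map (CommRingCat.ofHom (sigmaOf P (α g)).toRingHom) := by
    intro g
    rw [hiB, ← isoSpec_sigmaOf, Iso.inv_hom_id_assoc]
  obtain ⟨Ψ, hΨ⟩ : ∃ Ψ : Γ(P.left, ⊤) ⊗[A] Γ(P.left, ⊤) →ₐ[A] (G → Γ(P.left, ⊤)),
      Ψ = Psi (fun g => sigmaOf P (α g)) := ⟨_, rfl⟩
  have hΨt : ∀ x y g, Ψ (x ⊗ₜ y) g = x * sigmaOf P (α g) y := by
    intro x y g; rw [hΨ]; exact Psi_tmul _ x y g
  rw [← hΨ]
  obtain ⟨pm, hpm⟩ : ∃ pm : pullback (homP P) (homP P) ⟶
      pullback (Spec.map (CommRingCat.ofHom (algebraMap A Γ(P.left, ⊤))))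
        (Spec.map (CommRingCat.ofHom (algebraMap A Γ(P.left, ⊤)))),
      pm = pullback.map _ _ _ _ iB.hom iB.hom (𝟙 _)
        (by rw [Category.comp_id]; exact hiφ.symm) (by rw [Category.comp_id]; exact hiφ.symm) :=
    ⟨_, rfl⟩
  haveI : IsIso pm := by rw [hpm]; infer_instance
  have hpm1 : pm ≫ pullback.fst _ _ = pullback.fst _ _ ≫ iB.hom := by
    rw [hpm]; exact pullback.lift_fst _ _ _
  have hpm2 : pm ≫ pullback.snd _ _ = pullback.snd _ _ ≫ iB.hom := by
    rw [hpm]; exact pullback.lift_snd _ _ _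
  obtain ⟨D, hDdef⟩ : ∃ D : (∐ fun _ : G => P.left) ⟶ pullback (homP P) (homP P),
      D = Limits.Sigma.desc (fun g : G => pullback.lift (𝟙 P.left) (α g).left (w g)) := ⟨_, rfl⟩
  haveI : IsIso D := by rw [hDdef]; exact hD
  obtain ⟨M, hM⟩ : ∃ M : Spec (CommRingCat.of (G → Γ(P.left, ⊤))) ⟶
      Spec (CommRingCat.of (Γ(P.left, ⊤) ⊗[A] Γ(P.left, ⊤))),
      M = Spec.map (CommRingCat.ofHom Ψ.toRingHom) := ⟨_, rfl⟩
  have key : sigmaSpec (fun _ : G => Γ(P.left, ⊤)) ≫ M =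
      Limits.Sigma.map (fun _ : G => iB.inv) ≫ D ≫ pm ≫
        (pullbackSpecIso A Γ(P.left, ⊤) Γ(P.left, ⊤)).hom := by
    apply Limits.Sigma.hom_ext
    intro g
    rw [← cancel_mono (pullbackSpecIso A Γ(P.left, ⊤) Γ(P.left, ⊤)).inv]
    simp only [Category.assoc, Iso.hom_inv_id, Category.comp_id]
    rw [ι_sigmaSpec_assoc, Limits.Sigma.ι_map_assoc, hDdef, Limits.Sigma.ι_desc_assoc]
    apply pullback.hom_ext
    · simp only [Category.assoc]
      rw [pullbackSpecIso_inv_fst, hpm1, pullback.lift_fst_assoc, Category.id_comp,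
        Iso.inv_hom_id, hM, ← Spec.map_comp, ← Spec.map_comp, ← Spec.map_id]
      congr 1
      ext x
      show Ψ (x ⊗ₜ 1) g = x
      rw [hΨt, map_one, mul_one]
    · simp only [Category.assoc]
      rw [pullbackSpecIso_inv_snd, hpm2, pullback.lift_snd_assoc, hiσ, hM, ← Spec.map_comp,
        ← Spec.map_comp]
      congr 1
      ext y
      show Ψ (1 ⊗ₜ y) g = sigmaOf P (α g) y
      rw [hΨt, one_mul]
  haveI : IsIso M := by
    have h2 : M = inv (sigmaSpec (fun _ : G => Γ(P.left, ⊤))) ≫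
        Limits.Sigma.map (fun _ : G => iB.inv) ≫ D ≫ pm ≫
          (pullbackSpecIso A Γ(P.left, ⊤) Γ(P.left, ⊤)).hom := by
      rw [← key, IsIso.inv_hom_id_assoc]
    rw [h2]
    infer_instance
  haveI : IsIso (Spec.map (CommRingCat.ofHom Ψ.toRingHom)) := by rw [← hM]; infer_instance
  exact bijective_of_isIso_specMap (CommRingCat.ofHom Ψ.toRingHom)

end Groth.Agent.Lib.Helper22.ASch
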