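import Mathlib
import Groth.Prelude.Def_FEt
import Groth.Prelude.Def_SGA1t
import Groth.Agent.Lib.Helper3.FEtFree
import Groth.Agent.Lib.Helper22.ASchI

/-!
# A principal `G`-cover is a torsor: `∐_G P ≅ P ×_X P`, and `B ⊗ B ≅ ∏_G B` (helper22)
-/

set_option autoImplicit false
set_option linter.style.haveILetI false
set_option linter.unusedSectionVars false

universe u

open CategoryTheory CategoryTheory.Limits AlgebraicGeometry TensorProduct

namespace Groth.Agent.Lib.Helper22.ASch

section general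

variable {X : Scheme.{u}} (G : Type u) [Group G] (P : FEt.Cat X) (ρ : G →* Aut P)

/-- a principal `G`-cover has constant degree `|G|` -/
theorem finrank_of_isPrincipal (hP : SGA1t.IsPrincipal G P ρ) (x : X) :
    Scheme.Hom.finrank (X := P.left) (S := X) P.hom x = Nat.card G := by
  haveI : Flat P.hom := inferInstance
  obtain ⟨Ω, hΩ⟩ : ∃ Ω : Type u, Ω = AlgebraicClosure (X.residueField x) := ⟨_, rfl⟩
  subst hΩ
  obtain ⟨ξ, hξdef⟩ : ∃ ξ : Spec (CommRingCat.of (AlgebraicClosure (X.residueField x))) ⟶ X,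
      ξ = Spec.map (CommRingCat.ofHom (algebraMap (X.residueField x)
      (AlgebraicClosure (X.residueField x)))) ≫ X.fromSpecResidueField x := ⟨_, rfl⟩
  have hξ : ∀ s, ξ s = x := by
    intro s
    rw [hξdef, Scheme.Hom.comp_apply]
    exact Scheme.fromSpecResidueField_apply x _
  obtain ⟨s⟩ := H3.FEtFib.nonempty_pt (Ω := AlgebraicClosure (X.residueField x))
  have h := H3.FEtFib.natCard_fiberObj ξ P s
  rw [hξ s] at h
  obtain ⟨y, hy⟩ := hP.1 x
  have h1 : 1 ≤ Scheme.Hom.finrank (X := P.left) (S := X) P.hom x := by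
    have := Scheme.Hom.one_le_finrank_map (X := P.left) (Y := X) P.hom y
    rwa [show P.hom y = x from hy] at this
  have hne : Nonempty (FEt.fiberObj ξ P) := by
    have : Nat.card (FEt.fiberObj ξ P) ≠ 0 := by omega
    exact (Nat.card_ne_zero.mp this).1
  obtain ⟨s₀⟩ := hne
  rw [← h]
  symm
  refine Nat.card_eq_of_bijective (fun g => (FEt.fiber ξ).map (ρ g).hom s₀) ⟨?_, ?_⟩
  · intro g h' hgh
    exact (hP.2 _ ξ s₀ ((FEt.fiber ξ).map (ρ h').hom s₀)).unique hgh rfl
  · intro t
    obtain ⟨g, hg, -⟩ := hP.2 _ ξ s₀ t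
    exact ⟨g, hg⟩

variable [Finite G] [Nonempty P.left]

theorem isIso_of_isPrincipal (hP : SGA1t.IsPrincipal G P ρ) :
    IsIso (Limits.Sigma.desc fun g : G =>
        pullback.lift (𝟙 P.left) (ρ g).hom.left
          ((Category.id_comp P.hom).trans (Over.w (ρ g).hom.hom).symm) :
            (∐ fun _ : G => P.left) ⟶ pullback P.hom P.hom) := by
  refine (H3.FEtFree.main P (Nat.card G) ?_ G ρ ?_).2.mp rfl
  · intro Ω _ _ ξ
    obtain ⟨s⟩ := H3.FEtFib.nonempty_pt (Ω := Ω)
    rw [H3.FEtFib.natCard_fiberObj ξ P s, finrank_of_isPrincipal G P ρ hP]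
  · intro g hg K _ y heq
    apply hg
    obtain ⟨ybar, hybar⟩ : ∃ ybar : Spec (CommRingCat.of (AlgebraicClosure K)) ⟶ P.left,
        ybar = Spec.map (CommRingCat.ofHom (algebraMap K (AlgebraicClosure K))) ≫ y := ⟨_, rfl⟩
    have hyb : ybar ≫ (ρ g).hom.left = ybar := by
      rw [hybar, Category.assoc, heq]
    let s : FEt.fiberObj (ybar ≫ P.hom) P := ⟨ybar, rfl⟩
    have e1 : (FEt.fiber (ybar ≫ P.hom)).map (ρ g).hom s = s := by
      apply Subtype.ext
      rw [H3.FEtFib.fiber_map_val]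
      exact hyb
    have e2 : (FEt.fiber (ybar ≫ P.hom)).map (ρ 1).hom s = s := by
      apply Subtype.ext
      rw [H3.FEtFib.fiber_map_val, map_one]
      show ybar ≫ (𝟙 P : P ⟶ P).left = ybar
      simp
    exact (hP.2 _ (ybar ≫ P.hom) s s).unique e1 e2

end general

variable {A : Type u} [CommRing A] [Nontrivial A] (P : FEt.Cat (Spec (CommRingCat.of A)))
  (G : Type u) [Group G] [Finite G] (ρ : G →* Aut P)

theorem nonempty_of_surjective (hs : Function.Surjective P.hom.base) : Nonempty P.left := by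
  obtain ⟨x⟩ : Nonempty (Spec (CommRingCat.of A)) := inferInstanceAs (Nonempty (PrimeSpectrum A))
  obtain ⟨y, -⟩ := hs x
  exact ⟨y⟩

theorem psi_bijective_of_isPrincipal (hP : SGA1t.IsPrincipal G P ρ) :
    Function.Bijective (Psi (fun g : G => sigmaOf P (ρ g).hom)) := by
  haveI := nonempty_of_surjective P hP.1
  exact psi_bijective_of_isIso P (fun g => (ρ g).hom) _ (isIso_of_isPrincipal G P ρ hP)

end Groth.Agent.Lib.Helper22.ASch
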