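import Mathlib
import Groth.Prelude.Def_FEt
import Groth.Prelude.Def_SGA1t
import Groth.Agent.Lib.Helper22.ASchF
import Groth.Agent.Lib.Helper22.ASchJ

/-!
# Principal `ℤ/p`-covers of `Spec A` in characteristic `p` are Artin–Schreier (helper22)
-/

set_option autoImplicit false
set_option linter.style.haveILetI false
set_option linter.unusedSectionVars false

universe u

open CategoryTheory CategoryTheory.Limits AlgebraicGeometry TensorProduct Polynomial

namespace Groth.Agent.Lib.Helper22.ASch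

variable (A : Type u) [CommRing A] (p : ℕ) [Fact p.Prime] [CharP A p]
  (P : FEt.Cat (Spec (CommRingCat.of A))) (ρ : Multiplicative (ZMod p) →* Aut P)

/-- the `ℤ/p`-action on global sections -/
noncomputable def sig (j : ZMod p) : Γ(P.left, ⊤) →ₐ[A] Γ(P.left, ⊤) :=
  sigmaOf P (ρ (Multiplicative.ofAdd j)).hom

theorem sig_add (i j : ZMod p) : sig A p P ρ (i + j) = (sig A p P ρ i).comp (sig A p P ρ j) := by
  unfold sig
  rw [add_comm, ofAdd_add, map_mul, ← sigmaOf_comp]
  rfl

theorem sig_zero : sig A p P ρ 0 = AlgHom.id A _ := by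
  unfold sig
  rw [ofAdd_zero, map_one]
  exact sigmaOf_id P

include A in
theorem psi_sig_bijective (hP : SGA1t.IsPrincipal (Multiplicative (ZMod p)) P ρ) :
    Function.Bijective (Psi (sig A p P ρ)) := by
  haveI : Nontrivial A := CharP.nontrivial_of_char_ne_one (R := A) (v := p) (Fact.out : p.Prime).ne_one
  obtain ⟨ρ', hρ'⟩ : ∃ ρ' : ULift.{u} (Multiplicative (ZMod p)) →* Aut P,
      ρ' = ρ.comp (MulEquiv.ulift : ULift.{u} (Multiplicative (ZMod p)) ≃* _).toMonoidHom :=
    ⟨_, rfl⟩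
  have hρ'a : ∀ g, ρ' g = ρ g.down := by
    intro g; rw [hρ']; rfl
  have hP' : SGA1t.IsPrincipal (ULift.{u} (Multiplicative (ZMod p))) P ρ' := by
    refine ⟨hP.1, fun Ω _ _ ξ s t => ?_⟩
    obtain ⟨g, hg, hu⟩ := hP.2 Ω ξ s t
    refine ⟨ULift.up g, ?_, fun g' hg' => ?_⟩
    · show (FEt.fiber ξ).map (ρ' (ULift.up g)).hom s = t
      rw [hρ'a]; exact hg
    · have hg'' : (FEt.fiber ξ).map (ρ g'.down).hom s = t := by
        rw [← hρ'a]; exact hg'
      have := hu g'.down hg''
      exact ULift.ext _ _ this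
  have hΨ' := psi_bijective_of_isPrincipal P (ULift.{u} (Multiplicative (ZMod p))) ρ' hP'
  let e : ZMod p ≃ ULift.{u} (Multiplicative (ZMod p)) :=
    (Multiplicative.ofAdd).trans Equiv.ulift.symm
  have hfun : ⇑(Psi (sig A p P ρ)) =
      (Equiv.arrowCongr e.symm (Equiv.refl Γ(P.left, ⊤))) ∘
        ⇑(Psi (fun g : ULift.{u} (Multiplicative (ZMod p)) => sigmaOf P (ρ' g).hom)) := by
    funext z
    funext j
    show psi (sig A p P ρ j) z = psi (sigmaOf P (ρ' (e j)).hom) z
    rw [hρ'a]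
    rfl
  rw [hfun]
  exact (Equiv.bijective _).comp hΨ'

theorem artinSchreier_of_isPrincipal
    (hP : SGA1t.IsPrincipal (Multiplicative (ZMod p)) P ρ) :
    ∃ (a : A) (e : P.left ≅ Spec (CommRingCat.of (SGA1t.artinSchreier A p a))),
      e.hom ≫ Spec.map (CommRingCat.ofHom (algebraMap A (SGA1t.artinSchreier A p a))) = P.hom ∧
      ∀ j : ZMod p, (ρ (Multiplicative.ofAdd j)).hom.left ≫ e.hom =
        e.hom ≫ Spec.map (CommRingCat.ofHom (SGA1t.artinSchreierShift A p a j)) := by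
  haveI := faithfullyFlatP P hP.1
  obtain ⟨a, t, h, hσt, hbij⟩ := main (A := A) (B := Γ(P.left, ⊤)) p (sig A p P ρ)
    (sig_add A p P ρ) (sig_zero A p P ρ) (psi_sig_bijective A p P ρ hP)
  obtain ⟨Θ, hΘ⟩ : ∃ Θ : SGA1t.artinSchreier A p a →+* Γ(P.left, ⊤),
      Θ = AdjoinRoot.lift (algebraMap A Γ(P.left, ⊤)) t h := ⟨_, rfl⟩
  have hΘbij : Function.Bijective Θ := by rw [hΘ]; exact hbij
  have hΘC : ∀ r : A, Θ (Ideal.Quotient.mk _ (C r)) = algebraMap A Γ(P.left, ⊤) r := by
    intro r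
    rw [hΘ]
    exact AdjoinRoot.lift_of h
  have hΘX : Θ (Ideal.Quotient.mk _ X) = t := by
    rw [hΘ]
    exact AdjoinRoot.lift_root h
  let eΘ : CommRingCat.of (SGA1t.artinSchreier A p a) ≅ Γ(P.left, ⊤) :=
    (RingEquiv.ofBijective Θ hΘbij).toCommRingCatIso
  have heΘ : eΘ.hom = CommRingCat.ofHom Θ := rfl
  refine ⟨a, P.left.isoSpec ≪≫ Scheme.Spec.mapIso eΘ.op, ?_, ?_⟩
  · show (P.left.isoSpec.hom ≫ Spec.map eΘ.hom) ≫ _ = _
    rw [Category.assoc, ← Spec.map_comp, heΘ]
    have : CommRingCat.ofHom (algebraMap A (SGA1t.artinSchreier A p a)) ≫ CommRingCat.ofHom Θ =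
        phi P := by
      ext r
      show Θ (algebraMap A (SGA1t.artinSchreier A p a) r) = algebraMap A Γ(P.left, ⊤) r
      exact hΘC r
    rw [this]
    exact isoSpec_phi P
  · intro j
    show _ ≫ (P.left.isoSpec.hom ≫ Spec.map eΘ.hom) = (P.left.isoSpec.hom ≫ Spec.map eΘ.hom) ≫ _
    rw [← Category.assoc, ← isoSpec_sigmaOf, Category.assoc, Category.assoc, ← Spec.map_comp,
      ← Spec.map_comp, heΘ]
    congr 2
    apply CommRingCat.hom_ext
    show ((sig A p P ρ j).toRingHom.comp Θ) = Θ.comp (SGA1t.artinSchreierShift A p a j)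
    have hring : ((sig A p P ρ j).toRingHom.comp Θ) =
        Θ.comp (SGA1t.artinSchreierShift A p a j) := by
      apply Ideal.Quotient.ringHom_ext
      apply Polynomial.ringHom_ext
      · intro r
        show sig A p P ρ j (Θ (Ideal.Quotient.mk _ (C r))) =
          Θ (SGA1t.artinSchreierShift A p a j (Ideal.Quotient.mk _ (C r)))
        rw [hΘC, AlgHom.commutes]
        unfold SGA1t.artinSchreierShift
        rw [Ideal.Quotient.lift_mk]
        show _ = Θ (Ideal.Quotient.mk _ (aeval _ (C r)))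
        rw [aeval_C]
        exact (hΘC r).symm
      · show sig A p P ρ j (Θ (Ideal.Quotient.mk _ X)) =
          Θ (SGA1t.artinSchreierShift A p a j (Ideal.Quotient.mk _ X))
        rw [hΘX, hσt]
        unfold SGA1t.artinSchreierShift
        rw [Ideal.Quotient.lift_mk]
        show _ = Θ (Ideal.Quotient.mk _ (aeval _ X))
        rw [aeval_X, map_add, map_add, hΘX, hΘC]
        rfl
    exact hring

end Groth.Agent.Lib.Helper22.ASch
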