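import Mathlib
import Groth.Prelude.Def_AlgGrp
import Groth.Agent.S14577
import Groth.Agent.Lib.Helper6.ActionTranslate

/-!
# Fibres of a morphism from an abelian variety, part A: translates of a collapsed subscheme
-/

set_option linter.style.haveILetI false
set_option autoImplicit false
universe u
open CategoryTheory CategoryTheory.Limits MonoidalCategory CartesianMonoidalCategory MonObj GrpObj
  AlgebraicGeometry

namespace Groth.Agent.Lib.Helper22.AbFib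

open Groth.Agent.Lib.Helper6.ActionTranslate

section Cat

variable {S : Scheme.{u}} {X A : Over S} [GrpObj X]

/-- the morphism `(u, x) ↦ x σ₀⁻¹ u` -/
noncomputable def psi (j : A ⟶ X) (σ₀ : 𝟙_ (Over S) ⟶ X) : A ⊗ X ⟶ X :=
  snd A X * (toUnit (A ⊗ X) ≫ σ₀⁻¹) * (fst A X ≫ j)

lemma whisker_psi (j : A ⟶ X) (σ₀ : 𝟙_ (Over S) ⟶ X) :
    (A ◁ σ₀) ≫ psi j σ₀ = fst A (𝟙_ (Over S)) ≫ j := by
  unfold psi
  rw [MonObj.comp_mul, MonObj.comp_mul, whiskerLeft_snd, whiskerLeft_fst_assoc,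
    comp_toUnit_assoc]
  have h1 : snd A (𝟙_ (Over S)) = toUnit (A ⊗ 𝟙_ (Over S)) := toUnit_unique _ _
  rw [h1, ← MonObj.comp_mul, _root_.mul_inv_cancel, MonObj.comp_one, _root_.one_mul]

lemma lift_psi (j : A ⟶ X) (σ₀ : 𝟙_ (Over S) ⟶ X) (a₀ : 𝟙_ (Over S) ⟶ A) (ha : a₀ ≫ j = σ₀) :
    lift (toUnit X ≫ a₀) (𝟙 X) ≫ psi j σ₀ = 𝟙 X := by
  unfold psi
  rw [MonObj.comp_mul, MonObj.comp_mul, lift_snd, lift_fst_assoc, comp_toUnit_assoc,
    Category.assoc, ha, _root_.mul_assoc, ← MonObj.comp_mul, _root_.inv_mul_cancel, MonObj.comp_one,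
    _root_.mul_one]

lemma point_psi (j : A ⟶ X) (σ₀ : 𝟙_ (Over S) ⟶ X) (a₀ : 𝟙_ (Over S) ⟶ A) (ha : a₀ ≫ j = σ₀) :
    lift a₀ σ₀ ≫ psi j σ₀ = σ₀ := by
  unfold psi
  rw [MonObj.comp_mul, MonObj.comp_mul, lift_snd, lift_fst_assoc, comp_toUnit_assoc, ha,
    toUnit_unit, Category.id_comp, _root_.mul_inv_cancel, _root_.one_mul]

lemma section_psi (j : A ⟶ X) (σ₀ σ₁ : 𝟙_ (Over S) ⟶ X) :
    lift (𝟙 A) (toUnit A ≫ σ₁) ≫ psi j σ₀ = j ≫ transl (mulAction X) (σ₁ * σ₀⁻¹) := by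
  have e1 : transl (mulAction X) (σ₁ * σ₀⁻¹) = (toUnit X ≫ (σ₁ * σ₀⁻¹)) * 𝟙 X := rfl
  unfold psi
  rw [MonObj.comp_mul, MonObj.comp_mul, lift_snd, lift_fst_assoc, comp_toUnit_assoc,
    Category.id_comp, e1, MonObj.comp_mul, Category.comp_id, comp_toUnit_assoc, MonObj.comp_mul]

end Cat

section Rigid

variable (k : Type u) [Field k]

/-- the translates of a collapsed subscheme through a rational point are collapsed -/
theorem translate_collapse (X A Yo : Over (Spec (CommRingCat.of k))) [GrpObj X]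
    [QuasiCompact A.hom] [IsSeparated A.hom]
    (hA : Function.Bijective ((Scheme.ΓSpecIso (CommRingCat.of k)).inv ≫ A.hom.appTop).hom)
    [IsSeparated X.hom] [IsLocallyNoetherian X.left] [IrreducibleSpace ↥X.left] [IsReduced X.left]
    [IsSeparated Yo.hom]
    (j : A ⟶ X) (F : X ⟶ Yo) (σ₀ : 𝟙_ (Over (Spec (CommRingCat.of k))) ⟶ X)
    (a₀ : 𝟙_ (Over (Spec (CommRingCat.of k))) ⟶ A) (ha : a₀ ≫ j = σ₀)
    (hcol : j ≫ F = toUnit A ≫ σ₀ ≫ F) (σ₁ : 𝟙_ (Over (Spec (CommRingCat.of k))) ⟶ X) :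
    j ≫ transl (mulAction X) (σ₁ * σ₀⁻¹) ≫ F = toUnit A ≫ σ₁ ≫ F := by
  have hf : (A ◁ σ₀) ≫ (psi j σ₀ ≫ F) = toUnit _ ≫ lift a₀ σ₀ ≫ (psi j σ₀ ≫ F) := by
    rw [← Category.assoc, whisker_psi, Category.assoc, hcol, comp_toUnit_assoc,
      ← Category.assoc (lift a₀ σ₀), point_psi j σ₀ a₀ ha]
  have key := Groth.Agent.S14577.result k A X Yo hA a₀ σ₀ (psi j σ₀ ≫ F) hf
  rw [← Category.assoc (lift _ _), lift_psi j σ₀ a₀ ha, Category.id_comp] at key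
  rw [← Category.assoc, ← section_psi, Category.assoc, key, ← Category.assoc, lift_snd,
    Category.assoc]

end Rigid

end Groth.Agent.Lib.Helper22.AbFib
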