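import Mathlib
import Groth.Prelude.Def_AlgGrp
import Groth.Agent.Lib.Helper22.AbFibA
import Groth.Agent.Lib.Helper12.FibreDimsConstr
import Groth.Agent.Lib.Helper12.DimLC
import Groth.Agent.Lib.Helper12.SecComp
import Groth.Agent.Lib.Helper7.RedLib

/-!
# Fibres of a morphism from an abelian variety, part B: constancy of the fibre dimension over an
algebraically closed field
-/

set_option linter.style.haveILetI false
set_option autoImplicit false
set_option maxHeartbeats 400000
universe u
open CategoryTheory CategoryTheory.Limits MonoidalCategory CartesianMonoidalCategory MonObj GrpObj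
  AlgebraicGeometry

namespace Groth.Agent.Lib.Helper22.AbFib

open Groth.Agent.Lib.Helper6.ActionTranslate
open Groth.Agent.Lib.Helper12 Groth.Agent.Lib.Helper12.SchemeDimFT
open Groth.Agent.Lib.Helper12.SchemeDimIneq Groth.Agent.Lib.Helper12.ClosedSub
open Groth.Agent.Lib.Helper12.FibreMax Groth.Agent.Lib.Helper12.SecComp
open Groth.Agent.Lib.Helper12.FibreDimConstr

section TrnDim

variable {X Y : Scheme.{u}} (f : X ⟶ Y) [LocallyOfFiniteType f]

/-- over a closed point of the target, the relative transcendence degree at `z` is the dimension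
of the closure of `z` -/
theorem trn_eq_dim_closure (z : X) (hz : IsClosed ({f z} : Set Y)) :
    ((trn f z : ℕ∞) : WithBot ℕ∞) = topologicalKrullDim ↥(closure ({z} : Set X)) := by
  letI ovF : (f.fiber (f z)).Over (Spec (CommRingCat.of (Y.residueField (f z)))) :=
    ⟨f.fiberToSpecResidueField (f z)⟩
  haveI : LocallyOfFiniteType
      ((f.fiber (f z)) ↘ Spec (CommRingCat.of (Y.residueField (f z)))) :=
    FibreRes.locallyOfFiniteType_fiberToSpecResidueField f (f z)
  have h1 := trn_eq_tr_of_fiber f z (f z) rfl (f.asFiber z) (f.fiberι_asFiber z)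
  have h2 := topologicalKrullDim_closure_singleton (Y.residueField (f z)) (f.fiber (f z))
    (f.asFiber z)
  have hemb : Topology.IsEmbedding (f.fiberι (f z)) := (f.fiberι (f z)).isEmbedding
  have h3 : closure ({f.asFiber z} : Set ↥(f.fiber (f z))) =
      (f.fiberι (f z)) ⁻¹' closure ({z} : Set X) := by
    rw [hemb.isInducing.closure_eq_preimage_closure_image, Set.image_singleton,
      f.fiberι_asFiber z]
  have h4 := DimLC.dim_preimage_of_isEmbedding (f.fiberι (f z)) hemb (closure ({z} : Set X))
  have h5 : Set.range (f.fiberι (f z)) ∩ closure ({z} : Set X) = closure ({z} : Set X) := by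
    rw [Scheme.Hom.range_fiberι]
    apply Set.inter_eq_right.mpr
    apply closure_minimal _ (hz.preimage f.continuous)
    rintro _ rfl
    rfl
  rw [h1]
  rw [h3] at h2
  rw [h5] at h4
  rw [← h4, h2]
  rfl

/-- invariance of the dimension of the closure of a point under a homeomorphism -/
theorem dim_closure_homeo {T : Type*} [TopologicalSpace T] (t : T ≃ₜ T) (z : T) :
    topologicalKrullDim ↥(closure ({t z} : Set T)) =
      topologicalKrullDim ↥(closure ({z} : Set T)) := by
  have h1 : closure ({t z} : Set T) = t '' closure ({z} : Set T) := by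
    rw [Homeomorph.image_closure, Set.image_singleton]
  rw [h1]
  have e := t.image (closure ({z} : Set T))
  exact (IsHomeomorph.topologicalKrullDim_eq e e.isHomeomorph).symm

end TrnDim

section Main

variable (k : Type u) [Field k] [IsAlgClosed k]

omit [IsAlgClosed k] in
theorem isClosed_singleton_left {Z : Over (Spec (CommRingCat.of k))}
    (s : 𝟙_ (Over (Spec (CommRingCat.of k))) ⟶ Z) :
    IsClosed ({s.left (IsLocalRing.closedPoint k)} : Set Z.left) := by
  haveI : Subsingleton ↥(Spec (CommRingCat.of k)) := by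
    change Subsingleton (PrimeSpectrum k)
    infer_instance
  have h1 : s.left ≫ Z.hom = 𝟙 (Spec (CommRingCat.of k)) := Over.w s
  have hs : IsClosedImmersion s.left :=
    isClosedImmersion_of_comp_eq_id (Y := Spec (CommRingCat.of k)) Z.hom s.left h1
  have h2 := s.left.isClosedEmbedding.isClosed_range
  have h3 : Set.range s.left = {s.left (IsLocalRing.closedPoint k)} := by
    ext y
    constructor
    · rintro ⟨x, rfl⟩
      have : x = IsLocalRing.closedPoint k :=
        Subsingleton.elim (α := ↥(Spec (CommRingCat.of k))) x _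
      rw [this]
      rfl
    · rintro rfl
      exact ⟨_, rfl⟩
  rwa [h3] at h2

set_option backward.isDefEq.respectTransparency false in
/-- the reduced closed subscheme on the closure of a point, as an object over `k` -/
theorem exists_closure_subscheme (X : Over (Spec (CommRingCat.of k))) [IsProper X.hom]
    (z₀ : X.left) :
    ∃ (A : Over (Spec (CommRingCat.of k))) (j : A ⟶ X), IsClosedImmersion j.left ∧
      IsIntegral A.left ∧ Set.range j.left = closure {z₀} := by
  let C : TopologicalSpace.Closeds X.left := ⟨closure {z₀}, isClosed_closure⟩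
  let As : Scheme.{u} := (Scheme.IdealSheafData.vanishingIdeal C).subscheme
  let i : As ⟶ X.left := (Scheme.IdealSheafData.vanishingIdeal C).subschemeι
  have hri : Set.range i = closure {z₀} := by
    rw [Scheme.IdealSheafData.range_subschemeι]
    simp [C]
  haveI : IsReduced As := Groth.Agent.Lib.Helper7.isReduced_vanishingIdeal_subscheme C
  haveI : IrreducibleSpace As := by
    have e : As ≃ₜ Set.range i := i.isEmbedding.toHomeomorph
    rw [e.irreducibleSpace_iff, hri, ← isIrreducible_iff_irreducibleSpace]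
    exact isIrreducible_singleton.closure
  haveI : IsIntegral As := isIntegral_of_irreducibleSpace_of_isReduced _
  exact ⟨Over.mk (i ≫ X.hom), Over.homMk i rfl, inferInstanceAs (IsClosedImmersion i),
    inferInstanceAs (IsIntegral As), hri⟩

set_option backward.isDefEq.respectTransparency false in
/-- the fibre dimensions at two rational points compare -/
theorem fibreDimAt_le_of_points (X Yo : Over (Spec (CommRingCat.of k))) [GrpObj X]
    [IsProper X.hom] [IsIntegral X.left] [IsSeparated Yo.hom] (F : X ⟶ Yo)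
    [LocallyOfFiniteType F.left]
    (σ₀ σ₁ : 𝟙_ (Over (Spec (CommRingCat.of k))) ⟶ X) :
    FlatMor.fibreDimAt F.left (σ₀.left (IsLocalRing.closedPoint k)) ≤
      FlatMor.fibreDimAt F.left (σ₁.left (IsLocalRing.closedPoint k)) := by
  haveI : Subsingleton ↥(Spec (CommRingCat.of k)) := by
    change Subsingleton (PrimeSpectrum k)
    infer_instance
  haveI : IsNoetherianRing (CommRingCat.of k) := inferInstanceAs (IsNoetherianRing k)
  haveI : IsLocallyNoetherian X.left := LocallyOfFiniteType.isLocallyNoetherian X.hom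
  obtain ⟨z₀, hz₀f, hz₀s, hle⟩ :=
    exists_generization_trn_eq_fibreDimAt F.left (σ₀.left (IsLocalRing.closedPoint k))
  obtain ⟨A, j, hjc, hAi, hrj⟩ := exists_closure_subscheme k X z₀
  haveI := hjc
  haveI := hAi
  haveI : IsProper A.hom := by
    rw [← Over.w j]
    infer_instance
  have hA : Function.Bijective
      ((Scheme.ΓSpecIso (CommRingCat.of k)).inv ≫ A.hom.appTop).hom := by
    have h1 : ((Scheme.ΓSpecIso (CommRingCat.of k)).inv ≫ A.hom.appTop).hom.IsIntegral := by
      apply RingHom.isIntegral_respectsIso.2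
        (e := (Scheme.ΓSpecIso _).symm.commRingCatIsoToRingEquiv)
      exact isIntegral_appTop_of_universallyClosed A.hom
    exact IsAlgClosed.ringHom_bijective_of_isIntegral _ h1
  -- the rational point of `A` over `σ₀`
  have hx₀mem : σ₀.left (IsLocalRing.closedPoint k) ∈ Set.range j.left := by
    rw [hrj]
    exact specializes_iff_mem_closure.mp hz₀s
  obtain ⟨w₀, hw₀⟩ := hx₀mem
  have hw₀c : IsClosed ({w₀} : Set A.left) := by
    have h1 := (isClosed_singleton_left k σ₀).preimage j.left.continuous
    have h2 : j.left ⁻¹' {σ₀.left (IsLocalRing.closedPoint k)} = {w₀} := by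
      ext w
      simp only [Set.mem_preimage, Set.mem_singleton_iff]
      constructor
      · intro h
        exact j.left.isClosedEmbedding.injective (h.trans hw₀.symm)
      · rintro rfl
        exact hw₀
    rwa [h2] at h1
  let a₀l : Spec (CommRingCat.of k) ⟶ A.left := pointOfClosedPoint A.hom w₀ hw₀c
  have ha₀l : a₀l ≫ A.hom = 𝟙 _ := pointOfClosedPoint_comp A.hom w₀ hw₀c
  let a₀ : 𝟙_ (Over (Spec (CommRingCat.of k))) ⟶ A := Over.homMk a₀l ha₀l
  have ha : a₀ ≫ j = σ₀ := by
    apply Over.OverMorphism.ext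
    rw [Over.comp_left]
    refine ext_of_apply_closedPoint_eq X.hom ?_ (Over.w σ₀) ?_
    · show (a₀l ≫ j.left) ≫ X.hom = 𝟙 _
      rw [Category.assoc, Over.w j]
      exact ha₀l
    · show (a₀l ≫ j.left) (IsLocalRing.closedPoint k) = σ₀.left (IsLocalRing.closedPoint k)
      rw [Scheme.Hom.comp_apply, pointOfClosedPoint_apply, hw₀]
  -- the collapse
  have hFx₀ : IsClosed ({F.left (σ₀.left (IsLocalRing.closedPoint k))} : Set Yo.left) := by
    have := isClosed_singleton_left k (σ₀ ≫ F)
    rwa [Over.comp_left, Scheme.Hom.comp_apply] at this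
  have hFx₁ : IsClosed ({F.left (σ₁.left (IsLocalRing.closedPoint k))} : Set Yo.left) := by
    have := isClosed_singleton_left k (σ₁ ≫ F)
    rwa [Over.comp_left, Scheme.Hom.comp_apply] at this
  have hcol : j ≫ F = toUnit A ≫ σ₀ ≫ F := by
    apply Over.OverMorphism.ext
    let s : Spec (CommRingCat.of k) ⟶ Yo.left := (σ₀ ≫ F).left
    have hs1 : s ≫ Yo.hom = 𝟙 _ := Over.w (σ₀ ≫ F)
    haveI : IsClosedImmersion s :=
      isClosedImmersion_of_comp_eq_id (Y := Spec (CommRingCat.of k)) Yo.hom s hs1
    have hrange : Set.range (j.left ≫ F.left) ⊆ Set.range s := by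
      rintro _ ⟨w, rfl⟩
      refine ⟨IsLocalRing.closedPoint k, ?_⟩
      have h1 : j.left w ∈ closure ({z₀} : Set X.left) := hrj ▸ ⟨w, rfl⟩
      have h2 : F.left (j.left w) ∈ closure ({F.left z₀} : Set Yo.left) := by
        have := image_closure_subset_closure_image F.left.continuous ⟨_, h1, rfl⟩
        rwa [Set.image_singleton] at this
      rw [hz₀f, hFx₀.closure_eq] at h2
      rw [Scheme.Hom.comp_apply, h2]
      show (σ₀.left ≫ F.left) _ = _
      rw [Scheme.Hom.comp_apply]
    obtain ⟨g, hg⟩ := Groth.Agent.Lib.Helper7.exists_lift_of_isReduced_of_range_subset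
      (j.left ≫ F.left) s hrange
    have hgA : g = A.hom := by
      calc g = g ≫ s ≫ Yo.hom := by rw [hs1, Category.comp_id]
        _ = (j.left ≫ F.left) ≫ Yo.hom := by rw [← Category.assoc, hg]
        _ = A.hom := by rw [Category.assoc, Over.w F, Over.w j]
    show j.left ≫ F.left = (toUnit A).left ≫ s
    rw [← hg, hgA]
    rfl
  -- rigidity
  have key := translate_collapse k X A Yo hA j F σ₀ a₀ ha hcol σ₁
  let L := translIso (mulAction X) (σ₁ * σ₀⁻¹)
  let t : X.left ≃ₜ X.left := Scheme.homeoOfIso ((Over.forget _).mapIso L)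
  have ht : ∀ x, t x = (transl (mulAction X) (σ₁ * σ₀⁻¹)).left x := fun x => rfl
  obtain ⟨wz, hwz⟩ : z₀ ∈ Set.range j.left := by
    rw [hrj]
    exact subset_closure rfl
  have hfz₁ : F.left (t z₀) = F.left (σ₁.left (IsLocalRing.closedPoint k)) := by
    have h1 := congrArg (fun φ : A ⟶ Yo => φ.left wz) key
    simp only [Over.comp_left, Scheme.Hom.comp_apply] at h1
    rw [hwz] at h1
    rw [ht, h1]
    congr 2
    exact Subsingleton.elim (α := ↥(Spec (CommRingCat.of k))) _ _
  have hsp : t z₀ ⤳ σ₁.left (IsLocalRing.closedPoint k) := by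
    have h1 : t (σ₀.left (IsLocalRing.closedPoint k)) = σ₁.left (IsLocalRing.closedPoint k) := by
      have h2 : σ₀ ≫ transl (mulAction X) (σ₁ * σ₀⁻¹) = σ₁ := by
        rw [comp_transl_mulAction, inv_mul_cancel_right]
      have h3 := congrArg (fun φ : 𝟙_ (Over (Spec (CommRingCat.of k))) ⟶ X =>
        φ.left (IsLocalRing.closedPoint k)) h2
      simp only [Over.comp_left, Scheme.Hom.comp_apply] at h3
      rw [ht]
      exact h3
    rw [← h1]
    exact hz₀s.map t.continuous
  have hc₀ : IsClosed ({F.left z₀} : Set Yo.left) := by rw [hz₀f]; exact hFx₀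
  have hc₁ : IsClosed ({F.left (t z₀)} : Set Yo.left) := by rw [hfz₁]; exact hFx₁
  have e0 := trn_eq_dim_closure F.left z₀ hc₀
  have e1 := trn_eq_dim_closure F.left (t z₀) hc₁
  have e2 := dim_closure_homeo t z₀
  calc FlatMor.fibreDimAt F.left (σ₀.left (IsLocalRing.closedPoint k))
      ≤ ((trn F.left z₀ : ℕ∞) : WithBot ℕ∞) := hle
    _ = ((trn F.left (t z₀) : ℕ∞) : WithBot ℕ∞) := by rw [e0, e1, e2]
    _ ≤ FlatMor.fibreDimAt F.left (σ₁.left (IsLocalRing.closedPoint k)) :=
        trn_le_fibreDimAt_of_specializes F.left _ _ hfz₁ hsp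

end Main

section Const

variable (k : Type u) [Field k] [IsAlgClosed k]

set_option backward.isDefEq.respectTransparency false in
/-- over an algebraically closed field the fibre dimension of a morphism from an abelian variety
to a separated scheme is constant -/
theorem fibreDimAt_const (X Yo : Over (Spec (CommRingCat.of k))) [GrpObj X]
    [IsProper X.hom] [IsIntegral X.left] [IsSeparated Yo.hom] (F : X ⟶ Yo)
    [LocallyOfFiniteType F.left] :
    ∃ e : ℕ, ∀ x : X.left, FlatMor.fibreDimAt F.left x = (e : WithBot ℕ∞) := by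
  obtain ⟨e, he⟩ := exists_nat_fibreDimAt F.left (η[X].left (IsLocalRing.closedPoint k))
  haveI : JacobsonSpace ↥X.left := LocallyOfFiniteType.jacobsonSpace X.hom
  have hcl : ∀ c : X.left, IsClosed ({c} : Set X.left) →
      FlatMor.fibreDimAt F.left c = (e : WithBot ℕ∞) := by
    intro c hc
    let σl : Spec (CommRingCat.of k) ⟶ X.left := pointOfClosedPoint X.hom c hc
    have hσl : σl ≫ X.hom = 𝟙 _ := pointOfClosedPoint_comp X.hom c hc
    let σ : 𝟙_ (Over (Spec (CommRingCat.of k))) ⟶ X := Over.homMk σl hσl
    have hσ : σ.left (IsLocalRing.closedPoint k) = c := pointOfClosedPoint_apply X.hom c hc _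
    rw [← hσ, ← he]
    exact le_antisymm (fibreDimAt_le_of_points k X Yo F σ η[X])
      (fibreDimAt_le_of_points k X Yo F η[X] σ)
  refine ⟨e, fun x => ?_⟩
  apply le_antisymm
  · obtain ⟨m, hm⟩ := exists_nat_fibreDimAt F.left x
    rw [hm]
    by_contra hlt
    have hlt' : e < m := by
      by_contra h
      exact hlt (by exact_mod_cast not_lt.mp h)
    have hne : ({x : X.left | ((e + 1 : ℕ) : WithBot ℕ∞) ≤ FlatMor.fibreDimAt F.left x}).Nonempty := by
      refine ⟨x, ?_⟩
      show ((e + 1 : ℕ) : WithBot ℕ∞) ≤ FlatMor.fibreDimAt F.left x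
      rw [hm]
      exact_mod_cast hlt'
    obtain ⟨c, hc1, hc2⟩ := nonempty_inter_closedPoints hne
      (isClosed_setOf_le_fibreDimAt F.left (e + 1)).isLocallyClosed
    have h1 : ((e + 1 : ℕ) : WithBot ℕ∞) ≤ FlatMor.fibreDimAt F.left c := hc1
    rw [hcl c hc2] at h1
    have h2 : e + 1 ≤ e := by exact_mod_cast h1
    omega
  · by_contra hx
    have hne : ({x : X.left | ((e : ℕ) : WithBot ℕ∞) ≤ FlatMor.fibreDimAt F.left x}ᶜ).Nonempty :=
      ⟨x, hx⟩
    obtain ⟨c, hc1, hc2⟩ := nonempty_inter_closedPoints hne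
      (isClosed_setOf_le_fibreDimAt F.left e).isOpen_compl.isLocallyClosed
    exact hc1 (hcl c hc2).ge

end Const

end Groth.Agent.Lib.Helper22.AbFib
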