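import Mathlib
import Groth.Prelude.Def_AlgGrp
import Groth.Agent.Lib.Helper22.AbFibB
import Groth.Agent.Lib.Helper11.GrpB
import Groth.Agent.S9358

/-!
# Fibres of a morphism from an abelian variety, part C: descent to an arbitrary field and
equidimensionality of the fibres
-/

set_option linter.style.haveILetI false
set_option autoImplicit false
set_option maxHeartbeats 400000
universe u
open CategoryTheory CategoryTheory.Limits MonoidalCategory CartesianMonoidalCategory MonObj GrpObj
  AlgebraicGeometry

namespace Groth.Agent.Lib.Helper22.AbFib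

open Groth.Agent.Lib.Helper12 Groth.Agent.Lib.Helper12.SchemeDimFT
open Groth.Agent.Lib.Helper12.SchemeDimIneq Groth.Agent.Lib.Helper12.ClosedSub
open Groth.Agent.Lib.Helper12.FibreMax Groth.Agent.Lib.Helper12.SecComp
open Groth.Agent.Lib.Helper12.FibreDimConstr

variable (k : Type u) [Field k]

/-- descent of the constancy of the fibre dimension along a base change to an algebraically
closed field -/
theorem fibreDimAt_const_of_baseChange (K : Type u) [Field K] [IsAlgClosed K]
    {X Yo : Over (Spec (CommRingCat.of k))} (F : X ⟶ Yo) [LocallyOfFiniteType F.left]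
    (XK YK : Over (Spec (CommRingCat.of K))) [GrpObj XK] [IsProper XK.hom] [IsIntegral XK.left]
    [IsSeparated YK.hom] (FK : XK ⟶ YK) [LocallyOfFiniteType FK.left]
    (gX : XK.left ⟶ X.left) (gY : YK.left ⟶ Yo.left) (hsq : IsPullback gX FK.left F.left gY)
    (hsurj : Function.Surjective gX) :
    ∃ e : ℕ, ∀ x : X.left, FlatMor.fibreDimAt F.left x = (e : WithBot ℕ∞) := by
  obtain ⟨e, he⟩ := fibreDimAt_const K XK YK FK
  refine ⟨e, fun x => ?_⟩
  obtain ⟨x', rfl⟩ := hsurj x
  rw [← (Groth.Agent.S9358.result F.left gY gX FK.left hsq 0).1 x']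
  exact he x'

set_option backward.isDefEq.respectTransparency false in
/-- the fibre dimension of a morphism from an abelian variety to a separated scheme is constant -/
theorem fibreDimAt_const_field (X Yo : Over (Spec (CommRingCat.of k))) [GrpObj X]
    [IsProper X.hom] [GeometricallyIntegral X.hom] [IsSeparated Yo.hom] (F : X ⟶ Yo)
    [LocallyOfFiniteType F.left] :
    ∃ e : ℕ, ∀ x : X.left, FlatMor.fibreDimAt F.left x = (e : WithBot ℕ∞) := by
  let K := AlgebraicClosure k
  let j : Spec (CommRingCat.of K) ⟶ Spec (CommRingCat.of k) :=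
    Spec.map (CommRingCat.ofHom (algebraMap k K))
  letI : GrpObj ((Over.pullback j).obj X) := Functor.grpObjObj
  haveI : IsProper ((Over.pullback j).obj X).hom :=
    inferInstanceAs (IsProper (pullback.snd X.hom j))
  haveI : IsIntegral ((Over.pullback j).obj X).left :=
    pullback_of_geometrically (GeometricallyIntegral.geometrically_isIntegral) K j
  haveI : IsSeparated ((Over.pullback j).obj Yo).hom :=
    inferInstanceAs (IsSeparated (pullback.snd Yo.hom j))
  have h1 : ((Over.pullback j).map F).left ≫ pullback.fst Yo.hom j =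
      pullback.fst X.hom j ≫ F.left := by simp
  have h2 : ((Over.pullback j).map F).left ≫ pullback.snd Yo.hom j = pullback.snd X.hom j := by
    simp
  haveI : LocallyOfFiniteType ((Over.pullback j).map F).left := by
    haveI : LocallyOfFiniteType (((Over.pullback j).map F).left ≫ pullback.snd Yo.hom j) := by
      rw [h2]
      infer_instance
    exact locallyOfFiniteType_of_comp _ (pullback.snd Yo.hom j)
  refine fibreDimAt_const_of_baseChange k K F _ _ ((Over.pullback j).map F)
    (pullback.fst X.hom j) (pullback.fst Yo.hom j) ?_ ?_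
  · have s : IsPullback (((Over.pullback j).map F).left ≫ pullback.snd Yo.hom j)
        (pullback.fst X.hom j) j (F.left ≫ Yo.hom) := by
      rw [h2, Over.w F]
      exact (IsPullback.of_hasPullback X.hom j).flip
    exact (IsPullback.of_right s h1 (IsPullback.of_hasPullback Yo.hom j).flip).flip
  · haveI : Nonempty ↥(Spec (CommRingCat.of K)) := inferInstanceAs (Nonempty (PrimeSpectrum K))
    exact (Groth.Agent.Lib.Helper11.GrpB.surjective_fst_of_field X.hom j).surj

/-- if the fibre dimension is constant, all fibres are equidimensional of that dimension -/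
theorem dim_component_fiber_of_const {X Y : Scheme.{u}} (f : X ⟶ Y) [LocallyOfFiniteType f]
    (e : ℕ) (he : ∀ x : X, FlatMor.fibreDimAt f x = (e : WithBot ℕ∞)) (y : Y)
    (Z : Set ↥(f.fiber y)) (hZ : Z ∈ irreducibleComponents ↥(f.fiber y)) :
    topologicalKrullDim ↥Z = (e : WithBot ℕ∞) := by
  letI ovF : (f.fiber y).Over (Spec (CommRingCat.of (Y.residueField y))) :=
    ⟨f.fiberToSpecResidueField y⟩
  haveI : LocallyOfFiniteType ((f.fiber y) ↘ Spec (CommRingCat.of (Y.residueField y))) :=
    FibreRes.locallyOfFiniteType_fiberToSpecResidueField f y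
  obtain ⟨ζ, hζ, rfl⟩ := (mem_irreducibleComponents_iff Z).mp hZ
  rw [topologicalKrullDim_closure_singleton (Y.residueField y) (f.fiber y) ζ]
  have hemb : Topology.IsEmbedding (f.fiberι y) := (f.fiberι y).isEmbedding
  have hfx : f (f.fiberι y ζ) = y := by
    have h3 : f.fiberι y ζ ∈ Set.range (f.fiberι y) := ⟨ζ, rfl⟩
    rw [Scheme.Hom.range_fiberι] at h3
    exact h3
  have hmax : ∀ z' : X, f z' = f (f.fiberι y ζ) → z' ⤳ f.fiberι y ζ → z' = f.fiberι y ζ := by
    intro z' hz' hsp
    have h1 : z' ∈ Set.range (f.fiberι y) := by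
      rw [Scheme.Hom.range_fiberι]
      exact hz'.trans hfx
    obtain ⟨w', rfl⟩ := h1
    have h2 : w' ⤳ ζ := hemb.isInducing.specializes_iff.mp hsp
    rw [hζ w' h2]
  have h1 := fibreDimAt_eq_trn_of_max f (f.fiberι y ζ) hmax
  have h2 := trn_eq_tr_of_fiber f (f.fiberι y ζ) y hfx ζ rfl
  rw [he, h2] at h1
  have h3 : e = tr (Y.residueField y) (f.fiber y) ζ := by exact_mod_cast h1
  rw [h3]

/-- all nonempty fibres of a morphism from an abelian variety to a separated scheme are
equidimensional of one common dimension -/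
theorem fibres_equidimensional (X : Over (Spec (CommRingCat.of k))) [GrpObj X]
    [IsProper X.hom] [GeometricallyIntegral X.hom] {Y : Scheme.{u}}
    (q : Y ⟶ Spec (CommRingCat.of k)) [IsSeparated q] (f : X.left ⟶ Y) (hf : f ≫ q = X.hom) :
    ∃ d : ℕ, ∀ (y : Y) (Z : Set ↥(f.fiber y)), Z ∈ irreducibleComponents ↥(f.fiber y) →
      topologicalKrullDim ↥Z = d := by
  haveI : LocallyOfFiniteType f := by
    haveI : LocallyOfFiniteType (f ≫ q) := by
      rw [hf]
      infer_instance
    exact locallyOfFiniteType_of_comp f q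
  let F : X ⟶ Over.mk q := Over.homMk f hf
  haveI : IsSeparated (Over.mk q).hom := ‹IsSeparated q›
  haveI : LocallyOfFiniteType F.left := ‹LocallyOfFiniteType f›
  obtain ⟨e, he⟩ := fibreDimAt_const_field k X (Over.mk q) F
  exact ⟨e, fun y Z hZ => dim_component_fiber_of_const f e he y Z hZ⟩

end Groth.Agent.Lib.Helper22.AbFib
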