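import Mathlib
import Groth.Prelude.Def_AlgGrp
import Groth.Agent.Lib.Helper22.AbFibC
import Groth.Agent.Lib.Helper12.FibreDim
import Groth.Agent.Lib.Helper12.EquidimPt
import Groth.Agent.Lib.Helper14.MiracleSch
import Groth.Agent.Lib.Helper4.RegCM
import Groth.Agent.Lib.Helper26.RegularSch

/-!
# A surjective morphism of abelian varieties of the same dimension is finite and flat
-/

set_option linter.style.haveILetI false
set_option autoImplicit false
set_option maxHeartbeats 400000
universe u
open CategoryTheory CategoryTheory.Limits MonoidalCategory CartesianMonoidalCategory MonObj GrpObj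
  AlgebraicGeometry

namespace Groth.Agent.Lib.Helper22.AbFib

open Groth.Agent.Lib.Helper12 Groth.Agent.Lib.Helper12.SchemeDimFT
open Groth.Agent.Lib.Helper12.SchemeDimIneq Groth.Agent.Lib.Helper12.ClosedSub
open Groth.Agent.Lib.Helper12.FibreMax Groth.Agent.Lib.Helper12.SecComp
open Groth.Agent.Lib.Helper12.FibreDimConstr

variable (k : Type u) [Field k]

theorem dim_univ_eq (T : Type*) [TopologicalSpace T] :
    topologicalKrullDim ↥(Set.univ : Set T) = topologicalKrullDim T :=
  IsHomeomorph.topologicalKrullDim_eq _ (Homeomorph.Set.univ T).isHomeomorph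

/-- the dimension of the fibres bounds below the constant fibre dimension -/
theorem le_dim_fiber_of_const {X Y : Scheme.{u}} (f : X ⟶ Y) [LocallyOfFiniteType f]
    (e : ℕ) (he : ∀ x : X, FlatMor.fibreDimAt f x = (e : WithBot ℕ∞)) (x : X) :
    (e : WithBot ℕ∞) ≤ topologicalKrullDim ↥(f.fiber (f x)) := by
  letI ovF : (f.fiber (f x)).Over (Spec (CommRingCat.of (Y.residueField (f x)))) :=
    ⟨f.fiberToSpecResidueField (f x)⟩
  haveI : LocallyOfFiniteType ((f.fiber (f x)) ↘ Spec (CommRingCat.of (Y.residueField (f x)))) :=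
    FibreRes.locallyOfFiniteType_fiberToSpecResidueField f (f x)
  obtain ⟨z, hz1, -, hz3⟩ := exists_generization_trn_eq_fibreDimAt f x
  rw [he] at hz3
  let w : f.fiber (f x) := (f.fiberHomeo (f x)).symm ⟨z, hz1⟩
  have hw : f.fiberι (f x) w = z := f.fiberι_fiberHomeo_symm (f x) ⟨z, hz1⟩
  rw [trn_eq_tr_of_fiber f z (f x) hz1 w hw] at hz3
  refine hz3.trans ?_
  exact_mod_cast FibreRes.tr_le_topologicalKrullDim (Y.residueField (f x)) (f.fiber (f x)) w

/-- the dimension of the fibres is bounded above by the constant fibre dimension -/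
theorem dim_fiber_le_of_const {X Y : Scheme.{u}} (f : X ⟶ Y) [LocallyOfFiniteType f]
    (e : ℕ) (he : ∀ x : X, FlatMor.fibreDimAt f x = (e : WithBot ℕ∞)) (y : Y) :
    topologicalKrullDim ↥(f.fiber y) ≤ (e : WithBot ℕ∞) := by
  letI ovF : (f.fiber y).Over (Spec (CommRingCat.of (Y.residueField y))) :=
    ⟨f.fiberToSpecResidueField y⟩
  haveI : LocallyOfFiniteType ((f.fiber y) ↘ Spec (CommRingCat.of (Y.residueField y))) :=
    FibreRes.locallyOfFiniteType_fiberToSpecResidueField f y
  refine FibreRes.topologicalKrullDim_le_of_forall_tr (Y.residueField y) (f.fiber y) _ ?_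
  intro w
  have hfx : f (f.fiberι y w) = y := by
    have h3 : f.fiberι y w ∈ Set.range (f.fiberι y) := ⟨w, rfl⟩
    rw [Scheme.Hom.range_fiberι] at h3
    exact h3
  have h1 := trn_le_fibreDimAt_of_specializes f (f.fiberι y w) (f.fiberι y w) rfl specializes_rfl
  rw [he, trn_eq_tr_of_fiber f (f.fiberι y w) y hfx w rfl] at h1
  exact_mod_cast h1

set_option backward.isDefEq.respectTransparency false in
/-- a surjective morphism between abelian varieties of the same dimension is finite and flat -/
theorem isFinite_flat_of_surjective (X Y : Over (Spec (CommRingCat.of k)))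
    [GrpObj X] [IsProper X.hom] [GeometricallyIntegral X.hom]
    [GrpObj Y] [IsProper Y.hom] [GeometricallyIntegral Y.hom]
    (f : X ⟶ Y) [Surjective f.left]
    (hdim : topologicalKrullDim X.left = topologicalKrullDim Y.left) :
    IsFinite f.left ∧ Flat f.left := by
  haveI : Subsingleton ↥(Spec (CommRingCat.of k)) := by
    change Subsingleton (PrimeSpectrum k)
    infer_instance
  haveI : IsIntegral X.left := GeometricallyIntegral.isIntegral_of_subsingleton X.hom
  haveI : IsIntegral Y.left := GeometricallyIntegral.isIntegral_of_subsingleton Y.hom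
  haveI hfq : LocallyOfFiniteType (f.left ≫ Y.hom) := by
    rw [Over.w f]
    infer_instance
  haveI : LocallyOfFiniteType f.left := locallyOfFiniteType_of_comp f.left Y.hom
  haveI : IsProper (f.left ≫ Y.hom) := by
    rw [Over.w f]
    infer_instance
  haveI : IsProper f.left := IsProper.of_comp f.left Y.hom
  obtain ⟨e, he⟩ := fibreDimAt_const_field k X Y f
  -- the dimensions
  letI ovX : X.left.Over (Spec (CommRingCat.of k)) := ⟨X.hom⟩
  letI ovY : Y.left.Over (Spec (CommRingCat.of k)) := ⟨Y.hom⟩
  haveI : LocallyOfFiniteType (X.left ↘ Spec (CommRingCat.of k)) :=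
    inferInstanceAs (LocallyOfFiniteType X.hom)
  haveI : LocallyOfFiniteType (Y.left ↘ Spec (CommRingCat.of k)) :=
    inferInstanceAs (LocallyOfFiniteType Y.hom)
  obtain ⟨n, hn⟩ := exists_trdeg_eq k X.left (genericPoint X.left)
  obtain ⟨m, hm⟩ := exists_trdeg_eq k Y.left (genericPoint Y.left)
  have hXn : topologicalKrullDim X.left = n := topologicalKrullDim_eq_of_irreducible k X.left n hn
  have hYm : topologicalKrullDim Y.left = m := topologicalKrullDim_eq_of_irreducible k Y.left m hm
  have hnm : n = m := by
    rw [hXn, hYm] at hdim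
    exact_mod_cast hdim
  -- e = 0
  have h1 : (e : WithBot ℕ∞) + topologicalKrullDim Y.left ≤ topologicalKrullDim X.left := by
    refine Groth.Agent.Lib.Helper12.FibreDim.add_dim_le k Y.hom f.left e (fun s _ => ?_)
    obtain ⟨x, rfl⟩ := Surjective.surj (f := f.left) s
    rw [← IsHomeomorph.topologicalKrullDim_eq _ (f.left.fiberHomeo (f.left x)).isHomeomorph]
    exact le_dim_fiber_of_const f.left e he x
  have he0 : e = 0 := by
    rw [hXn, hYm, hnm] at h1
    have h2 : e + m ≤ m := by exact_mod_cast h1
    omega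
  subst he0
  constructor
  · haveI : LocallyQuasiFinite f.left :=
      Groth.Agent.Lib.Helper12.EquidimPt.locallyQuasiFinite_of_fibreDimAt_le_zero f.left
        (fun x => by rw [he x]; rfl)
    exact IsFinite.of_isProper_of_locallyQuasiFinite f.left
  · haveI : Smooth X.hom := by
      haveI : GrpObj (Over.mk X.hom) := inferInstanceAs (GrpObj X)
      exact smooth_of_grpObj (K := k) X.hom
    haveI : Smooth Y.hom := by
      haveI : GrpObj (Over.mk Y.hom) := inferInstanceAs (GrpObj Y)
      exact smooth_of_grpObj (K := k) Y.hom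
    have hY : ∀ y : Y.left, IsRegularLocalRing (Y.left.presheaf.stalk y) := fun y =>
      Groth.Agent.Lib.Helper26.RegularSch.isRegularLocalRing_stalk_of_smooth_field k Y.hom y
    have hX : ∀ x : X.left, LocCoh.IsCohenMacaulayLocalRing (X.left.presheaf.stalk x) := fun x => by
      haveI := Groth.Agent.Lib.Helper26.RegularSch.isRegularLocalRing_stalk_of_smooth_field k
        X.hom x
      exact Groth.Agent.Lib.Helper4.RegCM.isCohenMacaulayLocalRing _
    refine Groth.Agent.Lib.Helper14.MiracleSch.flat_of_equidim k Y.hom f.left hY hX m m le_rfl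
      ?_ ?_ ?_
    · intro Z hZ
      rw [irreducibleComponents_eq_singleton, Set.mem_singleton_iff] at hZ
      rw [hZ, dim_univ_eq, hXn, hnm]
    · intro Z hZ
      rw [irreducibleComponents_eq_singleton, Set.mem_singleton_iff] at hZ
      rw [hZ, dim_univ_eq, hYm]
    · intro y Z hZ
      have hne : Z.Nonempty := hZ.1.1
      haveI : Nonempty ↥Z := hne.to_subtype
      have h2 : topologicalKrullDim ↥Z ≤ topologicalKrullDim ↥(f.left.base ⁻¹' {y}) :=
        (Topology.IsInducing.subtypeVal).topologicalKrullDim_le
      rw [← IsHomeomorph.topologicalKrullDim_eq _ (f.left.fiberHomeo y).isHomeomorph] at h2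
      have h3 := h2.trans (dim_fiber_le_of_const f.left 0 he y)
      have h4 : (0 : WithBot ℕ∞) ≤ topologicalKrullDim ↥Z := Groth.Agent.Lib.Helper9.topologicalKrullDim_nonneg_of_nonempty
      rw [Nat.sub_self]
      exact le_antisymm h3 h4

end Groth.Agent.Lib.Helper22.AbFib
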