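import Groth.Agent.Lib.Helper22.ActionPts
import Mathlib.AlgebraicGeometry.Sites.Fpqc

/-!
# Descent of an action along a flat surjective homomorphism (helper22)

If `π : G ⟶ Q` is a flat surjective homomorphism (with `(π ▷ X).left` an effective epimorphism)
whose kernel `N` acts trivially on `X`, the action of `G` on `X` descends to an action of `Q`.
-/

universe u

open CategoryTheory MonoidalCategory CartesianMonoidalCategory MonObj GrpObj AlgebraicGeometry
open CategoryTheory.Limits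

namespace Groth.Agent.Lib.Helper22

variable {S : Scheme.{u}}

/-- properties stable under base change and composition pass to `π ▷ X` -/
theorem whiskerRight_left_of {P : MorphismProperty Scheme.{u}} [P.IsStableUnderBaseChange]
    [P.IsStableUnderComposition] (hid : ∀ Y : Scheme.{u}, P (𝟙 Y)) {G Q : Over S} (X : Over S)
    (π : G ⟶ Q) (h : P π.left) : P (π ▷ X).left := by
  rw [Over.whiskerRight_left]
  exact MorphismProperty.pullbackMap h (hid _) (Over.w π).symm (Category.id_comp _).symm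

theorem action_ext {G X : Over S} [GrpObj G] (b₁ b₂ : AlgGrp.Action G X) (h : b₁.act = b₂.act) :
    b₁ = b₂ := by
  cases b₁; cases b₂; cases h; rfl

/-- if `(π ▷ X) ≫ b.act = a.act` then `(g ≫ π) • x = g • x`. -/
theorem smul_comp_hom {G Q X : Over S} [GrpObj G] [GrpObj Q] (π : G ⟶ Q)
    (a : AlgGrp.Action G X) (bact : Q ⊗ X ⟶ X) (hb : (π ▷ X) ≫ bact = a.act) {T : Over S}
    (g : T ⟶ G) (x : T ⟶ X) : lift (g ≫ π) x ≫ bact = smul a g x := by
  rw [← lift_whiskerRight, Category.assoc, hb]; rfl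

/-- the kernel acts trivially iff the action is constant on the fibres of `π ▷ X` -/
theorem act_eq_of_comp_whiskerRight_eq {G Q X N : Over S} [GrpObj G] [GrpObj Q] [GrpObj N]
    (π : G ⟶ Q) [IsMonHom π] (a : AlgGrp.Action G X) (n : N ⟶ G) (hker : AlgGrp.IsKernel n π)
    (htriv : ∀ (T : Over S) (m : T ⟶ N) (x : T ⟶ X), smul a (m ≫ n) x = x)
    {T : Over S} (γ₁ γ₂ : T ⟶ G ⊗ X) (h : γ₁ ≫ (π ▷ X) = γ₂ ≫ (π ▷ X)) :
    γ₁ ≫ a.act = γ₂ ≫ a.act := by
  have h1 : (γ₁ ≫ fst G X) ≫ π = (γ₂ ≫ fst G X) ≫ π := by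
    have := congrArg (fun t => t ≫ fst Q X) h
    simpa only [Category.assoc, whiskerRight_fst] using this
  have h2 : γ₁ ≫ snd G X = γ₂ ≫ snd G X := by
    have := congrArg (fun t => t ≫ snd Q X) h
    simpa only [Category.assoc, whiskerRight_snd] using this
  set u₁ := γ₁ ≫ fst G X
  set u₂ := γ₂ ≫ fst G X
  have h3 : (u₁⁻¹ * u₂) ≫ π = toUnit T ≫ η[Q] := by
    rw [MonObj.mul_comp, GrpObj.inv_comp, h1, inv_mul_cancel]; rfl
  let m := hker.lift (u₁⁻¹ * u₂) (toUnit T) h3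
  have hm : m ≫ n = u₁⁻¹ * u₂ := hker.lift_fst _ _ _
  have e₁ : γ₁ = lift u₁ (γ₁ ≫ snd G X) := (lift_comp_fst_snd γ₁).symm
  have e₂ : γ₂ = lift u₂ (γ₁ ≫ snd G X) := by rw [h2]; exact (lift_comp_fst_snd γ₂).symm
  rw [e₁, e₂]
  show smul a u₁ _ = smul a u₂ _
  have : u₂ = u₁ * (m ≫ n) := by rw [hm]; group
  rw [this, pt_mul_smul, htriv]

/-- descent of the action -/
theorem exists_action_desc {G Q X N : Over S} [GrpObj G] [GrpObj Q] [GrpObj N]
    (π : G ⟶ Q) [IsMonHom π] [Flat π.left] [Surjective π.left] [EffectiveEpi (π ▷ X).left]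
    (a : AlgGrp.Action G X) (n : N ⟶ G) (hker : AlgGrp.IsKernel n π)
    (htriv : ∀ (T : Over S) (m : T ⟶ N) (x : T ⟶ X), smul a (m ≫ n) x = x) :
    ∃ b : AlgGrp.Action Q X, (π ▷ X) ≫ b.act = a.act := by
  have hdesc : ∀ {Z : Scheme.{u}} (g₁ g₂ : Z ⟶ (G ⊗ X).left),
      g₁ ≫ (π ▷ X).left = g₂ ≫ (π ▷ X).left → g₁ ≫ a.act.left = g₂ ≫ a.act.left := by
    intro Z g₁ g₂ h
    let Z' : Over S := Over.mk (g₁ ≫ (G ⊗ X).hom)
    let γ₁ : Z' ⟶ G ⊗ X := Over.homMk g₁ rfl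
    have w : g₂ ≫ (G ⊗ X).hom = g₁ ≫ (G ⊗ X).hom := by
      rw [← Over.w (π ▷ X), ← Category.assoc, ← h, Category.assoc]
    let γ₂ : Z' ⟶ G ⊗ X := Over.homMk g₂ w
    have hγ : γ₁ ≫ (π ▷ X) = γ₂ ≫ (π ▷ X) := by
      apply Over.OverMorphism.ext; exact h
    have := act_eq_of_comp_whiskerRight_eq π a n hker htriv γ₁ γ₂ hγ
    exact congrArg (fun t => t.left) this
  let d := EffectiveEpi.desc (π ▷ X).left a.act.left hdesc
  have hd : (π ▷ X).left ≫ d = a.act.left := EffectiveEpi.fac _ _ _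
  have hepiL : Epi (π ▷ X).left := inferInstance
  have wd : d ≫ X.hom = (Q ⊗ X).hom := by
    rw [← cancel_epi (π ▷ X).left, ← Category.assoc, hd, Over.w, Over.w]
  let bact : Q ⊗ X ⟶ X := Over.homMk d wd
  have hb : (π ▷ X) ≫ bact = a.act := by
    apply Over.OverMorphism.ext; exact hd
  have hbs : ∀ {T : Over S} (g : T ⟶ G) (x : T ⟶ X), lift (g ≫ π) x ≫ bact = smul a g x :=
    fun g x => smul_comp_hom π a bact hb g x
  refine ⟨⟨bact, ?_, ?_⟩, hb⟩
  · have : η[Q] = η[G] ≫ π := (IsMonHom.one_hom π).symm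
    rw [this, comp_whiskerRight, Category.assoc, hb, a.one_act]
  · -- universal point and local lifts
    obtain ⟨T₁, p₁, g₁, hp₁, hg₁⟩ :=
      exists_local_lift π (fst (Q ⊗ Q) X ≫ fst Q Q)
    obtain ⟨T₂, p₂, g₂, hp₂, hg₂⟩ :=
      exists_local_lift π (p₁ ≫ fst (Q ⊗ Q) X ≫ snd Q Q)
    have hp : Epi (p₂ ≫ p₁) := epi_comp _ _
    rw [← cancel_epi (p₂ ≫ p₁)]
    set x' := (p₂ ≫ p₁) ≫ snd (Q ⊗ Q) X with hx'
    have e : p₂ ≫ p₁ = lift (lift ((p₂ ≫ g₁) ≫ π) (g₂ ≫ π)) x' := by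
      apply CartesianMonoidalCategory.hom_ext
      · apply CartesianMonoidalCategory.hom_ext
        · simp only [Category.assoc, lift_fst, hg₁]
        · simp only [Category.assoc, lift_fst, lift_snd, hg₂]
      · simp only [lift_snd, hx']
    rw [e, ← Category.assoc, lift_whiskerRight, ← Hom.mul_def, ← MonObj.mul_comp, hbs,
      ← Category.assoc, lift_lift_associator_hom, ← Category.assoc, lift_whiskerLeft, hbs, hbs,
      pt_mul_smul]

end Groth.Agent.Lib.Helper22
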