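import Mathlib
import Groth.Agent.Lib.Helper12.DimFT2

/-!
# Dimension of the irreducible components of `D ⊗[k] E`
-/

set_option autoImplicit false
set_option linter.style.haveILetI false
set_option linter.unusedSectionVars false

universe u

open TensorProduct

namespace Groth.Agent.Lib.Helper22.AffDim

open Groth.Agent.Lib.Helper12

variable (k : Type u) [Field k]

theorem isIntegral_tensorMap₂ {R₁ R₂ D E : Type u} [CommRing R₁] [CommRing R₂] [CommRing D]
    [CommRing E] [Algebra k R₁] [Algebra k R₂] [Algebra k D] [Algebra k E]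
    (g₁ : R₁ →ₐ[k] D) (g₂ : R₂ →ₐ[k] E) (h₁ : g₁.IsIntegral) (h₂ : g₂.IsIntegral) :
    (Algebra.TensorProduct.map g₁ g₂).IsIntegral := by
  intro x
  induction x using TensorProduct.induction_on with
  | zero => exact RingHom.isIntegralElem_zero _
  | add x y hx hy => exact RingHom.IsIntegralElem.add _ hx hy
  | tmul d e =>
    have h1 : (Algebra.TensorProduct.map g₁ g₂).toRingHom.IsIntegralElem
        (d ⊗ₜ[k] (1 : E)) := by
      have h0 := (h₁ d).map
        (Algebra.TensorProduct.includeLeft : D →ₐ[k] D ⊗[k] E).toRingHom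
      have hcomp : (Algebra.TensorProduct.includeLeft : D →ₐ[k] D ⊗[k] E).toRingHom.comp
          g₁.toRingHom = (Algebra.TensorProduct.map g₁ g₂).toRingHom.comp
            (Algebra.TensorProduct.includeLeft : R₁ →ₐ[k] R₁ ⊗[k] R₂).toRingHom := by
        ext r; simp
      rw [hcomp] at h0
      exact h0.of_comp
    have h2 : (Algebra.TensorProduct.map g₁ g₂).toRingHom.IsIntegralElem
        ((1 : D) ⊗ₜ[k] e) := by
      have h0 := (h₂ e).map
        (Algebra.TensorProduct.includeRight : E →ₐ[k] D ⊗[k] E).toRingHom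
      have hcomp : (Algebra.TensorProduct.includeRight : E →ₐ[k] D ⊗[k] E).toRingHom.comp
          g₂.toRingHom = (Algebra.TensorProduct.map g₁ g₂).toRingHom.comp
            (Algebra.TensorProduct.includeRight : R₂ →ₐ[k] R₁ ⊗[k] R₂).toRingHom := by
        ext r; simp
      rw [hcomp] at h0
      exact h0.of_comp
    have h3 := RingHom.IsIntegralElem.mul _ h1 h2
    simpa using h3

theorem rTensor_injective_of_field {M N : Type u} [AddCommGroup M] [AddCommGroup N] [Module k M]
    [Module k N] (P : Type u) [AddCommGroup P] [Module k P] (f : M →ₗ[k] N)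
    (hf : Function.Injective f) : Function.Injective (LinearMap.lTensor P f) :=
  Module.Flat.lTensor_preserves_injective_linearMap f hf

theorem map_id_injective {D E K : Type u} [CommRing D] [CommRing E] [CommRing K]
    [Algebra k D] [Algebra k E] [Algebra k K] (j : E →ₐ[k] K) (hj : Function.Injective j) :
    Function.Injective (Algebra.TensorProduct.map (AlgHom.id k D) j) := by
  have h0 : (Algebra.TensorProduct.map (AlgHom.id k D) j : D ⊗[k] E → D ⊗[k] K) =
      LinearMap.lTensor D j.toLinearMap := by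
    ext x
    induction x using TensorProduct.induction_on with
    | zero => simp
    | tmul d e => simp
    | add x y hx hy => simp only [map_add, hx, hy]
  rw [h0]
  exact Module.Flat.lTensor_preserves_injective_linearMap _ hj

theorem tensorMap₂_mem_nonZeroDivisors {a b : ℕ} {D E : Type u} [CommRing D] [IsDomain D]
    [CommRing E] [IsDomain E] [Algebra k D] [Algebra k E]
    (g₁ : MvPolynomial (Fin a) k →ₐ[k] D) (g₂ : MvPolynomial (Fin b) k →ₐ[k] E)
    (hinj₁ : Function.Injective g₁) (hinj₂ : Function.Injective g₂)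
    (c : MvPolynomial (Fin a) k ⊗[k] MvPolynomial (Fin b) k) (hc : c ≠ 0) :
    Algebra.TensorProduct.map g₁ g₂ c ∈ nonZeroDivisors (D ⊗[k] E) := by
  set K := FractionRing E with hK
  let j : E →ₐ[k] K := IsScalarTower.toAlgHom k E K
  have hj : Function.Injective j := IsFractionRing.injective E K
  let ι : D ⊗[k] E →ₐ[k] D ⊗[k] K := Algebra.TensorProduct.map (AlgHom.id k D) j
  have hι : Function.Injective ι := map_id_injective k j hj
  let θ : MvPolynomial (Fin a) k ⊗[k] MvPolynomial (Fin b) k →ₐ[k]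
      MvPolynomial (Fin a) k ⊗[k] K :=
    Algebra.TensorProduct.map (AlgHom.id k _) (j.comp g₂)
  have hθ : Function.Injective θ := map_id_injective k (j.comp g₂) (hj.comp hinj₂)
  let e₁ : (MvPolynomial (Fin a) k) ⊗[k] K ≃+* MvPolynomial (Fin a) K :=
    ((Algebra.TensorProduct.comm k (MvPolynomial (Fin a) k) K).toRingEquiv).trans
      (MvPolynomial.algebraTensorAlgEquiv k K).toRingEquiv
  haveI : IsDomain ((MvPolynomial (Fin a) k) ⊗[k] K) := e₁.toMulEquiv.isDomain _
  have hc' : θ c ≠ 0 := by
    intro h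
    apply hc
    apply hθ
    rw [h, map_zero]
  have hnzd := DimFT2.tensorMap_mem_nonZeroDivisors k g₁ hinj₁ (θ c) hc'
  have hcomm : ∀ c' : MvPolynomial (Fin a) k ⊗[k] MvPolynomial (Fin b) k,
      ι (Algebra.TensorProduct.map g₁ g₂ c') =
        Algebra.TensorProduct.map g₁ (AlgHom.id k K) (θ c') := by
    intro c'
    induction c' using TensorProduct.induction_on with
    | zero => simp
    | tmul x y => simp [ι, θ]
    | add x y hx hy => simp only [map_add, hx, hy]
  rw [mem_nonZeroDivisors_iff_left]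
  intro x hx
  apply hι
  rw [map_zero]
  have h1 : ι (Algebra.TensorProduct.map g₁ g₂ c) * ι x = 0 := by
    rw [← map_mul, hx, map_zero]
  rw [hcomm] at h1
  exact (mem_nonZeroDivisors_iff_left.mp hnzd) _ h1

/-- **Dimension of products**: for finite type domains `D`, `E` over a field `k`, every minimal
prime `P` of `D ⊗[k] E` satisfies `dim (D ⊗[k] E)/P = dim D + dim E`. -/
theorem ringKrullDim_quotient_minimalPrime_tensor₂ (D E : Type u) [CommRing D] [IsDomain D]
    [Algebra k D] [Algebra.FiniteType k D] [CommRing E] [IsDomain E] [Algebra k E]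
    [Algebra.FiniteType k E] (P : Ideal (D ⊗[k] E)) (hP : P ∈ minimalPrimes (D ⊗[k] E)) :
    ringKrullDim ((D ⊗[k] E) ⧸ P) = ringKrullDim D + ringKrullDim E := by
  obtain ⟨a, ha, -, g₁, hinj₁, hint₁⟩ := DimFT.exists_dim_eq_trdeg k D
  obtain ⟨b, hb, -, g₂, hinj₂, hint₂⟩ := DimFT.exists_dim_eq_trdeg k E
  let e₁ : (MvPolynomial (Fin a) k) ⊗[k] (MvPolynomial (Fin b) k) ≃+*
      MvPolynomial (Fin b) (MvPolynomial (Fin a) k) :=
    (MvPolynomial.algebraTensorAlgEquiv k (MvPolynomial (Fin a) k)).toRingEquiv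
  haveI : IsDomain ((MvPolynomial (Fin a) k) ⊗[k] (MvPolynomial (Fin b) k)) :=
    e₁.toMulEquiv.isDomain _
  have hdim₁ : ringKrullDim ((MvPolynomial (Fin a) k) ⊗[k] (MvPolynomial (Fin b) k)) =
      (a : WithBot ℕ∞) + b := by
    rw [ringKrullDim_eq_of_ringEquiv e₁, MvPolynomial.ringKrullDim_of_isNoetherianRing,
      ringKrullDim_mvPolynomial_field k a, Nat.card_fin]
  let φ := Algebra.TensorProduct.map g₁ g₂
  have hφint : φ.IsIntegral := isIntegral_tensorMap₂ k g₁ g₂ hint₁ hint₂
  haveI hPp : P.IsPrime := hP.1.1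
  have hcomap : P.comap φ = ⊥ := by
    rw [eq_bot_iff]
    intro c hcmem
    by_contra hc
    have hnzd := tensorMap₂_mem_nonZeroDivisors k g₁ g₂ hinj₁ hinj₂ c hc
    exact Set.disjoint_left.mp (Ideal.disjoint_nonZeroDivisors_of_mem_minimalPrimes hP)
      hcmem hnzd
  let ψ : (MvPolynomial (Fin a) k) ⊗[k] (MvPolynomial (Fin b) k) →+* (D ⊗[k] E) ⧸ P :=
    (Ideal.Quotient.mk P).comp φ.toRingHom
  have hψinj : Function.Injective ψ := by
    rw [injective_iff_map_eq_zero]
    intro c hc0
    have : c ∈ P.comap φ := by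
      rw [Ideal.mem_comap]
      exact Ideal.Quotient.eq_zero_iff_mem.mp hc0
    rw [hcomap] at this
    exact this
  have hψint : ψ.IsIntegral :=
    RingHom.IsIntegral.trans _ _ hφint
      (RingHom.isIntegral_of_surjective _ Ideal.Quotient.mk_surjective)
  letI : Algebra ((MvPolynomial (Fin a) k) ⊗[k] (MvPolynomial (Fin b) k)) ((D ⊗[k] E) ⧸ P) :=
    ψ.toAlgebra
  haveI : Algebra.IsIntegral ((MvPolynomial (Fin a) k) ⊗[k] (MvPolynomial (Fin b) k))
      ((D ⊗[k] E) ⧸ P) := ⟨hψint⟩
  rw [ha, hb, ← hdim₁]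
  exact le_antisymm ringKrullDim_le_of_isIntegral
    (ringKrullDim_le_of_isIntegral_of_injective hψinj)

end Groth.Agent.Lib.Helper22.AffDim
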