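import Mathlib
import Groth.Agent.Lib.Helper22.AffDim1

/-!
# The affine dimension theorem (ring form)
-/

set_option autoImplicit false
set_option linter.style.haveILetI false
set_option linter.unusedSectionVars false

universe u

open TensorProduct

namespace Groth.Agent.Lib.Helper22.AffDim

open Groth.Agent.Lib.Helper12

variable (k : Type u) [Field k] {σ : Type u} [Fintype σ]
  (p q P : Ideal (MvPolynomial σ k)) [hp : p.IsPrime] [hq : q.IsPrime]

local notation "SS" => MvPolynomial σ k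
local notation "AA" => (MvPolynomial σ k ⧸ p)
local notation "BB" => (MvPolynomial σ k ⧸ q)
local notation "TT" => ((MvPolynomial σ k ⧸ p) ⊗[k] (MvPolynomial σ k ⧸ q))
local notation "PT" => @PrimeSpectrum ((MvPolynomial σ k ⧸ p) ⊗[k] (MvPolynomial σ k ⧸ q))
  CommRing.toCommSemiring
local notation "IT" => @Ideal ((MvPolynomial σ k ⧸ p) ⊗[k] (MvPolynomial σ k ⧸ q))
  (@CommSemiring.toSemiring _ CommRing.toCommSemiring)

/-- **Affine dimension theorem**: for primes `p`, `q` of `k[x_σ]` and a minimal prime `P` of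
`p + q`, `dim S/p + dim S/q ≤ dim S/P + |σ|`. -/
theorem add_le_of_mem_minimalPrimes (hP : P ∈ (p ⊔ q).minimalPrimes) :
    ringKrullDim (MvPolynomial σ k ⧸ p) + ringKrullDim (MvPolynomial σ k ⧸ q) ≤
      ringKrullDim (MvPolynomial σ k ⧸ P) + (Fintype.card σ : WithBot ℕ∞) := by
  classical
  haveI hPp : P.IsPrime := hP.1.1
  have hpP : p ≤ P := le_trans le_sup_left hP.1.2
  have hqP : q ≤ P := le_trans le_sup_right hP.1.2
  let α : SS →ₐ[k] TT := (Algebra.TensorProduct.includeLeft : AA →ₐ[k] TT).comp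
    (Ideal.Quotient.mkₐ k p)
  let β : SS →ₐ[k] TT := (Algebra.TensorProduct.includeRight : BB →ₐ[k] TT).comp
    (Ideal.Quotient.mkₐ k q)
  have hα : ∀ s : SS, α s = (Ideal.Quotient.mk p s) ⊗ₜ[k] (1 : BB) := fun s => rfl
  have hβ : ∀ s : SS, β s = (1 : AA) ⊗ₜ[k] (Ideal.Quotient.mk q s) := fun s => rfl
  let Δ : IT := Ideal.span (Set.range fun i : σ => α (MvPolynomial.X i) -
    β (MvPolynomial.X i))
  have hΔ : Δ = Ideal.span (Set.range fun i : σ => α (MvPolynomial.X i) -
    β (MvPolynomial.X i)) := rfl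
  -- Lemma 1
  have h1 : ∀ s : SS, α s - β s ∈ Δ := by
    intro s
    induction s using MvPolynomial.induction_on with
    | C c =>
      have : α (MvPolynomial.C c) = β (MvPolynomial.C c) := by
        rw [← MvPolynomial.algebraMap_eq, AlgHom.commutes, AlgHom.commutes]
      rw [this, sub_self]
      exact Δ.zero_mem
    | add f g hf hg =>
      have : α (f + g) - β (f + g) = (α f - β f) + (α g - β g) := by
        rw [map_add, map_add]; ring
      rw [this]
      exact Δ.add_mem hf hg
    | mul_X f i hf =>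
      have : α (f * MvPolynomial.X i) - β (f * MvPolynomial.X i) =
          (α f - β f) * α (MvPolynomial.X i) +
            β f * (α (MvPolynomial.X i) - β (MvPolynomial.X i)) := by
        rw [map_mul, map_mul]; ring
      rw [this]
      refine Δ.add_mem (Δ.mul_mem_right _ hf) (Δ.mul_mem_left _ ?_)
      exact Ideal.subset_span ⟨i, rfl⟩
  -- the multiplication map to S/P
  let fA : AA →ₐ[k] SS ⧸ P := Ideal.Quotient.factorₐ k hpP
  let fB : BB →ₐ[k] SS ⧸ P := Ideal.Quotient.factorₐ k hqP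
  let μ : TT →ₐ[k] SS ⧸ P := Algebra.TensorProduct.productMap fA fB
  have hμdef : ∀ (a : AA) (b : BB), μ (a ⊗ₜ[k] b) = fA a * fB b := fun a b =>
    Algebra.TensorProduct.productMap_apply_tmul fA fB a b
  have hfA : ∀ s : SS, fA (Ideal.Quotient.mk p s) = Ideal.Quotient.mk P s := fun s => rfl
  have hfB : ∀ s : SS, fB (Ideal.Quotient.mk q s) = Ideal.Quotient.mk P s := fun s => rfl
  have hμα : ∀ s : SS, μ (α s) = Ideal.Quotient.mk P s := by
    intro s
    rw [hα, hμdef, map_one, mul_one, hfA]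
  have hμβ : ∀ s : SS, μ (β s) = Ideal.Quotient.mk P s := by
    intro s
    rw [hβ, hμdef, map_one, one_mul, hfB]
  have hμsurj : Function.Surjective μ := by
    intro y
    obtain ⟨s, rfl⟩ := Ideal.Quotient.mk_surjective y
    exact ⟨α s, hμα s⟩
  let Q : IT := RingHom.ker μ.toRingHom
  have hQmem : ∀ t : TT, t ∈ Q ↔ μ t = 0 := fun t => Iff.rfl
  haveI hQp : Q.IsPrime := RingHom.ker_isPrime μ.toRingHom
  have hΔQ : Δ ≤ Q := by
    rw [hΔ, Ideal.span_le]
    rintro _ ⟨i, rfl⟩
    show _ ∈ Q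
    rw [hQmem, map_sub, hμα, hμβ, sub_self]
  -- Lemma 2
  have h2 : ∀ t : TT, ∃ s : SS, t - α s ∈ Δ := by
    intro t
    induction t using TensorProduct.induction_on with
    | zero => exact ⟨0, by rw [map_zero, sub_zero]; exact Δ.zero_mem⟩
    | tmul a b =>
      obtain ⟨sa, rfl⟩ := Ideal.Quotient.mk_surjective a
      obtain ⟨sb, rfl⟩ := Ideal.Quotient.mk_surjective b
      refine ⟨sa * sb, ?_⟩
      have e1 : (Ideal.Quotient.mk p sa) ⊗ₜ[k] (Ideal.Quotient.mk q sb) = α sa * β sb := by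
        rw [hα, hβ, Algebra.TensorProduct.tmul_mul_tmul, mul_one, one_mul]
      have : (Ideal.Quotient.mk p sa) ⊗ₜ[k] (Ideal.Quotient.mk q sb) - α (sa * sb) =
          (-(α sa)) * (α sb - β sb) := by
        rw [e1, map_mul]
        ring
      rw [this]
      exact Δ.mul_mem_left (-(α sa)) (h1 sb)
    | add x y hx hy =>
      obtain ⟨sx, hsx⟩ := hx
      obtain ⟨sy, hsy⟩ := hy
      refine ⟨sx + sy, ?_⟩
      have : x + y - α (sx + sy) = (x - α sx) + (y - α sy) := by
        rw [map_add]; ring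
      rw [this]
      exact Δ.add_mem hsx hsy
  have hQeq : Q ≤ Δ ⊔ Ideal.map α.toRingHom P := by
    intro t ht
    obtain ⟨s, hs⟩ := h2 t
    have hμt : μ t = 0 := (hQmem t).mp ht
    have hμd : μ (t - α s) = 0 := (hQmem _).mp (hΔQ hs)
    have hsP : s ∈ P := by
      rw [← Ideal.Quotient.eq_zero_iff_mem, ← hμα]
      rw [map_sub, hμt, zero_sub, neg_eq_zero] at hμd
      exact hμd
    have : t = (t - α s) + α s := by ring
    rw [this]
    exact Ideal.add_mem _ (Ideal.mem_sup_left hs)
      (Ideal.mem_sup_right (Ideal.mem_map_of_mem _ hsP))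
  -- Lemma 3
  have h3 : Q ∈ Δ.minimalPrimes := by
    refine ⟨⟨hQp, hΔQ⟩, ?_⟩
    rintro Q' ⟨hQ'p, hΔQ'⟩ hQ'Q
    haveI := hQ'p
    have hP' : (Q'.comap α.toRingHom).IsPrime := Ideal.comap_isPrime _ _
    have hpq : p ⊔ q ≤ Q'.comap α.toRingHom := by
      refine sup_le ?_ ?_
      · intro s hs
        rw [Ideal.mem_comap]
        show α s ∈ Q'
        rw [hα, Ideal.Quotient.eq_zero_iff_mem.mpr hs, TensorProduct.zero_tmul]
        exact Q'.zero_mem
      · intro s hs
        rw [Ideal.mem_comap]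
        show α s ∈ Q'
        have hβs : β s = 0 := by
          rw [hβ, Ideal.Quotient.eq_zero_iff_mem.mpr hs, TensorProduct.tmul_zero]
        have : α s = α s - β s := by rw [hβs, sub_zero]
        rw [this]
        exact hΔQ' (h1 s)
    have hle : Q'.comap α.toRingHom ≤ P := by
      intro s hs
      rw [Ideal.mem_comap] at hs
      have : μ (α s) = 0 := (hQmem _).mp (hQ'Q hs)
      rw [hμα] at this
      exact Ideal.Quotient.eq_zero_iff_mem.mp this
    have hPle : P ≤ Q'.comap α.toRingHom := hP.2 ⟨hP', hpq⟩ hle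
    refine le_trans hQeq (sup_le hΔQ' ?_)
    rw [Ideal.map_le_iff_le_comap]
    exact hPle
  -- dimension count
  haveI : Algebra.FiniteType k AA := Algebra.FiniteType.of_surjective (Ideal.Quotient.mkₐ k p)
    (Ideal.Quotient.mkₐ_surjective k p)
  haveI : Algebra.FiniteType k BB := Algebra.FiniteType.of_surjective (Ideal.Quotient.mkₐ k q)
    (Ideal.Quotient.mkₐ_surjective k q)
  obtain ⟨a, ha, -⟩ := DimFT.exists_dim_eq_trdeg k AA
  obtain ⟨b, hb, -⟩ := DimFT.exists_dim_eq_trdeg k BB
  haveI : Algebra.FiniteType k TT := by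
    have h1 : Algebra.FiniteType AA TT := inferInstance
    exact Algebra.FiniteType.trans (inferInstance : Algebra.FiniteType k AA) h1
  haveI : IsNoetherianRing TT := Algebra.FiniteType.isNoetherianRing k TT
  have hsum := DimFT2.height_add_coheight_of_equidim k TT (a + b) (by
    intro P' hP' _
    have h := ringKrullDim_quotient_minimalPrime_tensor₂ k AA BB P' hP'
    rw [ha, hb] at h
    refine h.trans ?_
    push_cast
    rfl) ⟨Q, hQp⟩
  have hht : Q.height ≤ (Fintype.card σ : ℕ∞) := by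
    have hfin : (Set.range fun i : σ => α (MvPolynomial.X i) - β (MvPolynomial.X i)).Finite :=
      Set.finite_range _
    have := Ideal.height_le_card_of_mem_minimalPrimes_span hfin h3
    refine le_trans this ?_
    have h4 : (Set.range fun i : σ => α (MvPolynomial.X i) - β (MvPolynomial.X i)).ncard ≤
        Fintype.card σ := by
      rw [← Set.image_univ]
      refine le_trans (Set.ncard_image_le (Set.finite_univ)) ?_
      rw [Set.ncard_univ, Nat.card_eq_fintype_card]
    exact_mod_cast h4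
  have hcoh := DimFT.ringKrullDim_quotient_eq_coheight (A := TT) (⟨Q, hQp⟩ : PT)
  have hdimQ : ringKrullDim (TT ⧸ Q) = ringKrullDim (SS ⧸ P) :=
    ringKrullDim_eq_of_ringEquiv (RingHom.quotientKerEquivOfSurjective hμsurj)
  have hheq : Order.height (⟨Q, hQp⟩ : PT) = Q.height :=
    (PrimeSpectrum.height_eq_orderHeight (⟨Q, hQp⟩ : PT)).symm
  rw [ha, hb, ← hdimQ, hcoh]
  have h5 : ((a + b : ℕ) : ℕ∞) ≤ Order.coheight (⟨Q, hQp⟩ : PT) +
      (Fintype.card σ : ℕ∞) := by
    rw [← hsum, hheq, add_comm]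
    exact add_le_add le_rfl hht
  have h6 : (((a + b : ℕ) : ℕ∞) : WithBot ℕ∞) ≤
      ((Order.coheight (⟨Q, hQp⟩ : PT) + (Fintype.card σ : ℕ∞) : ℕ∞) :
        WithBot ℕ∞) := by
    exact_mod_cast h5
  push_cast at h6
  exact_mod_cast h6

end Groth.Agent.Lib.Helper22.AffDim
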