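import Mathlib
import Groth.Agent.Lib.Helper22.AffDim2

/-!
# The affine dimension theorem (topological form)
-/

set_option autoImplicit false
set_option linter.style.haveILetI false
set_option linter.unusedSectionVars false

universe u v

open TensorProduct

namespace Groth.Agent.Lib.Helper22.AffDim

section Top

variable {W : Type v} [TopologicalSpace W]

theorem isIrreducible_preimage_val (X : Set W) (C : Set W) (hC : IsIrreducible C) (hCX : C ⊆ X) :
    IsIrreducible ((Subtype.val : ↥X → W) ⁻¹' C) := by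
  obtain ⟨⟨c, hc⟩, hpre⟩ := hC
  refine ⟨⟨⟨c, hCX hc⟩, hc⟩, ?_⟩
  intro u v hu hv ⟨x, hxC, hxu⟩ ⟨y, hyC, hyv⟩
  obtain ⟨U, hU, rfl⟩ := isOpen_induced_iff.mp hu
  obtain ⟨V, hV, rfl⟩ := isOpen_induced_iff.mp hv
  obtain ⟨z, hzC, hzU, hzV⟩ := hpre U V hU hV ⟨x.1, hxC, hxu⟩ ⟨y.1, hyC, hyv⟩
  exact ⟨⟨z, hCX hzC⟩, hzC, hzU, hzV⟩

theorem image_val_preimage_val (X : Set W) (C : Set W) (hCX : C ⊆ X) :
    (Subtype.val : ↥X → W) '' ((Subtype.val : ↥X → W) ⁻¹' C) = C := by
  rw [Set.image_preimage_eq_inter_range, Subtype.range_coe]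
  exact Set.inter_eq_left.mpr hCX

theorem irreducibleComponent_image (X : Set W) (hX : IsClosed X) (Z : Set ↥X)
    (hZ : Z ∈ irreducibleComponents ↥X) :
    IsIrreducible ((Subtype.val : ↥X → W) '' Z) ∧ IsClosed ((Subtype.val : ↥X → W) '' Z) ∧
      (Subtype.val : ↥X → W) '' Z ⊆ X ∧
      ∀ C : Set W, IsIrreducible C → C ⊆ X → (Subtype.val : ↥X → W) '' Z ⊆ C →
        C ⊆ (Subtype.val : ↥X → W) '' Z := by
  have hZirr : IsIrreducible Z := hZ.1
  refine ⟨hZirr.image _ continuous_subtype_val.continuousOn, ?_, ?_, ?_⟩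
  · exact hX.isClosedEmbedding_subtypeVal.isClosedMap _
      (isClosed_of_mem_irreducibleComponents Z hZ)
  · rintro _ ⟨z, -, rfl⟩
    exact z.2
  · intro C hC hCX hZC
    have h1 := isIrreducible_preimage_val X C hC hCX
    have h2 : Z ⊆ (Subtype.val : ↥X → W) ⁻¹' C := fun z hz => hZC ⟨z, hz, rfl⟩
    have h3 : (Subtype.val : ↥X → W) ⁻¹' C ⊆ Z := hZ.2 h1 h2
    rw [← image_val_preimage_val X C hCX]
    exact Set.image_mono h3

theorem exists_irreducibleComponent_image_superset (X : Set W) (C : Set W)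
    (hC : IsIrreducible C) (hCX : C ⊆ X) :
    ∃ Z ∈ irreducibleComponents ↥X, C ⊆ (Subtype.val : ↥X → W) '' Z := by
  obtain ⟨Z, hZ, hle⟩ := exists_mem_irreducibleComponents_subset_of_isIrreducible _
    (isIrreducible_preimage_val X C hC hCX)
  refine ⟨Z, hZ, ?_⟩
  rw [← image_val_preimage_val X C hCX]
  exact Set.image_mono hle

theorem topologicalKrullDim_image_val (X : Set W) (Z : Set ↥X) :
    topologicalKrullDim ↥Z = topologicalKrullDim ↥((Subtype.val : ↥X → W) '' Z) :=
  IsHomeomorph.topologicalKrullDim_eq _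
    (Topology.IsEmbedding.subtypeVal.homeomorphImage Z).isHomeomorph

end Top

section Spec

variable {S : Type u} [CommRing S]

theorem topologicalKrullDim_zeroLocus (p : Ideal S) :
    topologicalKrullDim ↥(PrimeSpectrum.zeroLocus (p : Set S)) = ringKrullDim (S ⧸ p) := by
  have hsurj : Function.Surjective (Ideal.Quotient.mk p) := Ideal.Quotient.mk_surjective
  have hemb := PrimeSpectrum.isClosedEmbedding_comap_of_surjective (S ⧸ p)
    (Ideal.Quotient.mk p) hsurj
  have hrange := _root_.range_comap_of_surjective (S ⧸ p) (Ideal.Quotient.mk p) hsurj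
  rw [Ideal.mk_ker] at hrange
  let e1 := hemb.isEmbedding.toHomeomorph
  let e2 : ↥(Set.range (PrimeSpectrum.comap (Ideal.Quotient.mk p))) ≃ₜ
      ↥(PrimeSpectrum.zeroLocus (p : Set S)) := Homeomorph.setCongr hrange
  rw [← PrimeSpectrum.topologicalKrullDim_eq_ringKrullDim]
  exact (IsHomeomorph.topologicalKrullDim_eq _ (e1.trans e2).isHomeomorph).symm

variable {W : Type v} [TopologicalSpace W] (h : W ≃ₜ PrimeSpectrum S)

theorem vanishingIdeal_image_isPrime (C : Set W) (hC : IsIrreducible C) :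
    (PrimeSpectrum.vanishingIdeal (h '' C)).IsPrime :=
  PrimeSpectrum.isIrreducible_iff_vanishingIdeal_isPrime.mp
    (hC.image _ h.continuous.continuousOn)

theorem image_eq_zeroLocus (C : Set W) (hCc : IsClosed C) :
    h '' C = PrimeSpectrum.zeroLocus (PrimeSpectrum.vanishingIdeal (h '' C) : Set S) := by
  rw [PrimeSpectrum.zeroLocus_vanishingIdeal_eq_closure]
  exact ((h.isClosed_image).mpr hCc).closure_eq.symm

theorem topologicalKrullDim_eq_of_isClosed (C : Set W) (hCc : IsClosed C) :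
    topologicalKrullDim ↥C =
      ringKrullDim (S ⧸ PrimeSpectrum.vanishingIdeal (h '' C)) := by
  rw [← topologicalKrullDim_zeroLocus]
  have e1 : ↥C ≃ₜ ↥(h '' C) := h.isEmbedding.homeomorphImage C
  have e2 : ↥(h '' C) ≃ₜ
      ↥(PrimeSpectrum.zeroLocus (PrimeSpectrum.vanishingIdeal (h '' C) : Set S)) :=
    Homeomorph.setCongr (image_eq_zeroLocus h C hCc)
  exact IsHomeomorph.topologicalKrullDim_eq _ (e1.trans e2).isHomeomorph

end Spec

section Main

variable (k : Type u) [Field k] {σ : Type u} [Fintype σ]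
  {W : Type v} [TopologicalSpace W]

/-- **Affine dimension theorem**, topological form. -/
theorem add_le_topologicalKrullDim (h : W ≃ₜ PrimeSpectrum (MvPolynomial σ k)) (r s : ℕ) (X Y : Set W) (hX : IsClosed X) (hY : IsClosed Y)
    (hXr : ∀ Z ∈ irreducibleComponents ↥X, topologicalKrullDim ↥Z = r)
    (hYs : ∀ Z ∈ irreducibleComponents ↥Y, topologicalKrullDim ↥Z = s)
    (Z : Set ↥(X ∩ Y)) (hZ : Z ∈ irreducibleComponents ↥(X ∩ Y)) :
    ((r + s : ℕ) : WithBot ℕ∞) ≤ topologicalKrullDim ↥Z + (Fintype.card σ : WithBot ℕ∞) := by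
  obtain ⟨hZirr, hZcl, hZsub, hZmax⟩ := irreducibleComponent_image (X ∩ Y) (hX.inter hY) Z hZ
  set Z' : Set W := (Subtype.val : ↥(X ∩ Y) → W) '' Z with hZ'
  obtain ⟨C, hC, hZC⟩ := exists_irreducibleComponent_image_superset X Z' hZirr
    (fun z hz => (hZsub hz).1)
  obtain ⟨D, hD, hZD⟩ := exists_irreducibleComponent_image_superset Y Z' hZirr
    (fun z hz => (hZsub hz).2)
  obtain ⟨hCirr, hCcl, hCsub, -⟩ := irreducibleComponent_image X hX C hC
  obtain ⟨hDirr, hDcl, hDsub, -⟩ := irreducibleComponent_image Y hY D hD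
  set C' : Set W := (Subtype.val : ↥X → W) '' C with hC'
  set D' : Set W := (Subtype.val : ↥Y → W) '' D with hD'
  set P := PrimeSpectrum.vanishingIdeal (h '' Z') with hPdef
  set p := PrimeSpectrum.vanishingIdeal (h '' C') with hpdef
  set q := PrimeSpectrum.vanishingIdeal (h '' D') with hqdef
  haveI hPp : P.IsPrime := vanishingIdeal_image_isPrime h Z' hZirr
  haveI hpp : p.IsPrime := vanishingIdeal_image_isPrime h C' hCirr
  haveI hqp : q.IsPrime := vanishingIdeal_image_isPrime h D' hDirr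
  have hpP : p ≤ P := PrimeSpectrum.vanishingIdeal_anti_mono (Set.image_mono hZC)
  have hqP : q ≤ P := PrimeSpectrum.vanishingIdeal_anti_mono (Set.image_mono hZD)
  have hmin : P ∈ (p ⊔ q).minimalPrimes := by
    refine ⟨⟨hPp, sup_le hpP hqP⟩, ?_⟩
    rintro P' ⟨hP'p, hpqP'⟩ hP'P
    haveI := hP'p
    -- the closed irreducible set of `P'`
    set E : Set W := h ⁻¹' (PrimeSpectrum.zeroLocus (P' : Set (MvPolynomial σ k))) with hE
    have hEimg : h '' E = PrimeSpectrum.zeroLocus (P' : Set (MvPolynomial σ k)) :=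
      h.image_preimage _
    have hEirr : IsIrreducible E := by
      have h1 : IsIrreducible (PrimeSpectrum.zeroLocus (P' : Set (MvPolynomial σ k))) :=
        (PrimeSpectrum.isIrreducible_zeroLocus_iff_of_radical _ hP'p.isRadical).mpr hP'p
      have h2 := h1.image h.symm h.symm.continuous.continuousOn
      rwa [h.symm.image_eq_preimage_symm, h.symm_symm] at h2
    have hEC : E ⊆ C' := by
      intro x hx
      have h1 : h x ∈ PrimeSpectrum.zeroLocus (p : Set (MvPolynomial σ k)) :=
        PrimeSpectrum.zeroLocus_anti_mono_ideal (le_trans le_sup_left hpqP') hx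
      rw [hpdef, ← image_eq_zeroLocus h C' hCcl] at h1
      obtain ⟨x', hx', hxx'⟩ := h1
      rwa [← h.injective hxx']
    have hED : E ⊆ D' := by
      intro x hx
      have h1 : h x ∈ PrimeSpectrum.zeroLocus (q : Set (MvPolynomial σ k)) :=
        PrimeSpectrum.zeroLocus_anti_mono_ideal (le_trans le_sup_right hpqP') hx
      rw [hqdef, ← image_eq_zeroLocus h D' hDcl] at h1
      obtain ⟨x', hx', hxx'⟩ := h1
      rwa [← h.injective hxx']
    have hZE : Z' ⊆ E := by
      intro x hx
      show h x ∈ PrimeSpectrum.zeroLocus (P' : Set (MvPolynomial σ k))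
      have h1 : h x ∈ h '' Z' := ⟨x, hx, rfl⟩
      rw [image_eq_zeroLocus h Z' hZcl] at h1
      exact PrimeSpectrum.zeroLocus_anti_mono_ideal hP'P h1
    have hEZ : E ⊆ Z' := hZmax E hEirr (fun x hx => ⟨hCsub (hEC hx), hDsub (hED hx)⟩) hZE
    have h3 : P ≤ PrimeSpectrum.vanishingIdeal (h '' E) :=
      PrimeSpectrum.vanishingIdeal_anti_mono (Set.image_mono hEZ)
    rw [hEimg, PrimeSpectrum.vanishingIdeal_zeroLocus_eq_radical, hP'p.isRadical.radical] at h3
    exact h3
  have hmain := add_le_of_mem_minimalPrimes k p q P hmin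
  have hdZ : topologicalKrullDim ↥Z = ringKrullDim (MvPolynomial σ k ⧸ P) := by
    rw [topologicalKrullDim_image_val (X ∩ Y) Z]
    exact topologicalKrullDim_eq_of_isClosed h Z' hZcl
  have hdC : ringKrullDim (MvPolynomial σ k ⧸ p) = r := by
    rw [← hXr C hC, topologicalKrullDim_image_val X C]
    exact (topologicalKrullDim_eq_of_isClosed h C' hCcl).symm
  have hdD : ringKrullDim (MvPolynomial σ k ⧸ q) = s := by
    rw [← hYs D hD, topologicalKrullDim_image_val Y D]
    exact (topologicalKrullDim_eq_of_isClosed h D' hDcl).symm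
  rw [hdZ]
  rw [hdC, hdD] at hmain
  push_cast
  exact hmain

end Main

end Groth.Agent.Lib.Helper22.AffDim
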