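import Mathlib
import Groth.Prelude
import Groth.Agent.Lib.Helper17.TensorSec
import Groth.Agent.Lib.Helper17.PbStalk
import Groth.Agent.Lib.Helper2.Mon.ProjFormula
import Groth.Agent.Lib.Helper26.AffProj

/-!
# Projection formula for affine morphisms, as an (unnamed) isomorphism (helper22, for S13535)

A thin wrapper around `Groth.Agent.Lib.Helper26.AffProj.isIso_projHom_of_isAffineHom`.
-/

set_option autoImplicit false
universe u
open CategoryTheory CategoryTheory.Limits AlgebraicGeometry

namespace Groth.Agent.Lib.Helper22.AffProjFormula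

theorem nonempty_iso_push_tensor_pullback {X Y : Scheme.{u}} (f : Y ⟶ X) [IsAffineHom f]
    (F : Y.Modules) (E : X.Modules) [F.IsQuasicoherent] [E.IsQuasicoherent] :
    Nonempty ((Scheme.Modules.pushforward f).obj
        (CohB1.tensorMod F ((Scheme.Modules.pullback f).obj E)) ≅
      CohB1.tensorMod ((Scheme.Modules.pushforward f).obj F) E) := by
  haveI := Groth.Agent.Lib.Helper26.AffProj.isIso_projHom_of_isAffineHom f F E
  exact ⟨(asIso (Groth.Agent.Lib.Helper2.Mon.projHom f F E)).symm⟩

end Groth.Agent.Lib.Helper22.AffProjFormula
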