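import Mathlib

/-!
# Change of base point for a universal pointed morphism to group objects (formal part)
-/

set_option autoImplicit false
universe v u

open CategoryTheory MonoidalCategory CartesianMonoidalCategory MonObj GrpObj Limits

namespace Groth.Agent.Lib.Helper22

variable {C : Type u} [Category.{v} C] [CartesianMonoidalCategory C]

lemma pt_toUnit {X : C} (x : 𝟙_ C ⟶ X) : x ≫ toUnit X = 𝟙 _ := toUnit_unique _ _

/-- Translating a universal pointed map by the inverse of its value at another point gives a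
universal map for the other base point. `P` is the class of admissible targets. -/
theorem albanese_change_basepoint {X A : C} [GrpObj A] (x₀ x₁ : 𝟙_ C ⟶ X) (alb : X ⟶ A)
    (halb₀ : x₀ ≫ alb = η[A])
    (P : ∀ (B : C) [GrpObj B], Prop)
    (huniv : ∀ (B : C) [GrpObj B], P B → ∀ (g : X ⟶ B), x₀ ≫ g = η[B] →
      ∃! h : A ⟶ B, IsMonHom h ∧ alb ≫ h = g) :
    x₁ ≫ (alb * (toUnit X ≫ x₁ ≫ alb)⁻¹) = η[A] ∧
    ∀ (B : C) [GrpObj B], P B → ∀ (g : X ⟶ B), x₁ ≫ g = η[B] →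
        ∃! h : A ⟶ B, IsMonHom h ∧ (alb * (toUnit X ≫ x₁ ≫ alb)⁻¹) ≫ h = g := by
  constructor
  · rw [MonObj.comp_mul, GrpObj.comp_inv, ← Category.assoc x₁, pt_toUnit, Category.id_comp,
      mul_inv_cancel, MonObj.one_eq_one]
  · intro B _ hB g hg
    have hg' : x₁ ≫ g = 1 := by rw [hg, MonObj.one_eq_one]
    set g₀ : X ⟶ B := g * (toUnit X ≫ x₀ ≫ g)⁻¹ with hg₀
    have hx₀ : x₀ ≫ g₀ = η[B] := by
      rw [hg₀, MonObj.comp_mul, GrpObj.comp_inv, ← Category.assoc x₀, pt_toUnit, Category.id_comp,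
        mul_inv_cancel, MonObj.one_eq_one]
    obtain ⟨h, ⟨hh, hah⟩, huniq⟩ := huniv B hB g₀ hx₀
    have hx₁ : x₁ ≫ g₀ = (x₀ ≫ g)⁻¹ := by
      rw [hg₀, MonObj.comp_mul, GrpObj.comp_inv, ← Category.assoc x₁, pt_toUnit, Category.id_comp,
        hg', _root_.one_mul]
    refine ⟨h, ⟨hh, ?_⟩, ?_⟩
    · rw [MonObj.mul_comp, GrpObj.inv_comp, Category.assoc, Category.assoc, hah, hx₁,
        GrpObj.comp_inv, _root_.inv_inv, hg₀, inv_mul_cancel_right]
    · rintro h' ⟨hh', hah'⟩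
      apply huniq
      refine ⟨hh', ?_⟩
      have halb : alb = (alb * (toUnit X ≫ x₁ ≫ alb)⁻¹) * (toUnit X ≫ x₁ ≫ alb) := by
        rw [inv_mul_cancel_right]
      have h1 : alb ≫ h' = g * (toUnit X ≫ x₁ ≫ alb ≫ h') := by
        conv_lhs => rw [halb]
        rw [MonObj.mul_comp, hah', Category.assoc, Category.assoc]
      have h2 : x₀ ≫ alb ≫ h' = (x₀ ≫ g) * (x₁ ≫ alb ≫ h') := by
        calc x₀ ≫ alb ≫ h' = x₀ ≫ (g * (toUnit X ≫ x₁ ≫ alb ≫ h')) := by rw [← h1]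
          _ = (x₀ ≫ g) * (x₁ ≫ alb ≫ h') := by
            rw [MonObj.comp_mul, ← Category.assoc x₀, pt_toUnit, Category.id_comp]
      have h3 : x₀ ≫ alb ≫ h' = 1 := by
        rw [← Category.assoc, halb₀, IsMonHom.one_hom, MonObj.one_eq_one]
      have h4 : x₁ ≫ alb ≫ h' = (x₀ ≫ g)⁻¹ := by
        rw [h3] at h2
        exact eq_inv_of_mul_eq_one_right h2.symm
      rw [h1, h4, hg₀, GrpObj.comp_inv]

end Groth.Agent.Lib.Helper22
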