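import Mathlib
import Groth.Prelude.Def_ArtFun3
import Groth.Agent.Lib.Helper19.ArtFunBasic
import Groth.Agent.Lib.Helper19.ArtFunLength

/-!
# More lemmas on `ArtFun.Art` (helper22)

* `exists_hom_lift`: morphisms of `Art Λ k` into a pinned fibre product;
* `exists_factor`: factoring through a surjective morphism;
* `exists_diag`: the diagonal into a fibre product `B ×_A B`;
* for `Λ = k`: `exists_toDual`: for a small extension `p : B → A` and `P = B ×_A B` the
  morphism `g : P → k[ε]` exhibiting `P` as `B ×_k k[ε]`.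
-/

set_option autoImplicit false
universe u v

open CategoryTheory

namespace Groth.Agent.Lib.Helper22.ArtFunH

open ArtFun ArtFun.Art Groth.Agent.Lib.Helper19.ArtFunBasic

section General

variable {Λ : Type u} {k : Type u} [CommRing Λ] [Field k] [Algebra Λ k]

/-- Morphisms into a pinned fibre product. -/
theorem exists_hom_lift {B A A' A'' : Art Λ k} {p' : B ⟶ A'} {p'' : B ⟶ A''}
    {f' : A' ⟶ A} {f'' : A'' ⟶ A} (h : IsFibreProd p' p'' f' f'')
    {C : Art Λ k} (φ' : C ⟶ A') (φ'' : C ⟶ A'') (hφ : φ' ≫ f' = φ'' ≫ f'') :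
    ∃ ψ : C ⟶ B, ψ ≫ p' = φ' ∧ ψ ≫ p'' = φ'' := by
  obtain ⟨ψ, h1, h2⟩ := exists_lift_of_isFibreProd h φ'.toAlgHom φ''.toAlgHom
    (congrArg Hom.toAlgHom hφ)
  refine ⟨homMk ψ ?_, hom_ext h1, hom_ext h2⟩
  rw [← p'.res_comp, AlgHom.comp_assoc, h1, φ'.res_comp]

theorem hom_lift_unique {B A A' A'' : Art Λ k} {p' : B ⟶ A'} {p'' : B ⟶ A''}
    {f' : A' ⟶ A} {f'' : A'' ⟶ A} (h : IsFibreProd p' p'' f' f'')
    {C : Art Λ k} (ψ₁ ψ₂ : C ⟶ B) (h1 : ψ₁ ≫ p' = ψ₂ ≫ p') (h2 : ψ₁ ≫ p'' = ψ₂ ≫ p'') :
    ψ₁ = ψ₂ := by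
  apply hom_ext
  apply AlgHom.ext
  intro c
  apply h.inj
  · exact congrArg (fun g : C ⟶ A' => g c) h1
  · exact congrArg (fun g : C ⟶ A'' => g c) h2

/-- Factoring through a surjective morphism. -/
theorem exists_factor {B A C : Art Λ k} (f : B ⟶ A) (hf : Function.Surjective f) (g : B ⟶ C)
    (hker : RingHom.ker f.toAlgHom ≤ RingHom.ker g.toAlgHom) :
    ∃ s : A ⟶ C, f ≫ s = g := by
  classical
  choose σ hσ using hf
  have hwd : ∀ b : B, g (σ (f b)) = g b := by
    intro b
    have : σ (f b) - b ∈ RingHom.ker f.toAlgHom := by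
      rw [RingHom.mem_ker, map_sub, sub_eq_zero]
      exact hσ (f b)
    have := hker this
    rw [RingHom.mem_ker, map_sub, sub_eq_zero] at this
    exact this
  have hval : ∀ (a : A) (b : B), f b = a → g (σ a) = g b := by
    intro a b hb
    subst hb
    exact hwd b
  let s : A →ₐ[Λ] C :=
    { toFun := fun a => g (σ a)
      map_one' := by
        show g (σ 1) = 1
        rw [hval 1 1 (map_one f.toAlgHom)]
        exact map_one g.toAlgHom
      map_mul' := fun a a' => by
        show g (σ (a * a')) = g (σ a) * g (σ a')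
        rw [hval (a * a') (σ a * σ a') (by
          rw [show f (σ a * σ a') = f (σ a) * f (σ a') from map_mul f.toAlgHom _ _, hσ, hσ])]
        exact map_mul g.toAlgHom _ _
      map_zero' := by
        show g (σ 0) = 0
        rw [hval 0 0 (map_zero f.toAlgHom)]
        exact map_zero g.toAlgHom
      map_add' := fun a a' => by
        show g (σ (a + a')) = g (σ a) + g (σ a')
        rw [hval (a + a') (σ a + σ a') (by
          rw [show f (σ a + σ a') = f (σ a) + f (σ a') from map_add f.toAlgHom _ _, hσ, hσ])]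
        exact map_add g.toAlgHom _ _
      commutes' := fun l => by
        show g (σ (algebraMap Λ A l)) = algebraMap Λ C l
        rw [hval (algebraMap Λ A l) (algebraMap Λ B l) (AlgHom.commutes f.toAlgHom l)]
        exact AlgHom.commutes g.toAlgHom l }
  have hs : ∀ b : B, s (f b) = g b := hwd
  refine ⟨homMk s ?_, ?_⟩
  · apply AlgHom.ext
    intro a
    show C.res (g (σ a)) = A.res a
    rw [res_app, ← res_app f, hσ]
  · apply hom_ext
    apply AlgHom.ext
    intro b
    exact hs b

/-- The diagonal into a fibre product `B ×_A B`. -/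
theorem exists_diag {P B A : Art Λ k} {p₁ p₂ : P ⟶ B} {f : B ⟶ A} (h : IsFibreProd p₁ p₂ f f) :
    ∃ δ : B ⟶ P, δ ≫ p₁ = 𝟙 B ∧ δ ≫ p₂ = 𝟙 B :=
  exists_hom_lift h (𝟙 B) (𝟙 B) rfl

theorem map_comp_apply {F : Art Λ k ⥤ Type v} {A B C : Art Λ k} (f : A ⟶ B) (g : B ⟶ C)
    (x : F.obj A) : F.map (f ≫ g) x = F.map g (F.map f x) := by
  rw [F.map_comp]; rfl

theorem map_id_apply {F : Art Λ k ⥤ Type v} {A : Art Λ k} (x : F.obj A) : F.map (𝟙 A) x = x := by
  rw [F.map_id]; rfl

/-- `F.map` of an isomorphism is bijective. -/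
theorem bijective_map_of_isIso {F : Art Λ k ⥤ Type v} {A B : Art Λ k} (e : A ⟶ B) [IsIso e] :
    Function.Bijective (F.map e) := by
  refine Function.bijective_iff_has_inverse.mpr ⟨F.map (inv e), fun a => ?_, fun b => ?_⟩
  · rw [← map_comp_apply, IsIso.hom_inv_id, map_id_apply]
  · rw [← map_comp_apply, IsIso.inv_hom_id, map_id_apply]

end General

section OverField

variable {k : Type u} [Field k]

/-- In an object of `Art k k`, multiplication on an ideal killed by the maximal ideal is through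
the residue map. -/
theorem mul_eq_res_smul {B : Art k k} (J : Ideal B) (hJ : IsLocalRing.maximalIdeal B * J = ⊥)
    (b t : B) (ht : t ∈ J) : b * t = B.res b • t := by
  have h1 : b - algebraMap k B (B.res b) ∈ IsLocalRing.maximalIdeal B := by
    rw [mem_maximalIdeal_iff, map_sub, AlgHom.commutes]
    simp
  have h2 : (b - algebraMap k B (B.res b)) * t ∈ IsLocalRing.maximalIdeal B * J :=
    Ideal.mul_mem_mul h1 ht
  rw [hJ, Ideal.mem_bot, sub_mul, sub_eq_zero] at h2
  rw [h2, Algebra.smul_def]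

/-- For a small extension `p : B → A` with kernel `(t)` and `P = B ×_A B`, the morphism
`g : P → k[ε]`, `z ↦ res z + c ε` with `c t = p₂ z - p₁ z`, exhibits `P` as `B ×_k k[ε]`. -/
theorem exists_toDual {B A P : Art k k} (p : B ⟶ A) (hp : IsSmallExt p) (t : B)
    (ht : RingHom.ker p.toAlgHom = Ideal.span {t}) (p₁ p₂ : P ⟶ B) (hP : IsFibreProd p₁ p₂ p p) :
    ∃ g : P ⟶ dual k k, (∀ z : P, (TrivSqZeroExt.snd (g z) : k) • t = p₂ z - p₁ z) ∧
      IsFibreProd p₁ g (toBase B) (toBase (dual k k)) := by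
  classical
  have htker : t ∈ RingHom.ker p.toAlgHom := by rw [ht]; exact Ideal.mem_span_singleton_self t
  have ht0 : t ≠ 0 := by
    intro h0
    apply hp.2.1
    rw [ht, h0]
    exact Ideal.span_singleton_eq_bot.mpr rfl
  have hmul : ∀ b : B, b * t = B.res b • t := fun b =>
    mul_eq_res_smul _ hp.2.2.2 b t htker
  have hex : ∀ z : P, ∃ c : k, c • t = p₂ z - p₁ z := by
    intro z
    have hz : p₂ z - p₁ z ∈ RingHom.ker p.toAlgHom := by
      rw [RingHom.mem_ker, map_sub, sub_eq_zero]
      exact (hP.w_apply z).symm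
    rw [ht, Ideal.mem_span_singleton'] at hz
    obtain ⟨a, ha⟩ := hz
    exact ⟨B.res a, by rw [← hmul, ha]⟩
  choose c hc using hex
  have huniq : ∀ a b : k, a • t = b • t → a = b := by
    intro a b hab
    have h1 : (a - b) • t = 0 := by rw [sub_smul, hab, sub_self]
    rcases smul_eq_zero.mp h1 with h | h
    · exact sub_eq_zero.mp h
    · exact absurd h ht0
  have hc0 : ∀ z : P, p₁ z = p₂ z → c z = 0 := by
    intro z hz
    apply huniq
    rw [hc, hz, sub_self, zero_smul]
  have hresP1 : ∀ z : P, B.res (p₁ z) = P.res z := fun z => res_app p₁ z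
  have hresP2 : ∀ z : P, B.res (p₂ z) = P.res z := fun z => res_app p₂ z
  let g₀ : P →ₐ[k] (dual k k) :=
    { toFun := fun z => ((P.res z, c z) : TrivSqZeroExt k k)
      map_one' := TrivSqZeroExt.ext (map_one P.res) (hc0 1 (by
        rw [show p₁ (1 : P) = 1 from map_one p₁.toAlgHom, show p₂ (1 : P) = 1 from map_one p₂.toAlgHom]))
      map_mul' := fun z z' => TrivSqZeroExt.ext (map_mul P.res z z') (by
        show c (z * z') = P.res z • c z' + MulOpposite.op (P.res z') • c z
        apply huniq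
        rw [hc, show p₂ (z * z') = p₂ z * p₂ z' from map_mul p₂.toAlgHom _ _,
          show p₁ (z * z') = p₁ z * p₁ z' from map_mul p₁.toAlgHom _ _]
        have e1 : p₂ z * p₂ z' - p₁ z * p₁ z' =
            p₂ z * (p₂ z' - p₁ z') + p₁ z' * (p₂ z - p₁ z) := by ring
        rw [e1, ← hc z, ← hc z', mul_smul_comm, mul_smul_comm, hmul, hmul, hresP2, hresP1,
          add_smul, smul_smul, smul_smul, op_smul_eq_smul, smul_eq_mul, smul_eq_mul]
        congr 1 <;> rw [mul_comm])
      map_zero' := TrivSqZeroExt.ext (map_zero P.res) (hc0 0 (by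
        rw [show p₁ (0 : P) = 0 from map_zero p₁.toAlgHom, show p₂ (0 : P) = 0 from map_zero p₂.toAlgHom]))
      map_add' := fun z z' => TrivSqZeroExt.ext (map_add P.res z z') (by
        show c (z + z') = c z + c z'
        apply huniq
        rw [hc, add_smul, hc, hc, show p₂ (z + z') = p₂ z + p₂ z' from map_add p₂.toAlgHom _ _,
          show p₁ (z + z') = p₁ z + p₁ z' from map_add p₁.toAlgHom _ _]
        ring)
      commutes' := fun r => TrivSqZeroExt.ext (by
          show P.res (algebraMap k P r) = (algebraMap k (TrivSqZeroExt k k) r).fst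
          rw [AlgHom.commutes, TrivSqZeroExt.algebraMap_eq_inl, TrivSqZeroExt.fst_inl]
          rfl) (by
          show c (algebraMap k P r) = (algebraMap k (TrivSqZeroExt k k) r).snd
          rw [TrivSqZeroExt.algebraMap_eq_inl, TrivSqZeroExt.snd_inl]
          apply hc0
          rw [show p₁ (algebraMap k P r) = algebraMap k B r from AlgHom.commutes p₁.toAlgHom r,
            show p₂ (algebraMap k P r) = algebraMap k B r from AlgHom.commutes p₂.toAlgHom r]) }
  have hg₀ : ∀ z : P, g₀ z = ((P.res z, c z) : TrivSqZeroExt k k) := fun z => rfl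
  let g : P ⟶ dual k k := homMk g₀ (AlgHom.ext fun z => rfl)
  have hgsnd : ∀ z : P, (TrivSqZeroExt.snd (g z) : k) = c z := fun z => rfl
  have hgfst : ∀ z : P, (TrivSqZeroExt.fst (g z) : k) = P.res z := fun z => rfl
  refine ⟨g, fun z => by rw [hgsnd, hc], ?_, ?_, ?_⟩
  · rw [eq_toBase (p₁ ≫ toBase B), eq_toBase (g ≫ toBase (dual k k))]
  · intro z z' h1 h2
    apply hP.inj _ _ h1
    have h3 : c z = c z' := by rw [← hgsnd, ← hgsnd, h2]
    have h4 := hc z
    rw [h3, hc z', h1] at h4
    exact (sub_left_injective h4).symm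
  · intro b d hbd
    have hbd' : B.res b = TrivSqZeroExt.fst d := hbd
    obtain ⟨z, hz1, hz2⟩ := hP.surj b (b + (TrivSqZeroExt.snd d : k) • t) (by
      rw [show p (b + (TrivSqZeroExt.snd d : k) • t) = p b + p ((TrivSqZeroExt.snd d : k) • t) from
        map_add p.toAlgHom _ _, show p ((TrivSqZeroExt.snd d : k) • t) =
          (TrivSqZeroExt.snd d : k) • p t from map_smul p.toAlgHom _ _,
        show p t = 0 from htker, smul_zero, add_zero])
    refine ⟨z, hz1, ?_⟩
    apply TrivSqZeroExt.ext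
    · rw [hgfst, ← hresP1, hz1, hbd']
    · rw [hgsnd]
      apply huniq
      rw [hc, hz1, hz2, add_sub_cancel_left]

end OverField

end Groth.Agent.Lib.Helper22.ArtFunH
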