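import Mathlib
import Groth.Prelude.Def_ArtFun3
import Groth.Agent.Lib.Helper19.ArtFunBasic
import Groth.Agent.Lib.Helper19.ArtFunLength
import Groth.Agent.Lib.Helper22.ArtFunH
import Groth.Agent.S12711
import Groth.Agent.S12724

/-!
# Homogeneity of functors of Artin rings from (H1), (H2), (H4)  (helper22)

* `isFibreProd_paste`: pasting of pinned fibre-product squares;
* `bijective_fst_of_bijective`: base change of a bijective morphism;
* `injective_cmp_of_hsq`: under `H0`, `Hbar`, `Heps`, `HSq` the comparison map of every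
  fibre-product square along a surjection is injective (over `Λ = k`);
* `bijective_cmp_of_hsq`: hence bijective.
-/

set_option autoImplicit false
universe u v

open CategoryTheory

namespace Groth.Agent.Lib.Helper22.ArtFunH2

open ArtFun ArtFun.Art Groth.Agent.Lib.Helper19.ArtFunBasic Groth.Agent.Lib.Helper22.ArtFunH

section General

variable {Λ : Type u} {k : Type u} [CommRing Λ] [Field k] [Algebra Λ k]

/-- Pasting: if `B = A' ×_A A''` along `r ≫ q` and `B₁ = A' ×_A A₁` along `q`, then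
`B = B₁ ×_{A₁} A''`. -/
theorem isFibreProd_paste {B B₁ A A' A'' A₁ : Art Λ k} {p' : B ⟶ A'} {p'' : B ⟶ A''}
    {f' : A' ⟶ A} {r : A'' ⟶ A₁} {q : A₁ ⟶ A}
    (h : IsFibreProd p' p'' f' (r ≫ q)) {π' : B₁ ⟶ A'} {π₁ : B₁ ⟶ A₁}
    (h₁ : IsFibreProd π' π₁ f' q) (ρ : B ⟶ B₁) (hρ1 : ρ ≫ π' = p') (hρ2 : ρ ≫ π₁ = p'' ≫ r) :
    IsFibreProd ρ p'' π₁ r := by
  have hρ1' : ∀ b : B, π' (ρ b) = p' b := fun b => congrArg (fun g : B ⟶ A' => g b) hρ1
  have hρ2' : ∀ b : B, π₁ (ρ b) = r (p'' b) := fun b => congrArg (fun g : B ⟶ A₁ => g b) hρ2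
  refine ⟨hρ2, ?_, ?_⟩
  · intro b b' hb1 hb2
    apply h.inj _ _ _ hb2
    rw [← hρ1', ← hρ1', hb1]
  · intro b₁ a'' hba
    obtain ⟨b, hb1, hb2⟩ := h.surj (π' b₁) a'' (by
      rw [h₁.w_apply, hba]; rfl)
    refine ⟨b, ?_, hb2⟩
    apply h₁.inj
    · rw [hρ1', hb1]
    · rw [hρ2', hb2, hba]

/-- The base change of a bijective morphism is bijective. -/
theorem bijective_fst_of_bijective {B A A' A'' : Art Λ k} {p' : B ⟶ A'} {p'' : B ⟶ A''}
    {f' : A' ⟶ A} {f'' : A'' ⟶ A} (h : IsFibreProd p' p'' f' f'')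
    (hf : Function.Bijective f'') : Function.Bijective p' := by
  constructor
  · intro b b' hbb
    apply h.inj _ _ hbb
    apply hf.1
    rw [← h.w_apply, ← h.w_apply, hbb]
  · intro a'
    obtain ⟨a'', ha''⟩ := hf.2 (f' a')
    obtain ⟨b, hb, -⟩ := h.surj a' a'' ha''.symm
    exact ⟨b, hb⟩

end General

section OverField

variable {k : Type u} [Field k]

/-- The property used in the induction along small extensions. -/
def InjCmp (F : Art k k ⥤ Type v) ⦃A A'' : Art k k⦄ (f'' : A'' ⟶ A) : Prop :=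
  Function.Surjective f'' ∧
    ∀ ⦃A' B : Art k k⦄ (p' : B ⟶ A') (p'' : B ⟶ A'') (f' : A' ⟶ A)
      (h : IsFibreProd p' p'' f' f''), Function.Injective (cmp F h)

theorem injCmp_of_isIso (F : Art k k ⥤ Type v) ⦃A A'' : Art k k⦄ (e : A'' ⟶ A) (he : IsIso e) :
    InjCmp F e := by
  haveI := he
  refine ⟨(bijective_of_isIso e).2, ?_⟩
  intro A' B p' p'' f' h z z' hzz
  have hb : Function.Bijective p' := bijective_fst_of_bijective h (bijective_of_isIso e)
  haveI : IsIso p' := isIso_of_bijective p' hb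
  apply (bijective_map_of_isIso (F := F) p').1
  exact congrArg (fun w => w.1.1) hzz

theorem injCmp_comp (F : Art k k ⥤ Type v) ⦃A A₁ A'' : Art k k⦄ (r : A'' ⟶ A₁) (q : A₁ ⟶ A)
    (hr : InjCmp F r) (hq : InjCmp F q) : InjCmp F (r ≫ q) := by
  refine ⟨hq.1.comp hr.1, ?_⟩
  intro A' B p' p'' f' h z z' hzz
  have hz1 : F.map p' z = F.map p' z' := congrArg (fun w => w.1.1) hzz
  have hz2 : F.map p'' z = F.map p'' z' := congrArg (fun w => w.1.2) hzz
  obtain ⟨B₁, π', π₁, h₁⟩ := Groth.Agent.Lib.Helper19.ArtFunLength.exists_isFibreProd f' q hq.1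
  obtain ⟨ρ, hρ1, hρ2⟩ := exists_hom_lift h₁ p' (p'' ≫ r) (by rw [h.w, Category.assoc])
  have h₂ := isFibreProd_paste h h₁ ρ hρ1 hρ2
  apply hr.2 ρ p'' π₁ h₂
  apply FibProd.ext
  · show F.map ρ z = F.map ρ z'
    apply hq.2 π' π₁ f' h₁
    apply FibProd.ext
    · show F.map π' (F.map ρ z) = F.map π' (F.map ρ z')
      rw [← map_comp_apply, ← map_comp_apply, hρ1, hz1]
    · show F.map π₁ (F.map ρ z) = F.map π₁ (F.map ρ z')
      rw [← map_comp_apply, ← map_comp_apply, hρ2, map_comp_apply, map_comp_apply, hz2]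
  · exact hz2

theorem injCmp_of_isSmallExt (F : Art k k ⥤ Type v) (h1 : Hbar F) (h2 : Heps F)
    (h4 : HSq F) ⦃A A'' : Art k k⦄ (f'' : A'' ⟶ A) (hf : IsSmallExt f'') : InjCmp F f'' := by
  classical
  refine ⟨hf.1, ?_⟩
  intro A' B p' p'' f' h z z' hzz
  have hz1 : F.map p' z = F.map p' z' := congrArg (fun w => w.1.1) hzz
  have hz2 : F.map p'' z = F.map p'' z' := congrArg (fun w => w.1.2) hzz
  -- `p'` is a small extension
  have hp' : IsSmallExt p' := Groth.Agent.S12711.result h hf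
  obtain ⟨τ, hτ⟩ := hp'.2.2.1
  have hτ' : RingHom.ker p'.toAlgHom = Ideal.span {τ} := hτ
  have hτker : p' τ = 0 := by
    have : τ ∈ RingHom.ker p'.toAlgHom := by rw [hτ']; exact Ideal.mem_span_singleton_self τ
    exact this
  -- `p'' τ` generates `ker f''`
  have ht''ker : p'' τ ∈ RingHom.ker f''.toAlgHom := by
    rw [RingHom.mem_ker]
    show f'' (p'' τ) = 0
    rw [← h.w_apply, hτker]
    exact map_zero f'.toAlgHom
  have hker'' : RingHom.ker f''.toAlgHom = Ideal.span {p'' τ} := by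
    apply le_antisymm
    · intro s hs
      have hs' : f'' s = 0 := hs
      obtain ⟨σ, hσ1, hσ2⟩ := h.surj 0 s (by rw [hs']; exact map_zero f'.toAlgHom)
      have hσker : σ ∈ RingHom.ker p'.toAlgHom := hσ1
      rw [hτ', Ideal.mem_span_singleton'] at hσker
      obtain ⟨a, ha⟩ := hσker
      rw [Ideal.mem_span_singleton']
      refine ⟨p'' a, ?_⟩
      rw [← hσ2, ← ha]
      exact (map_mul p''.toAlgHom a τ).symm
    · rw [Ideal.span_singleton_le_iff_mem]
      exact ht''ker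
  have ht''0 : p'' τ ≠ 0 := by
    intro h0
    apply hf.2.1
    rw [hker'', h0]
    exact Ideal.span_singleton_eq_bot.mpr rfl
  -- the doubled objects
  obtain ⟨PB, π₁, π₂, hPB⟩ := Groth.Agent.Lib.Helper19.ArtFunLength.exists_isFibreProd p' p' hp'.1
  obtain ⟨P'', ϖ₁, ϖ₂, hP''⟩ := Groth.Agent.Lib.Helper19.ArtFunLength.exists_isFibreProd f'' f'' hf.1
  obtain ⟨gB, hgB, hgB'⟩ := exists_toDual p' hp' τ hτ' π₁ π₂ hPB
  obtain ⟨g'', hg'', -⟩ := exists_toDual f'' hf (p'' τ) hker'' ϖ₁ ϖ₂ hP''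
  obtain ⟨δ, hδ1, hδ2⟩ := exists_diag hPB
  -- the map `PB → P''` induced by `p''`
  obtain ⟨m, hm1, hm2⟩ := exists_hom_lift hP'' (π₁ ≫ p'') (π₂ ≫ p'') (by
    rw [Category.assoc, Category.assoc, ← h.w, ← Category.assoc, ← Category.assoc, hPB.w])
  have hm1' : ∀ w : PB, ϖ₁ (m w) = p'' (π₁ w) := fun w => congrArg (fun g : PB ⟶ A'' => g w) hm1
  have hm2' : ∀ w : PB, ϖ₂ (m w) = p'' (π₂ w) := fun w => congrArg (fun g : PB ⟶ A'' => g w) hm2
  have hmg : m ≫ g'' = gB := by
    apply hom_ext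
    apply AlgHom.ext
    intro w
    show g'' (m w) = gB w
    apply TrivSqZeroExt.ext
    · show (dual k k).res (g'' (m w)) = (dual k k).res (gB w)
      rw [res_app, res_app, res_app]
    · have huniq : ∀ a b : k, a • p'' τ = b • p'' τ → a = b := by
        intro a b hab
        have h1 : (a - b) • p'' τ = 0 := by rw [sub_smul, hab, sub_self]
        rcases smul_eq_zero.mp h1 with h | h
        · exact sub_eq_zero.mp h
        · exact absurd h ht''0
      apply huniq
      rw [hg'', hm1', hm2', show p'' (π₂ w) - p'' (π₁ w) = p'' (π₂ w - π₁ w) from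
        (map_sub p''.toAlgHom _ _).symm, ← hgB]
      exact map_smul p''.toAlgHom _ _
  -- an element of `F(PB)` over `(z, z')`
  obtain ⟨ζ, hζ⟩ := h1 π₁ π₂ p' p' hPB hp' ⟨(z, z'), hz1⟩
  have hζ1 : F.map π₁ ζ = z := congrArg (fun w => w.1.1) hζ
  have hζ2 : F.map π₂ ζ = z' := congrArg (fun w => w.1.2) hζ
  have hmm : F.map m ζ = F.map m (F.map δ z) := by
    apply (h4 ϖ₁ ϖ₂ f'' hP'' hf).1
    apply FibProd.ext
    · show F.map ϖ₁ (F.map m ζ) = F.map ϖ₁ (F.map m (F.map δ z))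
      rw [← map_comp_apply, ← map_comp_apply m, hm1, map_comp_apply, map_comp_apply π₁,
        ← map_comp_apply δ, hδ1, map_id_apply, hζ1]
    · show F.map ϖ₂ (F.map m ζ) = F.map ϖ₂ (F.map m (F.map δ z))
      rw [← map_comp_apply, ← map_comp_apply m, hm2, map_comp_apply, map_comp_apply π₂,
        ← map_comp_apply δ, hδ2, map_id_apply, hζ2, hz2]
  have hζζ : ζ = F.map δ z := by
    apply (h2 π₁ gB hgB').1
    apply FibProd.ext
    · show F.map π₁ ζ = F.map π₁ (F.map δ z)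
      rw [← map_comp_apply, hδ1, map_id_apply, hζ1]
    · show F.map gB ζ = F.map gB (F.map δ z)
      rw [← hmg, map_comp_apply, map_comp_apply, hmm]
  rw [← hζ2, hζζ, ← map_comp_apply, hδ2, map_id_apply]

/-- Under `H0`-free hypotheses `Hbar`, `Heps`, `HSq`, the comparison map of any fibre-product
square along a surjection is injective. -/
theorem injective_cmp_of_hsq (F : Art k k ⥤ Type v) (h1 : Hbar F) (h2 : Heps F) (h4 : HSq F)
    ⦃B A A' A'' : Art k k⦄ (p' : B ⟶ A') (p'' : B ⟶ A'') (f' : A' ⟶ A) (f'' : A'' ⟶ A)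
    (h : IsFibreProd p' p'' f' f'') (hf : Function.Surjective f'') :
    Function.Injective (cmp F h) := by
  have key : InjCmp F f'' := by
    apply surjective_induction (P := fun A A'' f'' => InjCmp F f'')
    · intro A B e he; exact injCmp_of_isIso F e he
    · intro A B p hp; exact injCmp_of_isSmallExt F h1 h2 h4 p hp
    · intro A B C p q hp hq; exact injCmp_comp F p q hp hq
    · exact hf
  exact key.2 p' p'' f' h

theorem bijective_cmp_of_hsq (F : Art k k ⥤ Type v) (h1 : Hbar F) (h2 : Heps F) (h4 : HSq F)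
    ⦃B A A' A'' : Art k k⦄ (p' : B ⟶ A') (p'' : B ⟶ A'') (f' : A' ⟶ A) (f'' : A'' ⟶ A)
    (h : IsFibreProd p' p'' f' f'') (hf : Function.Surjective f'') :
    Function.Bijective (cmp F h) :=
  ⟨injective_cmp_of_hsq F h1 h2 h4 p' p'' f' f'' h hf,
    (Groth.Agent.S12724.result F).mpr h1 p' p'' f' f'' h hf⟩

end OverField

end Groth.Agent.Lib.Helper22.ArtFunH2
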