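import Mathlib

/-!
# The subring `D ×_κ K` of an Artinian local ring (helper22)

`D` an Artinian local ring, `ρ : D → κ` a surjection onto a field, `K ⊆ κ` a subfield with `κ`
finite over `K`.  Then `D₁ = ρ⁻¹(K)` is an Artinian local ring, and a unit of `D` lying in `D₁` is
a unit of `D₁`.
-/

set_option autoImplicit false

universe u

open IsLocalRing Pointwise

namespace Groth.Agent.Lib.Helper22.ArtSub

variable {D κ : Type u} [CommRing D] [Field κ] (ρ : D →+* κ) (K : Subfield κ)

/-- the subring `ρ⁻¹(K)` -/
def sub : Subring D := K.toSubring.comap ρ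

theorem mem_sub (d : D) : d ∈ sub ρ K ↔ ρ d ∈ K := Iff.rfl

theorem ker_le_sub {d : D} (hd : ρ d = 0) : d ∈ sub ρ K := by
  rw [mem_sub, hd]
  exact K.zero_mem

/-- units of `D` lying in `D₁` are units of `D₁` -/
theorem isUnit_sub_of_isUnit (a : sub ρ K) (ha : IsUnit (a : D)) : IsUnit a := by
  obtain ⟨b, hb⟩ := ha.exists_right_inv
  have hρ : ρ (a : D) * ρ b = 1 := by rw [← map_mul, hb, map_one]
  have hbK : ρ b ∈ K := by
    rw [eq_inv_of_mul_eq_one_right hρ]
    exact K.inv_mem a.2
  refine isUnit_iff_exists_inv.mpr ⟨⟨b, hbK⟩, ?_⟩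
  apply Subtype.ext
  exact hb

instance isLocalHom_subtype : IsLocalHom (sub ρ K).subtype :=
  ⟨fun a ha => isUnit_sub_of_isUnit ρ K a ha⟩

theorem isLocalRing_sub [IsLocalRing D] : IsLocalRing (sub ρ K) := by
  refine IsLocalRing.of_isUnit_or_isUnit_one_sub_self (fun a => ?_)
  rcases IsLocalRing.isUnit_or_isUnit_one_sub_self (a : D) with h | h
  · exact Or.inl (isUnit_sub_of_isUnit ρ K a h)
  · exact Or.inr (isUnit_sub_of_isUnit ρ K (1 - a) h)

variable (hρ : Function.Surjective ρ)
include hρ

theorem ker_eq_maximalIdeal [IsLocalRing D] : RingHom.ker ρ = maximalIdeal D := by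
  haveI : (RingHom.ker ρ).IsMaximal := RingHom.ker_isMaximal_of_surjective ρ hρ
  exact IsLocalRing.eq_maximalIdeal inferInstance

/-- `D` is a finite module over `D₁` -/
theorem finite_sub [Module.Finite K κ] : Module.Finite (sub ρ K) D := by
  classical
  obtain ⟨s, hs⟩ := (Module.Finite.fg_top : (⊤ : Submodule K κ).FG)
  choose lift hlift using hρ
  let E : Set D := insert 1 (lift '' (s : Set κ))
  have hEfin : E.Finite := (s.finite_toSet.image lift).insert 1
  refine ⟨(Submodule.fg_def).mpr ⟨E, hEfin, ?_⟩⟩
  rw [_root_.eq_top_iff]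
  -- the kernel lies in the span
  have hker : ∀ n : D, ρ n = 0 → n ∈ Submodule.span (sub ρ K) E := by
    intro n hn
    have h1 : n = (⟨n, ker_le_sub ρ K hn⟩ : sub ρ K) • (1 : D) := by
      rw [Subring.smul_def, smul_eq_mul, mul_one]
    rw [h1]
    exact Submodule.smul_mem _ _ (Submodule.subset_span (Set.mem_insert _ _))
  have key : ∀ y ∈ Submodule.span K (s : Set κ), ∀ d : D, ρ d = y →
      d ∈ Submodule.span (sub ρ K) E := by
    intro y hy
    induction hy using Submodule.span_induction with
    | mem e he =>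
      intro d hd
      have h1 : d = lift e + (d - lift e) := by ring
      rw [h1]
      refine Submodule.add_mem _ (Submodule.subset_span (Set.mem_insert_of_mem _ ⟨e, he, rfl⟩))
        (hker _ ?_)
      rw [map_sub, hd, hlift, sub_self]
    | zero =>
      intro d hd
      exact hker d hd
    | add y₁ y₂ _ _ ih₁ ih₂ =>
      intro d hd
      have h1 : d = lift y₁ + (d - lift y₁) := by ring
      rw [h1]
      refine Submodule.add_mem _ (ih₁ _ (hlift y₁)) (ih₂ _ ?_)
      rw [map_sub, hd, hlift, add_sub_cancel_left]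
    | smul c y _ ih =>
      intro d hd
      have hc : lift (c : κ) ∈ sub ρ K := by
        rw [mem_sub, hlift]
        exact c.2
      have h1 : d = (⟨lift (c : κ), hc⟩ : sub ρ K) • lift y +
          (d - lift (c : κ) * lift y) := by
        rw [Subring.smul_def, smul_eq_mul]
        ring
      rw [h1]
      refine Submodule.add_mem _ (Submodule.smul_mem _ _ (ih _ (hlift y))) (hker _ ?_)
      rw [map_sub, map_mul, hd, hlift, hlift, Subfield.smul_def, smul_eq_mul, sub_self]
  intro d _
  exact key (ρ d) (by rw [hs]; trivial) d rfl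


/-- the maximal ideal of `D₁` is the contraction of that of `D` -/
theorem maximalIdeal_sub [IsLocalRing D] :
    haveI := isLocalRing_sub ρ K
    maximalIdeal (sub ρ K) = (maximalIdeal D).comap (sub ρ K).subtype := by
  haveI := isLocalRing_sub ρ K
  ext a
  rw [Ideal.mem_comap, mem_maximalIdeal, mem_maximalIdeal, mem_nonunits_iff, mem_nonunits_iff]
  constructor
  · intro h h'
    exact h (isUnit_sub_of_isUnit ρ K a h')
  · intro h h'
    exact h (h'.map (sub ρ K).subtype)

theorem fg_maximalIdeal_sub [IsLocalRing D] [IsNoetherianRing D] [Module.Finite K κ] :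
    ((maximalIdeal D).comap (sub ρ K).subtype).FG := by
  classical
  haveI := finite_sub ρ K hρ
  obtain ⟨E, hE⟩ := (Module.Finite.fg_top : (⊤ : Submodule (sub ρ K) D).FG)
  obtain ⟨t, ht⟩ := (IsNoetherian.noetherian (maximalIdeal D) : (maximalIdeal D).FG)
  have h1 : Submodule.span (sub ρ K) ((E : Set D) • (t : Set D)) =
      (Submodule.span D (t : Set D)).restrictScalars (sub ρ K) :=
    Submodule.span_smul_of_span_eq_top hE _
  have hmem : ∀ n : D, n ∈ maximalIdeal D → n ∈ sub ρ K := by
    intro n hn
    apply ker_le_sub ρ K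
    rw [← ker_eq_maximalIdeal ρ hρ] at hn
    exact hn
  apply Submodule.fg_of_fg_map_injective (Algebra.linearMap (sub ρ K) D)
    (fun a b hab => Subtype.ext hab)
  have h2 : Submodule.map (Algebra.linearMap (sub ρ K) D)
      ((maximalIdeal D).comap (sub ρ K).subtype) =
      (Submodule.span D (t : Set D)).restrictScalars (sub ρ K) := by
    ext x
    rw [ht]
    constructor
    · rintro ⟨a, ha, rfl⟩
      exact ha
    · intro hx
      exact ⟨⟨x, hmem x hx⟩, hx, rfl⟩
  rw [h2, ← h1]
  exact Submodule.fg_span ((E.finite_toSet).smul t.finite_toSet)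

theorem isArtinianRing_sub [IsLocalRing D] [IsArtinianRing D] [Module.Finite K κ] :
    IsArtinianRing (sub ρ K) := by
  haveI := isLocalRing_sub ρ K
  have hmax := maximalIdeal_sub ρ K hρ
  -- every prime is the maximal ideal
  have hprime : ∀ P : Ideal (sub ρ K), P.IsPrime → P = maximalIdeal (sub ρ K) := by
    intro P hP
    apply le_antisymm (IsLocalRing.le_maximalIdeal hP.ne_top)
    intro a ha
    rw [hmax, Ideal.mem_comap] at ha
    have hnil : IsNilpotent ((sub ρ K).subtype a) := by
      have h1 : IsNilpotent (maximalIdeal D) := by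
        have := IsArtinianRing.isNilpotent_jacobson_bot (R := D)
        rwa [IsLocalRing.jacobson_eq_maximalIdeal ⊥ bot_ne_top] at this
      obtain ⟨n, hn⟩ := h1
      refine ⟨n, ?_⟩
      have : ((sub ρ K).subtype a) ^ n ∈ (maximalIdeal D) ^ n := Ideal.pow_mem_pow ha n
      rw [hn] at this
      exact this
    obtain ⟨n, hn⟩ := hnil
    have han : a ^ n = 0 := by
      apply Subtype.ext
      rw [SubmonoidClass.coe_pow]
      exact hn
    exact hP.mem_of_pow_mem n (han ▸ P.zero_mem)
  rw [isArtinianRing_iff_isNoetherianRing_krullDimLE_zero]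
  constructor
  · apply IsNoetherianRing.of_prime
    intro P hP
    rw [hprime P hP, hmax]
    exact fg_maximalIdeal_sub ρ K hρ
  · rw [Ring.krullDimLE_zero_iff]
    intro P hP
    rw [hprime P hP]
    exact IsLocalRing.maximalIdeal.isMaximal _

end Groth.Agent.Lib.Helper22.ArtSub
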