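import Mathlib
import Groth.Agent.Lib.Helper22.ArtSubA

/-!
# Morphisms from spectra of local rings: factorisation through subrings, residue fields (helper22)
-/

set_option autoImplicit false

universe u

open AlgebraicGeometry CategoryTheory IsLocalRing

namespace Groth.Agent.Lib.Helper22.ArtSub

theorem residueField_map_surjective {R S : Type*} [CommRing R] [IsLocalRing R] [CommRing S]
    [IsLocalRing S] (f : R →+* S) [IsLocalHom f] (hf : Function.Surjective f) :
    Function.Surjective (IsLocalRing.ResidueField.map f) := by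
  intro y
  obtain ⟨s, rfl⟩ := IsLocalRing.residue_surjective y
  obtain ⟨r, rfl⟩ := hf s
  exact ⟨IsLocalRing.residue R r, IsLocalRing.ResidueField.map_residue f r⟩

/-- the point and the residue field map of `Spec C₁ ⟶ Spec 𝒪_{X,x} ⟶ X` -/
theorem apply_closedPoint {X : Scheme.{u}} (x : X) {C₁ : Type u} [CommRing C₁] [IsLocalRing C₁]
    (α₁ : X.presheaf.stalk x →+* C₁) [IsLocalHom α₁] :
    (Spec.map (CommRingCat.ofHom α₁) ≫ X.fromSpecStalk x) (closedPoint C₁) = x := by
  haveI : IsLocalHom (CommRingCat.ofHom α₁).hom := ‹IsLocalHom α₁›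
  rw [Scheme.Hom.comp_apply]
  have h1 : Spec.map (CommRingCat.ofHom α₁) (closedPoint C₁) =
      closedPoint (X.presheaf.stalk x) :=
    Spec_closedPoint (R := X.presheaf.stalk x) (S := CommRingCat.of C₁)
      (f := CommRingCat.ofHom α₁)
  rw [h1, Scheme.fromSpecStalk_closedPoint]

theorem residueFieldMap_surjective {X : Scheme.{u}} (x : X) {C₁ : Type u} [CommRing C₁]
    [IsLocalRing C₁] (α₁ : X.presheaf.stalk x →+* C₁) [IsLocalHom α₁]
    (h : ∀ c : C₁, ∃ y, c - α₁ y ∈ maximalIdeal C₁) :
    Function.Surjective ((Spec.map (CommRingCat.ofHom α₁) ≫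
      X.fromSpecStalk x).residueFieldMap (closedPoint C₁)).hom := by
  haveI hloc : IsLocalHom (CommRingCat.ofHom α₁).hom := ‹IsLocalHom α₁›
  set a₁ := Spec.map (CommRingCat.ofHom α₁) ≫ X.fromSpecStalk x with ha₁
  have hS := (SpecToEquivOfLocalRing X (CommRingCat.of C₁)).right_inv
    ⟨x, CommRingCat.ofHom α₁, hloc⟩
  obtain ⟨h₁, h₂⟩ := SpecToEquivOfLocalRing_eq_iff.mp hS
  have h₁' : a₁ (closedPoint C₁) = x := h₁
  have h₂' : Scheme.stalkClosedPointTo a₁ =
      (X.presheaf.stalkCongr (by rw [h₁']; rfl)).hom ≫ CommRingCat.ofHom α₁ := h₂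
  intro z
  obtain ⟨w, rfl⟩ := (Spec (CommRingCat.of C₁)).residue_surjective (closedPoint C₁) z
  obtain ⟨y, hy⟩ := h ((stalkClosedPointIso (CommRingCat.of C₁)).hom.hom w)
  let y' : X.presheaf.stalk (a₁ (closedPoint C₁)) :=
    (X.presheaf.stalkCongr (by rw [h₁']; rfl)).inv.hom y
  refine ⟨(X.residue (a₁ (closedPoint C₁))).hom y', ?_⟩
  have hnat := Scheme.residue_residueFieldMap a₁ (closedPoint C₁)
  have h3 : (a₁.residueFieldMap (closedPoint C₁)).hom
      ((X.residue (a₁ (closedPoint C₁))).hom y') =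
      ((Spec (CommRingCat.of C₁)).residue (closedPoint C₁)).hom
        ((a₁.stalkMap (closedPoint C₁)).hom y') := by
    have := congrArg (fun φ => φ.hom y') hnat
    exact this
  rw [h3]
  -- compare in the residue field
  have h4 : (Scheme.stalkClosedPointTo a₁).hom y' = α₁ y := by
    rw [h₂']
    show α₁ ((X.presheaf.stalkCongr _).hom.hom ((X.presheaf.stalkCongr _).inv.hom y)) = α₁ y
    congr 1
    exact (X.presheaf.stalkCongr _).inv_hom_id_apply y
  have h5 : (stalkClosedPointIso (CommRingCat.of C₁)).hom.hom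
      ((a₁.stalkMap (closedPoint C₁)).hom y') = α₁ y := by
    rw [← h4]
    rfl
  show IsLocalRing.residue _ _ = IsLocalRing.residue _ _
  rw [eq_comm, ← sub_eq_zero, ← map_sub, IsLocalRing.residue_eq_zero_iff]
  -- the iso preserves non-units
  by_contra hcon
  have hu : IsUnit (w - (a₁.stalkMap (closedPoint C₁)).hom y') := by
    by_contra hnu
    exact hcon ((IsLocalRing.mem_maximalIdeal _).mpr hnu)
  have hu' := hu.map (stalkClosedPointIso (CommRingCat.of C₁)).hom.hom
  rw [map_sub, h5] at hu'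
  exact ((IsLocalRing.mem_maximalIdeal _).mp hy) hu'

end Groth.Agent.Lib.Helper22.ArtSub
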