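import Mathlib
import Groth.Agent.Lib.Helper22.ArtSubB

/-!
# Formal versality implies lifting for finite residue field extensions, general form (helper22)

The proof of `S18018` without its unused hypotheses (`IsAffine T`, finite type of the point).
-/

set_option autoImplicit false
universe u
open CategoryTheory AlgebraicGeometry

namespace Groth.Agent.Lib.Helper22.ArtSub

theorem versal_finite {S T : Scheme.{u}} (g : T ⟶ S) (t : T)
    (hT : ∀ (C C' : Type u) [CommRing C] [CommRing C'] [IsLocalRing C] [IsLocalRing C'] [IsArtinianRing C]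
        [IsArtinianRing C'] (π : C' →+* C), Function.Surjective π →
        ∀ (a : Spec (CommRingCat.of C) ⟶ T) (b : Spec (CommRingCat.of C') ⟶ S),
          a (IsLocalRing.closedPoint C) = t →
          Function.Surjective (a.residueFieldMap (IsLocalRing.closedPoint C)).hom →
          Spec.map (CommRingCat.ofHom π) ≫ b = a ≫ g →
          ∃ c : Spec (CommRingCat.of C') ⟶ T, Spec.map (CommRingCat.ofHom π) ≫ c = a ∧ c ≫ g = b) :
    ∀ (C C' : Type u) [CommRing C] [CommRing C'] [IsLocalRing C] [IsLocalRing C'] [IsArtinianRing C]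
        [IsArtinianRing C'] (π : C' →+* C), Function.Surjective π →
        ∀ (a : Spec (CommRingCat.of C) ⟶ T) (b : Spec (CommRingCat.of C') ⟶ S),
          a (IsLocalRing.closedPoint C) = t →
          (a.residueFieldMap (IsLocalRing.closedPoint C)).hom.Finite →
          Spec.map (CommRingCat.ofHom π) ≫ b = a ≫ g →
          ∃ c : Spec (CommRingCat.of C') ⟶ T, Spec.map (CommRingCat.ofHom π) ≫ c = a ∧ c ≫ g = b := by
  intro C C' _ _ _ _ _ _ π hπ a b hat hfin hcomm
  subst hat
  haveI : IsLocalHom π := IsLocalHom.of_surjective π hπ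
  -- the local homomorphism attached to `a`
  let α := Scheme.stalkClosedPointTo a
  haveI hαloc : IsLocalHom α.hom := inferInstance
  let φ : IsLocalRing.ResidueField (T.presheaf.stalk (a (IsLocalRing.closedPoint C))) →+*
      IsLocalRing.ResidueField C := IsLocalRing.ResidueField.map α.hom
  let K : Subfield (IsLocalRing.ResidueField C) := φ.fieldRange
  -- finiteness of the residue field over `K`
  have hφfin : φ.Finite := by
    haveI : IsLocalHom (stalkClosedPointIso (CommRingCat.of C)).hom.hom :=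
      isLocalHom_of_isIso _
    haveI : IsLocalHom (a.stalkMap (IsLocalRing.closedPoint C)).hom := inferInstance
    have h1 : φ = (IsLocalRing.ResidueField.map
        (stalkClosedPointIso (CommRingCat.of C)).hom.hom).comp
        (IsLocalRing.ResidueField.map (a.stalkMap (IsLocalRing.closedPoint C)).hom) := by
      rw [← IsLocalRing.ResidueField.map_comp]
      rfl
    rw [h1]
    exact RingHom.Finite.comp (RingHom.Finite.of_surjective _
      (Groth.Agent.Lib.Helper22.ArtSub.residueField_map_surjective _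
        (ConcreteCategory.bijective_of_isIso (stalkClosedPointIso (CommRingCat.of C)).hom).2)) hfin
  haveI hKfin : Module.Finite K (IsLocalRing.ResidueField C) := by
    letI := φ.toAlgebra
    haveI : Module.Finite (IsLocalRing.ResidueField
      (T.presheaf.stalk (a (IsLocalRing.closedPoint C)))) (IsLocalRing.ResidueField C) := hφfin
    letI : Algebra (IsLocalRing.ResidueField
      (T.presheaf.stalk (a (IsLocalRing.closedPoint C)))) K := (φ.rangeRestrictField).toAlgebra
    haveI : IsScalarTower (IsLocalRing.ResidueField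
      (T.presheaf.stalk (a (IsLocalRing.closedPoint C)))) K (IsLocalRing.ResidueField C) :=
      IsScalarTower.of_algebraMap_eq (fun x => rfl)
    exact Module.Finite.of_restrictScalars_finite (IsLocalRing.ResidueField
      (T.presheaf.stalk (a (IsLocalRing.closedPoint C)))) K (IsLocalRing.ResidueField C)
  -- the subrings
  let ρ : C →+* IsLocalRing.ResidueField C := IsLocalRing.residue C
  let ρ' : C' →+* IsLocalRing.ResidueField C := (IsLocalRing.residue C).comp π
  have hρ : Function.Surjective ρ := IsLocalRing.residue_surjective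
  have hρ' : Function.Surjective ρ' := hρ.comp hπ
  haveI hloc₁ := Groth.Agent.Lib.Helper22.ArtSub.isLocalRing_sub ρ K
  haveI hloc₁' := Groth.Agent.Lib.Helper22.ArtSub.isLocalRing_sub ρ' K
  haveI hart₁ := Groth.Agent.Lib.Helper22.ArtSub.isArtinianRing_sub ρ K hρ
  haveI hart₁' := Groth.Agent.Lib.Helper22.ArtSub.isArtinianRing_sub ρ' K hρ'
  let π₁ : Groth.Agent.Lib.Helper22.ArtSub.sub ρ' K →+* Groth.Agent.Lib.Helper22.ArtSub.sub ρ K :=
    (π.comp (Groth.Agent.Lib.Helper22.ArtSub.sub ρ' K).subtype).codRestrict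
      (Groth.Agent.Lib.Helper22.ArtSub.sub ρ K) (fun c => c.2)
  have hπ₁ : Function.Surjective π₁ := by
    intro c
    obtain ⟨c', hc'⟩ := hπ c.1
    refine ⟨⟨c', ?_⟩, Subtype.ext hc'⟩
    show ρ (π c') ∈ K
    rw [hc']
    exact c.2
  -- `α` lands in `C₁`
  have hα : ∀ y, α.hom y ∈ Groth.Agent.Lib.Helper22.ArtSub.sub ρ K := by
    intro y
    show ρ (α.hom y) ∈ K
    exact ⟨IsLocalRing.residue _ y, IsLocalRing.ResidueField.map_residue α.hom y⟩
  let α₁ : T.presheaf.stalk (a (IsLocalRing.closedPoint C)) →+*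
      Groth.Agent.Lib.Helper22.ArtSub.sub ρ K :=
    α.hom.codRestrict (Groth.Agent.Lib.Helper22.ArtSub.sub ρ K) hα
  haveI hα₁loc : IsLocalHom α₁ := ⟨fun y hy => by
    have h1 := hy.map (Groth.Agent.Lib.Helper22.ArtSub.sub ρ K).subtype
    exact isUnit_of_map_unit α.hom y h1⟩
  let a₁ : Spec (CommRingCat.of (Groth.Agent.Lib.Helper22.ArtSub.sub ρ K)) ⟶ T :=
    Spec.map (CommRingCat.ofHom α₁) ≫ T.fromSpecStalk (a (IsLocalRing.closedPoint C))
  have ha₁ : Spec.map (CommRingCat.ofHom (Groth.Agent.Lib.Helper22.ArtSub.sub ρ K).subtype) ≫ a₁ =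
      a := by
    show _ ≫ Spec.map (CommRingCat.ofHom α₁) ≫ _ = a
    rw [← Category.assoc, ← Spec.map_comp]
    have h1 : CommRingCat.ofHom α₁ ≫
        CommRingCat.ofHom (Groth.Agent.Lib.Helper22.ArtSub.sub ρ K).subtype = α := rfl
    rw [h1]
    exact Scheme.Spec_stalkClosedPointTo_fromSpecStalk a
  -- the local homomorphism attached to `b`
  let β := Scheme.stalkClosedPointTo b
  haveI hβloc : IsLocalHom β.hom := inferInstance
  -- comparison of the two descriptions of `Spec π ≫ b = a ≫ g`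
  have hE : ∃ e : Inseparable (b (IsLocalRing.closedPoint C')) (g (a (IsLocalRing.closedPoint C))),
      β ≫ CommRingCat.ofHom π = (S.presheaf.stalkCongr e).hom ≫
        g.stalkMap (a (IsLocalRing.closedPoint C)) ≫ α := by
    haveI l1 : IsLocalHom (β ≫ CommRingCat.ofHom π).hom := by
      show IsLocalHom (π.comp β.hom)
      infer_instance
    haveI l2 : IsLocalHom (g.stalkMap (a (IsLocalRing.closedPoint C)) ≫ α).hom := by
      show IsLocalHom (α.hom.comp (g.stalkMap (a (IsLocalRing.closedPoint C))).hom)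
      infer_instance
    have hinj := (SpecToEquivOfLocalRing S (CommRingCat.of C)).symm.injective
      (a₁ := ⟨b (IsLocalRing.closedPoint C'), β ≫ CommRingCat.ofHom π, l1⟩)
      (a₂ := ⟨g (a (IsLocalRing.closedPoint C)),
        g.stalkMap (a (IsLocalRing.closedPoint C)) ≫ α, l2⟩) (by
        show Spec.map (β ≫ CommRingCat.ofHom π) ≫ S.fromSpecStalk _ =
          Spec.map (g.stalkMap (a (IsLocalRing.closedPoint C)) ≫ α) ≫ S.fromSpecStalk _
        rw [Spec.map_comp, Category.assoc, Scheme.Spec_stalkClosedPointTo_fromSpecStalk b,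
          Spec.map_comp, Category.assoc, Scheme.SpecMap_stalkMap_fromSpecStalk,
          Scheme.Spec_stalkClosedPointTo_fromSpecStalk_assoc a]
        exact hcomm)
    obtain ⟨h₁, h₂⟩ := SpecToEquivOfLocalRing_eq_iff.mp hinj
    exact ⟨by rw [show b (IsLocalRing.closedPoint C') = g (a (IsLocalRing.closedPoint C)) from h₁],
      h₂⟩
  obtain ⟨e, hE⟩ := hE
  have hEapp : ∀ y, π (β.hom y) = α.hom ((g.stalkMap (a (IsLocalRing.closedPoint C))).hom
      ((S.presheaf.stalkCongr e).hom.hom y)) := by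
    intro y
    have := congrArg (fun ψ => ψ.hom y) hE
    exact this
  have hβ : ∀ y, β.hom y ∈ Groth.Agent.Lib.Helper22.ArtSub.sub ρ' K := by
    intro y
    show ρ (π (β.hom y)) ∈ K
    rw [hEapp]
    exact hα _
  let β₁ : S.presheaf.stalk (b (IsLocalRing.closedPoint C')) →+*
      Groth.Agent.Lib.Helper22.ArtSub.sub ρ' K :=
    β.hom.codRestrict (Groth.Agent.Lib.Helper22.ArtSub.sub ρ' K) hβ
  haveI hβ₁loc : IsLocalHom β₁ := ⟨fun y hy => by
    have h1 := hy.map (Groth.Agent.Lib.Helper22.ArtSub.sub ρ' K).subtype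
    exact isUnit_of_map_unit β.hom y h1⟩
  let b₁ : Spec (CommRingCat.of (Groth.Agent.Lib.Helper22.ArtSub.sub ρ' K)) ⟶ S :=
    Spec.map (CommRingCat.ofHom β₁) ≫ S.fromSpecStalk (b (IsLocalRing.closedPoint C'))
  have hb₁ : Spec.map (CommRingCat.ofHom (Groth.Agent.Lib.Helper22.ArtSub.sub ρ' K).subtype) ≫ b₁ =
      b := by
    show _ ≫ Spec.map (CommRingCat.ofHom β₁) ≫ _ = b
    rw [← Category.assoc, ← Spec.map_comp]
    have h1 : CommRingCat.ofHom β₁ ≫
        CommRingCat.ofHom (Groth.Agent.Lib.Helper22.ArtSub.sub ρ' K).subtype = β := rfl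
    rw [h1]
    exact Scheme.Spec_stalkClosedPointTo_fromSpecStalk b
  -- compatibility over `C₁`
  have hR1 : CommRingCat.ofHom β₁ ≫ CommRingCat.ofHom π₁ =
      (S.presheaf.stalkCongr e).hom ≫ g.stalkMap (a (IsLocalRing.closedPoint C)) ≫
        CommRingCat.ofHom α₁ := by
    ext y
    exact hEapp y
  have hcomm₁ : Spec.map (CommRingCat.ofHom π₁) ≫ b₁ = a₁ ≫ g := by
    show Spec.map (CommRingCat.ofHom π₁) ≫ Spec.map (CommRingCat.ofHom β₁) ≫ _ =
      (Spec.map (CommRingCat.ofHom α₁) ≫ _) ≫ g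
    rw [← Category.assoc, ← Spec.map_comp, hR1, Spec.map_comp, Spec.map_comp, Category.assoc,
      Category.assoc, TopCat.Presheaf.stalkCongr_hom,
      Scheme.SpecMap_stalkSpecializes_fromSpecStalk, Scheme.SpecMap_stalkMap_fromSpecStalk,
      Category.assoc]
    rfl
  -- apply versality
  have hpt : a₁ (IsLocalRing.closedPoint (Groth.Agent.Lib.Helper22.ArtSub.sub ρ K)) =
      a (IsLocalRing.closedPoint C) :=
    Groth.Agent.Lib.Helper22.ArtSub.apply_closedPoint _ α₁
  have hsurj : Function.Surjective (a₁.residueFieldMap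
      (IsLocalRing.closedPoint (Groth.Agent.Lib.Helper22.ArtSub.sub ρ K))).hom := by
    apply Groth.Agent.Lib.Helper22.ArtSub.residueFieldMap_surjective
    intro c
    obtain ⟨ybar, hy⟩ : ρ c.1 ∈ K := c.2
    obtain ⟨y, rfl⟩ := IsLocalRing.residue_surjective ybar
    refine ⟨y, ?_⟩
    rw [Groth.Agent.Lib.Helper22.ArtSub.maximalIdeal_sub ρ K hρ, Ideal.mem_comap]
    show c.1 - α.hom y ∈ IsLocalRing.maximalIdeal C
    rw [← IsLocalRing.residue_eq_zero_iff, map_sub, sub_eq_zero]
    have h2 : φ (IsLocalRing.residue _ y) = IsLocalRing.residue C (α.hom y) :=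
      IsLocalRing.ResidueField.map_residue α.hom y
    rw [← h2]
    exact hy.symm
  obtain ⟨c₁, hc₁a, hc₁b⟩ := hT (Groth.Agent.Lib.Helper22.ArtSub.sub ρ K)
    (Groth.Agent.Lib.Helper22.ArtSub.sub ρ' K) π₁ hπ₁ a₁ b₁ hpt hsurj hcomm₁
  refine ⟨Spec.map (CommRingCat.ofHom (Groth.Agent.Lib.Helper22.ArtSub.sub ρ' K).subtype) ≫ c₁,
    ?_, ?_⟩
  · rw [← Category.assoc, ← Spec.map_comp]
    have h1 : CommRingCat.ofHom (Groth.Agent.Lib.Helper22.ArtSub.sub ρ' K).subtype ≫
        CommRingCat.ofHom π = CommRingCat.ofHom π₁ ≫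
          CommRingCat.ofHom (Groth.Agent.Lib.Helper22.ArtSub.sub ρ K).subtype := rfl
    rw [h1, Spec.map_comp, Category.assoc, hc₁a, ha₁]
  · rw [Category.assoc, hc₁b, hb₁]

end Groth.Agent.Lib.Helper22.ArtSub
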