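import Mathlib
import Groth.Agent.Lib.Helper22.ArtSubC
import Groth.Agent.Lib.Helper15.ThickLift

/-!
# Formal versality passes to étale neighbourhoods (helper22)
-/

set_option autoImplicit false
set_option linter.style.haveILetI false
universe u
open CategoryTheory AlgebraicGeometry

namespace Groth.Agent.Lib.Helper22.ArtSub

/-- The residue field extension of a formally unramified morphism locally of finite type is
finite (same proof as `Helper16.ValCrit.finite_residueFieldMap`). -/
theorem finite_residueFieldMap_hom {X Y : Scheme.{u}} (f : X ⟶ Y) [FormallyUnramified f]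
    [LocallyOfFiniteType f] (x : X) : (f.residueFieldMap x).hom.Finite := by
  show @Module.Finite _ _ _ _ (f.residueFieldMap x).hom.toAlgebra.toModule
  algebraize [(f.stalkMap x).hom]
  have : IsLocalHom (algebraMap (Y.presheaf.stalk (f x)) (X.presheaf.stalk x)) :=
    inferInstanceAs <| IsLocalHom (f.stalkMap x).hom
  suffices h : Module.Finite
      (IsLocalRing.ResidueField (Y.presheaf.stalk (f x)))
      (IsLocalRing.ResidueField (X.presheaf.stalk x)) by
    convert! h
    refine Module.ext' _ _ fun r m => ?_
    obtain ⟨r, rfl⟩ := IsLocalRing.residue_surjective r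
    obtain ⟨m, rfl⟩ := IsLocalRing.residue_surjective m
    rfl
  have : Algebra.EssFiniteType (Y.presheaf.stalk (f x)) (X.presheaf.stalk x) := by
    rw [← RingHom.essFiniteType_algebraMap, RingHom.algebraMap_toAlgebra]
    exact LocallyOfFiniteType.stalkMap f x
  have : Algebra.FormallyUnramified (Y.presheaf.stalk (f x)) (X.presheaf.stalk x) := by
    rw [← RingHom.formallyUnramified_algebraMap, RingHom.algebraMap_toAlgebra]
    exact FormallyUnramified.stalkMap f x
  infer_instance

/-- `Spec C ⟶ Spec C'` is surjective for a local homomorphism from an Artinian local ring. -/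
theorem surjective_spec_of_artinian {C C' : Type u} [CommRing C] [CommRing C'] [IsLocalRing C]
    [IsLocalRing C'] [IsArtinianRing C'] (π : C' →+* C) [IsLocalHom π] :
    Surjective (Spec.map (CommRingCat.ofHom π)) := by
  refine ⟨fun x => ⟨IsLocalRing.closedPoint C, ?_⟩⟩
  haveI : IsLocalHom (CommRingCat.ofHom π).hom := ‹IsLocalHom π›
  have h1 : Spec.map (CommRingCat.ofHom π) (IsLocalRing.closedPoint C) =
      IsLocalRing.closedPoint C' :=
    Spec_closedPoint (R := CommRingCat.of C') (S := CommRingCat.of C) (f := CommRingCat.ofHom π)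
  rw [h1]
  apply PrimeSpectrum.ext
  have hmax : x.asIdeal.IsMaximal := IsArtinianRing.isMaximal_of_isPrime x.asIdeal
  exact (IsLocalRing.eq_maximalIdeal hmax).symm

theorem versal_etale {S T U : Scheme.{u}} (g : T ⟶ S) (e : U ⟶ T) [Etale e] (u : U)
    (hT : ∀ (C C' : Type u) [CommRing C] [CommRing C'] [IsLocalRing C] [IsLocalRing C'] [IsArtinianRing C]
        [IsArtinianRing C'] (π : C' →+* C), Function.Surjective π →
        ∀ (a : Spec (CommRingCat.of C) ⟶ T) (b : Spec (CommRingCat.of C') ⟶ S),
          a (IsLocalRing.closedPoint C) = e u →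
          Function.Surjective (a.residueFieldMap (IsLocalRing.closedPoint C)).hom →
          Spec.map (CommRingCat.ofHom π) ≫ b = a ≫ g →
          ∃ c : Spec (CommRingCat.of C') ⟶ T, Spec.map (CommRingCat.ofHom π) ≫ c = a ∧ c ≫ g = b) :
    ∀ (C C' : Type u) [CommRing C] [CommRing C'] [IsLocalRing C] [IsLocalRing C'] [IsArtinianRing C]
        [IsArtinianRing C'] (π : C' →+* C), Function.Surjective π →
        ∀ (a : Spec (CommRingCat.of C) ⟶ U) (b : Spec (CommRingCat.of C') ⟶ S),
          a (IsLocalRing.closedPoint C) = u →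
          Function.Surjective (a.residueFieldMap (IsLocalRing.closedPoint C)).hom →
          Spec.map (CommRingCat.ofHom π) ≫ b = a ≫ (e ≫ g) →
          ∃ c : Spec (CommRingCat.of C') ⟶ U, Spec.map (CommRingCat.ofHom π) ≫ c = a ∧ c ≫ (e ≫ g) = b := by
  intro C C' _ _ _ _ _ _ π hπ a b hau hsurj hcomm
  haveI : IsLocalHom π := IsLocalHom.of_surjective π hπ
  have hfin : ((a ≫ e).residueFieldMap (IsLocalRing.closedPoint C)).hom.Finite := by
    rw [Scheme.residueFieldMap_comp]
    show ((a.residueFieldMap (IsLocalRing.closedPoint C)).hom.comp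
      (e.residueFieldMap (a (IsLocalRing.closedPoint C))).hom).Finite
    exact RingHom.Finite.comp (RingHom.Finite.of_surjective _ hsurj)
      (finite_residueFieldMap_hom e (a (IsLocalRing.closedPoint C)))
  have hpt : (a ≫ e) (IsLocalRing.closedPoint C) = e u := by
    rw [Scheme.Hom.comp_apply, hau]
  obtain ⟨c', hc'1, hc'2⟩ := versal_finite g (e u) hT C C' π hπ (a ≫ e) b hpt hfin
    (by rw [Category.assoc]; exact hcomm)
  haveI : IsClosedImmersion (Spec.map (CommRingCat.ofHom π)) :=
    IsClosedImmersion.spec_of_surjective _ hπ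
  haveI : Surjective (Spec.map (CommRingCat.ofHom π)) := surjective_spec_of_artinian π
  obtain ⟨c, hc1, hc2⟩ := Groth.Agent.Lib.Helper15.ThickLift.exists_lift e c'
    (Spec.map (CommRingCat.ofHom π)) a hc'1.symm
  exact ⟨c, hc2, by rw [← Category.assoc, hc1, hc'2]⟩

end Groth.Agent.Lib.Helper22.ArtSub
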