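import Mathlib
import Groth.Agent.Lib.Helper22.ArtinFlat

/-!
# Flatness from exactness of the reduction, over an Artinian local ring (helper22)

* `flat_coker_and_exact`: `P → Q → R → M → 0` exact at `R`, `M`, with `Q`, `R` flat and the reduction
  `k ⊗ P → k ⊗ Q → k ⊗ R` exact: then `M` is flat and the complex is exact at `Q`.
* `flat_of_reduction_exact`: `I → P₀ → P₁` a complex with `P₀, P₁` flat, `k ⊗ I → k ⊗ P₀` injective and
  the reduction exact at `k ⊗ P₀`: then `I` is flat.
-/

set_option autoImplicit false
universe u v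

namespace Groth.Agent.Lib.Helper22.ArtinFlat

open TensorProduct IsLocalRing

variable {A : Type u} [CommRing A] [IsLocalRing A] [IsArtinianRing A]

theorem flat_coker_and_exact
    {P Q R M : Type v} [AddCommGroup P] [Module A P] [AddCommGroup Q] [Module A Q]
    [AddCommGroup R] [Module A R] [AddCommGroup M] [Module A M]
    [Module.Flat A Q] [Module.Flat A R]
    (f : P →ₗ[A] Q) (g : Q →ₗ[A] R) (h : R →ₗ[A] M)
    (hfg : g ∘ₗ f = 0) (hgh : Function.Exact g h) (hh : Function.Surjective h)
    (hred : Function.Exact (f.lTensor (ResidueField A)) (g.lTensor (ResidueField A))) :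
    Module.Flat A M ∧ Function.Exact f g ∧ Module.Flat A (LinearMap.range g) ∧
      Module.Flat A (LinearMap.ker g) := by
  classical
  let k := ResidueField A
  let Z : Submodule A R := LinearMap.range g
  let g' : Q →ₗ[A] Z := g.rangeRestrict
  have hg' : Function.Surjective g' := LinearMap.surjective_rangeRestrict g
  have hιg' : Z.subtype ∘ₗ g' = g := by ext q; rfl
  have hg'f : g' ∘ₗ f = 0 := by
    ext p
    have := LinearMap.congr_fun hfg p
    simpa [g'] using this
  have h1 : Function.Injective (Z.subtype.lTensor k) := by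
    rw [injective_iff_map_eq_zero]
    intro x hx
    obtain ⟨q, rfl⟩ := LinearMap.lTensor_surjective k hg' x
    have hq : (g.lTensor k) q = 0 := by
      rw [← hιg', LinearMap.lTensor_comp, LinearMap.comp_apply]; exact hx
    obtain ⟨p, rfl⟩ := (hred q).mp hq
    rw [← LinearMap.comp_apply, ← LinearMap.lTensor_comp, hg'f, LinearMap.lTensor_zero,
      LinearMap.zero_apply]
  have hexZ : Function.Exact Z.subtype h := by
    intro r
    rw [hgh r]
    constructor
    · rintro ⟨q, rfl⟩; exact ⟨⟨g q, ⟨q, rfl⟩⟩, rfl⟩
    · rintro ⟨⟨_, ⟨q, rfl⟩⟩, rfl⟩; exact ⟨q, rfl⟩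
  have hMflat : Module.Flat A M := by
    apply flat_of_exact_of_quotient_injective Z.subtype h hh hexZ
    intro I
    exact lTensor_injective_of_residue Z.subtype h1 (A ⧸ I)
  have hZflat : Module.Flat A Z :=
    flat_of_exact_of_flat_of_flat Z.subtype h Z.injective_subtype hh hexZ
  let W : Submodule A Q := LinearMap.ker g'
  have hexW : Function.Exact W.subtype g' := LinearMap.exact_subtype_ker_map g'
  have hWflat : Module.Flat A W :=
    flat_of_exact_of_flat_of_flat W.subtype g' W.injective_subtype hg' hexW
  have hWker : W = LinearMap.ker g := by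
    ext q
    rw [LinearMap.mem_ker, LinearMap.mem_ker]
    constructor
    · intro hq
      have := congrArg Subtype.val hq
      simpa [g'] using this
    · intro hq
      apply Subtype.ext
      simpa [g'] using hq
  refine ⟨hMflat, ?_, hZflat, hWker ▸ hWflat⟩
  have hWinj : Function.Injective (W.subtype.lTensor k) :=
    LinearMap.lTensor_injective_of_exact_of_flat g' hg' W.subtype W.injective_subtype hexW _
  have hfW : ∀ p, f p ∈ W := fun p => by
    rw [LinearMap.mem_ker]
    exact LinearMap.congr_fun hg'f p
  let f' : P →ₗ[A] W := f.codRestrict W hfW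
  have hjf' : W.subtype ∘ₗ f' = f := LinearMap.subtype_comp_codRestrict f W hfW
  have hgj : g ∘ₗ W.subtype = 0 := by
    ext w
    have hw : g' (w : Q) = 0 := w.2
    have h2 : (Z.subtype (g' (w : Q)) : R) = 0 := by rw [hw]; rfl
    exact h2
  have hsurj : Function.Surjective (f'.lTensor k) := by
    intro w
    have h0 : (g.lTensor k) ((W.subtype.lTensor k) w) = 0 := by
      rw [← LinearMap.comp_apply, ← LinearMap.lTensor_comp, hgj, LinearMap.lTensor_zero,
        LinearMap.zero_apply]
    obtain ⟨p, hp⟩ := (hred _).mp h0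
    refine ⟨p, ?_⟩
    apply hWinj
    rw [← LinearMap.comp_apply, ← LinearMap.lTensor_comp, hjf']
    exact hp
  have hf'surj : Function.Surjective f' := surjective_of_residue f' hsurj
  intro q
  constructor
  · intro hq
    have hqW : q ∈ W := by
      rw [LinearMap.mem_ker]
      apply Subtype.ext
      simpa [g'] using hq
    obtain ⟨p, hp⟩ := hf'surj ⟨q, hqW⟩
    exact ⟨p, by have := congrArg Subtype.val hp; simpa [f'] using this⟩
  · rintro ⟨p, rfl⟩
    exact LinearMap.congr_fun hfg p

/-- `I → P₀ → P₁` a complex with `P₀, P₁` flat, `k ⊗ I → k ⊗ P₀` injective and reduction exact at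
`k ⊗ P₀`: then `I` is flat. -/
theorem flat_of_reduction_exact
    {I P₀ P₁ : Type v} [AddCommGroup I] [Module A I] [AddCommGroup P₀] [Module A P₀]
    [AddCommGroup P₁] [Module A P₁] [Module.Flat A P₀] [Module.Flat A P₁]
    (a : I →ₗ[A] P₀) (b : P₀ →ₗ[A] P₁) (hab : b ∘ₗ a = 0)
    (hinj : Function.Injective (a.lTensor (ResidueField A)))
    (hred : Function.Exact (a.lTensor (ResidueField A)) (b.lTensor (ResidueField A))) :
    Module.Flat A I := by
  classical
  obtain ⟨-, hex, -, hYflat⟩ := flat_coker_and_exact a b (LinearMap.range b).mkQ hab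
    (by
      intro r
      rw [Submodule.mkQ_apply, Submodule.Quotient.mk_eq_zero]
      exact Iff.rfl)
    (Submodule.mkQ_surjective _) hred
  let Y : Submodule A P₀ := LinearMap.ker b
  haveI : Module.Flat A Y := hYflat
  have haY : ∀ x, a x ∈ Y := fun x => by
    rw [LinearMap.mem_ker]
    exact LinearMap.congr_fun hab x
  let a' : I →ₗ[A] Y := a.codRestrict Y haY
  have hja' : Y.subtype ∘ₗ a' = a := LinearMap.subtype_comp_codRestrict a Y haY
  have ha'surj : Function.Surjective a' := by
    rintro ⟨y, hy⟩
    obtain ⟨x, hx⟩ := (hex y).mp hy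
    exact ⟨x, Subtype.ext hx⟩
  have ha'kinj : Function.Injective (a'.lTensor (ResidueField A)) := by
    have : Function.Injective ((Y.subtype.lTensor (ResidueField A)) ∘ₗ (a'.lTensor (ResidueField A))) := by
      rw [← LinearMap.lTensor_comp, hja']
      exact hinj
    exact Function.Injective.of_comp this
  have ha'inj : Function.Injective a' := injective_of_residue a' ha'kinj
  exact Module.Flat.of_linearEquiv (LinearEquiv.ofBijective a' ⟨ha'inj, ha'surj⟩)

end Groth.Agent.Lib.Helper22.ArtinFlat
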