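import Mathlib
import Groth.Prelude.Def_CurvBase
import Groth.Agent.Lib.Helper12.ProductDim
import Groth.Agent.Lib.Helper6.FiberStalkIso
import Groth.Agent.Lib.Helper4.FlatRing

/-!
# Fibres of a field base change: `𝔪_x 𝒪_{X_K,y} = 𝔪_y` when dimensions agree and `κ(x) ⊗ K` is
reduced (helper22)
-/

set_option autoImplicit false
set_option linter.style.haveILetI false
set_option linter.unusedSectionVars false
universe u
open CategoryTheory CategoryTheory.Limits AlgebraicGeometry TensorProduct

namespace Groth.Agent.Lib.Helper22.BCFibreRed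

attribute [local instance] Curv2.resAlgebra

/-- The fibre of `X_K → X` over `x` is reduced when `κ(x) ⊗_k K` is. -/
theorem isReduced_fiber (k : Type u) [Field k] (X : Scheme.{u}) [X.Over (Spec (CommRingCat.of k))]
    (K : Type u) [Field K] [Algebra k K] (x : X)
    (hred : _root_.IsReduced (X.residueField x ⊗[k] K)) :
    IsReduced ((Curv2.bcFst k X K).fiber x) := by
  have h := (Groth.Agent.Lib.Helper12.ProductDim.isPullback_fiber k
    (X ↘ Spec (CommRingCat.of k)) (Spec.map (CommRingCat.ofHom (algebraMap k K))) x).flip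
  let e1 := h.isoPullback
  let e2 := pullbackSpecIso k (X.residueField x) K
  haveI : IsReduced (Spec (CommRingCat.of (X.residueField x ⊗[k] K))) := inferInstance
  exact isReduced_of_isOpenImmersion (e1.hom ≫ e2.hom)

open Groth.Agent.Lib.Helper6 in
/-- Abstract form: a flat morphism `π : W ⟶ X` of locally Noetherian schemes, a point `y` with
reduced fibre through `y` and `dim 𝒪_{X,π y} = dim 𝒪_{W,y}` satisfies `𝔪_x 𝒪_{W,y} = 𝔪_y`. -/
theorem map_maximalIdeal_eq {W X : Scheme.{u}} (π : W ⟶ X) [Flat π] [IsLocallyNoetherian W]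
    [IsLocallyNoetherian X] (y : W) [IsReduced (π.fiber (π.base y))]
    (hdim : ringKrullDim (X.presheaf.stalk (π.base y)) = ringKrullDim (W.presheaf.stalk y)) :
    Ideal.map (π.stalkMap y).hom (IsLocalRing.maximalIdeal (X.presheaf.stalk (π.base y))) =
      IsLocalRing.maximalIdeal (W.presheaf.stalk y) := by
  have hflat : (π.stalkMap y).hom.Flat := Flat.stalkMap π y
  letI : Algebra (X.presheaf.stalk (π.base y)) (W.presheaf.stalk y) :=
    (π.stalkMap y).hom.toAlgebra
  haveI : IsLocalHom (algebraMap (X.presheaf.stalk (π.base y)) (W.presheaf.stalk y)) :=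
    (inferInstance : IsLocalHom (π.stalkMap y).hom)
  haveI : Module.Flat (X.presheaf.stalk (π.base y)) (W.presheaf.stalk y) := hflat
  -- the fibre ring
  have hIdef : fiberIdeal π y = (IsLocalRing.maximalIdeal (X.presheaf.stalk (π.base y))).map
      (algebraMap (X.presheaf.stalk (π.base y)) (W.presheaf.stalk y)) := rfl
  have hd := Groth.Agent.Lib.Helper4.FlatRing.dim_eq_add_fibRing (X.presheaf.stalk (π.base y))
    (W.presheaf.stalk y)
  rw [← hIdef] at hd
  -- dimension zero
  have hF0 : ringKrullDim (W.presheaf.stalk y ⧸ fiberIdeal π y) = 0 := by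
    rw [← hdim] at hd
    have hfin : ringKrullDim (X.presheaf.stalk (π.base y)) ≠ ⊤ :=
      ringKrullDim_ne_top
    have hbot : ringKrullDim (X.presheaf.stalk (π.base y)) ≠ ⊥ := ringKrullDim_ne_bot
    obtain ⟨a, ha⟩ := WithBot.ne_bot_iff_exists.mp hbot
    have ha' : a ≠ ⊤ := by
      intro h
      apply hfin
      rw [← ha, h]
      rfl
    obtain ⟨n, rfl⟩ := ENat.ne_top_iff_exists.mp ha'
    have hFbot : ringKrullDim (W.presheaf.stalk y ⧸ fiberIdeal π y) ≠ ⊥ := ringKrullDim_ne_bot
    obtain ⟨b, hb⟩ := WithBot.ne_bot_iff_exists.mp hFbot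
    rw [← ha, ← hb] at hd
    rw [← hb]
    have hd' : ((n : ℕ∞) : WithBot ℕ∞) = (((n : ℕ∞) + b : ℕ∞) : WithBot ℕ∞) := by
      rw [WithBot.coe_add]; exact hd
    have hd'' : (n : ℕ∞) = (n : ℕ∞) + b := WithBot.coe_injective hd'
    have hb0 : b = 0 := by
      have h1 : (n : ℕ∞) + b ≤ (n : ℕ∞) + 0 := by rw [add_zero]; exact hd''.ge
      exact nonpos_iff_eq_zero.mp ((ENat.add_le_add_iff_left (ENat.natCast_ne_top n)).mp h1)
    rw [hb0]
    rfl
  -- reduced
  haveI hFred : _root_.IsReduced (W.presheaf.stalk y ⧸ fiberIdeal π y) := by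
    haveI : _root_.IsReduced ((π.fiber (π.base y)).presheaf.stalk (π.asFiber y)) := inferInstance
    exact isReduced_of_injective (fiberStalkEquiv π y).symm.toRingHom
      (fiberStalkEquiv π y).symm.injective
  haveI : Ring.KrullDimLE 0 (W.presheaf.stalk y ⧸ fiberIdeal π y) := by
    rw [Ring.krullDimLE_iff, hF0]
    rfl
  haveI : IsArtinianRing (W.presheaf.stalk y ⧸ fiberIdeal π y) :=
    isArtinianRing_iff_krullDimLE_zero.mpr inferInstance
  have hfield : IsField (W.presheaf.stalk y ⧸ fiberIdeal π y) :=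
    IsArtinianRing.isField_of_isReduced_of_isLocalRing _
  have hmax : (fiberIdeal π y).IsMaximal := Ideal.Quotient.maximal_of_isField _ hfield
  have := IsLocalRing.eq_maximalIdeal hmax
  exact this

end Groth.Agent.Lib.Helper22.BCFibreRed
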