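import Mathlib
import Groth.Agent.Lib.Helper12.IntegralDim

/-!
# Bertini via jets: the elimination step (helper22)

Linear-algebra/transcendence-degree core: the solutions `(φ, c)` of a family of `n + 1` affine
linear equations in `c ∈ k^m` with coefficients in an `n`-dimensional `k`-domain `R`, of full
rank at every `k`-point, project into a proper closed subset of `k^m`.
-/

set_option autoImplicit false
set_option linter.style.haveILetI false
set_option linter.unusedSectionVars false
universe u
open MvPolynomial Cardinal Algebra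

namespace Groth.Agent.Lib.Helper22.BertiniJet

/-- Noether normalization: for a finitely generated domain over a field the Krull dimension is
the (finite) transcendence degree. -/
theorem exists_trdeg_eq_ringKrullDim (k T : Type u) [Field k] [CommRing T] [IsDomain T]
    [Algebra k T] [Algebra.FiniteType k T] :
    ∃ s : ℕ, ringKrullDim T = s ∧ Algebra.trdeg k T = s := by
  obtain ⟨s, g, hinj, hint⟩ := exists_integral_inj_algHom_of_fg k T
  letI : Algebra (MvPolynomial (Fin s) k) T := g.toRingHom.toAlgebra
  haveI : IsScalarTower k (MvPolynomial (Fin s) k) T :=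
    IsScalarTower.of_algebraMap_eq (fun c => (g.commutes c).symm)
  haveI : Algebra.IsIntegral (MvPolynomial (Fin s) k) T := ⟨hint⟩
  have hinj' : Function.Injective (algebraMap (MvPolynomial (Fin s) k) T) := hinj
  haveI : FaithfulSMul (MvPolynomial (Fin s) k) T :=
    (faithfulSMul_iff_algebraMap_injective _ _).2 hinj'
  refine ⟨s, ?_, ?_⟩
  · refine le_antisymm ?_ ?_
    · have := Groth.Agent.Lib.Helper12.ringKrullDim_le_of_isIntegral
        (R := MvPolynomial (Fin s) k) (S := T)
      rwa [Groth.Agent.Lib.Helper12.ringKrullDim_mvPolynomial_field] at this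
    · have := Groth.Agent.Lib.Helper12.ringKrullDim_le_of_isIntegral_of_injective
        (R := MvPolynomial (Fin s) k) (S := T) hinj'
      rwa [Groth.Agent.Lib.Helper12.ringKrullDim_mvPolynomial_field] at this
  · have h1 := trdeg_add_eq k (MvPolynomial (Fin s) k) (A := T)
    rw [trdeg_eq_zero (R := MvPolynomial (Fin s) k) (A := T), add_zero,
      MvPolynomial.trdeg_of_isDomain] at h1
    rw [← h1]
    simp

/-- In a finitely generated domain over `k` of Krull dimension `< m`, any `m` elements are
algebraically dependent over `k`. -/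
theorem exists_ne_zero_aeval_eq_zero (k T : Type u) [Field k] [CommRing T] [IsDomain T]
    [Algebra k T] [Algebra.FiniteType k T] (m d : ℕ) (hd : ringKrullDim T = d) (hdm : d < m)
    (Φ : Fin m → T) : ∃ q : MvPolynomial (Fin m) k, q ≠ 0 ∧ aeval Φ q = 0 := by
  by_contra hne
  push Not at hne
  have hai : AlgebraicIndependent k Φ := by
    rw [AlgebraicIndependent, injective_iff_map_eq_zero]
    intro q hq
    by_contra h0
    exact hne q h0 hq
  obtain ⟨s, hs1, hs2⟩ := exists_trdeg_eq_ringKrullDim k T
  have hsd : s = d := by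
    rw [hd] at hs1
    exact_mod_cast hs1.symm
  have h1 := hai.lift_cardinalMk_le_trdeg
  rw [hs2] at h1
  simp only [mk_fintype, Fintype.card_fin, lift_natCast, Nat.cast_le] at h1
  omega

section Elim

variable {k : Type u} [Field k] {R : Type u} [CommRing R] [IsDomain R] [Algebra k R]
  [Algebra.FiniteType k R] {ρ : Type} [Fintype ρ] [DecidableEq ρ] {m : ℕ}

theorem exists_elim_aux {σ' : Type} [Fintype σ'] (eqv : ρ ⊕ σ' ≃ Fin m) (n : ℕ)
    (hρ : Fintype.card ρ = n + 1) (G : Matrix ρ (Fin m) R) (v : ρ → R)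
    (δ : R) (hδdef : δ = (Matrix.of fun i' j' => G i' (eqv (Sum.inl j'))).det)
    (hδ : δ ≠ 0) (hdim : ringKrullDim (Localization.Away δ) = n) :
    ∃ q : MvPolynomial (Fin m) k, q ≠ 0 ∧ ∀ φ : R →ₐ[k] k, φ δ ≠ 0 → ∀ c : Fin m → k,
      (∀ i', ∑ i, c i * φ (G i' i) + φ (v i') = 0) → eval c q = 0 := by
  classical
  set AS : Matrix ρ ρ R := Matrix.of fun i' j' => G i' (eqv (Sum.inl j')) with hAS
  haveI : IsDomain (Localization.Away δ) :=
    IsLocalization.isDomain_localization (powers_le_nonZeroDivisors_of_noZeroDivisors hδ)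
  haveI : Algebra.FiniteType R (Localization.Away δ) :=
    IsLocalization.finiteType_of_monoid_fg (Submonoid.powers δ) _
  haveI : Algebra.FiniteType k (Localization.Away δ) :=
    Algebra.FiniteType.trans (inferInstance : Algebra.FiniteType k R) inferInstance
  haveI : IsNoetherianRing (Localization.Away δ) := Algebra.FiniteType.isNoetherianRing k _
  haveI : Algebra.FiniteType k (MvPolynomial σ' (Localization.Away δ)) :=
    Algebra.FiniteType.trans (inferInstance : Algebra.FiniteType k (Localization.Away δ))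
      inferInstance
  have hcard : n + 1 + Fintype.card σ' = m := by
    have := Fintype.card_congr eqv
    rw [Fintype.card_sum, Fintype.card_fin, hρ] at this
    exact this
  have hdimT : ringKrullDim (MvPolynomial σ' (Localization.Away δ)) =
      ((n + Fintype.card σ' : ℕ) : WithBot ℕ∞) := by
    rw [MvPolynomial.ringKrullDim_of_isNoetherianRing, hdim, Nat.card_eq_fintype_card]
    push_cast
    rfl
  let ι' : R →+* Localization.Away δ := algebraMap R (Localization.Away δ)
  let invδ : Localization.Away δ := IsLocalization.Away.invSelf δ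
  let W : ρ → MvPolynomial σ' (Localization.Away δ) := fun i' =>
    ∑ t : σ', C (ι' (G i' (eqv (Sum.inr t)))) * X t + C (ι' (v i'))
  let formula : ρ → MvPolynomial σ' (Localization.Away δ) := fun j' =>
    -(C invδ * ∑ i', C (ι' (AS.adjugate j' i')) * W i')
  let Φ : Fin m → MvPolynomial σ' (Localization.Away δ) :=
    fun i => Sum.elim formula X (eqv.symm i)
  obtain ⟨q, hq0, hq⟩ := exists_ne_zero_aeval_eq_zero k (MvPolynomial σ' (Localization.Away δ)) m
    (n + Fintype.card σ') hdimT (by omega) Φ
  refine ⟨q, hq0, fun φ hφδ c hc => ?_⟩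
  have hu : IsUnit ((φ : R →+* k) δ) := IsUnit.mk0 _ hφδ
  let ψ : Localization.Away δ →+* k := IsLocalization.Away.lift δ hu
  have hψ : ∀ a, ψ (ι' a) = φ a := fun a => IsLocalization.Away.lift_eq δ hu a
  have hψinv : ψ invδ = (φ δ)⁻¹ := by
    have h1 : ι' δ * invδ = 1 := IsLocalization.Away.mul_invSelf δ
    have h2 := congrArg ψ h1
    rw [map_mul, map_one, hψ] at h2
    exact eq_inv_of_mul_eq_one_right h2
  let ev : MvPolynomial σ' (Localization.Away δ) →+* k :=
    eval₂Hom ψ (fun t => c (eqv (Sum.inr t)))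
  have hevC : ∀ a, ev (C a) = ψ a := fun a => by simp [ev]
  have hevX : ∀ t, ev (X t) = c (eqv (Sum.inr t)) := fun t => by simp [ev]
  have hsplit : ∀ i', ∑ j', c (eqv (Sum.inl j')) * φ (AS i' j') +
      (∑ t, c (eqv (Sum.inr t)) * φ (G i' (eqv (Sum.inr t))) + φ (v i')) = 0 := by
    intro i'
    rw [← hc i', ← add_assoc]
    congr 1
    rw [← Equiv.sum_comp eqv (fun i => c i * φ (G i' i)), Fintype.sum_sum_type]
    rfl
  have hevW : ∀ i', ev (W i') =
      ∑ t, c (eqv (Sum.inr t)) * φ (G i' (eqv (Sum.inr t))) + φ (v i') := by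
    intro i'
    simp only [W, map_add, map_sum, map_mul, hevC, hevX, hψ]
    congr 1
    exact Finset.sum_congr rfl fun t _ => mul_comm _ _
  let Ak : Matrix ρ ρ k := (φ : R →+* k).mapMatrix AS
  let cS : ρ → k := fun j' => c (eqv (Sum.inl j'))
  let b : ρ → k := fun i' =>
    ∑ t, c (eqv (Sum.inr t)) * φ (G i' (eqv (Sum.inr t))) + φ (v i')
  have hAkb : Ak.mulVec cS = -b := by
    funext i'
    have := hsplit i'
    rw [Pi.neg_apply, eq_neg_iff_add_eq_zero]
    rw [← this]
    congr 1
    simp only [Matrix.mulVec, dotProduct]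
    exact Finset.sum_congr rfl fun j' _ => mul_comm _ _
  have hdet : Ak.det = φ δ := by
    rw [hδdef]
    exact (RingHom.map_det _ _).symm
  have hadj : Ak.adjugate.mulVec b = -(φ δ • cS) := by
    have h1 : Ak.adjugate.mulVec (Ak.mulVec cS) = Ak.det • cS := by
      rw [Matrix.mulVec_mulVec, Matrix.adjugate_mul, Matrix.smul_mulVec, Matrix.one_mulVec]
    rw [hAkb, Matrix.mulVec_neg, hdet] at h1
    rw [← h1, neg_neg]
  have hevΦ : ∀ i, ev (Φ i) = c i := by
    intro i
    obtain ⟨z, rfl⟩ := eqv.surjective i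
    simp only [Φ, Equiv.symm_apply_apply]
    rcases z with j' | t
    · simp only [Sum.elim_inl, formula, map_neg, map_mul, map_sum, hevC, hψinv, hevW, hψ]
      have h2 := congrFun hadj j'
      simp only [Matrix.mulVec, dotProduct, Pi.neg_apply, Pi.smul_apply, smul_eq_mul] at h2
      have h3 : ∀ i', φ (AS.adjugate j' i') = Ak.adjugate j' i' := by
        intro i'
        exact congrFun (congrFun (RingHom.map_adjugate (φ : R →+* k) AS) j') i'
      simp only [h3]
      rw [h2]
      field_simp
      rfl
    · simp only [Sum.elim_inr, hevX]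
  have hcomp : ev.comp (algebraMap k (MvPolynomial σ' (Localization.Away δ))) = RingHom.id k := by
    ext x
    rw [RingHom.comp_apply, MvPolynomial.algebraMap_apply, hevC,
      IsScalarTower.algebraMap_apply k R (Localization.Away δ)]
    rw [show algebraMap R (Localization.Away δ) (algebraMap k R x) = ι' (algebraMap k R x) from rfl,
      hψ, AlgHom.commutes]
    rfl
  have h4 : ev (aeval Φ q) = eval c q := by
    rw [aeval_def, hom_eval₂, hcomp, eval₂_id, show (fun i => ev (Φ i)) = c from funext hevΦ]
  rw [← h4, hq, map_zero]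

end Elim

section Elim2

variable {k : Type u} [Field k] {R : Type u} [CommRing R] [IsDomain R] [Algebra k R]
  [Algebra.FiniteType k R] {ρ : Type} [Fintype ρ] [DecidableEq ρ] {m : ℕ}

/-- The elimination step: if the `n + 1` affine-linear equations `∑ c i * G i' i + v i' = 0`
have full rank at the `k`-point `φ₀` of the `n`-dimensional domain `R`, then near `φ₀` their
solutions `(φ, c)` project into a proper closed subset of `k^m`. -/
theorem exists_elim (n : ℕ) (hρ : Fintype.card ρ = n + 1)
    (hdim : ∀ δ : R, δ ≠ 0 → ringKrullDim (Localization.Away δ) = n)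
    (G : Matrix ρ (Fin m) R) (v : ρ → R) (φ₀ : R →ₐ[k] k)
    (hsurj : ∀ w : ρ → k, ∃ c : Fin m → k, ∀ i', ∑ i, c i * φ₀ (G i' i) = w i') :
    ∃ δ : R, φ₀ δ ≠ 0 ∧ ∃ q : MvPolynomial (Fin m) k, q ≠ 0 ∧
      ∀ φ : R →ₐ[k] k, φ δ ≠ 0 → ∀ c : Fin m → k,
        (∀ i', ∑ i, c i * φ (G i' i) + φ (v i') = 0) → eval c q = 0 := by
  classical
  let col : Fin m → (ρ → k) := fun i i' => φ₀ (G i' i)
  have hspan : Submodule.span k (Set.range col) = ⊤ := by
    rw [_root_.eq_top_iff]
    intro w _
    obtain ⟨c, hc⟩ := hsurj w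
    have : w = ∑ i, c i • col i := by
      funext i'
      rw [Finset.sum_apply]
      simp only [Pi.smul_apply, smul_eq_mul, col]
      exact (hc i').symm
    rw [this]
    exact Submodule.sum_mem _ fun i _ => Submodule.smul_mem _ _ (Submodule.subset_span ⟨i, rfl⟩)
  obtain ⟨κ, a, ha, hsp, hli⟩ := exists_linearIndependent' k col
  rw [hspan] at hsp
  let bas : Module.Basis κ k (ρ → k) := Module.Basis.mk hli (by rw [hsp])
  haveI : Finite κ := Finite.of_injective a ha
  haveI : Fintype κ := Fintype.ofFinite κ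
  have hcardκ : Fintype.card κ = Fintype.card ρ := by
    have := Module.finrank_eq_card_basis bas
    rw [Module.finrank_fintype_fun_eq_card] at this
    exact this.symm
  let e₀ : ρ ≃ κ := Fintype.equivOfCardEq hcardκ.symm
  let e : ρ → Fin m := a ∘ e₀
  have he : Function.Injective e := ha.comp e₀.injective
  have hli' : LinearIndependent k (col ∘ e) := hli.comp e₀ e₀.injective
  let eqv : ρ ⊕ ↥(Set.range e)ᶜ ≃ Fin m :=
    (Equiv.sumCongr (Equiv.ofInjective e he) (Equiv.refl _)).trans
      (Equiv.Set.sumCompl (Set.range e))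
  have heqv : ∀ j', eqv (Sum.inl j') = e j' := fun j' => rfl
  set δ := (Matrix.of fun i' j' => G i' (eqv (Sum.inl j'))).det with hδdef
  have hφδ : φ₀ δ ≠ 0 := by
    have h1 : φ₀ δ = ((φ₀ : R →+* k).mapMatrix
        (Matrix.of fun i' j' => G i' (eqv (Sum.inl j')))).det := RingHom.map_det _ _
    rw [h1]
    have h2 : LinearIndependent k ((φ₀ : R →+* k).mapMatrix
        (Matrix.of fun i' j' => G i' (eqv (Sum.inl j')))).col := by
      convert hli' using 1
      funext j' i'
      rfl
    rw [Matrix.linearIndependent_cols_iff_isUnit, Matrix.isUnit_iff_isUnit_det] at h2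
    exact h2.ne_zero
  have hδ0 : δ ≠ 0 := fun h => hφδ (by rw [h, map_zero])
  obtain ⟨q, hq0, hq⟩ := exists_elim_aux (k := k) eqv n hρ G v δ hδdef hδ0 (hdim δ hδ0)
  exact ⟨δ, hφδ, q, hq0, hq⟩

end Elim2

end Groth.Agent.Lib.Helper22.BertiniJet
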