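import Mathlib
import Groth.Agent.Lib.Helper22.BertiniJetA

/-!
# Bertini: the elimination step over an arbitrary field (helper22)

Generalisation of `BertiniJet.exists_elim` in which the test points take values in arbitrary field
extensions `L` of `k` (so that all primes, not only rational points, are seen), and the resulting
ideal-theoretic statement `gen_elim`.
-/

set_option autoImplicit false
set_option linter.style.haveILetI false
set_option linter.unusedSectionVars false
universe u
open MvPolynomial Cardinal Algebra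

namespace Groth.Agent.Lib.Helper22.BertiniGen

open Groth.Agent.Lib.Helper22.BertiniJet

section Elim

variable {k : Type u} [Field k] {R : Type u} [CommRing R] [IsDomain R] [Algebra k R]
  [Algebra.FiniteType k R] {ρ : Type} [Fintype ρ] [DecidableEq ρ] {m : ℕ}

theorem exists_elim_aux' {σ' : Type} [Fintype σ'] (eqv : ρ ⊕ σ' ≃ Fin m) (n : ℕ)
    (hρ : Fintype.card ρ = n + 1) (G : Matrix ρ (Fin m) R) (v : ρ → R)
    (δ : R) (hδdef : δ = (Matrix.of fun i' j' => G i' (eqv (Sum.inl j'))).det)
    (hδ : δ ≠ 0) (hdim : ringKrullDim (Localization.Away δ) = n) :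
    ∃ q : MvPolynomial (Fin m) k, q ≠ 0 ∧ ∀ (L : Type u) [Field L] [Algebra k L]
      (φ : R →ₐ[k] L), φ δ ≠ 0 → ∀ c : Fin m → L,
      (∀ i', ∑ i, c i * φ (G i' i) + φ (v i') = 0) → aeval c q = 0 := by
  classical
  set AS : Matrix ρ ρ R := Matrix.of fun i' j' => G i' (eqv (Sum.inl j')) with hAS
  haveI : IsDomain (Localization.Away δ) :=
    IsLocalization.isDomain_localization (powers_le_nonZeroDivisors_of_noZeroDivisors hδ)
  haveI : Algebra.FiniteType R (Localization.Away δ) :=
    IsLocalization.finiteType_of_monoid_fg (Submonoid.powers δ) _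
  haveI : Algebra.FiniteType k (Localization.Away δ) :=
    Algebra.FiniteType.trans (inferInstance : Algebra.FiniteType k R) inferInstance
  haveI : IsNoetherianRing (Localization.Away δ) := Algebra.FiniteType.isNoetherianRing k _
  haveI : Algebra.FiniteType k (MvPolynomial σ' (Localization.Away δ)) :=
    Algebra.FiniteType.trans (inferInstance : Algebra.FiniteType k (Localization.Away δ))
      inferInstance
  have hcard : n + 1 + Fintype.card σ' = m := by
    have := Fintype.card_congr eqv
    rw [Fintype.card_sum, Fintype.card_fin, hρ] at this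
    exact this
  have hdimT : ringKrullDim (MvPolynomial σ' (Localization.Away δ)) =
      ((n + Fintype.card σ' : ℕ) : WithBot ℕ∞) := by
    rw [MvPolynomial.ringKrullDim_of_isNoetherianRing, hdim, Nat.card_eq_fintype_card]
    push_cast
    rfl
  let ι' : R →+* Localization.Away δ := algebraMap R (Localization.Away δ)
  let invδ : Localization.Away δ := IsLocalization.Away.invSelf δ
  let W : ρ → MvPolynomial σ' (Localization.Away δ) := fun i' =>
    ∑ t : σ', C (ι' (G i' (eqv (Sum.inr t)))) * X t + C (ι' (v i'))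
  let formula : ρ → MvPolynomial σ' (Localization.Away δ) := fun j' =>
    -(C invδ * ∑ i', C (ι' (AS.adjugate j' i')) * W i')
  let Φ : Fin m → MvPolynomial σ' (Localization.Away δ) :=
    fun i => Sum.elim formula X (eqv.symm i)
  obtain ⟨q, hq0, hq⟩ := exists_ne_zero_aeval_eq_zero k (MvPolynomial σ' (Localization.Away δ)) m
    (n + Fintype.card σ') hdimT (by omega) Φ
  refine ⟨q, hq0, fun L _ _ φ hφδ c hc => ?_⟩
  have hu : IsUnit ((φ : R →+* L) δ) := IsUnit.mk0 _ hφδ
  let ψ : Localization.Away δ →+* L := IsLocalization.Away.lift δ hu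
  have hψ : ∀ a, ψ (ι' a) = φ a := fun a => IsLocalization.Away.lift_eq δ hu a
  have hψinv : ψ invδ = (φ δ)⁻¹ := by
    have h1 : ι' δ * invδ = 1 := IsLocalization.Away.mul_invSelf δ
    have h2 := congrArg ψ h1
    rw [map_mul, map_one, hψ] at h2
    exact eq_inv_of_mul_eq_one_right h2
  let ev : MvPolynomial σ' (Localization.Away δ) →+* L :=
    eval₂Hom ψ (fun t => c (eqv (Sum.inr t)))
  have hevC : ∀ a, ev (C a) = ψ a := fun a => by simp [ev]
  have hevX : ∀ t, ev (X t) = c (eqv (Sum.inr t)) := fun t => by simp [ev]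
  have hsplit : ∀ i', ∑ j', c (eqv (Sum.inl j')) * φ (AS i' j') +
      (∑ t, c (eqv (Sum.inr t)) * φ (G i' (eqv (Sum.inr t))) + φ (v i')) = 0 := by
    intro i'
    rw [← hc i', ← add_assoc]
    congr 1
    rw [← Equiv.sum_comp eqv (fun i => c i * φ (G i' i)), Fintype.sum_sum_type]
    rfl
  have hevW : ∀ i', ev (W i') =
      ∑ t, c (eqv (Sum.inr t)) * φ (G i' (eqv (Sum.inr t))) + φ (v i') := by
    intro i'
    simp only [W, map_add, map_sum, map_mul, hevC, hevX, hψ]
    congr 1
    exact Finset.sum_congr rfl fun t _ => mul_comm _ _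
  let Ak : Matrix ρ ρ L := (φ : R →+* L).mapMatrix AS
  let cS : ρ → L := fun j' => c (eqv (Sum.inl j'))
  let b : ρ → L := fun i' =>
    ∑ t, c (eqv (Sum.inr t)) * φ (G i' (eqv (Sum.inr t))) + φ (v i')
  have hAkb : Ak.mulVec cS = -b := by
    funext i'
    have := hsplit i'
    rw [Pi.neg_apply, eq_neg_iff_add_eq_zero]
    rw [← this]
    congr 1
    simp only [Matrix.mulVec, dotProduct]
    exact Finset.sum_congr rfl fun j' _ => mul_comm _ _
  have hdet : Ak.det = φ δ := by
    rw [hδdef]
    exact (RingHom.map_det _ _).symm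
  have hadj : Ak.adjugate.mulVec b = -(φ δ • cS) := by
    have h1 : Ak.adjugate.mulVec (Ak.mulVec cS) = Ak.det • cS := by
      rw [Matrix.mulVec_mulVec, Matrix.adjugate_mul, Matrix.smul_mulVec, Matrix.one_mulVec]
    rw [hAkb, Matrix.mulVec_neg, hdet] at h1
    rw [← h1, neg_neg]
  have hevΦ : ∀ i, ev (Φ i) = c i := by
    intro i
    obtain ⟨z, rfl⟩ := eqv.surjective i
    simp only [Φ, Equiv.symm_apply_apply]
    rcases z with j' | t
    · simp only [Sum.elim_inl, formula, map_neg, map_mul, map_sum, hevC, hψinv, hevW, hψ]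
      have h2 := congrFun hadj j'
      simp only [Matrix.mulVec, dotProduct, Pi.neg_apply, Pi.smul_apply, smul_eq_mul] at h2
      have h3 : ∀ i', φ (AS.adjugate j' i') = Ak.adjugate j' i' := by
        intro i'
        exact congrFun (congrFun (RingHom.map_adjugate (φ : R →+* L) AS) j') i'
      simp only [h3]
      rw [h2]
      field_simp
      rfl
    · simp only [Sum.elim_inr, hevX]
  have hcomp : ev.comp (algebraMap k (MvPolynomial σ' (Localization.Away δ))) =
      algebraMap k L := by
    ext x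
    rw [RingHom.comp_apply, MvPolynomial.algebraMap_apply, hevC,
      IsScalarTower.algebraMap_apply k R (Localization.Away δ)]
    rw [show algebraMap R (Localization.Away δ) (algebraMap k R x) = ι' (algebraMap k R x) from rfl,
      hψ, AlgHom.commutes]
  have h4 : ev (aeval Φ q) = aeval c q := by
    rw [aeval_def, hom_eval₂, hcomp, show (fun i => ev (Φ i)) = c from funext hevΦ]
    exact (aeval_def _ _).symm
  rw [← h4, hq, map_zero]

theorem exists_elim' (n : ℕ) (hρ : Fintype.card ρ = n + 1)
    (hdim : ∀ δ : R, δ ≠ 0 → ringKrullDim (Localization.Away δ) = n)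
    (G : Matrix ρ (Fin m) R) (v : ρ → R) (L₀ : Type u) [Field L₀] [Algebra k L₀]
    (φ₀ : R →ₐ[k] L₀)
    (hsurj : ∀ w : ρ → L₀, ∃ c : Fin m → L₀, ∀ i', ∑ i, c i * φ₀ (G i' i) = w i') :
    ∃ δ : R, φ₀ δ ≠ 0 ∧ ∃ q : MvPolynomial (Fin m) k, q ≠ 0 ∧
      ∀ (L : Type u) [Field L] [Algebra k L] (φ : R →ₐ[k] L), φ δ ≠ 0 → ∀ c : Fin m → L,
        (∀ i', ∑ i, c i * φ (G i' i) + φ (v i') = 0) → aeval c q = 0 := by
  classical
  let col : Fin m → (ρ → L₀) := fun i i' => φ₀ (G i' i)
  have hspan : Submodule.span L₀ (Set.range col) = ⊤ := by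
    rw [_root_.eq_top_iff]
    intro w _
    obtain ⟨c, hc⟩ := hsurj w
    have : w = ∑ i, c i • col i := by
      funext i'
      rw [Finset.sum_apply]
      simp only [Pi.smul_apply, smul_eq_mul, col]
      exact (hc i').symm
    rw [this]
    exact Submodule.sum_mem _ fun i _ => Submodule.smul_mem _ _ (Submodule.subset_span ⟨i, rfl⟩)
  obtain ⟨κ, a, ha, hsp, hli⟩ := exists_linearIndependent' L₀ col
  rw [hspan] at hsp
  let bas : Module.Basis κ L₀ (ρ → L₀) := Module.Basis.mk hli (by rw [hsp])
  haveI : Finite κ := Finite.of_injective a ha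
  haveI : Fintype κ := Fintype.ofFinite κ
  have hcardκ : Fintype.card κ = Fintype.card ρ := by
    have := Module.finrank_eq_card_basis bas
    rw [Module.finrank_fintype_fun_eq_card] at this
    exact this.symm
  let e₀ : ρ ≃ κ := Fintype.equivOfCardEq hcardκ.symm
  let e : ρ → Fin m := a ∘ e₀
  have he : Function.Injective e := ha.comp e₀.injective
  have hli' : LinearIndependent L₀ (col ∘ e) := hli.comp e₀ e₀.injective
  let eqv : ρ ⊕ ↥(Set.range e)ᶜ ≃ Fin m :=
    (Equiv.sumCongr (Equiv.ofInjective e he) (Equiv.refl _)).trans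
      (Equiv.Set.sumCompl (Set.range e))
  have heqv : ∀ j', eqv (Sum.inl j') = e j' := fun j' => rfl
  set δ := (Matrix.of fun i' j' => G i' (eqv (Sum.inl j'))).det with hδdef
  have hφδ : φ₀ δ ≠ 0 := by
    have h1 : φ₀ δ = ((φ₀ : R →+* L₀).mapMatrix
        (Matrix.of fun i' j' => G i' (eqv (Sum.inl j')))).det := RingHom.map_det _ _
    rw [h1]
    have h2 : LinearIndependent L₀ ((φ₀ : R →+* L₀).mapMatrix
        (Matrix.of fun i' j' => G i' (eqv (Sum.inl j')))).col := by
      convert hli' using 1
      funext j' i'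
      rfl
    rw [Matrix.linearIndependent_cols_iff_isUnit, Matrix.isUnit_iff_isUnit_det] at h2
    exact h2.ne_zero
  have hδ0 : δ ≠ 0 := fun h => hφδ (by rw [h, map_zero])
  obtain ⟨q, hq0, hq⟩ := exists_elim_aux' (k := k) eqv n hρ G v δ hδdef hδ0 (hdim δ hδ0)
  exact ⟨δ, hφδ, q, hq0, hq⟩

/-- Ideal-theoretic elimination: if the `(n+1) × m` matrix `G` over the `n`-dimensional domain `R`
has a right inverse, then for a generic `a ∈ k^m` the `n + 1` elements
`∑ a i * G i' i + v i'` generate the unit ideal of `R`. -/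
theorem gen_elim (n : ℕ) (hρ : Fintype.card ρ = n + 1)
    (hdim : ∀ δ : R, δ ≠ 0 → ringKrullDim (Localization.Away δ) = n)
    (G : Matrix ρ (Fin m) R) (v : ρ → R) (H : Matrix (Fin m) ρ R) (hGH : G * H = 1) :
    ∃ q : MvPolynomial (Fin m) k, q ≠ 0 ∧ ∀ a : Fin m → k, eval a q ≠ 0 →
      Ideal.span (Set.range fun i' => ∑ i, algebraMap k R (a i) * G i' i + v i') = ⊤ := by
  classical
  have hpt : ∀ P : Ideal R, P.IsMaximal → ∃ δ : R, δ ∉ P ∧ ∃ q : MvPolynomial (Fin m) k,
      q ≠ 0 ∧ ∀ (L : Type u) [Field L] [Algebra k L] (φ : R →ₐ[k] L), φ δ ≠ 0 →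
        ∀ c : Fin m → L, (∀ i', ∑ i, c i * φ (G i' i) + φ (v i') = 0) → aeval c q = 0 := by
    intro P hP
    haveI := hP
    letI : Field (R ⧸ P) := Ideal.Quotient.field P
    obtain ⟨δ, hδ, q, hq0, hq⟩ := exists_elim' n hρ hdim G v (R ⧸ P)
      (Ideal.Quotient.mkₐ k P) (by
        intro w
        refine ⟨fun i => ∑ j', Ideal.Quotient.mk P (H i j') * w j', fun i' => ?_⟩
        have h1 : ∀ j', ∑ i, Ideal.Quotient.mk P (G i' i) * Ideal.Quotient.mk P (H i j') =
            if i' = j' then 1 else 0 := by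
          intro j'
          have h2 : (G * H) i' j' = (1 : Matrix ρ ρ R) i' j' := by rw [hGH]
          rw [Matrix.mul_apply, Matrix.one_apply] at h2
          have h3 := congrArg (Ideal.Quotient.mk P) h2
          rw [map_sum] at h3
          simp only [map_mul] at h3
          rw [h3]
          split_ifs <;> simp
        calc ∑ i, (∑ j', Ideal.Quotient.mk P (H i j') * w j') * (Ideal.Quotient.mkₐ k P) (G i' i)
            = ∑ i, ∑ j', (Ideal.Quotient.mk P (G i' i) * Ideal.Quotient.mk P (H i j')) * w j' := by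
              apply Finset.sum_congr rfl
              intro i _
              rw [Finset.sum_mul]
              apply Finset.sum_congr rfl
              intro j' _
              show _ * Ideal.Quotient.mk P (G i' i) = _
              ring
          _ = ∑ j', (∑ i, Ideal.Quotient.mk P (G i' i) * Ideal.Quotient.mk P (H i j')) * w j' := by
              rw [Finset.sum_comm]
              apply Finset.sum_congr rfl
              intro j' _
              rw [Finset.sum_mul]
          _ = w i' := by
              simp only [h1]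
              simp)
    exact ⟨δ, fun hmem => hδ (Ideal.Quotient.eq_zero_iff_mem.mpr hmem), q, hq0, hq⟩
  choose δ hδ q hq0 hq using hpt
  let T := {P : Ideal R // P.IsMaximal}
  have htop : Ideal.span (Set.range fun t : T => δ t.1 t.2) = ⊤ := by
    by_contra hne
    obtain ⟨M, hM, hle⟩ := Ideal.exists_le_maximal _ hne
    exact hδ M hM (hle (Ideal.subset_span ⟨⟨M, hM⟩, rfl⟩))
  obtain ⟨s', hs'sub, hs'top⟩ := (Ideal.span_eq_top_iff_finite _).mp htop
  have hch : ∀ d : s', ∃ t : T, δ t.1 t.2 = d.1 := fun d => hs'sub d.2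
  choose ts hts using hch
  refine ⟨∏ d : s', q (ts d).1 (ts d).2, Finset.prod_ne_zero_iff.mpr (fun d _ => hq0 _ _),
    fun a ha => ?_⟩
  rw [map_prod] at ha
  have ha' : ∀ d : s', eval a (q (ts d).1 (ts d).2) ≠ 0 :=
    fun d => Finset.prod_ne_zero_iff.mp ha d (Finset.mem_univ d)
  by_contra hne
  obtain ⟨M, hM, hle⟩ := Ideal.exists_le_maximal _ hne
  have hex : ∃ d : s', d.1 ∉ M := by
    by_contra hall
    push Not at hall
    have : Ideal.span (s' : Set R) ≤ M :=
      Ideal.span_le.mpr (fun d hd => hall ⟨d, hd⟩)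
    rw [hs'top] at this
    exact hM.ne_top (top_le_iff.mp this)
  obtain ⟨d, hd⟩ := hex
  haveI := hM
  letI : Field (R ⧸ M) := Ideal.Quotient.field M
  have h0 := hq (ts d).1 (ts d).2 (R ⧸ M) (Ideal.Quotient.mkₐ k M)
    (by
      rw [hts d]
      intro h0
      exact hd (Ideal.Quotient.eq_zero_iff_mem.mp h0))
    (fun i => algebraMap k (R ⧸ M) (a i))
    (fun i' => by
      have hmem : ∑ i, algebraMap k R (a i) * G i' i + v i' ∈ M :=
        hle (Ideal.subset_span ⟨i', rfl⟩)
      have h1 := Ideal.Quotient.eq_zero_iff_mem.mpr hmem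
      rw [map_add, map_sum] at h1
      simp only [map_mul] at h1
      exact h1)
  apply ha' d
  have h2 : aeval (fun i => algebraMap k (R ⧸ M) (a i)) (q (ts d).1 (ts d).2) =
      algebraMap k (R ⧸ M) (eval a (q (ts d).1 (ts d).2)) := by
    have := MvPolynomial.aeval_algebraMap_apply (B := R ⧸ M) a (q (ts d).1 (ts d).2)
    exact this.trans (congrArg _ rfl)
  rw [h2] at h0
  exact (map_eq_zero_iff _ (algebraMap k (R ⧸ M)).injective).mp h0

end Elim

end Groth.Agent.Lib.Helper22.BertiniGen
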