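import Mathlib
import Groth.Agent.Lib.Helper22.BertiniJetA
import Groth.Agent.Lib.Helper22.SmoothDim

/-!
# Bertini via jets: the chart algebra (helper22)

For a domain `R` étale over `k[x_1, …, x_n]` (`k` algebraically closed), `a_1, …, a_m, f ∈ R`
such that the `a_i` generate all `1`-jets at every maximal ideal, the quotient
`R / (f + Σ c_i a_i)` is smooth over `k` for `c` outside the zero set of a nonzero polynomial.
-/

set_option autoImplicit false
set_option linter.style.haveILetI false
set_option linter.unusedSectionVars false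
universe u
open MvPolynomial TensorProduct

namespace Groth.Agent.Lib.Helper22.BertiniJet

/-- A maximal ideal of a finitely generated algebra over an algebraically closed field is the
kernel of a `k`-point. -/
theorem exists_algHom_of_isMaximal (k : Type u) [Field k] [IsAlgClosed k] (A : Type u)
    [CommRing A] [Algebra k A] [Algebra.FiniteType k A] (M : Ideal A) [hM : M.IsMaximal] :
    ∃ φ : A →ₐ[k] k, RingHom.ker (φ : A →+* k) = M := by
  letI : Field (A ⧸ M) := Ideal.Quotient.field M
  haveI : Algebra.FiniteType k (A ⧸ M) :=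
    Algebra.FiniteType.of_surjective (Ideal.Quotient.mkₐ k M) (Ideal.Quotient.mkₐ_surjective k M)
  haveI : Module.Finite k (A ⧸ M) := finite_of_finite_type_of_isJacobsonRing k (A ⧸ M)
  haveI : Algebra.IsIntegral k (A ⧸ M) := inferInstance
  have hbij : Function.Bijective (algebraMap k (A ⧸ M)) :=
    IsAlgClosed.algebraMap_bijective_of_isIntegral
  let e : k ≃ₐ[k] (A ⧸ M) := AlgEquiv.ofBijective (Algebra.ofId k (A ⧸ M)) hbij
  refine ⟨(e.symm : (A ⧸ M) →ₐ[k] k).comp (Ideal.Quotient.mkₐ k M), ?_⟩
  ext x
  rw [RingHom.mem_ker]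
  show e.symm (Ideal.Quotient.mk M x) = 0 ↔ _
  rw [map_eq_zero_iff _ e.symm.injective, Ideal.Quotient.eq_zero_iff_mem]

/-- A derivation followed by a `k`-point kills the square of the ideal of the point. -/
theorem algHom_derivation_eq_zero_of_mem_sq {k R : Type*} [Field k] [CommRing R] [Algebra k R]
    (φ : R →ₐ[k] k) (D : Derivation k R R) (u : R)
    (hu : u ∈ (RingHom.ker (φ : R →+* k)) ^ 2) : φ (D u) = 0 := by
  rw [pow_two] at hu
  refine Submodule.mul_induction_on hu ?_ ?_
  · intro x hx y hy
    have hx' : φ x = 0 := hx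
    have hy' : φ y = 0 := hy
    rw [Derivation.leibniz, map_add, smul_eq_mul, smul_eq_mul, map_mul, map_mul, hx', hy']
    ring
  · intro x y hx hy
    rw [map_add, map_add, hx, hy, add_zero]

/-- **Jacobian criterion**, global functional form: if `1` is a combination of `h` and of
derivatives of `h`, then `R ⧸ (h)` is formally smooth. -/
theorem formallySmooth_quotient_of_combination (k R : Type u) [Field k] [CommRing R] [Algebra k R]
    [Algebra.FormallySmooth k R] {ι : Type} [Fintype ι] (D : ι → Derivation k R R) (h r₀ : R)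
    (r : ι → R) (hr : r₀ * h + ∑ j, r j * D j h = 1) :
    Algebra.FormallySmooth k (R ⧸ Ideal.span {h}) := by
  classical
  have hsurj : Function.Surjective (algebraMap R (R ⧸ Ideal.span {h})) :=
    Ideal.Quotient.mk_surjective
  let P : Algebra.Extension k (R ⧸ Ideal.span {h}) :=
    { Ring := R, σ := _, algebraMap_σ := Function.surjInv_eq hsurj }
  haveI : Algebra.FormallySmooth k P.Ring := ‹Algebra.FormallySmooth k R›
  rw [P.formallySmooth_iff_split_injection]
  have hker : P.ker = Ideal.span {h} := Ideal.mk_ker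
  have hh : h ∈ P.ker := by rw [hker]; exact Ideal.mem_span_singleton_self h
  let lam : Ω[R⁄k] →ₗ[R] R := ∑ j, r j • (D j).liftKaehlerDifferential
  have hlam : ∀ u, lam (KaehlerDifferential.D k R u) = ∑ j, r j * D j u := by
    intro u
    simp only [lam, LinearMap.sum_apply, LinearMap.smul_apply, smul_eq_mul,
      Derivation.liftKaehlerDifferential_comp_D]
  let gen : P.Cotangent := Algebra.Extension.Cotangent.mk ⟨h, hh⟩
  let l : P.CotangentSpace →ₗ[R ⧸ Ideal.span {h}] P.Cotangent :=
    (LinearMap.toSpanSingleton (R ⧸ Ideal.span {h}) P.Cotangent gen) ∘ₗ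
      (AlgebraTensorModule.rid R (R ⧸ Ideal.span {h}) (R ⧸ Ideal.span {h})).toLinearMap ∘ₗ
      (lam.baseChange (R ⧸ Ideal.span {h}))
  have key : ∀ ω : Ω[R⁄k], l ((1 : R ⧸ Ideal.span {h}) ⊗ₜ[R] ω) = (lam ω) • gen := by
    intro ω
    simp only [l, LinearMap.comp_apply, LinearMap.baseChange_tmul, LinearEquiv.coe_coe,
      AlgebraTensorModule.rid_tmul, LinearMap.toSpanSingleton_apply]
    rw [smul_assoc, one_smul]
  refine ⟨l, LinearMap.ext fun x => ?_⟩
  obtain ⟨⟨y, hy⟩, rfl⟩ := Algebra.Extension.Cotangent.mk_surjective x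
  have hy' : y ∈ Ideal.span {h} := hker.le hy
  obtain ⟨u, rfl⟩ := Ideal.mem_span_singleton'.mp hy'
  rw [LinearMap.comp_apply, Algebra.Extension.cotangentComplex_mk, LinearMap.id_apply]
  have h1 := key (KaehlerDifferential.D k R (u * h))
  rw [hlam] at h1
  refine h1.trans ?_
  show (∑ j, r j * D j (u * h)) • Algebra.Extension.Cotangent.mk (⟨h, hh⟩ : P.ker) = _
  rw [← map_smul, Algebra.Extension.Cotangent.mk_eq_mk_iff_sub_mem]
  show (∑ j, r j * D j (u * h)) * h - u * h ∈ P.ker ^ 2
  have h2 : ∑ j, r j * D j (u * h) = u * ∑ j, r j * D j h + h * ∑ j, r j * D j u := by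
    rw [Finset.mul_sum, Finset.mul_sum, ← Finset.sum_add_distrib]
    apply Finset.sum_congr rfl
    intro j _
    rw [Derivation.leibniz, smul_eq_mul, smul_eq_mul]
    ring
  have h3 : (∑ j, r j * D j (u * h)) * h - u * h = h * h * (∑ j, r j * D j u - u * r₀) := by
    rw [h2]
    linear_combination (u * h) * hr
  rw [h3, pow_two]
  exact Ideal.mul_mem_right _ _ (Ideal.mul_mem_mul hh hh)

section Chart

variable (k : Type u) [Field k] (n : ℕ) (R : Type u) [CommRing R] [Algebra k R]
  [Algebra (MvPolynomial (Fin n) k) R] [IsScalarTower k (MvPolynomial (Fin n) k) R]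
  [Algebra.Etale (MvPolynomial (Fin n) k) R]

/-- The coordinate functions of the chart. -/
noncomputable def xx (l : Fin n) : R := algebraMap (MvPolynomial (Fin n) k) R (X l)

/-- The basis `dx_1, …, dx_n` of the differentials of the chart. -/
noncomputable def omegaBasis : Module.Basis (Fin n) R Ω[R⁄k] :=
  ((KaehlerDifferential.mvPolynomialBasis k (Fin n)).baseChange R).map
    (KaehlerDifferential.tensorKaehlerEquivOfFormallyEtale k (MvPolynomial (Fin n) k) R)

theorem omegaBasis_apply (l : Fin n) :
    omegaBasis k n R l = KaehlerDifferential.D k R (xx k n R l) := by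
  simp [omegaBasis, xx]

/-- The partial derivatives with respect to the coordinates of the chart. -/
noncomputable def partialDer (j : Fin n) : Derivation k R R :=
  ((omegaBasis k n R).coord j).compDer (KaehlerDifferential.D k R)

theorem partialDer_xx (j l : Fin n) :
    partialDer k n R j (xx k n R l) = if j = l then 1 else 0 := by
  show (omegaBasis k n R).coord j (KaehlerDifferential.D k R (xx k n R l)) = _
  rw [← omegaBasis_apply, Module.Basis.coord_apply, Module.Basis.repr_self, Finsupp.single_apply]
  simp [eq_comm]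

include n in
theorem finiteType_chart : Algebra.FiniteType k R :=
  Algebra.FiniteType.trans (S := MvPolynomial (Fin n) k) inferInstance inferInstance

include n in
theorem finitePresentation_chart : Algebra.FinitePresentation k R :=
  Algebra.FinitePresentation.trans k (MvPolynomial (Fin n) k) R

include n in
theorem formallySmooth_chart : Algebra.FormallySmooth k R :=
  Algebra.FormallySmooth.comp k (MvPolynomial (Fin n) k) R

include k in
theorem ringKrullDim_away [IsDomain R] (δ : R) (hδ : δ ≠ 0) :
    ringKrullDim (Localization.Away δ) = n := by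
  haveI : IsDomain (Localization.Away δ) :=
    IsLocalization.isDomain_localization (powers_le_nonZeroDivisors_of_noZeroDivisors hδ)
  haveI : Algebra.Etale (MvPolynomial (Fin n) k) (Localization.Away δ) := inferInstance
  exact SmoothDim.ringKrullDim_eq_of_etale k n (Localization.Away δ)

end Chart

section Main

variable (k : Type u) [Field k] [IsAlgClosed k] (n : ℕ) (R : Type u) [CommRing R] [IsDomain R]
  [Algebra k R] [Algebra (MvPolynomial (Fin n) k) R] [IsScalarTower k (MvPolynomial (Fin n) k) R]
  [Algebra.Etale (MvPolynomial (Fin n) k) R]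

/-- The functionals "value" and "partial derivatives". -/
noncomputable def Lam : Option (Fin n) → (R →ₗ[k] R)
  | none => LinearMap.id
  | some j => ((partialDer k n R j : Derivation k R R) : R →ₗ[k] R)

theorem Lam_none (u : R) : Lam k n R none u = u := rfl

theorem Lam_some (j : Fin n) (u : R) : Lam k n R (some j) u = partialDer k n R j u := rfl

theorem Lam_comb {m : ℕ} (i' : Option (Fin n)) (a : Fin m → R) (c : Fin m → k) :
    Lam k n R i' (∑ i, algebraMap k R (c i) * a i) = ∑ i, c i • Lam k n R i' (a i) := by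
  rw [map_sum]
  apply Finset.sum_congr rfl
  intro i _
  rw [← Algebra.smul_def, map_smul]

include n in
theorem exists_poly_chart {m : ℕ} (a : Fin m → R) (f : R)
    (hjet : ∀ M : Ideal R, M.IsMaximal → ∀ l : R, ∃ c : Fin m → k,
      ∑ i, algebraMap k R (c i) * a i - l ∈ M ^ 2) :
    ∃ q : MvPolynomial (Fin m) k, q ≠ 0 ∧ ∀ c : Fin m → k, eval c q ≠ 0 →
      f + ∑ i, algebraMap k R (c i) * a i ≠ 0 ∧
      (algebraMap k (R ⧸ Ideal.span {f + ∑ i, algebraMap k R (c i) * a i})).Smooth := by
  classical
  haveI := finiteType_chart k n R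
  haveI := finitePresentation_chart k n R
  haveI := formallySmooth_chart k n R
  have hpt : ∀ φ₀ : R →ₐ[k] k, ∃ δ : R, φ₀ δ ≠ 0 ∧ ∃ q : MvPolynomial (Fin m) k, q ≠ 0 ∧
      ∀ φ : R →ₐ[k] k, φ δ ≠ 0 → ∀ c : Fin m → k,
        (∀ i', ∑ i, c i * φ (Lam k n R i' (a i)) + φ (Lam k n R i' f) = 0) → eval c q = 0 := by
    intro φ₀
    refine exists_elim (ρ := Option (Fin n)) n (by simp)
      (fun δ hδ => ringKrullDim_away k n R δ hδ)
      (fun i' i => Lam k n R i' (a i)) (fun i' => Lam k n R i' f) φ₀ ?_
    intro w
    have hM : (RingHom.ker (φ₀ : R →+* k)).IsMaximal :=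
      RingHom.ker_isMaximal_of_surjective _ (fun x => ⟨algebraMap k R x, φ₀.commutes x⟩)
    let l : R := algebraMap k R (w none - ∑ j, w (some j) * φ₀ (xx k n R j)) +
      ∑ j, algebraMap k R (w (some j)) * xx k n R j
    obtain ⟨c, hc⟩ := hjet _ hM l
    refine ⟨c, fun i' => ?_⟩
    have hLam : φ₀ (Lam k n R i' (∑ i, algebraMap k R (c i) * a i - l)) = 0 := by
      cases i' with
      | none => exact (Ideal.pow_le_self two_ne_zero hc : _ ∈ RingHom.ker (φ₀ : R →+* k))
      | some j => exact algHom_derivation_eq_zero_of_mem_sq φ₀ (partialDer k n R j) _ hc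
    rw [map_sub, Lam_comb, map_sub, map_sum, sub_eq_zero] at hLam
    have h2 : φ₀ (Lam k n R i' l) = w i' := by
      cases i' with
      | none =>
        show φ₀ l = w none
        simp only [l, map_add, map_sum, map_mul, AlgHom.commutes, Algebra.algebraMap_self,
          RingHom.id_apply]
        ring
      | some j =>
        show φ₀ (partialDer k n R j l) = w (some j)
        have : partialDer k n R j l = algebraMap k R (w (some j)) := by
          simp only [l, map_add, map_sum, Derivation.map_algebraMap, zero_add]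
          rw [Finset.sum_eq_single j]
          · rw [← Algebra.smul_def, Derivation.map_smul, partialDer_xx, if_pos rfl,
              Algebra.smul_def, mul_one]
          · intro j' _ hj'
            rw [← Algebra.smul_def, Derivation.map_smul, partialDer_xx, if_neg (Ne.symm hj'),
              smul_zero]
          · intro h
            exact absurd (Finset.mem_univ j) h
        rw [this, AlgHom.commutes]
        rfl
    rw [← h2, ← hLam]
    apply Finset.sum_congr rfl
    intro i _
    rw [map_smul, smul_eq_mul]
  choose δ hδ q hq0 hq using hpt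
  have htop : Ideal.span (Set.range δ) = ⊤ := by
    by_contra hne
    obtain ⟨M, hM, hle⟩ := Ideal.exists_le_maximal _ hne
    haveI := hM
    obtain ⟨φ, hφ⟩ := exists_algHom_of_isMaximal k R M
    have : δ φ ∈ M := hle (Ideal.subset_span ⟨φ, rfl⟩)
    rw [← hφ] at this
    exact hδ φ this
  obtain ⟨s', hs'sub, hs'top⟩ := (Ideal.span_eq_top_iff_finite _).mp htop
  have hch : ∀ d : s', ∃ φ₀ : R →ₐ[k] k, δ φ₀ = d.1 := fun d => hs'sub d.2
  choose φs hφs using hch
  refine ⟨∏ d : s', q (φs d), Finset.prod_ne_zero_iff.mpr (fun d _ => hq0 _), fun c hc => ?_⟩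
  rw [map_prod] at hc
  have hc' : ∀ d : s', eval c (q (φs d)) ≠ 0 :=
    fun d => Finset.prod_ne_zero_iff.mp hc d (Finset.mem_univ d)
  have hJ : Ideal.span (Set.range fun i' =>
      Lam k n R i' (f + ∑ i, algebraMap k R (c i) * a i)) = ⊤ := by
    by_contra hne
    obtain ⟨M, hM, hle⟩ := Ideal.exists_le_maximal _ hne
    haveI := hM
    obtain ⟨φ, hφ⟩ := exists_algHom_of_isMaximal k R M
    have hex : ∃ d : s', φ d.1 ≠ 0 := by
      by_contra hall
      push Not at hall
      have : Ideal.span (s' : Set R) ≤ M :=
        Ideal.span_le.mpr (fun d hd => by rw [← hφ]; exact hall ⟨d, hd⟩)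
      rw [hs'top] at this
      exact hM.ne_top (top_le_iff.mp this)
    obtain ⟨d, hd⟩ := hex
    apply hc' d
    apply hq (φs d) φ (by rw [hφs d]; exact hd) c
    intro i'
    have h1 : Lam k n R i' (f + ∑ i, algebraMap k R (c i) * a i) ∈ M :=
      hle (Ideal.subset_span ⟨i', rfl⟩)
    rw [← hφ] at h1
    have h1' : φ (Lam k n R i' (f + ∑ i, algebraMap k R (c i) * a i)) = 0 := h1
    rw [map_add, Lam_comb, map_add, map_sum] at h1'
    rw [add_comm, ← h1']
    congr 1
    apply Finset.sum_congr rfl
    intro i _
    rw [map_smul, smul_eq_mul]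
  have h1mem : (1 : R) ∈ Ideal.span (Set.range fun i' =>
      Lam k n R i' (f + ∑ i, algebraMap k R (c i) * a i)) := by
    rw [hJ]
    trivial
  obtain ⟨r, hr⟩ := (Ideal.mem_span_range_iff_exists_fun).mp h1mem
  rw [Fintype.sum_option] at hr
  constructor
  · intro h0
    rw [h0] at hJ
    have : Ideal.span (Set.range fun i' => Lam k n R i' (0 : R)) = ⊥ := by
      rw [Ideal.span_eq_bot]
      rintro _ ⟨i', rfl⟩
      exact map_zero _
    rw [this] at hJ
    exact bot_ne_top hJ
  · rw [RingHom.smooth_algebraMap]
    haveI : Algebra.FormallySmooth k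
        (R ⧸ Ideal.span {f + ∑ i, algebraMap k R (c i) * a i}) :=
      formallySmooth_quotient_of_combination k R (partialDer k n R) _ (r none)
        (fun j => r (some j)) hr
    haveI : Algebra.FinitePresentation k
        (R ⧸ Ideal.span {f + ∑ i, algebraMap k R (c i) * a i}) :=
      Algebra.FinitePresentation.quotient ⟨{f + ∑ i, algebraMap k R (c i) * a i}, by simp⟩
    exact ⟨inferInstance, inferInstance⟩

end Main

end Groth.Agent.Lib.Helper22.BertiniJet
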