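import Mathlib
import Groth.Agent.Lib.Helper22.BertiniGenA
import Groth.Agent.Lib.Helper22.BertiniJetB

/-!
# Bertini in an étale chart over an arbitrary field (helper22)
-/

set_option autoImplicit false
set_option linter.style.haveILetI false
set_option linter.unusedSectionVars false
universe u
open MvPolynomial TensorProduct

namespace Groth.Agent.Lib.Helper22.BertiniGen

open Groth.Agent.Lib.Helper22.BertiniJet

section Chart

variable (k : Type u) [Field k] (n : ℕ) (R : Type u) [CommRing R]
  [Algebra k R] [Algebra (MvPolynomial (Fin n) k) R] [IsScalarTower k (MvPolynomial (Fin n) k) R]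
  [Algebra.Etale (MvPolynomial (Fin n) k) R]

theorem Lam_none' (u : R) : Lam k n R none u = u := rfl

theorem Lam_some' (j : Fin n) (u : R) : Lam k n R (some j) u = partialDer k n R j u := rfl

theorem Lam_comb' {m : ℕ} (i' : Option (Fin n)) (a : Fin m → R) (c : Fin m → k) :
    Lam k n R i' (∑ i, algebraMap k R (c i) * a i) = ∑ i, c i • Lam k n R i' (a i) := by
  rw [map_sum]
  apply Finset.sum_congr rfl
  intro i _
  rw [← Algebra.smul_def, map_smul]

theorem exists_poly_chart_gen [IsDomain R] {m : ℕ} (a : Fin m → R) (f : R)
    (H : Fin m → Option (Fin n) → R)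
    (hH : ∀ i' j', ∑ i, Lam k n R i' (a i) * H i j' = if i' = j' then 1 else 0) :
    ∃ q : MvPolynomial (Fin m) k, q ≠ 0 ∧ ∀ c : Fin m → k, eval c q ≠ 0 →
      Ideal.span (Set.range fun i' =>
        Lam k n R i' (f + ∑ i, algebraMap k R (c i) * a i)) = ⊤ := by
  classical
  haveI := finiteType_chart k n R
  obtain ⟨q, hq0, hq⟩ := gen_elim (k := k) (R := R) (ρ := Option (Fin n)) n (by simp)
    (fun δ hδ => ringKrullDim_away k n R δ hδ)
    (Matrix.of fun i' i => Lam k n R i' (a i)) (fun i' => Lam k n R i' f)
    (Matrix.of H) (by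
      ext i' j'
      rw [Matrix.mul_apply, Matrix.one_apply]
      exact hH i' j')
  refine ⟨q, hq0, fun c hc => ?_⟩
  have h1 := hq c hc
  have h2 : (fun i' => Lam k n R i' (f + ∑ i, algebraMap k R (c i) * a i)) =
      fun i' => ∑ i, algebraMap k R (c i) * (Matrix.of fun i' i => Lam k n R i' (a i)) i' i +
        Lam k n R i' f := by
    funext i'
    rw [map_add, Lam_comb', add_comm]
    congr 1
    apply Finset.sum_congr rfl
    intro i _
    rw [Algebra.smul_def]
    rfl
  rw [h2]
  exact h1

/-- If `h` and its partial derivatives generate the unit ideal, then `R ⧸ (h)` is smooth. -/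
theorem smooth_quotient_of_span_top (h : R)
    (hJ : Ideal.span (Set.range fun i' => Lam k n R i' h) = ⊤) :
    Algebra.Smooth k (R ⧸ Ideal.span {h}) := by
  haveI := finitePresentation_chart k n R
  haveI := formallySmooth_chart k n R
  have h1mem : (1 : R) ∈ Ideal.span (Set.range fun i' => Lam k n R i' h) := by
    rw [hJ]
    trivial
  obtain ⟨r, hr⟩ := (Ideal.mem_span_range_iff_exists_fun).mp h1mem
  rw [Fintype.sum_option] at hr
  haveI : Algebra.FormallySmooth k (R ⧸ Ideal.span {h}) :=
    formallySmooth_quotient_of_combination k R (partialDer k n R) _ (r none)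
      (fun j => r (some j)) hr
  haveI : Algebra.FinitePresentation k (R ⧸ Ideal.span {h}) :=
    Algebra.FinitePresentation.quotient ⟨{h}, by simp⟩
  exact ⟨inferInstance, inferInstance⟩

theorem ne_zero_of_span_top [Nontrivial R] (h : R)
    (hJ : Ideal.span (Set.range fun i' => Lam k n R i' h) = ⊤) : h ≠ 0 := by
  intro h0
  rw [h0] at hJ
  have : Ideal.span (Set.range fun i' => Lam k n R i' (0 : R)) = ⊥ := by
    rw [Ideal.span_eq_bot]
    rintro _ ⟨i', rfl⟩
    exact map_zero _
  rw [this] at hJ
  exact bot_ne_top hJ

/-- A right inverse of the jet matrix of `1, a_1, …, a_N` when the `d a_i` generate `Ω`. -/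
theorem exists_rightInverse {N : ℕ} (a : Fin (N + 1) → R) (h0 : a 0 = 1)
    (hspan : Submodule.span R (Set.range fun i : Fin N =>
      KaehlerDifferential.D k R (a i.succ)) = ⊤) :
    ∃ H : Fin (N + 1) → Option (Fin n) → R,
      ∀ i' j', ∑ i, Lam k n R i' (a i) * H i j' = if i' = j' then 1 else 0 := by
  classical
  have hb : ∀ l : Fin n, ∃ b : Fin N → R,
      ∑ i, b i • KaehlerDifferential.D k R (a i.succ) = omegaBasis k n R l := by
    intro l
    have : omegaBasis k n R l ∈ Submodule.span R (Set.range fun i : Fin N =>
        KaehlerDifferential.D k R (a i.succ)) := by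
      rw [hspan]
      trivial
    exact (Submodule.mem_span_range_iff_exists_fun R).mp this
  choose b hb using hb
  have hcoord : ∀ j l : Fin n, ∑ i, partialDer k n R j (a i.succ) * b l i =
      if j = l then 1 else 0 := by
    intro j l
    have h1 := congrArg ((omegaBasis k n R).coord j) (hb l)
    rw [map_sum, Module.Basis.coord_apply, Module.Basis.repr_self, Finsupp.single_apply] at h1
    rw [← (by simp [eq_comm] : (if l = j then (1 : R) else 0) = if j = l then 1 else 0), ← h1]
    apply Finset.sum_congr rfl
    intro i _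
    rw [map_smul, smul_eq_mul, mul_comm]
    rfl
  refine ⟨fun i j' => Fin.cases
      (Option.casesOn j' 1 (fun l => -∑ i, a i.succ * b l i))
      (fun i => Option.casesOn j' 0 (fun l => b l i)) i, ?_⟩
  intro i' j'
  rw [Fin.sum_univ_succ]
  simp only [Fin.cases_zero, Fin.cases_succ]
  cases i' with
  | none =>
    cases j' with
    | none => simp [Lam_none', h0]
    | some l =>
      simp only [Lam_none', h0, one_mul]
      simp
  | some j =>
    have hj1 : partialDer k n R j (a 0) = 0 := by
      rw [h0]
      exact Derivation.map_one_eq_zero _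
    cases j' with
    | none => simp [Lam_some', hj1]
    | some l =>
      simp only [Lam_some', hj1, zero_mul, zero_add]
      rw [hcoord j l]
      simp

end Chart

end Groth.Agent.Lib.Helper22.BertiniGen
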