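import Mathlib
import Groth.Agent.Lib.Helper22.BertiniGenB
import Groth.Agent.Lib.Helper22.EtaleDim1

/-!
# Charts at smooth points of a finite type algebra over a field (helper22)
-/

set_option autoImplicit false
set_option linter.style.haveILetI false
set_option linter.unusedSectionVars false
universe u
open MvPolynomial TensorProduct

namespace Groth.Agent.Lib.Helper22.BertiniGen

theorem span_D_of_aeval_surjective (k A : Type*) [CommRing k] [CommRing A] [Algebra k A] {N : ℕ}
    (x : Fin N → A)
    (hx : Function.Surjective (MvPolynomial.aeval x : MvPolynomial (Fin N) k →ₐ[k] A)) :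
    Submodule.span A (Set.range fun i => KaehlerDifferential.D k A (x i)) = ⊤ := by
  rw [_root_.eq_top_iff, ← KaehlerDifferential.span_range_derivation k A, Submodule.span_le]
  rintro _ ⟨a, rfl⟩
  obtain ⟨p, rfl⟩ := hx a
  induction p using MvPolynomial.induction_on with
  | C c =>
    rw [MvPolynomial.aeval_C, Derivation.map_algebraMap]
    exact Submodule.zero_mem _
  | add p q hp hq =>
    rw [map_add, map_add]
    exact Submodule.add_mem _ hp hq
  | mul_X p i hp =>
    rw [map_mul, MvPolynomial.aeval_X, Derivation.leibniz]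
    exact Submodule.add_mem _ (Submodule.smul_mem _ _ (Submodule.subset_span ⟨i, rfl⟩))
      (Submodule.smul_mem _ _ hp)

theorem span_D_of_isLocalization (k A R : Type*) [CommRing k] [CommRing A] [CommRing R]
    [Algebra k A] [Algebra A R] [Algebra k R] [IsScalarTower k A R] (M : Submonoid A)
    [IsLocalization M R] {N : ℕ} (x : Fin N → A)
    (hspan : Submodule.span A (Set.range fun i => KaehlerDifferential.D k A (x i)) = ⊤) :
    Submodule.span R (Set.range fun i =>
      KaehlerDifferential.D k R (algebraMap A R (x i))) = ⊤ := by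
  rw [_root_.eq_top_iff,
    ← KaehlerDifferential.span_range_map_derivation_of_isLocalization k (S := A) R M,
    Submodule.span_le]
  rintro _ ⟨a, rfl⟩
  have ha : KaehlerDifferential.D k A a ∈
      Submodule.span A (Set.range fun i => KaehlerDifferential.D k A (x i)) := by
    rw [hspan]
    trivial
  have key : ∀ ω ∈ Submodule.span A (Set.range fun i => KaehlerDifferential.D k A (x i)),
      KaehlerDifferential.map k k A R ω ∈ Submodule.span R (Set.range fun i =>
        KaehlerDifferential.D k R (algebraMap A R (x i))) := by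
    intro ω hω
    induction hω using Submodule.span_induction with
    | mem ω hω =>
      obtain ⟨i, rfl⟩ := hω
      rw [KaehlerDifferential.map_D]
      exact Submodule.subset_span ⟨i, rfl⟩
    | zero => rw [map_zero]; exact Submodule.zero_mem _
    | add ω₁ ω₂ _ _ h1 h2 => rw [map_add]; exact Submodule.add_mem _ h1 h2
    | smul r ω _ h1 =>
      rw [map_smul, ← algebraMap_smul R r]
      exact Submodule.smul_mem _ _ h1
  exact key _ ha

theorem exists_away_isDomain {S : Type*} [CommRing S] [IsNoetherianRing S] (P : Ideal S)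
    [P.IsPrime] [IsDomain (Localization.AtPrime P)] :
    ∃ t : S, t ∉ P ∧ IsDomain (Localization.Away t) := by
  classical
  set K := RingHom.ker (algebraMap S (Localization.AtPrime P)) with hK
  obtain ⟨s, hs⟩ : K.FG := IsNoetherian.noetherian K
  have hex : ∀ κ : S, κ ∈ K → ∃ t : S, t ∉ P ∧ t * κ = 0 := by
    intro κ hκ
    have h1 : algebraMap S (Localization.AtPrime P) κ = 0 := hκ
    rw [IsLocalization.map_eq_zero_iff P.primeCompl] at h1
    obtain ⟨m, hm⟩ := h1
    exact ⟨m.1, m.2, hm⟩
  have hsK : ∀ κ ∈ s, κ ∈ K := fun κ hκ => hs ▸ Ideal.subset_span hκ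
  choose! t ht1 ht2 using hex
  let T : S := ∏ κ ∈ s, t κ
  have hT : T ∉ P := by
    intro hmem
    obtain ⟨κ, hκ, hκP⟩ := (Ideal.IsPrime.prod_mem_iff).mp hmem
    exact ht1 κ (hsK κ hκ) hκP
  have hTK : ∀ κ ∈ K, T * κ = 0 := by
    intro κ hκ
    rw [← hs] at hκ
    induction hκ using Submodule.span_induction with
    | mem y hy =>
      have : T = (∏ κ' ∈ s.erase y, t κ') * t y := (Finset.prod_erase_mul s t hy).symm
      rw [this, mul_assoc, ht2 y (hsK y hy), mul_zero]
    | zero => exact mul_zero _
    | add y z _ _ h1 h2 => rw [mul_add, h1, h2, add_zero]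
    | smul r y _ h1 => rw [smul_eq_mul, mul_left_comm, h1, mul_zero]
  refine ⟨T, hT, ?_⟩
  have hu : IsUnit (algebraMap S (Localization.AtPrime P) T) :=
    IsLocalization.map_units (Localization.AtPrime P) (⟨T, hT⟩ : P.primeCompl)
  let ψ : Localization.Away T →+* Localization.AtPrime P := IsLocalization.Away.lift T hu
  have hinj : Function.Injective ψ := by
    rw [injective_iff_map_eq_zero]
    intro z hz
    obtain ⟨a, y, rfl⟩ := IsLocalization.exists_mk'_eq (Submonoid.powers T) z
    have h1 := congrArg ψ (IsLocalization.mk'_spec (Localization.Away T) a y)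
    rw [map_mul, hz, zero_mul] at h1
    have h2 : algebraMap S (Localization.AtPrime P) a = 0 := by
      have h2' : ψ (algebraMap S (Localization.Away T) a) =
          algebraMap S (Localization.AtPrime P) a := IsLocalization.Away.lift_eq T hu a
      rw [← h2']
      exact h1.symm
    have h3 : T * a = 0 := hTK a h2
    rw [IsLocalization.mk'_eq_zero_iff]
    exact ⟨⟨T, 1, pow_one T⟩, h3⟩
  exact Function.Injective.isDomain ψ hinj

/-- At a smooth point of a finite type algebra over a field there is a basic open neighbourhood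
which is a domain with an étale chart. -/
theorem exists_chart (k A : Type u) [Field k] [CommRing A] [Algebra k A] [Algebra.FiniteType k A]
    (p : Ideal A) [hp : p.IsPrime] [Algebra.IsSmoothAt k p] :
    ∃ f : A, f ∉ p ∧ IsDomain (Localization.Away f) ∧
      ∃ (n : ℕ) (_ : Algebra (MvPolynomial (Fin n) k) (Localization.Away f)),
        IsScalarTower k (MvPolynomial (Fin n) k) (Localization.Away f) ∧
        Algebra.Etale (MvPolynomial (Fin n) k) (Localization.Away f) := by
  haveI : Algebra.FinitePresentation k A :=
    Algebra.FinitePresentation.of_finiteType.mp inferInstance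
  obtain ⟨f₁, hf₁, n, alg₁, tower₁, std₁⟩ :=
    Algebra.IsSmoothAt.exists_isStandardEtale_mvPolynomial (R := k) (p := p)
  letI := alg₁
  haveI := tower₁
  haveI := std₁
  haveI : Algebra.Etale (MvPolynomial (Fin n) k) (Localization.Away f₁) := inferInstance
  have hdisj : Disjoint ((Submonoid.powers f₁ : Submonoid A) : Set A) (p : Set A) :=
    (Ideal.disjoint_powers_iff_notMem_of_isPrime _).mpr hf₁
  haveI hP₁ : (p.map (algebraMap A (Localization.Away f₁))).IsPrime :=
    IsLocalization.isPrime_of_isPrime_disjoint (Submonoid.powers f₁) _ _ hp hdisj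
  haveI : IsDomain (Localization.AtPrime (p.map (algebraMap A (Localization.Away f₁)))) :=
    Groth.Agent.Lib.Helper22.EtaleDim.isDomain_localization k n (Localization.Away f₁) _
  haveI : Algebra.FiniteType k (Localization.Away f₁) :=
    Algebra.FiniteType.trans (S := MvPolynomial (Fin n) k) inferInstance inferInstance
  haveI : IsNoetherianRing (Localization.Away f₁) := Algebra.FiniteType.isNoetherianRing k _
  obtain ⟨t₁, ht₁, hdom⟩ := exists_away_isDomain (p.map (algebraMap A (Localization.Away f₁)))
  obtain ⟨g, ⟨_, N, rfl⟩, hg₀⟩ := IsLocalization.exists_mk'_eq (Submonoid.powers f₁) t₁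
  have hg : g ∉ p := by
    intro hgp
    apply ht₁
    rw [← hg₀, IsLocalization.mk'_mem_map_algebraMap_iff]
    exact ⟨1, one_mem _, by simpa using hgp⟩
  have hloc : IsLocalization.Away (f₁ * g) (Localization.Away t₁) := by
    suffices IsLocalization.Away (algebraMap _ (Localization.Away f₁) g) (Localization.Away t₁) from
      .mul' (Localization.Away f₁) _ _ _
    refine IsLocalization.Away.of_associated (r := t₁)
      ⟨(IsLocalization.Away.algebraMap_pow_isUnit f₁ N).unit, ?_⟩
    simp only [← hg₀, IsUnit.unit_spec, ← map_pow, mul_comm, IsLocalization.mk'_spec'_mk]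
  let e : Localization.Away t₁ ≃ₐ[A] Localization.Away (f₁ * g) :=
    IsLocalization.algEquiv (.powers (f₁ * g)) _ _
  letI : Algebra (MvPolynomial (Fin n) k) (Localization.Away (f₁ * g)) :=
    (e.toRingHom.comp (algebraMap (MvPolynomial (Fin n) k) _)).toAlgebra
  have htow : IsScalarTower k (MvPolynomial (Fin n) k) (Localization.Away (f₁ * g)) := by
    refine .of_algebraMap_eq' ?_
    simp only [RingHom.algebraMap_toAlgebra, RingHom.comp_assoc, ← IsScalarTower.algebraMap_eq]
    exact (e.toAlgHom.comp_algebraMap_of_tower (R := k)).symm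
  let e' : Localization.Away t₁ ≃ₐ[MvPolynomial (Fin n) k] Localization.Away (f₁ * g) :=
    { __ := e, commutes' r := rfl }
  haveI : Algebra.Etale (MvPolynomial (Fin n) k) (Localization.Away t₁) :=
    Algebra.Etale.comp (MvPolynomial (Fin n) k) (Localization.Away f₁) (Localization.Away t₁)
  refine ⟨f₁ * g, hp.mul_notMem hf₁ hg, ?_, n, inferInstance, htow, .of_equiv e'⟩
  exact e.symm.toRingEquiv.toMulEquiv.isDomain _

end Groth.Agent.Lib.Helper22.BertiniGen
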