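import Mathlib
import Groth.Prelude.Def_Flat
import Groth.Agent.Lib.Helper22.SmoothRelDim2
import Groth.Agent.Lib.Helper12.FibreDominant

/-!
# Monomorphisms between smooth schemes of the same relative dimension (helper22)

* `formallySmooth_of_kaehler`: Jacobi–Zariski argument: `A → B → C`, `C` formally smooth over `A`,
  `Ω[C/B] = 0`, `Ω[B/A]` and `Ω[C/A]` free of the same finite rank: then `C` is formally smooth
  over `B`.
* `stalk_kaehler`: for a smooth morphism, the module of differentials of the local rings is free of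
  rank the fibre dimension.
* `smooth_of_mono`, `isOpenImmersion_iff` (S4993).
-/

set_option autoImplicit false
set_option maxHeartbeats 400000
set_option linter.style.haveILetI false
set_option linter.unusedSectionVars false
universe u

open TensorProduct AlgebraicGeometry CategoryTheory KaehlerDifferential

namespace Groth.Agent.Lib.Helper22.SmoothMono

section alg

theorem formallySmooth_of_kaehler (A B C : Type u) [CommRing A] [CommRing B] [CommRing C]
    [Algebra A B] [Algebra B C] [Algebra A C] [IsScalarTower A B C] [Nontrivial B] [Nontrivial C]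
    [Algebra.FormallySmooth A C] [Subsingleton Ω[C⁄B]] (n : ℕ)
    (hfB : Module.Free B Ω[B⁄A]) (hfinB : Module.Finite B Ω[B⁄A])
    (hB : Module.finrank B Ω[B⁄A] = n)
    (hfC : Module.Free C Ω[C⁄A]) (hfinC : Module.Finite C Ω[C⁄A])
    (hC : Module.finrank C Ω[C⁄A] = n) :
    Algebra.FormallySmooth B C := by
  haveI := hfB
  haveI := hfinB
  haveI := hfC
  haveI := hfinC
  have hsurj : Function.Surjective (KaehlerDifferential.mapBaseChange A B C) := by
    intro y
    have hex := KaehlerDifferential.exact_mapBaseChange_map A B C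
    exact (hex y).mp (Subsingleton.elim _ _)
  have hfr : Module.finrank C (C ⊗[B] Ω[B⁄A]) = Module.finrank C Ω[C⁄A] := by
    rw [Module.finrank_baseChange, hB, hC]
  obtain ⟨ε⟩ : Nonempty ((C ⊗[B] Ω[B⁄A]) ≃ₗ[C] Ω[C⁄A]) := ⟨LinearEquiv.ofFinrankEq _ _ hfr⟩
  have hinj : Function.Injective (KaehlerDifferential.mapBaseChange A B C) := by
    have h1 : Function.Surjective
        ((KaehlerDifferential.mapBaseChange A B C).comp ε.symm.toLinearMap) :=
      hsurj.comp ε.symm.surjective
    have h2 := OrzechProperty.injective_of_surjective_endomorphism _ h1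
    intro a b hab
    apply ε.injective
    apply h2
    simpa using hab
  have hδ : ∀ z, Algebra.H1Cotangent.δ A B C z = 0 := by
    intro z
    apply hinj
    rw [map_zero]
    exact (Algebra.H1Cotangent.exact_δ_mapBaseChange A B C _).mpr ⟨z, rfl⟩
  haveI : Subsingleton (Algebra.H1Cotangent B C) := by
    refine ⟨fun a b => ?_⟩
    obtain ⟨a', rfl⟩ := (Algebra.H1Cotangent.exact_map_δ A B C a).mp (hδ a)
    obtain ⟨b', rfl⟩ := (Algebra.H1Cotangent.exact_map_δ A B C b).mp (hδ b)
    rw [Subsingleton.elim a' b']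
  exact ⟨inferInstance, inferInstance⟩

end alg

section sch

open Groth.Agent.Lib.Helper22.SmoothRelDim

/-- A standard smooth chart around a point, with the fibre dimension. -/
theorem exists_chart {X Y : Scheme.{u}} (f : X ⟶ Y) [Smooth f] (x : X) :
    ∃ (n : ℕ) (V : Y.Opens) (_ : IsAffineOpen V) (W : X.Opens) (_ : IsAffineOpen W)
      (_ : x ∈ W) (e : W ≤ f ⁻¹ᵁ V),
      (f.appLE V W e).hom.IsStandardSmoothOfRelativeDimension n ∧
        FlatMor.fibreDimAt f x = (n : WithBot ℕ∞) := by
  obtain ⟨V, hV, W, hW, hxW, e, hss⟩ := Smooth.exists_isStandardSmooth f x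
  obtain ⟨n, hn⟩ : ∃ n, (f.appLE V W e).hom.IsStandardSmoothOfRelativeDimension n := by
    letI := (f.appLE V W e).hom.toAlgebra
    have hss' : Algebra.IsStandardSmooth Γ(Y, V) Γ(X, W) := hss
    obtain ⟨ι, σ, h1, h2, ⟨P⟩⟩ := hss'
    exact ⟨P.dimension, ⟨ι, σ, h1, h2, P, rfl⟩⟩
  refine ⟨n, V, hV, W, hW, hxW, e, hn, ?_⟩
  have h1 : W.ι ≫ f = hW.isoSpec.hom ≫ Spec.map (f.appLE V W e) ≫ hV.fromSpec := by
    rw [IsAffineOpen.SpecMap_appLE_fromSpec f hV hW e, ← Category.assoc,
      IsAffineOpen.isoSpec_hom_fromSpec]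
  haveI := smoothOfRelativeDimension_SpecMap n (f.appLE V W e) hn
  haveI hsm : SmoothOfRelativeDimension n (W.ι ≫ f) := by
    rw [h1]
    have : SmoothOfRelativeDimension (0 + (n + 0))
        (hW.isoSpec.hom ≫ Spec.map (f.appLE V W e) ≫ hV.fromSpec) := inferInstance
    simpa using this
  have := Groth.Agent.Lib.Helper12.Equidim.fibreDimAt_comp_openImmersion W.ι f ⟨x, hxW⟩
  rw [fibreDimAt_eq n (W.ι ≫ f) ⟨x, hxW⟩] at this
  exact this.symm

/-- For a smooth morphism the module of differentials of `O_{X,x}` over `O_{S,h x}` is free of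
rank the fibre dimension at `x`. -/
theorem stalk_kaehler {X S : Scheme.{u}} (h : X ⟶ S) [Smooth h] (x : X) :
    letI := (h.stalkMap x).hom.toAlgebra
    ∃ n : ℕ, FlatMor.fibreDimAt h x = (n : WithBot ℕ∞) ∧
      Module.Free (X.presheaf.stalk x) Ω[X.presheaf.stalk x⁄S.presheaf.stalk (h.base x)] ∧
      Module.Finite (X.presheaf.stalk x) Ω[X.presheaf.stalk x⁄S.presheaf.stalk (h.base x)] ∧
      Module.finrank (X.presheaf.stalk x)
        Ω[X.presheaf.stalk x⁄S.presheaf.stalk (h.base x)] = n := by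
  letI algAC : Algebra (S.presheaf.stalk (h.base x)) (X.presheaf.stalk x) :=
    (h.stalkMap x).hom.toAlgebra
  obtain ⟨n, V, hV, U, hU, hxU, e, hn, hdim⟩ := exists_chart h x
  refine ⟨n, hdim, ?_⟩
  letI algRT : Algebra Γ(S, V) Γ(X, U) := (h.appLE V U e).hom.toAlgebra
  letI algTC : Algebra Γ(X, U) (X.presheaf.stalk x) :=
    TopCat.Presheaf.algebra_section_stalk X.presheaf ⟨x, hxU⟩
  letI algRA : Algebra Γ(S, V) (S.presheaf.stalk (h.base x)) :=
    TopCat.Presheaf.algebra_section_stalk S.presheaf ⟨h.base x, e hxU⟩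
  letI algRC : Algebra Γ(S, V) (X.presheaf.stalk x) :=
    ((algebraMap Γ(X, U) (X.presheaf.stalk x)).comp (algebraMap Γ(S, V) Γ(X, U))).toAlgebra
  haveI : IsScalarTower Γ(S, V) Γ(X, U) (X.presheaf.stalk x) :=
    IsScalarTower.of_algebraMap_eq (fun _ => rfl)
  haveI : IsScalarTower Γ(S, V) (S.presheaf.stalk (h.base x)) (X.presheaf.stalk x) := by
    refine IsScalarTower.of_algebraMap_eq (fun a => ?_)
    show (X.presheaf.germ U x hxU).hom ((h.appLE V U e).hom a) =
      (h.stalkMap x).hom ((S.presheaf.germ V (h.base x) (e hxU)).hom a)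
    simp only [Scheme.Hom.germ_stalkMap_apply, Scheme.Hom.appLE, CommRingCat.hom_comp,
      RingHom.coe_comp, Function.comp_apply, X.presheaf.germ_res_apply]
  haveI locX : IsLocalization.AtPrime (X.presheaf.stalk x) (hU.primeIdealOf ⟨x, hxU⟩).asIdeal :=
    hU.isLocalization_stalk ⟨x, hxU⟩
  haveI locS : IsLocalization.AtPrime (S.presheaf.stalk (h.base x))
      (hV.primeIdealOf ⟨h.base x, e hxU⟩).asIdeal :=
    hV.isLocalization_stalk ⟨h.base x, e hxU⟩
  haveI : Algebra.FormallyEtale Γ(X, U) (X.presheaf.stalk x) :=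
    Algebra.FormallyEtale.of_isLocalization (hU.primeIdealOf ⟨x, hxU⟩).asIdeal.primeCompl
  haveI : Algebra.FormallyUnramified Γ(S, V) (S.presheaf.stalk (h.base x)) :=
    Algebra.FormallyUnramified.of_isLocalization
      (hV.primeIdealOf ⟨h.base x, e hxU⟩).asIdeal.primeCompl
  haveI hn' : Algebra.IsStandardSmoothOfRelativeDimension n Γ(S, V) Γ(X, U) := hn
  haveI : Algebra.IsStandardSmooth Γ(S, V) Γ(X, U) :=
    Algebra.IsStandardSmoothOfRelativeDimension.isStandardSmooth n
  haveI : Nontrivial Γ(X, U) :=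
    ⟨⟨0, 1, fun h01 => (hU.primeIdealOf ⟨x, hxU⟩).isPrime.ne_top
      ((Ideal.eq_top_iff_one _).mpr (h01 ▸ Ideal.zero_mem _))⟩⟩
  have hrank : Module.finrank Γ(X, U) Ω[Γ(X, U)⁄Γ(S, V)] = n :=
    Module.finrank_eq_of_rank_eq
      (Algebra.IsStandardSmoothOfRelativeDimension.rank_kaehlerDifferential n)
  -- localise the source
  let e₁ : (X.presheaf.stalk x) ⊗[Γ(X, U)] Ω[Γ(X, U)⁄Γ(S, V)] ≃ₗ[X.presheaf.stalk x]
      Ω[X.presheaf.stalk x⁄Γ(S, V)] :=
    KaehlerDifferential.tensorKaehlerEquivOfFormallyEtale Γ(S, V) Γ(X, U) (X.presheaf.stalk x)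
  -- localise the base
  have hsurj : Function.Surjective (KaehlerDifferential.map Γ(S, V) (S.presheaf.stalk (h.base x))
      (X.presheaf.stalk x) (X.presheaf.stalk x)) :=
    KaehlerDifferential.map_surjective Γ(S, V) (S.presheaf.stalk (h.base x)) (X.presheaf.stalk x)
  have hinj : Function.Injective (KaehlerDifferential.map Γ(S, V) (S.presheaf.stalk (h.base x))
      (X.presheaf.stalk x) (X.presheaf.stalk x)) := by
    rw [injective_iff_map_eq_zero]
    intro a ha
    have hzero : ∀ b : (X.presheaf.stalk x) ⊗[S.presheaf.stalk (h.base x)]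
        Ω[S.presheaf.stalk (h.base x)⁄Γ(S, V)], b = 0 := by
      intro b
      induction b using TensorProduct.induction_on with
      | zero => rfl
      | tmul c d => rw [Subsingleton.elim d 0, TensorProduct.tmul_zero]
      | add c d hc hd => rw [hc, hd, add_zero]
    obtain ⟨b, rfl⟩ := (KaehlerDifferential.exact_mapBaseChange_map Γ(S, V)
      (S.presheaf.stalk (h.base x)) (X.presheaf.stalk x) a).mp ha
    rw [hzero b, map_zero]
  let e₂ : Ω[X.presheaf.stalk x⁄Γ(S, V)] ≃ₗ[X.presheaf.stalk x]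
      Ω[X.presheaf.stalk x⁄S.presheaf.stalk (h.base x)] :=
    LinearEquiv.ofBijective _ ⟨hinj, hsurj⟩
  refine ⟨Module.Free.of_equiv (e₁.trans e₂), Module.Finite.equiv (e₁.trans e₂), ?_⟩
  rw [← (e₁.trans e₂).finrank_eq, Module.finrank_baseChange, hrank]

/-- A monomorphism between smooth `S`-schemes with equal fibre dimensions is smooth. -/
theorem smooth_of_mono {X Y S : Scheme.{u}} (f : Y ⟶ S) [Smooth f] (g : X ⟶ Y) [Smooth (g ≫ f)]
    [Mono g]
    (hdim : ∀ x : X, FlatMor.fibreDimAt f (g.base x) = FlatMor.fibreDimAt (g ≫ f) x) :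
    Smooth g := by
  haveI : LocallyOfFinitePresentation g :=
    Groth.Agent.Lib.Helper12.FibreDominant.locallyOfFinitePresentation_of_comp g f
  rw [← Scheme.Hom.smoothLocus_eq_top_iff, ← top_le_iff]
  rintro x -
  rw [Scheme.Hom.mem_smoothLocus]
  obtain ⟨n, hn, hfreeC, hfinC, hrankC⟩ := stalk_kaehler (g ≫ f) x
  obtain ⟨m, hm, hfreeB, hfinB, hrankB⟩ := stalk_kaehler f (g.base x)
  have hmn : m = n := by
    have := hdim x
    rw [hm, hn] at this
    exact_mod_cast this
  subst hmn
  letI algAB : Algebra (S.presheaf.stalk (f.base (g.base x))) (Y.presheaf.stalk (g.base x)) :=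
    (f.stalkMap (g.base x)).hom.toAlgebra
  letI algBC : Algebra (Y.presheaf.stalk (g.base x)) (X.presheaf.stalk x) :=
    (g.stalkMap x).hom.toAlgebra
  letI algAC : Algebra (S.presheaf.stalk (f.base (g.base x))) (X.presheaf.stalk x) :=
    ((g ≫ f).stalkMap x).hom.toAlgebra
  haveI : IsScalarTower (S.presheaf.stalk (f.base (g.base x))) (Y.presheaf.stalk (g.base x))
      (X.presheaf.stalk x) := by
    refine IsScalarTower.of_algebraMap_eq (fun a => ?_)
    show ((g ≫ f).stalkMap x).hom a = (g.stalkMap x).hom ((f.stalkMap (g.base x)).hom a)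
    rw [Scheme.Hom.stalkMap_comp]
    rfl
  haveI : Algebra.FormallySmooth (S.presheaf.stalk (f.base (g.base x))) (X.presheaf.stalk x) := by
    have h1 : x ∈ (g ≫ f).smoothLocus := by
      rw [Scheme.Hom.smoothLocus_eq_top]
      trivial
    exact h1
  haveI : FormallyUnramified g := inferInstance
  haveI : Algebra.FormallyUnramified (Y.presheaf.stalk (g.base x)) (X.presheaf.stalk x) :=
    FormallyUnramified.stalkMap g x
  exact formallySmooth_of_kaehler (S.presheaf.stalk (f.base (g.base x)))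
    (Y.presheaf.stalk (g.base x)) (X.presheaf.stalk x) m hfreeB hfinB hrankB hfreeC hfinC hrankC

/-- S4993. -/
theorem isOpenImmersion_iff {X Y S : Scheme.{u}} (f : Y ⟶ S) (h : X ⟶ S)
    [Smooth f] [Smooth h] (g : X ⟶ Y) (w : g ≫ f = h) :
    IsOpenImmersion g ↔
      Mono g ∧ ∀ x : X, FlatMor.fibreDimAt f (g.base x) = FlatMor.fibreDimAt h x := by
  subst w
  constructor
  · intro hg
    refine ⟨inferInstance, fun x => ?_⟩
    exact (Groth.Agent.Lib.Helper12.Equidim.fibreDimAt_comp_openImmersion g f x).symm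
  · rintro ⟨hmono, hdim⟩
    haveI := smooth_of_mono f g hdim
    haveI : LocallyOfFinitePresentation g := inferInstance
    haveI : Flat g := inferInstance
    exact IsOpenImmersion.of_flat_of_mono g

end sch

end Groth.Agent.Lib.Helper22.SmoothMono
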