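import Mathlib
import Groth.Agent.Lib.Helper22.BertiniGenC
import Groth.Agent.Lib.Helper22.SmoothMono
import Groth.Agent.Lib.Helper22.SmoothRelDim
import Groth.Agent.Lib.Helper22.SmoothDim
import Groth.Agent.Lib.Helper22.EtaleDim4
import Groth.Agent.Lib.Helper12.DimFT2
import Groth.Agent.Lib.Helper14.HomogDim

/-!
# Affine Bertini over an arbitrary field: transversality of generic hyperplane sections (helper22)
-/

set_option autoImplicit false
set_option linter.style.haveILetI false
set_option linter.unusedSectionVars false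
universe u
open MvPolynomial TensorProduct CategoryTheory AlgebraicGeometry

namespace Groth.Agent.Lib.Helper22.BertiniGen

open Groth.Agent.Lib.Helper22.BertiniJet Groth.Agent.Lib.Helper12

section ChartQuot

variable (k : Type u) [Field k] (n : ℕ) (R : Type u) [CommRing R]
  [Algebra k R] [Algebra (MvPolynomial (Fin n) k) R] [IsScalarTower k (MvPolynomial (Fin n) k) R]
  [Algebra.Etale (MvPolynomial (Fin n) k) R]

include k in
theorem equidim_quotient [IsDomain R] (I : Ideal R) [I.IsPrincipal] (hne : I ≠ ⊥) :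
    ∀ P ∈ minimalPrimes (R ⧸ I), ∀ _ : P.IsPrime,
      ringKrullDim ((R ⧸ I) ⧸ P) = ((n - 1 : ℕ) : WithBot ℕ∞) := by
  intro P hP hPp
  haveI := finiteType_chart k n R
  haveI : IsNoetherianRing R := Algebra.FiniteType.isNoetherianRing k R
  have hsurj : Function.Surjective (Ideal.Quotient.mk I) := Ideal.Quotient.mk_surjective
  haveI : (P.comap (Ideal.Quotient.mk I)).IsPrime := Ideal.comap_isPrime _ _
  have hmin : P.comap (Ideal.Quotient.mk I) ∈ I.minimalPrimes := by
    have h1 := Ideal.comap_minimalPrimes_eq_of_surjective hsurj (⊥ : Ideal (R ⧸ I))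
    rw [← RingHom.ker_eq_comap_bot, Ideal.mk_ker] at h1
    rw [h1]
    exact ⟨P, hP, rfl⟩
  have hIle : I ≤ P.comap (Ideal.Quotient.mk I) := hmin.1.2
  have hht1 : (P.comap (Ideal.Quotient.mk I)).height ≤ 1 :=
    Ideal.height_le_one_of_isPrincipal_of_mem_minimalPrimes I _ hmin
  have hht0 : (P.comap (Ideal.Quotient.mk I)).height ≠ 0 := by
    intro h0
    rw [Ideal.height_eq_zero_iff_eq_bot] at h0
    rw [h0] at hIle
    exact hne (le_bot_iff.mp hIle)
  let y : PrimeSpectrum R := ⟨P.comap (Ideal.Quotient.mk I), inferInstance⟩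
  have hsum := Groth.Agent.Lib.Helper22.SmoothRelDim.height_add_coheight_of_etale k n R y
  have hy : Order.height y = (P.comap (Ideal.Quotient.mk I)).height :=
    (PrimeSpectrum.height_eq_orderHeight y).symm
  have hht : Order.height y = 1 := by
    rw [hy]
    exact le_antisymm hht1 (ENat.one_le_iff_ne_zero.mpr hht0)
  rw [hht] at hsum
  have hco := DimFT.ringKrullDim_quotient_eq_coheight y
  have hPmap : P = (P.comap (Ideal.Quotient.mk I)).map (Ideal.Quotient.mk I) :=
    (Ideal.map_comap_of_surjective _ hsurj P).symm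
  let e : (R ⧸ I) ⧸ P ≃+* R ⧸ P.comap (Ideal.Quotient.mk I) :=
    (Ideal.quotEquivOfEq hPmap).trans (DoubleQuot.quotQuotEquivQuotOfLE hIle)
  rw [ringKrullDim_eq_of_ringEquiv e]
  have hco' : ringKrullDim (R ⧸ P.comap (Ideal.Quotient.mk I)) =
      (Order.coheight y : WithBot ℕ∞) := hco
  rw [hco']
  have hle : Order.coheight y ≤ (n : ℕ∞) := by
    rw [← hsum]
    exact le_add_self
  obtain ⟨c, hc⟩ := ENat.ne_top_iff_exists.mp (ne_top_of_le_ne_top (ENat.coe_ne_top n) hle)
  rw [← hc] at hsum ⊢
  have h2 : 1 + c = n := by exact_mod_cast hsum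
  have h3 : c = n - 1 := by omega
  rw [h3]
  rfl

theorem smoothOfRelDim_quotient [IsDomain R] (h : R)
    (hJ : Ideal.span (Set.range fun i' => Lam k n R i' h) = ⊤) :
    SmoothOfRelativeDimension (n - 1)
      (Spec.map (CommRingCat.ofHom (algebraMap k (R ⧸ Ideal.span {h})))) := by
  haveI := finiteType_chart k n R
  have hsm : Algebra.Smooth k (R ⧸ Ideal.span {h}) := smooth_quotient_of_span_top k n R h hJ
  have hne : h ≠ 0 := ne_zero_of_span_top k n R h hJ
  haveI : Algebra.FiniteType k (R ⧸ Ideal.span {h}) :=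
    Algebra.FiniteType.of_surjective (Ideal.Quotient.mkₐ k _) (Ideal.Quotient.mkₐ_surjective k _)
  have hequi := equidim_quotient k n R (Ideal.span {h})
    (fun h0 => hne (Ideal.span_singleton_eq_bot.mp h0))
  haveI : Smooth (Spec.map (CommRingCat.ofHom (algebraMap k (R ⧸ Ideal.span {h})))) := by
    rw [HasRingHomProperty.Spec_iff (P := @Smooth)]
    exact RingHom.smooth_algebraMap.mpr hsm
  haveI : Subsingleton ↥(Spec (CommRingCat.of k)) :=
    inferInstanceAs (Subsingleton (PrimeSpectrum k))
  refine ⟨fun x => ?_⟩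
  obtain ⟨m, V, hV, W, hW, hxW, e, hss, hdim⟩ :=
    Groth.Agent.Lib.Helper22.SmoothMono.exists_chart
      (Spec.map (CommRingCat.ofHom (algebraMap k (R ⧸ Ideal.span {h})))) x
  rw [Groth.Agent.Lib.Helper14.HomogDim.fibreDimAt_eq_localDim_of_subsingleton] at hdim
  have h1 : FlatMor.localDim (PrimeSpectrum (R ⧸ Ideal.span {h})) x = _ :=
    DimFT2.localDim_primeSpectrum k (R ⧸ Ideal.span {h}) x
  have h2 := DimFT2.height_add_coheight_of_equidim k (R ⧸ Ideal.span {h}) (n - 1) hequi x
  rw [h2] at h1
  have h3 : ((n - 1 : ℕ) : WithBot ℕ∞) = (m : WithBot ℕ∞) := by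
    rw [← hdim]
    exact h1.symm
  have hm : m = n - 1 := by exact_mod_cast h3.symm
  subst hm
  exact ⟨V, hV, W, hW, hxW, e, hss⟩

end ChartQuot

section Global

variable (k : Type u) [Field k] (A : Type u) [CommRing A] [Algebra k A]

theorem chart_dim_eq [Algebra.FiniteType k A] (r : ℕ)
    (hdim : ∀ P ∈ minimalPrimes A, ringKrullDim (A ⧸ P) = r) (f : A)
    [IsDomain (Localization.Away f)] (n : ℕ)
    [Algebra (MvPolynomial (Fin n) k) (Localization.Away f)]
    [IsScalarTower k (MvPolynomial (Fin n) k) (Localization.Away f)]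
    [Algebra.Etale (MvPolynomial (Fin n) k) (Localization.Away f)] : n = r := by
  let y₀ : PrimeSpectrum (Localization.Away f) := ⟨⊥, Ideal.bot_prime⟩
  have h1 := Groth.Agent.Lib.Helper22.EtaleDim.localDim_eq_of_isOpenEmbedding
    (PrimeSpectrum.comap (algebraMap A (Localization.Away f)))
    (PrimeSpectrum.localization_away_isOpenEmbedding (Localization.Away f) f) y₀
  haveI := finiteType_chart k n (Localization.Away f)
  rw [DimFT2.localDim_primeSpectrum k (Localization.Away f) y₀,
    DimFT2.localDim_primeSpectrum k A _,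
    Groth.Agent.Lib.Helper22.SmoothRelDim.height_add_coheight_of_etale k n (Localization.Away f) y₀,
    DimFT2.height_add_coheight_of_equidim k A r (fun P hP _ => hdim P hP) _] at h1
  exact_mod_cast h1

theorem exists_poly_of_chart {N : ℕ} (x : Fin N → A)
    (hx : Function.Surjective (MvPolynomial.aeval x : MvPolynomial (Fin N) k →ₐ[k] A)) (f : A)
    [IsDomain (Localization.Away f)] (n : ℕ)
    [Algebra (MvPolynomial (Fin n) k) (Localization.Away f)]
    [IsScalarTower k (MvPolynomial (Fin n) k) (Localization.Away f)]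
    [Algebra.Etale (MvPolynomial (Fin n) k) (Localization.Away f)] :
    ∃ q : MvPolynomial (Fin (N + 1)) k, q ≠ 0 ∧ ∀ a : Fin (N + 1) → k, eval a q ≠ 0 →
      Ideal.span (Set.range fun i' => Lam k n (Localization.Away f) i'
        (algebraMap A (Localization.Away f)
          (algebraMap k A (a 0) + ∑ i : Fin N, algebraMap k A (a i.succ) * x i))) = ⊤ := by
  let aR : Fin (N + 1) → Localization.Away f :=
    Fin.cases 1 (fun i => algebraMap A (Localization.Away f) (x i))
  have hspan : Submodule.span (Localization.Away f) (Set.range fun i : Fin N =>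
      KaehlerDifferential.D k (Localization.Away f) (aR i.succ)) = ⊤ := by
    simp only [aR, Fin.cases_succ]
    exact span_D_of_isLocalization k A (Localization.Away f) (Submonoid.powers f) x
      (span_D_of_aeval_surjective k A x hx)
  obtain ⟨H, hH⟩ := exists_rightInverse k n (Localization.Away f) aR rfl hspan
  obtain ⟨q, hq0, hq⟩ := exists_poly_chart_gen k n (Localization.Away f) aR 0 H hH
  refine ⟨q, hq0, fun a ha => ?_⟩
  have h1 := hq a ha
  have h2 : (0 : Localization.Away f) + ∑ i, algebraMap k (Localization.Away f) (a i) * aR i =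
      algebraMap A (Localization.Away f)
        (algebraMap k A (a 0) + ∑ i : Fin N, algebraMap k A (a i.succ) * x i) := by
    rw [zero_add, Fin.sum_univ_succ, map_add, map_sum]
    simp only [aR, Fin.cases_zero, Fin.cases_succ, mul_one, map_mul,
      ← IsScalarTower.algebraMap_apply]
  rw [h2] at h1
  exact h1

theorem exists_ringEquiv_away_quotient (f h : A) :
    ∃ e : (Localization.Away f ⧸ Ideal.span {algebraMap A (Localization.Away f) h}) ≃+*
        Localization.Away (Ideal.Quotient.mk (Ideal.span {h}) f),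
      ∀ c : k, e (algebraMap k _ c) = algebraMap k _ c := by
  have hIJ : (Ideal.span {h}).map (algebraMap A (Localization.Away f)) =
      Ideal.span {algebraMap A (Localization.Away f) h} := by
    rw [Ideal.map_span, Set.image_singleton]
  haveI inst : IsLocalization (Algebra.algebraMapSubmonoid (A ⧸ Ideal.span {h})
      (Submonoid.powers f))
      (Localization.Away f ⧸ (Ideal.span {h}).map (algebraMap A (Localization.Away f))) :=
    inferInstance
  haveI : IsLocalization.Away (Ideal.Quotient.mk (Ideal.span {h}) f)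
      (Localization.Away f ⧸ (Ideal.span {h}).map (algebraMap A (Localization.Away f))) := by
    rw [IsLocalization.Away]
    rw [Algebra.algebraMapSubmonoid_powers] at inst
    exact inst
  let e₁ : Localization.Away (Ideal.Quotient.mk (Ideal.span {h}) f) ≃ₐ[A ⧸ Ideal.span {h}]
      (Localization.Away f ⧸ (Ideal.span {h}).map (algebraMap A (Localization.Away f))) :=
    IsLocalization.algEquiv (Submonoid.powers (Ideal.Quotient.mk (Ideal.span {h}) f)) _ _
  let e₂ : (Localization.Away f ⧸ (Ideal.span {h}).map (algebraMap A (Localization.Away f))) ≃+*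
      (Localization.Away f ⧸ Ideal.span {algebraMap A (Localization.Away f) h}) :=
    Ideal.quotEquivOfEq hIJ
  refine ⟨e₂.symm.trans e₁.symm.toRingEquiv, fun c => ?_⟩
  have h1 : algebraMap k (Localization.Away f ⧸
      Ideal.span {algebraMap A (Localization.Away f) h}) c =
      e₂ (algebraMap (A ⧸ Ideal.span {h}) _ (algebraMap k (A ⧸ Ideal.span {h}) c)) := by
    rw [IsScalarTower.algebraMap_apply k A (A ⧸ Ideal.span {h}), Ideal.Quotient.algebraMap_eq,
      Ideal.Quotient.algebraMap_quotient_map_quotient, Ideal.quotEquivOfEq_mk,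
      ← IsScalarTower.algebraMap_apply k A (Localization.Away f)]
    rfl
  rw [h1]
  show e₁.symm (e₂.symm (e₂ _)) = _
  rw [RingEquiv.symm_apply_apply, AlgEquiv.commutes, ← IsScalarTower.algebraMap_apply]

theorem smoothOfRelDim_chart [Algebra.FiniteType k A] (r : ℕ)
    (hdim : ∀ P ∈ minimalPrimes A, ringKrullDim (A ⧸ P) = r) (f : A)
    [IsDomain (Localization.Away f)] (n : ℕ)
    [Algebra (MvPolynomial (Fin n) k) (Localization.Away f)]
    [IsScalarTower k (MvPolynomial (Fin n) k) (Localization.Away f)]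
    [Algebra.Etale (MvPolynomial (Fin n) k) (Localization.Away f)] (h : A)
    (hspan : Ideal.span (Set.range fun i' => Lam k n (Localization.Away f) i'
      (algebraMap A (Localization.Away f) h)) = ⊤) :
    SmoothOfRelativeDimension (r - 1) (Spec.map (CommRingCat.ofHom
      (algebraMap k (Localization.Away (Ideal.Quotient.mk (Ideal.span {h}) f))))) := by
  have hn := chart_dim_eq k A r hdim f n
  subst hn
  have h1 := smoothOfRelDim_quotient k n (Localization.Away f)
    (algebraMap A (Localization.Away f) h) hspan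
  obtain ⟨e, he⟩ := exists_ringEquiv_away_quotient k A f h
  have h2 : Spec.map (CommRingCat.ofHom
      (algebraMap k (Localization.Away (Ideal.Quotient.mk (Ideal.span {h}) f)))) =
      Spec.map (CommRingCat.ofHom e.toRingHom) ≫ Spec.map (CommRingCat.ofHom
        (algebraMap k (Localization.Away f ⧸
          Ideal.span {algebraMap A (Localization.Away f) h}))) := by
    rw [← Spec.map_comp, ← CommRingCat.ofHom_comp]
    congr 2
    ext c
    exact (he c).symm
  rw [h2]
  haveI : IsIso (CommRingCat.ofHom e.toRingHom) := (e.toCommRingCatIso).isIso_hom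
  haveI : IsIso (Spec.map (CommRingCat.ofHom e.toRingHom)) := inferInstance
  exact (MorphismProperty.cancel_left_of_respectsIso
    (P := @SmoothOfRelativeDimension (n - 1)) _ _).mpr h1

/-- **Affine Bertini** over an arbitrary field: for `A = k[x_1, …, x_N]/I` of pure dimension `r`,
a generic hyperplane section `a_0 + ∑ a_i x_i = 0` is smooth of relative dimension `r - 1` at every
point lying in the smooth locus of `A`. -/
theorem main {N : ℕ} (r : ℕ) (x : Fin N → A)
    (hx : Function.Surjective (MvPolynomial.aeval x : MvPolynomial (Fin N) k →ₐ[k] A))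
    (hdim : ∀ P ∈ minimalPrimes A, ringKrullDim (A ⧸ P) = r) :
    ∃ g : MvPolynomial (Fin (N + 1)) k, g ≠ 0 ∧ ∀ a : Fin (N + 1) → k, eval a g ≠ 0 →
      ∀ (q : Ideal (A ⧸ Ideal.span
          {algebraMap k A (a 0) + ∑ i : Fin N, algebraMap k A (a i.succ) * x i}))
        (_ : q.IsPrime),
        (∃ f : A, f ∉ q.comap (Ideal.Quotient.mk _) ∧
          Smooth (Spec.map (CommRingCat.ofHom (algebraMap k (Localization.Away f))))) →
        ∃ f : A ⧸ Ideal.span
            {algebraMap k A (a 0) + ∑ i : Fin N, algebraMap k A (a i.succ) * x i},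
          f ∉ q ∧ SmoothOfRelativeDimension (r - 1)
            (Spec.map (CommRingCat.ofHom (algebraMap k (Localization.Away f)))) := by
  classical
  haveI : Algebra.FiniteType k A := Algebra.FiniteType.of_surjective _ hx
  haveI : Algebra.FinitePresentation k A :=
    Algebra.FinitePresentation.of_finiteType.mp inferInstance
  haveI : IsNoetherianRing A := Algebra.FiniteType.isNoetherianRing k A
  have hpt : ∀ p : PrimeSpectrum A, p ∈ Algebra.smoothLocus k A → ∃ f : A, f ∉ p.asIdeal ∧
      ∃ q : MvPolynomial (Fin (N + 1)) k, q ≠ 0 ∧ ∀ a : Fin (N + 1) → k, eval a q ≠ 0 →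
        SmoothOfRelativeDimension (r - 1) (Spec.map (CommRingCat.ofHom
          (algebraMap k (Localization.Away (Ideal.Quotient.mk (Ideal.span
            {algebraMap k A (a 0) + ∑ i : Fin N, algebraMap k A (a i.succ) * x i}) f))))) := by
    intro p hp
    haveI : Algebra.IsSmoothAt k p.asIdeal := hp
    obtain ⟨f, hfp, hdom, n, alg, tow, et⟩ := exists_chart k A p.asIdeal
    letI := alg
    haveI := tow
    haveI := et
    haveI := hdom
    obtain ⟨q, hq0, hq⟩ := exists_poly_of_chart k A x hx f n
    exact ⟨f, hfp, q, hq0, fun a ha => smoothOfRelDim_chart k A r hdim f n _ (hq a ha)⟩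
  choose f hf q hq0 hq using hpt
  let ι := {p : PrimeSpectrum A // p ∈ Algebra.smoothLocus k A}
  have hcomp : IsCompact (Algebra.smoothLocus k A) :=
    TopologicalSpace.NoetherianSpace.isCompact _
  let U : ι → Set (PrimeSpectrum A) := fun p =>
    ((PrimeSpectrum.basicOpen (f p.1 p.2) : TopologicalSpace.Opens (PrimeSpectrum A)) :
      Set (PrimeSpectrum A))
  have hUo : ∀ p : ι, IsOpen (U p) := fun p => (PrimeSpectrum.basicOpen (f p.1 p.2)).2
  have hUc : Algebra.smoothLocus k A ⊆ ⋃ p : ι, U p :=
    fun p hp => Set.mem_iUnion.mpr ⟨⟨p, hp⟩, hf p hp⟩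
  obtain ⟨t, ht⟩ := hcomp.elim_finite_subcover U hUo hUc
  refine ⟨∏ p ∈ t, q p.1 p.2, Finset.prod_ne_zero_iff.mpr (fun p _ => hq0 p.1 p.2),
    fun a ha Q hQ hsm => ?_⟩
  rw [map_prod] at ha
  have ha' : ∀ p ∈ t, eval a (q p.1 p.2) ≠ 0 := fun p hp => Finset.prod_ne_zero_iff.mp ha p hp
  obtain ⟨f₀, hf₀, hsm₀⟩ := hsm
  haveI := hQ
  haveI : (Q.comap (Ideal.Quotient.mk (Ideal.span
      {algebraMap k A (a 0) + ∑ i : Fin N, algebraMap k A (a i.succ) * x i}))).IsPrime :=
    Ideal.comap_isPrime _ _
  let Q' : PrimeSpectrum A := ⟨Q.comap (Ideal.Quotient.mk _), inferInstance⟩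
  have hQ'sm : Q' ∈ Algebra.smoothLocus k A := by
    rw [HasRingHomProperty.Spec_iff (P := @Smooth)] at hsm₀
    have h1 : Algebra.Smooth k (Localization.Away f₀) := RingHom.smooth_algebraMap.mp hsm₀
    have h2 := Algebra.basicOpen_subset_smoothLocus_iff_smooth.mpr h1
    exact h2 hf₀
  have h3 := ht hQ'sm
  rw [Set.mem_iUnion₂] at h3
  obtain ⟨p, hpt', hQp⟩ := h3
  refine ⟨Ideal.Quotient.mk _ (f p.1 p.2), fun hmem => hQp hmem, hq p.1 p.2 a (ha' p hpt')⟩

end Global

end Groth.Agent.Lib.Helper22.BertiniGen
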