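import Mathlib
import Groth.Agent.Lib.Helper22.BertiniGenD

/-!
# Smooth hyperplane sections over an infinite field: the algebra on a chart (helper22)
-/

set_option autoImplicit false
set_option linter.style.haveILetI false
set_option linter.unusedSectionVars false
universe u
open CategoryTheory AlgebraicGeometry MvPolynomial

namespace Groth.Agent.Lib.Helper22.BertiniHyp

section Alg

variable (k : Type u) [Field k] (A : Type u) [CommRing A] [Algebra k A]

theorem exists_nat_dim [Nontrivial A] {N : ℕ} (x : Fin N → A)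
    (hx : Function.Surjective (aeval x : MvPolynomial (Fin N) k →ₐ[k] A)) :
    ∃ r : ℕ, ringKrullDim A = r := by
  have h1 : ringKrullDim A ≤ ringKrullDim (MvPolynomial (Fin N) k) :=
    ringKrullDim_le_of_surjective (aeval x : MvPolynomial (Fin N) k →ₐ[k] A).toRingHom hx
  rw [MvPolynomial.ringKrullDim_of_isNoetherianRing, ringKrullDim_eq_zero_of_field, zero_add,
    Nat.card_eq_fintype_card, Fintype.card_fin] at h1
  have h0 : (0 : WithBot ℕ∞) ≤ ringKrullDim A := ringKrullDim_nonneg_of_nontrivial
  generalize ringKrullDim A = d at h0 h1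
  induction d using WithBot.recBotCoe with
  | bot => simp at h0
  | coe e =>
    have h2 : e ≤ (N : ℕ∞) := by exact_mod_cast h1
    obtain ⟨r, hr⟩ := ENat.ne_top_iff_exists.mp (ne_top_of_le_ne_top (ENat.coe_ne_top N) h2)
    exact ⟨r, by rw [← hr]; rfl⟩

/-- All primes in the smooth locus implies smooth. -/
theorem smooth_of_forall_prime [Algebra.FinitePresentation k A]
    (h : ∀ (q : Ideal A) (_ : q.IsPrime), ∃ f : A, f ∉ q ∧
      Smooth (Spec.map (CommRingCat.ofHom (algebraMap k (Localization.Away f))))) :
    Algebra.Smooth k A := by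
  have h1 : Algebra.smoothLocus k A = Set.univ := by
    rw [Set.eq_univ_iff_forall]
    intro q
    obtain ⟨f, hfq, hsm⟩ := h q.asIdeal q.2
    rw [HasRingHomProperty.Spec_iff (P := @Smooth)] at hsm
    have h2 : Algebra.Smooth k (Localization.Away f) := RingHom.smooth_algebraMap.mp hsm
    exact (Algebra.basicOpen_subset_smoothLocus_iff_smooth.mpr h2) hfq
  rw [Algebra.smoothLocus_eq_univ_iff] at h1
  exact ⟨h1, inferInstance⟩

/-- Chart form of Bertini over any field: for a smooth `k`-algebra `A` (a domain, or zero)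
generated by `x_0, …, x_n` with `x_j = 1`, a generic `k`-linear combination of the `x_i`
has smooth quotient. -/
theorem exists_poly_chart_alg [Algebra.Smooth k A] (hdom : IsDomain A ∨ Subsingleton A) {n : ℕ}
    (x : Fin (n + 1) → A) (j : Fin (n + 1)) (hxj : x j = 1)
    (hadj : Algebra.adjoin k (Set.range x) = ⊤) :
    ∃ g : MvPolynomial (Fin (n + 1)) k, g ≠ 0 ∧ ∀ a : Fin (n + 1) → k, eval a g ≠ 0 →
      Algebra.Smooth k (A ⧸ Ideal.span {∑ i, algebraMap k A (a i) * x i}) := by
  classical
  let x' : Fin n → A := fun i => x (j.succAbove i)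
  have hx' : Function.Surjective (aeval x' : MvPolynomial (Fin n) k →ₐ[k] A) := by
    rw [← AlgHom.range_eq_top, ← Algebra.adjoin_range_eq_range_aeval, eq_top_iff, ← hadj]
    apply Algebra.adjoin_le
    rintro _ ⟨i, rfl⟩
    rcases Fin.eq_self_or_eq_succAbove j i with h | ⟨i', h⟩
    · rw [h, hxj]
      exact one_mem _
    · rw [h]
      exact Algebra.subset_adjoin ⟨i', rfl⟩
  obtain ⟨r, hdim⟩ : ∃ r : ℕ, ∀ P ∈ minimalPrimes A, ringKrullDim (A ⧸ P) = r := by
    rcases hdom with hd | hs
    · haveI := hd
      obtain ⟨r, hr⟩ := exists_nat_dim k A x' hx'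
      refine ⟨r, fun P hP => ?_⟩
      have hP0 : P = ⊥ := by
        rw [IsDomain.minimalPrimes_eq_singleton_bot] at hP
        exact hP
      rw [hP0, ← hr]
      exact ringKrullDim_eq_of_ringEquiv (RingEquiv.quotientBot A)
    · refine ⟨0, fun P hP => ?_⟩
      exfalso
      exact hP.1.1.ne_top (Subsingleton.elim _ _)
  obtain ⟨g, hg0, hg⟩ := BertiniGen.main k A r x' hx' hdim
  let σ : Fin (n + 1) → Fin (n + 1) := Fin.cases j j.succAbove
  have hσ : Function.Injective σ := by
    intro u v huv
    induction u using Fin.cases with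
    | zero =>
      induction v using Fin.cases with
      | zero => rfl
      | succ v =>
        simp only [σ, Fin.cases_zero, Fin.cases_succ] at huv
        exact absurd huv.symm (Fin.succAbove_ne j v)
    | succ u =>
      induction v using Fin.cases with
      | zero =>
        simp only [σ, Fin.cases_zero, Fin.cases_succ] at huv
        exact absurd huv (Fin.succAbove_ne j u)
      | succ v =>
        simp only [σ, Fin.cases_succ] at huv
        rw [Fin.succAbove_right_injective huv]
  refine ⟨rename σ g, fun h0 => hg0 (rename_injective σ hσ (by rw [h0, map_zero])),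
    fun a ha => ?_⟩
  rw [eval_rename] at ha
  have hh : algebraMap k A ((a ∘ σ) 0) + ∑ i : Fin n, algebraMap k A ((a ∘ σ) i.succ) * x' i =
      ∑ i, algebraMap k A (a i) * x i := by
    rw [Fin.sum_univ_succAbove _ j, hxj, mul_one]
    rfl
  have key := hg (a ∘ σ) ha
  rw [hh] at key
  haveI : Algebra.FiniteType k A := Algebra.FiniteType.of_surjective _ hx'
  haveI : Algebra.FinitePresentation k A :=
    Algebra.FinitePresentation.of_finiteType.mp inferInstance
  haveI : Algebra.FinitePresentation k (A ⧸ Ideal.span {∑ i, algebraMap k A (a i) * x i}) :=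
    Algebra.FinitePresentation.quotient (Submodule.fg_span_singleton _)
  apply smooth_of_forall_prime
  intro q hq
  have h1 : Algebra.Smooth k (Localization.Away (1 : A)) :=
    Algebra.basicOpen_subset_smoothLocus_iff_smooth.mp
      (by rw [Algebra.smoothLocus_eq_univ]; exact Set.subset_univ _)
  have h2 : (1 : A) ∉ q.comap
      (Ideal.Quotient.mk (Ideal.span {∑ i, algebraMap k A (a i) * x i})) := by
    intro h1q
    haveI : (q.comap (Ideal.Quotient.mk (Ideal.span {∑ i, algebraMap k A (a i) * x i}))).IsPrime :=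
      Ideal.comap_isPrime _ _
    exact Ideal.IsPrime.ne_top inferInstance ((Ideal.eq_top_iff_one _).mpr h1q)
  have h3 : Smooth (Spec.map (CommRingCat.ofHom (algebraMap k (Localization.Away (1 : A))))) := by
    rw [HasRingHomProperty.Spec_iff (P := @Smooth)]
    exact RingHom.smooth_algebraMap.mpr h1
  obtain ⟨f', hf', hsm⟩ := key q hq ⟨1, h2, h3⟩
  exact ⟨f', hf', hsm.smooth⟩

/-- A generic linear combination of `x_0, …, x_n` (with `x_j = 1`) is nonzero. -/
theorem exists_poly_ne_zero [Nontrivial A] {n : ℕ} (x : Fin (n + 1) → A) (j : Fin (n + 1))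
    (hxj : x j = 1) :
    ∃ g : MvPolynomial (Fin (n + 1)) k, g ≠ 0 ∧ ∀ a : Fin (n + 1) → k, eval a g ≠ 0 →
      ∑ i, algebraMap k A (a i) * x i ≠ 0 := by
  classical
  let T : (Fin (n + 1) → k) →ₗ[k] A :=
    { toFun := fun a => ∑ i, algebraMap k A (a i) * x i
      map_add' := fun a b => by
        simp only [Pi.add_apply, map_add, add_mul, Finset.sum_add_distrib]
      map_smul' := fun c a => by
        simp only [Pi.smul_apply, smul_eq_mul, map_mul, RingHom.id_apply, Finset.mul_sum,
          Algebra.smul_def, mul_assoc] }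
  have hT : LinearMap.ker T < ⊤ := by
    rw [lt_top_iff_ne_top]
    intro h
    have h1 : Pi.single j (1 : k) ∈ LinearMap.ker T := by rw [h]; trivial
    rw [LinearMap.mem_ker] at h1
    have h2 : T (Pi.single j (1 : k)) = 1 := by
      show ∑ i, algebraMap k A ((Pi.single j (1 : k) : Fin (n + 1) → k) i) * x i = 1
      rw [Finset.sum_eq_single j]
      · rw [Pi.single_eq_same, map_one, one_mul, hxj]
      · intro i _ hi
        rw [Pi.single_eq_of_ne hi, map_zero, zero_mul]
      · intro hj
        exact absurd (Finset.mem_univ j) hj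
    rw [h2] at h1
    exact one_ne_zero h1
  obtain ⟨φ, hφ0, hφ⟩ := Submodule.exists_le_ker_of_lt_top _ hT
  have heval : ∀ a : Fin (n + 1) → k,
      eval a (∑ i, C (φ (fun j => if i = j then 1 else 0)) * X i :
        MvPolynomial (Fin (n + 1)) k) = φ a := by
    intro a
    rw [map_sum, φ.pi_apply_eq_sum_univ a]
    apply Finset.sum_congr rfl
    intro i _
    rw [map_mul, eval_C, eval_X, smul_eq_mul, mul_comm]
  refine ⟨∑ i, C (φ (fun j => if i = j then 1 else 0)) * X i, fun h0 => hφ0 ?_,
    fun a ha h => ha ?_⟩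
  · apply LinearMap.ext
    intro a
    rw [← heval a, h0, map_zero, LinearMap.zero_apply]
  · rw [heval a]
    exact hφ (LinearMap.mem_ker.mpr h)

end Alg

end Groth.Agent.Lib.Helper22.BertiniHyp
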