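import Mathlib
import Groth.Agent.Lib.Helper22.BertiniJetB

/-!
# Bertini via jets: algebraic statement for smooth domains (helper22)

`exists_poly_chart_sq`: variant of `exists_poly_chart` concluding that the generic combination does
not lie in the square of any maximal ideal.  `exists_poly_smooth`: the same for an arbitrary smooth
domain over an algebraically closed field (covering by étale charts).  `jets_of_adjoin`: the jet
hypothesis for a family of algebra generators containing `1`.
-/

set_option autoImplicit false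
set_option linter.style.haveILetI false
set_option linter.unusedSectionVars false
universe u
open MvPolynomial TensorProduct

namespace Groth.Agent.Lib.Helper22.BertiniJet

section MainC

variable (k : Type u) [Field k] [IsAlgClosed k] (n : ℕ) (R : Type u) [CommRing R] [IsDomain R]
  [Algebra k R] [Algebra (MvPolynomial (Fin n) k) R] [IsScalarTower k (MvPolynomial (Fin n) k) R]
  [Algebra.Etale (MvPolynomial (Fin n) k) R]

include n in
theorem exists_poly_chart_sq {m : ℕ} (a : Fin m → R) (f : R)
    (hjet : ∀ M : Ideal R, M.IsMaximal → ∀ l : R, ∃ c : Fin m → k,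
      ∑ i, algebraMap k R (c i) * a i - l ∈ M ^ 2) :
    ∃ q : MvPolynomial (Fin m) k, q ≠ 0 ∧ ∀ c : Fin m → k, eval c q ≠ 0 →
      ∀ M : Ideal R, M.IsMaximal → f + ∑ i, algebraMap k R (c i) * a i ∉ M ^ 2 := by
  classical
  haveI := finiteType_chart k n R
  haveI := finitePresentation_chart k n R
  haveI := formallySmooth_chart k n R
  have hpt : ∀ φ₀ : R →ₐ[k] k, ∃ δ : R, φ₀ δ ≠ 0 ∧ ∃ q : MvPolynomial (Fin m) k, q ≠ 0 ∧
      ∀ φ : R →ₐ[k] k, φ δ ≠ 0 → ∀ c : Fin m → k,
        (∀ i', ∑ i, c i * φ (Lam k n R i' (a i)) + φ (Lam k n R i' f) = 0) → eval c q = 0 := by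
    intro φ₀
    refine exists_elim (ρ := Option (Fin n)) n (by simp)
      (fun δ hδ => ringKrullDim_away k n R δ hδ)
      (fun i' i => Lam k n R i' (a i)) (fun i' => Lam k n R i' f) φ₀ ?_
    intro w
    have hM : (RingHom.ker (φ₀ : R →+* k)).IsMaximal :=
      RingHom.ker_isMaximal_of_surjective _ (fun x => ⟨algebraMap k R x, φ₀.commutes x⟩)
    let l : R := algebraMap k R (w none - ∑ j, w (some j) * φ₀ (xx k n R j)) +
      ∑ j, algebraMap k R (w (some j)) * xx k n R j
    obtain ⟨c, hc⟩ := hjet _ hM l
    refine ⟨c, fun i' => ?_⟩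
    have hLam : φ₀ (Lam k n R i' (∑ i, algebraMap k R (c i) * a i - l)) = 0 := by
      cases i' with
      | none => exact (Ideal.pow_le_self two_ne_zero hc : _ ∈ RingHom.ker (φ₀ : R →+* k))
      | some j => exact algHom_derivation_eq_zero_of_mem_sq φ₀ (partialDer k n R j) _ hc
    rw [map_sub, Lam_comb, map_sub, map_sum, sub_eq_zero] at hLam
    have h2 : φ₀ (Lam k n R i' l) = w i' := by
      cases i' with
      | none =>
        show φ₀ l = w none
        simp only [l, map_add, map_sum, map_mul, AlgHom.commutes, Algebra.algebraMap_self,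
          RingHom.id_apply]
        ring
      | some j =>
        show φ₀ (partialDer k n R j l) = w (some j)
        have : partialDer k n R j l = algebraMap k R (w (some j)) := by
          simp only [l, map_add, map_sum, Derivation.map_algebraMap, zero_add]
          rw [Finset.sum_eq_single j]
          · rw [← Algebra.smul_def, Derivation.map_smul, partialDer_xx, if_pos rfl,
              Algebra.smul_def, mul_one]
          · intro j' _ hj'
            rw [← Algebra.smul_def, Derivation.map_smul, partialDer_xx, if_neg (Ne.symm hj'),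
              smul_zero]
          · intro h
            exact absurd (Finset.mem_univ j) h
        rw [this, AlgHom.commutes]
        rfl
    rw [← h2, ← hLam]
    apply Finset.sum_congr rfl
    intro i _
    rw [map_smul, smul_eq_mul]
  choose δ hδ q hq0 hq using hpt
  have htop : Ideal.span (Set.range δ) = ⊤ := by
    by_contra hne
    obtain ⟨M, hM, hle⟩ := Ideal.exists_le_maximal _ hne
    haveI := hM
    obtain ⟨φ, hφ⟩ := exists_algHom_of_isMaximal k R M
    have : δ φ ∈ M := hle (Ideal.subset_span ⟨φ, rfl⟩)
    rw [← hφ] at this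
    exact hδ φ this
  obtain ⟨s', hs'sub, hs'top⟩ := (Ideal.span_eq_top_iff_finite _).mp htop
  have hch : ∀ d : s', ∃ φ₀ : R →ₐ[k] k, δ φ₀ = d.1 := fun d => hs'sub d.2
  choose φs hφs using hch
  refine ⟨∏ d : s', q (φs d), Finset.prod_ne_zero_iff.mpr (fun d _ => hq0 _), fun c hc => ?_⟩
  rw [map_prod] at hc
  have hc' : ∀ d : s', eval c (q (φs d)) ≠ 0 :=
    fun d => Finset.prod_ne_zero_iff.mp hc d (Finset.mem_univ d)
  intro M hM hmem
  haveI := hM
  obtain ⟨φ, hφ⟩ := exists_algHom_of_isMaximal k R M
  have hex : ∃ d : s', φ d.1 ≠ 0 := by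
    by_contra hall
    push Not at hall
    have : Ideal.span (s' : Set R) ≤ M :=
      Ideal.span_le.mpr (fun d hd => by rw [← hφ]; exact hall ⟨d, hd⟩)
    rw [hs'top] at this
    exact hM.ne_top (top_le_iff.mp this)
  obtain ⟨d, hd⟩ := hex
  apply hc' d
  apply hq (φs d) φ (by rw [hφs d]; exact hd) c
  intro i'
  have h1' : φ (Lam k n R i' (f + ∑ i, algebraMap k R (c i) * a i)) = 0 := by
    cases i' with
    | none =>
      have : f + ∑ i, algebraMap k R (c i) * a i ∈ RingHom.ker (φ : R →+* k) := by
        rw [hφ]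
        exact Ideal.pow_le_self two_ne_zero hmem
      exact this
    | some j =>
      refine algHom_derivation_eq_zero_of_mem_sq φ (partialDer k n R j) _ ?_
      rw [hφ]
      exact hmem
  rw [map_add, Lam_comb, map_add, map_sum] at h1'
  rw [add_comm, ← h1']
  congr 1
  apply Finset.sum_congr rfl
  intro i _
  rw [map_smul, smul_eq_mul]

end MainC

theorem jets_of_adjoin (k : Type u) [Field k] [IsAlgClosed k] (R : Type u) [CommRing R]
    [Algebra k R] {m : ℕ} (a : Fin m → R) (i₀ : Fin m) (h1 : a i₀ = 1)
    (hgen : Algebra.adjoin k (Set.range a) = ⊤) (M : Ideal R) (hM : M.IsMaximal) (l : R) :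
    ∃ c : Fin m → k, ∑ i, algebraMap k R (c i) * a i - l ∈ M ^ 2 := by
  classical
  haveI : Algebra.FiniteType k R :=
    ⟨⟨Finset.univ.image a, by
      rw [Finset.coe_image, Finset.coe_univ, Set.image_univ]; exact hgen⟩⟩
  haveI := hM
  obtain ⟨φ, hφ⟩ := exists_algHom_of_isMaximal k R M
  have hmemM : ∀ u : R, u - algebraMap k R (φ u) ∈ M := by
    intro u
    rw [← hφ, RingHom.mem_ker]
    show φ (u - algebraMap k R (φ u)) = 0
    rw [map_sub, AlgHom.commutes]
    exact sub_self _
  have hl : l ∈ Algebra.adjoin k (Set.range a) := by rw [hgen]; trivial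
  induction hl using Algebra.adjoin_induction with
  | mem x hx =>
    obtain ⟨i, rfl⟩ := hx
    refine ⟨Pi.single i 1, ?_⟩
    rw [Finset.sum_eq_single i]
    · simp
    · intro j _ hj; simp [Pi.single_eq_of_ne hj]
    · intro h; exact absurd (Finset.mem_univ i) h
  | algebraMap r =>
    refine ⟨Pi.single i₀ r, ?_⟩
    rw [Finset.sum_eq_single i₀]
    · simp [h1]
    · intro j _ hj; simp [Pi.single_eq_of_ne hj]
    · intro h; exact absurd (Finset.mem_univ i₀) h
  | add x y _ _ hx hy =>
    obtain ⟨c, hc⟩ := hx
    obtain ⟨c', hc'⟩ := hy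
    refine ⟨c + c', ?_⟩
    have : ∑ i, algebraMap k R ((c + c') i) * a i - (x + y) =
        (∑ i, algebraMap k R (c i) * a i - x) + (∑ i, algebraMap k R (c' i) * a i - y) := by
      simp only [Pi.add_apply, map_add, add_mul, Finset.sum_add_distrib]
      ring
    rw [this]
    exact Ideal.add_mem _ hc hc'
  | mul x y _ _ hx hy =>
    obtain ⟨c, hc⟩ := hx
    obtain ⟨c', hc'⟩ := hy
    set L := ∑ i, algebraMap k R (c i) * a i with hL
    set L' := ∑ i, algebraMap k R (c' i) * a i with hL'
    refine ⟨fun i => φ L * c' i + φ L' * c i - (if i = i₀ then φ L * φ L' else 0), ?_⟩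
    have e : ∑ i, algebraMap k R
        (φ L * c' i + φ L' * c i - (if i = i₀ then φ L * φ L' else 0)) * a i =
        algebraMap k R (φ L) * L' + algebraMap k R (φ L') * L -
          algebraMap k R (φ L) * algebraMap k R (φ L') := by
      simp only [map_sub, map_add, map_mul, sub_mul, add_mul, Finset.sum_sub_distrib,
        Finset.sum_add_distrib, hL, hL', Finset.mul_sum]
      congr 1
      · congr 1 <;> (apply Finset.sum_congr rfl; intro i _; ring)
      · rw [Finset.sum_eq_single i₀]
        · simp [h1]
        · intro j _ hj; simp [hj]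
        · intro h; exact absurd (Finset.mem_univ i₀) h
    rw [e]
    have key : algebraMap k R (φ L) * L' + algebraMap k R (φ L') * L -
        algebraMap k R (φ L) * algebraMap k R (φ L') - x * y =
        -((L - algebraMap k R (φ L)) * (L' - algebraMap k R (φ L'))) +
          (L * (L' - y) + y * (L - x)) := by ring
    rw [key]
    refine Ideal.add_mem _ ((Ideal.neg_mem_iff _).mpr ?_)
      (Ideal.add_mem _ (Ideal.mul_mem_left _ _ hc') (Ideal.mul_mem_left _ _ hc))
    rw [pow_two]
    exact Ideal.mul_mem_mul (hmemM L) (hmemM L')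

theorem jets_away (k : Type u) [Field k] [IsAlgClosed k] (R : Type u) [CommRing R]
    [Algebra k R] [Algebra.FiniteType k R] (g : R) {m : ℕ} (a : Fin m → R)
    (hjet : ∀ M : Ideal R, M.IsMaximal → ∀ l : R, ∃ c : Fin m → k,
      ∑ i, algebraMap k R (c i) * a i - l ∈ M ^ 2)
    (M' : Ideal (Localization.Away g)) (hM' : M'.IsMaximal) (l' : Localization.Away g) :
    ∃ c : Fin m → k, ∑ i, algebraMap k (Localization.Away g) (c i) *
      algebraMap R (Localization.Away g) (a i) - l' ∈ M' ^ 2 := by
  haveI : Algebra.FiniteType R (Localization.Away g) :=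
    IsLocalization.finiteType_of_monoid_fg (Submonoid.powers g) _
  haveI : Algebra.FiniteType k (Localization.Away g) :=
    Algebra.FiniteType.trans (S := R) inferInstance inferInstance
  haveI := hM'
  obtain ⟨φ', hφ'⟩ := exists_algHom_of_isMaximal k (Localization.Away g) M'
  let φ : R →ₐ[k] k := φ'.comp (IsScalarTower.toAlgHom k R (Localization.Away g))
  have hM : (RingHom.ker (φ : R →+* k)).IsMaximal :=
    RingHom.ker_isMaximal_of_surjective _ (fun x => ⟨algebraMap k R x, φ.commutes x⟩)
  set lam := φ g with hlam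
  have hlam0 : lam ≠ 0 := by
    have hu : IsUnit (algebraMap R (Localization.Away g) g) :=
      IsLocalization.Away.algebraMap_isUnit g
    exact (hu.map φ').ne_zero
  obtain ⟨⟨r, ⟨_, N, rfl⟩⟩, hr⟩ := IsLocalization.surj (Submonoid.powers g) l'
  let e : R := algebraMap k R lam⁻¹ * g
  let w : R := algebraMap k R lam⁻¹ * (2 - e)
  have he : 1 - e ∈ RingHom.ker (φ : R →+* k) := by
    rw [RingHom.mem_ker]
    show φ (1 - algebraMap k R lam⁻¹ * g) = 0
    rw [map_sub, map_one, map_mul, AlgHom.commutes, ← hlam]
    simp [hlam0]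
  have hw : g * w - 1 ∈ (RingHom.ker (φ : R →+* k)) ^ 2 := by
    have : g * w - 1 = -((1 - e) * (1 - e)) := by simp only [w, e]; ring
    rw [this, pow_two]
    exact (Ideal.neg_mem_iff _).mpr (Ideal.mul_mem_mul he he)
  obtain ⟨c, hc⟩ := hjet _ hM (w ^ N * r)
  refine ⟨c, ?_⟩
  have hmap : ∀ u ∈ (RingHom.ker (φ : R →+* k)) ^ 2,
      algebraMap R (Localization.Away g) u ∈ M' ^ 2 := by
    intro u hu
    have h1 : (RingHom.ker (φ : R →+* k)).map (algebraMap R (Localization.Away g)) ≤ M' := by
      rw [Ideal.map_le_iff_le_comap]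
      intro u hu
      rw [Ideal.mem_comap, ← hφ', RingHom.mem_ker]
      exact hu
    have h2 := Ideal.mem_map_of_mem (algebraMap R (Localization.Away g)) hu
    rw [Ideal.map_pow] at h2
    exact Ideal.pow_right_mono h1 2 h2
  have h3 := hmap _ hc
  have h4 := hmap _ hw
  have h5 : (algebraMap R (Localization.Away g) g * algebraMap R (Localization.Away g) w) ^ N - 1
      ∈ M' ^ 2 := by
    have hd : algebraMap R (Localization.Away g) g * algebraMap R (Localization.Away g) w - 1 ∣
        (algebraMap R (Localization.Away g) g * algebraMap R (Localization.Away g) w) ^ N - 1 := by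
      simpa using sub_dvd_pow_sub_pow
        (algebraMap R (Localization.Away g) g * algebraMap R (Localization.Away g) w) 1 N
    have h6 : algebraMap R (Localization.Away g) g * algebraMap R (Localization.Away g) w - 1
        ∈ M' ^ 2 := by
      rw [map_sub, map_mul, map_one] at h4
      exact h4
    exact Ideal.mem_of_dvd _ hd h6
  have hsum : algebraMap R (Localization.Away g) (∑ i, algebraMap k R (c i) * a i) =
      ∑ i, algebraMap k (Localization.Away g) (c i) * algebraMap R _ (a i) := by
    rw [map_sum]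
    apply Finset.sum_congr rfl
    intro i _
    rw [map_mul, ← IsScalarTower.algebraMap_apply]
  have key : ∑ i, algebraMap k (Localization.Away g) (c i) * algebraMap R _ (a i) - l' =
      algebraMap R _ (∑ i, algebraMap k R (c i) * a i - w ^ N * r) +
        l' * ((algebraMap R (Localization.Away g) g *
          algebraMap R (Localization.Away g) w) ^ N - 1) := by
    rw [map_sub, hsum, map_mul, map_pow, ← hr, map_pow]
    ring
  rw [key]
  exact Ideal.add_mem _ h3 (Ideal.mul_mem_left _ _ h5)

theorem exists_maximal_away {R : Type*} [CommRing R] (g : R) (M : Ideal R) (hM : M.IsMaximal)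
    (hg : g ∉ M) :
    ∃ M' : Ideal (Localization.Away g), M'.IsMaximal ∧
      M.map (algebraMap R (Localization.Away g)) ≤ M' := by
  haveI := hM.isPrime
  have hp := IsLocalization.isPrime_of_isPrime_disjoint (Submonoid.powers g)
    (Localization.Away g) M hM.isPrime ((Ideal.disjoint_powers_iff_notMem_of_isPrime _).mpr hg)
  obtain ⟨M', hM', hle⟩ := Ideal.exists_le_maximal _ hp.ne_top
  exact ⟨M', hM', hle⟩

/-- **Bertini, algebraic form**: for a smooth domain `R` over an algebraically closed field and
elements `a i` separating jets at every maximal ideal, a generic `k`-combination of the `a i` does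
not lie in the square of any maximal ideal. -/
theorem exists_poly_smooth (k : Type u) [Field k] [IsAlgClosed k] (R : Type u) [CommRing R]
    [IsDomain R] [Algebra k R] [Algebra.Smooth k R] {m : ℕ} (a : Fin m → R)
    (hjet : ∀ M : Ideal R, M.IsMaximal → ∀ l : R, ∃ c : Fin m → k,
      ∑ i, algebraMap k R (c i) * a i - l ∈ M ^ 2) :
    ∃ q : MvPolynomial (Fin m) k, q ≠ 0 ∧ ∀ c : Fin m → k, eval c q ≠ 0 →
      ∀ M : Ideal R, M.IsMaximal → ∑ i, algebraMap k R (c i) * a i ∉ M ^ 2 := by
  classical
  haveI : Algebra.FinitePresentation k R := Algebra.Smooth.finitePresentation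
  haveI : Algebra.FormallySmooth k R := Algebra.Smooth.formallySmooth
  haveI : Algebra.FiniteType k R := inferInstance
  have hloc : ∀ p : Ideal R, p.IsMaximal → ∃ g : R, g ∉ p ∧ ∃ q : MvPolynomial (Fin m) k,
      q ≠ 0 ∧ ∀ c : Fin m → k, eval c q ≠ 0 → ∀ M : Ideal R, M.IsMaximal → g ∉ M →
        ∑ i, algebraMap k R (c i) * a i ∉ M ^ 2 := by
    intro p hp
    haveI := hp.isPrime
    haveI : Algebra.FormallySmooth R (Localization.AtPrime p) :=
      Algebra.FormallySmooth.of_isLocalization p.primeCompl
    haveI : Algebra.IsSmoothAt k p := Algebra.FormallySmooth.comp k R (Localization.AtPrime p)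
    obtain ⟨g, hgp, n, alg, tower, hstd⟩ :=
      Algebra.IsSmoothAt.exists_isStandardEtale_mvPolynomial (R := k) (p := p)
    refine ⟨g, hgp, ?_⟩
    have hg0 : g ≠ 0 := fun h => hgp (h ▸ Ideal.zero_mem _)
    letI := alg
    haveI := tower
    haveI := hstd
    haveI : Algebra.Etale (MvPolynomial (Fin n) k) (Localization.Away g) := inferInstance
    haveI : IsDomain (Localization.Away g) :=
      IsLocalization.isDomain_localization (powers_le_nonZeroDivisors_of_noZeroDivisors hg0)
    obtain ⟨q, hq0, hq⟩ := exists_poly_chart_sq k n (Localization.Away g)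
      (fun i => algebraMap R (Localization.Away g) (a i)) 0
      (fun M' hM' l' => jets_away k R g a hjet M' hM' l')
    refine ⟨q, hq0, fun c hc M hM hgM hmem => ?_⟩
    obtain ⟨M', hM', hle⟩ := exists_maximal_away g M hM hgM
    apply hq c hc M' hM'
    rw [zero_add]
    have h2 := Ideal.mem_map_of_mem (algebraMap R (Localization.Away g)) hmem
    rw [Ideal.map_pow, map_sum] at h2
    have h3 := Ideal.pow_right_mono hle 2 h2
    convert h3 using 2
    rw [map_mul, ← IsScalarTower.algebraMap_apply]
  choose g hg q hq0 hq using hloc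
  let T := {p : Ideal R // p.IsMaximal}
  let δ : T → R := fun t => g t.1 t.2
  have htop : Ideal.span (Set.range δ) = ⊤ := by
    by_contra hne
    obtain ⟨M, hM, hle⟩ := Ideal.exists_le_maximal _ hne
    exact hg M hM (hle (Ideal.subset_span ⟨⟨M, hM⟩, rfl⟩))
  obtain ⟨s', hs'sub, hs'top⟩ := (Ideal.span_eq_top_iff_finite _).mp htop
  have hch : ∀ d : s', ∃ t : T, δ t = d.1 := fun d => hs'sub d.2
  choose ts hts using hch
  refine ⟨∏ d : s', q (ts d).1 (ts d).2, Finset.prod_ne_zero_iff.mpr (fun d _ => hq0 _ _),
    fun c hc M hM => ?_⟩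
  rw [map_prod] at hc
  have hc' : ∀ d : s', eval c (q (ts d).1 (ts d).2) ≠ 0 :=
    fun d => Finset.prod_ne_zero_iff.mp hc d (Finset.mem_univ d)
  have hex : ∃ d : s', d.1 ∉ M := by
    by_contra hall
    push Not at hall
    have : Ideal.span (s' : Set R) ≤ M :=
      Ideal.span_le.mpr (fun d hd => hall ⟨d, hd⟩)
    rw [hs'top] at this
    exact hM.ne_top (top_le_iff.mp this)
  obtain ⟨d, hd⟩ := hex
  exact hq (ts d).1 (ts d).2 c (hc' d) M hM (by rw [show g (ts d).1 (ts d).2 = d.1 from hts d]; exact hd)

end Groth.Agent.Lib.Helper22.BertiniJet
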