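import Mathlib
import Groth.Agent.Lib.Helper22.BertiniSh
import Groth.Agent.Lib.Helper22.BertiniJetB
import Groth.Agent.Lib.Helper22.EtaleDim1

/-!
# Bertini via jets: the sheaf side (helper22)
-/

set_option autoImplicit false
set_option linter.style.haveILetI false
set_option linter.unusedSectionVars false
universe u
open CategoryTheory CategoryTheory.Limits AlgebraicGeometry TopologicalSpace MvPolynomial

namespace Groth.Agent.Lib.Helper22.BertiniJetSh

open Groth.Agent.Lib.Helper3.InvGen Groth.Agent.Lib.Helper3.QCSec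
open Groth.Agent.Lib.Helper12.SchemeDimFT
open Groth.Agent.Lib.Helper22.BertiniSh Groth.Agent.Lib.Helper22.BertiniJet

variable {Y : Scheme.{u}}

theorem secMap_res (k : Type u) [Field k] [Y.Over (Spec (CommRingCat.of k))] {A B : Y.Opens}
    (h : A ≤ B) : (Y.presheaf.map (homOfLE h).op).hom.comp (secMap k Y B) = secMap k Y A := by
  ext c
  simp only [secMap, RingHom.comp_apply]
  rw [← CommRingCat.comp_apply, ← Functor.map_comp]
  rfl

/-- The restriction map between affine opens is étale. -/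
theorem etale_res {A B : Y.Opens} (hA : IsAffineOpen A) (hB : IsAffineOpen B) (h : A ≤ B) :
    (Y.presheaf.map (homOfLE h).op).hom.Etale := by
  have h1 := Etale.etale_appLE (𝟙 Y) hB hA (show A ≤ (𝟙 Y) ⁻¹ᵁ B from h)
  have h2 : Scheme.Hom.appLE (𝟙 Y) B A (show A ≤ (𝟙 Y) ⁻¹ᵁ B from h) =
      Y.presheaf.map (homOfLE h).op := by
    simp only [Scheme.Hom.appLE, Scheme.Hom.id_app]
    exact Category.id_comp _
  rwa [h2] at h1

/-- Charts: around every point of a smooth `k`-scheme with an invertible module `L` there is an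
affine open `D` with `Γ(Y, D)` a domain étale over a polynomial ring and `L` trivial on `D`. -/
theorem exists_chart (k : Type u) [Field k] [Y.Over (Spec (CommRingCat.of k))]
    [Smooth (Y ↘ Spec (CommRingCat.of k))] {L : Y.Modules} (hL : PicF.IsInvertible L) (x : Y) :
    ∃ (D : Y.Opens) (_ : IsAffineOpen D) (_ : x ∈ D) (ε : Γ(L, D)) (n : ℕ)
      (ψ : MvPolynomial (Fin n) k →+* Γ(Y, D)),
      IsGen L D ε ∧ IsDomain Γ(Y, D) ∧ ψ.Etale ∧ ψ.comp MvPolynomial.C = secMap k Y D := by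
  haveI : IsLocallyNoetherian Y :=
    LocallyOfFiniteType.isLocallyNoetherian (Y ↘ Spec (CommRingCat.of k))
  obtain ⟨U₁, hU₁, V₁, hV₁, hxV₁, e₁, hss⟩ :=
    Smooth.exists_isStandardSmooth (Y ↘ Spec (CommRingCat.of k)) x
  haveI : Subsingleton ↥(Spec (CommRingCat.of k)) :=
    inferInstanceAs (Subsingleton (PrimeSpectrum k))
  obtain rfl : U₁ = ⊤ := by
    rw [eq_top_iff]
    intro y _
    have : y = (Y ↘ Spec (CommRingCat.of k)) x := Subsingleton.elim _ _
    rw [this]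
    exact e₁ hxV₁
  obtain ⟨n, g, hgC, hgE⟩ := RingHom.IsStandardSmooth.exists_etale_mvPolynomial hss
  have hβ : Function.Bijective (Scheme.ΓSpecIso (CommRingCat.of k)).inv.hom :=
    ConcreteCategory.bijective_of_isIso (Scheme.ΓSpecIso (CommRingCat.of k)).inv
  let ψ₁ : MvPolynomial (Fin n) k →+* Γ(Y, V₁) :=
    g.comp (MvPolynomial.map (Scheme.ΓSpecIso (CommRingCat.of k)).inv.hom)
  have hψ₁E : ψ₁.Etale := by
    refine RingHom.Etale.stableUnderComposition _ _ (RingHom.Etale.of_bijective ?_) hgE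
    exact ⟨MvPolynomial.map_injective _ hβ.1, MvPolynomial.map_surjective _ hβ.2⟩
  have hψ₁C : ψ₁.comp MvPolynomial.C = secMap k Y V₁ := by
    rw [secMap_eq]
    ext c
    simp only [ψ₁, RingHom.comp_apply, MvPolynomial.map_C]
    rw [← hgC]
    rfl
  -- the stalk at `x` is a domain
  have hstalk : IsDomain (Y.presheaf.stalk x) := by
    letI := ψ₁.toAlgebra
    haveI : Algebra.Etale (MvPolynomial (Fin n) k) Γ(Y, V₁) := hψ₁E
    haveI := hV₁.isLocalization_stalk ⟨x, hxV₁⟩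
    haveI := EtaleDim.isDomain_localization k n Γ(Y, V₁) (hV₁.primeIdealOf ⟨x, hxV₁⟩).asIdeal
    letI : Algebra Γ(Y, V₁) (Y.presheaf.stalk x) :=
      TopCat.Presheaf.algebra_section_stalk Y.presheaf ⟨x, hxV₁⟩
    exact (IsLocalization.algEquiv (hV₁.primeIdealOf ⟨x, hxV₁⟩).asIdeal.primeCompl
      (Localization.AtPrime (hV₁.primeIdealOf ⟨x, hxV₁⟩).asIdeal)
      (Y.presheaf.stalk x)).symm.toRingEquiv.toMulEquiv.isDomain _
  obtain ⟨V₂, ε₂, hxV₂, hg₂⟩ := exists_isGen hL x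
  obtain ⟨D, hxD, hD, hDle, hinj⟩ := Y.exists_le_and_germ_injective x (V₁ ⊓ V₂) ⟨hxV₁, hxV₂⟩
  have hdom : IsDomain Γ(Y, D) := Function.Injective.isDomain (Y.presheaf.germ D x hxD).hom hinj
  refine ⟨D, hD, hxD, res L (hDle.trans inf_le_right) ε₂, n,
    (Y.presheaf.map (homOfLE (hDle.trans inf_le_left)).op).hom.comp ψ₁,
    hg₂.mono _, hdom, ?_, ?_⟩
  · exact RingHom.Etale.stableUnderComposition _ _ hψ₁E (etale_res hD hV₁ _)
  · rw [RingHom.comp_assoc, hψ₁C, secMap_res]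

open H16Mero Mero in
/-- Version of `H16Mero.exists_smul_eq_of_mem_stalkIdeal` for a regular section of an invertible
module on an arbitrary scheme. -/
theorem exists_smul_eq_of_mem_stalkIdeal' {L : Y.Modules}
    {s : Coh.structureModule Y ⟶ L}
    (hreg : ∀ (W : Y.Opens) (r : Γ(Y, W)), r • sec s W = 0 → r = 0) {V : Y.Opens}
    {a : Γ(Y, V)} (ha : a ∈ stalkIdeal (zeroStalkIdeal L s) V) (m : Γ(L, V)) :
    ∃ b : Γ(Y, V), a • m = b • sec s V := by
  have hloc : ∀ y : V, ∃ (W : Y.Opens) (hWV : W ≤ V) (_ : y.1 ∈ W) (B : Γ(Y, W)),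
      res L hWV (a • m) = B • sec s W := by
    intro y
    obtain ⟨β, hβ⟩ := ha y.1 y.2 (L.presheaf.germ V y.1 y.2 m)
    obtain ⟨W₁, hyW₁, B₁, rfl⟩ := TopCat.Presheaf.exists_germ_eq Y.presheaf β
    have hy' : y.1 ∈ V ⊓ W₁ := Opens.mem_inf.mpr ⟨y.2, hyW₁⟩
    have hl : V ⊓ W₁ ≤ V := inf_le_left
    have hr : V ⊓ W₁ ≤ W₁ := inf_le_right
    have hgerm : L.presheaf.germ (V ⊓ W₁) y.1 hy' (res L hl (a • m)) =
        L.presheaf.germ (V ⊓ W₁) y.1 hy' (rres Y hr B₁ • sec s (V ⊓ W₁)) := by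
      rw [TopCat.Presheaf.germ_res_apply, Mero.germ_smul, Mero.germ_smul,
        TopCat.Presheaf.germ_res_apply, ← sgerm_eq s hy']
      exact hβ
    obtain ⟨W, hyW, i, i', hres⟩ := TopCat.Presheaf.germ_eq L.presheaf y.1 hy' hy' _ _ hgerm
    have hle : W ≤ V ⊓ W₁ := i.le
    refine ⟨W, hle.trans hl, hyW, rres Y (hle.trans hr) B₁, ?_⟩
    calc res L (hle.trans hl) (a • m) = res L hle (res L hl (a • m)) := (res_res L hle hl _).symm
      _ = res L hle (rres Y hr B₁ • sec s (V ⊓ W₁)) := hres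
      _ = rres Y (hle.trans hr) B₁ • sec s W := by rw [res_smul, rres_rres, res_sec]
  choose W hWV hyW B hB using hloc
  have hcompat : ∀ i j : V, rres Y (inf_le_left : W i ⊓ W j ≤ W i) (B i) =
      rres Y (inf_le_right : W i ⊓ W j ≤ W j) (B j) := by
    intro i j
    have h1 : (rres Y (inf_le_left : W i ⊓ W j ≤ W i) (B i) -
        rres Y (inf_le_right : W i ⊓ W j ≤ W j) (B j)) • sec s (W i ⊓ W j) = 0 := by
      rw [sub_smul, sub_eq_zero]
      have e1 : res L ((inf_le_left : W i ⊓ W j ≤ W i).trans (hWV i)) (a • m) =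
          rres Y (inf_le_left : W i ⊓ W j ≤ W i) (B i) • sec s (W i ⊓ W j) := by
        rw [← res_res L (inf_le_left : W i ⊓ W j ≤ W i) (hWV i), hB i, res_smul, res_sec]
      have e2 : res L ((inf_le_right : W i ⊓ W j ≤ W j).trans (hWV j)) (a • m) =
          rres Y (inf_le_right : W i ⊓ W j ≤ W j) (B j) • sec s (W i ⊓ W j) := by
        rw [← res_res L (inf_le_right : W i ⊓ W j ≤ W j) (hWV j), hB j, res_smul, res_sec]
      rw [← e1, ← e2]
    exact sub_eq_zero.mp (hreg _ _ h1)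
  have hcov : V ≤ ⨆ i, W i := fun y hy => Opens.mem_iSup.mpr ⟨⟨y, hy⟩, hyW ⟨y, hy⟩⟩
  obtain ⟨b, hb⟩ := fun_glue W V hWV hcov B hcompat
  refine ⟨b, sec_eq_of_locally_eq L W V hWV hcov _ _ (fun i => ?_)⟩
  rw [hB i, res_smul, hb i, res_sec]

open H16Mero Mero in
/-- On an affine open where `L` has a generator `ε` and the regular section `s` is `c • ε`, the
ideal of `Z(s)` is `(c)`. -/
theorem zeroScheme_ideal_eq_span_of_regular {L : Y.Modules} (hL : PicF.IsInvertible L)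
    {s : Coh.structureModule Y ⟶ L}
    (hreg : ∀ (W : Y.Opens) (r : Γ(Y, W)), r • sec s W = 0 → r = 0)
    {U : Y.Opens} (hU : IsAffineOpen U)
    {ε : Γ(L, U)} (hg : IsGen L U ε) {c : Γ(Y, U)} (hc : sec s U = c • ε) :
    (PicF2.zeroScheme L s).ideal ⟨U, hU⟩ = Ideal.span {c} := by
  apply le_antisymm
  · intro a ha
    have ha' : a ∈ PicF2.zeroIdealOn L s U :=
      Scheme.IdealSheafData.ideal_ofIdeals_le _ ⟨U, hU⟩ ha
    obtain ⟨b, hb⟩ : ∃ b : Γ(Y, U), a • ε = b • sec s U := ha' ε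
    have hb' : a • ε = (b * c) • ε := by
      rw [mul_smul, ← hc]
      exact hb
    rw [Ideal.mem_span_singleton']
    exact ⟨b, (hg.self.smul_inj hb').symm⟩
  · obtain ⟨J, hJ⟩ := exists_zeroIdealSheaf hL s
    have hJle : J ≤ PicF2.zeroScheme L s := by
      apply Scheme.IdealSheafData.le_ofIdeals_iff.mpr
      intro V a ha
      rw [hJ V] at ha
      intro m
      exact exists_smul_eq_of_mem_stalkIdeal' hreg ha m
    rw [Ideal.span_singleton_le_iff_mem]
    apply hJle ⟨U, hU⟩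
    rw [hJ]
    intro y hy
    exact germ_mem_zeroStalkIdeal hg hc hy

theorem mem_sq_of_mul_mem {A : Type*} [CommRing A] (M : Ideal A) (hM : M.IsMaximal) (g : A)
    (hg : g ∉ M) (u : A) (h : g * u ∈ M ^ 2) : u ∈ M ^ 2 := by
  haveI := hM
  obtain ⟨y, i, hi, hyi⟩ := Ideal.IsMaximal.exists_inv_pow M hg 2
  have : u = y * (g * u) + i * u := by
    calc u = (y * g + i) * u := by rw [hyi, one_mul]
      _ = y * (g * u) + i * u := by ring
  rw [this]
  exact Ideal.add_mem _ (Ideal.mul_mem_left _ _ h) (Ideal.mul_mem_right _ _ hi)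

open H16Mero Mero in
/-- The jet hypothesis, read in a chart. -/
theorem jets_chart (k : Type u) [Field k] [Y.Over (Spec (CommRingCat.of k))]
    [LocallyOfFiniteType (Y ↘ Spec (CommRingCat.of k))]
    {L : Y.Modules} {m : ℕ} (s : Fin m → (Coh.structureModule Y ⟶ L))
    (hjet : ∀ p : Y, IsClosed ({p} : Set Y) → ∀ l : ↥(L.presheaf.stalk p), ∃ c : Fin m → k,
      (L.presheaf.germ ⊤ p trivial)
          (PicF2.secVal L (∑ i : Fin m,
            Formal.smulMod k (Coh.structureModule Y) (c i) ≫ s i) ⊤) - l ∈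
        (IsLocalRing.maximalIdeal ↥(Y.presheaf.stalk p)) ^ 2 •
          (⊤ : Submodule ↥(Y.presheaf.stalk p) ↥(L.presheaf.stalk p)))
    {D : Y.Opens} (hD : IsAffineOpen D) {ε : Γ(L, D)} (hg : IsGen L D ε)
    (a : Fin m → Γ(Y, D)) (ha : ∀ i, sec (s i) D = a i • ε)
    (M : Ideal Γ(Y, D)) (hM : M.IsMaximal) (l : Γ(Y, D)) :
    ∃ c : Fin m → k, ∑ i, secMap k Y D (c i) * a i - l ∈ M ^ 2 := by
  haveI : JacobsonSpace Y := LocallyOfFiniteType.jacobsonSpace (Y ↘ Spec (CommRingCat.of k))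
  let y : PrimeSpectrum Γ(Y, D) := ⟨M, hM.isPrime⟩
  let p : Y := hD.fromSpec y
  have hpD : p ∈ D := by
    have : p ∈ Set.range hD.fromSpec := ⟨y, rfl⟩
    rw [hD.range_fromSpec] at this
    exact this
  have hpcl : IsClosed ({p} : Set Y) := by
    have hy : IsClosed ({y} : Set (PrimeSpectrum Γ(Y, D))) :=
      (PrimeSpectrum.isClosed_singleton_iff_isMaximal y).mpr hM
    have hoe : Topology.IsOpenEmbedding hD.fromSpec := hD.fromSpec.isOpenEmbedding
    have h1 := hoe.preimage_closedPoints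
    have hy' : y ∈ closedPoints (Spec Γ(Y, D)) := hy
    rw [← h1] at hy'
    exact hy'
  obtain ⟨c, hc⟩ := hjet p hpcl (L.presheaf.germ D p hpD (l • ε))
  refine ⟨c, ?_⟩
  have hsec : sec (∑ i, Formal.smulMod k (Coh.structureModule Y) (c i) ≫ s i) D =
      (∑ i, secMap k Y D (c i) * a i) • ε := by
    rw [sec_sum, Finset.sum_smul]
    apply Finset.sum_congr rfl
    intro i _
    rw [sec_smulMod, ha i, mul_smul]
  have h1 : (L.presheaf.germ ⊤ p trivial) (PicF2.secVal L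
      (∑ i, Formal.smulMod k (Coh.structureModule Y) (c i) ≫ s i) ⊤) -
      L.presheaf.germ D p hpD (l • ε) =
      Y.presheaf.germ D p hpD (∑ i, secMap k Y D (c i) * a i - l) •
        L.presheaf.germ D p hpD ε := by
    have e1 : (L.presheaf.germ ⊤ p trivial) (PicF2.secVal L
        (∑ i, Formal.smulMod k (Coh.structureModule Y) (c i) ≫ s i) ⊤) =
        sgerm (∑ i, Formal.smulMod k (Coh.structureModule Y) (c i) ≫ s i) p := rfl
    rw [e1, sgerm_eq_smul hsec hpD, Mero.germ_smul, ← sub_smul, ← map_sub]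
  rw [h1] at hc
  have h2 : Y.presheaf.germ D p hpD (∑ i, secMap k Y D (c i) * a i - l) ∈
      IsLocalRing.maximalIdeal (Y.presheaf.stalk p) ^ 2 := by
    have key : ∀ z ∈ (IsLocalRing.maximalIdeal (Y.presheaf.stalk p) ^ 2) •
        (⊤ : Submodule (Y.presheaf.stalk p) (L.presheaf.stalk p)),
        ∃ ρ ∈ IsLocalRing.maximalIdeal (Y.presheaf.stalk p) ^ 2,
          z = ρ • L.presheaf.germ D p hpD ε := by
      intro z hz
      refine Submodule.smul_induction_on hz ?_ ?_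
      · intro r hr n _
        obtain ⟨μ, rfl⟩ := exists_smul_germ_eq hg hpD n
        exact ⟨r * μ, Ideal.mul_mem_right _ _ hr, by rw [smul_smul]⟩
      · rintro z₁ z₂ ⟨ρ₁, h₁, rfl⟩ ⟨ρ₂, h₂, rfl⟩
        exact ⟨ρ₁ + ρ₂, Ideal.add_mem _ h₁ h₂, (add_smul _ _ _).symm⟩
    obtain ⟨ρ, hρ, hρe⟩ := key _ hc
    have h0 : Y.presheaf.germ D p hpD (∑ i, secMap k Y D (c i) * a i - l) - ρ = 0 :=
      germ_smul_eq_zero hg hpD _ (by rw [sub_smul, hρe, sub_self])
    rw [sub_eq_zero.mp h0]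
    exact hρ
  letI : Algebra Γ(Y, D) (Y.presheaf.stalk p) :=
    TopCat.Presheaf.algebra_section_stalk Y.presheaf ⟨p, hpD⟩
  haveI hloc : IsLocalization.AtPrime (Y.presheaf.stalk p) M := hD.isLocalization_stalk' y hpD
  have h3 : IsLocalRing.maximalIdeal (Y.presheaf.stalk p) =
      M.map (algebraMap Γ(Y, D) (Y.presheaf.stalk p)) :=
    (IsLocalization.AtPrime.map_eq_maximalIdeal M (Y.presheaf.stalk p)).symm
  rw [h3, ← Ideal.map_pow] at h2
  have h2' : algebraMap Γ(Y, D) (Y.presheaf.stalk p) (∑ i, secMap k Y D (c i) * a i - l) ∈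
      (M ^ 2).map (algebraMap Γ(Y, D) (Y.presheaf.stalk p)) := h2
  rw [IsLocalization.algebraMap_mem_map_algebraMap_iff M.primeCompl] at h2'
  obtain ⟨g, hgM, hgu⟩ := h2'
  exact mem_sq_of_mul_mem M hM g hgM _ hgu

theorem exists_poly_local (k : Type u) [Field k] [IsAlgClosed k]
    [Y.Over (Spec (CommRingCat.of k))] [LocallyOfFiniteType (Y ↘ Spec (CommRingCat.of k))]
    {L : Y.Modules} {m : ℕ} (s : Fin m → (Coh.structureModule Y ⟶ L))
    (f : Coh.structureModule Y ⟶ L)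
    (hjet : ∀ p : Y, IsClosed ({p} : Set Y) → ∀ l : ↥(L.presheaf.stalk p), ∃ c : Fin m → k,
      (L.presheaf.germ ⊤ p trivial)
          (PicF2.secVal L (∑ i : Fin m,
            Formal.smulMod k (Coh.structureModule Y) (c i) ≫ s i) ⊤) - l ∈
        (IsLocalRing.maximalIdeal ↥(Y.presheaf.stalk p)) ^ 2 •
          (⊤ : Submodule ↥(Y.presheaf.stalk p) ↥(L.presheaf.stalk p)))
    {D : Y.Opens} (hD : IsAffineOpen D) {ε : Γ(L, D)} (hg : IsGen L D ε)
    (hdom : IsDomain Γ(Y, D)) (n : ℕ)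
    (ψ : MvPolynomial (Fin n) k →+* Γ(Y, D)) (hψ : ψ.Etale)
    (hψC : ψ.comp MvPolynomial.C = secMap k Y D) :
    ∃ q : MvPolynomial (Fin m) k, q ≠ 0 ∧ ∀ c : Fin m → k, eval c q ≠ 0 →
      ∃ h : Γ(Y, D), h ≠ 0 ∧
        sec (f + ∑ i, Formal.smulMod k (Coh.structureModule Y) (c i) ≫ s i) D = h • ε ∧
        ((Ideal.Quotient.mk (Ideal.span {h})).comp (secMap k Y D)).Smooth := by
  choose a ha using fun i => hg.self.exists_coord (sec (s i) D)
  obtain ⟨f₀, hf₀⟩ := hg.self.exists_coord (sec f D)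
  letI := secAlgebra k Y D
  letI := ψ.toAlgebra
  haveI : IsScalarTower k (MvPolynomial (Fin n) k) Γ(Y, D) :=
    IsScalarTower.of_algebraMap_eq (fun c => by
      show secMap k Y D c = ψ (MvPolynomial.C c)
      rw [← hψC]
      rfl)
  haveI : Algebra.Etale (MvPolynomial (Fin n) k) Γ(Y, D) := hψ
  obtain ⟨q, hq0, hq⟩ := exists_poly_chart k n Γ(Y, D) a f₀
    (fun M hM l => jets_chart k s hjet hD hg a (fun i => (ha i).symm) M hM l)
  refine ⟨q, hq0, fun c hc => ?_⟩
  obtain ⟨h1, h2⟩ := hq c hc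
  refine ⟨f₀ + ∑ i, algebraMap k Γ(Y, D) (c i) * a i, h1, ?_, h2⟩
  rw [sec_add, sec_sum, add_smul, Finset.sum_smul, hf₀]
  congr 1
  apply Finset.sum_congr rfl
  intro i _
  rw [sec_smulMod, ← ha i, mul_smul]
  rfl

open H16Mero Mero in
theorem main (k : Type u) [Field k] [IsAlgClosed k]
    (Y : Scheme.{u}) [Y.Over (Spec (CommRingCat.of k))] [Smooth (Y ↘ Spec (CommRingCat.of k))]
    [QuasiCompact (Y ↘ Spec (CommRingCat.of k))]
    (L : Y.Modules) (hL : FlatMod.IsFinLocFreeOfRank 1 L) (m : ℕ)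
    (s : Fin m → (Coh.structureModule Y ⟶ L)) (f : Coh.structureModule Y ⟶ L)
    (hjet : ∀ p : Y, IsClosed ({p} : Set Y) → ∀ l : ↥(L.presheaf.stalk p), ∃ c : Fin m → k,
      (L.presheaf.germ ⊤ p trivial)
          (PicF2.secVal L (∑ i : Fin m,
            Formal.smulMod k (Coh.structureModule Y) (c i) ≫ s i) ⊤) - l ∈
        (IsLocalRing.maximalIdeal ↥(Y.presheaf.stalk p)) ^ 2 •
          (⊤ : Submodule ↥(Y.presheaf.stalk p) ↥(L.presheaf.stalk p))) :
    ∃ q : MvPolynomial (Fin m) k, q ≠ 0 ∧ ∀ c : Fin m → k, MvPolynomial.eval c q ≠ 0 →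
      Smooth ((PicF2.zeroScheme L (f + ∑ i : Fin m,
        Formal.smulMod k (Coh.structureModule Y) (c i) ≫ s i)).subschemeι ≫
        (Y ↘ Spec (CommRingCat.of k))) := by
  classical
  have hL' := isInvertible_of_rank_one hL
  haveI : CompactSpace Y :=
    QuasiCompact.compactSpace_of_compactSpace (Y ↘ Spec (CommRingCat.of k))
  choose D hD hxD ε n ψ hg hdom hψ hψC using fun x => exists_chart k hL' x
  have hp := fun x =>
    exists_poly_local k s f hjet (hD x) (hg x) (hdom x) (n x) (ψ x) (hψ x) (hψC x)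
  choose q hq0 hq using hp
  obtain ⟨T, hT⟩ := isCompact_univ.elim_finite_subcover (fun x => (D x : Set Y))
    (fun x => (D x).isOpen) (fun x _ => Set.mem_iUnion.mpr ⟨x, hxD x⟩)
  refine ⟨∏ x ∈ T, q x, Finset.prod_ne_zero_iff.mpr (fun x _ => hq0 x), fun c hc => ?_⟩
  rw [map_prod] at hc
  have hc' : ∀ x ∈ T, eval c (q x) ≠ 0 := fun x hx => (Finset.prod_ne_zero_iff.mp hc) x hx
  have hdat : ∀ x ∈ T, ∃ h : Γ(Y, D x), h ≠ 0 ∧
      sec (f + ∑ i, Formal.smulMod k (Coh.structureModule Y) (c i) ≫ s i) (D x) = h • ε x ∧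
      ((Ideal.Quotient.mk (Ideal.span {h})).comp (secMap k Y (D x))).Smooth :=
    fun x hx => hq x c (hc' x hx)
  have hcov : ∀ z : Y, ∃ x ∈ T, z ∈ D x := by
    intro z
    have := hT (Set.mem_univ z)
    simpa using this
  have hreg : ∀ (W : Y.Opens) (r : Γ(Y, W)),
      r • sec (f + ∑ i, Formal.smulMod k (Coh.structureModule Y) (c i) ≫ s i) W = 0 → r = 0 := by
    intro W r hr
    refine TopCat.Presheaf.section_ext Y.sheaf W r 0 (fun z hz => ?_)
    rw [map_zero]
    obtain ⟨x, hxT, hzx⟩ := hcov z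
    obtain ⟨h, hne, hsec, -⟩ := hdat x hxT
    haveI := hdom x
    have h1 := congrArg (L.presheaf.germ W z hz) hr
    rw [Mero.germ_smul, map_zero, ← sgerm_eq _ hz, sgerm_eq_smul hsec hzx, smul_smul] at h1
    have h2 := germ_smul_eq_zero (hg x) hzx _ h1
    letI : Algebra Γ(Y, D x) (Y.presheaf.stalk z) :=
      TopCat.Presheaf.algebra_section_stalk Y.presheaf ⟨z, hzx⟩
    haveI := (hD x).isLocalization_stalk ⟨z, hzx⟩
    have hle : ((hD x).primeIdealOf ⟨z, hzx⟩).asIdeal.primeCompl ≤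
        nonZeroDivisors Γ(Y, D x) := by
      intro g hg'
      exact mem_nonZeroDivisors_of_ne_zero (fun h0 => hg' (by rw [h0]; exact Ideal.zero_mem _))
    haveI : IsDomain (Y.presheaf.stalk z) :=
      IsLocalization.isDomain_of_le_nonZeroDivisors (Y.presheaf.stalk z) hle
    have hinj : Function.Injective (algebraMap Γ(Y, D x) (Y.presheaf.stalk z)) :=
      IsLocalization.injective _ hle
    have hh : Y.presheaf.germ (D x) z hzx h ≠ 0 :=
      fun h0 => hne (hinj (h0.trans (map_zero _).symm))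
    exact (mul_eq_zero.mp h2).resolve_right hh
  set I := PicF2.zeroScheme L
    (f + ∑ i, Formal.smulMod k (Coh.structureModule Y) (c i) ≫ s i) with hI
  apply IsZariskiLocalAtSource.of_iSup_eq_top (P := @Smooth)
    (fun x : T => (I.subschemeCover.f ⟨D x, hD x⟩).opensRange)
  · rw [eq_top_iff]
    rintro z -
    obtain ⟨x, hxT, hzx⟩ := hcov (I.subschemeι z)
    rw [Opens.mem_iSup]
    refine ⟨⟨x, hxT⟩, ?_⟩
    rw [I.opensRange_subschemeCover_map]
    exact hzx
  · rintro ⟨x, hxT⟩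
    rw [← IsOpenImmersion.isoOfRangeEq_inv_fac (I.subschemeCover.f ⟨D x, hD x⟩)
      (Scheme.Opens.ι _)
      (congr_arg Opens.carrier (I.subschemeCover.f ⟨D x, hD x⟩).opensRange.opensRange_ι.symm),
      Category.assoc, MorphismProperty.cancel_left_of_respectsIso (P := @Smooth)]
    obtain ⟨h, hne, hsec, hsm⟩ := hdat x hxT
    apply smooth_subschemeCover_comp k I ⟨D x, hD x⟩
    rw [hI, zeroScheme_ideal_eq_span_of_regular hL' hreg (hD x) (hg x) hsec]
    exact hsm

end Groth.Agent.Lib.Helper22.BertiniJetSh
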