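import Mathlib
import Groth.Prelude.Def_CohB1
import Groth.Agent.Lib.Helper22.BertiniJetC
import Groth.Agent.Lib.Helper22.BertiniJetSh
import Groth.Agent.Lib.Helper22.RegPerfSm
import Groth.Agent.Lib.Helper1.ProjSpaceFT
import Groth.Agent.Lib.Helper7.PnGamma
import Groth.Agent.Lib.Helper5.RegQuot

/-!
# Bertini for hyperplane sections of a nonsingular projective variety (helper22)
-/

set_option autoImplicit false
set_option linter.style.haveILetI false
set_option linter.unusedSectionVars false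
universe u
open CategoryTheory CategoryTheory.Limits AlgebraicGeometry TopologicalSpace MvPolynomial
open HomogeneousLocalization

namespace Groth.Agent.Lib.Helper22.BertiniPn

open Groth.Agent.Lib.Helper6.ProjSpaceGamma (hX psi toSpec')
open Groth.Agent.Lib.Helper12.SchemeDimFT

section Alg

variable (n : ℕ) (k : Type u) [Field k]

/-- The coordinate function `X_i / X_j` on the chart `D₊(X_j)`. -/
noncomputable def zz (j i : Fin (n + 1)) :
    Away (CohB1.polyGrading n k) (X j : MvPolynomial (Fin (n + 1)) k) :=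
  Away.mk (CohB1.polyGrading n k) (hX n k j) 1 (X i) (hX n k i)

theorem val_zz (j i : Fin (n + 1)) :
    (zz n k j i).val = Localization.mk (X i)
      (⟨X j ^ 1, ⟨1, rfl⟩⟩ : Submonoid.powers (X j : MvPolynomial (Fin (n + 1)) k)) := rfl

theorem zz_self (j : Fin (n + 1)) : zz n k j j = 1 := by
  apply HomogeneousLocalization.val_injective
  rw [val_zz, HomogeneousLocalization.val_one]
  convert Localization.mk_self (⟨X j ^ 1, ⟨1, rfl⟩⟩ : Submonoid.powers (X j : MvPolynomial (Fin (n + 1)) k))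
  exact (pow_one _).symm

/-- A linear form is the combination of the variables with its coefficients. -/
theorem linear_eq_sum (h : MvPolynomial (Fin (n + 1)) k) (hh : h ∈ CohB1.polyGrading n k 1) :
    h = ∑ i, C (coeff (Finsupp.single i 1) h) * X i := by
  classical
  have hh' : h.IsHomogeneous 1 := hh
  ext d
  rw [coeff_sum]
  simp only [coeff_C_mul, coeff_X']
  by_cases hd : ∃ i, d = Finsupp.single i 1
  · obtain ⟨i₀, rfl⟩ := hd
    rw [Finset.sum_eq_single i₀]
    · simp
    · intro i _ hi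
      have : Finsupp.single i 1 ≠ Finsupp.single i₀ 1 := by
        intro e
        exact hi ((Finsupp.single_left_injective one_ne_zero) e)
      simp [this]
    · intro hi
      exact absurd (Finset.mem_univ i₀) hi
  · rw [Finset.sum_eq_zero]
    · by_contra hne
      have hdeg := hh' hne
      apply hd
      have hmem : d ∈ {d : Fin (n + 1) →₀ ℕ | d.degree = 1} := by
        show d.degree = 1
        rw [Finsupp.degree_eq_weight_one]
        exact hdeg
      rw [← Finsupp.range_single_one] at hmem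
      obtain ⟨i, hi⟩ := hmem
      exact ⟨i, hi.symm⟩
    · intro i _
      have : Finsupp.single i 1 ≠ d := fun e => hd ⟨i, e.symm⟩
      simp [this]

/-- `h / X_j` for a linear form `h`. -/
noncomputable def zh (j : Fin (n + 1)) (h : CohB1.polyGrading n k 1) :
    Away (CohB1.polyGrading n k) (X j : MvPolynomial (Fin (n + 1)) k) :=
  Away.mk (CohB1.polyGrading n k) (hX n k j) 1 h.1 h.2

theorem val_eq_algebraMap (j : Fin (n + 1))
    (y : Away (CohB1.polyGrading n k) (X j : MvPolynomial (Fin (n + 1)) k)) :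
    y.val = algebraMap (Away (CohB1.polyGrading n k) (X j : MvPolynomial (Fin (n + 1)) k))
      (Localization.Away (X j : MvPolynomial (Fin (n + 1)) k)) y := rfl

theorem zh_eq (j : Fin (n + 1)) (h : CohB1.polyGrading n k 1) :
    zh n k j h = ∑ i, psi n k (X j) (coeff (Finsupp.single i 1) h.1) * zz n k j i := by
  apply HomogeneousLocalization.val_injective
  rw [val_eq_algebraMap n k j (∑ i, _), map_sum]
  simp only [map_mul, ← val_eq_algebraMap, Groth.Agent.Lib.Helper6.ProjSpaceGamma.psi_val, val_zz,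
    Localization.mk_mul, one_mul]
  rw [← Localization.mk_sum]
  show Localization.mk h.1 _ = _
  congr 1
  exact linear_eq_sum n k h.1 h.2

theorem adjoin_zz (j : Fin (n + 1))
    (S : Subring (Away (CohB1.polyGrading n k) (X j : MvPolynomial (Fin (n + 1)) k)))
    (hpsi : ∀ c, psi n k (X j) c ∈ S) (hz : ∀ i, zz n k j i ∈ S) : S = ⊤ := by
  classical
  let S' : Subalgebra (CohB1.polyGrading n k 0)
      (Away (CohB1.polyGrading n k) (X j : MvPolynomial (Fin (n + 1)) k)) :=
    { S.toSubsemiring with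
      algebraMap_mem' := fun z => by
        obtain ⟨c, rfl⟩ :=
          Groth.Agent.Lib.Helper1.ProjSpaceFT.algebraMap_polyGrading_zero_surjective n k z
        exact hpsi c }
  have hx : Algebra.adjoin (CohB1.polyGrading n k 0)
      (Set.range (X : Fin (n + 1) → MvPolynomial (Fin (n + 1)) k)) = ⊤ := by
    rw [eq_top_iff]
    rintro p -
    induction p using MvPolynomial.induction_on with
    | C c =>
      exact Subalgebra.algebraMap_mem _ (algebraMap k (CohB1.polyGrading n k 0) c)
    | add p q hp hq => exact add_mem hp hq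
    | mul_X p i hp => exact mul_mem hp (Algebra.subset_adjoin ⟨i, rfl⟩)
  have key := Away.adjoin_mk_prod_pow_eq_top (𝒜 := CohB1.polyGrading n k) (hX n k j)
    (Fin (n + 1)) X hx (fun _ => 1) (fun i => hX n k i)
  rw [eq_top_iff]
  intro y _
  have hy : y ∈ (⊤ : Subalgebra (CohB1.polyGrading n k 0)
      (Away (CohB1.polyGrading n k) (X j : MvPolynomial (Fin (n + 1)) k))) := trivial
  rw [← key] at hy
  have hyS' : y ∈ S' := by
    refine Algebra.adjoin_le ?_ hy
    rintro _ ⟨a, ai, hai, -, rfl⟩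
    have e : Away.mk (CohB1.polyGrading n k) (hX n k j) a (∏ i, X i ^ ai i)
        (hai ▸ SetLike.prod_pow_mem_graded _ _ _ _ fun i _ ↦ hX n k i) =
        ∏ i, zz n k j i ^ ai i := by
      apply HomogeneousLocalization.val_injective
      rw [val_eq_algebraMap n k j (∏ i, _), map_prod]
      simp only [map_pow, ← val_eq_algebraMap, val_zz, Away.val_mk, Localization.mk_pow,
        Localization.mk_prod]
      congr 1
      apply Subtype.ext
      simp only [Submonoid.coe_finset_prod, SubmonoidClass.coe_pow, pow_one,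
        Finset.prod_pow_eq_pow_sum]
      congr 1
      simpa using hai.symm
    show _ ∈ S
    rw [e]
    exact Subring.prod_mem _ (fun i _ => Subring.pow_mem _ (hz i) _)
  exact hyS'

end Alg

section Geom

variable {n : ℕ} {k : Type u} [Field k] {Z : Scheme.{u}}
  (ι : Z ⟶ Proj (CohB1.polyGrading n k))

/-- The chart `D₊(X_j)` of projective space. -/
noncomputable def VV (n : ℕ) (k : Type u) [Field k] (j : Fin (n + 1)) :
    (Proj (CohB1.polyGrading n k)).Opens :=
  Proj.basicOpen (CohB1.polyGrading n k) (X j)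

/-- The chart `X ∩ D₊(X_j)`. -/
noncomputable def UU (j : Fin (n + 1)) : Z.Opens := ι ⁻¹ᵁ VV n k j

theorem isAffineOpen_VV (j : Fin (n + 1)) : IsAffineOpen (VV n k j) := by
  unfold VV
  exact Proj.isAffineOpen_basicOpen (CohB1.polyGrading n k) (X j) (hX n k j) one_pos

theorem isAffineOpen_UU [IsClosedImmersion ι] (j : Fin (n + 1)) : IsAffineOpen (UU ι j) :=
  (isAffineOpen_VV j).preimage ι

theorem mem_UU (j : Fin (n + 1)) (x : Z) :
    x ∈ UU ι j ↔ (X j : MvPolynomial (Fin (n + 1)) k) ∉ (ι.base x).asHomogeneousIdeal :=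
  Proj.mem_basicOpen _ _ _

/-- Sections of the chart of `X` from the homogeneous localization. -/
noncomputable def Phi (j : Fin (n + 1)) :
    Away (CohB1.polyGrading n k) (X j : MvPolynomial (Fin (n + 1)) k) →+* Γ(Z, UU ι j) :=
  (Proj.awayToSection (CohB1.polyGrading n k) (X j) ≫ ι.app (VV n k j)).hom

theorem Phi_surjective [IsClosedImmersion ι] (j : Fin (n + 1)) :
    Function.Surjective (Phi ι j) := by
  have h1 : Function.Surjective (ι.app (VV n k j)) := ι.app_surjective _ (isAffineOpen_VV j)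
  have h2 : Function.Bijective (Proj.awayToSection (CohB1.polyGrading n k)
      (X j : MvPolynomial (Fin (n + 1)) k)).hom := by
    have : IsIso (Proj.awayToSection (CohB1.polyGrading n k)
        (X j : MvPolynomial (Fin (n + 1)) k)) := by
      rw [← Proj.basicOpenIsoAway_hom (CohB1.polyGrading n k) (X j) (hX n k j) one_pos]
      infer_instance
    exact ConcreteCategory.bijective_of_isIso _
  exact h1.comp h2.2

/-- The structure of `k`-scheme on `X`. -/
@[reducible] noncomputable def overK : Z.Over (Spec (CommRingCat.of k)) := ⟨ι ≫ toSpec' n k⟩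

theorem Phi_psi (j : Fin (n + 1)) (c : k) :
    Phi ι j (psi n k (X j) c) = @secMap k _ Z (overK ι) (UU ι j) c := by
  letI := overK ι
  have h1 := Groth.Agent.Lib.Helper7.PnGamma.res_rhoR n k j c
  show (ι.app (VV n k j)).hom ((Proj.awayToSection (CohB1.polyGrading n k) (X j)).hom
    (psi n k (X j) c)) = _
  rw [← h1]
  have nat := congrArg (fun φ => φ.hom (Groth.Agent.Lib.Helper7.PnGamma.rhoR n k c))
    (ι.naturality (homOfLE (le_top : VV n k j ≤ ⊤)).op)
  simp only [CommRingCat.hom_comp, RingHom.comp_apply] at nat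
  refine nat.trans ?_
  rfl

theorem stalk_elt_eq (j : Fin (n + 1)) (x : Z)
    (hj : (X j : MvPolynomial (Fin (n + 1)) k) ∉ (ι.base x).asHomogeneousIdeal)
    (h : CohB1.polyGrading n k 1) :
    (ι.stalkMap x).hom ((Proj.stalkIso' (CohB1.polyGrading n k) (ι.base x)).symm
      (HomogeneousLocalization.mk
        ⟨1, h, ⟨MvPolynomial.X j, MvPolynomial.isHomogeneous_X k j⟩, hj⟩)) =
      Z.presheaf.germ (UU ι j) x ((mem_UU ι j x).mpr hj) (Phi ι j (zh n k j h)) := by
  have hx' : ι.base x ∈ VV n k j := (mem_UU ι j x).mpr hj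
  have e1 : (Proj.stalkIso' (CohB1.polyGrading n k) (ι.base x)).symm
      (HomogeneousLocalization.mk
        ⟨1, h, ⟨MvPolynomial.X j, MvPolynomial.isHomogeneous_X k j⟩, hj⟩) =
      (Proj (CohB1.polyGrading n k)).presheaf.germ (VV n k j) (ι.base x) hx'
        ((Proj.awayToSection (CohB1.polyGrading n k) (X j)).hom (zh n k j h)) := by
    have := congrArg (fun φ => φ.hom (zh n k j h))
      (ProjectiveSpectrum.Proj.awayToSection_germ (CohB1.polyGrading n k) (X j) (ι.base x) hx')
    refine Eq.trans ?_ this.symm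
    change (Proj.stalkIso' (CohB1.polyGrading n k) (ι.base x)).symm _ =
      (Proj.stalkIso' (CohB1.polyGrading n k) (ι.base x)).symm
        (HomogeneousLocalization.mapId (CohB1.polyGrading n k)
          (Submonoid.powers_le.mpr hx') (zh n k j h))
    congr 1
    apply HomogeneousLocalization.val_injective
    simp only [zh, Away.mk, HomogeneousLocalization.mapId, HomogeneousLocalization.map_mk,
      HomogeneousLocalization.val_mk, RingHom.id_apply]
    congr 1
    exact Subtype.ext (pow_one _).symm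
  rw [e1]
  exact Scheme.Hom.germ_stalkMap_apply ι (VV n k j) x hx' _

theorem stalk_elt_mem (j : Fin (n + 1)) (x : Z)
    (hj : (X j : MvPolynomial (Fin (n + 1)) k) ∉ (ι.base x).asHomogeneousIdeal)
    (h : CohB1.polyGrading n k 1)
    (hh : (h : MvPolynomial (Fin (n + 1)) k) ∈ (ι.base x).asHomogeneousIdeal) :
    (ι.stalkMap x).hom ((Proj.stalkIso' (CohB1.polyGrading n k) (ι.base x)).symm
      (HomogeneousLocalization.mk
        ⟨1, h, ⟨MvPolynomial.X j, MvPolynomial.isHomogeneous_X k j⟩, hj⟩)) ∈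
      IsLocalRing.maximalIdeal (Z.presheaf.stalk x) := by
  rw [IsLocalRing.mem_maximalIdeal, mem_nonunits_iff]
  intro hu
  have h1 := (isUnit_map_iff (ι.stalkMap x).hom _).mp hu
  have h2 := (isUnit_map_iff (Proj.stalkIso' (CohB1.polyGrading n k) (ι.base x)).symm _).mp h1
  rw [← HomogeneousLocalization.isUnit_iff_isUnit_val,
    HomogeneousLocalization.val_mk, Localization.mk_eq_mk',
    IsLocalization.AtPrime.isUnit_mk'_iff] at h2
  exact h2 hh

/-- The images of the coordinate functions in the chart ring of `Z`. -/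
noncomputable def aa (j i : Fin (n + 1)) : Γ(Z, UU ι j) := Phi ι j (zz n k j i)

theorem aa_self (j : Fin (n + 1)) : aa ι j j = 1 := by
  rw [aa, zz_self, map_one]

theorem Phi_zh (j : Fin (n + 1)) (h : CohB1.polyGrading n k 1) :
    Phi ι j (zh n k j h) = ∑ i, @secMap k _ Z (overK ι) (UU ι j)
      (coeff (Finsupp.single i 1) h.1) * aa ι j i := by
  rw [zh_eq, map_sum]
  apply Finset.sum_congr rfl
  intro i _
  rw [map_mul, Phi_psi]
  rfl

theorem adjoin_aa [IsClosedImmersion ι] (j : Fin (n + 1)) :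
    @Algebra.adjoin k Γ(Z, UU ι j) _ _ (@secAlgebra k _ Z (overK ι) (UU ι j))
      (Set.range (aa ι j)) = ⊤ := by
  letI := overK ι
  letI := secAlgebra k Z (UU ι j)
  have hS := adjoin_zz n k j
    ((Algebra.adjoin k (Set.range (aa ι j))).toSubring.comap (Phi ι j)) ?_ ?_
  · rw [eq_top_iff]
    intro y _
    obtain ⟨z, rfl⟩ := Phi_surjective ι j y
    have hz : z ∈ (⊤ : Subring (Away (CohB1.polyGrading n k)
        (X j : MvPolynomial (Fin (n + 1)) k))) := trivial
    rw [← hS] at hz
    exact hz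
  · intro c
    show Phi ι j (psi n k (X j) c) ∈ Algebra.adjoin k (Set.range (aa ι j))
    rw [Phi_psi]
    exact Subalgebra.algebraMap_mem _ c
  · intro i
    exact Algebra.subset_adjoin ⟨i, rfl⟩

theorem isMaximal_primeIdealOf {U : Z.Opens} (hU : IsAffineOpen U) (x : Z) (hx : x ∈ U)
    (hcl : IsClosed ({x} : Set Z)) : (hU.primeIdealOf ⟨x, hx⟩).asIdeal.IsMaximal := by
  rw [← PrimeSpectrum.isClosed_singleton_iff_isMaximal]
  have hfs : hU.fromSpec (hU.primeIdealOf ⟨x, hx⟩) = x := hU.fromSpec_primeIdealOf ⟨x, hx⟩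
  have hpre : ({hU.primeIdealOf ⟨x, hx⟩} : Set (PrimeSpectrum Γ(Z, U))) =
      hU.fromSpec ⁻¹' {x} := by
    ext y
    simp only [Set.mem_singleton_iff, Set.mem_preimage]
    constructor
    · rintro rfl
      exact hfs
    · intro hy
      exact hU.fromSpec.isOpenEmbedding.injective (hy.trans hfs.symm)
  rw [hpre]
  exact hcl.preimage hU.fromSpec.continuous

theorem mem_sq_of_germ_mem_sq {U : Z.Opens} (hU : IsAffineOpen U) (x : Z) (hx : x ∈ U)
    (hM : (hU.primeIdealOf ⟨x, hx⟩).asIdeal.IsMaximal) (s : Γ(Z, U))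
    (hs : Z.presheaf.germ U x hx s ∈ IsLocalRing.maximalIdeal (Z.presheaf.stalk x) ^ 2) :
    s ∈ (hU.primeIdealOf ⟨x, hx⟩).asIdeal ^ 2 := by
  letI : Algebra Γ(Z, U) (Z.presheaf.stalk x) :=
    TopCat.Presheaf.algebra_section_stalk Z.presheaf ⟨x, hx⟩
  haveI hloc : IsLocalization.AtPrime (Z.presheaf.stalk x)
      (hU.primeIdealOf ⟨x, hx⟩).asIdeal := hU.isLocalization_stalk ⟨x, hx⟩
  have h3 : IsLocalRing.maximalIdeal (Z.presheaf.stalk x) =
      (hU.primeIdealOf ⟨x, hx⟩).asIdeal.map (algebraMap Γ(Z, U) (Z.presheaf.stalk x)) :=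
    (IsLocalization.AtPrime.map_eq_maximalIdeal _ (Z.presheaf.stalk x)).symm
  rw [h3, ← Ideal.map_pow] at hs
  have h2' : algebraMap Γ(Z, U) (Z.presheaf.stalk x) s ∈
      ((hU.primeIdealOf ⟨x, hx⟩).asIdeal ^ 2).map
        (algebraMap Γ(Z, U) (Z.presheaf.stalk x)) := hs
  rw [IsLocalization.algebraMap_mem_map_algebraMap_iff
    (hU.primeIdealOf ⟨x, hx⟩).asIdeal.primeCompl] at h2'
  obtain ⟨g, hgM, hgu⟩ := h2'
  exact Groth.Agent.Lib.Helper22.BertiniJetSh.mem_sq_of_mul_mem _ hM g hgM _ hgu

theorem eq_zero_of_forall_germ_mem {U : Z.Opens} (hU : IsAffineOpen U) [IsDomain Γ(Z, U)]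
    (s : Γ(Z, U))
    (hs : ∀ (x : Z) (hx : x ∈ U),
      Z.presheaf.germ U x hx s ∈ IsLocalRing.maximalIdeal (Z.presheaf.stalk x)) : s = 0 := by
  let y : PrimeSpectrum Γ(Z, U) := ⟨⊥, Ideal.bot_prime⟩
  have hxU : hU.fromSpec y ∈ U := by
    have : hU.fromSpec y ∈ Set.range hU.fromSpec := ⟨y, rfl⟩
    rw [hU.range_fromSpec] at this
    exact this
  have h1 := hs _ hxU
  letI : Algebra Γ(Z, U) (Z.presheaf.stalk (hU.fromSpec y)) :=
    TopCat.Presheaf.algebra_section_stalk Z.presheaf ⟨hU.fromSpec y, hxU⟩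
  haveI hloc : IsLocalization.AtPrime (Z.presheaf.stalk (hU.fromSpec y)) y.asIdeal :=
    hU.isLocalization_stalk' y hxU
  have h2 : algebraMap Γ(Z, U) (Z.presheaf.stalk (hU.fromSpec y)) s ∈
      IsLocalRing.maximalIdeal (Z.presheaf.stalk (hU.fromSpec y)) := h1
  rw [IsLocalization.AtPrime.to_map_mem_maximal_iff _ y.asIdeal] at h2
  exact h2

open Groth.Agent.Lib.Helper22.BertiniJet in
theorem chart_main [IsAlgClosed k] [IsIntegral Z] [IsClosedImmersion ι]
    (hreg : ∀ x : Z, IsRegularLocalRing (Z.presheaf.stalk x)) (j : Fin (n + 1))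
    (hne : Nonempty (UU ι j)) :
    ∃ q : MvPolynomial (Fin (n + 1)) k, q ≠ 0 ∧ ∀ h : CohB1.polyGrading n k 1,
      eval (fun i => coeff (Finsupp.single i 1) (h : MvPolynomial (Fin (n + 1)) k)) q ≠ 0 →
      (∃ x : Z, (h : MvPolynomial (Fin (n + 1)) k) ∉ (ι.base x).asHomogeneousIdeal) ∧
      ∀ x : Z, IsClosed ({x} : Set Z) →
        (h : MvPolynomial (Fin (n + 1)) k) ∈ (ι.base x).asHomogeneousIdeal →
        ∀ hj : (X j : MvPolynomial (Fin (n + 1)) k) ∉ (ι.base x).asHomogeneousIdeal,
          IsRegularLocalRing (Z.presheaf.stalk x ⧸ Ideal.span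
            {(ι.stalkMap x).hom ((Proj.stalkIso' (CohB1.polyGrading n k) (ι.base x)).symm
              (HomogeneousLocalization.mk
                ⟨1, h, ⟨MvPolynomial.X j, MvPolynomial.isHomogeneous_X k j⟩, hj⟩))}) := by
  letI := overK ι
  have hU := isAffineOpen_UU ι j
  haveI := hne
  haveI : IsDomain Γ(Z, UU ι j) := inferInstance
  haveI : LocallyOfFiniteType (toSpec' n k) :=
    Groth.Agent.Lib.Helper1.ProjSpaceFT.locallyOfFiniteType_toSpec n k
  haveI : LocallyOfFiniteType (Z ↘ Spec (CommRingCat.of k)) := by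
    show LocallyOfFiniteType (ι ≫ toSpec' n k)
    infer_instance
  haveI : LocallyOfFinitePresentation (Z ↘ Spec (CommRingCat.of k)) := by
    rw [HasRingHomProperty.iff_appLE (P := @LocallyOfFinitePresentation)]
    intro V U e
    haveI : IsNoetherianRing Γ(Spec (CommRingCat.of k), V.1) :=
      IsLocallyNoetherian.component_noetherian V
    exact RingHom.FinitePresentation.of_finiteType.mp
      (HasRingHomProperty.appLE (P := @LocallyOfFiniteType) _ inferInstance V U e)
  haveI : Smooth (Z ↘ Spec (CommRingCat.of k)) :=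
    Groth.Agent.Lib.Helper22.RegPerfSm.smooth_of_forall_isRegularLocalRing k _ hreg
  letI := secAlgebra k Z (UU ι j)
  haveI : Algebra.Smooth k Γ(Z, UU ι j) :=
    Groth.Agent.Lib.Helper22.BertiniSh.smooth_secMap k hU
  obtain ⟨q, hq0, hq⟩ := exists_poly_smooth k Γ(Z, UU ι j) (aa ι j)
    (fun M hM l => jets_of_adjoin k _ (aa ι j) j (aa_self ι j) (adjoin_aa ι j) M hM l)
  refine ⟨q, hq0, fun h hh => ?_⟩
  have hsq := hq _ hh
  have hPhi : Phi ι j (zh n k j h) = ∑ i, algebraMap k Γ(Z, UU ι j)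
      (coeff (Finsupp.single i 1) (h : MvPolynomial (Fin (n + 1)) k)) * aa ι j i :=
    Phi_zh ι j h
  rw [← hPhi] at hsq
  constructor
  · by_contra hall
    push Not at hall
    have hs0 : Phi ι j (zh n k j h) = 0 := eq_zero_of_forall_germ_mem hU _ (fun x hx => by
      rw [← stalk_elt_eq ι j x ((mem_UU ι j x).mp hx) h]
      exact stalk_elt_mem ι j x _ h (hall x))
    obtain ⟨M, hM⟩ := Ideal.exists_maximal Γ(Z, UU ι j)
    exact hsq M hM (by rw [hs0]; exact Ideal.zero_mem _)
  · intro x hcl hhx hj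
    have hx : x ∈ UU ι j := (mem_UU ι j x).mpr hj
    have hM := isMaximal_primeIdealOf hU x hx hcl
    haveI := hreg x
    rw [stalk_elt_eq ι j x hj h]
    have htm : Z.presheaf.germ (UU ι j) x hx (Phi ι j (zh n k j h)) ∈
        IsLocalRing.maximalIdeal (Z.presheaf.stalk x) := by
      rw [← stalk_elt_eq ι j x hj h]
      exact stalk_elt_mem ι j x hj h hhx
    have ht2 : Z.presheaf.germ (UU ι j) x hx (Phi ι j (zh n k j h)) ∉
        IsLocalRing.maximalIdeal (Z.presheaf.stalk x) ^ 2 := by
      intro hmem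
      exact hsq _ hM (mem_sq_of_germ_mem_sq hU x hx hM _ hmem)
    obtain ⟨hR, -⟩ := Groth.Agent.Lib.Helper5.RegQuot.quotient_singleton (Z.presheaf.stalk x)
      (Z.presheaf.germ (UU ι j) x hx (Phi ι j (zh n k j h))) htm ht2
    exact hR

/-- **Bertini**: for a nonsingular closed subvariety `Z` of projective space over an algebraically
closed field, the hyperplanes `h = 0` not containing `Z` and cutting `Z` in a scheme regular at
all its closed points contain a nonempty Zariski open of the dual projective space. -/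
theorem main [IsAlgClosed k] [IsIntegral Z] [IsClosedImmersion ι]
    (hreg : ∀ x : Z, IsRegularLocalRing (Z.presheaf.stalk x)) :
    ∃ g : MvPolynomial (Fin (n + 1)) k, g ≠ 0 ∧ ∀ h : CohB1.polyGrading n k 1,
      eval (fun i => coeff (Finsupp.single i 1) (h : MvPolynomial (Fin (n + 1)) k)) g ≠ 0 →
      (∃ x : Z, (h : MvPolynomial (Fin (n + 1)) k) ∉ (ι.base x).asHomogeneousIdeal) ∧
      ∀ x : Z, IsClosed ({x} : Set Z) →
        (h : MvPolynomial (Fin (n + 1)) k) ∈ (ι.base x).asHomogeneousIdeal →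
        ∀ (j : Fin (n + 1))
          (hj : (X j : MvPolynomial (Fin (n + 1)) k) ∉ (ι.base x).asHomogeneousIdeal),
          IsRegularLocalRing (Z.presheaf.stalk x ⧸ Ideal.span
            {(ι.stalkMap x).hom ((Proj.stalkIso' (CohB1.polyGrading n k) (ι.base x)).symm
              (HomogeneousLocalization.mk
                ⟨1, h, ⟨MvPolynomial.X j, MvPolynomial.isHomogeneous_X k j⟩, hj⟩))}) := by
  classical
  have hq : ∀ j : Fin (n + 1), ∃ q : MvPolynomial (Fin (n + 1)) k, q ≠ 0 ∧
      (Nonempty (UU ι j) → ∀ h : CohB1.polyGrading n k 1,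
        eval (fun i => coeff (Finsupp.single i 1) (h : MvPolynomial (Fin (n + 1)) k)) q ≠ 0 →
        (∃ x : Z, (h : MvPolynomial (Fin (n + 1)) k) ∉ (ι.base x).asHomogeneousIdeal) ∧
        ∀ x : Z, IsClosed ({x} : Set Z) →
          (h : MvPolynomial (Fin (n + 1)) k) ∈ (ι.base x).asHomogeneousIdeal →
          ∀ hj : (X j : MvPolynomial (Fin (n + 1)) k) ∉ (ι.base x).asHomogeneousIdeal,
            IsRegularLocalRing (Z.presheaf.stalk x ⧸ Ideal.span
              {(ι.stalkMap x).hom ((Proj.stalkIso' (CohB1.polyGrading n k) (ι.base x)).symm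
                (HomogeneousLocalization.mk
                  ⟨1, h, ⟨MvPolynomial.X j, MvPolynomial.isHomogeneous_X k j⟩, hj⟩))})) := by
    intro j
    by_cases hne : Nonempty (UU ι j)
    · obtain ⟨q, hq0, hq⟩ := chart_main ι hreg j hne
      exact ⟨q, hq0, fun _ => hq⟩
    · exact ⟨1, one_ne_zero, fun h => absurd h hne⟩
  choose q hq0 hq using hq
  refine ⟨∏ j, q j, Finset.prod_ne_zero_iff.mpr (fun j _ => hq0 j), fun h hh => ?_⟩
  rw [map_prod] at hh
  have hh' : ∀ j, eval (fun i => coeff (Finsupp.single i 1)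
      (h : MvPolynomial (Fin (n + 1)) k)) (q j) ≠ 0 :=
    fun j => Finset.prod_ne_zero_iff.mp hh j (Finset.mem_univ j)
  constructor
  · obtain ⟨x₀⟩ : Nonempty Z := inferInstance
    obtain ⟨j, hj⟩ : ∃ j, ι.base x₀ ∈ VV n k j := by
      have h1 : ι.base x₀ ∈ ⨆ j : Fin (n + 1), Groth.Agent.Lib.Helper7.PnSections.V n k j := by
        rw [Groth.Agent.Lib.Helper7.PnSections.iSup_V]
        trivial
      exact Opens.mem_iSup.mp h1
    exact (hq j ⟨⟨x₀, hj⟩⟩ h (hh' j)).1
  · intro x hcl hhx j hj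
    exact (hq j ⟨⟨x, (mem_UU ι j x).mpr hj⟩⟩ h (hh' j)).2 x hcl hhx hj

end Geom

end Groth.Agent.Lib.Helper22.BertiniPn
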