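import Mathlib
import Groth.Agent.Lib.Helper22.BertiniPn
import Groth.Agent.Lib.Helper22.BertiniSh
import Groth.Agent.Lib.Helper22.BertiniHypA
import Groth.Agent.Lib.Helper28.IdealComap
import Groth.Agent.Lib.Helper7.TwProj
import Groth.Agent.Lib.Helper3.InvAmple
import Groth.Agent.S3557

/-!
# Smooth hyperplane sections over an infinite field: the sheaf side (helper22)
-/

set_option autoImplicit false
set_option linter.style.haveILetI false
set_option linter.unusedSectionVars false
universe u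
open CategoryTheory CategoryTheory.Limits AlgebraicGeometry TopologicalSpace MvPolynomial
open HomogeneousLocalization

namespace Groth.Agent.Lib.Helper22.BertiniHyp

open Groth.Agent.Lib.Helper3 Groth.Agent.Lib.Helper3.QCSec Groth.Agent.Lib.Helper3.InvGen
  Groth.Agent.Lib.Helper3.TwistBasic Groth.Agent.Lib.Helper7.TwProj
open Groth.Agent.Lib.Helper22.BertiniPn
open Groth.Agent.Lib.Helper6.ProjSpaceGamma (hX psi toSpec')
open Groth.Agent.Lib.Helper12.SchemeDimFT

section Sheaf

variable (n : ℕ) (k : Type u) [Field k]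

instance isIntegral_proj : IsIntegral (Proj (CohB1.polyGrading n k)) := by
  have hX0 : (MvPolynomial.X (0 : Fin (n + 1)) : MvPolynomial (Fin (n + 1)) k) ∈
      (HomogeneousIdeal.irrelevant (CohB1.polyGrading n k)).toIdeal :=
    HomogeneousIdeal.mem_irrelevant_of_mem _ one_pos (MvPolynomial.isHomogeneous_X k 0)
  exact (Groth.Agent.S3557.result (CohB1.polyGrading n k) (fun f _ hf => hf.eq_zero)).mpr
    ⟨⟨_, hX0, MvPolynomial.X_ne_zero _⟩, fun f _ g _ h => mul_eq_zero.mp h⟩

/-- The section of `O(1)` given by a linear form. -/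
noncomputable def sl (l : CohB1.polyGrading n k 1) :
    Coh.structureModule (Proj (CohB1.polyGrading n k)) ⟶ Twist.twist (CohB1.polyGrading n k) 1 :=
  InvAmple.globalHom _ (fsec l ⊤)

theorem sec_sl (l : CohB1.polyGrading n k 1) (U : (Proj (CohB1.polyGrading n k)).Opens) :
    sec (sl n k l) U = fsec l U := by
  rw [sl, InvAmple.sec_globalHom, res_fsec]

theorem isInvertible_twist_one : PicF.IsInvertible (Twist.twist (CohB1.polyGrading n k) 1) := by
  apply isInvertible_twist_of_cover
  intro x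
  obtain ⟨j, hj⟩ : ∃ j, x ∈ VV n k j := by
    have h1 : x ∈ ⨆ j : Fin (n + 1), Groth.Agent.Lib.Helper7.PnSections.V n k j := by
      rw [Groth.Agent.Lib.Helper7.PnSections.iSup_V]
      trivial
    exact Opens.mem_iSup.mp h1
  refine ⟨VV n k j, hj, ?_⟩
  have := hasUnitFrac_basicOpen (𝒜 := CohB1.polyGrading n k) (hX n k j)
  simpa [VV] using this

theorem fval_awayToSection (j : Fin (n + 1))
    (z : Away (CohB1.polyGrading n k) (X j : MvPolynomial (Fin (n + 1)) k)) (x : VV n k j) :
    fval ((Proj.awayToSection (CohB1.polyGrading n k) (X j)).hom z) x =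
      (HomogeneousLocalization.mapId (CohB1.polyGrading n k)
        (Submonoid.powers_le.mpr x.2) z).val := rfl

theorem Xj_notMem (j : Fin (n + 1)) (x : VV n k j) :
    ((⟨X j, hX n k j⟩ : CohB1.polyGrading n k 1) : MvPolynomial (Fin (n + 1)) k) ∉
      x.1.asHomogeneousIdeal :=
  (Proj.mem_basicOpen (CohB1.polyGrading n k) (X j) x.1).mp x.2

theorem isGen_Xj (j : Fin (n + 1)) :
    IsGen (Twist.twist (CohB1.polyGrading n k) 1) (VV n k j)
      (fsec (⟨X j, hX n k j⟩ : CohB1.polyGrading n k 1) (VV n k j)) :=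
  isGen_frac (VV n k j) (⟨X j, hX n k j⟩ : CohB1.polyGrading n k 1)
    (⟨1, SetLike.GradedOne.one_mem⟩ : CohB1.polyGrading n k 0) (Xj_notMem n k j)
    (one_notMem (VV n k j)) 1 (by simp)

/-- The function `l / X_j` on the chart `D₊(X_j)`. -/
noncomputable def cc (j : Fin (n + 1)) (l : CohB1.polyGrading n k 1) :
    Γ(Proj (CohB1.polyGrading n k), VV n k j) :=
  (Proj.awayToSection (CohB1.polyGrading n k) (X j)).hom (zh n k j l)

theorem fval_cc (j : Fin (n + 1)) (l : CohB1.polyGrading n k 1) (x : VV n k j) :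
    fval (cc n k j l) x =
      (HomogeneousLocalization.mapId (CohB1.polyGrading n k)
        (Submonoid.powers_le.mpr x.2) (zh n k j l)).val := rfl

theorem fsec_eq_smul (j : Fin (n + 1)) (l : CohB1.polyGrading n k 1) :
    fsec l (VV n k j) =
      cc n k j l • fsec (⟨X j, hX n k j⟩ : CohB1.polyGrading n k 1) (VV n k j) := by
  apply val_ext
  intro x
  rw [TwistBasic.val_smul, fval_cc]
  simp only [fsec, val_frac, zh, Away.mk, HomogeneousLocalization.mapId,
    HomogeneousLocalization.map_mk, HomogeneousLocalization.val_mk]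
  rw [Localization.mk_mul, Localization.mk_eq_mk_iff, Localization.r_iff_exists]
  refine ⟨1, ?_⟩
  simp only [OneMemClass.coe_one, one_mul, Submonoid.coe_mul, mul_one, pow_one,
    GradedRingHom.id_apply]
  ring

theorem zeroScheme_ideal_VV (j : Fin (n + 1)) (l : CohB1.polyGrading n k 1) :
    (PicF2.zeroScheme (Twist.twist (CohB1.polyGrading n k) 1) (sl n k l)).ideal
        ⟨VV n k j, isAffineOpen_VV j⟩ =
      Ideal.span {cc n k j l} :=
  Groth.Agent.Lib.Helper22.BertiniSh.zeroScheme_ideal_eq_span' (isInvertible_twist_one n k)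
    (sl n k l) (isAffineOpen_VV j) (isGen_Xj n k j)
    (by rw [sec_sl]; exact fsec_eq_smul n k j l)

end Sheaf

section Geom

variable {n : ℕ} {k : Type u} [Field k] {Z : Scheme.{u}}
  (ι : Z ⟶ Proj (CohB1.polyGrading n k))

theorem comap_ideal_UU [IsClosedImmersion ι] (j : Fin (n + 1)) (l : CohB1.polyGrading n k 1) :
    ((PicF2.zeroScheme (Twist.twist (CohB1.polyGrading n k) 1) (sl n k l)).comap ι).ideal
        ⟨UU ι j, isAffineOpen_UU ι j⟩ =
      Ideal.span {Phi ι j (zh n k j l)} := by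
  rw [Groth.Agent.Lib.Helper28.ideal_comap_of_le _ ι ⟨VV n k j, isAffineOpen_VV j⟩
    ⟨UU ι j, isAffineOpen_UU ι j⟩ le_rfl, zeroScheme_ideal_VV, Ideal.map_span,
    Set.image_singleton]
  congr 2
  show (ι.appLE (VV n k j) (ι ⁻¹ᵁ VV n k j) le_rfl).hom (cc n k j l) = _
  rw [← Scheme.Hom.app_eq_appLE]
  rfl

theorem exists_chart_mem (y : Proj (CohB1.polyGrading n k)) : ∃ j, y ∈ VV n k j := by
  have h1 : y ∈ ⨆ j : Fin (n + 1), Groth.Agent.Lib.Helper7.PnSections.V n k j := by
    rw [Groth.Agent.Lib.Helper7.PnSections.iSup_V]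
    trivial
  exact Opens.mem_iSup.mp h1

/-- The linear form with prescribed coefficients. -/
noncomputable def linForm (a : Fin (n + 1) → k) : CohB1.polyGrading n k 1 :=
  ⟨∑ i, C (a i) * X i, Submodule.sum_mem _ (fun i _ => isHomogeneous_C_mul_X (a i) i)⟩

theorem coeff_linForm (a : Fin (n + 1) → k) (i : Fin (n + 1)) :
    coeff (Finsupp.single i 1) (linForm a : MvPolynomial (Fin (n + 1)) k) = a i := by
  classical
  show coeff (Finsupp.single i 1) (∑ i', C (a i') * X i' : MvPolynomial (Fin (n + 1)) k) = a i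
  rw [coeff_sum]
  simp only [coeff_C_mul, coeff_X']
  rw [Finset.sum_eq_single i]
  · simp
  · intro b _ hb
    have : Finsupp.single b 1 ≠ Finsupp.single i 1 := fun e =>
      hb (Finsupp.single_left_injective one_ne_zero e)
    simp [this]
  · intro h
    exact absurd (Finset.mem_univ i) h

theorem main [Infinite k] [IsIntegral Z] [IsClosedImmersion ι] [Smooth (ι ≫ toSpec' n k)] :
    ∃ s : Coh.structureModule (Proj (CohB1.polyGrading n k)) ⟶
        Twist.twist (CohB1.polyGrading n k) 1,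
      (∃ x : Z, ι.base x ∉
        (PicF2.zeroScheme (Twist.twist (CohB1.polyGrading n k) 1) s).support) ∧
      Smooth (pullback.fst ι
        (PicF2.zeroScheme (Twist.twist (CohB1.polyGrading n k) 1) s).subschemeι ≫
        ι ≫ toSpec' n k) := by
  classical
  letI := overK ι
  haveI : Smooth (Z ↘ Spec (CommRingCat.of k)) := ‹Smooth (ι ≫ toSpec' n k)›
  have hq : ∀ j : Fin (n + 1), ∃ q : MvPolynomial (Fin (n + 1)) k, q ≠ 0 ∧
      ∀ a : Fin (n + 1) → k, eval a q ≠ 0 →
        ((Ideal.Quotient.mk (Ideal.span {∑ i, secMap k Z (UU ι j) (a i) * aa ι j i})).comp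
          (secMap k Z (UU ι j))).Smooth := by
    intro j
    letI := secAlgebra k Z (UU ι j)
    haveI : Algebra.Smooth k Γ(Z, UU ι j) :=
      Groth.Agent.Lib.Helper22.BertiniSh.smooth_secMap k (isAffineOpen_UU ι j)
    have hdom : IsDomain Γ(Z, UU ι j) ∨ Subsingleton Γ(Z, UU ι j) := by
      by_cases hne : Nonempty (UU ι j)
      · exact Or.inl inferInstance
      · right
        have hbot : UU ι j = ⊥ := by
          ext x
          simp only [Opens.coe_bot, Set.mem_empty_iff_false, iff_false, SetLike.mem_coe]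
          exact fun hx => hne ⟨⟨x, hx⟩⟩
        rw [hbot]
        infer_instance
    obtain ⟨q, hq0, hq⟩ := exists_poly_chart_alg k Γ(Z, UU ι j) hdom (aa ι j) j (aa_self ι j)
      (adjoin_aa ι j)
    refine ⟨q, hq0, fun a ha => ?_⟩
    exact RingHom.smooth_algebraMap.mpr (hq a ha)
  choose q hq0 hq using hq
  obtain ⟨x₀⟩ : Nonempty Z := inferInstance
  obtain ⟨j₀, hj₀⟩ := exists_chart_mem (ι.base x₀)
  haveI : Nonempty (UU ι j₀) := ⟨⟨x₀, hj₀⟩⟩
  obtain ⟨p, hp0, hp⟩ : ∃ p : MvPolynomial (Fin (n + 1)) k, p ≠ 0 ∧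
      ∀ a : Fin (n + 1) → k, eval a p ≠ 0 →
        ∑ i, secMap k Z (UU ι j₀) (a i) * aa ι j₀ i ≠ 0 := by
    letI := secAlgebra k Z (UU ι j₀)
    haveI : IsDomain Γ(Z, UU ι j₀) := inferInstance
    exact exists_poly_ne_zero k Γ(Z, UU ι j₀) (aa ι j₀) j₀ (aa_self ι j₀)
  have hG0 : p * ∏ j, q j ≠ 0 :=
    mul_ne_zero hp0 (Finset.prod_ne_zero_iff.mpr (fun j _ => hq0 j))
  obtain ⟨a, ha⟩ : ∃ a : Fin (n + 1) → k, eval a (p * ∏ j, q j) ≠ 0 := by
    by_contra hcon
    push Not at hcon
    exact hG0 (MvPolynomial.funext (fun a => by rw [hcon a, map_zero]))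
  rw [map_mul, map_prod] at ha
  have hap : eval a p ≠ 0 := left_ne_zero_of_mul ha
  have haq : ∀ j, eval a (q j) ≠ 0 := fun j =>
    Finset.prod_ne_zero_iff.mp (right_ne_zero_of_mul ha) j (Finset.mem_univ j)
  have hPhi : ∀ j, Phi ι j (zh n k j (linForm a)) =
      ∑ i, secMap k Z (UU ι j) (a i) * aa ι j i := by
    intro j
    rw [Phi_zh]
    simp only [coeff_linForm]
  have hJ : ∀ j, ((PicF2.zeroScheme (Twist.twist (CohB1.polyGrading n k) 1)
      (sl n k (linForm a))).comap ι).ideal ⟨UU ι j, isAffineOpen_UU ι j⟩ =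
      Ideal.span {∑ i, secMap k Z (UU ι j) (a i) * aa ι j i} := fun j => by
    rw [comap_ideal_UU, hPhi]
  refine ⟨sl n k (linForm a), ?_, ?_⟩
  · have hne : Z.basicOpen (Phi ι j₀ (zh n k j₀ (linForm a))) ≠ ⊥ := by
      rw [Ne, AlgebraicGeometry.basicOpen_eq_bot_iff, hPhi]
      exact hp a hap
    obtain ⟨x, hx⟩ : ∃ x, x ∈ Z.basicOpen (Phi ι j₀ (zh n k j₀ (linForm a))) := by
      by_contra hcon
      push Not at hcon
      apply hne
      ext x
      simp only [Opens.coe_bot, Set.mem_empty_iff_false, iff_false, SetLike.mem_coe]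
      exact hcon x
    refine ⟨x, fun hmem => ?_⟩
    have hxU : x ∈ UU ι j₀ := Z.basicOpen_le _ hx
    rw [Scheme.IdealSheafData.mem_support_iff_of_mem
      (U := ⟨VV n k j₀, isAffineOpen_VV j₀⟩) hxU, Scheme.mem_zeroLocus_iff] at hmem
    have h1 := hmem (cc n k j₀ (linForm a))
      (by rw [SetLike.mem_coe, zeroScheme_ideal_VV]; exact Ideal.mem_span_singleton_self _)
    apply h1
    have h2 : x ∈ ι ⁻¹ᵁ (Proj (CohB1.polyGrading n k)).basicOpen (cc n k j₀ (linForm a)) := by
      rw [Scheme.preimage_basicOpen]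
      exact hx
    exact h2
  · rw [← Scheme.IdealSheafData.comapIso_inv_subschemeι, Category.assoc,
      MorphismProperty.cancel_left_of_respectsIso (P := @Smooth)]
    apply IsZariskiLocalAtSource.of_iSup_eq_top (P := @Smooth)
      (fun j : Fin (n + 1) => (((PicF2.zeroScheme (Twist.twist (CohB1.polyGrading n k) 1)
        (sl n k (linForm a))).comap ι).subschemeCover.f
          ⟨UU ι j, isAffineOpen_UU ι j⟩).opensRange)
    · rw [eq_top_iff]
      rintro z -
      obtain ⟨j, hj⟩ := exists_chart_mem (ι.base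
        (((PicF2.zeroScheme (Twist.twist (CohB1.polyGrading n k) 1)
          (sl n k (linForm a))).comap ι).subschemeι z))
      rw [Opens.mem_iSup]
      refine ⟨j, ?_⟩
      rw [Scheme.IdealSheafData.opensRange_subschemeCover_map]
      exact hj
    · intro j
      rw [← IsOpenImmersion.isoOfRangeEq_inv_fac
        (((PicF2.zeroScheme (Twist.twist (CohB1.polyGrading n k) 1)
          (sl n k (linForm a))).comap ι).subschemeCover.f ⟨UU ι j, isAffineOpen_UU ι j⟩)
        (Scheme.Opens.ι _)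
        (congr_arg Opens.carrier (((PicF2.zeroScheme (Twist.twist (CohB1.polyGrading n k) 1)
          (sl n k (linForm a))).comap ι).subschemeCover.f
            ⟨UU ι j, isAffineOpen_UU ι j⟩).opensRange.opensRange_ι.symm),
        Category.assoc, MorphismProperty.cancel_left_of_respectsIso (P := @Smooth)]
      apply Groth.Agent.Lib.Helper22.BertiniSh.smooth_subschemeCover_comp k _
        ⟨UU ι j, isAffineOpen_UU ι j⟩
      rw [hJ j]
      exact hq j a (haq j)

end Geom

end Groth.Agent.Lib.Helper22.BertiniHyp
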