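import Mathlib
import Groth.Agent.Lib.Helper22.RegForms
import Groth.Agent.Lib.Helper22.HilbSection
import Groth.Agent.Lib.Helper25.PointsP2
import Groth.Agent.Lib.Helper12.DimFT

/-!
# Hilbert function of a complete intersection of forms (Bezout)
-/

set_option autoImplicit false
set_option linter.unusedSectionVars false

universe u

namespace Groth.Agent.Lib.Helper22.Bezout

open MvPolynomial Groth.Agent.Lib.Helper22.GrSamuel

attribute [local instance] MvPolynomial.gradedAlgebra

variable {k : Type u} [Field k] {N : ℕ}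

instance instFinHom (m : ℕ) : Module.Finite k (homogeneousSubmodule (Fin N) k m) :=
  Module.Finite.iff_fg.2 (homogeneousSubmodule_fg (Fin N) k m)

/-- the degree `m` piece of an ideal. -/
noncomputable abbrev piece (I : Ideal (PR k N)) (m : ℕ) : Submodule k (PR k N) :=
  Submodule.restrictScalars k I ⊓ homogeneousSubmodule (Fin N) k m

lemma mem_piece {I : Ideal (PR k N)} {m : ℕ} {x : PR k N} :
    x ∈ piece I m ↔ x ∈ I ∧ x.IsHomogeneous m := by
  simp [piece, Submodule.mem_inf]

instance instFinPiece (I : Ideal (PR k N)) (m : ℕ) : Module.Finite k (piece I m) :=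
  Submodule.finiteDimensional_of_le inf_le_right

lemma finrank_piece_le (I : Ideal (PR k N)) (m : ℕ) :
    Module.finrank k (piece I m) ≤ Module.finrank k (homogeneousSubmodule (Fin N) k m) :=
  LinearMap.finrank_le_finrank_of_injective
    (Submodule.inclusion_injective (inf_le_right : piece I m ≤ _))

lemma homogeneousComponent_mul_of_left (f g : PR k N) (d m : ℕ)
    (hf : f.IsHomogeneous d) (hm : d ≤ m) :
    homogeneousComponent m (f * g) = f * homogeneousComponent (m - d) g := by
  have h := DirectSum.coe_decompose_mul_of_left_mem_of_le (𝒜 := homogeneousSubmodule (Fin N) k)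
    (a := f) (b := g) (i := d) (n := m) hf hm
  have e1 : ∀ (φ : PR k N) (i : ℕ),
      ((DirectSum.decompose (homogeneousSubmodule (Fin N) k) φ i :
        ↥(homogeneousSubmodule (Fin N) k i)) : PR k N) =
        homogeneousComponent i φ := fun φ i => MvPolynomial.decomposition.decompose'_apply φ i
  rw [e1, e1] at h
  exact h

lemma homogeneousComponent_mem_of_mem {I : Ideal (PR k N)}
    (hIh : I.IsHomogeneous (homogeneousSubmodule (Fin N) k)) {x : PR k N} (hx : x ∈ I) (m : ℕ) :
    homogeneousComponent m x ∈ I := by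
  have h := hIh m hx
  have e1 : ((DirectSum.decompose (homogeneousSubmodule (Fin N) k) x m :
        ↥(homogeneousSubmodule (Fin N) k m)) : PR k N) =
        homogeneousComponent m x := MvPolynomial.decomposition.decompose'_apply x m
  rwa [e1] at h

theorem finrank_piece_sup (I : Ideal (PR k N))
    (hIh : I.IsHomogeneous (homogeneousSubmodule (Fin N) k))
    (f : PR k N) (d : ℕ) (hf : f.IsHomogeneous d) (hf0 : f ≠ 0)
    (hreg : ∀ (g : PR k N) (t : ℕ), g.IsHomogeneous t → g * f ∈ I → g ∈ I) (m : ℕ)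
    (hm : d ≤ m) :
    Module.finrank k (piece (I ⊔ Ideal.span {f}) m) + Module.finrank k (piece I (m - d)) =
      Module.finrank k (piece I m) +
        Module.finrank k (homogeneousSubmodule (Fin N) k (m - d)) := by
  set μ : PR k N →ₗ[k] PR k N := LinearMap.mulLeft k f with hμ
  have hμinj : Function.Injective μ := mul_right_injective₀ hf0
  have hμa : ∀ x, μ x = f * x := fun x => rfl
  set A := piece I m with hA
  set B := (homogeneousSubmodule (Fin N) k (m - d)).map μ with hB
  have hsup : A ⊔ B = piece (I ⊔ Ideal.span {f}) m := by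
    apply le_antisymm
    · apply sup_le
      · intro x hx
        rw [mem_piece] at hx ⊢
        exact ⟨Ideal.mem_sup_left hx.1, hx.2⟩
      · rintro x ⟨g, hg, rfl⟩
        rw [mem_piece, hμa]
        refine ⟨Ideal.mem_sup_right (Ideal.mem_span_singleton'.2 ⟨g, mul_comm _ _⟩), ?_⟩
        have := hf.mul hg
        rwa [Nat.add_sub_cancel' hm] at this
    · intro x hx
      rw [mem_piece] at hx
      obtain ⟨i, hi, z, hz, rfl⟩ := Submodule.mem_sup.1 hx.1
      obtain ⟨g, rfl⟩ := Ideal.mem_span_singleton'.1 hz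
      have hx2 := hx.2
      have e1 : i + g * f = homogeneousComponent m i + f * homogeneousComponent (m - d) g := by
        conv_lhs => rw [← homogeneousComponent_eq_self hx2]
        rw [map_add, mul_comm g f, homogeneousComponent_mul_of_left f g d m hf hm]
      rw [e1]
      refine Submodule.add_mem_sup ?_ ?_
      · rw [hA, mem_piece]
        exact ⟨homogeneousComponent_mem_of_mem hIh hi m, homogeneousComponent_isHomogeneous m i⟩
      · exact ⟨homogeneousComponent (m - d) g, homogeneousComponent_isHomogeneous (m - d) g, rfl⟩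
  have hinf : A ⊓ B = (piece I (m - d)).map μ := by
    apply le_antisymm
    · rintro x ⟨hxA, g, hg, rfl⟩
      rw [hA] at hxA
      have hxA' := (mem_piece.1 hxA).1
      rw [hμa] at hxA'
      refine ⟨g, mem_piece.2 ⟨?_, hg⟩, rfl⟩
      exact hreg g (m - d) hg (by rwa [mul_comm])
    · rintro x ⟨g, hg, rfl⟩
      rw [SetLike.mem_coe, mem_piece] at hg
      refine ⟨?_, g, hg.2, rfl⟩
      rw [hA, SetLike.mem_coe, mem_piece, hμa]
      refine ⟨I.mul_mem_left f hg.1, ?_⟩
      have := hf.mul hg.2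
      rwa [Nat.add_sub_cancel' hm] at this
  haveI : Module.Finite k A := instFinPiece I m
  haveI : Module.Finite k B := by
    rw [hB]
    infer_instance
  have key := Submodule.finrank_sup_add_finrank_inf_eq A B
  rw [hsup, hinf] at key
  have e1 : Module.finrank k ((piece I (m - d)).map μ) = Module.finrank k (piece I (m - d)) :=
    (Submodule.equivMapOfInjective μ hμinj (piece I (m - d))).symm.finrank_eq
  have e2 : Module.finrank k B =
      Module.finrank k (homogeneousSubmodule (Fin N) k (m - d)) :=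
    (Submodule.equivMapOfInjective μ hμinj (homogeneousSubmodule (Fin N) k (m - d))).symm.finrank_eq
  rw [e1, e2] at key
  exact key


section Poly

open Polynomial

/-- iterated difference polynomials -/
noncomputable def Qp (n : ℕ) (d : ℕ → ℕ) : ℕ → ℚ[X]
  | 0 => preHilbertPoly ℚ n 0
  | (i + 1) => Qp n d i - taylor (-(d i : ℚ)) (Qp n d i)

lemma Qp_succ_eval (n : ℕ) (d : ℕ → ℕ) (i : ℕ) (x : ℚ) :
    (Qp n d (i + 1)).eval x = (Qp n d i).eval x - (Qp n d i).eval (x - d i) := by
  rw [Qp, Polynomial.eval_sub, taylor_eval, sub_eq_add_neg x]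

lemma Qp_zero_eval (n : ℕ) (d : ℕ → ℕ) (m : ℕ) :
    (Qp n d 0).eval (m : ℚ) = ((m + n).choose n : ℚ) := by
  rw [Qp, preHilbertPoly_eq_choose_sub_add ℚ n (Nat.zero_le m), Nat.sub_zero]

lemma Qp_spec (n : ℕ) (d : ℕ → ℕ) (hd : ∀ i, 1 ≤ d i) :
    ∀ i, i ≤ n → (Qp n d i).natDegree + i = n ∧
      (Qp n d i).leadingCoeff =
        (n.descFactorial i : ℚ) * (∏ j ∈ Finset.range i, (d j : ℚ)) / (n.factorial : ℚ) := by
  intro i
  induction i with
  | zero =>
    intro _
    refine ⟨by rw [Qp, natDegree_preHilbertPoly]; rfl, ?_⟩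
    rw [Qp, leadingCoeff_preHilbertPoly]
    simp only [Nat.descFactorial_zero, Nat.cast_one, Finset.range_zero, Finset.prod_empty, mul_one]
    rw [one_div]
  | succ i ih =>
    intro hi
    obtain ⟨h1, h2⟩ := ih (by omega)
    have hdeg : 1 ≤ (Qp n d i).natDegree := by omega
    have hdi : ((d i : ℕ) : ℚ) ≠ 0 := by
      have := hd i
      exact_mod_cast (by omega : d i ≠ 0)
    obtain ⟨h3, h4⟩ := HilbSection.natDegree_sub_taylor (Qp n d i) hdeg (d i : ℚ) hdi
    refine ⟨by rw [Qp]; omega, ?_⟩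
    rw [Qp, h4, h2, Finset.prod_range_succ, Nat.descFactorial_succ]
    have hn : (Qp n d i).natDegree = n - i := by omega
    rw [hn]
    push_cast
    ring

lemma Qp_top_eval (n : ℕ) (d : ℕ → ℕ) (hd : ∀ i, 1 ≤ d i) (x : ℚ) :
    (Qp n d n).eval x = ∏ j ∈ Finset.range n, (d j : ℚ) := by
  obtain ⟨h1, h2⟩ := Qp_spec n d hd n le_rfl
  have h0 : (Qp n d n).natDegree = 0 := by omega
  rw [eq_C_of_natDegree_eq_zero h0, Polynomial.eval_C]
  have : (Qp n d n).coeff 0 = (Qp n d n).leadingCoeff := by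
    rw [leadingCoeff, h0]
  rw [this, h2, Nat.descFactorial_self]
  have hne : (n.factorial : ℚ) ≠ 0 := by exact_mod_cast Nat.factorial_ne_zero n
  field_simp

end Poly


section Main

variable (n : ℕ) (f : Fin n → PR k (n + 1)) (d : Fin n → ℕ)

/-- extension of the degrees to all naturals -/
def dext : ℕ → ℕ := fun i => if h : i < n then d ⟨i, h⟩ else 1

lemma dext_pos (hd : ∀ i, 1 ≤ d i) (i : ℕ) : 1 ≤ dext n d i := by
  unfold dext
  split_ifs with h
  · exact hd _
  · exact le_rfl

lemma dext_of_lt (i : ℕ) (h : i < n) : dext n d i = d ⟨i, h⟩ := by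
  unfold dext
  rw [dif_pos h]

/-- partial ideals -/
noncomputable def Ipart (i : ℕ) : Ideal (PR k (n + 1)) :=
  Ideal.span (f '' {j | (j : ℕ) < i})

lemma Ipart_zero : Ipart n f 0 = ⊥ := by
  unfold Ipart
  simp

lemma Ipart_top : Ipart n f n = Ideal.span (Set.range f) := by
  unfold Ipart
  congr 1
  ext x
  simp only [Set.mem_image, Set.mem_setOf_eq, Set.mem_range]
  constructor
  · rintro ⟨j, _, rfl⟩; exact ⟨j, rfl⟩
  · rintro ⟨j, rfl⟩; exact ⟨j, j.isLt, rfl⟩

lemma Ipart_succ (i : ℕ) (h : i < n) :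
    Ipart n f (i + 1) = Ipart n f i ⊔ Ideal.span {f ⟨i, h⟩} := by
  unfold Ipart
  rw [← Ideal.span_union]
  congr 1
  ext x
  simp only [Set.mem_image, Set.mem_setOf_eq, Set.mem_union, Set.mem_singleton_iff]
  constructor
  · rintro ⟨j, hj, rfl⟩
    rcases Nat.lt_succ_iff_lt_or_eq.mp hj with h1 | h1
    · left; exact ⟨j, h1, rfl⟩
    · right
      congr 1
      exact Fin.ext h1
  · rintro (⟨j, hj, rfl⟩ | rfl)
    · exact ⟨j, by omega, rfl⟩
    · exact ⟨⟨i, h⟩, by simp, rfl⟩

lemma Ipart_eq_lt (i : ℕ) (h : i < n) :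
    Ipart n f i = Ideal.span (f '' {j | j < (⟨i, h⟩ : Fin n)}) := by
  unfold Ipart
  congr 2

variable {n f d}

lemma Ipart_homogeneous (hf : ∀ i, (f i).IsHomogeneous (d i)) (i : ℕ) :
    (Ipart n f i).IsHomogeneous (homogeneousSubmodule (Fin (n + 1)) k) := by
  apply Ideal.homogeneous_span
  rintro _ ⟨j, _, rfl⟩
  exact ⟨d j, hf j⟩

lemma Ipart_le_irr (hd : ∀ i, 1 ≤ d i) (hf : ∀ i, (f i).IsHomogeneous (d i)) (i : ℕ) :
    Ipart n f i ≤ irr k (n + 1) := by
  unfold Ipart
  rw [Ideal.span_le]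
  rintro _ ⟨j, _, rfl⟩
  exact RegForms.mem_irr_of_isHomogeneous (f j) (d j) (hd j) (hf j)

theorem hilbert_eq (hd : ∀ i, 1 ≤ d i) (hf : ∀ i, (f i).IsHomogeneous (d i))
    (hht : (n : ℕ∞) ≤ (Ideal.span (Set.range f)).height) :
    ∀ i, i ≤ n → ∀ m, (∑ j ∈ Finset.range i, dext n d j) ≤ m →
      (Module.finrank k (homogeneousSubmodule (Fin (n + 1)) k m) : ℚ) -
        (Module.finrank k (piece (Ipart n f i) m) : ℚ) =
      (Qp n (dext n d) i).eval (m : ℚ) := by
  intro i
  induction i with
  | zero =>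
    intro _ m _
    rw [Ipart_zero, Qp_zero_eval, Groth.Agent.Helper25.PointsP2.finrank_homog_fin n m]
    have : piece (⊥ : Ideal (PR k (n + 1))) m = ⊥ := by
      rw [eq_bot_iff]
      intro x hx
      rw [mem_piece] at hx
      exact hx.1
    rw [this, finrank_bot]
    simp
  | succ i ih =>
    intro hi m hm
    have hlt : i < n := by omega
    have ih' := ih (by omega)
    rw [Finset.sum_range_succ, dext_of_lt n d i hlt] at hm
    have hreg : ∀ (g : PR k (n + 1)) (t : ℕ), g.IsHomogeneous t →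
        g * f ⟨i, hlt⟩ ∈ Ipart n f i → g ∈ Ipart n f i := by
      intro g t hg hmul
      rw [Ipart_eq_lt n f i hlt] at hmul ⊢
      exact RegForms.mem_of_mul_mem_lt f d hd hf hht ⟨i, hlt⟩ g t hg hmul
    have hf0 : f ⟨i, hlt⟩ ≠ 0 := by
      intro h0
      have h1 := hreg 1 0 (isHomogeneous_one _ _) (by rw [h0, mul_zero]; exact zero_mem _)
      have h2 := Ipart_le_irr hd hf i h1
      rw [mem_irr_iff] at h2
      simp at h2
    have hdm : d ⟨i, hlt⟩ ≤ m := by omega
    have key := finrank_piece_sup (Ipart n f i) (Ipart_homogeneous hf i) (f ⟨i, hlt⟩)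
      (d ⟨i, hlt⟩) (hf _) hf0 hreg m hdm
    rw [← Ipart_succ n f i hlt] at key
    have e1 := ih' m (by omega)
    have e2 := ih' (m - d ⟨i, hlt⟩) (by omega)
    rw [Qp_succ_eval, ← e1, dext_of_lt n d i hlt]
    have hcast : ((m - d ⟨i, hlt⟩ : ℕ) : ℚ) = (m : ℚ) - (d ⟨i, hlt⟩ : ℚ) := by
      rw [Nat.cast_sub hdm]
    rw [← hcast, ← e2]
    have keyQ : (Module.finrank k (piece (Ipart n f (i + 1)) m) : ℚ) +
        (Module.finrank k (piece (Ipart n f i) (m - d ⟨i, hlt⟩)) : ℚ) =
        (Module.finrank k (piece (Ipart n f i) m) : ℚ) +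
        (Module.finrank k (homogeneousSubmodule (Fin (n + 1)) k (m - d ⟨i, hlt⟩)) : ℚ) := by
      exact_mod_cast key
    linarith

theorem bezout (hd : ∀ i, 1 ≤ d i) (hf : ∀ i, (f i).IsHomogeneous (d i))
    (hht : (n : ℕ∞) ≤ (Ideal.span (Set.range f)).height) :
    ∃ m₀ : ℕ, ∀ m : ℕ, m₀ ≤ m →
      Module.finrank k (homogeneousSubmodule (Fin (n + 1)) k m) -
        Module.finrank k (piece (Ideal.span (Set.range f)) m) = ∏ i : Fin n, d i := by
  refine ⟨∑ j ∈ Finset.range n, dext n d j, fun m hm => ?_⟩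
  have h := hilbert_eq hd hf hht n le_rfl m hm
  rw [Ipart_top, Qp_top_eval n (dext n d) (dext_pos n d hd)] at h
  have hle := finrank_piece_le (Ideal.span (Set.range f)) m
  have hprod : ∏ j ∈ Finset.range n, (dext n d j : ℚ) = ((∏ i : Fin n, d i : ℕ) : ℚ) := by
    rw [← Fin.prod_univ_eq_prod_range]
    push_cast
    apply Finset.prod_congr rfl
    intro i _
    rw [dext_of_lt n d i i.isLt]
  rw [hprod] at h
  have h2 : ((Module.finrank k (homogeneousSubmodule (Fin (n + 1)) k m) -
      Module.finrank k (piece (Ideal.span (Set.range f)) m) : ℕ) : ℚ) =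
      ((∏ i : Fin n, d i : ℕ) : ℚ) := by
    rw [Nat.cast_sub hle]
    exact h
  exact_mod_cast h2

end Main


section Height

/-- in the polynomial ring in `n + 1` variables, an ideal with quotient of dimension `≤ 1` has
height at least `n`. -/
theorem le_height_of_dim (n : ℕ) (J : Ideal (PR k (n + 1)))
    (hdim : ringKrullDim (PR k (n + 1) ⧸ J) ≤ 1) : (n : ℕ∞) ≤ J.height := by
  rw [Ideal.height_eq_inf_minimalPrimes]
  apply le_iInf₂
  intro p hp
  haveI hpp : p.IsPrime := hp.1.1
  have hdimP : ringKrullDim (PR k (n + 1)) = ((n + 1 : ℕ) : WithBot ℕ∞) := by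
    rw [MvPolynomial.ringKrullDim_of_isNoetherianRing, ringKrullDim_eq_zero_of_field]
    simp
  let y : PrimeSpectrum (PR k (n + 1)) := ⟨p, hpp⟩
  have hfin : p.height ≠ ⊤ := Ideal.height_ne_top hpp.ne_top
  obtain ⟨h', hh'⟩ := ENat.ne_top_iff_exists.mp hfin
  have hy : Order.height y = (h' : ℕ∞) := by
    rw [← y.height_eq_orderHeight]
    exact hh'.symm
  have hsum := Groth.Agent.Lib.Helper12.DimFT.height_add_coheight k (PR k (n + 1)) (n + 1) hdimP
    h' y hy
  have hco := Groth.Agent.Lib.Helper12.DimFT.ringKrullDim_quotient_eq_coheight y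
  have hle : ringKrullDim (PR k (n + 1) ⧸ p) ≤ 1 :=
    (ringKrullDim_le_of_surjective (Ideal.Quotient.factor hp.1.2)
      (Ideal.Quotient.factor_surjective hp.1.2)).trans hdim
  have hco' : (Order.coheight y : WithBot ℕ∞) ≤ 1 := by
    rw [← hco]
    exact hle
  have hc1 : Order.coheight y ≤ 1 := by exact_mod_cast hco'
  rw [hy] at hsum
  rw [← hh']
  have hcfin : Order.coheight y ≠ ⊤ := ne_top_of_le_ne_top (by simp) hc1
  obtain ⟨c, hc⟩ := ENat.ne_top_iff_exists.mp hcfin
  rw [← hc] at hsum hc1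
  have h1 : h' + c = n + 1 := by exact_mod_cast hsum
  have h2 : c ≤ 1 := by exact_mod_cast hc1
  have : n ≤ h' := by omega
  exact_mod_cast this

end Height

end Groth.Agent.Lib.Helper22.Bezout
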