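import Mathlib
import Groth.Agent.Lib.Helper22.Bezout1

/-!
# The affine Bezout count for two plane curves
-/

set_option autoImplicit false
set_option linter.unusedSectionVars false

universe u

namespace Groth.Agent.Lib.Helper22.Bezout

open MvPolynomial Groth.Agent.Lib.Helper22.GrSamuel

section generic

/-- two coprime elements of a Noetherian UFD generate an ideal of height at least two. -/
theorem two_le_height_of_isRelPrime {D : Type*} [CommRing D] [IsDomain D]
    [UniqueFactorizationMonoid D] {f g : D} (h : IsRelPrime f g) :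
    2 ≤ (Ideal.span ({f, g} : Set D)).height := by
  rw [Ideal.height_eq_inf_minimalPrimes]
  refine le_iInf₂ fun P hP => ?_
  haveI hPp : P.IsPrime := hP.1.1
  have hfP : f ∈ P := hP.1.2 (Ideal.subset_span (by simp))
  have hgP : g ∈ P := hP.1.2 (Ideal.subset_span (by simp))
  have hPne : P ≠ ⊥ := by
    intro h0
    rw [h0, Ideal.mem_bot] at hfP hgP
    subst hfP hgP
    exact not_isUnit_zero (h (dvd_refl 0) (dvd_refl 0))
  obtain ⟨π, hπP, hπ⟩ := Ideal.IsPrime.exists_mem_prime_of_ne_bot hPp hPne
  haveI hπp : (Ideal.span {π}).IsPrime := (Ideal.span_singleton_prime hπ.ne_zero).mpr hπ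
  have hle : Ideal.span {π} ≤ P := (Ideal.span_singleton_le_iff_mem P).mpr hπP
  have hlt : Ideal.span {π} < P := by
    refine lt_of_le_of_ne hle fun heq => ?_
    rw [← heq, Ideal.mem_span_singleton] at hfP hgP
    exact hπ.not_unit (h hfP hgP)
  haveI : (⊥ : Ideal D).IsPrime := Ideal.isPrime_bot
  have hbot : (⊥ : Ideal D) < Ideal.span {π} := by
    rw [bot_lt_iff_ne_bot]
    intro h0
    rw [Ideal.span_singleton_eq_bot] at h0
    exact hπ.ne_zero h0
  have h1 := Ideal.height_add_one_le_of_lt_of_isPrime hbot
  have h2 := Ideal.height_add_one_le_of_lt_of_isPrime hlt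
  have h3 : (1 : ℕ∞) ≤ (Ideal.span {π}).height := le_trans (by simp) h1
  calc (2 : ℕ∞) = 1 + 1 := by norm_num
    _ ≤ (Ideal.span {π}).height + 1 := by gcongr
    _ ≤ P.height := h2

/-- syzygies of a coprime pair in a domain. -/
theorem exists_of_isRelPrime_of_add_eq_zero {D : Type*} [CommRing D] [IsDomain D]
    [UniqueFactorizationMonoid D] {u v a b : D}
    (h : IsRelPrime u v) (hab : a * u + b * v = 0) : ∃ c, a = c * v ∧ b = -(c * u) := by
  by_cases hu : u = 0
  · subst hu
    rw [isRelPrime_zero_left] at h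
    obtain ⟨w, rfl⟩ := h
    rw [mul_zero, zero_add] at hab
    have hb : b = 0 := by
      rcases mul_eq_zero.mp hab with h1 | h1
      · exact h1
      · exact absurd h1 w.ne_zero
    exact ⟨a * (↑w⁻¹ : D), by rw [mul_assoc, Units.inv_mul, mul_one], by rw [hb]; ring⟩
  · have h1 : u ∣ b * v := ⟨-a, by linear_combination hab⟩
    obtain ⟨c', hc'⟩ := h.dvd_of_dvd_mul_right h1
    refine ⟨-c', ?_, by rw [hc']; ring⟩
    have h2 : u * (a + c' * v) = 0 := by rw [hc'] at hab; linear_combination hab
    rcases mul_eq_zero.mp h2 with h3 | h3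
    · exact absurd h3 hu
    · linear_combination h3

end generic

section plane

variable {k : Type u} [Field k]

/-- the substitution `X ↦ X, Y ↦ Y, T ↦ c`. -/
noncomputable def subT (c : MvPolynomial (Fin 2) k) :
    MvPolynomial (Fin 3) k →ₐ[k] MvPolynomial (Fin 2) k :=
  MvPolynomial.aeval (Fin.cons (MvPolynomial.X 0) (Fin.cons (MvPolynomial.X 1)
    (Fin.cons c Fin.elim0)) : Fin 3 → MvPolynomial (Fin 2) k)

@[simp] lemma subT_X0 (c : MvPolynomial (Fin 2) k) : subT c (X 0) = X 0 := by
  simp [subT]

@[simp] lemma subT_X1 (c : MvPolynomial (Fin 2) k) : subT c (X 1) = X 1 := by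
  simp [subT]

@[simp] lemma subT_X2 (c : MvPolynomial (Fin 2) k) : subT c (X 2) = c := by
  simp [subT]
  rfl

/-- the inclusion `k[X,Y] → k[X,Y,T]`. -/
noncomputable def incl : MvPolynomial (Fin 2) k →ₐ[k] MvPolynomial (Fin 3) k :=
  MvPolynomial.rename Fin.castSucc

@[simp] lemma incl_X0 : incl (X 0 : MvPolynomial (Fin 2) k) = X 0 := by
  simp [incl]

@[simp] lemma incl_X1 : incl (X 1 : MvPolynomial (Fin 2) k) = X 1 := by
  simp [incl]

lemma incl_injective : Function.Injective (incl (k := k)) :=
  MvPolynomial.rename_injective _ (Fin.castSucc_injective 2)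

lemma subT_incl (c : MvPolynomial (Fin 2) k) (r : MvPolynomial (Fin 2) k) :
    subT c (incl r) = r := by
  have h : (subT c).comp incl = AlgHom.id k _ := by
    apply MvPolynomial.algHom_ext
    intro i
    fin_cases i <;> simp
  exact congrArg (fun φ => φ r) h

lemma subT_surjective (c : MvPolynomial (Fin 2) k) : Function.Surjective (subT c) :=
  fun r => ⟨incl r, subT_incl c r⟩

lemma sub_incl_subT_mem (c : MvPolynomial (Fin 2) k) (a : MvPolynomial (Fin 3) k) :
    a - incl (subT c a) ∈ Ideal.span {(X 2 - incl c : MvPolynomial (Fin 3) k)} := by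
  set K := Ideal.span {(X 2 - incl c : MvPolynomial (Fin 3) k)} with hK
  have h : (Ideal.Quotient.mkₐ k K) = ((Ideal.Quotient.mkₐ k K).comp incl).comp (subT c) := by
    apply MvPolynomial.algHom_ext
    intro i
    fin_cases i
    · simp
    · simp
    · simp only [AlgHom.comp_apply, Ideal.Quotient.mkₐ_eq_mk]
      rw [Ideal.Quotient.eq]
      show X 2 - incl (subT c (X 2)) ∈ K
      rw [subT_X2]
      exact Ideal.subset_span rfl
  have h2 := congrArg (fun φ => φ a) h
  simp only [AlgHom.comp_apply, Ideal.Quotient.mkₐ_eq_mk] at h2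
  rwa [Ideal.Quotient.eq] at h2

lemma exists_eq_add_mul_X2 (a : MvPolynomial (Fin 3) k) :
    ∃ a₁, a - incl (subT 0 a) = a₁ * X 2 := by
  have h := sub_incl_subT_mem (0 : MvPolynomial (Fin 2) k) a
  rw [map_zero, sub_zero, Ideal.mem_span_singleton'] at h
  obtain ⟨a₁, ha₁⟩ := h
  exact ⟨a₁, ha₁.symm⟩

/-- `T` is a nonzerodivisor modulo `(f, g)` when `f(X,Y,0)`, `g(X,Y,0)` are coprime. -/
theorem mem_of_mul_X2_mem (f g : MvPolynomial (Fin 3) k)
    (hT : IsRelPrime (subT 0 f) (subT 0 g)) (h : MvPolynomial (Fin 3) k)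
    (hmul : h * X 2 ∈ Ideal.span ({f, g} : Set (MvPolynomial (Fin 3) k))) :
    h ∈ Ideal.span ({f, g} : Set (MvPolynomial (Fin 3) k)) := by
  obtain ⟨a, b, hab⟩ := Ideal.mem_span_pair.mp hmul
  have h0 : subT 0 a * subT 0 f + subT 0 b * subT 0 g = 0 := by
    rw [← map_mul, ← map_mul, ← map_add, hab, map_mul, subT_X2, mul_zero]
  obtain ⟨c, hc1, hc2⟩ := exists_of_isRelPrime_of_add_eq_zero hT h0
  obtain ⟨a₁, ha⟩ := exists_eq_add_mul_X2 a
  obtain ⟨b₁, hb⟩ := exists_eq_add_mul_X2 b
  obtain ⟨f₁, hf⟩ := exists_eq_add_mul_X2 f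
  obtain ⟨g₁, hg⟩ := exists_eq_add_mul_X2 g
  have hA : incl (subT 0 a) = incl c * incl (subT 0 g) := by rw [hc1, map_mul]
  have hB : incl (subT 0 b) = -(incl c * incl (subT 0 f)) := by rw [hc2, map_neg, map_mul]
  rw [Ideal.mem_span_pair]
  refine ⟨a₁ - incl c * g₁, b₁ + incl c * f₁, ?_⟩
  apply mul_right_cancel₀ (X_ne_zero (2 : Fin 3) : (X 2 : MvPolynomial (Fin 3) k) ≠ 0)
  linear_combination hab - f * ha - g * hb - f * hA - g * hB - incl c * g * hf + incl c * f * hg

end plane

section count

variable {k : Type u} [Field k]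

lemma homogeneousComponent_X2_mul (y : PR k 3) (j : ℕ) :
    homogeneousComponent j (X 2 * y) =
      if j = 0 then 0 else X 2 * homogeneousComponent (j - 1) y := by
  split_ifs with hj
  · subst hj
    rw [homogeneousComponent_zero, MvPolynomial.coeff_X_mul']
    simp
  · exact homogeneousComponent_mul_of_left (X 2) y 1 j (isHomogeneous_X k 2) (by omega)

/-- the kernel lemma: a form congruent to an element of `I` modulo `T - 1` lies in `I`, when `T`
is a nonzerodivisor modulo the homogeneous ideal `I`. -/
theorem mem_of_eq_add (I : Ideal (PR k 3))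
    (hIh : I.IsHomogeneous (homogeneousSubmodule (Fin 3) k))
    (hreg : ∀ h : PR k 3, h * X 2 ∈ I → h ∈ I) (M : ℕ) (x i y : PR k 3)
    (hx : x.IsHomogeneous M) (hi : i ∈ I) (hxy : x = i + (X 2 - 1) * y) : x ∈ I := by
  have hcomp : ∀ j, homogeneousComponent j x = homogeneousComponent j i +
      (if j = 0 then 0 else X 2 * homogeneousComponent (j - 1) y) -
        homogeneousComponent j y := by
    intro j
    rw [hxy, map_add, sub_mul, one_mul, map_sub, homogeneousComponent_X2_mul]
    ring
  have hxj : ∀ j, j ≠ M → homogeneousComponent j x = 0 := by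
    intro j hj
    rw [homogeneousComponent_of_mem hx, if_neg hj]
  have hi' : ∀ j, homogeneousComponent j i ∈ I := fun j => homogeneousComponent_mem_of_mem hIh hi j
  have hA : ∀ j, j < M → homogeneousComponent j y ∈ I := by
    intro j
    induction j with
    | zero =>
      intro h0
      have h1 := hcomp 0
      rw [hxj 0 (by omega), if_pos rfl, add_zero] at h1
      have h2 : homogeneousComponent 0 y = homogeneousComponent 0 i := by
        linear_combination h1
      rw [h2]
      exact hi' 0
    | succ j ih =>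
      intro hj
      have h1 := hcomp (j + 1)
      rw [hxj (j + 1) (by omega), if_neg (by omega), Nat.add_sub_cancel] at h1
      have h2 : homogeneousComponent (j + 1) y =
          homogeneousComponent (j + 1) i + X 2 * homogeneousComponent j y := by
        linear_combination h1
      rw [h2]
      exact I.add_mem (hi' _) (I.mul_mem_left _ (ih (by omega)))
  have hB : ∀ e, homogeneousComponent (M + e) y - X 2 ^ e * homogeneousComponent M y ∈ I := by
    intro e
    induction e with
    | zero => rw [pow_zero, one_mul, add_zero, sub_self]; exact zero_mem _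
    | succ e ih =>
      have h1 := hcomp (M + (e + 1))
      rw [hxj (M + (e + 1)) (by omega), if_neg (by omega),
        show M + (e + 1) - 1 = M + e by omega] at h1
      have h2 : homogeneousComponent (M + (e + 1)) y - X 2 ^ (e + 1) * homogeneousComponent M y =
          homogeneousComponent (M + (e + 1)) i +
            X 2 * (homogeneousComponent (M + e) y - X 2 ^ e * homogeneousComponent M y) := by
        linear_combination h1
      rw [h2]
      exact I.add_mem (hi' _) (I.mul_mem_left _ ih)
  have hpow : ∀ e (z : PR k 3), X 2 ^ e * z ∈ I → z ∈ I := by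
    intro e
    induction e with
    | zero => intro z hz; rwa [pow_zero, one_mul] at hz
    | succ e ih =>
      intro z hz
      apply ih
      apply hreg
      rw [pow_succ] at hz
      convert hz using 1
      ring
  have hyM : homogeneousComponent M y ∈ I := by
    apply hpow (y.totalDegree + 1)
    have h1 := hB (y.totalDegree + 1)
    have h0 : homogeneousComponent (M + (y.totalDegree + 1)) y = 0 :=
      homogeneousComponent_eq_zero _ _ (by omega)
    rw [h0, zero_sub, neg_mem_iff] at h1
    exact h1
  have h1 := hcomp M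
  rw [homogeneousComponent_eq_self hx] at h1
  rw [h1]
  refine I.sub_mem (I.add_mem (hi' _) ?_) hyM
  split_ifs with hM
  · exact zero_mem _
  · exact I.mul_mem_left _ (hA _ (by omega))

end count

end Groth.Agent.Lib.Helper22.Bezout
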