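import Mathlib
import Groth.Agent.Lib.Helper22.Bezout2

/-!
# The affine Bezout count for two plane curves: assembly
-/

set_option autoImplicit false
set_option linter.unusedSectionVars false
set_option linter.style.haveILetI false

universe u

namespace Groth.Agent.Lib.Helper22.Bezout

open MvPolynomial Groth.Agent.Lib.Helper22.GrSamuel

variable {k : Type u} [Field k]

/-- if `(I + (T))_{j+1}` is everything, forms of degree `j+1` are `T`-multiples modulo `I`. -/
lemma exists_eq_add_X2_mul (I : Ideal (PR k 3))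
    (hIh : I.IsHomogeneous (homogeneousSubmodule (Fin 3) k)) (j : ℕ)
    (htop : piece (I ⊔ Ideal.span {(X 2 : PR k 3)}) (j + 1) =
      homogeneousSubmodule (Fin 3) k (j + 1))
    (s : PR k 3) (hs : s.IsHomogeneous (j + 1)) :
    ∃ i' ∈ I, ∃ s' : PR k 3, s'.IsHomogeneous j ∧ s = i' + X 2 * s' := by
  have h1 : s ∈ piece (I ⊔ Ideal.span {(X 2 : PR k 3)}) (j + 1) := by
    rw [htop]; exact hs
  rw [mem_piece] at h1
  obtain ⟨i, hi, z, hz, hsum⟩ := Submodule.mem_sup.1 h1.1
  obtain ⟨g, rfl⟩ := Ideal.mem_span_singleton'.1 hz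
  refine ⟨homogeneousComponent (j + 1) i, homogeneousComponent_mem_of_mem hIh hi _,
    homogeneousComponent j g, homogeneousComponent_isHomogeneous j g, ?_⟩
  conv_lhs => rw [← homogeneousComponent_eq_self hs, ← hsum]
  rw [map_add, mul_comm g (X 2), homogeneousComponent_mul_of_left (X 2) g 1 (j + 1)
    (isHomogeneous_X k 2) (by omega), Nat.add_sub_cancel]

theorem affine_count (n m : ℕ) (f g : PR k 3) (hf : f.IsHomogeneous n) (hg : g.IsHomogeneous m)
    (hn : 0 < n) (hm : 0 < m) (hfg : IsRelPrime f g)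
    (hT : IsRelPrime (subT 0 f) (subT 0 g)) :
    Module.finrank k (MvPolynomial (Fin 2) k ⧸
      Ideal.span ({subT 1 f, subT 1 g} : Set (MvPolynomial (Fin 2) k))) = n * m := by
  classical
  obtain ⟨P, hP⟩ : ∃ P : ℕ, P = n * m := ⟨_, rfl⟩
  rw [← hP]
  set I : Ideal (PR k 3) := Ideal.span ({f, g} : Set (PR k 3)) with hI
  set J : Ideal (MvPolynomial (Fin 2) k) :=
    Ideal.span ({subT 1 f, subT 1 g} : Set (MvPolynomial (Fin 2) k)) with hJ
  have hIJ : I.map (subT (1 : MvPolynomial (Fin 2) k)) = J := by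
    rw [hI, hJ, Ideal.map_span, Set.image_pair]
  have hIh : I.IsHomogeneous (homogeneousSubmodule (Fin 3) k) := by
    apply Ideal.homogeneous_span
    intro x hx
    rcases hx with rfl | rfl
    · exact ⟨n, hf⟩
    · exact ⟨m, hg⟩
  have hreg : ∀ h : PR k 3, h * X 2 ∈ I → h ∈ I := fun h hh => mem_of_mul_X2_mem f g hT h hh
  -- Bezout
  set F : Fin 2 → PR k 3 := ![f, g] with hF
  set d : Fin 2 → ℕ := ![n, m] with hd
  have hrange : Ideal.span (Set.range F) = I := by
    rw [hI, hF]
    congr 1
    ext x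
    simp [eq_comm]
    exact or_comm
  have hht : ((2 : ℕ) : ℕ∞) ≤ (Ideal.span (Set.range F)).height := by
    rw [hrange]
    exact_mod_cast two_le_height_of_isRelPrime hfg
  have hd1 : ∀ i, 1 ≤ d i := by
    intro i
    fin_cases i
    · exact hn
    · exact hm
  have hFh : ∀ i, (F i).IsHomogeneous (d i) := by
    intro i
    fin_cases i
    · exact hf
    · exact hg
  obtain ⟨M, hM⟩ := bezout (n := 2) hd1 hFh hht
  rw [hrange] at hM
  have hprod : ∏ i : Fin 2, d i = n * m := by
    rw [Fin.prod_univ_two]; rfl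
  rw [hprod, ← hP] at hM
  have hM' : ∀ j, M ≤ j → Module.finrank k (homogeneousSubmodule (Fin 3) k j) =
      Module.finrank k (piece I j) + P := by
    intro j hj
    have h1 : Module.finrank k (homogeneousSubmodule (Fin 3) k j) -
        Module.finrank k (piece I j) = P := hM j hj
    have h2 := finrank_piece_le I j
    omega
  have hstep : ∀ j, M ≤ j → ∀ s : PR k 3, s.IsHomogeneous (j + 1) →
      ∃ i' ∈ I, ∃ s' : PR k 3, s'.IsHomogeneous j ∧ s = i' + X 2 * s' := by
    intro j hj s hs
    refine exists_eq_add_X2_mul I hIh j ?_ s hs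
    have key := finrank_piece_sup I hIh (X 2) 1 (isHomogeneous_X k 2) (X_ne_zero 2)
      (fun g' t _ h => hreg g' h) (j + 1) (by omega)
    rw [Nat.add_sub_cancel] at key
    have e1 := hM' j hj
    have e2 := hM' (j + 1) (by omega)
    refine Submodule.eq_of_le_of_finrank_eq inf_le_right ?_
    have key2 : Module.finrank k ↥(piece (I ⊔ Ideal.span {X 2}) (j + 1)) +
        Module.finrank k ↥(piece I j) =
        Module.finrank k ↥(homogeneousSubmodule (Fin 3) k (j + 1)) +
          Module.finrank k ↥(piece I j) := by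
      rw [key, e1, e2]
      ring
    exact Nat.add_right_cancel key2
  set Λ : homogeneousSubmodule (Fin 3) k M →ₗ[k] (MvPolynomial (Fin 2) k ⧸ J) :=
    ((Ideal.Quotient.mkₐ k J).toLinearMap ∘ₗ (subT 1).toLinearMap) ∘ₗ
      (homogeneousSubmodule (Fin 3) k M).subtype with hΛ
  have hΛa : ∀ x, Λ x = Ideal.Quotient.mk J (subT 1 (x : PR k 3)) := fun x => rfl
  have hI0 : ∀ i' ∈ I, Ideal.Quotient.mk J (subT 1 i') = 0 := by
    intro i' hi'
    rw [Ideal.Quotient.eq_zero_iff_mem, ← hIJ]
    exact Ideal.mem_map_of_mem _ hi'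
  have hC0 : ∀ j, j ≤ M → ∀ s : PR k 3, s.IsHomogeneous j →
      Ideal.Quotient.mk J (subT 1 s) ∈ LinearMap.range Λ := by
    intro j hj s hs
    refine ⟨⟨s * X 2 ^ (M - j), ?_⟩, ?_⟩
    · have := hs.mul (isHomogeneous_X_pow (R := k) (2 : Fin 3) (M - j))
      rwa [Nat.add_sub_cancel' hj] at this
    · rw [hΛa]
      simp
  have hC : ∀ e, ∀ s : PR k 3, s.IsHomogeneous (M + e) →
      Ideal.Quotient.mk J (subT 1 s) ∈ LinearMap.range Λ := by
    intro e
    induction e with
    | zero => intro s hs; exact hC0 M le_rfl s hs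
    | succ e ih =>
      intro s hs
      obtain ⟨i', hi', s', hs', rfl⟩ := hstep (M + e) (by omega) s hs
      rw [map_add, map_mul, subT_X2, one_mul, map_add, hI0 i' hi', zero_add]
      exact ih s' hs'
  have hsurj : LinearMap.range Λ = ⊤ := by
    rw [eq_top_iff]
    rintro r -
    obtain ⟨r, rfl⟩ := Ideal.Quotient.mk_surjective r
    have hr : r = ∑ j ∈ Finset.range ((incl r).totalDegree + 1),
        subT 1 (homogeneousComponent j (incl r)) := by
      rw [← map_sum, sum_homogeneousComponent, subT_incl]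
    rw [hr, map_sum]
    refine Submodule.sum_mem _ fun j _ => ?_
    by_cases hj : j ≤ M
    · exact hC0 j hj _ (homogeneousComponent_isHomogeneous j _)
    · obtain ⟨e, rfl⟩ : ∃ e, j = M + e := ⟨j - M, by omega⟩
      exact hC e _ (homogeneousComponent_isHomogeneous _ _)
  have hker : LinearMap.ker Λ =
      Submodule.comap (homogeneousSubmodule (Fin 3) k M).subtype (piece I M) := by
    ext ⟨x, hx⟩
    rw [LinearMap.mem_ker, hΛa, Submodule.mem_comap, Submodule.subtype_apply, mem_piece,
      Ideal.Quotient.eq_zero_iff_mem]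
    constructor
    · intro h
      refine ⟨?_, hx⟩
      rw [← hIJ, Ideal.mem_map_iff_of_surjective _ (subT_surjective 1)] at h
      obtain ⟨i, hi, hix⟩ := h
      have h2 := sub_incl_subT_mem (1 : MvPolynomial (Fin 2) k) (x - i)
      rw [map_sub, hix, sub_self, map_zero, sub_zero, map_one, Ideal.mem_span_singleton'] at h2
      obtain ⟨y, hy⟩ := h2
      exact mem_of_eq_add I hIh hreg M x i y hx hi (by linear_combination -hy)
    · rintro ⟨h, -⟩
      rw [← hIJ]
      exact Ideal.mem_map_of_mem _ h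
  have hrn := LinearMap.finrank_range_add_finrank_ker Λ
  rw [hsurj, finrank_top, hker] at hrn
  have e3 : Module.finrank k (Submodule.comap (homogeneousSubmodule (Fin 3) k M).subtype
      (piece I M)) = Module.finrank k (piece I M) :=
    (Submodule.comapSubtypeEquivOfLe (inf_le_right : piece I M ≤ _)).finrank_eq
  have e4 := hM' M le_rfl
  omega

end Groth.Agent.Lib.Helper22.Bezout
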