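import Mathlib

set_option autoImplicit false
set_option linter.style.haveILetI false
set_option linter.unusedVariables false
universe u
open Polynomial

/-! Hypersurface models of separably generated function fields (pure algebra). -/

namespace Groth.Agent.Lib.Helper22.BiratHyp

theorem exists_hypersurface_model (k : Type u) [Field k] (K : Type u) [Field K] [Algebra k K]
    [Algebra.EssFiniteType k K] {d : ℕ} (s : Fin d → K) (hs : IsTranscendenceBasis k s)
    (hsep : Algebra.IsSeparable (IntermediateField.adjoin k (Set.range s)) K) :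
    ∃ (g : Polynomial (MvPolynomial (Fin d) k)), g.Monic ∧
      Irreducible (g.map (algebraMap (MvPolynomial (Fin d) k)
        (FractionRing (MvPolynomial (Fin d) k)))) ∧
      (g.map (algebraMap (MvPolynomial (Fin d) k)
        (FractionRing (MvPolynomial (Fin d) k)))).Separable ∧
      ∃ ψ : AdjoinRoot g →ₐ[k] K, Function.Injective ψ ∧ ∀ z : K, ∃ a b, z = ψ a / ψ b := by
  classical
  letI algPK : Algebra (MvPolynomial (Fin d) k) K :=
    (MvPolynomial.aeval s : MvPolynomial (Fin d) k →ₐ[k] K).toRingHom.toAlgebra
  have hinj : Function.Injective (algebraMap (MvPolynomial (Fin d) k) K) := hs.1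
  haveI towerkPK : IsScalarTower k (MvPolynomial (Fin d) k) K :=
    IsScalarTower.of_algebraMap_eq (fun c => by
      change algebraMap k K c = MvPolynomial.aeval s (algebraMap k (MvPolynomial (Fin d) k) c)
      rw [AlgHom.commutes])
  haveI : FaithfulSMul (MvPolynomial (Fin d) k) K :=
    (faithfulSMul_iff_algebraMap_injective (MvPolynomial (Fin d) k) K).mpr hinj
  letI algFK : Algebra (FractionRing (MvPolynomial (Fin d) k)) K :=
    FractionRing.liftAlgebra (MvPolynomial (Fin d) k) K
  haveI towerPFK : IsScalarTower (MvPolynomial (Fin d) k)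
      (FractionRing (MvPolynomial (Fin d) k)) K :=
    FractionRing.isScalarTower_liftAlgebra (MvPolynomial (Fin d) k) K
  haveI towerkFK : IsScalarTower k (FractionRing (MvPolynomial (Fin d) k)) K :=
    IsScalarTower.of_algebraMap_eq (fun c => by
      rw [IsScalarTower.algebraMap_apply k (MvPolynomial (Fin d) k)
        (FractionRing (MvPolynomial (Fin d) k)),
        ← IsScalarTower.algebraMap_apply (MvPolynomial (Fin d) k)
          (FractionRing (MvPolynomial (Fin d) k)) K,
        ← IsScalarTower.algebraMap_apply k (MvPolynomial (Fin d) k) K])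
  have hEle : IntermediateField.adjoin k (Set.range s) ≤
      (IsScalarTower.toAlgHom k (FractionRing (MvPolynomial (Fin d) k)) K).fieldRange := by
    rw [IntermediateField.adjoin_le_iff]
    rintro _ ⟨i, rfl⟩
    refine ⟨algebraMap (MvPolynomial (Fin d) k) (FractionRing (MvPolynomial (Fin d) k))
      (MvPolynomial.X i), ?_⟩
    change algebraMap (FractionRing (MvPolynomial (Fin d) k)) K
      (algebraMap (MvPolynomial (Fin d) k) (FractionRing (MvPolynomial (Fin d) k))
        (MvPolynomial.X i)) = s i
    rw [← IsScalarTower.algebraMap_apply (MvPolynomial (Fin d) k)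
      (FractionRing (MvPolynomial (Fin d) k)) K]
    change MvPolynomial.aeval s (MvPolynomial.X i) = s i
    rw [MvPolynomial.aeval_X]
  haveI hsepF : Algebra.IsSeparable (FractionRing (MvPolynomial (Fin d) k)) K := by
    refine ⟨fun x => ?_⟩
    have hx : IsSeparable (IntermediateField.adjoin k (Set.range s)) x :=
      Algebra.IsSeparable.isSeparable _ x
    have hlift : (minpoly (IntermediateField.adjoin k (Set.range s)) x).map
        (algebraMap (IntermediateField.adjoin k (Set.range s)) K) ∈
        Polynomial.lifts (algebraMap (FractionRing (MvPolynomial (Fin d) k)) K) := by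
      rw [Polynomial.lifts_iff_coeff_lifts]
      intro n
      rw [Polynomial.coeff_map]
      obtain ⟨y, hy⟩ := AlgHom.mem_fieldRange.mp
        (hEle ((minpoly (IntermediateField.adjoin k (Set.range s)) x).coeff n).2)
      exact ⟨y, hy⟩
    obtain ⟨q, hq⟩ := hlift
    replace hq : Polynomial.map (algebraMap (FractionRing (MvPolynomial (Fin d) k)) K) q =
        (minpoly (IntermediateField.adjoin k (Set.range s)) x).map
          (algebraMap (IntermediateField.adjoin k (Set.range s)) K) := hq
    have hqsep : q.Separable := by
      rw [← Polynomial.separable_map (algebraMap (FractionRing (MvPolynomial (Fin d) k)) K), hq,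
        Polynomial.separable_map]
      exact hx
    have hqx : Polynomial.aeval x q = 0 := by
      rw [Polynomial.aeval_def, ← Polynomial.eval_map, hq, Polynomial.eval_map,
        ← Polynomial.aeval_def, minpoly.aeval]
    exact hqsep.of_dvd (minpoly.dvd _ x hqx)
  haveI : Algebra.EssFiniteType (FractionRing (MvPolynomial (Fin d) k)) K :=
    Algebra.EssFiniteType.of_comp k (FractionRing (MvPolynomial (Fin d) k)) K
  haveI : Algebra.IsAlgebraic (FractionRing (MvPolynomial (Fin d) k)) K := inferInstance
  haveI : FiniteDimensional (FractionRing (MvPolynomial (Fin d) k)) K :=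
    Algebra.finite_of_essFiniteType_of_isAlgebraic
  obtain ⟨α, hα⟩ := Field.exists_primitive_element (FractionRing (MvPolynomial (Fin d) k)) K
  have hαalg : IsAlgebraic (MvPolynomial (Fin d) k) α :=
    (IsFractionRing.isAlgebraic_iff (MvPolynomial (Fin d) k)
      (FractionRing (MvPolynomial (Fin d) k)) K).mpr (Algebra.IsAlgebraic.isAlgebraic α)
  obtain ⟨c, hc0, hcint⟩ := hαalg.exists_integral_multiple
  have hβtop : IntermediateField.adjoin (FractionRing (MvPolynomial (Fin d) k)) {c • α} = ⊤ := by
    rw [eq_top_iff, ← hα, IntermediateField.adjoin_simple_le_iff]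
    have hcF : algebraMap (MvPolynomial (Fin d) k) (FractionRing (MvPolynomial (Fin d) k)) c ≠ 0 :=
      (map_ne_zero_iff _ (IsFractionRing.injective (MvPolynomial (Fin d) k)
        (FractionRing (MvPolynomial (Fin d) k)))).mpr hc0
    have h1 : α = (algebraMap (MvPolynomial (Fin d) k)
        (FractionRing (MvPolynomial (Fin d) k)) c)⁻¹ • (c • α) := by
      rw [← algebraMap_smul (FractionRing (MvPolynomial (Fin d) k)) c α, smul_smul,
        inv_mul_cancel₀ hcF, one_smul]
    have h2 : (algebraMap (MvPolynomial (Fin d) k)
        (FractionRing (MvPolynomial (Fin d) k)) c)⁻¹ • (c • α) ∈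
        IntermediateField.adjoin (FractionRing (MvPolynomial (Fin d) k)) {c • α} :=
      IntermediateField.smul_mem _ (IntermediateField.mem_adjoin_simple_self _ _)
    rwa [← h1] at h2
  have hgF : minpoly (FractionRing (MvPolynomial (Fin d) k)) (c • α) =
      (minpoly (MvPolynomial (Fin d) k) (c • α)).map
        (algebraMap (MvPolynomial (Fin d) k) (FractionRing (MvPolynomial (Fin d) k))) :=
    minpoly.isIntegrallyClosed_eq_field_fractions' (FractionRing (MvPolynomial (Fin d) k)) hcint
  have hroot : (minpoly (MvPolynomial (Fin d) k) (c • α)).eval₂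
      (MvPolynomial.aeval s : MvPolynomial (Fin d) k →ₐ[k] K) (c • α) = 0 := by
    have := minpoly.aeval (MvPolynomial (Fin d) k) (c • α)
    rwa [Polynomial.aeval_def] at this
  refine ⟨minpoly (MvPolynomial (Fin d) k) (c • α), minpoly.monic hcint, ?_, ?_,
    AdjoinRoot.liftAlgHom _ (MvPolynomial.aeval s) (c • α) hroot, ?_, ?_⟩
  · rw [← hgF]
    exact minpoly.irreducible (Algebra.IsIntegral.isIntegral _)
  · rw [← hgF]
    exact Algebra.IsSeparable.isSeparable _ _
  · rw [injective_iff_map_eq_zero]
    intro a
    induction a using AdjoinRoot.induction_on with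
    | ih p =>
      intro hp
      rw [AdjoinRoot.liftAlgHom_mk] at hp
      have hp' : Polynomial.aeval (c • α) p = 0 := by
        rw [Polynomial.aeval_def]; exact hp
      rw [AdjoinRoot.mk_eq_zero]
      exact minpoly.isIntegrallyClosed_dvd hcint hp'
  · intro z
    have hz : z ∈ Algebra.adjoin (FractionRing (MvPolynomial (Fin d) k)) {c • α} := by
      have h1 : Algebra.adjoin (FractionRing (MvPolynomial (Fin d) k)) {c • α} = ⊤ :=
        (IntermediateField.adjoin_simple_eq_top_iff_of_isAlgebraic
          (Algebra.IsAlgebraic.isAlgebraic _)).mp hβtop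
      rw [h1]; trivial
    rw [Algebra.adjoin_singleton_eq_range_aeval] at hz
    obtain ⟨q, rfl⟩ := hz
    obtain ⟨b, hbM, hb⟩ := IsLocalization.integerNormalization_spec
      (nonZeroDivisors (MvPolynomial (Fin d) k)) q
    have hb0 : (MvPolynomial.aeval s : MvPolynomial (Fin d) k →ₐ[k] K) b ≠ 0 :=
      (map_ne_zero_iff (algebraMap (MvPolynomial (Fin d) k) K) hinj).mpr
        (nonZeroDivisors.ne_zero hbM)
    refine ⟨AdjoinRoot.mk _ (IsLocalization.integerNormalization
      (nonZeroDivisors (MvPolynomial (Fin d) k)) q), AdjoinRoot.of _ b, ?_⟩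
    rw [AdjoinRoot.liftAlgHom_mk, AdjoinRoot.liftAlgHom_of, eq_div_iff hb0]
    have h2 : b • Polynomial.aeval (c • α) q = Polynomial.aeval (c • α)
        (IsLocalization.integerNormalization (nonZeroDivisors (MvPolynomial (Fin d) k)) q) := by
      rw [← Polynomial.aeval_map_algebraMap (FractionRing (MvPolynomial (Fin d) k)) (c • α)
        (IsLocalization.integerNormalization (nonZeroDivisors (MvPolynomial (Fin d) k)) q), hb,
        ← algebraMap_smul (FractionRing (MvPolynomial (Fin d) k)) b q, map_smul, algebraMap_smul]
    change Polynomial.aeval (c • α) q * algebraMap (MvPolynomial (Fin d) k) K b =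
      Polynomial.aeval (c • α)
        (IsLocalization.integerNormalization (nonZeroDivisors (MvPolynomial (Fin d) k)) q)
    rw [mul_comm, ← Algebra.smul_def]
    exact h2
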