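import Mathlib
import Groth.Agent.Lib.Helper22.BiratHyp
import Groth.Agent.Lib.Helper11.Birat5
import Groth.Agent.Lib.Helper12.SchemeDimFT

set_option autoImplicit false
set_option linter.style.haveILetI false
set_option linter.unusedVariables false
universe u
open CategoryTheory AlgebraicGeometry TopologicalSpace
attribute [local instance] Curv2.stalkAlgebra

/-! A separably generated function field is the function field of a hypersurface. -/

namespace Groth.Agent.Lib.Helper22.BiratHyp

open Groth.Agent.Lib.Helper12 Groth.Agent.Lib.Helper11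

theorem essFiniteType_stalk (k : Type u) [Field k] (X : Scheme.{u})
    [X.Over (Spec (CommRingCat.of k))] [LocallyOfFiniteType (X ↘ Spec (CommRingCat.of k))]
    (x : X) : Algebra.EssFiniteType k (X.presheaf.stalk x) := by
  obtain ⟨_, ⟨U, hU, rfl⟩, hxU, -⟩ :=
    X.isBasis_affineOpens.exists_subset_of_mem_open (Set.mem_univ x) isOpen_univ
  letI algkB : Algebra k Γ(X, U) := SchemeDimFT.secAlgebra k X U
  haveI ft : Algebra.FiniteType k Γ(X, U) := SchemeDimFT.finiteType_sec k X U hU
  letI algBSt : Algebra Γ(X, U) (X.presheaf.stalk x) := (X.presheaf.germ U x hxU).hom.toAlgebra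
  haveI tw : IsScalarTower k Γ(X, U) (X.presheaf.stalk x) :=
    IsScalarTower.of_algebraMap_eq (fun c => by
      change (X.presheaf.germ ⊤ x trivial).hom (Coh.toGlobal (X ↘ Spec (CommRingCat.of k)) c) =
        (X.presheaf.germ U x hxU).hom (SchemeDimFT.secMap k X U c)
      simp only [SchemeDimFT.secMap, RingHom.comp_apply]
      exact (TopCat.Presheaf.germ_res_apply X.presheaf (homOfLE (le_top : U ≤ ⊤)) x hxU _).symm)
  haveI loc : IsLocalization.AtPrime (X.presheaf.stalk x) (hU.primeIdealOf ⟨x, hxU⟩).asIdeal :=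
    hU.isLocalization_stalk ⟨x, hxU⟩
  haveI : Algebra.EssFiniteType Γ(X, U) (X.presheaf.stalk x) :=
    Algebra.EssFiniteType.of_isLocalization (X.presheaf.stalk x)
      (hU.primeIdealOf ⟨x, hxU⟩).asIdeal.primeCompl
  exact Algebra.EssFiniteType.comp k Γ(X, U) (X.presheaf.stalk x)

theorem stalk_compat (k : Type u) [Field k] {X Y : Scheme.{u}}
    (sX : X ⟶ Spec (CommRingCat.of k)) (sY : Y ⟶ Spec (CommRingCat.of k)) (x : X) (y : Y)
    (hxy : sX.base x = sY.base y) (e : X.presheaf.stalk x ≅ Y.presheaf.stalk y)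
    (he : ∀ c : k, e.hom.hom ((X.presheaf.germ ⊤ x trivial).hom (Coh.toGlobal sX c)) =
      (Y.presheaf.germ ⊤ y trivial).hom (Coh.toGlobal sY c)) :
    sX.stalkMap x ≫ e.hom =
      eqToHom (congrArg (Spec (CommRingCat.of k)).presheaf.stalk hxy) ≫ sY.stalkMap y := by
  haveI : Subsingleton ↥(Spec (CommRingCat.of k)) :=
    inferInstanceAs (Subsingleton (PrimeSpectrum k))
  apply TopCat.Presheaf.stalk_hom_ext
  intro U hU
  have hUtop : U = ⊤ := by
    ext z
    simp only [Opens.coe_top, Set.mem_univ, iff_true]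
    rw [Subsingleton.elim z (sX.base x)]
    exact hU
  subst hUtop
  ext r
  have hr : r = (Scheme.ΓSpecIso (CommRingCat.of k)).inv.hom
      ((Scheme.ΓSpecIso (CommRingCat.of k)).hom.hom r) :=
    (ConcreteCategory.congr_hom (Scheme.ΓSpecIso (CommRingCat.of k)).hom_inv_id r).symm
  have key1 : ∀ c : k, (sX.stalkMap x).hom
      (((Spec (CommRingCat.of k)).presheaf.germ ⊤ (sX.base x) trivial).hom
        ((Scheme.ΓSpecIso (CommRingCat.of k)).inv.hom c)) =
      (X.presheaf.germ ⊤ x trivial).hom (Coh.toGlobal sX c) := fun c =>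
    (Scheme.Hom.germ_stalkMap_apply sX ⊤ x trivial _).trans rfl
  have key2 : ∀ c : k, (sY.stalkMap y).hom
      (((Spec (CommRingCat.of k)).presheaf.germ ⊤ (sY.base y) trivial).hom
        ((Scheme.ΓSpecIso (CommRingCat.of k)).inv.hom c)) =
      (Y.presheaf.germ ⊤ y trivial).hom (Coh.toGlobal sY c) := fun c =>
    (Scheme.Hom.germ_stalkMap_apply sY ⊤ y trivial _).trans rfl
  rw [hr]
  change e.hom.hom ((sX.stalkMap x).hom
      (((Spec (CommRingCat.of k)).presheaf.germ ⊤ (sX.base x) trivial).hom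
        ((Scheme.ΓSpecIso (CommRingCat.of k)).inv.hom
          ((Scheme.ΓSpecIso (CommRingCat.of k)).hom.hom r)))) =
    (sY.stalkMap y).hom ((eqToHom (congrArg (Spec (CommRingCat.of k)).presheaf.stalk hxy)).hom
      (((Spec (CommRingCat.of k)).presheaf.germ ⊤ (sX.base x) trivial).hom
        ((Scheme.ΓSpecIso (CommRingCat.of k)).inv.hom
          ((Scheme.ΓSpecIso (CommRingCat.of k)).hom.hom r))))
  refine (congrArg e.hom.hom (key1 _)).trans ((he _).trans ((key2 _).symm.trans ?_))
  exact congrArg (sY.stalkMap y).hom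
    (Birat.germ_eqToHom (Spec (CommRingCat.of k)) hxy ⊤ trivial _).symm

theorem exists_open_iso_open_hypersurface (k : Type u) [Field k]
    (X : Scheme.{u}) [X.Over (Spec (CommRingCat.of k))] [IsIntegral X]
    [LocallyOfFiniteType (X ↘ Spec (CommRingCat.of k))]
    (d : ℕ) (s : Fin d → X.presheaf.stalk (genericPoint X)) (hs : IsTranscendenceBasis k s)
    (hsep : Algebra.IsSeparable ↥(IntermediateField.adjoin k (Set.range s))
      (X.presheaf.stalk (genericPoint X))) :
    ∃ (g : Polynomial (MvPolynomial (Fin d) k)), g.Monic ∧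
      Irreducible (g.map (algebraMap (MvPolynomial (Fin d) k)
        (FractionRing (MvPolynomial (Fin d) k)))) ∧
      (g.map (algebraMap (MvPolynomial (Fin d) k)
        (FractionRing (MvPolynomial (Fin d) k)))).Separable ∧
      ∃ (U : X.Opens) (V : (Spec (CommRingCat.of (AdjoinRoot g))).Opens)
        (e : (U : Scheme.{u}) ≅ (V : Scheme.{u})),
        (U : Set X).Nonempty ∧ (V : Set (Spec (CommRingCat.of (AdjoinRoot g)))).Nonempty ∧
        e.hom ≫ V.ι ≫ Spec.map (CommRingCat.ofHom (algebraMap k (AdjoinRoot g))) =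
          U.ι ≫ (X ↘ Spec (CommRingCat.of k)) := by
  haveI := essFiniteType_stalk k X (genericPoint X)
  obtain ⟨g, hgm, hgi, hgs, ψ, hψinj, hψsurj⟩ :=
    exists_hypersurface_model k (X.presheaf.stalk (genericPoint X)) s hs hsep
  refine ⟨g, hgm, hgi, hgs, ?_⟩
  haveI hdom : IsDomain (AdjoinRoot g) := hψinj.isDomain ψ.toRingHom
  haveI ftP : Algebra.FiniteType (MvPolynomial (Fin d) k) (AdjoinRoot g) :=
    Algebra.FiniteType.of_surjective (AdjoinRoot.mkₐ g) AdjoinRoot.mk_surjective
  haveI ftR : Algebra.FiniteType k (AdjoinRoot g) :=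
    Algebra.FiniteType.trans (inferInstance : Algebra.FiniteType k (MvPolynomial (Fin d) k)) ftP
  haveI lft : LocallyOfFiniteType (Spec.map (CommRingCat.ofHom (algebraMap k (AdjoinRoot g)))) := by
    rw [HasRingHomProperty.Spec_iff (P := @LocallyOfFiniteType)]
    exact RingHom.finiteType_algebraMap.mpr ftR
  letI algΓK : Algebra Γ(Spec (CommRingCat.of (AdjoinRoot g)), ⊤)
      (X.presheaf.stalk (genericPoint X)) :=
    (ψ.toRingHom.comp (Scheme.ΓSpecIso (CommRingCat.of (AdjoinRoot g))).hom.hom).toAlgebra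
  have hΓinj : Function.Injective (algebraMap Γ(Spec (CommRingCat.of (AdjoinRoot g)), ⊤)
      (X.presheaf.stalk (genericPoint X))) :=
    hψinj.comp (ConcreteCategory.bijective_of_isIso
      (Scheme.ΓSpecIso (CommRingCat.of (AdjoinRoot g))).hom).1
  haveI : FaithfulSMul Γ(Spec (CommRingCat.of (AdjoinRoot g)), ⊤)
      (X.presheaf.stalk (genericPoint X)) :=
    (faithfulSMul_iff_algebraMap_injective _ _).mpr hΓinj
  have hinvhom : ∀ a : AdjoinRoot g, (Scheme.ΓSpecIso (CommRingCat.of (AdjoinRoot g))).hom.hom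
      ((Scheme.ΓSpecIso (CommRingCat.of (AdjoinRoot g))).inv.hom a) = a := fun a =>
    ConcreteCategory.congr_hom (Scheme.ΓSpecIso (CommRingCat.of (AdjoinRoot g))).inv_hom_id a
  haveI fracX : IsFractionRing Γ(Spec (CommRingCat.of (AdjoinRoot g)), ⊤)
      (X.presheaf.stalk (genericPoint X)) := by
    refine IsFractionRing.of_field (R := Γ(Spec (CommRingCat.of (AdjoinRoot g)), ⊤)) (K := X.presheaf.stalk (genericPoint X)) (fun z => ?_)
    obtain ⟨a, b, h⟩ := hψsurj z
    refine ⟨(Scheme.ΓSpecIso (CommRingCat.of (AdjoinRoot g))).inv.hom a,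
      (Scheme.ΓSpecIso (CommRingCat.of (AdjoinRoot g))).inv.hom b, ?_⟩
    change z = ψ ((Scheme.ΓSpecIso (CommRingCat.of (AdjoinRoot g))).hom.hom
        ((Scheme.ΓSpecIso (CommRingCat.of (AdjoinRoot g))).inv.hom a)) /
      ψ ((Scheme.ΓSpecIso (CommRingCat.of (AdjoinRoot g))).hom.hom
        ((Scheme.ΓSpecIso (CommRingCat.of (AdjoinRoot g))).inv.hom b))
    rw [hinvhom, hinvhom]
    exact h
  haveI : Nonempty (⊤ : (Spec (CommRingCat.of (AdjoinRoot g))).Opens) :=
    ⟨⟨genericPoint _, trivial⟩⟩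
  haveI fracY : IsFractionRing Γ(Spec (CommRingCat.of (AdjoinRoot g)), ⊤)
      (Spec (CommRingCat.of (AdjoinRoot g))).functionField :=
    functionField_isFractionRing_of_isAffineOpen (Spec (CommRingCat.of (AdjoinRoot g))) ⊤
      (isAffineOpen_top _)
  have hs0 : (X ↘ Spec (CommRingCat.of k)).base (genericPoint X) =
      (Spec.map (CommRingCat.ofHom (algebraMap k (AdjoinRoot g)))).base
        (genericPoint (Spec (CommRingCat.of (AdjoinRoot g)))) := by
    haveI : Subsingleton ↥(Spec (CommRingCat.of k)) :=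
      inferInstanceAs (Subsingleton (PrimeSpectrum k))
    exact Subsingleton.elim _ _
  have hcompat := stalk_compat k (X ↘ Spec (CommRingCat.of k))
    (Spec.map (CommRingCat.ofHom (algebraMap k (AdjoinRoot g)))) (genericPoint X)
    (genericPoint (Spec (CommRingCat.of (AdjoinRoot g)))) hs0
    (IsLocalization.algEquiv (nonZeroDivisors Γ(Spec (CommRingCat.of (AdjoinRoot g)), ⊤))
      (X.presheaf.stalk (genericPoint X))
      (Spec (CommRingCat.of (AdjoinRoot g))).functionField).toRingEquiv.toCommRingCatIso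
    (fun c => by
      have h1 : (X.presheaf.germ ⊤ (genericPoint X) trivial).hom
          (Coh.toGlobal (X ↘ Spec (CommRingCat.of k)) c) =
          algebraMap Γ(Spec (CommRingCat.of (AdjoinRoot g)), ⊤)
            (X.presheaf.stalk (genericPoint X))
            ((Scheme.ΓSpecIso (CommRingCat.of (AdjoinRoot g))).inv.hom
              (algebraMap k (AdjoinRoot g) c)) := by
        change algebraMap k (X.presheaf.stalk (genericPoint X)) c =
          ψ ((Scheme.ΓSpecIso (CommRingCat.of (AdjoinRoot g))).hom.hom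
            ((Scheme.ΓSpecIso (CommRingCat.of (AdjoinRoot g))).inv.hom
              (algebraMap k (AdjoinRoot g) c)))
        rw [hinvhom, AlgHom.commutes]
      have h2 : Coh.toGlobal (Spec.map (CommRingCat.ofHom (algebraMap k (AdjoinRoot g)))) c =
          (Scheme.ΓSpecIso (CommRingCat.of (AdjoinRoot g))).inv.hom
            (algebraMap k (AdjoinRoot g) c) :=
        (ConcreteCategory.congr_hom (Scheme.ΓSpecIso_inv_naturality
          (CommRingCat.ofHom (algebraMap k (AdjoinRoot g)))) c).symm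
      rw [h1, h2]
      exact AlgEquiv.commutes _ _)
  obtain ⟨U, V, iso, hxU, hyV, hiso⟩ := Birat.exists_iso_opens_of_stalkIso_lfp
    (X ↘ Spec (CommRingCat.of k)) (Spec.map (CommRingCat.ofHom (algebraMap k (AdjoinRoot g))))
    _ _ hs0 _ hcompat
  exact ⟨U, V, iso, ⟨_, hxU⟩, ⟨_, hyV⟩, hiso⟩

end Groth.Agent.Lib.Helper22.BiratHyp
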