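import Mathlib
import Groth.Agent.Lib.Helper22.CMReg
import Groth.Agent.Lib.Helper26.RegularSmooth

/-!
Complete intersections, part A: the affine cone over a projective scheme is, away from the vertex,
a Laurent polynomial ring over the charts.
-/

set_option autoImplicit false
set_option linter.style.haveILetI false
set_option linter.unusedSectionVars false
universe u
open MvPolynomial

namespace Groth.Agent.Lib.Helper22.CInt

theorem aeval_mul_of_isHomogeneous {σ R A : Type*} [CommSemiring R] [CommSemiring A] [Algebra R A]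
    {φ : MvPolynomial σ R} {d : ℕ} (hφ : φ.IsHomogeneous d) (a : σ → A) (t : A) :
    aeval (fun i => a i * t) φ = aeval a φ * t ^ d := by
  rw [aeval_def, aeval_def, eval₂_eq, eval₂_eq, Finset.sum_mul]
  apply Finset.sum_congr rfl
  intro m hm
  rw [mul_assoc]
  congr 1
  simp only [mul_pow]
  rw [Finset.prod_mul_distrib, Finset.prod_pow_eq_pow_sum, ← hφ.degree_eq_sum_deg_support hm]

variable {k : Type u} [Field k] {n : ℕ}

/-- the chart ring `S/(I, x_j - 1)` -/
def Aj (I : Ideal (MvPolynomial (Fin (n + 1)) k)) (j : Fin (n + 1)) : Type u :=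
  MvPolynomial (Fin (n + 1)) k ⧸ (I ⊔ Ideal.span {(X j - 1 : MvPolynomial (Fin (n + 1)) k)})

noncomputable instance (I : Ideal (MvPolynomial (Fin (n + 1)) k)) (j : Fin (n + 1)) :
    CommRing (Aj I j) := Ideal.Quotient.commRing _

noncomputable instance (I : Ideal (MvPolynomial (Fin (n + 1)) k)) (j : Fin (n + 1)) :
    Algebra k (Aj I j) := Ideal.Quotient.algebra k

/-- the projection `S → A_j` -/
noncomputable def mkA (I : Ideal (MvPolynomial (Fin (n + 1)) k)) (j : Fin (n + 1)) :
    MvPolynomial (Fin (n + 1)) k →ₐ[k] Aj I j := Ideal.Quotient.mkₐ k _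

theorem mkA_surjective (I : Ideal (MvPolynomial (Fin (n + 1)) k)) (j : Fin (n + 1)) :
    Function.Surjective (mkA I j) := Ideal.Quotient.mkₐ_surjective k _

theorem mkA_eq_zero_iff (I : Ideal (MvPolynomial (Fin (n + 1)) k)) (j : Fin (n + 1))
    (x : MvPolynomial (Fin (n + 1)) k) :
    mkA I j x = 0 ↔ x ∈ I ⊔ Ideal.span {(X j - 1 : MvPolynomial (Fin (n + 1)) k)} :=
  Ideal.Quotient.eq_zero_iff_mem

theorem mkA_eq_iff (I : Ideal (MvPolynomial (Fin (n + 1)) k)) (j : Fin (n + 1))
    (x y : MvPolynomial (Fin (n + 1)) k) :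
    mkA I j x = mkA I j y ↔
      x - y ∈ I ⊔ Ideal.span {(X j - 1 : MvPolynomial (Fin (n + 1)) k)} :=
  Ideal.Quotient.eq

/-- maps out of `A_j` -/
noncomputable def liftA (I : Ideal (MvPolynomial (Fin (n + 1)) k)) (j : Fin (n + 1))
    {B : Type*} [CommRing B] [Algebra k B] (φ : MvPolynomial (Fin (n + 1)) k →ₐ[k] B)
    (h : ∀ x ∈ I ⊔ Ideal.span {(X j - 1 : MvPolynomial (Fin (n + 1)) k)}, φ x = 0) :
    Aj I j →ₐ[k] B := Ideal.Quotient.liftₐ _ φ h

theorem liftA_mkA (I : Ideal (MvPolynomial (Fin (n + 1)) k)) (j : Fin (n + 1))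
    {B : Type*} [CommRing B] [Algebra k B] (φ : MvPolynomial (Fin (n + 1)) k →ₐ[k] B)
    (h : ∀ x ∈ I ⊔ Ideal.span {(X j - 1 : MvPolynomial (Fin (n + 1)) k)}, φ x = 0)
    (x : MvPolynomial (Fin (n + 1)) k) : liftA I j φ h (mkA I j x) = φ x := rfl

theorem algHom_ext_A (I : Ideal (MvPolynomial (Fin (n + 1)) k)) (j : Fin (n + 1))
    {B : Type*} [CommRing B] [Algebra k B] {f g : Aj I j →ₐ[k] B}
    (h : f.comp (mkA I j) = g.comp (mkA I j)) : f = g := by
  apply AlgHom.ext
  intro a
  obtain ⟨x, rfl⟩ := mkA_surjective I j a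
  exact DFunLike.congr_fun h x

theorem mkA_Xj (I : Ideal (MvPolynomial (Fin (n + 1)) k)) (j : Fin (n + 1)) :
    mkA I j (X j) = 1 := by
  rw [← map_one (mkA I j), mkA_eq_iff]
  exact Ideal.mem_sup_right (Ideal.mem_span_singleton_self _)

theorem mkA_of_mem (I : Ideal (MvPolynomial (Fin (n + 1)) k)) (j : Fin (n + 1))
    {g : MvPolynomial (Fin (n + 1)) k} (hg : g ∈ I) : mkA I j g = 0 :=
  (mkA_eq_zero_iff I j g).mpr (Ideal.mem_sup_left hg)

/-- an ideal generated by homogeneous elements -/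
def HomGen (I : Ideal (MvPolynomial (Fin (n + 1)) k)) : Prop :=
  ∃ G : Set (MvPolynomial (Fin (n + 1)) k), I = Ideal.span G ∧ ∀ g ∈ G, ∃ e : ℕ, g.IsHomogeneous e

/-- a `k`-algebra map from `S` killing the homogeneous generators kills `I` -/
theorem le_ker_of_homGen {I : Ideal (MvPolynomial (Fin (n + 1)) k)} (hI : HomGen I)
    {B : Type*} [CommRing B] [Algebra k B] (φ : MvPolynomial (Fin (n + 1)) k →ₐ[k] B)
    (h : ∀ (g : MvPolynomial (Fin (n + 1)) k) (e : ℕ), g ∈ I → g.IsHomogeneous e → φ g = 0) :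
    ∀ x ∈ I, φ x = 0 := by
  obtain ⟨G, rfl, hG⟩ := hI
  intro x hx
  have : Ideal.span G ≤ RingHom.ker φ.toRingHom := by
    rw [Ideal.span_le]
    intro g hg
    obtain ⟨e, he⟩ := hG g hg
    exact h g e (Ideal.subset_span hg) he
  exact this hx

section Laurent

variable (I : Ideal (MvPolynomial (Fin (n + 1)) k)) (j : Fin (n + 1))

/-- image of `x_j` in `S/I` -/
noncomputable abbrev xbar : MvPolynomial (Fin (n + 1)) k ⧸ I := Ideal.Quotient.mk I (X j)

/-- `B = (S/I)[1/x_j]` -/
abbrev Bj : Type u := Localization.Away (xbar I j)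

/-- `C = A[t, 1/t]` -/
abbrev Cj : Type u := Localization.Away (Polynomial.X : Polynomial (Aj I j))

/-- the element `t` of `C` -/
noncomputable abbrev tC : Cj I j :=
  algebraMap (Polynomial (Aj I j)) (Cj I j) (Polynomial.X : Polynomial (Aj I j))

/-- the coefficient inclusion `S → A → A[t] → C` -/
noncomputable def alphaC : MvPolynomial (Fin (n + 1)) k →ₐ[k] Cj I j :=
  (IsScalarTower.toAlgHom k (Polynomial (Aj I j)) (Cj I j)).comp
    ((Polynomial.CAlgHom (R := k) (A := Aj I j)).comp (mkA I j))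

/-- `x_i ↦ x_i t` -/
noncomputable def phi0 : MvPolynomial (Fin (n + 1)) k →ₐ[k] Cj I j :=
  aeval (fun i => alphaC I j (X i) * tC I j)

theorem phi0_homog {g : MvPolynomial (Fin (n + 1)) k} {e : ℕ} (hg : g.IsHomogeneous e) :
    phi0 I j g = alphaC I j g * tC I j ^ e := by
  unfold phi0
  rw [aeval_mul_of_isHomogeneous hg]
  congr 1
  have : (aeval (fun i => alphaC I j (X i)) : MvPolynomial (Fin (n + 1)) k →ₐ[k] Cj I j) =
      alphaC I j := by
    apply MvPolynomial.algHom_ext
    intro i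
    rw [aeval_X]
  rw [this]

theorem alphaC_eq_zero {g : MvPolynomial (Fin (n + 1)) k} (hg : g ∈ I) : alphaC I j g = 0 := by
  unfold alphaC
  simp only [AlgHom.comp_apply, mkA_of_mem I j hg, map_zero]

theorem alphaC_Xj : alphaC I j (X j) = 1 := by
  unfold alphaC
  simp only [AlgHom.comp_apply, mkA_Xj, map_one]

variable {I} in
/-- `S/I → C` -/
noncomputable def phi1 (hI : HomGen I) : (MvPolynomial (Fin (n + 1)) k ⧸ I) →ₐ[k] Cj I j :=
  Ideal.Quotient.liftₐ I (phi0 I j) (le_ker_of_homGen hI (phi0 I j) (fun g e hgI hge => by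
    rw [phi0_homog I j hge, alphaC_eq_zero I j hgI, zero_mul]))

theorem phi1_mk (hI : HomGen I) (x : MvPolynomial (Fin (n + 1)) k) :
    phi1 j hI (Ideal.Quotient.mk I x) = phi0 I j x := rfl

theorem phi1_xbar (hI : HomGen I) : phi1 j hI (xbar I j) = tC I j := by
  rw [phi1_mk]
  unfold phi0
  rw [aeval_X, alphaC_Xj, one_mul]

theorem isUnit_tC : IsUnit (tC I j) :=
  IsLocalization.Away.algebraMap_isUnit (S := Cj I j) (Polynomial.X : Polynomial (Aj I j))

/-- `B → C` -/
noncomputable def phi2 (hI : HomGen I) : Bj I j →ₐ[k] Cj I j :=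
  IsLocalization.Away.liftAlgHom (xbar I j) (f := phi1 j hI)
    (by rw [phi1_xbar]; exact isUnit_tC I j)

theorem phi2_algebraMap (hI : HomGen I) (x : MvPolynomial (Fin (n + 1)) k ⧸ I) :
    phi2 I j hI (algebraMap _ (Bj I j) x) = phi1 j hI x := by
  unfold phi2
  rw [IsLocalization.Away.liftAlgHom_apply, IsLocalization.Away.lift_eq]
  rfl

/-- the inverse of `x_j` in `B` -/
noncomputable abbrev invB : Bj I j := IsLocalization.Away.invSelf (xbar I j)

theorem xbar_mul_invB :
    algebraMap (MvPolynomial (Fin (n + 1)) k ⧸ I) (Bj I j) (xbar I j) * invB I j = 1 :=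
  IsLocalization.Away.mul_invSelf (xbar I j)

/-- the coefficient map `S → S/I → B` -/
noncomputable def alphaB : MvPolynomial (Fin (n + 1)) k →ₐ[k] Bj I j :=
  (IsScalarTower.toAlgHom k (MvPolynomial (Fin (n + 1)) k ⧸ I) (Bj I j)).comp
    (Ideal.Quotient.mkₐ k I)

theorem alphaB_apply (x : MvPolynomial (Fin (n + 1)) k) :
    alphaB I j x = algebraMap (MvPolynomial (Fin (n + 1)) k ⧸ I) (Bj I j)
      (Ideal.Quotient.mk I x) := rfl

theorem alphaB_eq_zero {g : MvPolynomial (Fin (n + 1)) k} (hg : g ∈ I) : alphaB I j g = 0 := by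
  rw [alphaB_apply, Ideal.Quotient.eq_zero_iff_mem.mpr hg, map_zero]

/-- `x_i ↦ x_i / x_j` -/
noncomputable def psi0 : MvPolynomial (Fin (n + 1)) k →ₐ[k] Bj I j :=
  aeval (fun i => alphaB I j (X i) * invB I j)

theorem psi0_homog {g : MvPolynomial (Fin (n + 1)) k} {e : ℕ} (hg : g.IsHomogeneous e) :
    psi0 I j g = alphaB I j g * invB I j ^ e := by
  unfold psi0
  rw [aeval_mul_of_isHomogeneous hg]
  congr 1
  have : (aeval (fun i => alphaB I j (X i)) : MvPolynomial (Fin (n + 1)) k →ₐ[k] Bj I j) =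
      alphaB I j := by
    apply MvPolynomial.algHom_ext
    intro i
    rw [aeval_X]
  rw [this]

theorem psi0_X (i : Fin (n + 1)) : psi0 I j (X i) = alphaB I j (X i) * invB I j := by
  unfold psi0
  rw [aeval_X]

theorem psi0_Xj : psi0 I j (X j) = 1 := by
  rw [psi0_X, alphaB_apply]
  exact xbar_mul_invB I j

variable {I} in
theorem psi0_kills (hI : HomGen I) :
    ∀ x ∈ I ⊔ Ideal.span {(X j - 1 : MvPolynomial (Fin (n + 1)) k)}, psi0 I j x = 0 := by
  intro x hx
  have hle : I ⊔ Ideal.span {(X j - 1 : MvPolynomial (Fin (n + 1)) k)} ≤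
      RingHom.ker (psi0 I j).toRingHom := by
    apply sup_le
    · intro y hy
      exact le_ker_of_homGen hI (psi0 I j) (fun g e hgI hge => by
        rw [psi0_homog I j hge, alphaB_eq_zero I j hgI, zero_mul]) y hy
    · rw [Ideal.span_le]
      intro y hy
      rw [Set.mem_singleton_iff] at hy
      subst hy
      change psi0 I j (X j - 1) = 0
      rw [map_sub, psi0_Xj, map_one, sub_self]
  exact hle hx

variable {I} in
/-- `A → B` -/
noncomputable def psi1 (hI : HomGen I) : Aj I j →ₐ[k] Bj I j :=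
  liftA I j (psi0 I j) (psi0_kills j hI)

theorem psi1_mkA (hI : HomGen I) (x : MvPolynomial (Fin (n + 1)) k) :
    psi1 j hI (mkA I j x) = psi0 I j x := rfl

variable {I} in
/-- `A[t] → B`, `t ↦ x_j` -/
noncomputable def psi2 (hI : HomGen I) : Polynomial (Aj I j) →ₐ[k] Bj I j :=
  Polynomial.eval₂AlgHom (psi1 j hI) (alphaB I j (X j)) (fun _ => Commute.all _ _)

theorem psi2_C (hI : HomGen I) (a : Aj I j) : psi2 j hI (Polynomial.C a) = psi1 j hI a :=
  Polynomial.eval₂_C _ _

theorem psi2_X (hI : HomGen I) : psi2 j hI Polynomial.X = alphaB I j (X j) :=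
  Polynomial.eval₂_X _ _

theorem isUnit_alphaB_Xj : IsUnit (alphaB I j (X j)) :=
  IsLocalization.Away.algebraMap_isUnit (S := Bj I j) (xbar I j)

variable {I} in
/-- `C → B` -/
noncomputable def psi3 (hI : HomGen I) : Cj I j →ₐ[k] Bj I j :=
  IsLocalization.Away.liftAlgHom (Polynomial.X : Polynomial (Aj I j)) (f := psi2 j hI)
    (by rw [psi2_X]; exact isUnit_alphaB_Xj I j)

theorem psi3_algebraMap (hI : HomGen I) (p : Polynomial (Aj I j)) :
    psi3 j hI (algebraMap _ (Cj I j) p) = psi2 j hI p := by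
  unfold psi3
  rw [IsLocalization.Away.liftAlgHom_apply, IsLocalization.Away.lift_eq]
  rfl

theorem phi0_X (i : Fin (n + 1)) : phi0 I j (X i) = alphaC I j (X i) * tC I j := by
  unfold phi0
  rw [aeval_X]

theorem alphaC_apply (x : MvPolynomial (Fin (n + 1)) k) :
    alphaC I j x = algebraMap (Polynomial (Aj I j)) (Cj I j) (Polynomial.C (mkA I j x)) := rfl

theorem tC_mul_phi2_invB (hI : HomGen I) : tC I j * phi2 I j hI (invB I j) = 1 := by
  have h := congrArg (phi2 I j hI) (xbar_mul_invB I j)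
  rw [map_mul, map_one, phi2_algebraMap, phi1_xbar] at h
  exact h

theorem phi2_psi3 (hI : HomGen I) :
    (phi2 I j hI).comp (psi3 j hI) = AlgHom.id k (Cj I j) := by
  apply IsLocalization.algHom_ext (Submonoid.powers (Polynomial.X : Polynomial (Aj I j)))
  apply Polynomial.algHom_ext'
  · apply algHom_ext_A
    apply MvPolynomial.algHom_ext
    intro i
    change phi2 I j hI (psi3 j hI (algebraMap (Polynomial (Aj I j)) (Cj I j)
      (Polynomial.C (mkA I j (X i))))) =
      algebraMap (Polynomial (Aj I j)) (Cj I j) (Polynomial.C (mkA I j (X i)))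
    rw [psi3_algebraMap, psi2_C, psi1_mkA, psi0_X, map_mul, alphaB_apply, phi2_algebraMap,
      phi1_mk, phi0_X, mul_assoc, tC_mul_phi2_invB, mul_one, alphaC_apply]
  · change phi2 I j hI (psi3 j hI (algebraMap (Polynomial (Aj I j)) (Cj I j) Polynomial.X)) =
      algebraMap (Polynomial (Aj I j)) (Cj I j) Polynomial.X
    rw [psi3_algebraMap, psi2_X, alphaB_apply, phi2_algebraMap]
    exact phi1_xbar I j hI

theorem psi3_tC (hI : HomGen I) : psi3 j hI (tC I j) = alphaB I j (X j) := by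
  rw [psi3_algebraMap, psi2_X]

theorem psi3_phi2 (hI : HomGen I) :
    (psi3 j hI).comp (phi2 I j hI) = AlgHom.id k (Bj I j) := by
  apply IsLocalization.algHom_ext (Submonoid.powers (xbar I j))
  apply Ideal.Quotient.algHom_ext
  apply MvPolynomial.algHom_ext
  intro i
  change psi3 j hI (phi2 I j hI (algebraMap (MvPolynomial (Fin (n + 1)) k ⧸ I) (Bj I j)
    (Ideal.Quotient.mk I (X i)))) =
    algebraMap (MvPolynomial (Fin (n + 1)) k ⧸ I) (Bj I j) (Ideal.Quotient.mk I (X i))
  rw [phi2_algebraMap, phi1_mk, phi0_X, map_mul, psi3_tC, alphaC_apply, psi3_algebraMap, psi2_C,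
    psi1_mkA, psi0_X, mul_assoc, mul_comm (invB I j), alphaB_apply (x := X j)]
  rw [xbar_mul_invB, mul_one, alphaB_apply]

variable {I} in
/-- **The punctured cone is a Laurent polynomial ring over the chart.** -/
noncomputable def laurentEquiv (hI : HomGen I) : Bj I j ≃ₐ[k] Cj I j :=
  AlgEquiv.ofAlgHom (phi2 I j hI) (psi3 j hI) (phi2_psi3 I j hI) (psi3_phi2 I j hI)

theorem smooth_Cj [Algebra.Smooth k (Aj I j)] : Algebra.Smooth k (Cj I j) := by
  haveI : Algebra.Smooth (Aj I j) (Polynomial (Aj I j)) := ⟨inferInstance, inferInstance⟩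
  haveI : Algebra.Smooth (Polynomial (Aj I j)) (Cj I j) :=
    Algebra.Smooth.of_isLocalization_Away (Polynomial.X : Polynomial (Aj I j))
  haveI : Algebra.Smooth k (Polynomial (Aj I j)) := Algebra.Smooth.comp k (Aj I j) _
  exact Algebra.Smooth.comp k (Polynomial (Aj I j)) (Cj I j)

variable {I} in
theorem smooth_Bj (hI : HomGen I) [Algebra.Smooth k (Aj I j)] : Algebra.Smooth k (Bj I j) := by
  haveI := smooth_Cj I j
  exact Algebra.Smooth.of_equiv (laurentEquiv j hI).symm

end Laurent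

section Consequences

variable {I : Ideal (MvPolynomial (Fin (n + 1)) k)}

/-- If all charts are smooth, the cone is regular away from the vertex. -/
theorem regular_of_smooth_charts (hI : HomGen I) (hsm : ∀ j, Algebra.Smooth k (Aj I j))
    (Q : Ideal (MvPolynomial (Fin (n + 1)) k ⧸ I)) [Q.IsPrime]
    (hQ : ∃ j, Ideal.Quotient.mk I (X j) ∉ Q) :
    IsRegularLocalRing (Localization.AtPrime Q) := by
  obtain ⟨j, hj⟩ := hQ
  haveI := hsm j
  haveI := smooth_Bj j hI
  haveI : IsRegularRing (Bj I j) :=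
    Groth.Agent.Lib.Helper26.RegularSmooth.isRegularRing_of_smooth k (Bj I j)
  exact Groth.Agent.Lib.Helper22.CMG.isRegularLocalRing_of_away (xbar I j) Q hj

theorem isDomain_Aj (hI : HomGen I) [IsDomain (MvPolynomial (Fin (n + 1)) k ⧸ I)]
    (j : Fin (n + 1)) (hx : xbar I j ≠ 0) : IsDomain (Aj I j) := by
  haveI : IsDomain (Bj I j) :=
    IsLocalization.isDomain_localization
      (powers_le_nonZeroDivisors_of_noZeroDivisors hx)
  haveI : IsDomain (Cj I j) := (laurentEquiv j hI).symm.toMulEquiv.isDomain (Bj I j)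
  have h1 : Function.Injective (algebraMap (Polynomial (Aj I j)) (Cj I j)) :=
    IsLocalization.injective (Cj I j)
      (M := Submonoid.powers (Polynomial.X : Polynomial (Aj I j)))
      (Submonoid.powers_le.mpr Polynomial.X_mem_nonzeroDivisors)
  have h2 : Function.Injective ((algebraMap (Polynomial (Aj I j)) (Cj I j)).comp
      (Polynomial.C : Aj I j →+* Polynomial (Aj I j))) := h1.comp Polynomial.C_injective
  exact h2.isDomain _

theorem isDomain_or_subsingleton_Aj (hI : HomGen I)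
    [IsDomain (MvPolynomial (Fin (n + 1)) k ⧸ I)] (j : Fin (n + 1)) :
    IsDomain (Aj I j) ∨ Subsingleton (Aj I j) := by
  by_cases hx : xbar I j = 0
  · right
    have hXj : (X j : MvPolynomial (Fin (n + 1)) k) ∈ I := Ideal.Quotient.eq_zero_iff_mem.mp hx
    have h1 : (1 : Aj I j) = 0 := by rw [← mkA_Xj I j, mkA_of_mem I j hXj]
    exact subsingleton_of_zero_eq_one h1.symm
  · exact Or.inl (isDomain_Aj hI j hx)

end Consequences

end Groth.Agent.Lib.Helper22.CInt
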