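import Mathlib
import Groth.Agent.Lib.Helper22.CIntA
import Groth.Agent.Lib.Helper22.BertiniHypA

/-!
Complete intersections, part B: the Bertini step for hypersurfaces of degree `d`.
-/

set_option autoImplicit false
set_option linter.style.haveILetI false
set_option linter.unusedSectionVars false
universe u
open MvPolynomial

namespace Groth.Agent.Lib.Helper22.CInt

open Groth.Agent.Lib.Helper22.BertiniHyp

variable {k : Type u} [Field k] {n : ℕ}

section Monomials

/-- exponent vectors of degree `d` -/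
abbrev Idx (n d : ℕ) : Type := {v : Fin (n + 1) → ℕ // v ∈ Finset.Nat.antidiagonalTuple (n + 1) d}

variable (k) in
/-- the monomial with exponent vector `v` -/
noncomputable def mon (v : Fin (n + 1) → ℕ) : MvPolynomial (Fin (n + 1)) k := ∏ i, X i ^ v i

theorem mon_isHomogeneous (v : Fin (n + 1) → ℕ) : (mon k v).IsHomogeneous (∑ i, v i) :=
  IsHomogeneous.prod Finset.univ (fun i => X i ^ v i) (fun i => v i)
    (fun i _ => isHomogeneous_X_pow i (v i))

theorem mon_idx_isHomogeneous {d : ℕ} (v : Idx n d) : (mon k v.1).IsHomogeneous d := by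
  have := mon_isHomogeneous (k := k) v.1
  rwa [Finset.Nat.mem_antidiagonalTuple.mp v.2] at this

theorem map_mon {B : Type*} [CommRing B] [Algebra k B]
    (φ : MvPolynomial (Fin (n + 1)) k →ₐ[k] B) (v : Fin (n + 1) → ℕ) :
    φ (mon k v) = ∏ i, φ (X i) ^ v i := by
  unfold mon
  rw [map_prod]
  simp only [map_pow]

theorem single_mem (j : Fin (n + 1)) (d : ℕ) :
    (Pi.single j d : Fin (n + 1) → ℕ) ∈ Finset.Nat.antidiagonalTuple (n + 1) d := by
  rw [Finset.Nat.mem_antidiagonalTuple]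
  exact Fintype.sum_pi_single' j d

theorem single_add_mem (j i : Fin (n + 1)) {d : ℕ} (hd : 0 < d) :
    (Pi.single j (d - 1) + Pi.single i 1 : Fin (n + 1) → ℕ) ∈
      Finset.Nat.antidiagonalTuple (n + 1) d := by
  rw [Finset.Nat.mem_antidiagonalTuple]
  simp only [Pi.add_apply, Finset.sum_add_distrib]
  rw [Fintype.sum_pi_single' j (d - 1), Fintype.sum_pi_single' i 1]
  omega

theorem prod_pow_single {B : Type*} [CommRing B] (a : Fin (n + 1) → B) (j : Fin (n + 1))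
    (m : ℕ) : ∏ l, a l ^ (Pi.single j m : Fin (n + 1) → ℕ) l = a j ^ m := by
  rw [Fintype.prod_eq_single j (fun l hl => by rw [Pi.single_eq_of_ne hl, pow_zero]),
    Pi.single_eq_same]

/-- the form with coefficient vector `c` -/
noncomputable def Fc {d N : ℕ} (e : Idx n d ≃ Fin (N + 1)) (c : Fin (N + 1) → k) :
    MvPolynomial (Fin (n + 1)) k := ∑ t, C (c t) * mon k (e.symm t).1

theorem Fc_isHomogeneous {d N : ℕ} (e : Idx n d ≃ Fin (N + 1)) (c : Fin (N + 1) → k) :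
    (Fc e c).IsHomogeneous d :=
  IsHomogeneous.sum _ _ _ (fun t _ => by
    have := (mon_idx_isHomogeneous (k := k) (e.symm t)).C_mul (c t)
    exact this)

end Monomials

section Chart

variable (I : Ideal (MvPolynomial (Fin (n + 1)) k)) (j : Fin (n + 1))

/-- the family of degree `d` monomials on the chart -/
noncomputable def yy {d N : ℕ} (e : Idx n d ≃ Fin (N + 1)) (t : Fin (N + 1)) : Aj I j :=
  mkA I j (mon k (e.symm t).1)

theorem yy_single {d N : ℕ} (e : Idx n d ≃ Fin (N + 1)) :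
    yy I j e (e ⟨Pi.single j d, single_mem j d⟩) = 1 := by
  unfold yy
  rw [Equiv.symm_apply_apply, map_mon, prod_pow_single, mkA_Xj, one_pow]

theorem yy_single_add {d N : ℕ} (e : Idx n d ≃ Fin (N + 1)) (hd : 0 < d) (i : Fin (n + 1)) :
    yy I j e (e ⟨Pi.single j (d - 1) + Pi.single i 1, single_add_mem j i hd⟩) =
      mkA I j (X i) := by
  unfold yy
  rw [Equiv.symm_apply_apply, map_mon]
  simp only [Pi.add_apply, pow_add]
  rw [Finset.prod_mul_distrib, prod_pow_single, prod_pow_single, mkA_Xj, one_pow, one_mul, pow_one]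

theorem adjoin_yy {d N : ℕ} (e : Idx n d ≃ Fin (N + 1)) (hd : 0 < d) :
    Algebra.adjoin k (Set.range (yy I j e)) = ⊤ := by
  rw [eq_top_iff]
  intro a _
  obtain ⟨p, rfl⟩ := mkA_surjective I j a
  have hp : p ∈ Algebra.adjoin k (Set.range (X : Fin (n + 1) → MvPolynomial (Fin (n + 1)) k)) := by
    rw [MvPolynomial.adjoin_range_X]
    trivial
  have h2 : mkA I j p ∈ Subalgebra.map (mkA I j)
      (Algebra.adjoin k (Set.range (X : Fin (n + 1) → MvPolynomial (Fin (n + 1)) k))) :=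
    ⟨p, hp, rfl⟩
  rw [AlgHom.map_adjoin] at h2
  refine Algebra.adjoin_mono ?_ h2
  rintro _ ⟨_, ⟨i, rfl⟩, rfl⟩
  exact ⟨_, yy_single_add I j e hd i⟩

theorem sum_yy {d N : ℕ} (e : Idx n d ≃ Fin (N + 1)) (c : Fin (N + 1) → k) :
    ∑ t, algebraMap k (Aj I j) (c t) * yy I j e t = mkA I j (Fc e c) := by
  unfold Fc yy
  rw [map_sum]
  apply Finset.sum_congr rfl
  intro t _
  rw [map_mul]
  congr 1

/-- the comparison map `A_j(I) → A_j(I + (F))` -/
noncomputable def stepMap (I' : Ideal (MvPolynomial (Fin (n + 1)) k)) (hle : I ≤ I') :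
    Aj I j →ₐ[k] Aj I' j :=
  liftA I j (mkA I' j) (fun x hx => by
    rw [mkA_eq_zero_iff]
    exact sup_le_sup_right hle _ hx)

theorem stepMap_mkA (I' : Ideal (MvPolynomial (Fin (n + 1)) k)) (hle : I ≤ I')
    (x : MvPolynomial (Fin (n + 1)) k) : stepMap I j I' hle (mkA I j x) = mkA I' j x := rfl

theorem stepMap_surjective (I' : Ideal (MvPolynomial (Fin (n + 1)) k)) (hle : I ≤ I') :
    Function.Surjective (stepMap I j I' hle) := by
  intro a
  obtain ⟨x, rfl⟩ := mkA_surjective I' j a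
  exact ⟨mkA I j x, rfl⟩

theorem ker_stepMap (F : MvPolynomial (Fin (n + 1)) k) :
    RingHom.ker (stepMap I j (I ⊔ Ideal.span {F}) le_sup_left).toRingHom =
      Ideal.span {mkA I j F} := by
  apply le_antisymm
  · intro a ha
    obtain ⟨x, rfl⟩ := mkA_surjective I j a
    have h1 : mkA (I ⊔ Ideal.span {F}) j x = 0 := ha
    rw [mkA_eq_zero_iff] at h1
    have h2 : x ∈ (I ⊔ Ideal.span {(X j - 1 : MvPolynomial (Fin (n + 1)) k)}) ⊔
        Ideal.span {F} := by
      have : (I ⊔ Ideal.span {F}) ⊔ Ideal.span {(X j - 1 : MvPolynomial (Fin (n + 1)) k)} =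
          (I ⊔ Ideal.span {(X j - 1 : MvPolynomial (Fin (n + 1)) k)}) ⊔ Ideal.span {F} :=
        sup_right_comm _ _ _
      rw [← this]
      exact h1
    obtain ⟨u, hu, w, hw, rfl⟩ := Submodule.mem_sup.mp h2
    obtain ⟨q, rfl⟩ := Ideal.mem_span_singleton'.mp hw
    rw [map_add, (mkA_eq_zero_iff I j u).mpr hu, zero_add, map_mul]
    exact Ideal.mul_mem_left _ _ (Ideal.subset_span rfl)
  · rw [Ideal.span_le]
    intro a ha
    rw [Set.mem_singleton_iff] at ha
    subst ha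
    change stepMap I j (I ⊔ Ideal.span {F}) le_sup_left (mkA I j F) = 0
    rw [stepMap_mkA, mkA_eq_zero_iff]
    exact Ideal.mem_sup_left (Ideal.mem_sup_right (Ideal.subset_span rfl))

theorem smooth_step (F : MvPolynomial (Fin (n + 1)) k)
    (h : Algebra.Smooth k (Aj I j ⧸ Ideal.span {mkA I j F})) :
    Algebra.Smooth k (Aj (I ⊔ Ideal.span {F}) j) := by
  have e1 : (Aj I j ⧸ Ideal.span {mkA I j F}) ≃ₐ[k]
      (Aj I j ⧸ RingHom.ker (stepMap I j (I ⊔ Ideal.span {F}) le_sup_left).toRingHom) :=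
    Ideal.quotientEquivAlgOfEq k (ker_stepMap I j F).symm
  have e2 : (Aj I j ⧸ RingHom.ker (stepMap I j (I ⊔ Ideal.span {F}) le_sup_left).toRingHom)
      ≃ₐ[k] Aj (I ⊔ Ideal.span {F}) j :=
    Ideal.quotientKerAlgEquivOfSurjective (stepMap_surjective I j _ le_sup_left)
  exact Algebra.Smooth.of_equiv (e1.trans e2)

end Chart

section Base

theorem homGen_bot : HomGen (⊥ : Ideal (MvPolynomial (Fin (n + 1)) k)) :=
  ⟨∅, Ideal.span_empty.symm, fun g hg => absurd hg (Set.notMem_empty g)⟩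

theorem homGen_sup {I : Ideal (MvPolynomial (Fin (n + 1)) k)} (hI : HomGen I)
    {F : MvPolynomial (Fin (n + 1)) k} {d : ℕ} (hF : F.IsHomogeneous d) :
    HomGen (I ⊔ Ideal.span {F}) := by
  obtain ⟨G, rfl, hG⟩ := hI
  refine ⟨G ∪ {F}, (Ideal.span_union G {F}).symm, ?_⟩
  rintro g (hg | hg)
  · exact hG g hg
  · rw [Set.mem_singleton_iff] at hg
    subst hg
    exact ⟨d, hF⟩

theorem homGen_span_range {r : ℕ} (f : Fin r → MvPolynomial (Fin (n + 1)) k) (d : Fin r → ℕ)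
    (hf : ∀ i, (f i).IsHomogeneous (d i)) : HomGen (Ideal.span (Set.range f)) :=
  ⟨Set.range f, rfl, by rintro _ ⟨i, rfl⟩; exact ⟨d i, hf i⟩⟩

theorem homGen_span_singleton {F : MvPolynomial (Fin (n + 1)) k} {d : ℕ}
    (hF : F.IsHomogeneous d) : HomGen (Ideal.span {F}) :=
  ⟨{F}, rfl, by
    intro g hg
    rw [Set.mem_singleton_iff] at hg
    subst hg
    exact ⟨d, hF⟩⟩

/-- the chart of projective space is an affine space -/
noncomputable def chartEquiv (j : Fin (n + 1)) :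
    Aj (⊥ : Ideal (MvPolynomial (Fin (n + 1)) k)) j ≃ₐ[k]
      MvPolynomial {i : Fin (n + 1) // i ≠ j} k := by
  classical
  let ρ : MvPolynomial (Fin (n + 1)) k →ₐ[k] MvPolynomial {i : Fin (n + 1) // i ≠ j} k :=
    aeval (fun i => if h : i = j then 1 else X ⟨i, h⟩)
  have hρj : ρ (X j) = 1 := by
    simp only [ρ, aeval_X]
    exact dif_pos trivial
  have hρ : ∀ x ∈ (⊥ : Ideal (MvPolynomial (Fin (n + 1)) k)) ⊔
      Ideal.span {(X j - 1 : MvPolynomial (Fin (n + 1)) k)}, ρ x = 0 := by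
    intro x hx
    rw [bot_sup_eq] at hx
    obtain ⟨q, rfl⟩ := Ideal.mem_span_singleton'.mp hx
    rw [map_mul, map_sub, hρj, map_one, sub_self, mul_zero]
  let σ : MvPolynomial {i : Fin (n + 1) // i ≠ j} k →ₐ[k]
      Aj (⊥ : Ideal (MvPolynomial (Fin (n + 1)) k)) j :=
    aeval (fun i => mkA ⊥ j (X i.1))
  refine AlgEquiv.ofAlgHom (liftA ⊥ j ρ hρ) σ ?_ ?_
  · apply MvPolynomial.algHom_ext
    rintro ⟨i, hi⟩
    change liftA ⊥ j ρ hρ (σ (X ⟨i, hi⟩)) = X ⟨i, hi⟩
    simp only [σ, aeval_X, liftA_mkA, ρ, dif_neg hi]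
  · apply algHom_ext_A
    apply MvPolynomial.algHom_ext
    intro i
    change σ (liftA ⊥ j ρ hρ (mkA ⊥ j (X i))) = mkA ⊥ j (X i)
    rw [liftA_mkA]
    by_cases hi : i = j
    · subst hi
      rw [hρj, map_one, mkA_Xj]
    · simp only [ρ, aeval_X, dif_neg hi, σ]

theorem smooth_Aj_bot (j : Fin (n + 1)) :
    Algebra.Smooth k (Aj (⊥ : Ideal (MvPolynomial (Fin (n + 1)) k)) j) := by
  haveI : Algebra.Smooth k (MvPolynomial {i : Fin (n + 1) // i ≠ j} k) :=
    ⟨inferInstance, inferInstance⟩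
  exact Algebra.Smooth.of_equiv (chartEquiv j).symm

end Base

section Step

variable {I : Ideal (MvPolynomial (Fin (n + 1)) k)}

theorem exists_poly_chart (hI : HomGen I) [IsDomain (MvPolynomial (Fin (n + 1)) k ⧸ I)]
    (j : Fin (n + 1)) (hsm : Algebra.Smooth k (Aj I j)) {d N : ℕ} (e : Idx n d ≃ Fin (N + 1))
    (hd : 0 < d) :
    ∃ g : MvPolynomial (Fin (N + 1)) k, g ≠ 0 ∧ ∀ c : Fin (N + 1) → k, eval c g ≠ 0 →
      Algebra.Smooth k (Aj (I ⊔ Ideal.span {Fc e c}) j) := by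
  haveI := hsm
  obtain ⟨g, hg0, hg⟩ := exists_poly_chart_alg k (Aj I j) (isDomain_or_subsingleton_Aj hI j)
    (yy I j e) (e ⟨Pi.single j d, single_mem j d⟩) (yy_single I j e) (adjoin_yy I j e hd)
  refine ⟨g, hg0, fun c hc => ?_⟩
  apply smooth_step
  rw [← sum_yy]
  exact hg c hc

theorem exists_poly_notMem (hI : HomGen I) [IsDomain (MvPolynomial (Fin (n + 1)) k ⧸ I)]
    (j : Fin (n + 1)) (hx : xbar I j ≠ 0) {d N : ℕ} (e : Idx n d ≃ Fin (N + 1)) :
    ∃ g : MvPolynomial (Fin (N + 1)) k, g ≠ 0 ∧ ∀ c : Fin (N + 1) → k, eval c g ≠ 0 →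
      Fc e c ∉ I := by
  haveI := isDomain_Aj hI j hx
  obtain ⟨g, hg0, hg⟩ := exists_poly_ne_zero k (Aj I j) (yy I j e)
    (e ⟨Pi.single j d, single_mem j d⟩) (yy_single I j e)
  refine ⟨g, hg0, fun c hc hmem => hg c hc ?_⟩
  rw [sum_yy]
  exact mkA_of_mem I j hmem

/-- **The Bertini step**: a generic form of degree `d` cuts the cone over a smooth integral
projective scheme in the cone over a smooth projective scheme, and is itself smooth. -/
theorem exists_step [Infinite k] (hI : HomGen I) [IsDomain (MvPolynomial (Fin (n + 1)) k ⧸ I)]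
    (hsm : ∀ j, Algebra.Smooth k (Aj I j)) (hne : ∃ j, xbar I j ≠ 0) {d : ℕ} (hd : 0 < d) :
    ∃ F : MvPolynomial (Fin (n + 1)) k, F.IsHomogeneous d ∧ F ∉ I ∧
      (∀ j, Algebra.Smooth k (Aj (I ⊔ Ideal.span {F}) j)) ∧
      (∀ j, Algebra.Smooth k (Aj (Ideal.span {F}) j)) := by
  classical
  obtain ⟨j₀, hj₀⟩ := hne
  have hpos : 0 < Fintype.card (Idx n d) :=
    Fintype.card_pos_iff.mpr ⟨⟨Pi.single j₀ d, single_mem j₀ d⟩⟩
  obtain ⟨N, hN⟩ : ∃ N, Fintype.card (Idx n d) = N + 1 :=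
    ⟨_, (Nat.succ_pred_eq_of_pos hpos).symm⟩
  let e : Idx n d ≃ Fin (N + 1) := Fintype.equivFinOfCardEq hN
  have h1 := fun j => exists_poly_chart hI j (hsm j) e hd
  choose g1 hg1 hg1' using h1
  haveI : IsDomain (MvPolynomial (Fin (n + 1)) k ⧸
      (⊥ : Ideal (MvPolynomial (Fin (n + 1)) k))) :=
    (Ideal.Quotient.isDomain_iff_prime _).mpr Ideal.isPrime_bot
  have h2 := fun j => exists_poly_chart (homGen_bot (k := k) (n := n)) j (smooth_Aj_bot j) e hd
  choose g2 hg2 hg2' using h2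
  obtain ⟨g3, hg3, hg3'⟩ := exists_poly_notMem hI j₀ hj₀ e
  have hG0 : g3 * ((∏ j, g1 j) * ∏ j, g2 j) ≠ 0 :=
    mul_ne_zero hg3 (mul_ne_zero (Finset.prod_ne_zero_iff.mpr (fun j _ => hg1 j))
      (Finset.prod_ne_zero_iff.mpr (fun j _ => hg2 j)))
  obtain ⟨c, hc⟩ : ∃ c : Fin (N + 1) → k,
      eval c (g3 * ((∏ j, g1 j) * ∏ j, g2 j)) ≠ 0 := by
    by_contra hcon
    push Not at hcon
    exact hG0 (MvPolynomial.funext (fun a => by rw [hcon a, map_zero]))
  rw [map_mul, map_mul, map_prod, map_prod] at hc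
  have hc3 : eval c g3 ≠ 0 := left_ne_zero_of_mul hc
  have hc12 := right_ne_zero_of_mul hc
  have hc1 : ∀ j, eval c (g1 j) ≠ 0 := fun j =>
    Finset.prod_ne_zero_iff.mp (left_ne_zero_of_mul hc12) j (Finset.mem_univ j)
  have hc2 : ∀ j, eval c (g2 j) ≠ 0 := fun j =>
    Finset.prod_ne_zero_iff.mp (right_ne_zero_of_mul hc12) j (Finset.mem_univ j)
  refine ⟨Fc e c, Fc_isHomogeneous e c, hg3' c hc3, fun j => hg1' j c (hc1 j), fun j => ?_⟩
  have := hg2' j c (hc2 j)
  rwa [bot_sup_eq] at this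

end Step

end Groth.Agent.Lib.Helper22.CInt
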