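import Mathlib
import Groth.Agent.Lib.Helper22.CIntB
import Groth.Agent.Lib.Helper4.Unmixed2
import Groth.Agent.Lib.Helper26.RegularNormal

/-!
Complete intersections, part D: existence of nonsingular complete intersections of given degrees.
-/

set_option autoImplicit false
set_option linter.style.haveILetI false
set_option linter.unusedSectionVars false
universe u
open MvPolynomial

namespace Groth.Agent.Lib.Helper22.CInt

variable {k : Type u} [Field k] {n : ℕ}

/-- an ideal generated by forms of positive degree is proper -/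
theorem span_range_ne_top {r : ℕ} (f : Fin r → MvPolynomial (Fin (n + 1)) k) (d : Fin r → ℕ)
    (hf : ∀ i, (f i).IsHomogeneous (d i)) (hd : ∀ i, 0 < d i) :
    Ideal.span (Set.range f) ≠ ⊤ := by
  intro htop
  have hle : Ideal.span (Set.range f) ≤
      RingHom.ker (constantCoeff : MvPolynomial (Fin (n + 1)) k →+* k) := by
    rw [Ideal.span_le]
    rintro _ ⟨i, rfl⟩
    change constantCoeff (f i) = 0
    rw [constantCoeff_eq]
    apply (hf i).coeff_eq_zero
    have h0 : (0 : Fin (n + 1) →₀ ℕ).degree = 0 := by simp
    rw [h0]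
    exact (hd i).ne
  have h1 : (1 : MvPolynomial (Fin (n + 1)) k) ∈
      RingHom.ker (constantCoeff : MvPolynomial (Fin (n + 1)) k →+* k) := by
    apply hle
    rw [htop]
    trivial
  rw [RingHom.mem_ker, map_one] at h1
  exact one_ne_zero h1

/-- Krull's height theorem for a finite family -/
theorem height_span_range_le {r : ℕ} (f : Fin r → MvPolynomial (Fin (n + 1)) k)
    (hne : Ideal.span (Set.range f) ≠ ⊤) : (Ideal.span (Set.range f)).height ≤ r := by
  classical
  obtain ⟨p, hp⟩ := Ideal.nonempty_minimalPrimes hne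
  have hs : ((Finset.univ.image f : Finset (MvPolynomial (Fin (n + 1)) k)) : Set _) =
      Set.range f := by
    rw [Finset.coe_image, Finset.coe_univ, Set.image_univ]
  have hp' : p ∈ (Ideal.span ((Finset.univ.image f : Finset (MvPolynomial (Fin (n + 1)) k)) :
      Set (MvPolynomial (Fin (n + 1)) k))).minimalPrimes := by
    rw [hs]
    exact hp
  have h1 := Ideal.height_le_card_of_mem_minimalPrimes_span_finset hp'
  have h2 : (Finset.univ.image f).card ≤ r := by
    refine Finset.card_image_le.trans ?_
    rw [Finset.card_univ, Fintype.card_fin]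
  have h3 : (Ideal.span (Set.range f)).height ≤ p.height := by
    rw [Ideal.height_eq_inf_minimalPrimes]
    exact iInf₂_le p hp
  exact h3.trans (h1.trans (by exact_mod_cast h2))

/-- the inductive package -/
structure Good (r : ℕ) (d : Fin r → ℕ) (f : Fin r → MvPolynomial (Fin (n + 1)) k) : Prop where
  homog : ∀ i, (f i).IsHomogeneous (d i)
  single : ∀ i j, Algebra.Smooth k (Aj (Ideal.span {f i}) j)
  dom : IsDomain (MvPolynomial (Fin (n + 1)) k ⧸ Ideal.span (Set.range f))
  ht : (Ideal.span (Set.range f)).height = r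
  charts : ∀ j, Algebra.Smooth k (Aj (Ideal.span (Set.range f)) j)

theorem span_range_snoc {r : ℕ} (f' : Fin r → MvPolynomial (Fin (n + 1)) k)
    (F : MvPolynomial (Fin (n + 1)) k) :
    Ideal.span (Set.range (Fin.snoc (α := fun _ => MvPolynomial (Fin (n + 1)) k) f' F)) =
      Ideal.span (Set.range f') ⊔ Ideal.span {F} := by
  apply le_antisymm
  · rw [Ideal.span_le]
    rintro _ ⟨i, rfl⟩
    induction i using Fin.lastCases with
    | last =>
      rw [Fin.snoc_last]
      exact Ideal.mem_sup_right (Ideal.subset_span rfl)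
    | cast i =>
      rw [Fin.snoc_castSucc]
      exact Ideal.mem_sup_left (Ideal.subset_span ⟨i, rfl⟩)
  · apply sup_le
    · apply Ideal.span_mono
      rintro _ ⟨i, rfl⟩
      exact ⟨i.castSucc, Fin.snoc_castSucc (α := fun _ => MvPolynomial (Fin (n + 1)) k) _ _ _⟩
    · rw [Ideal.span_le]
      intro x hx
      rw [Set.mem_singleton_iff] at hx
      subst hx
      exact Ideal.subset_span
        ⟨Fin.last r, Fin.snoc_last (α := fun _ => MvPolynomial (Fin (n + 1)) k) _ _⟩

theorem normal_of_charts {r : ℕ} (f : Fin r → MvPolynomial (Fin (n + 1)) k) (d : Fin r → ℕ)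
    (hf : ∀ i, (f i).IsHomogeneous (d i))
    (hch : ∀ j, Algebra.Smooth k (Aj (Ideal.span (Set.range f)) j))
    (Q : Ideal (MvPolynomial (Fin (n + 1)) k ⧸ Ideal.span (Set.range f))) [Q.IsPrime]
    (hQ : ∃ i, Ideal.Quotient.mk (Ideal.span (Set.range f)) (X i) ∉ Q) :
    IsDomain (Localization.AtPrime Q) ∧ IsIntegrallyClosed (Localization.AtPrime Q) := by
  haveI := regular_of_smooth_charts (homGen_span_range f d hf) hch Q hQ
  have h1 : IsDomain (Localization.AtPrime Q) :=
    Groth.Agent.Lib.Helper9.RegLocal.isDomain_of_isRegularLocalRing (Localization.AtPrime Q)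
  have h2 : IsIntegrallyClosed (Localization.AtPrime Q) :=
    Groth.Agent.Lib.Helper26.RegularNormal.isIntegrallyClosed_of_isRegularLocalRing
      (Localization.AtPrime Q)
  exact ⟨h1, h2⟩

theorem exists_good [Infinite k] : ∀ r : ℕ, r < n → ∀ d : Fin r → ℕ, (∀ i, 0 < d i) →
    ∃ f : Fin r → MvPolynomial (Fin (n + 1)) k, Good r d f := by
  intro r
  induction r with
  | zero =>
    intro _ d _
    refine ⟨fun i => i.elim0, ?_⟩
    have hI : Ideal.span (Set.range (fun i : Fin 0 => (i.elim0 : MvPolynomial (Fin (n + 1)) k))) =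
        ⊥ := by
      rw [Set.range_eq_empty, Ideal.span_empty]
    refine ⟨fun i => i.elim0, fun i => i.elim0, ?_, ?_, ?_⟩
    · rw [hI]
      exact (Ideal.Quotient.isDomain_iff_prime _).mpr Ideal.isPrime_bot
    · rw [hI, Ideal.height_bot]
      rfl
    · intro j
      rw [hI]
      exact smooth_Aj_bot j
  | succ r ih =>
    intro hr d hd
    obtain ⟨f', hf'⟩ := ih (by omega) (fun i => d i.castSucc) (fun i => hd i.castSucc)
    have hI := homGen_span_range f' (fun i => d i.castSucc) hf'.homog
    haveI := hf'.dom
    haveI hprime : (Ideal.span (Set.range f')).IsPrime :=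
      (Ideal.Quotient.isDomain_iff_prime _).mp hf'.dom
    have hne : ∃ j, xbar (Ideal.span (Set.range f')) j ≠ 0 := by
      by_contra hcon
      push Not at hcon
      have hX : ∀ i, (X i : MvPolynomial (Fin (n + 1)) k) ∈ Ideal.span (Set.range f') :=
        fun i => Ideal.Quotient.eq_zero_iff_mem.mp (hcon i)
      have h1 := Groth.Agent.Lib.Helper4.Unmixed.le_height_of_X_mem k n _ hX
      rw [hf'.ht] at h1
      have h2 : n + 1 ≤ r := by exact_mod_cast h1
      omega
    obtain ⟨F, hFhom, hFmem, hFch, hFsingle⟩ :=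
      exists_step hI hf'.charts hne (hd (Fin.last r))
    refine ⟨Fin.snoc (α := fun _ => MvPolynomial (Fin (n + 1)) k) f' F, ?_⟩
    have hspan := span_range_snoc f' F
    have hhomog : ∀ i, (Fin.snoc (α := fun _ => MvPolynomial (Fin (n + 1)) k) f' F i).IsHomogeneous
        (d i) := by
      intro i
      induction i using Fin.lastCases with
      | last => rw [Fin.snoc_last]; exact hFhom
      | cast i => rw [Fin.snoc_castSucc]; exact hf'.homog i
    have hcharts : ∀ j, Algebra.Smooth k
        (Aj (Ideal.span (Set.range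
          (Fin.snoc (α := fun _ => MvPolynomial (Fin (n + 1)) k) f' F))) j) := by
      intro j
      rw [hspan]
      exact hFch j
    have hnetop := span_range_ne_top _ d hhomog hd
    have hht : (Ideal.span (Set.range
        (Fin.snoc (α := fun _ => MvPolynomial (Fin (n + 1)) k) f' F))).height = (r + 1 : ℕ) := by
      apply le_antisymm (height_span_range_le _ hnetop)
      have hlt : Ideal.span (Set.range f') < Ideal.span (Set.range
          (Fin.snoc (α := fun _ => MvPolynomial (Fin (n + 1)) k) f' F)) := by
        rw [hspan]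
        refine lt_of_le_of_ne le_sup_left ?_
        intro heq
        apply hFmem
        rw [heq]
        exact Ideal.mem_sup_right (Ideal.subset_span rfl)
      have h1 := Ideal.height_strict_mono_of_isPrime hlt
      rw [hf'.ht] at h1
      have h2 := Order.add_one_le_of_lt h1
      exact_mod_cast h2
    refine ⟨hhomog, ?_, ?_, hht, hcharts⟩
    · intro i
      induction i using Fin.lastCases with
      | last => rw [Fin.snoc_last]; exact hFsingle
      | cast i => rw [Fin.snoc_castSucc]; exact hf'.single i
    · exact (Groth.Agent.Lib.Helper4.Unmixed.main2 k n (r + 1) hr _ d hhomog hht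
        (fun Q _ hQ => normal_of_charts _ d hhomog hcharts Q hQ)).1

/-- **Existence of nonsingular complete intersections of prescribed degrees.** -/
theorem main [IsAlgClosed k] (r : ℕ) (hr : r < n) (d : Fin r → ℕ) (hd : ∀ i, 0 < d i) :
    ∃ f : Fin r → MvPolynomial (Fin (n + 1)) k,
      (∀ i, (f i).IsHomogeneous (d i)) ∧
      (∀ (i : Fin r) (Q : Ideal (MvPolynomial (Fin (n + 1)) k ⧸ Ideal.span {f i})) [Q.IsPrime],
        (∃ j, Ideal.Quotient.mk (Ideal.span {f i}) (MvPolynomial.X j) ∉ Q) →
          IsRegularLocalRing (Localization.AtPrime Q)) ∧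
      IsDomain (MvPolynomial (Fin (n + 1)) k ⧸ Ideal.span (Set.range f)) ∧
      (Ideal.span (Set.range f)).height = r ∧
      ∀ (Q : Ideal (MvPolynomial (Fin (n + 1)) k ⧸ Ideal.span (Set.range f))) [Q.IsPrime],
        (∃ j, Ideal.Quotient.mk (Ideal.span (Set.range f)) (MvPolynomial.X j) ∉ Q) →
          IsRegularLocalRing (Localization.AtPrime Q) := by
  haveI : Infinite k := IsAlgClosed.instInfinite
  obtain ⟨f, hf⟩ := exists_good (k := k) (n := n) r hr d hd
  refine ⟨f, hf.homog, ?_, hf.dom, hf.ht, ?_⟩
  · intro i Q _ hQ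
    exact regular_of_smooth_charts (homGen_span_singleton (hf.homog i)) (hf.single i) Q hQ
  · intro Q _ hQ
    exact regular_of_smooth_charts (homGen_span_range f d hf.homog) hf.charts Q hQ

end Groth.Agent.Lib.Helper22.CInt
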