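import Mathlib

/-!
Closed immersion criterion (separating points and tangent vectors), part A: commutative algebra.
-/

set_option linter.style.haveILetI false
set_option autoImplicit false
universe u

namespace Groth.Agent.Lib.Helper22.ClImm

/-- A finite ring map which is surjective modulo every maximal ideal is surjective. -/
theorem surjective_of_forall_maximal {A B : Type*} [CommRing A] [CommRing B] (φ : A →+* B)
    (hfin : φ.Finite)
    (H : ∀ m : Ideal A, m.IsMaximal → ∀ b : B, ∃ a : A, b - φ a ∈ Ideal.map φ m) :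
    Function.Surjective φ := by
  letI := φ.toAlgebra
  haveI : Module.Finite A B := hfin
  let N : Submodule A B := LinearMap.range (Algebra.linearMap A B)
  suffices hN : N = ⊤ by
    intro b
    have hb : b ∈ N := hN ▸ Submodule.mem_top
    obtain ⟨a, ha⟩ := hb
    exact ⟨a, ha⟩
  by_contra hne
  let Q := B ⧸ N
  haveI : Module.Finite A Q := inferInstance
  have hann : (⊤ : Submodule A Q).annihilator ≠ ⊤ := by
    intro h
    apply hne
    rw [eq_top_iff]
    intro b _
    have h1 : (1 : A) ∈ (⊤ : Submodule A Q).annihilator := h ▸ Submodule.mem_top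
    rw [Submodule.mem_annihilator] at h1
    have h2 := h1 (Submodule.Quotient.mk b) Submodule.mem_top
    rw [one_smul, Submodule.Quotient.mk_eq_zero] at h2
    exact h2
  obtain ⟨m, hm, hle⟩ := Ideal.exists_le_maximal _ hann
  have htop : (⊤ : Submodule A Q) ≤ m • (⊤ : Submodule A Q) := by
    intro q _
    obtain ⟨b, rfl⟩ := Submodule.Quotient.mk_surjective N q
    obtain ⟨a, ha⟩ := H m hm b
    have h1 : b - φ a ∈ m • (⊤ : Submodule A B) := by
      rw [Ideal.smul_top_eq_map]
      exact ha
    have h2 : N.mkQ (b - φ a) ∈ (m • (⊤ : Submodule A B)).map N.mkQ :=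
      Submodule.mem_map_of_mem h1
    rw [Submodule.map_smul''] at h2
    have h3 : N.mkQ (b - φ a) = Submodule.Quotient.mk b := by
      rw [map_sub]
      have : N.mkQ (φ a) = 0 := by
        rw [Submodule.mkQ_apply, Submodule.Quotient.mk_eq_zero]
        exact ⟨a, rfl⟩
      rw [this, sub_zero]
      rfl
    rw [h3] at h2
    exact Submodule.smul_mono le_rfl le_top h2
  obtain ⟨r, hr1, hr2⟩ := Submodule.exists_sub_one_mem_and_smul_eq_zero_of_fg_of_le_smul m
    (⊤ : Submodule A Q) Module.Finite.fg_top htop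
  have hr : r ∈ m := hle (by
    rw [Submodule.mem_annihilator]
    intro q hq
    exact hr2 q hq)
  have h1 : (1 : A) ∈ m := by
    have := m.sub_mem hr hr1
    simpa using this
  exact hm.ne_top ((Ideal.eq_top_iff_one m).mpr h1)

/-- If a finitely generated maximal ideal `n` is the only maximal ideal containing `I ≤ n` and `n`
and `I` generate the same ideal in the localization at `n`, then `n = I`. -/
theorem eq_of_map_localization_le {B : Type*} [CommRing B] (I n : Ideal B) [hn : n.IsMaximal]
    (hfg : n.FG) (hIn : I ≤ n)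
    (huniq : ∀ n' : Ideal B, n'.IsMaximal → I ≤ n' → n' = n)
    {S : Type*} [CommRing S] [Algebra B S] [IsLocalization.AtPrime S n]
    (hloc : Ideal.map (algebraMap B S) n ≤ Ideal.map (algebraMap B S) I) : n = I := by
  classical
  apply le_antisymm _ hIn
  obtain ⟨T, hT⟩ := hfg
  have hex : ∀ g ∈ n, ∃ s : B, s ∉ n ∧ s * g ∈ I := by
    intro g hg
    have h1 : algebraMap B S g ∈ Ideal.map (algebraMap B S) I :=
      hloc (Ideal.mem_map_of_mem _ hg)
    rw [IsLocalization.algebraMap_mem_map_algebraMap_iff n.primeCompl] at h1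
    obtain ⟨s, hs, hsg⟩ := h1
    exact ⟨s, hs, hsg⟩
  have hTn : ∀ g ∈ T, g ∈ n := fun g hg => hT ▸ Ideal.subset_span hg
  choose! s hs1 hs2 using hex
  let σ : B := ∏ g ∈ T, s g
  have hσ : σ ∉ n := by
    intro h
    haveI := hn.isPrime
    obtain ⟨g, hgT, hg⟩ := Ideal.IsPrime.prod_mem_iff.mp h
    exact hs1 g (hTn g hgT) hg
  have hσT : ∀ g ∈ T, σ * g ∈ I := by
    intro g hg
    have : σ = (∏ g' ∈ T.erase g, s g') * s g := by
      rw [Finset.prod_erase_mul T s hg]
    rw [this, mul_assoc]
    exact I.mul_mem_left _ (hs2 g (hTn g hg))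
  have hσn : ∀ x ∈ n, σ * x ∈ I := by
    intro x hx
    rw [← hT] at hx
    refine Submodule.span_induction ?_ ?_ ?_ ?_ hx
    · intro g hg; exact hσT g hg
    · simp
    · intro a b _ _ ha hb; rw [mul_add]; exact I.add_mem ha hb
    · intro a b _ hb
      rw [smul_eq_mul, mul_left_comm]
      exact I.mul_mem_left _ hb
  have htop : Ideal.span {σ} ⊔ I = ⊤ := by
    by_contra hne
    obtain ⟨n', hn', hle⟩ := Ideal.exists_le_maximal _ hne
    have := huniq n' hn' (le_sup_right.trans hle)
    apply hσ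
    rw [← this]
    exact hle (Ideal.mem_sup_left (Ideal.mem_span_singleton_self σ))
  have h1 : (1 : B) ∈ Ideal.span {σ} ⊔ I := htop ▸ Submodule.mem_top
  obtain ⟨y, hy, i, hi, hyi⟩ := Submodule.mem_sup.mp h1
  obtain ⟨t, rfl⟩ := Ideal.mem_span_singleton'.mp hy
  intro x hx
  have : x = t * (σ * x) + i * x := by
    rw [← mul_assoc, ← add_mul, hyi, one_mul]
  rw [this]
  exact I.add_mem (I.mul_mem_left _ (hσn x hx)) (I.mul_mem_right _ hi)

/-- Nakayama: in a Noetherian local ring, `m ≤ J ⊔ m²` implies `m ≤ J`. -/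
theorem maximalIdeal_le_of_le_sup_sq {R : Type*} [CommRing R] [IsLocalRing R] [IsNoetherianRing R]
    (J : Ideal R)
    (h : IsLocalRing.maximalIdeal R ≤ J ⊔ IsLocalRing.maximalIdeal R ^ 2) :
    IsLocalRing.maximalIdeal R ≤ J := by
  refine Submodule.le_of_le_smul_of_le_jacobson_bot (I := IsLocalRing.maximalIdeal R)
    (IsNoetherian.noetherian _) ?_ ?_
  · rw [IsLocalRing.jacobson_eq_maximalIdeal ⊥ bot_ne_top]
  · rw [smul_eq_mul, ← sq]
    exact h

/-- Over an algebraically closed field, every element of a finitely generated algebra is a scalar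
modulo a maximal ideal. -/
theorem exists_sub_algebraMap_mem {k B : Type*} [Field k] [IsAlgClosed k] [CommRing B]
    [Algebra k B] [Algebra.FiniteType k B] (n : Ideal B) [hn : n.IsMaximal] (b : B) :
    ∃ c : k, b - algebraMap k B c ∈ n := by
  letI : Field (B ⧸ n) := Ideal.Quotient.field n
  haveI : Algebra.FiniteType k (B ⧸ n) :=
    Algebra.FiniteType.of_surjective (Ideal.Quotient.mkₐ k n) (Ideal.Quotient.mkₐ_surjective k n)
  haveI hfin : Module.Finite k (B ⧸ n) := finite_of_finite_type_of_isJacobsonRing k (B ⧸ n)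
  haveI : Algebra.IsIntegral k (B ⧸ n) := Algebra.IsIntegral.of_finite k (B ⧸ n)
  have hbij := IsAlgClosed.algebraMap_bijective_of_isIntegral (k := k) (K := B ⧸ n)
  obtain ⟨c, hc⟩ := hbij.2 (Ideal.Quotient.mk n b)
  refine ⟨c, ?_⟩
  rw [← Ideal.Quotient.eq, ← hc]
  rfl

/-- A proper ideal containing `z i - ψ (a i)` for a generating family `z` is generated by these. -/
theorem eq_span_sub {k A ι : Type*} [Field k] [CommRing A] (ψ : k →+* A) (z : ι → A)
    (hgen : ∀ S : Subring A, (∀ c, ψ c ∈ S) → (∀ i, z i ∈ S) → S = ⊤)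
    (p : Ideal A) (hp : p ≠ ⊤) (a : ι → k) (ha : ∀ i, z i - ψ (a i) ∈ p) :
    p = Ideal.span (Set.range fun i => z i - ψ (a i)) := by
  set I : Ideal A := Ideal.span (Set.range fun i => z i - ψ (a i)) with hI
  have hIp : I ≤ p := by
    rw [hI, Ideal.span_le]
    rintro _ ⟨i, rfl⟩
    exact ha i
  apply le_antisymm _ hIp
  let S : Subring A :=
    { carrier := {x | ∃ c : k, x - ψ c ∈ I}
      mul_mem' := by
        rintro x y ⟨c, hc⟩ ⟨d, hd⟩
        refine ⟨c * d, ?_⟩
        have : x * y - ψ (c * d) = (x - ψ c) * y + ψ c * (y - ψ d) := by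
          rw [map_mul]; ring
        rw [this]
        exact I.add_mem (I.mul_mem_right _ hc) (I.mul_mem_left _ hd)
      one_mem' := ⟨1, by simp⟩
      add_mem' := by
        rintro x y ⟨c, hc⟩ ⟨d, hd⟩
        refine ⟨c + d, ?_⟩
        have : x + y - ψ (c + d) = (x - ψ c) + (y - ψ d) := by
          rw [map_add]; ring
        rw [this]
        exact I.add_mem hc hd
      zero_mem' := ⟨0, by simp⟩
      neg_mem' := by
        rintro x ⟨c, hc⟩
        refine ⟨-c, ?_⟩
        have : -x - ψ (-c) = -(x - ψ c) := by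
          rw [map_neg]; ring
        rw [this]
        exact I.neg_mem hc }
  have hS : S = ⊤ := hgen S (fun c => ⟨c, by simp⟩)
    (fun i => ⟨a i, Ideal.subset_span ⟨i, rfl⟩⟩)
  intro x hx
  have hxS : x ∈ S := hS ▸ Subring.mem_top x
  obtain ⟨c, hc⟩ := hxS
  have h1 : ψ c ∈ p := by
    have := p.sub_mem hx (hIp hc)
    simpa using this
  have hc0 : c = 0 := by
    by_contra hne
    apply hp
    rw [Ideal.eq_top_iff_one]
    have : ψ c⁻¹ * ψ c = 1 := by rw [← map_mul, inv_mul_cancel₀ hne, map_one]
    rw [← this]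
    exact p.mul_mem_left _ h1
  rw [hc0, map_zero, sub_zero] at hc
  exact hc

end Groth.Agent.Lib.Helper22.ClImm
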