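import Mathlib
import Groth.Agent.Lib.Helper22.BertiniHypB
import Groth.Agent.Lib.Helper22.ClImmA
import Groth.Agent.Lib.Helper3.QProj

/-!
Closed immersion criterion, part B: closed points of projective space over an algebraically closed
field and linear forms.
-/

set_option autoImplicit false
set_option linter.style.haveILetI false
set_option linter.unusedSectionVars false
universe u
open CategoryTheory CategoryTheory.Limits AlgebraicGeometry TopologicalSpace MvPolynomial
open HomogeneousLocalization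

namespace Groth.Agent.Lib.Helper22.ClImm

open Groth.Agent.Lib.Helper22.BertiniPn Groth.Agent.Lib.Helper22.BertiniHyp
open Groth.Agent.Lib.Helper6.ProjSpaceGamma (hX psi toSpec')
open Groth.Agent.Lib.Helper12.SchemeDimFT

variable {n : ℕ} {k : Type u} [Field k]

/-- `h / X_j` in the local ring of projective space at `y`. -/
noncomputable def tau (j : Fin (n + 1)) (y : Proj (CohB1.polyGrading n k))
    (hj : (X j : MvPolynomial (Fin (n + 1)) k) ∉ y.asHomogeneousIdeal)
    (h : CohB1.polyGrading n k 1) : (Proj (CohB1.polyGrading n k)).presheaf.stalk y :=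
  (Proj.stalkIso' (CohB1.polyGrading n k) y).symm
    (HomogeneousLocalization.mk
      ⟨1, h, ⟨MvPolynomial.X j, MvPolynomial.isHomogeneous_X k j⟩, hj⟩)

theorem isUnit_tau_iff (j : Fin (n + 1)) (y : Proj (CohB1.polyGrading n k))
    (hj : (X j : MvPolynomial (Fin (n + 1)) k) ∉ y.asHomogeneousIdeal)
    (h : CohB1.polyGrading n k 1) :
    IsUnit (tau j y hj h) ↔ (h : MvPolynomial (Fin (n + 1)) k) ∉ y.asHomogeneousIdeal := by
  unfold tau
  constructor
  · intro hu
    have h2 := (isUnit_map_iff (Proj.stalkIso' (CohB1.polyGrading n k) y).symm _).mp hu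
    rw [← HomogeneousLocalization.isUnit_iff_isUnit_val,
      HomogeneousLocalization.val_mk, Localization.mk_eq_mk',
      IsLocalization.AtPrime.isUnit_mk'_iff] at h2
    exact h2
  · intro hh
    apply (isUnit_map_iff (Proj.stalkIso' (CohB1.polyGrading n k) y).symm _).mpr
    rw [← HomogeneousLocalization.isUnit_iff_isUnit_val,
      HomogeneousLocalization.val_mk, Localization.mk_eq_mk',
      IsLocalization.AtPrime.isUnit_mk'_iff]
    exact hh

theorem tau_mem_iff (j : Fin (n + 1)) (y : Proj (CohB1.polyGrading n k))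
    (hj : (X j : MvPolynomial (Fin (n + 1)) k) ∉ y.asHomogeneousIdeal)
    (h : CohB1.polyGrading n k 1) :
    tau j y hj h ∈ IsLocalRing.maximalIdeal ((Proj (CohB1.polyGrading n k)).presheaf.stalk y) ↔
      (h : MvPolynomial (Fin (n + 1)) k) ∈ y.asHomogeneousIdeal := by
  rw [IsLocalRing.mem_maximalIdeal, mem_nonunits_iff, isUnit_tau_iff, not_not]

theorem germ_cc (j : Fin (n + 1)) (y : Proj (CohB1.polyGrading n k))
    (hj : (X j : MvPolynomial (Fin (n + 1)) k) ∉ y.asHomogeneousIdeal)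
    (h : CohB1.polyGrading n k 1) :
    (Proj (CohB1.polyGrading n k)).presheaf.germ (VV n k j) y
      ((Proj.mem_basicOpen _ _ _).mpr hj) (cc n k j h) = tau j y hj h := by
  have hx' : y ∈ VV n k j := (Proj.mem_basicOpen _ _ _).mpr hj
  have := congrArg (fun φ => φ.hom (zh n k j h))
    (ProjectiveSpectrum.Proj.awayToSection_germ (CohB1.polyGrading n k) (X j) y hx')
  refine Eq.trans this ?_
  unfold tau
  change (Proj.stalkIso' (CohB1.polyGrading n k) y).symm
      (HomogeneousLocalization.mapId (CohB1.polyGrading n k)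
        (Submonoid.powers_le.mpr hx') (zh n k j h)) =
    (Proj.stalkIso' (CohB1.polyGrading n k) y).symm _
  congr 1
  apply HomogeneousLocalization.val_injective
  simp only [zh, Away.mk, HomogeneousLocalization.mapId, HomogeneousLocalization.map_mk,
    HomogeneousLocalization.val_mk, RingHom.id_apply]
  congr 1
  exact Subtype.ext (pow_one _)

/-- membership in the prime ideal of a point of an affine open, via germs -/
theorem mem_primeIdealOf_iff {Z : Scheme.{u}} {U : Z.Opens} (hU : IsAffineOpen U) (x : Z)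
    (hx : x ∈ U) (s : Γ(Z, U)) :
    s ∈ (hU.primeIdealOf ⟨x, hx⟩).asIdeal ↔
      Z.presheaf.germ U x hx s ∈ IsLocalRing.maximalIdeal (Z.presheaf.stalk x) := by
  letI : Algebra Γ(Z, U) (Z.presheaf.stalk x) :=
    TopCat.Presheaf.algebra_section_stalk Z.presheaf ⟨x, hx⟩
  haveI hloc : IsLocalization.AtPrime (Z.presheaf.stalk x)
      (hU.primeIdealOf ⟨x, hx⟩).asIdeal := hU.isLocalization_stalk ⟨x, hx⟩
  have h2 : algebraMap Γ(Z, U) (Z.presheaf.stalk x) s ∈
      IsLocalRing.maximalIdeal (Z.presheaf.stalk x) ↔ s ∈ (hU.primeIdealOf ⟨x, hx⟩).asIdeal :=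
    IsLocalization.AtPrime.to_map_mem_maximal_iff _ (hU.primeIdealOf ⟨x, hx⟩).asIdeal s
  exact h2.symm

theorem maximalIdeal_eq_map_primeIdealOf {Z : Scheme.{u}} {U : Z.Opens} (hU : IsAffineOpen U)
    (x : Z) (hx : x ∈ U) :
    IsLocalRing.maximalIdeal (Z.presheaf.stalk x) =
      (hU.primeIdealOf ⟨x, hx⟩).asIdeal.map (Z.presheaf.germ U x hx).hom := by
  letI : Algebra Γ(Z, U) (Z.presheaf.stalk x) :=
    TopCat.Presheaf.algebra_section_stalk Z.presheaf ⟨x, hx⟩
  haveI hloc : IsLocalization.AtPrime (Z.presheaf.stalk x)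
      (hU.primeIdealOf ⟨x, hx⟩).asIdeal := hU.isLocalization_stalk ⟨x, hx⟩
  exact (IsLocalization.AtPrime.map_eq_maximalIdeal _ (Z.presheaf.stalk x)).symm

/-- The `k`-structure of projective space. -/
@[reducible] noncomputable def overP (n : ℕ) (k : Type u) [Field k] :
    (Proj (CohB1.polyGrading n k)).Over (Spec (CommRingCat.of k)) := ⟨toSpec' n k⟩

theorem secMap_VV (j : Fin (n + 1)) (c : k) :
    @secMap k _ (Proj (CohB1.polyGrading n k)) (overP n k) (VV n k j) c =
      (Proj.awayToSection (CohB1.polyGrading n k) (X j)).hom (psi n k (X j) c) := by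
  have h1 := Groth.Agent.Lib.Helper7.PnGamma.res_rhoR n k j c
  rw [← h1]
  rfl

theorem sub_mem_grading (j i : Fin (n + 1)) (a : k) :
    (X i - C a * X j : MvPolynomial (Fin (n + 1)) k) ∈ CohB1.polyGrading n k 1 :=
  Submodule.sub_mem _ (hX n k i) (isHomogeneous_C_mul_X a j)

theorem zh_sub (j i : Fin (n + 1)) (a : k) :
    zh n k j ⟨X i - C a * X j, sub_mem_grading j i a⟩ = zz n k j i - psi n k (X j) a := by
  rw [eq_sub_iff_add_eq]
  apply HomogeneousLocalization.val_injective
  rw [HomogeneousLocalization.val_add, Groth.Agent.Lib.Helper6.ProjSpaceGamma.psi_val, val_zz]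
  change Localization.mk (X i - C a * X j)
      (⟨X j ^ 1, ⟨1, rfl⟩⟩ : Submonoid.powers (X j : MvPolynomial (Fin (n + 1)) k)) +
    Localization.mk (C a) 1 = _
  have e : Localization.mk (C a) (1 : Submonoid.powers (X j : MvPolynomial (Fin (n + 1)) k)) =
      Localization.mk (C a * X j ^ 1)
        (⟨X j ^ 1, ⟨1, rfl⟩⟩ : Submonoid.powers (X j : MvPolynomial (Fin (n + 1)) k)) := by
    rw [Localization.mk_eq_mk']
    exact (IsLocalization.mk'_one _ _).trans
      (IsLocalization.mk'_mul_cancel_right (C a)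
        (⟨X j ^ 1, ⟨1, rfl⟩⟩ : Submonoid.powers (X j : MvPolynomial (Fin (n + 1)) k))).symm
  rw [e, Localization.add_mk_self]
  congr 1
  ring

theorem cc_sub (j i : Fin (n + 1)) (a : k) :
    cc n k j ⟨X i - C a * X j, sub_mem_grading j i a⟩ =
      cc n k j ⟨X i, hX n k i⟩ -
        @secMap k _ (Proj (CohB1.polyGrading n k)) (overP n k) (VV n k j) a := by
  rw [secMap_VV]
  unfold cc
  rw [zh_sub, map_sub]
  rfl

section closed

variable [IsAlgClosed k]

theorem gen_VV (j : Fin (n + 1)) (S : Subring Γ(Proj (CohB1.polyGrading n k), VV n k j))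
    (h1 : ∀ c, @secMap k _ (Proj (CohB1.polyGrading n k)) (overP n k) (VV n k j) c ∈ S)
    (h2 : ∀ i, cc n k j ⟨X i, hX n k i⟩ ∈ S) : S = ⊤ := by
  have hbij : Function.Bijective (Proj.awayToSection (CohB1.polyGrading n k)
      (X j : MvPolynomial (Fin (n + 1)) k)).hom := by
    have : IsIso (Proj.awayToSection (CohB1.polyGrading n k)
        (X j : MvPolynomial (Fin (n + 1)) k)) := by
      rw [← Proj.basicOpenIsoAway_hom (CohB1.polyGrading n k) (X j) (hX n k j) one_pos]
      infer_instance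
    exact ConcreteCategory.bijective_of_isIso _
  have hS := adjoin_zz n k j
    (S.comap (Proj.awayToSection (CohB1.polyGrading n k) (X j)).hom) ?_ ?_
  · rw [eq_top_iff]
    intro t _
    obtain ⟨z, rfl⟩ := hbij.2 t
    have hz : z ∈ (⊤ : Subring (Away (CohB1.polyGrading n k)
        (X j : MvPolynomial (Fin (n + 1)) k))) := trivial
    rw [← hS] at hz
    exact hz
  · intro c
    show (Proj.awayToSection (CohB1.polyGrading n k) (X j)).hom (psi n k (X j) c) ∈ S
    rw [← secMap_VV]
    exact h1 c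
  · intro i
    exact h2 i

theorem exists_coords (j : Fin (n + 1)) (y : Proj (CohB1.polyGrading n k))
    (hj : (X j : MvPolynomial (Fin (n + 1)) k) ∉ y.asHomogeneousIdeal)
    (hcl : IsClosed ({y} : Set (Proj (CohB1.polyGrading n k)))) :
    ∃ a : Fin (n + 1) → k, ∀ i,
      cc n k j ⟨X i - C (a i) * X j, sub_mem_grading j i (a i)⟩ ∈
        ((isAffineOpen_VV j).primeIdealOf ⟨y, (Proj.mem_basicOpen _ _ _).mpr hj⟩).asIdeal := by
  letI := overP n k
  haveI : LocallyOfFiniteType ((Proj (CohB1.polyGrading n k)) ↘ Spec (CommRingCat.of k)) :=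
    (inferInstance : LocallyOfFiniteType (CohB1.ProjSpace.toSpec n k))
  letI := secAlgebra k (Proj (CohB1.polyGrading n k)) (VV n k j)
  haveI := finiteType_sec k (Proj (CohB1.polyGrading n k)) (VV n k j) (isAffineOpen_VV j)
  have hy : y ∈ VV n k j := (Proj.mem_basicOpen _ _ _).mpr hj
  haveI hpmax := isMaximal_primeIdealOf (isAffineOpen_VV j) y hy hcl
  have hex : ∀ i, ∃ c : k, cc n k j ⟨X i, hX n k i⟩ -
      algebraMap k Γ(Proj (CohB1.polyGrading n k), VV n k j) c ∈
        ((isAffineOpen_VV j).primeIdealOf ⟨y, hy⟩).asIdeal :=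
    fun i => exists_sub_algebraMap_mem _ _
  choose a ha using hex
  refine ⟨a, fun i => ?_⟩
  rw [cc_sub]
  exact ha i

theorem coords_mem (j : Fin (n + 1)) (y : Proj (CohB1.polyGrading n k))
    (hj : (X j : MvPolynomial (Fin (n + 1)) k) ∉ y.asHomogeneousIdeal)
    (h : CohB1.polyGrading n k 1) :
    cc n k j h ∈
        ((isAffineOpen_VV j).primeIdealOf ⟨y, (Proj.mem_basicOpen _ _ _).mpr hj⟩).asIdeal ↔
      (h : MvPolynomial (Fin (n + 1)) k) ∈ y.asHomogeneousIdeal := by
  rw [mem_primeIdealOf_iff, germ_cc j y hj h, tau_mem_iff]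

theorem primeIdealOf_eq_span (j : Fin (n + 1)) (y : Proj (CohB1.polyGrading n k))
    (hj : (X j : MvPolynomial (Fin (n + 1)) k) ∉ y.asHomogeneousIdeal)
    (a : Fin (n + 1) → k)
    (ha : ∀ i, cc n k j ⟨X i - C (a i) * X j, sub_mem_grading j i (a i)⟩ ∈
        ((isAffineOpen_VV j).primeIdealOf ⟨y, (Proj.mem_basicOpen _ _ _).mpr hj⟩).asIdeal) :
    ((isAffineOpen_VV j).primeIdealOf ⟨y, (Proj.mem_basicOpen _ _ _).mpr hj⟩).asIdeal =
      Ideal.span (Set.range fun i =>
        cc n k j ⟨X i - C (a i) * X j, sub_mem_grading j i (a i)⟩) := by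
  have h1 := eq_span_sub (@secMap k _ (Proj (CohB1.polyGrading n k)) (overP n k) (VV n k j))
    (fun i => cc n k j ⟨X i, hX n k i⟩) (gen_VV j)
    ((isAffineOpen_VV j).primeIdealOf ⟨y, (Proj.mem_basicOpen _ _ _).mpr hj⟩).asIdeal
    ((isAffineOpen_VV j).primeIdealOf ⟨y, (Proj.mem_basicOpen _ _ _).mpr hj⟩).isPrime.ne_top a
    (fun i => by rw [← cc_sub]; exact ha i)
  rw [h1]
  congr 1
  ext t
  constructor
  · rintro ⟨i, rfl⟩
    exact ⟨i, cc_sub j i (a i)⟩
  · rintro ⟨i, rfl⟩
    exact ⟨i, (cc_sub j i (a i)).symm⟩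

/-- the maximal ideal of the local ring at a closed point is generated by linear fractions -/
theorem maximalIdeal_le_span (j : Fin (n + 1)) (y : Proj (CohB1.polyGrading n k))
    (hj : (X j : MvPolynomial (Fin (n + 1)) k) ∉ y.asHomogeneousIdeal)
    (hcl : IsClosed ({y} : Set (Proj (CohB1.polyGrading n k)))) :
    IsLocalRing.maximalIdeal ((Proj (CohB1.polyGrading n k)).presheaf.stalk y) ≤
      Ideal.span {t | ∃ h : CohB1.polyGrading n k 1,
        (h : MvPolynomial (Fin (n + 1)) k) ∈ y.asHomogeneousIdeal ∧ t = tau j y hj h} := by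
  obtain ⟨a, ha⟩ := exists_coords j y hj hcl
  rw [maximalIdeal_eq_map_primeIdealOf (isAffineOpen_VV j) y ((Proj.mem_basicOpen _ _ _).mpr hj),
    primeIdealOf_eq_span j y hj a ha, Ideal.map_span]
  apply Ideal.span_mono
  rintro _ ⟨_, ⟨i, rfl⟩, rfl⟩
  refine ⟨⟨X i - C (a i) * X j, sub_mem_grading j i (a i)⟩, ?_, ?_⟩
  · exact (coords_mem j y hj _).mp (ha i)
  · exact germ_cc j y hj _

/-- two distinct closed points of projective space are separated by a linear form -/
theorem exists_linear_sep (y y' : Proj (CohB1.polyGrading n k))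
    (hcl : IsClosed ({y} : Set (Proj (CohB1.polyGrading n k))))
    (hne : y ≠ y') :
    ∃ h : CohB1.polyGrading n k 1, (h : MvPolynomial (Fin (n + 1)) k) ∈ y.asHomogeneousIdeal ∧
      (h : MvPolynomial (Fin (n + 1)) k) ∉ y'.asHomogeneousIdeal := by
  obtain ⟨j, hyj⟩ := exists_chart_mem y
  have hj : (X j : MvPolynomial (Fin (n + 1)) k) ∉ y.asHomogeneousIdeal :=
    (Proj.mem_basicOpen _ _ _).mp hyj
  obtain ⟨a, ha⟩ := exists_coords j y hj hcl
  by_contra H
  push_neg at H
  have hall : ∀ i, (X i - C (a i) * X j : MvPolynomial (Fin (n + 1)) k) ∈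
      y'.asHomogeneousIdeal := fun i =>
    H ⟨X i - C (a i) * X j, sub_mem_grading j i (a i)⟩ ((coords_mem j y hj _).mp (ha i))
  by_cases hj' : (X j : MvPolynomial (Fin (n + 1)) k) ∈ y'.asHomogeneousIdeal
  · obtain ⟨l, hl⟩ := exists_chart_mem y'
    apply (Proj.mem_basicOpen _ _ _).mp hl
    have : (X l : MvPolynomial (Fin (n + 1)) k) = (X l - C (a l) * X j) + C (a l) * X j := by ring
    rw [this]
    exact Ideal.add_mem _ (hall l) (Ideal.mul_mem_left _ _ hj')
  · apply hne
    have hy' : y' ∈ VV n k j := (Proj.mem_basicOpen _ _ _).mpr hj'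
    have hle : ((isAffineOpen_VV j).primeIdealOf ⟨y, hyj⟩).asIdeal ≤
        ((isAffineOpen_VV j).primeIdealOf ⟨y', hy'⟩).asIdeal := by
      rw [primeIdealOf_eq_span j y hj a ha, Ideal.span_le]
      rintro _ ⟨i, rfl⟩
      exact (coords_mem j y' hj' _).mpr (hall i)
    haveI hpmax := isMaximal_primeIdealOf (isAffineOpen_VV j) y hyj hcl
    have heq : ((isAffineOpen_VV j).primeIdealOf ⟨y, hyj⟩).asIdeal =
        ((isAffineOpen_VV j).primeIdealOf ⟨y', hy'⟩).asIdeal :=
      hpmax.eq_of_le ((isAffineOpen_VV j).primeIdealOf ⟨y', hy'⟩).isPrime.ne_top hle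
    have h1 : (isAffineOpen_VV j).primeIdealOf ⟨y, hyj⟩ =
        (isAffineOpen_VV j).primeIdealOf ⟨y', hy'⟩ := PrimeSpectrum.ext heq
    have h2 := congrArg (fun q => (isAffineOpen_VV j).fromSpec q) h1
    simp only [IsAffineOpen.fromSpec_primeIdealOf] at h2
    exact h2

end closed

end Groth.Agent.Lib.Helper22.ClImm
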