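import Mathlib
import Groth.Agent.Lib.Helper22.ClImmB
import Groth.Agent.Lib.Helper3.VACore
import Groth.Agent.Lib.Helper23.Inverse

/-!
Closed immersion criterion, part C: germs of pulled-back linear forms.
-/

set_option autoImplicit false
set_option linter.style.haveILetI false
set_option linter.unusedSectionVars false
universe u
open CategoryTheory CategoryTheory.Limits AlgebraicGeometry TopologicalSpace MvPolynomial
open HomogeneousLocalization

namespace Groth.Agent.Lib.Helper22.ClImm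

open Groth.Agent.Lib.Helper22.BertiniPn Groth.Agent.Lib.Helper22.BertiniHyp
open Groth.Agent.Lib.Helper6.ProjSpaceGamma (hX psi toSpec')
open Groth.Agent.Lib.Helper12.SchemeDimFT
open Groth.Agent.Lib.Helper3 Groth.Agent.Lib.Helper3.QCSec Groth.Agent.Lib.Helper3.InvGen
  Groth.Agent.Lib.Helper3.TwistBasic Groth.Agent.Lib.Helper3.ProjFrac
  Groth.Agent.Lib.Helper3.TwistProj Groth.Agent.Lib.Helper3.ProjPullGen
  Groth.Agent.Lib.Helper3.SecCoord Groth.Agent.Lib.Helper3.ProjUniq
  Groth.Agent.Lib.Helper3.VACore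

variable {n : ℕ} {k : Type u} [Field k]

theorem good_lin' (j : Fin (n + 1)) (l : CohB1.polyGrading n k 1) :
    Good (VV n k j) (l : MvPolynomial (Fin (n + 1)) k) (X j) :=
  good_of_mem l.2 (hX n k j) (fun x => (Proj.mem_basicOpen _ _ _).mp x.2)

theorem cc_eq_fn' (j : Fin (n + 1)) (l : CohB1.polyGrading n k 1) :
    cc n k j l = fn (VV n k j) (l : MvPolynomial (Fin (n + 1)) k) (X j) := by
  apply fval_ext
  intro x
  rw [fval_fn (good_lin' j l), fval_cc]
  simp only [zh, Away.mk, HomogeneousLocalization.mapId, HomogeneousLocalization.map_mk,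
    HomogeneousLocalization.val_mk]
  congr 1
  exact Subtype.ext (pow_one _)

variable {Z : Scheme.{u}} (f : Z ⟶ Proj (CohB1.polyGrading n k))

/-- the pullback of `O(1)` -/
noncomputable abbrev LL : Z.Modules :=
  (Scheme.Modules.pullback f).obj (Twist.twist (CohB1.polyGrading n k) ((1 : ℕ) : ℤ))

/-- the pulled back coordinates -/
noncomputable def ss (i : Fin (n + 1)) : Γ(LL f, ⊤) :=
  gpull f (Twist.twist (CohB1.polyGrading n k) ((1 : ℕ) : ℤ))
    (gsec (⟨X i, hX n k i⟩ : CohB1.polyGrading n k 1))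

theorem locus_ss (j : Fin (n + 1)) : locus (LL f) (ss f j) = UU f j :=
  locus_gpull_gsec f (hasUnitFrac_projSpace k n) (⟨X j, hX n k j⟩ : CohB1.polyGrading n k 1)

theorem isGen_ss (j : Fin (n + 1)) :
    IsGen (LL f) (UU f j) (res (LL f) (le_top : UU f j ≤ ⊤) (ss f j)) := by
  intro V hV
  have := isGenAt_of_le (LL f) (ss f j) (hV.trans (locus_ss f j).ge)
  rwa [res_res]

theorem res_ss (j i : Fin (n + 1)) :
    res (LL f) (le_top : UU f j ≤ ⊤) (ss f i) =
      aa f j i • res (LL f) (le_top : UU f j ≤ ⊤) (ss f j) := by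
  have h1 := res_gpull_gsec f (hX n k j) (hX n k i) (UU f j) le_rfl
  refine h1.trans ?_
  congr 1
  have e1 : fn (Proj.basicOpen (CohB1.polyGrading n k) (X j)) (X i) (X j) =
      cc n k j ⟨X i, hX n k i⟩ := (cc_eq_fn' j ⟨X i, hX n k i⟩).symm
  rw [e1]
  change (f.appLE (VV n k j) (f ⁻¹ᵁ VV n k j) le_rfl).hom _ = _
  rw [← Scheme.Hom.app_eq_appLE]
  rfl

section ModuleLemmas

variable {R M : Type*} [CommRing R] [AddCommGroup M] [Module R M]

theorem smul_top_eq_map (I : Ideal R) (e : M)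
    (he : Function.Bijective (LinearMap.toSpanSingleton R M e)) :
    I • (⊤ : Submodule R M) = Submodule.map (LinearMap.toSpanSingleton R M e) I := by
  have h1 : (⊤ : Submodule R M) = Submodule.map (LinearMap.toSpanSingleton R M e) ⊤ := by
    rw [Submodule.map_top, LinearMap.range_eq_top.mpr he.2]
  rw [h1, ← Submodule.map_smul'']
  congr 1
  rw [smul_eq_mul, Ideal.mul_top]

theorem smul_mem_smul_top_iff (I : Ideal R) (e : M)
    (he : Function.Bijective (LinearMap.toSpanSingleton R M e)) (a : R) :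
    a • e ∈ I • (⊤ : Submodule R M) ↔ a ∈ I := by
  rw [smul_top_eq_map I e he]
  constructor
  · rintro ⟨b, hb, hba⟩
    have : b = a := he.1 (by simpa [LinearMap.toSpanSingleton_apply] using hba)
    exact this ▸ hb
  · intro ha
    exact ⟨a, ha, by simp [LinearMap.toSpanSingleton_apply]⟩

theorem tangent_iff (I : Ideal R) (e : M)
    (he : Function.Bijective (LinearMap.toSpanSingleton R M e)) (S : Set R) :
    (I • (⊤ : Submodule R M) ≤
        Submodule.span R {v | ∃ a ∈ S, v = a • e} ⊔ (I ^ 2) • (⊤ : Submodule R M)) ↔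
      I ≤ Ideal.span S ⊔ I ^ 2 := by
  have h1 : Submodule.span R {v | ∃ a ∈ S, v = a • e} =
      Submodule.map (LinearMap.toSpanSingleton R M e) (Ideal.span S) := by
    rw [Ideal.span, Submodule.map_span]
    congr 1
    ext v
    constructor
    · rintro ⟨a, ha, rfl⟩
      exact ⟨a, ha, by simp [LinearMap.toSpanSingleton_apply]⟩
    · rintro ⟨a, ha, rfl⟩
      exact ⟨a, ha, by simp [LinearMap.toSpanSingleton_apply]⟩
  rw [smul_top_eq_map I e he, smul_top_eq_map (I ^ 2) e he, h1, ← Submodule.map_sup]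
  exact Submodule.map_le_map_iff_of_injective he.1 _ _

end ModuleLemmas

section germs

variable (pZ : Z ⟶ Spec (CommRingCat.of k))

/-- the section `∑ c_i s_i` -/
noncomputable def sc (c : Fin (n + 1) → k) : Γ(LL f, ⊤) :=
  ∑ i, ProjUP.toGlobal pZ (c i) • ss f i

theorem res_sc (hf : f ≫ toSpec' n k = pZ) (j : Fin (n + 1)) (c : Fin (n + 1) → k) :
    res (LL f) (le_top : UU f j ≤ ⊤) (sc f pZ c) =
      Phi f j (zh n k j (linForm c)) • res (LL f) (le_top : UU f j ≤ ⊤) (ss f j) := by
  subst hf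
  unfold sc
  have h1 : res (LL f) (le_top : UU f j ≤ ⊤)
      (∑ i, ProjUP.toGlobal (f ≫ toSpec' n k) (c i) • ss f i) =
      ∑ i, res (LL f) (le_top : UU f j ≤ ⊤)
        (ProjUP.toGlobal (f ≫ toSpec' n k) (c i) • ss f i) :=
    map_sum ((LL f).presheaf.map (homOfLE (le_top : UU f j ≤ ⊤)).op).hom _ _
  rw [h1]
  have h2 : ∀ i, res (LL f) (le_top : UU f j ≤ ⊤)
      (ProjUP.toGlobal (f ≫ toSpec' n k) (c i) • ss f i) =
      (rres Z (le_top : UU f j ≤ ⊤) (ProjUP.toGlobal (f ≫ toSpec' n k) (c i)) * aa f j i) •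
        res (LL f) (le_top : UU f j ≤ ⊤) (ss f j) := by
    intro i
    rw [res_smul, res_ss f j, mul_smul]
  rw [Finset.sum_congr rfl (fun i _ => h2 i), ← Finset.sum_smul, Phi_zh]
  congr 1
  apply Finset.sum_congr rfl
  intro i _
  rw [coeff_linForm]
  rfl

theorem germ_ss_bijective (j : Fin (n + 1)) (P : Z) (hP : P ∈ UU f j) :
    Function.Bijective (LinearMap.toSpanSingleton (Z.presheaf.stalk P)
      ((LL f).presheaf.stalk P) ((LL f).presheaf.germ ⊤ P trivial (ss f j))) := by
  have := Groth.Agent.Lib.Helper23.Inverse.germ_gen_bijective (isGen_ss f j) P hP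
  rwa [Groth.Agent.Lib.Helper23.Inverse.germ_res'] at this

theorem germ_sc (hf : f ≫ toSpec' n k = pZ) (j : Fin (n + 1)) (c : Fin (n + 1) → k) (P : Z)
    (hP : P ∈ UU f j) :
    (LL f).presheaf.germ ⊤ P trivial (sc f pZ c) =
      (f.stalkMap P).hom (tau j (f P) ((mem_UU f j P).mp hP) (linForm c)) •
        (LL f).presheaf.germ ⊤ P trivial (ss f j) := by
  rw [← Groth.Agent.Lib.Helper23.Inverse.germ_res' (LL f) (le_top : UU f j ≤ ⊤) P hP,
    res_sc f pZ hf j c, Mero.germ_smul, Groth.Agent.Lib.Helper23.Inverse.germ_res']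
  congr 1
  exact (stalk_elt_eq f j P ((mem_UU f j P).mp hP) (linForm c)).symm

theorem germ_sc_mem_iff (hf : f ≫ toSpec' n k = pZ) (j : Fin (n + 1)) (c : Fin (n + 1) → k)
    (P : Z) (hP : P ∈ UU f j) :
    (LL f).presheaf.germ ⊤ P trivial (sc f pZ c) ∈
        (IsLocalRing.maximalIdeal (Z.presheaf.stalk P) •
          (⊤ : Submodule (Z.presheaf.stalk P) ((LL f).presheaf.stalk P))) ↔
      (linForm c : MvPolynomial (Fin (n + 1)) k) ∈ (f P).asHomogeneousIdeal := by
  rw [germ_sc f pZ hf j c P hP, smul_mem_smul_top_iff _ _ (germ_ss_bijective f j P hP),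
    ← tau_mem_iff j (f P) ((mem_UU f j P).mp hP) (linForm c)]
  constructor
  · intro h
    by_contra hcon
    have hu : IsUnit (tau j (f P) ((mem_UU f j P).mp hP) (linForm c)) := by
      rwa [IsLocalRing.mem_maximalIdeal, mem_nonunits_iff, not_not] at hcon
    exact (IsLocalRing.mem_maximalIdeal _).mp h (hu.map (f.stalkMap P).hom)
  · intro h
    rw [IsLocalRing.mem_maximalIdeal, mem_nonunits_iff] at h ⊢
    intro hu
    exact h ((isUnit_map_iff (f.stalkMap P).hom _).mp hu)

end germs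

end Groth.Agent.Lib.Helper22.ClImm
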