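import Mathlib
import Groth.Agent.Lib.Helper22.ClImmC

/-!
Closed immersion criterion, part D: the criterion.
-/

set_option autoImplicit false
set_option linter.style.haveILetI false
set_option linter.unusedSectionVars false
universe u
open CategoryTheory CategoryTheory.Limits AlgebraicGeometry TopologicalSpace MvPolynomial
open HomogeneousLocalization

namespace Groth.Agent.Lib.Helper22.ClImm

open Groth.Agent.Lib.Helper22.BertiniPn Groth.Agent.Lib.Helper22.BertiniHyp
open Groth.Agent.Lib.Helper6.ProjSpaceGamma (hX psi toSpec')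
open Groth.Agent.Lib.Helper12.SchemeDimFT
open Groth.Agent.Lib.Helper3 Groth.Agent.Lib.Helper3.QCSec Groth.Agent.Lib.Helper3.InvGen
  Groth.Agent.Lib.Helper3.TwistBasic Groth.Agent.Lib.Helper3.ProjFrac
  Groth.Agent.Lib.Helper3.TwistProj Groth.Agent.Lib.Helper3.ProjPullGen
  Groth.Agent.Lib.Helper3.SecCoord Groth.Agent.Lib.Helper3.ProjUniq
  Groth.Agent.Lib.Helper3.VACore

variable {n : ℕ} {k : Type u} [Field k]

theorem exists_linForm_eq (h : CohB1.polyGrading n k 1) :
    ∃ c : Fin (n + 1) → k, linForm c = h :=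
  ⟨fun i => coeff (Finsupp.single i 1) (h : MvPolynomial (Fin (n + 1)) k),
    Subtype.ext (linear_eq_sum n k h h.2).symm⟩

variable {Z : Scheme.{u}} (f : Z ⟶ Proj (CohB1.polyGrading n k))
  (pZ : Z ⟶ Spec (CommRingCat.of k))


theorem maximalIdeal_eq_span [IsAlgClosed k] (j : Fin (n + 1)) (y : Proj (CohB1.polyGrading n k))
    (hj : (X j : MvPolynomial (Fin (n + 1)) k) ∉ y.asHomogeneousIdeal)
    (hcl : IsClosed ({y} : Set (Proj (CohB1.polyGrading n k)))) :
    IsLocalRing.maximalIdeal ((Proj (CohB1.polyGrading n k)).presheaf.stalk y) =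
      Ideal.span {t | ∃ h : CohB1.polyGrading n k 1,
        (h : MvPolynomial (Fin (n + 1)) k) ∈ y.asHomogeneousIdeal ∧ t = tau j y hj h} := by
  apply le_antisymm (maximalIdeal_le_span j y hj hcl)
  rw [Ideal.span_le]
  rintro _ ⟨h, hh, rfl⟩
  exact (tau_mem_iff j y hj h).mpr hh

theorem tangent_sc_iff [IsAlgClosed k] (hf : f ≫ toSpec' n k = pZ) (j : Fin (n + 1)) (P : Z)
    (hP : P ∈ UU f j) (hcl : IsClosed ({f P} : Set (Proj (CohB1.polyGrading n k)))) :
    ((IsLocalRing.maximalIdeal (Z.presheaf.stalk P) •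
          (⊤ : Submodule (Z.presheaf.stalk P) ((LL f).presheaf.stalk P))) ≤
        Submodule.span (Z.presheaf.stalk P)
            {v | ∃ c : Fin (n + 1) → k,
              v = (LL f).presheaf.germ ⊤ P trivial (sc f pZ c) ∧
              v ∈ (IsLocalRing.maximalIdeal (Z.presheaf.stalk P) •
                (⊤ : Submodule (Z.presheaf.stalk P) ((LL f).presheaf.stalk P)))} ⊔
          (IsLocalRing.maximalIdeal (Z.presheaf.stalk P) ^ 2 •
            (⊤ : Submodule (Z.presheaf.stalk P) ((LL f).presheaf.stalk P)))) ↔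
      IsLocalRing.maximalIdeal (Z.presheaf.stalk P) ≤
        Ideal.map (f.stalkMap P).hom
            (IsLocalRing.maximalIdeal ((Proj (CohB1.polyGrading n k)).presheaf.stalk (f P))) ⊔
          IsLocalRing.maximalIdeal (Z.presheaf.stalk P) ^ 2 := by
  have hj := (mem_UU f j P).mp hP
  have he := germ_ss_bijective f j P hP
  let S : Set (Z.presheaf.stalk P) := {α | ∃ c : Fin (n + 1) → k,
    (linForm c : MvPolynomial (Fin (n + 1)) k) ∈ (f P).asHomogeneousIdeal ∧
      α = (f.stalkMap P).hom (tau j (f P) hj (linForm c))}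
  have hA : {v | ∃ c : Fin (n + 1) → k,
      v = (LL f).presheaf.germ ⊤ P trivial (sc f pZ c) ∧
      v ∈ (IsLocalRing.maximalIdeal (Z.presheaf.stalk P) •
        (⊤ : Submodule (Z.presheaf.stalk P) ((LL f).presheaf.stalk P)))} =
      {v | ∃ a ∈ S, v = a • (LL f).presheaf.germ ⊤ P trivial (ss f j)} := by
    ext v
    constructor
    · rintro ⟨c, rfl, hv⟩
      exact ⟨_, ⟨c, (germ_sc_mem_iff f pZ hf j c P hP).mp hv, rfl⟩, germ_sc f pZ hf j c P hP⟩
    · rintro ⟨a, ⟨c, hc, rfl⟩, rfl⟩
      refine ⟨c, (germ_sc f pZ hf j c P hP).symm, ?_⟩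
      rw [← germ_sc f pZ hf j c P hP]
      exact (germ_sc_mem_iff f pZ hf j c P hP).mpr hc
  have hB : Ideal.span S = Ideal.map (f.stalkMap P).hom
      (IsLocalRing.maximalIdeal ((Proj (CohB1.polyGrading n k)).presheaf.stalk (f P))) := by
    rw [maximalIdeal_eq_span j (f P) hj hcl, Ideal.map_span]
    congr 1
    ext α
    constructor
    · rintro ⟨c, hc, rfl⟩
      exact ⟨_, ⟨linForm c, hc, rfl⟩, rfl⟩
    · rintro ⟨_, ⟨h, hh, rfl⟩, rfl⟩
      obtain ⟨c, rfl⟩ := exists_linForm_eq h
      exact ⟨c, hh, rfl⟩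
  rw [hA, tangent_iff _ _ he S, hB]

section forward

variable [IsAlgClosed k] [IsClosedImmersion f]

theorem isClosed_image_pt (P : Z) (hP : IsClosed ({P} : Set Z)) :
    IsClosed ({f P} : Set (Proj (CohB1.polyGrading n k))) := by
  have := f.isClosedEmbedding.isClosedMap _ hP
  rwa [Set.image_singleton] at this

theorem sepA_of_isClosedImmersion (hf : f ≫ toSpec' n k = pZ) (P Q : Z)
    (hP : IsClosed ({P} : Set Z)) (hne : P ≠ Q) :
    ∃ c : Fin (n + 1) → k,
      (LL f).presheaf.germ ⊤ P trivial (sc f pZ c) ∈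
        (IsLocalRing.maximalIdeal (Z.presheaf.stalk P) •
          (⊤ : Submodule (Z.presheaf.stalk P) ((LL f).presheaf.stalk P))) ∧
      (LL f).presheaf.germ ⊤ Q trivial (sc f pZ c) ∉
        (IsLocalRing.maximalIdeal (Z.presheaf.stalk Q) •
          (⊤ : Submodule (Z.presheaf.stalk Q) ((LL f).presheaf.stalk Q))) := by
  have hclP := isClosed_image_pt f P hP
  have hne' : f P ≠ f Q := fun h => hne (f.isClosedEmbedding.injective h)
  obtain ⟨h, h1, h2⟩ := exists_linear_sep (f P) (f Q) hclP hne'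
  obtain ⟨c, rfl⟩ := exists_linForm_eq h
  obtain ⟨j, hj⟩ := exists_chart_mem (f P)
  obtain ⟨l, hl⟩ := exists_chart_mem (f Q)
  exact ⟨c, (germ_sc_mem_iff f pZ hf j c P hj).mpr h1,
    fun hq => h2 ((germ_sc_mem_iff f pZ hf l c Q hl).mp hq)⟩

theorem sepT_of_isClosedImmersion (hf : f ≫ toSpec' n k = pZ) (P : Z)
    (hP : IsClosed ({P} : Set Z)) :
    (IsLocalRing.maximalIdeal (Z.presheaf.stalk P) •
          (⊤ : Submodule (Z.presheaf.stalk P) ((LL f).presheaf.stalk P))) ≤
        Submodule.span (Z.presheaf.stalk P)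
            {v | ∃ c : Fin (n + 1) → k,
              v = (LL f).presheaf.germ ⊤ P trivial (sc f pZ c) ∧
              v ∈ (IsLocalRing.maximalIdeal (Z.presheaf.stalk P) •
                (⊤ : Submodule (Z.presheaf.stalk P) ((LL f).presheaf.stalk P)))} ⊔
          (IsLocalRing.maximalIdeal (Z.presheaf.stalk P) ^ 2 •
            (⊤ : Submodule (Z.presheaf.stalk P) ((LL f).presheaf.stalk P))) := by
  have hclP := isClosed_image_pt f P hP
  obtain ⟨j, hj⟩ := exists_chart_mem (f P)
  rw [tangent_sc_iff f pZ hf j P hj hclP]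
  refine le_trans ?_ le_sup_left
  intro a ha
  obtain ⟨b, rfl⟩ := f.stalkMap_surjective P a
  apply Ideal.mem_map_of_mem
  rw [IsLocalRing.mem_maximalIdeal, mem_nonunits_iff] at ha ⊢
  intro hu
  exact ha (hu.map _)

end forward

section points

theorem exists_primeIdealOf_eq {W : Scheme.{u}} {U : W.Opens} (hU : IsAffineOpen U)
    (q : PrimeSpectrum Γ(W, U)) : ∃ x : U, hU.primeIdealOf x = q := by
  refine ⟨hU.isoSpec.inv q, ?_⟩
  unfold IsAffineOpen.primeIdealOf
  rw [← Scheme.Hom.comp_apply, Iso.inv_hom_id]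
  rfl

theorem isClosed_of_isMaximal_primeIdealOf {W : Scheme.{u}} [JacobsonSpace W] {U : W.Opens}
    (hU : IsAffineOpen U) (x : W) (hx : x ∈ U)
    (hmax : (hU.primeIdealOf ⟨x, hx⟩).asIdeal.IsMaximal) : IsClosed ({x} : Set W) := by
  apply isClosed_singleton_of_isLocallyClosed_singleton
  have h1 : IsClosed ({hU.primeIdealOf ⟨x, hx⟩} : Set (Spec Γ(W, U))) :=
    (PrimeSpectrum.isClosed_singleton_iff_isMaximal _).mpr hmax
  have h2 : ({x} : Set W) =
      hU.fromSpec '' ({hU.primeIdealOf ⟨x, hx⟩} : Set (Spec Γ(W, U))) := by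
    ext z
    constructor
    · intro hz
      have hz' : z = x := hz
      subst hz'
      exact ⟨_, rfl, hU.fromSpec_primeIdealOf ⟨z, hx⟩⟩
    · rintro ⟨q, hq, rfl⟩
      have hq' : q = hU.primeIdealOf ⟨x, hx⟩ := hq
      subst hq'
      exact hU.fromSpec_primeIdealOf ⟨x, hx⟩
  rw [h2]
  exact h1.isLocallyClosed.image hU.fromSpec.isOpenEmbedding.isInducing
    hU.fromSpec.isOpenEmbedding.isOpen_range.isLocallyClosed

theorem primeIdealOf_injective {W : Scheme.{u}} {U : W.Opens} (hU : IsAffineOpen U)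
    (x y : W) (hx : x ∈ U) (hy : y ∈ U)
    (h : (hU.primeIdealOf ⟨x, hx⟩).asIdeal = (hU.primeIdealOf ⟨y, hy⟩).asIdeal) : x = y := by
  have h1 : hU.primeIdealOf ⟨x, hx⟩ = hU.primeIdealOf ⟨y, hy⟩ := PrimeSpectrum.ext h
  have h2 := congrArg (fun q => hU.fromSpec q) h1
  simp only [IsAffineOpen.fromSpec_primeIdealOf] at h2
  exact h2

/-- In a Jacobson space, a closed set meeting the closed points in at most one point has at most
one point, which is closed. -/
theorem fibre_subsingleton {T : Type*} [TopologicalSpace T] [JacobsonSpace T] (F : Set T)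
    (hF : IsClosed F) (hsub : ∀ P ∈ F, ∀ Q ∈ F, IsClosed ({P} : Set T) → IsClosed ({Q} : Set T) →
      P = Q) (P : T) (hP : P ∈ F) :
    IsClosed ({P} : Set T) ∧ ∀ Q ∈ F, Q = P := by
  have h1 : closure (F ∩ closedPoints T) = F := closure_inter_closedPoints hF
  have hne : (F ∩ closedPoints T).Nonempty := by
    by_contra hcon
    rw [Set.not_nonempty_iff_eq_empty] at hcon
    rw [hcon, closure_empty] at h1
    rw [← h1] at hP
    exact hP
  obtain ⟨P₀, hP₀F, hP₀cl⟩ := hne
  have hP₀cl' : IsClosed ({P₀} : Set T) := hP₀cl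
  have hsubset : F ∩ closedPoints T ⊆ {P₀} := by
    rintro Q ⟨hQF, hQcl⟩
    exact hsub Q hQF P₀ hP₀F hQcl hP₀cl'
  have hF' : F ⊆ {P₀} := by
    rw [← h1]
    exact closure_minimal hsubset hP₀cl'
  have hPP₀ : P = P₀ := hF' hP
  subst hPP₀
  exact ⟨hP₀cl', fun Q hQ => hF' hQ⟩

end points

section backward

theorem jacobson_Pn : JacobsonSpace (Proj (CohB1.polyGrading n k)) := by
  have h : JacobsonSpace (CohB1.ProjSpace n k) :=
    LocallyOfFiniteType.jacobsonSpace (CohB1.ProjSpace.toSpec n k)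
  exact h

theorem isProper_of_comp' [IsProper pZ] (hf : f ≫ toSpec' n k = pZ) : IsProper f := by
  subst hf
  haveI : IsProper (toSpec' n k) := Groth.Agent.Lib.Helper3.QProj.isProper_toSpec k n
  exact IsProper.of_comp f (toSpec' n k)

theorem fibre_of_inj [JacobsonSpace Z]
    (hI : ∀ P Q : Z, IsClosed ({P} : Set Z) → IsClosed ({Q} : Set Z) → f P = f Q → P = Q)
    (y : Proj (CohB1.polyGrading n k))
    (hy : IsClosed ({y} : Set (Proj (CohB1.polyGrading n k)))) (P : Z) (hP : f P = y) :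
    IsClosed ({P} : Set Z) ∧ ∀ Q : Z, f Q = y → Q = P := by
  have key := fibre_subsingleton (f ⁻¹' {y}) (hy.preimage f.continuous)
    (fun P₁ h₁ P₂ h₂ c₁ c₂ => hI P₁ P₂ c₁ c₂ (Eq.trans h₁ (Eq.symm h₂))) P hP
  exact ⟨key.1, fun Q hQ => key.2 Q hQ⟩

theorem isFinite_of_inj [IsProper f] [JacobsonSpace Z]
    [JacobsonSpace (Proj (CohB1.polyGrading n k))]
    (hI : ∀ P Q : Z, IsClosed ({P} : Set Z) → IsClosed ({Q} : Set Z) → f P = f Q → P = Q) :
    IsFinite f := by
  have H : ∀ y : Proj (CohB1.polyGrading n k),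
      IsClosed ({y} : Set (Proj (CohB1.polyGrading n k))) →
      ∃ V : (Proj (CohB1.polyGrading n k)).Opens, y ∈ V ∧ IsFinite (f ∣_ V) := by
    intro y hy
    apply exists_isFinite_morphismRestrict_of_finite_preimage_singleton
    apply Set.Subsingleton.finite
    intro P hP Q hQ
    exact ((fibre_of_inj f hI y hy Q hQ).2 P hP)
  choose! V hyV hfin using H
  refine IsZariskiLocalAtTarget.of_iSup_eq_top (P := @IsFinite)
    (fun y : closedPoints (Proj (CohB1.polyGrading n k)) => V y.1) ?_ (fun y => hfin y.1 y.2)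
  by_contra hne
  have hC : IsClosed (((⨆ y : closedPoints (Proj (CohB1.polyGrading n k)), V y.1 :
      (Proj (CohB1.polyGrading n k)).Opens) : Set (Proj (CohB1.polyGrading n k)))ᶜ) :=
    (⨆ y : closedPoints (Proj (CohB1.polyGrading n k)), V y.1).isOpen.isClosed_compl
  have h1 := closure_inter_closedPoints hC
  have hne' : ((((⨆ y : closedPoints (Proj (CohB1.polyGrading n k)), V y.1 :
      (Proj (CohB1.polyGrading n k)).Opens) : Set (Proj (CohB1.polyGrading n k)))ᶜ) ∩
      closedPoints (Proj (CohB1.polyGrading n k))).Nonempty := by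
    by_contra hcon
    rw [Set.not_nonempty_iff_eq_empty] at hcon
    rw [hcon, closure_empty] at h1
    apply hne
    rw [eq_top_iff]
    intro x _
    by_contra hx
    have : x ∈ (∅ : Set (Proj (CohB1.polyGrading n k))) := by
      rw [h1]
      exact hx
    exact this
  obtain ⟨y, hyW, hycl⟩ := hne'
  apply hyW
  exact Opens.mem_iSup.mpr ⟨⟨y, hycl⟩, hyV y hycl⟩

end backward

section surj

theorem app_comp_secMap (j : Fin (n + 1)) (c : k) :
    (f.app (VV n k j)).hom
        (@secMap k _ (Proj (CohB1.polyGrading n k)) (overP n k) (VV n k j) c) =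
      @secMap k _ Z (overK f) (UU f j) c := by
  rw [secMap_VV]
  exact Phi_psi f j c

theorem app_surjective_of_sep [IsAlgClosed k] [IsProper (f ≫ toSpec' n k)] [IsFinite f]
    (hI : ∀ P Q : Z, IsClosed ({P} : Set Z) → IsClosed ({Q} : Set Z) → f P = f Q → P = Q)
    (hII : ∀ P : Z, IsClosed ({P} : Set Z) →
      IsLocalRing.maximalIdeal (Z.presheaf.stalk P) ≤
        Ideal.map (f.stalkMap P).hom
            (IsLocalRing.maximalIdeal ((Proj (CohB1.polyGrading n k)).presheaf.stalk (f P))) ⊔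
          IsLocalRing.maximalIdeal (Z.presheaf.stalk P) ^ 2)
    (j : Fin (n + 1)) : Function.Surjective (f.app (VV n k j)).hom := by
  letI := overK f
  haveI hJP := jacobson_Pn (n := n) (k := k)
  haveI : LocallyOfFiniteType (f ≫ toSpec' n k) := inferInstance
  haveI hJZ : JacobsonSpace Z := LocallyOfFiniteType.jacobsonSpace (f ≫ toSpec' n k)
  haveI : IsLocallyNoetherian Z := LocallyOfFiniteType.isLocallyNoetherian (f ≫ toSpec' n k)
  have hV := isAffineOpen_VV (n := n) (k := k) j
  have hU : IsAffineOpen (UU f j) := hV.preimage f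
  haveI : LocallyOfFiniteType (Z ↘ Spec (CommRingCat.of k)) :=
    (inferInstance : LocallyOfFiniteType (f ≫ toSpec' n k))
  letI := secAlgebra k Z (UU f j)
  haveI := finiteType_sec k Z (UU f j) hU
  haveI : IsNoetherianRing Γ(Z, UU f j) := Algebra.FiniteType.isNoetherianRing k _
  have hφfin : (f.app (VV n k j)).hom.Finite := IsFinite.finite_app f _ hV
  apply surjective_of_forall_maximal _ hφfin
  intro m hm b
  by_cases htop : Ideal.map (f.app (VV n k j)).hom m = ⊤
  · exact ⟨0, by rw [htop]; trivial⟩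
  obtain ⟨⟨y, hyV⟩, hpy⟩ := exists_primeIdealOf_eq hV ⟨m, hm.isPrime⟩
  have hpy' : (hV.primeIdealOf ⟨y, hyV⟩).asIdeal = m := congrArg PrimeSpectrum.asIdeal hpy
  subst hpy'
  have hycl : IsClosed ({y} : Set (Proj (CohB1.polyGrading n k))) :=
    isClosed_of_isMaximal_primeIdealOf hV y hyV hm
  have hpt : ∀ n' : Ideal Γ(Z, UU f j), n'.IsMaximal →
      Ideal.map (f.app (VV n k j)).hom (hV.primeIdealOf ⟨y, hyV⟩).asIdeal ≤ n' →
      ∃ (P : Z) (hPU : P ∈ UU f j), f P = y ∧ (hU.primeIdealOf ⟨P, hPU⟩).asIdeal = n' := by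
    intro n' hn'max hle
    obtain ⟨⟨P, hPU⟩, hpP⟩ := exists_primeIdealOf_eq hU ⟨n', hn'max.isPrime⟩
    have hpP' : (hU.primeIdealOf ⟨P, hPU⟩).asIdeal = n' := congrArg PrimeSpectrum.asIdeal hpP
    refine ⟨P, hPU, ?_, hpP'⟩
    have hcomap : (hU.primeIdealOf ⟨P, hPU⟩).comap (f.app (VV n k j)).hom =
        hV.primeIdealOf ⟨f P, hPU⟩ := by
      have := IsAffineOpen.comap_primeIdealOf_appLE (f := f) (x := P) (VV n k j) hV
        (f ⁻¹ᵁ VV n k j) hU le_rfl hPU
      rwa [← Scheme.Hom.app_eq_appLE] at this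
    have h1 : (hV.primeIdealOf ⟨f P, hPU⟩).asIdeal = (hV.primeIdealOf ⟨y, hyV⟩).asIdeal := by
      rw [← hcomap]
      symm
      apply hm.eq_of_le
      · exact Ideal.comap_ne_top _ (hU.primeIdealOf ⟨P, hPU⟩).isPrime.ne_top
      · change _ ≤ Ideal.comap (f.app (VV n k j)).hom (hU.primeIdealOf ⟨P, hPU⟩).asIdeal
        rw [hpP']
        exact Ideal.le_comap_of_map_le hle
    exact primeIdealOf_injective hV (f P) y hPU hyV h1
  obtain ⟨n', hn'max, hle⟩ := Ideal.exists_le_maximal _ htop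
  obtain ⟨P, hPU, hfP, hpP⟩ := hpt n' hn'max hle
  subst hpP
  subst hfP
  obtain ⟨hPcl, hPuniq⟩ := fibre_of_inj f hI (f P) hycl P rfl
  have hNak := maximalIdeal_le_of_le_sup_sq _ (hII P hPcl)
  letI : Algebra Γ(Z, UU f j) (Z.presheaf.stalk P) :=
    TopCat.Presheaf.algebra_section_stalk Z.presheaf ⟨P, hPU⟩
  haveI hloc : IsLocalization.AtPrime (Z.presheaf.stalk P)
      (hU.primeIdealOf ⟨P, hPU⟩).asIdeal := hU.isLocalization_stalk ⟨P, hPU⟩
  haveI := hn'max
  have heq : (hU.primeIdealOf ⟨P, hPU⟩).asIdeal =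
      Ideal.map (f.app (VV n k j)).hom (hV.primeIdealOf ⟨f P, hyV⟩).asIdeal := by
    refine eq_of_map_localization_le (hn := hn'max) _ _ (IsNoetherian.noetherian _) hle ?_
      (S := Z.presheaf.stalk P) ?_
    · intro n'' hn''max hle''
      obtain ⟨P'', hP''U, hfP'', hpP''⟩ := hpt n'' hn''max hle''
      have hPP : P'' = P := hPuniq P'' hfP''
      subst hPP
      exact hpP''.symm
    · change Ideal.map (Z.presheaf.germ (UU f j) P hPU).hom _ ≤
        Ideal.map (Z.presheaf.germ (UU f j) P hPU).hom _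
      rw [← maximalIdeal_eq_map_primeIdealOf hU P hPU]
      refine hNak.trans ?_
      have e3 : (f.stalkMap P).hom.comp
          ((Proj (CohB1.polyGrading n k)).presheaf.germ (VV n k j) (f P) hyV).hom =
          (Z.presheaf.germ (UU f j) P hPU).hom.comp (f.app (VV n k j)).hom := by
        have := Scheme.Hom.germ_stalkMap f (VV n k j) P hyV
        exact congrArg CommRingCat.Hom.hom this
      rw [maximalIdeal_eq_map_primeIdealOf hV (f P) hyV, Ideal.map_map, e3]
      exact (Ideal.map_map _ _).ge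
  obtain ⟨c, hc⟩ := exists_sub_algebraMap_mem (k := k) (hn := hn'max)
    (hU.primeIdealOf ⟨P, hPU⟩).asIdeal b
  refine ⟨@secMap k _ (Proj (CohB1.polyGrading n k)) (overP n k) (VV n k j) c, ?_⟩
  rw [app_comp_secMap f j c, ← heq]
  exact hc

end surj

section assemble

theorem isClosedImmersion_of_cover {S T : Scheme.{u}} (i : S ⟶ T) {κ : Type*} (W : κ → T.Opens)
    (hW : ∀ j, IsAffineOpen (W j)) (hU : ∀ j, IsAffineOpen (i ⁻¹ᵁ W j))
    (hsurj : ∀ j, Function.Surjective (i.app (W j)).hom) (hcov : iSup W = ⊤) :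
    IsClosedImmersion i := by
  refine IsZariskiLocalAtTarget.of_iSup_eq_top (P := @IsClosedImmersion) W hcov (fun j => ?_)
  haveI : IsAffine (W j) := hW j
  haveI : IsAffine (i ⁻¹ᵁ W j) := hU j
  apply IsClosedImmersion.of_surjective_of_isAffine
  rw [morphismRestrict_appTop]
  have h0 : Function.Surjective (i.appLE (W j) (i ⁻¹ᵁ W j) le_rfl).hom := by
    rw [← Scheme.Hom.app_eq_appLE]
    exact hsurj j
  have h1 : Function.Surjective (i.app ((W j).ι ''ᵁ ⊤)).hom := by
    rw [Scheme.Hom.app_eq_appLE]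
    exact (Scheme.Hom.appLE_congr i le_rfl (by simp) (by simp)
      (fun φ => Function.Surjective φ.hom)).mp h0
  exact (ConcreteCategory.bijective_of_isIso
    (S.presheaf.map (eqToHom (image_morphismRestrict_preimage i (W j) ⊤)).op)).2.comp h1

theorem isClosedImmersion_of_sep [IsAlgClosed k] [IsProper pZ] (hf : f ≫ toSpec' n k = pZ)
    (hI : ∀ P Q : Z, IsClosed ({P} : Set Z) → IsClosed ({Q} : Set Z) → f P = f Q → P = Q)
    (hII : ∀ P : Z, IsClosed ({P} : Set Z) →
      IsLocalRing.maximalIdeal (Z.presheaf.stalk P) ≤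
        Ideal.map (f.stalkMap P).hom
            (IsLocalRing.maximalIdeal ((Proj (CohB1.polyGrading n k)).presheaf.stalk (f P))) ⊔
          IsLocalRing.maximalIdeal (Z.presheaf.stalk P) ^ 2) :
    IsClosedImmersion f := by
  subst hf
  haveI hJP := jacobson_Pn (n := n) (k := k)
  haveI : LocallyOfFiniteType (f ≫ toSpec' n k) := inferInstance
  haveI hJZ : JacobsonSpace Z := LocallyOfFiniteType.jacobsonSpace (f ≫ toSpec' n k)
  haveI : IsProper f := isProper_of_comp' f _ rfl
  haveI : IsFinite f := isFinite_of_inj f hI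
  refine isClosedImmersion_of_cover f (fun j => VV n k j) (fun j => isAffineOpen_VV j)
    (fun j => (isAffineOpen_VV j).preimage f) (fun j => app_surjective_of_sep f hI hII j) ?_
  exact Groth.Agent.Lib.Helper7.PnSections.iSup_V

end assemble

theorem isClosedImmersion_of_sepS [IsAlgClosed k] [IsProper pZ] (hf : f ≫ toSpec' n k = pZ)
    (hS : ∀ P Q : Z, IsClosed ({P} : Set Z) → IsClosed ({Q} : Set Z) → P ≠ Q →
      ∃ c : Fin (n + 1) → k,
        ((LL f).presheaf.germ ⊤ P trivial (sc f pZ c) ∈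
            (IsLocalRing.maximalIdeal (Z.presheaf.stalk P) •
              (⊤ : Submodule (Z.presheaf.stalk P) ((LL f).presheaf.stalk P))) ∧
          (LL f).presheaf.germ ⊤ Q trivial (sc f pZ c) ∉
            (IsLocalRing.maximalIdeal (Z.presheaf.stalk Q) •
              (⊤ : Submodule (Z.presheaf.stalk Q) ((LL f).presheaf.stalk Q)))) ∨
        ((LL f).presheaf.germ ⊤ Q trivial (sc f pZ c) ∈
            (IsLocalRing.maximalIdeal (Z.presheaf.stalk Q) •
              (⊤ : Submodule (Z.presheaf.stalk Q) ((LL f).presheaf.stalk Q))) ∧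
          (LL f).presheaf.germ ⊤ P trivial (sc f pZ c) ∉
            (IsLocalRing.maximalIdeal (Z.presheaf.stalk P) •
              (⊤ : Submodule (Z.presheaf.stalk P) ((LL f).presheaf.stalk P)))))
    (hT : ∀ P : Z, IsClosed ({P} : Set Z) →
      (IsLocalRing.maximalIdeal (Z.presheaf.stalk P) •
            (⊤ : Submodule (Z.presheaf.stalk P) ((LL f).presheaf.stalk P))) ≤
        Submodule.span (Z.presheaf.stalk P)
            {v | ∃ c : Fin (n + 1) → k,
              v = (LL f).presheaf.germ ⊤ P trivial (sc f pZ c) ∧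
              v ∈ (IsLocalRing.maximalIdeal (Z.presheaf.stalk P) •
                (⊤ : Submodule (Z.presheaf.stalk P) ((LL f).presheaf.stalk P)))} ⊔
          (IsLocalRing.maximalIdeal (Z.presheaf.stalk P) ^ 2 •
            (⊤ : Submodule (Z.presheaf.stalk P) ((LL f).presheaf.stalk P)))) :
    IsClosedImmersion f := by
  haveI : IsProper f := isProper_of_comp' f pZ hf
  apply isClosedImmersion_of_sep f pZ hf
  · intro P Q hP hQ hfPQ
    by_contra hne
    obtain ⟨c, hc⟩ := hS P Q hP hQ hne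
    obtain ⟨j, hj⟩ := exists_chart_mem (f P)
    obtain ⟨l, hl⟩ := exists_chart_mem (f Q)
    have e1 := germ_sc_mem_iff f pZ hf j c P hj
    have e2 := germ_sc_mem_iff f pZ hf l c Q hl
    have e3 : (linForm c : MvPolynomial (Fin (n + 1)) k) ∈ (f P).asHomogeneousIdeal ↔
        (linForm c : MvPolynomial (Fin (n + 1)) k) ∈ (f Q).asHomogeneousIdeal := by
      rw [hfPQ]
    rcases hc with ⟨h1, h2⟩ | ⟨h1, h2⟩
    · exact h2 (e2.mpr (e3.mp (e1.mp h1)))
    · exact h2 (e1.mpr (e3.mpr (e2.mp h1)))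
  · intro P hP
    have hclP : IsClosed ({f P} : Set (Proj (CohB1.polyGrading n k))) := by
      have := f.isClosedMap _ hP
      rwa [Set.image_singleton] at this
    obtain ⟨j, hj⟩ := exists_chart_mem (f P)
    exact (tangent_sc_iff f pZ hf j P hj hclP).mp (hT P hP)

/-- asymmetric separation of points -/
theorem main_asym [IsAlgClosed k] [IsProper pZ] (hf : f ≫ toSpec' n k = pZ) :
    IsClosedImmersion f ↔
      ((∀ P Q : Z, IsClosed ({P} : Set Z) → IsClosed ({Q} : Set Z) → P ≠ Q →
          ∃ c : Fin (n + 1) → k,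
            (LL f).presheaf.germ ⊤ P trivial (sc f pZ c) ∈
              (IsLocalRing.maximalIdeal (Z.presheaf.stalk P) •
                (⊤ : Submodule (Z.presheaf.stalk P) ((LL f).presheaf.stalk P))) ∧
            (LL f).presheaf.germ ⊤ Q trivial (sc f pZ c) ∉
              (IsLocalRing.maximalIdeal (Z.presheaf.stalk Q) •
                (⊤ : Submodule (Z.presheaf.stalk Q) ((LL f).presheaf.stalk Q)))) ∧
        ∀ P : Z, IsClosed ({P} : Set Z) →
          (IsLocalRing.maximalIdeal (Z.presheaf.stalk P) •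
                (⊤ : Submodule (Z.presheaf.stalk P) ((LL f).presheaf.stalk P))) ≤
            Submodule.span (Z.presheaf.stalk P)
                {v | ∃ c : Fin (n + 1) → k,
                  v = (LL f).presheaf.germ ⊤ P trivial (sc f pZ c) ∧
                  v ∈ (IsLocalRing.maximalIdeal (Z.presheaf.stalk P) •
                    (⊤ : Submodule (Z.presheaf.stalk P) ((LL f).presheaf.stalk P)))} ⊔
              (IsLocalRing.maximalIdeal (Z.presheaf.stalk P) ^ 2 •
                (⊤ : Submodule (Z.presheaf.stalk P) ((LL f).presheaf.stalk P)))) := by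
  constructor
  · intro hcl
    haveI := hcl
    exact ⟨fun P Q hP _ hne => sepA_of_isClosedImmersion f pZ hf P Q hP hne,
      fun P hP => sepT_of_isClosedImmersion f pZ hf P hP⟩
  · rintro ⟨hA, hT⟩
    refine isClosedImmersion_of_sepS f pZ hf (fun P Q hP hQ hne => ?_) hT
    obtain ⟨c, h1, h2⟩ := hA P Q hP hQ hne
    exact ⟨c, Or.inl ⟨h1, h2⟩⟩

/-- symmetric separation of points -/
theorem main_sym [IsAlgClosed k] [IsProper pZ] (hf : f ≫ toSpec' n k = pZ) :
    IsClosedImmersion f ↔
      ((∀ P Q : Z, IsClosed ({P} : Set Z) → IsClosed ({Q} : Set Z) → P ≠ Q →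
          ∃ c : Fin (n + 1) → k,
            ((LL f).presheaf.germ ⊤ P trivial (sc f pZ c) ∈
                (IsLocalRing.maximalIdeal (Z.presheaf.stalk P) •
                  (⊤ : Submodule (Z.presheaf.stalk P) ((LL f).presheaf.stalk P))) ∧
              (LL f).presheaf.germ ⊤ Q trivial (sc f pZ c) ∉
                (IsLocalRing.maximalIdeal (Z.presheaf.stalk Q) •
                  (⊤ : Submodule (Z.presheaf.stalk Q) ((LL f).presheaf.stalk Q)))) ∨
            ((LL f).presheaf.germ ⊤ Q trivial (sc f pZ c) ∈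
                (IsLocalRing.maximalIdeal (Z.presheaf.stalk Q) •
                  (⊤ : Submodule (Z.presheaf.stalk Q) ((LL f).presheaf.stalk Q))) ∧
              (LL f).presheaf.germ ⊤ P trivial (sc f pZ c) ∉
                (IsLocalRing.maximalIdeal (Z.presheaf.stalk P) •
                  (⊤ : Submodule (Z.presheaf.stalk P) ((LL f).presheaf.stalk P))))) ∧
        ∀ P : Z, IsClosed ({P} : Set Z) →
          (IsLocalRing.maximalIdeal (Z.presheaf.stalk P) •
                (⊤ : Submodule (Z.presheaf.stalk P) ((LL f).presheaf.stalk P))) ≤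
            Submodule.span (Z.presheaf.stalk P)
                {v | ∃ c : Fin (n + 1) → k,
                  v = (LL f).presheaf.germ ⊤ P trivial (sc f pZ c) ∧
                  v ∈ (IsLocalRing.maximalIdeal (Z.presheaf.stalk P) •
                    (⊤ : Submodule (Z.presheaf.stalk P) ((LL f).presheaf.stalk P)))} ⊔
              (IsLocalRing.maximalIdeal (Z.presheaf.stalk P) ^ 2 •
                (⊤ : Submodule (Z.presheaf.stalk P) ((LL f).presheaf.stalk P)))) := by
  constructor
  · intro hcl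
    haveI := hcl
    refine ⟨fun P Q hP _ hne => ?_, fun P hP => sepT_of_isClosedImmersion f pZ hf P hP⟩
    obtain ⟨c, h1, h2⟩ := sepA_of_isClosedImmersion f pZ hf P Q hP hne
    exact ⟨c, Or.inl ⟨h1, h2⟩⟩
  · rintro ⟨hS, hT⟩
    exact isClosedImmersion_of_sepS f pZ hf hS hT

end Groth.Agent.Lib.Helper22.ClImm
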