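import Mathlib

/-!
# Connected components of the source of an open and closed map with a finite fibre (helper22)

`exists_mem_connectedComponent`: `f : X → P` continuous, open and closed, `P` preconnected,
`f ⁻¹' {p}` finite.  Then every connected component of `X` meets `f ⁻¹' {p}` (the connected
components of `X` are clopen and surject onto `P`).
-/

set_option autoImplicit false

namespace Groth.Agent.Lib.Helper22.ClopenFib

variable {X P : Type*} [TopologicalSpace X] [TopologicalSpace P]

/-- a nonempty clopen subset surjects onto a preconnected target under an open and closed map -/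
theorem image_eq_univ [PreconnectedSpace P] {f : X → P} (ho : IsOpenMap f) (hc : IsClosedMap f)
    {V : Set X} (hV : IsClopen V) (hne : V.Nonempty) : f '' V = Set.univ := by
  have h1 : IsClopen (f '' V) := ⟨hc _ hV.1, ho _ hV.2⟩
  rcases isClopen_iff.mp h1 with h | h
  · exfalso
    obtain ⟨v, hv⟩ := hne
    have : f v ∈ f '' V := ⟨v, hv, rfl⟩
    rw [h] at this
    exact this
  · exact h

theorem exists_mem_connectedComponent [PreconnectedSpace P] {f : X → P}
    (ho : IsOpenMap f) (hc : IsClosedMap f) (p : P) (hfin : (f ⁻¹' {p}).Finite) (x : X) :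
    ∃ y ∈ connectedComponent x, f y = p := by
  classical
  -- clopen sets missing the fibre are empty
  have hmiss : ∀ V : Set X, IsClopen V → Disjoint V (f ⁻¹' {p}) → V = ∅ := by
    intro V hV hd
    by_contra hne
    have hne' : V.Nonempty := Set.nonempty_iff_ne_empty.mpr hne
    have h1 := image_eq_univ ho hc hV hne'
    have hp : p ∈ f '' V := by rw [h1]; trivial
    obtain ⟨v, hv, hvp⟩ := hp
    exact Set.disjoint_left.mp hd hv hvp
  -- for each point `z` of the fibre outside the quasi-component, a clopen separating it from `x`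
  let F := hfin.toFinset
  have hsep : ∀ z : X, ∃ U : Set X, IsClopen U ∧ x ∈ U ∧
      ((∃ V : Set X, IsClopen V ∧ x ∈ V ∧ z ∉ V) → z ∉ U) := by
    intro z
    by_cases h : ∃ V : Set X, IsClopen V ∧ x ∈ V ∧ z ∉ V
    · obtain ⟨V, hV, hxV, hzV⟩ := h
      exact ⟨V, hV, hxV, fun _ => hzV⟩
    · exact ⟨Set.univ, isClopen_univ, trivial, fun h' => (h h').elim⟩
  choose Uz hUz using hsep
  let U : Set X := ⋂ z ∈ F, Uz z
  have hUclopen : IsClopen U := by
    apply Set.Finite.isClopen_biInter F.finite_toSet
    intro z _
    exact (hUz z).1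
  have hxU : x ∈ U := by
    simp only [U, Set.mem_iInter]
    intro z _
    exact (hUz z).2.1
  -- `U` is contained in every clopen containing `x`
  have hmin : ∀ V : Set X, IsClopen V → x ∈ V → U ⊆ V := by
    intro V hV hxV
    have hcl : IsClopen (U \ V) := hUclopen.diff hV
    have hd : Disjoint (U \ V) (f ⁻¹' {p}) := by
      rw [Set.disjoint_left]
      rintro z ⟨hzU, hzV⟩ hzp
      have hzF : z ∈ F := hfin.mem_toFinset.mpr hzp
      have hzUz : z ∈ Uz z := by
        simp only [U, Set.mem_iInter] at hzU
        exact hzU z hzF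
      exact (hUz z).2.2 ⟨V, hV, hxV, hzV⟩ hzUz
    have := hmiss _ hcl hd
    intro u hu
    by_contra huV
    have : u ∈ U \ V := ⟨hu, huV⟩
    rw [hmiss _ hcl hd] at this
    exact this
  -- `U` is preconnected
  have hpre : IsPreconnected U := by
    intro u v hu hv hUuv hUu hUv
    by_contra hcon
    rw [Set.not_nonempty_iff_eq_empty] at hcon
    have hA : IsClopen (U ∩ u) := by
      refine ⟨?_, hUclopen.2.inter hu⟩
      have : U ∩ u = U \ v := by
        ext w
        constructor
        · rintro ⟨hwU, hwu⟩
          refine ⟨hwU, fun hwv => ?_⟩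
          have : w ∈ U ∩ (u ∩ v) := ⟨hwU, hwu, hwv⟩
          rw [hcon] at this
          exact this
        · rintro ⟨hwU, hwv⟩
          rcases hUuv hwU with h | h
          · exact ⟨hwU, h⟩
          · exact (hwv h).elim
      rw [this]
      exact hUclopen.1.sdiff hv
    have hB : IsClopen (U ∩ v) := by
      refine ⟨?_, hUclopen.2.inter hv⟩
      have : U ∩ v = U \ u := by
        ext w
        constructor
        · rintro ⟨hwU, hwv⟩
          refine ⟨hwU, fun hwu => ?_⟩
          have : w ∈ U ∩ (u ∩ v) := ⟨hwU, hwu, hwv⟩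
          rw [hcon] at this
          exact this
        · rintro ⟨hwU, hwu⟩
          rcases hUuv hwU with h | h
          · exact (hwu h).elim
          · exact ⟨hwU, h⟩
      rw [this]
      exact hUclopen.1.sdiff hu
    rcases hUuv hxU with hxu | hxv
    · have hsub := hmin _ hA ⟨hxU, hxu⟩
      obtain ⟨w, hwU, hwv⟩ := hUv
      have : w ∈ U ∩ (u ∩ v) := ⟨hwU, (hsub hwU).2, hwv⟩
      rw [hcon] at this
      exact this
    · have hsub := hmin _ hB ⟨hxU, hxv⟩
      obtain ⟨w, hwU, hwu⟩ := hUu
      have : w ∈ U ∩ (u ∩ v) := ⟨hwU, hwu, (hsub hwU).2⟩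
      rw [hcon] at this
      exact this
  have hUsub : U ⊆ connectedComponent x := hpre.subset_connectedComponent hxU
  have himg := image_eq_univ ho hc hUclopen ⟨x, hxU⟩
  have hp : p ∈ f '' U := by rw [himg]; trivial
  obtain ⟨y, hyU, hyp⟩ := hp
  exact ⟨y, hUsub hyU, hyp⟩

end Groth.Agent.Lib.Helper22.ClopenFib
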