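import Mathlib

set_option autoImplicit false
set_option linter.style.haveILetI false
set_option linter.unusedSectionVars false

/-!
# Every point of a locally Noetherian scheme specializes to a closed point (Stacks 02IL)
-/

universe u

namespace Groth.Agent.Lib.Helper22.ClosedSpec

open AlgebraicGeometry CategoryTheory TopologicalSpace

section Algebra

variable {R : Type u} [CommRing R]

/-- In a Noetherian domain, if a nonzero element lies in every nonzero prime, then there is no
chain `0 < Q₁ < Q₂` of primes. -/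
theorem false_of_forall_mem [IsDomain R] [IsNoetherianRing R] (f : R) (hf : f ≠ 0)
    (H : ∀ Q : Ideal R, Q.IsPrime → Q ≠ ⊥ → f ∈ Q) (Q₁ Q₂ : Ideal R) [Q₁.IsPrime] [Q₂.IsPrime]
    (h1 : Q₁ ≠ ⊥) (h12 : Q₁ < Q₂) : False := by
  classical
  have hfin := Ideal.finite_minimalPrimes_of_isNoetherianRing R (Ideal.span {f})
  set M : Finset (Ideal R) := hfin.toFinset with hMdef
  have hM : ∀ P, P ∈ M ↔ P ∈ (Ideal.span {f}).minimalPrimes := by intro P; simp [hMdef]
  have hQ₂bot : Q₂ ≠ ⊥ := fun h => h1 (le_bot_iff.mp (h ▸ h12.le))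
  have hfQ₂ : f ∈ Q₂ := H Q₂ inferInstance hQ₂bot
  have hbot : (⊥ : Ideal R) < Q₁ := bot_lt_iff_ne_bot.mpr h1
  haveI : (⊥ : Ideal R).IsPrime := Ideal.isPrime_bot
  have hht1 : (1 : ℕ∞) ≤ Q₁.height := by
    have := Ideal.height_add_one_le_of_lt_of_isPrime hbot
    exact le_trans (by simp) this
  have hht2 : (2 : ℕ∞) ≤ Q₂.height := by
    have := Ideal.height_add_one_le_of_lt_of_isPrime h12
    calc (2 : ℕ∞) = 1 + 1 := by norm_num
      _ ≤ Q₁.height + 1 := by gcongr
      _ ≤ Q₂.height := this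
  have hnot : ¬ ((Q₂ : Set R) ⊆ ⋃ P ∈ (↑M : Set (Ideal R)), (P : Set R)) := by
    rw [Ideal.subset_union_prime (f := fun P : Ideal R => P) ⊥ ⊥]
    · push Not
      intro P hP hle
      have hPmin := (hM P).mp hP
      haveI : P.IsPrime := hPmin.1.1
      have h1' : P.height ≤ 1 :=
        Ideal.height_le_one_of_isPrincipal_of_mem_minimalPrimes _ P hPmin
      have h2' : Q₂.height ≤ P.height := Ideal.height_mono hle
      have : (2 : ℕ∞) ≤ 1 := hht2.trans (h2'.trans h1')
      exact absurd this (by norm_num)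
    · intro P hP _ _
      exact ((hM P).mp hP).1.1
  obtain ⟨g, hgQ₂, hg⟩ := Set.not_subset.mp hnot
  have hg' : ∀ P ∈ (Ideal.span {f}).minimalPrimes, g ∉ P := by
    intro P hP hgP
    apply hg
    simp only [Set.mem_iUnion]
    exact ⟨P, (hM P).mpr hP, hgP⟩
  have hg0 : g ≠ 0 := by
    rintro rfl
    obtain ⟨P, hPmin, -⟩ := Ideal.exists_minimalPrimes_le
      (show Ideal.span {f} ≤ Q₂ from (Ideal.span_singleton_le_iff_mem _).mpr hfQ₂)
    exact hg' P hPmin (zero_mem _)
  obtain ⟨Q', hQ'min, hQ'le⟩ := Ideal.exists_minimalPrimes_le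
    (show Ideal.span {g} ≤ Q₂ from (Ideal.span_singleton_le_iff_mem _).mpr hgQ₂)
  haveI hQ'prime : Q'.IsPrime := hQ'min.1.1
  have hQ'ht : Q'.height ≤ 1 :=
    Ideal.height_le_one_of_isPrincipal_of_mem_minimalPrimes _ Q' hQ'min
  have hgQ' : g ∈ Q' := hQ'min.1.2 (Ideal.subset_span rfl)
  have hQ'bot : Q' ≠ ⊥ := fun h => hg0 (by simpa [h] using hgQ')
  have hfQ' : f ∈ Q' := H Q' hQ'prime hQ'bot
  obtain ⟨P, hPmin, hPle⟩ := Ideal.exists_minimalPrimes_le
    (show Ideal.span {f} ≤ Q' from (Ideal.span_singleton_le_iff_mem _).mpr hfQ')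
  haveI hPprime : P.IsPrime := hPmin.1.1
  have hfP : f ∈ P := hPmin.1.2 (Ideal.subset_span rfl)
  have hPbot : P ≠ ⊥ := fun h => hf (by simpa [h] using hfP)
  have hPQ' : P = Q' := by
    by_contra hne
    have hlt : P < Q' := lt_of_le_of_ne hPle hne
    have h1' := Ideal.height_add_one_le_of_lt_of_isPrime hlt
    have h0 : P.height = 0 := by
      have h2' : P.height + 1 ≤ 1 := h1'.trans hQ'ht
      have h3' : P.height + 1 ≤ 0 + 1 := by simpa using h2'
      have := (ENat.add_le_add_iff_right (by norm_num : (1 : ℕ∞) ≠ ⊤)).mp h3'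
      exact le_antisymm this bot_le
    rw [Ideal.height_eq_zero_iff, IsDomain.minimalPrimes_eq_singleton_bot] at h0
    exact hPbot h0
  exact hg' P hPmin (hPQ' ▸ hgQ')

/-- Version for a prime `P₀` in a Noetherian ring. -/
theorem false_of_forall_mem' [IsNoetherianRing R] (P₀ Q₁ Q₂ : Ideal R) [P₀.IsPrime] [Q₁.IsPrime]
    [Q₂.IsPrime] (f : R) (hf : f ∉ P₀)
    (H : ∀ Q : Ideal R, Q.IsPrime → P₀ < Q → f ∈ Q) (h01 : P₀ < Q₁) (h12 : Q₁ < Q₂) : False := by
  let π := Ideal.Quotient.mk P₀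
  have hπ : Function.Surjective π := Ideal.Quotient.mk_surjective
  have hker : RingHom.ker π = P₀ := Ideal.mk_ker
  have hcm : ∀ I : Ideal R, P₀ ≤ I → (I.map π).comap π = I := by
    intro I hI
    rw [Ideal.comap_map_of_surjective π hπ, ← RingHom.ker_eq_comap_bot, hker]
    exact sup_eq_left.mpr hI
  haveI : (Q₁.map π).IsPrime := Ideal.map_isPrime_of_surjective hπ (by rw [hker]; exact h01.le)
  haveI : (Q₂.map π).IsPrime :=
    Ideal.map_isPrime_of_surjective hπ (by rw [hker]; exact (h01.trans h12).le)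
  refine false_of_forall_mem (R := R ⧸ P₀) (π f) ?_ ?_ (Q₁.map π) (Q₂.map π) ?_ ?_
  · intro h; exact hf (Ideal.Quotient.eq_zero_iff_mem.mp h)
  · intro Q hQ hQbot
    haveI := hQ
    have hlt : P₀ < Q.comap π := by
      refine lt_of_le_of_ne ?_ ?_
      · intro x hx
        show π x ∈ Q
        have : π x = 0 := Ideal.Quotient.eq_zero_iff_mem.mpr hx
        rw [this]; exact zero_mem _
      · intro h
        apply hQbot
        have h1 := Ideal.map_comap_of_surjective π hπ Q
        rw [← h] at h1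
        rw [← h1]
        exact Ideal.map_quotient_self P₀
    exact H (Q.comap π) inferInstance hlt
  · intro h
    have := hcm Q₁ h01.le
    rw [h, ← RingHom.ker_eq_comap_bot, hker] at this
    exact h01.ne this
  · refine lt_of_le_of_ne (Ideal.map_mono h12.le) ?_
    intro h
    have h1 := hcm Q₁ h01.le
    have h2 := hcm Q₂ (h01.trans h12).le
    rw [h, h2] at h1
    exact h12.ne h1.symm

end Algebra

section Scheme

variable {X : Scheme.{u}}

/-- points of an affine open come from primes -/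
lemma exists_fromSpec_eq {U : X.Opens} (hU : IsAffineOpen U) {y : X} (hy : y ∈ U) :
    ∃ q : PrimeSpectrum Γ(X, U), hU.fromSpec q = y :=
  ⟨hU.primeIdealOf ⟨y, hy⟩, hU.fromSpec_primeIdealOf ⟨y, hy⟩⟩

lemma fromSpec_specializes_iff {U : X.Opens} (hU : IsAffineOpen U) (p q : PrimeSpectrum Γ(X, U)) :
    hU.fromSpec p ⤳ hU.fromSpec q ↔ p.asIdeal ≤ q.asIdeal := by
  rw [hU.fromSpec.isOpenEmbedding.toIsInducing.specializes_iff]
  exact (PrimeSpectrum.le_iff_specializes p q).symm

lemma fromSpec_injective {U : X.Opens} (hU : IsAffineOpen U) :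
    Function.Injective hU.fromSpec :=
  hU.fromSpec.isOpenEmbedding.injective

theorem exists_specializes_isClosed [IsLocallyNoetherian X] (x : X) :
    ∃ x' : X, x ⤳ x' ∧ IsClosed ({x'} : Set X) := by
  obtain ⟨_, ⟨U, hU, rfl⟩, hxU, -⟩ :=
    X.isBasis_affineOpens.exists_subset_of_mem_open (Set.mem_univ x) isOpen_univ
  have hU' : IsAffineOpen U := hU
  obtain ⟨p, hp⟩ := exists_fromSpec_eq hU' hxU
  obtain ⟨m, hm, hpm⟩ := Ideal.exists_le_maximal p.asIdeal p.2.ne_top
  haveI := hm.isPrime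
  set u : X := hU'.fromSpec ⟨m, hm.isPrime⟩ with hu
  have huU : u ∈ U := by
    have : u ∈ Set.range hU'.fromSpec := ⟨_, rfl⟩
    rw [hU'.range_fromSpec] at this
    exact this
  have hxu : x ⤳ u := by
    rw [← hp, hu, fromSpec_specializes_iff]
    exact hpm
  -- `u` is closed in `U`
  have step1 : ∀ y ∈ U, u ⤳ y → y = u := by
    intro y hy hsp
    obtain ⟨q, rfl⟩ := exists_fromSpec_eq hU' hy
    rw [hu, fromSpec_specializes_iff] at hsp
    have : m = q.asIdeal := hm.eq_of_le q.2.ne_top hsp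
    rw [hu]
    congr 1
    exact PrimeSpectrum.ext this.symm
  by_cases hcl : IsClosed ({u} : Set X)
  · exact ⟨u, hxu, hcl⟩
  · obtain ⟨y, hy, hyu⟩ : ∃ y, u ⤳ y ∧ y ≠ u := by
      by_contra hcon
      push Not at hcon
      apply hcl
      rw [← closure_subset_iff_isClosed]
      intro y hy
      exact hcon y (specializes_iff_mem_closure.mpr hy)
    have hyU : y ∉ U := fun h => hyu (step1 y h hy)
    refine ⟨y, hxu.trans hy, ?_⟩
    rw [← closure_subset_iff_isClosed]
    intro y' hy'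
    have hyy' : y ⤳ y' := specializes_iff_mem_closure.mpr hy'
    by_contra hne
    have hne' : y' ≠ y := hne
    -- affine open around y'
    obtain ⟨_, ⟨W, hW, rfl⟩, hy'W, -⟩ :=
      X.isBasis_affineOpens.exists_subset_of_mem_open (Set.mem_univ y') isOpen_univ
    have hW' : IsAffineOpen W := hW
    have hyW : y ∈ W := hyy'.mem_open W.isOpen hy'W
    have huW : u ∈ W := hy.mem_open W.isOpen hyW
    haveI : IsNoetherianRing Γ(X, W) := IsLocallyNoetherian.component_noetherian ⟨W, hW⟩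
    obtain ⟨Pu, hPu⟩ := exists_fromSpec_eq hW' huW
    obtain ⟨Py, hPy⟩ := exists_fromSpec_eq hW' hyW
    obtain ⟨Py', hPy'⟩ := exists_fromSpec_eq hW' hy'W
    have h01 : Pu.asIdeal < Py.asIdeal := by
      refine lt_of_le_of_ne ?_ ?_
      · rw [← fromSpec_specializes_iff hW', hPu, hPy]; exact hy
      · intro h
        apply hyu
        rw [← hPu, ← hPy]
        congr 1
        exact PrimeSpectrum.ext h.symm
    have h12 : Py.asIdeal < Py'.asIdeal := by
      refine lt_of_le_of_ne ?_ ?_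
      · rw [← fromSpec_specializes_iff hW', hPy, hPy']; exact hyy'
      · intro h
        apply hne'
        rw [← hPy, ← hPy']
        congr 1
        exact PrimeSpectrum.ext h.symm
    -- the element f
    let O : (Spec Γ(X, W)).Opens := hW'.fromSpec ⁻¹ᵁ U
    have hPuO : Pu ∈ O := by
      show hW'.fromSpec Pu ∈ U
      rw [hPu]; exact huU
    obtain ⟨_, ⟨f, rfl⟩, hfP, hsub⟩ :=
      PrimeSpectrum.isTopologicalBasis_basic_opens.exists_subset_of_mem_open hPuO O.isOpen
    have hfPu : f ∉ Pu.asIdeal := hfP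
    have H : ∀ Q : Ideal Γ(X, W), Q.IsPrime → Pu.asIdeal < Q → f ∈ Q := by
      intro Q hQ hlt
      by_contra hfQ
      have hQO : (⟨Q, hQ⟩ : PrimeSpectrum Γ(X, W)) ∈ O := hsub hfQ
      have hQU : hW'.fromSpec ⟨Q, hQ⟩ ∈ U := hQO
      have hsp : u ⤳ hW'.fromSpec ⟨Q, hQ⟩ := by
        rw [← hPu, fromSpec_specializes_iff]
        exact hlt.le
      have := step1 _ hQU hsp
      rw [← hPu] at this
      have := fromSpec_injective hW' this
      apply hlt.ne
      rw [← this]
    exact false_of_forall_mem' Pu.asIdeal Py.asIdeal Py'.asIdeal f hfPu H h01 h12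

end Scheme

end Groth.Agent.Lib.Helper22.ClosedSpec
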