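import Mathlib
import Groth.Prelude
import Groth.Agent.S13110
import Groth.Agent.Lib.Helper8.DvrExtComplete

/-!
(G1 for helper9's S13109) A pointwise function varying algebraically along complete discrete
valuation rings varies algebraically along all discrete valuation rings.
-/

set_option autoImplicit false
universe u
open CategoryTheory CategoryTheory.Limits AlgebraicGeometry TopologicalSpace W4c1hilbchowinc

namespace Groth.Agent.Lib.Helper22.CompleteDVRUp

/-- (G12) a pointwise function whose pullback along a surjective morphism is the function of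
`π^* t` is the function of `t`. -/
theorem ofSection_eq_of_pullback_eq {X Y : Scheme.{u}} (π : Y ⟶ X) [Surjective π] (t : Γ(X, ⊤))
    (f : PtFun X) (h : PtFun.ofSection Y (π.appTop t) = f.pullback π) :
    PtFun.ofSection X t = f := by
  funext x
  obtain ⟨y, rfl⟩ := π.surjective x
  have h1 := congrFun h y
  rw [← Groth.Agent.S13110.pullback_ofSection] at h1
  exact (π.residueFieldMap y).hom.injective h1

/-- pure algebra: divisibility descends along a faithfully flat map into a domain. -/
theorem mem_range_of_mul_eq {R R' : Type u} [CommRing R] [CommRing R'] [IsDomain R'] [Algebra R R']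
    [Module.FaithfullyFlat R R'] (a b : R) (hb : algebraMap R R' b ≠ 0) (r' : R')
    (h : r' * algebraMap R R' b = algebraMap R R' a) : r' ∈ Set.range (algebraMap R R') := by
  have h1 : a ∈ Ideal.comap (algebraMap R R') (Ideal.map (algebraMap R R') (Ideal.span {b})) := by
    rw [Ideal.mem_comap, ← h]
    exact Ideal.mul_mem_left _ _ (Ideal.mem_map_of_mem _ (Ideal.subset_span rfl))
  rw [Ideal.comap_map_eq_self_of_faithfullyFlat] at h1
  obtain ⟨r, rfl⟩ := Ideal.mem_span_singleton'.1 h1
  refine ⟨r, ?_⟩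
  rw [map_mul] at h
  exact (mul_right_cancel₀ hb h).symm

theorem algebraMap_injective_of_faithfullyFlat {R R' : Type u} [CommRing R] [CommRing R']
    [Algebra R R'] [Module.FaithfullyFlat R R'] : Function.Injective (algebraMap R R') := by
  rw [injective_iff_map_eq_zero]
  intro a ha
  have h1 : a ∈ Ideal.comap (algebraMap R R') (Ideal.map (algebraMap R R') (⊥ : Ideal R)) := by
    rw [Ideal.mem_comap, ha]; exact Ideal.zero_mem _
  rw [Ideal.comap_map_eq_self_of_faithfullyFlat] at h1
  exact h1

section Ev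

variable (S : CommRingCat.{u}) (p : Spec S)

/-- evaluation `S → κ(p)` at a point of `Spec S`. -/
noncomputable def E : S →+* (Spec S).residueField p :=
  ((Scheme.ΓSpecIso S).inv ≫ (Spec S).Γevaluation p).hom

lemma E_eq (s : S) : E S p s =
    (Scheme.Spec.residueFieldIso S p).inv (algebraMap S p.asIdeal.ResidueField s) := by
  have := ConcreteCategory.congr_hom (Scheme.Spec.algebraMap_residueFieldIso_inv S p) s
  exact this.symm

lemma Γevaluation_eq_E (w : Γ(Spec S, ⊤)) :
    (Spec S).Γevaluation p w = E S p ((Scheme.ΓSpecIso S).hom w) := by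
  show _ = (Spec S).Γevaluation p ((Scheme.ΓSpecIso S).inv ((Scheme.ΓSpecIso S).hom w))
  rw [Groth.Agent.S13110.iso_hom_inv_apply]

lemma E_eq_zero_iff (s : S) : E S p s = 0 ↔ s ∈ p.asIdeal := by
  rw [E_eq]
  have hinj : Function.Injective (Scheme.Spec.residueFieldIso S p).inv.hom :=
    RingHom.injective _
  constructor
  · intro h
    have h0 : algebraMap S p.asIdeal.ResidueField s = 0 := by
      apply hinj
      rw [map_zero]; exact h
    exact Ideal.algebraMap_residueField_eq_zero.mp h0
  · intro h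
    have h0 : algebraMap S p.asIdeal.ResidueField s = 0 :=
      Ideal.algebraMap_residueField_eq_zero.mpr h
    rw [h0, map_zero]

lemma exists_E_mul_eq (z : (Spec S).residueField p) :
    ∃ a b : S, b ∉ p.asIdeal ∧ z * E S p b = E S p a := by
  let z' : p.asIdeal.ResidueField := (Scheme.Spec.residueFieldIso S p).hom z
  obtain ⟨x, y, hy, hxy⟩ := IsFractionRing.div_surjective (A := S ⧸ p.asIdeal) z'
  obtain ⟨a, rfl⟩ := Ideal.Quotient.mk_surjective x
  obtain ⟨b, rfl⟩ := Ideal.Quotient.mk_surjective y
  have hb : b ∉ p.asIdeal := by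
    intro hb
    have : (Ideal.Quotient.mk p.asIdeal b) = 0 := Ideal.Quotient.eq_zero_iff_mem.mpr hb
    rw [this] at hy
    exact zero_notMem_nonZeroDivisors hy
  refine ⟨a, b, hb, ?_⟩
  have hb0 : algebraMap (S ⧸ p.asIdeal) p.asIdeal.ResidueField (Ideal.Quotient.mk p.asIdeal b) ≠ 0 := by
    intro h0
    exact nonZeroDivisors.ne_zero hy
      ((injective_iff_map_eq_zero _).mp (IsFractionRing.injective (S ⧸ p.asIdeal) _) _ h0)
  have h1 : z' * algebraMap S p.asIdeal.ResidueField b = algebraMap S p.asIdeal.ResidueField a := by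
    rw [← hxy]
    change _ * algebraMap (S ⧸ p.asIdeal) p.asIdeal.ResidueField (Ideal.Quotient.mk _ b) =
      algebraMap (S ⧸ p.asIdeal) p.asIdeal.ResidueField (Ideal.Quotient.mk _ a)
    rw [div_mul_cancel₀ _ hb0]
  rw [E_eq, E_eq, ← h1, map_mul]
  congr 1
  exact (Groth.Agent.S13110.iso_hom_inv_apply _ z).symm

end Ev

lemma residueFieldMap_E {S S' : CommRingCat.{u}} (φ : S ⟶ S') (y' : Spec S') (s : S) :
    (Spec.map φ).residueFieldMap y' (E S ((Spec.map φ) y') s) = E S' y' (φ s) := by
  unfold E
  show (Spec.map φ).residueFieldMap y' ((Spec S).Γevaluation ((Spec.map φ) y')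
    ((Scheme.ΓSpecIso S).inv s)) = (Spec S').Γevaluation y' ((Scheme.ΓSpecIso S').inv (φ s))
  rw [Scheme.Γevaluation_naturality_apply]
  congr 1
  exact (ConcreteCategory.congr_hom (Scheme.ΓSpecIso_inv_naturality φ) s).symm

theorem variesAlongDVR_of_variesAlongCompleteDVR {X : Scheme.{u}} (f : PtFun X)
    (hf : f.VariesAlongCompleteDVR) : f.VariesAlongDVR := by
  intro R _ _ _ g
  obtain ⟨hdom, hdvr⟩ := Groth.Agent.Lib.Helper8.DvrExtComplete.isDVR_adicCompletion R
  haveI := hdom
  haveI := hdvr
  haveI : Module.FaithfullyFlat R (AdicCompletion (IsLocalRing.maximalIdeal R) R) :=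
    Module.FaithfullyFlat.of_flat_of_isLocalHom
  let φ : CommRingCat.of R ⟶ CommRingCat.of (AdicCompletion (IsLocalRing.maximalIdeal R) R) :=
    CommRingCat.ofHom (algebraMap R (AdicCompletion (IsLocalRing.maximalIdeal R) R))
  have hφinj : Function.Injective φ.hom := algebraMap_injective_of_faithfullyFlat
  obtain ⟨r', hr'⟩ := hf (AdicCompletion (IsLocalRing.maximalIdeal R) R) (Spec.map φ ≫ g)
  rw [← Groth.Agent.S13110.pullback_comp] at hr'
  haveI : Surjective (Spec.map φ) := by
    constructor
    exact PrimeSpectrum.comap_surjective_of_faithfullyFlat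
  suffices hex : ∃ r : Γ(Spec (CommRingCat.of R), ⊤), (Spec.map φ).appTop r = r' by
    obtain ⟨r, hr⟩ := hex
    exact ⟨r, ofSection_eq_of_pullback_eq (Spec.map φ) r (f.pullback g) (by rw [hr]; exact hr')⟩
  -- the generic point of the completion
  let y' : Spec (CommRingCat.of (AdicCompletion (IsLocalRing.maximalIdeal R) R)) :=
    (⟨⊥, Ideal.isPrime_bot⟩ : PrimeSpectrum (AdicCompletion (IsLocalRing.maximalIdeal R) R))
  obtain ⟨a, b, hb, hab⟩ := exists_E_mul_eq (CommRingCat.of R) ((Spec.map φ) y')
    (f.pullback g ((Spec.map φ) y'))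
  have hb0 : b ≠ 0 := fun h0 => hb (h0 ▸ Ideal.zero_mem _)
  have hφb : φ.hom b ≠ 0 := fun h0 => hb0 (hφinj (h0.trans (map_zero _).symm))
  -- transport to the completion
  have h1 := congrArg ((Spec.map φ).residueFieldMap y') hab
  rw [map_mul, residueFieldMap_E, residueFieldMap_E] at h1
  have h2 : (Spec.map φ).residueFieldMap y' (f.pullback g ((Spec.map φ) y')) =
      E _ y' ((Scheme.ΓSpecIso _).hom r') := by
    rw [← Γevaluation_eq_E]
    exact (congrFun hr' y').symm
  rw [h2, ← map_mul, ← sub_eq_zero, ← map_sub, E_eq_zero_iff] at h1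
  have h3 : (Scheme.ΓSpecIso _).hom r' * φ.hom b - φ.hom a = 0 := h1
  rw [sub_eq_zero] at h3
  obtain ⟨r, hr⟩ := mem_range_of_mul_eq a b hφb _ h3
  refine ⟨(Scheme.ΓSpecIso (CommRingCat.of R)).inv r, ?_⟩
  have h4 := ConcreteCategory.congr_hom (Scheme.ΓSpecIso_inv_naturality φ) r
  rw [CommRingCat.comp_apply, CommRingCat.comp_apply] at h4
  rw [← h4]
  change (Scheme.ΓSpecIso _).inv (algebraMap R _ r) = r'
  rw [hr]
  exact Groth.Agent.S13110.iso_hom_inv_apply _ r'

end Groth.Agent.Lib.Helper22.CompleteDVRUp
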