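import Mathlib
import Groth.Agent.Lib.Helper1.ConormSmooth
import Groth.Agent.Lib.Helper1.ConormSeq
import Groth.Agent.Lib.Helper1.ConormReg
import Groth.Agent.Lib.Helper3.LocFreeCrit
import Groth.Agent.Lib.Helper17.LocFreeRank

/-!
# Rank of the conormal sheaf of a smooth subscheme of a smooth scheme (helper22)

* `exact_chart`, `surjective_chart`: on a good affine chart the conormal sequence
  `C → i^*Ω_X → Ω_Z → 0` is exact on sections.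
* `conormal_free_rank`: `i : Z ⟶ X` a quasi-compact immersion, `Z` smooth over `S`, `Ω_X` free of
  rank `a` near `i z`, `Ω_Z` free of rank `b` near `z`: the conormal sheaf is free of rank `r` near
  `z` with `r + b = a`.
* `mem_smoothLocus_of_mono`: `X/S` smooth, `φ : C → i^*Ω_X` mono and `Ω_Z` finite locally free:
  then `Z/S` is smooth.
-/

set_option autoImplicit false
set_option linter.style.haveILetI false
set_option linter.unusedSectionVars false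
set_option maxHeartbeats 400000
universe u
open CategoryTheory CategoryTheory.Limits AlgebraicGeometry TopologicalSpace Opposite TensorProduct
open Groth.Agent.Lib.Helper1 Groth.Agent.Lib.Helper3 Groth.Agent.Lib.Helper3.FreeBasis
open Groth.Agent.Lib.Helper1.PbSect

namespace Groth.Agent.Lib.Helper22.ConormRank

section Alg

variable {B M N Q : Type*} [CommRing B] [AddCommGroup M] [AddCommGroup N] [AddCommGroup Q]
  [Module B M] [Module B N] [Module B Q]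

theorem exists_equiv_prod (φ : M →ₗ[B] N) (c : N →ₗ[B] Q) (hφ : Function.Injective φ)
    (hex : Function.Exact φ c) (hc : Function.Surjective c) [Module.Projective B Q] :
    Nonempty (N ≃ₗ[B] M × Q) := by
  obtain ⟨s, hs⟩ := Module.projective_lifting_property c LinearMap.id hc
  exact ⟨(hex.splitSurjectiveEquiv hφ ⟨s, hs⟩).1⟩

theorem finite_projective_of_equiv_prod (e : N ≃ₗ[B] M × Q) [Module.Finite B N]
    [Module.Projective B N] : Module.Finite B M ∧ Module.Projective B M := by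
  have hsurj : Function.Surjective ((LinearMap.fst B M Q) ∘ₗ e.toLinearMap) := by
    intro m
    exact ⟨e.symm (m, 0), by simp⟩
  refine ⟨Module.Finite.of_surjective _ hsurj, ?_⟩
  refine Module.Projective.of_split (e.symm.toLinearMap ∘ₗ LinearMap.inl B M Q)
    ((LinearMap.fst B M Q) ∘ₗ e.toLinearMap) ?_
  ext m
  simp

theorem finrank_eq_add_of_equiv_prod [Nontrivial B] (e : N ≃ₗ[B] M × Q) [Module.Free B M]
    [Module.Finite B M] [Module.Free B Q] [Module.Finite B Q] :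
    Module.finrank B N = Module.finrank B M + Module.finrank B Q := by
  rw [e.finrank_eq, Module.finrank_prod]

end Alg

section RingLevel

variable (R P B : Type u) [CommRing R] [CommRing P] [CommRing B] [Algebra R P] [Algebra P B]
  [Algebra R B] [IsScalarTower R P B]

/-- `P` formally smooth over `R`, `P → B` surjective with kernel `I`, `Ω[B/R]` projective and
`I/I² → B ⊗ Ω[P/R]` injective: then `B` is formally smooth over `R`. -/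
theorem formallySmooth_of_injective [Algebra.FormallySmooth R P]
    (hs : Function.Surjective (algebraMap P B)) [Module.Projective B Ω[B⁄R]]
    (hinj : ∀ x ∈ RingHom.ker (algebraMap P B),
      (1 : B) ⊗ₜ[P] KaehlerDifferential.D R P x = 0 → x ∈ RingHom.ker (algebraMap P B) ^ 2) :
    Algebra.FormallySmooth R B := by
  refine ⟨inferInstance, (Algebra.FormallySmooth.kerCotangentToTensor_injective_iff hs).mp ?_⟩
  rw [injective_iff_map_eq_zero]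
  intro z hz
  obtain ⟨⟨x, hx⟩, rfl⟩ := Ideal.toCotangent_surjective _ z
  rw [KaehlerDifferential.kerCotangentToTensor_toCotangent] at hz
  exact (Ideal.toCotangent_eq_zero _ _).mpr (hinj x hx hz)

end RingLevel

/-- the action of a morphism of modules on sections, as a linear map -/
noncomputable def appLin {X : Scheme.{u}} {M N : X.Modules} (φ : M ⟶ N) (U : X.Opens) :
    Γ(M, U) →ₗ[Γ(X, U)] Γ(N, U) where
  toFun := φ.app U
  map_add' a b := map_add _ a b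
  map_smul' r x := Scheme.Modules.Hom.app_smul φ r x

theorem appLin_apply {X : Scheme.{u}} {M N : X.Modules} (φ : M ⟶ N) (U : X.Opens) (x : Γ(M, U)) :
    appLin φ U x = φ.app U x := rfl

section Chart

variable {Z X S : Scheme.{u}} (f : X ⟶ S) (i : Z ⟶ X)
  {ΩX : X.Modules} (dX : OmegaSh.Der f ΩX) (hX : OmegaSh.IsUniversal dX)
  {ΩZ : Z.Modules} (dZ : OmegaSh.Der (i ≫ f) ΩZ) (hZ : OmegaSh.IsUniversal dZ)
  (φ : Omega.conormal i ⟶ (Scheme.Modules.pullback i).obj ΩX) (hφ : OmegaSh.IsConormalDiff i dX φ)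
  (c : (Scheme.Modules.pullback i).obj ΩX ⟶ ΩZ) (hc : OmegaSh.IsDiffCompat i dX dZ c)
  [QuasiCompact i] {U : X.Opens} (hU : IsAffineOpen U) (hV : IsAffineOpen (i ⁻¹ᵁ U))
  (hs : Function.Surjective (i.app U)) {VS : S.Opens} (hVS : IsAffineOpen VS) (hUVS : U ≤ f ⁻¹ᵁ VS)

include hX hZ hφ hc hU hV hs hVS hUVS in
theorem exact_chart : Function.Exact (appLin φ (i ⁻¹ᵁ U)) (appLin c (i ⁻¹ᵁ U)) := by
  intro y
  constructor
  · intro hy
    obtain ⟨m, hm⟩ := ConormSeq.exact_on_good f i dX hX dZ hZ φ hφ c hc hU hV hs hVS hUVS y hy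
    exact ⟨m, hm⟩
  · rintro ⟨m, rfl⟩
    have h0 := ConormSeq.comp_eq_zero f i dX dZ φ hφ c hc
    exact congr(($h0).app (i ⁻¹ᵁ U) m)

include hX hZ hc hU hV hs hVS hUVS in
theorem surjective_chart : Function.Surjective (appLin c (i ⁻¹ᵁ U)) := by
  refine (OmSeq.app_surjective_iff f i dX hX dZ hZ c hc hVS hU hV le_rfl hUVS).mpr ?_
  letI := (i.appLE U (i ⁻¹ᵁ U) le_rfl).hom.toAlgebra
  show Algebra.FormallyUnramified Γ(X, U) Γ(Z, i ⁻¹ᵁ U)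
  refine Algebra.FormallyUnramified.of_surjective (Algebra.ofId Γ(X, U) Γ(Z, i ⁻¹ᵁ U)) ?_
  show Function.Surjective (i.appLE U (i ⁻¹ᵁ U) le_rfl).hom
  rw [Conorm.appLE_refl]
  exact hs

end Chart

/-- `i : Z ⟶ X` a quasi-compact immersion with `Z` smooth over `S`; `Ω_X` free of rank `a` near
`i z` and `Ω_Z` free of rank `b` near `z`.  Then the conormal sheaf is free of rank `r` near `z`
where `r + b = a`. -/
theorem conormal_free_rank {Z X S : Scheme.{u}} (f : X ⟶ S) (i : Z ⟶ X) [IsImmersion i]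
    [QuasiCompact i] [Smooth (i ≫ f)]
    {ΩX : X.Modules} (dX : OmegaSh.Der f ΩX) (hX : OmegaSh.IsUniversal dX)
    {ΩZ : Z.Modules} (dZ : OmegaSh.Der (i ≫ f) ΩZ) (hZ : OmegaSh.IsUniversal dZ)
    (φ : Omega.conormal i ⟶ (Scheme.Modules.pullback i).obj ΩX)
    (hφ : OmegaSh.IsConormalDiff i dX φ)
    (z : Z) (a b : ℕ) (UX : X.Opens) (hzUX : i z ∈ UX)
    (eX : ΩX.restrict UX.ι ≅ FlatMod.freeMod (↑UX) a)
    (UZ : Z.Opens) (hzUZ : z ∈ UZ) (eZ : ΩZ.restrict UZ.ι ≅ FlatMod.freeMod (↑UZ) b) :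
    ∃ (W : Z.Opens) (r : ℕ), z ∈ W ∧
      Nonempty ((Omega.conormal i).restrict W.ι ≅ FlatMod.freeMod (↑W) r) ∧ r + b = a := by
  obtain ⟨c, hc, -⟩ := DerCompat.existsUnique_isDiffCompat f (i ≫ f) i (𝟙 S)
    (by rw [Category.comp_id]) dX dZ hX
  haveI qC : (Omega.conormal i).IsQuasicoherent :=
    Groth.Agent.Lib.Helper17.PbStalk.isQuasicoherent_pullback i (ClSub.idealMod i.ker)
  obtain ⟨eN⟩ := Groth.Agent.Lib.Helper17.LocFreeRank.restrict_pullback_free i ΩX UX a eX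
  obtain ⟨bN, hbN⟩ := exists_isBasis_of_iso eN
  obtain ⟨bQ, hbQ⟩ := exists_isBasis_of_iso eZ
  obtain ⟨W₀, hW₀⟩ : ∃ W₀ : X.Opens, i ⁻¹ᵁ W₀ = UZ := by
    obtain ⟨s, hs, hs'⟩ := i.isEmbedding.isInducing.isOpen_iff.mp UZ.2
    exact ⟨⟨s, hs⟩, Opens.ext hs'⟩
  obtain ⟨_, ⟨VS : S.Opens, hVS, rfl⟩, hzVS, -⟩ := S.isBasis_affineOpens.exists_subset_of_mem_open
    (Set.mem_univ (f (i z))) isOpen_univ
  have hzW₀ : i z ∈ W₀ := by
    have : z ∈ i ⁻¹ᵁ W₀ := hW₀ ▸ hzUZ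
    exact this
  have hz0 : i z ∈ (i.coborderRange ⊓ f ⁻¹ᵁ VS ⊓ UX ⊓ W₀ : X.Opens) :=
    ⟨⟨⟨ConormMap.mem_coborderRange i z, hzVS⟩, hzUX⟩, hzW₀⟩
  obtain ⟨_, ⟨U₀ : X.Opens, hU₀, rfl⟩, hzU₀, hU₀le⟩ :=
    X.isBasis_affineOpens.exists_subset_of_mem_open hz0
      (i.coborderRange ⊓ f ⁻¹ᵁ VS ⊓ UX ⊓ W₀ : X.Opens).2
  -- the structure of sections on any small good chart
  have key : ∀ U : X.Opens, IsAffineOpen U →
      U ≤ (i.coborderRange ⊓ f ⁻¹ᵁ VS ⊓ UX ⊓ W₀ : X.Opens) →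
      ∃ (_ : Γ((Scheme.Modules.pullback i).obj ΩX, i ⁻¹ᵁ U) ≃ₗ[Γ(Z, i ⁻¹ᵁ U)]
          Γ(Omega.conormal i, i ⁻¹ᵁ U) × Γ(ΩZ, i ⁻¹ᵁ U))
        (_ : Module.Basis (Fin a) Γ(Z, i ⁻¹ᵁ U) Γ((Scheme.Modules.pullback i).obj ΩX, i ⁻¹ᵁ U))
        (_ : Module.Basis (Fin b) Γ(Z, i ⁻¹ᵁ U) Γ(ΩZ, i ⁻¹ᵁ U)), True := by
    intro U hU hUle
    have hUcob : U ≤ i.coborderRange := fun y hy => (hUle hy).1.1.1
    have hUVS : U ≤ f ⁻¹ᵁ VS := fun y hy => (hUle hy).1.1.2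
    have hUUX : i ⁻¹ᵁ U ≤ i ⁻¹ᵁ UX := fun y hy => (hUle hy).1.2
    have hUUZ : i ⁻¹ᵁ U ≤ UZ := by
      intro y hy
      have : y ∈ i ⁻¹ᵁ W₀ := (hUle hy).2
      rw [hW₀] at this
      exact this
    obtain ⟨hV, hs⟩ := ConormMap.good_of_le_coborderRange i hU hUcob
    have hle : i ⁻¹ᵁ U ≤ (i ≫ f) ⁻¹ᵁ VS := fun y hy => hUVS hy
    have hsm : ((i.appLE U (i ⁻¹ᵁ U) le_rfl).hom.comp (f.appLE VS U hUVS).hom).FormallySmooth := by
      have h1 : ((i ≫ f).appLE VS (i ⁻¹ᵁ U) hle).hom.FormallySmooth :=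
        ((i ≫ f).smooth_appLE hVS hV hle).formallySmooth
      have h2 : (i ≫ f).appLE VS (i ⁻¹ᵁ U) hle =
          f.appLE VS U hUVS ≫ i.appLE U (i ⁻¹ᵁ U) le_rfl :=
        (Scheme.Hom.appLE_comp_appLE _ _ _ _ _ _ _).symm
      rw [h2] at h1
      exact h1
    have hinj : Function.Injective (appLin φ (i ⁻¹ᵁ U)) :=
      ConormSmooth.injective_on_good_of_formallySmooth f i dX hX φ hφ hU hV hs hVS hUVS hsm
    have hex := exact_chart f i dX hX dZ hZ φ hφ c hc hU hV hs hVS hUVS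
    have hsurj := surjective_chart f i dX hX dZ hZ c hc hU hV hs hVS hUVS
    let βN : Module.Basis (Fin a) Γ(Z, i ⁻¹ᵁ U) Γ((Scheme.Modules.pullback i).obj ΩX, i ⁻¹ᵁ U) :=
      NormAlg.basisOfBijective _ (hbN.mono hUUX).self
    let βQ : Module.Basis (Fin b) Γ(Z, i ⁻¹ᵁ U) Γ(ΩZ, i ⁻¹ᵁ U) :=
      NormAlg.basisOfBijective _ (hbQ.mono hUUZ).self
    haveI : Module.Projective Γ(Z, i ⁻¹ᵁ U) Γ(ΩZ, i ⁻¹ᵁ U) := Module.Projective.of_basis βQ
    obtain ⟨e⟩ := exists_equiv_prod (appLin φ (i ⁻¹ᵁ U)) (appLin c (i ⁻¹ᵁ U)) hinj hex hsurj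
    exact ⟨e, βN, βQ, trivial⟩
  obtain ⟨e₀, βN₀, βQ₀, -⟩ := key U₀ hU₀ hU₀le
  obtain ⟨hV₀, hs₀⟩ := ConormMap.good_of_le_coborderRange i hU₀ (fun y hy => (hU₀le hy).1.1.1)
  haveI : Module.Free Γ(Z, i ⁻¹ᵁ U₀) Γ((Scheme.Modules.pullback i).obj ΩX, i ⁻¹ᵁ U₀) :=
    Module.Free.of_basis βN₀
  haveI : Module.Finite Γ(Z, i ⁻¹ᵁ U₀) Γ((Scheme.Modules.pullback i).obj ΩX, i ⁻¹ᵁ U₀) :=
    Module.Finite.of_basis βN₀
  obtain ⟨hfin, hproj⟩ := finite_projective_of_equiv_prod e₀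
  haveI := hfin
  haveI := hproj
  haveI : Module.FinitePresentation Γ(Z, i ⁻¹ᵁ U₀) Γ(Omega.conormal i, i ⁻¹ᵁ U₀) :=
    Module.finitePresentation_of_projective _ _
  obtain ⟨g, r, e, hzg, he⟩ := LocFreeCrit.exists_isBasis_of_mem_freeLocus (Omega.conormal i) hV₀ z
    hzU₀ (by rw [Module.freeLocus_eq_univ_iff.mpr hproj]; exact Set.mem_univ _)
  obtain ⟨g', hg'⟩ := hs₀ g
  have hU₁ : IsAffineOpen (X.basicOpen g') := hU₀.basicOpen g'
  have hU₁le : X.basicOpen g' ≤ (i.coborderRange ⊓ f ⁻¹ᵁ VS ⊓ UX ⊓ W₀ : X.Opens) :=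
    (X.basicOpen_le g').trans hU₀le
  have hpre : i ⁻¹ᵁ X.basicOpen g' = Z.basicOpen g := by
    rw [Scheme.preimage_basicOpen, hg']
  obtain ⟨e₁, βN₁, βQ₁, -⟩ := key (X.basicOpen g') hU₁ hU₁le
  obtain ⟨hV₁, -⟩ := ConormMap.good_of_le_coborderRange i hU₁ (fun y hy => (hU₁le hy).1.1.1)
  have hzU₁ : z ∈ i ⁻¹ᵁ X.basicOpen g' := hpre ▸ hzg
  have he₁ := he.mono (le_of_eq hpre)
  let βC : Module.Basis (Fin r) Γ(Z, i ⁻¹ᵁ X.basicOpen g')
      Γ(Omega.conormal i, i ⁻¹ᵁ X.basicOpen g') := NormAlg.basisOfBijective _ he₁.self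
  haveI : Nontrivial Γ(Z, i ⁻¹ᵁ X.basicOpen g') :=
    ⟨⟨0, 1, fun h01 => (hV₁.primeIdealOf ⟨z, hzU₁⟩).isPrime.ne_top
      ((Ideal.eq_top_iff_one _).mpr (h01 ▸ Ideal.zero_mem _))⟩⟩
  haveI : Module.Free Γ(Z, i ⁻¹ᵁ X.basicOpen g') Γ(Omega.conormal i, i ⁻¹ᵁ X.basicOpen g') :=
    Module.Free.of_basis βC
  haveI : Module.Finite Γ(Z, i ⁻¹ᵁ X.basicOpen g') Γ(Omega.conormal i, i ⁻¹ᵁ X.basicOpen g') :=
    Module.Finite.of_basis βC
  haveI : Module.Free Γ(Z, i ⁻¹ᵁ X.basicOpen g') Γ(ΩZ, i ⁻¹ᵁ X.basicOpen g') :=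
    Module.Free.of_basis βQ₁
  haveI : Module.Finite Γ(Z, i ⁻¹ᵁ X.basicOpen g') Γ(ΩZ, i ⁻¹ᵁ X.basicOpen g') :=
    Module.Finite.of_basis βQ₁
  have hrank := finrank_eq_add_of_equiv_prod e₁
  rw [Module.finrank_eq_card_basis βN₁, Module.finrank_eq_card_basis βC,
    Module.finrank_eq_card_basis βQ₁, Fintype.card_fin, Fintype.card_fin, Fintype.card_fin]
    at hrank
  exact ⟨i ⁻¹ᵁ X.basicOpen g', r, hzU₁, nonempty_iso_of_isBasis he₁, hrank.symm⟩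

/-- `X/S` smooth, `i : Z ⟶ X` a quasi-compact immersion with `Z/S` locally of finite
presentation, the conormal map `C → i^*Ω_X` a monomorphism and `Ω_Z` finite locally free: then
`Z/S` is smooth. -/
theorem mem_smoothLocus_of_mono {Z X S : Scheme.{u}} (f : X ⟶ S) [Smooth f] (i : Z ⟶ X)
    [IsImmersion i] [QuasiCompact i] [LocallyOfFinitePresentation (i ≫ f)]
    {ΩX : X.Modules} (dX : OmegaSh.Der f ΩX) (hX : OmegaSh.IsUniversal dX)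
    {ΩZ : Z.Modules} (dZ : OmegaSh.Der (i ≫ f) ΩZ) (hZ : OmegaSh.IsUniversal dZ)
    (φ : Omega.conormal i ⟶ (Scheme.Modules.pullback i).obj ΩX)
    (hφ : OmegaSh.IsConormalDiff i dX φ) [Mono φ] (hΩZ : FlatMod.IsFinLocFree ΩZ) (z : Z) :
    z ∈ (i ≫ f).smoothLocus := by
  obtain ⟨c, hc, -⟩ := DerCompat.existsUnique_isDiffCompat f (i ≫ f) i (𝟙 S)
    (by rw [Category.comp_id]) dX dZ hX
  obtain ⟨_, ⟨VS : S.Opens, hVS, rfl⟩, hzVS, -⟩ := S.isBasis_affineOpens.exists_subset_of_mem_open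
    (Set.mem_univ (f (i z))) isOpen_univ
  obtain ⟨U, hU, hzU, hUVS, hV, hs⟩ := Conorm.exists_good i z (f ⁻¹ᵁ VS) hzVS
  have hle : i ⁻¹ᵁ U ≤ (i ≫ f) ⁻¹ᵁ VS := fun y hy => hUVS hy
  have h2 : (i ≫ f).appLE VS (i ⁻¹ᵁ U) hle = f.appLE VS U hUVS ≫ i.appLE U (i ⁻¹ᵁ U) le_rfl :=
    (Scheme.Hom.appLE_comp_appLE _ _ _ _ _ _ _).symm
  rw [Scheme.Hom.mem_smoothLocus, formallySmooth_stalkMap_iff VS hVS (i ⁻¹ᵁ U) hV hle hzU]
  suffices hsm : ((i ≫ f).appLE VS (i ⁻¹ᵁ U) hle).hom.Smooth by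
    letI := ((i ≫ f).appLE VS (i ⁻¹ᵁ U) hle).hom.toAlgebra
    haveI : Algebra.Smooth Γ(S, VS) Γ(Z, i ⁻¹ᵁ U) := hsm
    rw [Algebra.smoothLocus_eq_univ]
    exact Set.mem_univ _
  suffices hfs : ((i ≫ f).appLE VS (i ⁻¹ᵁ U) hle).hom.FormallySmooth by
    letI := ((i ≫ f).appLE VS (i ⁻¹ᵁ U) hle).hom.toAlgebra
    have hfp : Algebra.FinitePresentation Γ(S, VS) Γ(Z, i ⁻¹ᵁ U) :=
      (i ≫ f).finitePresentation_appLE hVS hV hle
    have hfs' : Algebra.FormallySmooth Γ(S, VS) Γ(Z, i ⁻¹ᵁ U) := hfs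
    exact (⟨hfs', hfp⟩ : Algebra.Smooth Γ(S, VS) Γ(Z, i ⁻¹ᵁ U))
  rw [h2]
  letI alg₁ := (f.appLE VS U hUVS).hom.toAlgebra
  letI alg₃ := (i.appLE U (i ⁻¹ᵁ U) le_rfl).hom.toAlgebra
  letI alg₅ := ((i.appLE U (i ⁻¹ᵁ U) le_rfl).hom.comp (f.appLE VS U hUVS).hom).toAlgebra
  haveI t₁ : IsScalarTower Γ(S, VS) Γ(X, U) Γ(Z, i ⁻¹ᵁ U) :=
    IsScalarTower.of_algebraMap_eq fun _ => rfl
  show Algebra.FormallySmooth Γ(S, VS) Γ(Z, i ⁻¹ᵁ U)
  obtain ⟨E, T, h1, h2', h3, h4, h5⟩ :=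
    OmSeq2.exists_equivs_tower f i dX hX dZ hZ c hc hVS hU hV le_rfl hUVS
  haveI : Algebra.FormallySmooth Γ(S, VS) Γ(X, U) := (f.smooth_appLE hVS hU hUVS).formallySmooth
  obtain ⟨hfin, hproj⟩ := LocFreeCrit.finite_projective_sections hΩZ hV
  let T' : Ω[Γ(Z, i ⁻¹ᵁ U)⁄Γ(S, VS)] ≃ₗ[Γ(Z, i ⁻¹ᵁ U)] Γ(ΩZ, i ⁻¹ᵁ U) :=
    { T with map_smul' := h5 }
  haveI : Module.Projective Γ(Z, i ⁻¹ᵁ U) Ω[Γ(Z, i ⁻¹ᵁ U)⁄Γ(S, VS)] :=
    Module.Projective.of_equiv T'.symm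
  have halg : ∀ b : Γ(X, U), algebraMap Γ(X, U) Γ(Z, i ⁻¹ᵁ U) b = (i.app U).hom b := by
    intro b
    change (i.appLE U (i ⁻¹ᵁ U) le_rfl).hom b = _
    rw [Conorm.appLE_refl]
  have hsurj : Function.Surjective (algebraMap Γ(X, U) Γ(Z, i ⁻¹ᵁ U)) := by
    intro y
    obtain ⟨b, hb⟩ := hs y
    exact ⟨b, (halg b).trans hb⟩
  have hkereq : RingHom.ker (algebraMap Γ(X, U) Γ(Z, i ⁻¹ᵁ U)) = RingHom.ker (i.app U).hom := by
    ext b
    rw [RingHom.mem_ker, RingHom.mem_ker, halg]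
  refine formallySmooth_of_injective Γ(S, VS) Γ(X, U) Γ(Z, i ⁻¹ᵁ U) hsurj ?_
  intro x hx h0
  have hx' : x ∈ RingHom.ker (i.app U).hom := by rwa [hkereq] at hx
  obtain ⟨s, hsx⟩ := Conorm.exists_val_eq i hU x hx'
  have h6 : φ.app (i ⁻¹ᵁ U) (OmegaSh.conormalSect i U s) = 0 := by
    rw [hφ U s, Conorm.idealSect_eq_val, hsx, ← ConormSeq.pullRes_refl,
      ← one_smul Γ(Z, i ⁻¹ᵁ U) (pullRes i ΩX (le_refl (i ⁻¹ᵁ U)) (dX.app U x)), ← h2', h0, map_zero]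
  have h7 : OmegaSh.conormalSect i U s = 0 :=
    QCExact.injective_sections φ (i ⁻¹ᵁ U) (h6.trans (map_zero _).symm)
  have h8 := (Conorm.conormalSect_eq_zero_iff i hU hV hs s).mp h7
  rw [hsx] at h8
  rw [hkereq]
  exact h8

end Groth.Agent.Lib.Helper22.ConormRank
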