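import Mathlib
import Groth.Agent.Lib.Helper19.KRegCot
import Groth.Agent.Lib.Helper1.KRegIdeal9
import Groth.Agent.Lib.Helper1.KRegIdeal6
import Groth.Agent.Lib.Helper24.FlatLCISynt

/-!
# Localisation of the conormal module (helper22)

`finite_projective_localized`: `R → S` surjective with kernel `I`, `τ : I → M` a model of the
conormal module (`τ` surjective with kernel `I²`), `u ∈ R`; if `I·R_u` is a Koszul-regular ideal of
`R_u` then `M_u` is a finite projective `S_u`-module.

`main`: for `S = R[x]/I` and `ũ` a polynomial such that `S_ũ` is syntomic over `R`, `(I/I²)_ũ` is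
finite projective over `S_ũ`.
-/

set_option autoImplicit false
universe u

namespace Groth.Agent.Lib.Helper22.ConormalLoc

open Groth.Agent.Lib.Helper1 Groth.Agent.Lib.Helper19 Groth.Agent.Lib.Helper24

theorem finite_projective_localized
    {R S M R' S' M' : Type u} [CommRing R] [CommRing S] [Algebra R S]
    [AddCommGroup M] [Module R M] [Module S M] [IsScalarTower R S M]
    [CommRing R'] [Algebra R R'] [CommRing S'] [Algebra S S'] [Algebra R S'] [Algebra R' S']
    [IsScalarTower R S S'] [IsScalarTower R R' S']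
    [AddCommGroup M'] [Module S M'] [Module S' M'] [IsScalarTower S S' M']
    (u : R) (v : S) (huv : algebraMap R S u = v)
    [IsLocalization.Away u R'] [IsLocalization.Away v S']
    (f : M →ₗ[S] M') [IsLocalizedModule (Submonoid.powers v) f]
    (hS : Function.Surjective (algebraMap R S)) (I : Ideal R)
    (hIker : RingHom.ker (algebraMap R S) = I) (τ : I →ₗ[R] M) (hτs : Function.Surjective τ)
    (hτ0 : ∀ x : I, τ x = 0 ↔ (x : R) ∈ I ^ 2)
    (hK : LCI.IsKoszulRegularIdeal (I.map (algebraMap R R'))) :
    Module.Finite S' M' ∧ Module.Projective S' M' := by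
  classical
  subst huv
  letI instR'M' : Module R' M' := Module.compHom M' (algebraMap R' S')
  haveI : IsScalarTower R' S' M' := IsScalarTower.of_algebraMap_smul (fun r m => rfl)
  letI instRM' : Module R M' := Module.compHom M' (algebraMap R S')
  haveI : IsScalarTower R R' M' := IsScalarTower.of_algebraMap_smul (fun r m => by
    show algebraMap R' S' (algebraMap R R' r) • m = algebraMap R S' r • m
    rw [← IsScalarTower.algebraMap_apply R R' S'])
  have hAB : ∀ r : R, algebraMap R' S' (algebraMap R R' r) = algebraMap S S' (algebraMap R S r) := by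
    intro r
    rw [← IsScalarTower.algebraMap_apply R R' S', ← IsScalarTower.algebraMap_apply R S S']
  have hu : IsUnit (algebraMap R R' u) := IsLocalization.Away.algebraMap_isUnit u
  have hunit : ∀ k : ℕ, IsUnit (algebraMap R R' (u ^ k)) := fun k => by
    rw [map_pow]; exact hu.pow k
  -- the map `I → M'`
  let φ : I →ₗ[R] M' :=
    { toFun := fun x => f (τ x)
      map_add' := fun x y => by rw [map_add, map_add]
      map_smul' := fun r x => by
        show f (τ (r • x)) = algebraMap R S' r • f (τ x)
        rw [map_smul, ← algebraMap_smul S r (τ x), map_smul, IsScalarTower.algebraMap_apply R S S',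
          algebraMap_smul S' (algebraMap R S r) (f (τ x))] }
  have hbc : IsBaseChange R' (Algebra.idealMap R' I) :=
    IsLocalizedModule.isBaseChange (Submonoid.powers u) R' _
  let τ' : ↥(I.map (algebraMap R R')) →ₗ[R'] M' := hbc.lift φ
  have hτ' : ∀ x : I, τ' (Algebra.idealMap R' I x) = f (τ x) := fun x => hbc.lift_eq φ x
  -- surjectivity of `R' → S'`
  have hS' : Function.Surjective (algebraMap R' S') := by
    intro s'
    obtain ⟨⟨s, ⟨_, k, rfl⟩⟩, hs⟩ :=
      IsLocalization.surj (Submonoid.powers (algebraMap R S u)) s'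
    have hs' : s' * algebraMap S S' ((algebraMap R S u) ^ k) = algebraMap S S' s := hs
    obtain ⟨r, rfl⟩ := hS s
    obtain ⟨w, hw⟩ := (hunit k).exists_right_inv
    refine ⟨w * algebraMap R R' r, ?_⟩
    have h1 : algebraMap S S' ((algebraMap R S u) ^ k) =
        algebraMap R' S' (algebraMap R R' (u ^ k)) := by
      simp only [hAB, map_pow]
    rw [map_mul, hAB, ← hs', h1]
    calc algebraMap R' S' w * (s' * algebraMap R' S' (algebraMap R R' (u ^ k)))
        = s' * algebraMap R' S' (algebraMap R R' (u ^ k) * w) := by rw [map_mul]; ring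
      _ = s' := by rw [hw, map_one, mul_one]
  -- kernel of `R' → S'`
  have hker' : RingHom.ker (algebraMap R' S') = I.map (algebraMap R R') := by
    apply le_antisymm
    · intro x' hx'
      rw [RingHom.mem_ker] at hx'
      obtain ⟨⟨r, ⟨_, k, rfl⟩⟩, hr⟩ := IsLocalization.surj (Submonoid.powers u) x'
      have hr' : x' * algebraMap R R' (u ^ k) = algebraMap R R' r := hr
      have h1 : algebraMap S S' (algebraMap R S r) = 0 := by
        rw [← hAB, ← hr', map_mul, hx', zero_mul]
      obtain ⟨⟨_, j, rfl⟩, hj⟩ :=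
        (IsLocalization.map_eq_zero_iff (Submonoid.powers (algebraMap R S u)) S' _).mp h1
      have hj' : (algebraMap R S u) ^ j * algebraMap R S r = 0 := hj
      have h2 : u ^ j * r ∈ I := by
        rw [← hIker, RingHom.mem_ker, map_mul, map_pow]; exact hj'
      refine (IsLocalization.mem_map_algebraMap_iff (Submonoid.powers u) R').mpr
        ⟨⟨⟨u ^ j * r, h2⟩, ⟨u ^ (k + j), k + j, rfl⟩⟩, ?_⟩
      show x' * algebraMap R R' (u ^ (k + j)) = algebraMap R R' (u ^ j * r)
      rw [pow_add, map_mul, ← mul_assoc, hr', map_mul, mul_comm]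
    · rw [Ideal.map_le_iff_le_comap]
      intro a ha
      rw [Ideal.mem_comap, RingHom.mem_ker, hAB]
      have : algebraMap R S a = 0 := by rw [← RingHom.mem_ker, hIker]; exact ha
      rw [this, map_zero]
  -- surjectivity of `τ'`
  have hτ's : Function.Surjective τ' := by
    intro m'
    obtain ⟨⟨m, ⟨_, k, rfl⟩⟩, hm⟩ :=
      IsLocalizedModule.surj (Submonoid.powers (algebraMap R S u)) f m'
    have hm' : ((algebraMap R S u) ^ k) • m' = f m := hm
    obtain ⟨x, rfl⟩ := hτs m
    obtain ⟨w, hw⟩ := (hunit k).exists_right_inv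
    refine ⟨w • Algebra.idealMap R' I x, ?_⟩
    rw [map_smul, hτ', ← hm']
    show algebraMap R' S' w • (((algebraMap R S u) ^ k) • m') = m'
    rw [← algebraMap_smul S' ((algebraMap R S u) ^ k) m', smul_smul]
    have h1 : algebraMap R' S' w * algebraMap S S' ((algebraMap R S u) ^ k) = 1 := by
      rw [← map_pow, ← hAB, ← map_mul, mul_comm, hw, map_one]
    rw [h1, one_smul]
  have hpow : (I.map (algebraMap R R')) ^ 2 = (I ^ 2).map (algebraMap R R') :=
    (Ideal.map_pow _ _ _).symm
  have hτ'0 : ∀ y : ↥(I.map (algebraMap R R')),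
      τ' y = 0 ↔ (y : R') ∈ (I.map (algebraMap R R')) ^ 2 := by
    intro y
    constructor
    · intro h0
      obtain ⟨⟨a, ⟨_, k, rfl⟩⟩, hya⟩ :=
        (IsLocalization.mem_map_algebraMap_iff (Submonoid.powers u) R').mp y.2
      have hya0 : (y : R') * algebraMap R R' (u ^ k) = algebraMap R R' (a : R) := hya
      have hya' : Algebra.idealMap R' I a = algebraMap R R' (u ^ k) • y := by
        apply Subtype.ext
        show algebraMap R R' (a : R) = algebraMap R R' (u ^ k) * (y : R')
        rw [← hya0, mul_comm]
      have h1 : f (τ a) = 0 := by rw [← hτ', hya', map_smul, h0, smul_zero]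
      obtain ⟨⟨_, j, rfl⟩, hj⟩ :=
        IsLocalizedModule.exists_of_eq (S := Submonoid.powers (algebraMap R S u)) (f := f)
          (h1.trans (map_zero f).symm)
      have hj' : ((algebraMap R S u) ^ j) • τ a = 0 := by
        have h := hj
        rw [smul_zero] at h
        exact h
      have h2 : τ ((u ^ j) • a) = 0 := by
        rw [map_smul, ← algebraMap_smul S (u ^ j) (τ a), map_pow]
        exact hj'
      have h3 : u ^ j * (a : R) ∈ I ^ 2 := (hτ0 ((u ^ j) • a)).mp h2
      rw [hpow]
      refine (IsLocalization.mem_map_algebraMap_iff (Submonoid.powers u) R').mpr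
        ⟨⟨⟨u ^ j * (a : R), h3⟩, ⟨u ^ (k + j), k + j, rfl⟩⟩, ?_⟩
      show (y : R') * algebraMap R R' (u ^ (k + j)) = algebraMap R R' (u ^ j * (a : R))
      rw [pow_add, map_mul, ← mul_assoc, hya0, map_mul, mul_comm]
    · intro hmem
      rw [hpow] at hmem
      obtain ⟨⟨b, ⟨_, j, rfl⟩⟩, hyb⟩ :=
        (IsLocalization.mem_map_algebraMap_iff (Submonoid.powers u) R').mp hmem
      have hyb0 : (y : R') * algebraMap R R' (u ^ j) = algebraMap R R' (b : R) := hyb
      have hbI : (b : R) ∈ I := Ideal.pow_le_self two_ne_zero b.2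
      have h4 : τ ⟨b, hbI⟩ = 0 := (hτ0 ⟨b, hbI⟩).mpr b.2
      have h5 : Algebra.idealMap R' I ⟨b, hbI⟩ = algebraMap R R' (u ^ j) • y := by
        apply Subtype.ext
        show algebraMap R R' (b : R) = algebraMap R R' (u ^ j) * (y : R')
        rw [← hyb0, mul_comm]
      have h6 : algebraMap R R' (u ^ j) • τ' y = 0 := by
        rw [← map_smul, ← h5, hτ', h4, map_zero]
      obtain ⟨w', hw'⟩ := (hunit j).exists_right_inv
      calc τ' y = (w' * algebraMap R R' (u ^ j)) • τ' y := by rw [mul_comm, hw', one_smul]
        _ = w' • (algebraMap R R' (u ^ j) • τ' y) := mul_smul _ _ _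
        _ = 0 := by rw [h6, smul_zero]
  exact KRegCot.finite_projective_of_koszulRegular hS' (I.map (algebraMap R R')) hker' τ' hτ's
    hτ'0 hK

theorem main (R : Type u) [CommRing R] (n : ℕ) (I : Ideal (MvPolynomial (Fin n) R))
    (ũ : MvPolynomial (Fin n) R)
    (hg : Synt.IsSyntomic R (Localization.Away (Ideal.Quotient.mk I ũ))) :
    Module.Finite (Localization.Away (Ideal.Quotient.mk I ũ))
        (LocalizedModule (Submonoid.powers (Ideal.Quotient.mk I ũ)) I.Cotangent) ∧
      Module.Projective (Localization.Away (Ideal.Quotient.mk I ũ))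
        (LocalizedModule (Submonoid.powers (Ideal.Quotient.mk I ũ)) I.Cotangent) := by
  have hlci : LCI.IsLCI R (Localization.Away (Ideal.Quotient.mk I ũ)) :=
    FlatLCISynt.isLCI_of_isSyntomic R _ hg
  letI instAlg : Algebra (Localization.Away ũ) (Localization.Away (Ideal.Quotient.mk I ũ)) :=
    (IsLocalization.Away.map (Localization.Away ũ) (Localization.Away (Ideal.Quotient.mk I ũ))
      (Ideal.Quotient.mk I) ũ).toAlgebra
  haveI : IsScalarTower (MvPolynomial (Fin n) R) (Localization.Away ũ)
      (Localization.Away (Ideal.Quotient.mk I ũ)) :=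
    IsScalarTower.of_algebraMap_eq (fun x => by
      rw [IsScalarTower.algebraMap_apply (MvPolynomial (Fin n) R) (MvPolynomial (Fin n) R ⧸ I)
        (Localization.Away (Ideal.Quotient.mk I ũ))]
      show _ = IsLocalization.Away.map (Localization.Away ũ)
        (Localization.Away (Ideal.Quotient.mk I ũ)) (Ideal.Quotient.mk I) ũ (algebraMap _ _ x)
      rw [IsLocalization.Away.map, IsLocalization.map_eq]
      rfl)
  haveI : Module.Flat (MvPolynomial (Fin n) R) (Localization.Away ũ) :=
    IsLocalization.flat (Localization.Away ũ) (Submonoid.powers ũ)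
  haveI : IsLocalization.Away ((Ideal.Quotient.mkₐ R I) ũ)
      (Localization.Away (Ideal.Quotient.mk I ũ)) :=
    (inferInstance : IsLocalization.Away (Ideal.Quotient.mk I ũ)
      (Localization.Away (Ideal.Quotient.mk I ũ)))
  have hK : LCI.IsKoszulRegularIdeal
      (I.map (algebraMap (MvPolynomial (Fin n) R) (Localization.Away ũ))) := by
    rw [KRegIdeal.isKoszulRegularIdeal_iff]
    intro q' hq'
    haveI : (q'.asIdeal.comap
        (algebraMap (MvPolynomial (Fin n) R) (Localization.Away ũ))).IsPrime :=
      Ideal.comap_isPrime _ _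
    have hkerI : RingHom.ker (Ideal.Quotient.mkₐ R I).toRingHom = I := by
      ext x
      rw [RingHom.mem_ker]
      exact Ideal.Quotient.eq_zero_iff_mem
    have hIp : RingHom.ker (Ideal.Quotient.mkₐ R I).toRingHom ≤
        q'.asIdeal.comap (algebraMap (MvPolynomial (Fin n) R) (Localization.Away ũ)) := by
      rw [hkerI]
      intro x hx
      exact hq' (Ideal.mem_map_of_mem _ hx)
    have hu : ũ ∉ q'.asIdeal.comap
        (algebraMap (MvPolynomial (Fin n) R) (Localization.Away ũ)) := by
      intro h
      exact q'.isPrime.ne_top (Ideal.eq_top_of_isUnit_mem _ h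
        (IsLocalization.Away.algebraMap_isUnit ũ))
    obtain ⟨G, hG, N, hN⟩ := KRegIdeal.exists_isKRegNear_of_isLCI_away R
      (MvPolynomial (Fin n) R ⧸ I) n (Ideal.Quotient.mkₐ R I) (Ideal.Quotient.mkₐ_surjective R I)
      ũ (Localization.Away (Ideal.Quotient.mk I ũ)) hlci
      (q'.asIdeal.comap (algebraMap (MvPolynomial (Fin n) R) (Localization.Away ũ))) hIp hu
    rw [hkerI] at hN
    exact ⟨algebraMap (MvPolynomial (Fin n) R) (Localization.Away ũ) G, hG, N, hN.map_of_flat⟩
  exact finite_projective_localized (R := MvPolynomial (Fin n) R)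
    (S := MvPolynomial (Fin n) R ⧸ I) (M := I.Cotangent) (R' := Localization.Away ũ)
    (S' := Localization.Away (Ideal.Quotient.mk I ũ))
    (M' := LocalizedModule (Submonoid.powers (Ideal.Quotient.mk I ũ)) I.Cotangent)
    ũ (Ideal.Quotient.mk I ũ) rfl
    (LocalizedModule.mkLinearMap (Submonoid.powers (Ideal.Quotient.mk I ũ)) I.Cotangent)
    Ideal.Quotient.mk_surjective I Ideal.mk_ker I.toCotangent I.toCotangent_surjective
    (fun x => I.toCotangent_eq_zero x) hK

end Groth.Agent.Lib.Helper22.ConormalLoc
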