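import Mathlib
import Groth.Prelude

/-!
# Differentials of the local ring of a smooth curve at a separable closed point (helper22)

* `bijective_smul_d`: `R` Noetherian local formally smooth `k`-algebra, residue field separable
  algebraic over `k`, `Ω[R/k]` free of rank one, `s` irreducible ⇒ `a ↦ a • d s` is bijective
  (`d s` is a basis of `Ω[R/k]`).
* `stalk_data`: for a `k`-scheme `X` smooth of relative dimension `n` near `x`, the local ring
  `O_{X,x}` (with `Curv2.stalkAlgebra`) is Noetherian, formally smooth over `k`, with `Ω` finite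
  free of rank `n`.
-/

set_option autoImplicit false
set_option maxHeartbeats 400000
universe u

open TensorProduct AlgebraicGeometry CategoryTheory KaehlerDifferential TopologicalSpace

namespace Groth.Agent.Lib.Helper22.CurveOmega

theorem bijective_smul_d (k R : Type u) [Field k] [CommRing R] [IsLocalRing R]
    [IsNoetherianRing R] [Algebra k R] [Algebra.FormallySmooth k R]
    [Algebra k (IsLocalRing.ResidueField R)] [IsScalarTower k R (IsLocalRing.ResidueField R)]
    [Algebra.IsSeparable k (IsLocalRing.ResidueField R)]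
    [Module.Free R Ω[R⁄k]] [Module.Finite R Ω[R⁄k]] (hrank : Module.finrank R Ω[R⁄k] = 1)
    (s : R) (hs : Irreducible s) :
    Function.Bijective (fun a : R => a • KaehlerDifferential.D k R s) := by
  classical
  let κ := IsLocalRing.ResidueField R
  haveI : Algebra.FormallyEtale k κ := Algebra.FormallyEtale.of_isSeparable k κ
  haveI : Subsingleton Ω[κ⁄k] := inferInstance
  have hsurjκ : Function.Surjective (algebraMap R κ) := IsLocalRing.residue_surjective
  have hI : RingHom.ker (algebraMap R κ) = IsLocalRing.maximalIdeal R := by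
    ext r
    rw [RingHom.mem_ker]
    exact IsLocalRing.residue_eq_zero_iff r
  have hex := KaehlerDifferential.exact_kerCotangentToTensor_mapBaseChange k R κ hsurjκ
  have hsurj : Function.Surjective (KaehlerDifferential.kerCotangentToTensor k R κ) := fun y =>
    (hex y).mp (Subsingleton.elim _ _)
  obtain ⟨l, hl⟩ := (Algebra.FormallySmooth.iff_split_injection (R := k) (P := R) (A := κ)
    hsurjκ).mp inferInstance
  have hinj : Function.Injective (KaehlerDifferential.kerCotangentToTensor k R κ) := by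
    intro a b hab
    have := congrArg l hab
    rwa [← LinearMap.comp_apply, ← LinearMap.comp_apply, hl] at this
  -- basis of Ω
  let b : Module.Basis (Fin 1) R Ω[R⁄k] := Module.finBasisOfFinrankEq R Ω[R⁄k] hrank
  have hrepr : ∀ m : Ω[R⁄k], m = (b.repr m 0) • b 0 := by
    intro m
    conv_lhs => rw [← b.sum_repr m]
    simp
  let c : R → R := fun r => b.repr (KaehlerDifferential.D k R r) 0
  have hc : ∀ r, KaehlerDifferential.D k R r = c r • b 0 := fun r => hrepr _
  have hcmul : ∀ r t, c (r * t) = r * c t + t * c r := by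
    intro r t
    show b.repr (KaehlerDifferential.D k R (r * t)) 0 = _
    rw [Derivation.leibniz, map_add, map_smul, map_smul, Finsupp.add_apply, Finsupp.smul_apply,
      Finsupp.smul_apply, smul_eq_mul, smul_eq_mul]
  have hb0 : ∀ y : R, y • b 0 = 0 → y = 0 := by
    intro y hy
    have := congrArg (fun m => b.repr m 0) hy
    simpa using this
  -- image of a class
  have himg : ∀ (t : R) (ht : t ∈ RingHom.ker (algebraMap R κ)),
      KaehlerDifferential.kerCotangentToTensor k R κ (Ideal.toCotangent _ ⟨t, ht⟩) =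
        (1 : κ) ⊗ₜ[R] (c t • b 0) := by
    intro t ht
    rw [KaehlerDifferential.kerCotangentToTensor_toCotangent, hc t]
  have hzero : ∀ y : R, y ∈ IsLocalRing.maximalIdeal R → ∀ m : Ω[R⁄k],
      (1 : κ) ⊗ₜ[R] (y • m) = 0 := by
    intro y hy m
    rw [← TensorProduct.smul_tmul, Algebra.smul_def, mul_one]
    have : algebraMap R κ y = 0 := (IsLocalRing.residue_eq_zero_iff y).mpr hy
    rw [this, TensorProduct.zero_tmul]
  have hnontriv : Nontrivial (κ ⊗[R] Ω[R⁄k]) := by
    have h1 : Module.finrank κ (κ ⊗[R] Ω[R⁄k]) = 1 := by rw [Module.finrank_baseChange, hrank]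
    exact Module.nontrivial_of_finrank_pos (R := κ) (by omega)
  -- there is t ∈ m with c t a unit
  obtain ⟨t, htm, htu⟩ : ∃ t ∈ IsLocalRing.maximalIdeal R, IsUnit (c t) := by
    by_contra hcon
    push Not at hcon
    obtain ⟨y, hy⟩ := exists_ne (0 : κ ⊗[R] Ω[R⁄k])
    apply hy
    obtain ⟨z, rfl⟩ := hsurj y
    obtain ⟨⟨t, ht⟩, rfl⟩ := Ideal.toCotangent_surjective _ z
    rw [himg t ht]
    have htm : t ∈ IsLocalRing.maximalIdeal R := hI ▸ ht
    exact hzero (c t) ((IsLocalRing.mem_maximalIdeal _).mpr (hcon t htm)) _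
  have htI : t ∈ RingHom.ker (algebraMap R κ) := hI ▸ htm
  -- m ≤ span {t}
  have hmle : IsLocalRing.maximalIdeal R ≤ Ideal.span {t} := by
    refine Submodule.le_of_le_smul_of_le_jacobson_bot (I := IsLocalRing.maximalIdeal R)
      (IsNoetherian.noetherian _) (IsLocalRing.maximalIdeal_le_jacobson ⊥) ?_
    intro u hu
    have huI : u ∈ RingHom.ker (algebraMap R κ) := hI ▸ hu
    obtain ⟨v, hv⟩ := htu
    set a : R := c u * ↑v⁻¹ with ha
    have hact : a * c t = c u := by
      rw [ha, ← hv, mul_assoc, Units.inv_mul, mul_one]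
    have hdiff0 : Ideal.toCotangent _ (⟨u, huI⟩ : RingHom.ker (algebraMap R κ)) -
        a • Ideal.toCotangent _ (⟨t, htI⟩ : RingHom.ker (algebraMap R κ)) = 0 := by
      apply hinj
      rw [map_zero, map_sub, LinearMap.map_smul, himg u huI, himg t htI,
        ← TensorProduct.tmul_smul, smul_smul, hact, sub_self]
    have hdiff : Ideal.toCotangent _ (⟨u, huI⟩ - a • ⟨t, htI⟩ :
        RingHom.ker (algebraMap R κ)) = 0 := by
      rw [map_sub, map_smul]; exact hdiff0
    rw [Ideal.toCotangent_eq_zero] at hdiff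
    have h5 : ((⟨u, huI⟩ - a • ⟨t, htI⟩ : RingHom.ker (algebraMap R κ)) : R) = u - a * t := rfl
    rw [h5, hI] at hdiff
    have hdiff' : u - a * t ∈ IsLocalRing.maximalIdeal R ^ 2 := hdiff
    have hu' : u = a * t + (u - a * t) := by ring
    rw [hu']
    refine Submodule.add_mem_sup (Ideal.mem_span_singleton'.mpr ⟨a, rfl⟩) ?_
    rw [smul_eq_mul, ← pow_two]
    exact hdiff'
  -- s = r * t with r a unit
  have hsm : s ∈ IsLocalRing.maximalIdeal R := (IsLocalRing.mem_maximalIdeal _).mpr hs.not_isUnit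
  obtain ⟨r, hr⟩ := Ideal.mem_span_singleton'.mp (hmle hsm)
  have hru : IsUnit r := by
    rcases hs.isUnit_or_isUnit hr.symm with h | h
    · exact h
    · exact absurd h ((IsLocalRing.mem_maximalIdeal _).mp htm)
  -- c s is a unit
  have hcs : IsUnit (c s) := by
    have h1 : c s = r * c t + t * c r := by rw [← hr]; exact hcmul r t
    have h2 : IsUnit (c s + -(t * c r)) := by
      rw [h1, add_neg_cancel_right]
      exact hru.mul htu
    rcases IsLocalRing.isUnit_or_isUnit_of_isUnit_add h2 with h | h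
    · exact h
    · exfalso
      have : t * c r ∈ IsLocalRing.maximalIdeal R := Ideal.mul_mem_right _ _ htm
      exact (IsLocalRing.mem_maximalIdeal _).mp this (by simpa using h)
  obtain ⟨w, hw⟩ := hcs
  constructor
  · intro a₁ a₂ h
    have h' : (a₁ - a₂) • KaehlerDifferential.D k R s = 0 := by
      rw [sub_smul]; exact sub_eq_zero.mpr h
    rw [hc s, smul_smul] at h'
    have h3 := hb0 _ h'
    rw [← hw] at h3
    have h4 : a₁ - a₂ = 0 := by
      have := congrArg (· * (↑w⁻¹ : R)) h3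
      simpa [mul_assoc] using this
    exact sub_eq_zero.mp h4
  · intro m
    refine ⟨b.repr m 0 * ↑w⁻¹, ?_⟩
    show (b.repr m 0 * ↑w⁻¹) • KaehlerDifferential.D k R s = m
    rw [hc s, smul_smul, ← hw, mul_assoc, Units.inv_mul, mul_one]
    exact (hrepr m).symm


/-- Local ring of a `k`-scheme at a point near which it is smooth of relative dimension `n`. -/
theorem stalk_data (k : Type u) [Field k] (X : Scheme.{u}) [X.Over (Spec (CommRingCat.of k))]
    (x : X) (n : ℕ)
    (hsm : ∃ U : X.Opens, x ∈ U ∧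
      SmoothOfRelativeDimension n (U.ι ≫ (X ↘ (Spec (CommRingCat.of k))))) :
    letI := Curv2.stalkAlgebra k X x
    IsNoetherianRing (X.presheaf.stalk x) ∧ Algebra.FormallySmooth k (X.presheaf.stalk x) ∧
      Module.Free (X.presheaf.stalk x) Ω[X.presheaf.stalk x⁄k] ∧
      Module.Finite (X.presheaf.stalk x) Ω[X.presheaf.stalk x⁄k] ∧
      Module.finrank (X.presheaf.stalk x) Ω[X.presheaf.stalk x⁄k] = n := by
  obtain ⟨U, hxU, hU⟩ := hsm
  obtain ⟨V₀, hV₀, W, hW, hxW, e, hstd⟩ :=
    hU.exists_isStandardSmoothOfRelativeDimension ⟨x, hxU⟩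
  haveI : Subsingleton (Spec (CommRingCat.of k)) :=
    (inferInstance : Subsingleton (PrimeSpectrum k))
  have hV₀top : V₀ = ⊤ := by
    ext y
    simp only [Opens.coe_top, Set.mem_univ, iff_true]
    have hy : y = (U.ι ≫ (X ↘ (Spec (CommRingCat.of k)))) ⟨x, hxU⟩ := Subsingleton.elim _ _
    rw [hy]
    exact e hxW
  subst hV₀top
  have hU₀ : IsAffineOpen (U.ι ''ᵁ W) := hW.image_of_isOpenImmersion U.ι
  have hxU₀ : x ∈ U.ι ''ᵁ W := ⟨⟨x, hxU⟩, hxW, rfl⟩
  have hUV : U.ι ''ᵁ W ≤ (X ↘ (Spec (CommRingCat.of k))) ⁻¹ᵁ ⊤ := le_top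
  have hmor : (U.ι ≫ (X ↘ (Spec (CommRingCat.of k)))).appLE ⊤ W e =
      (X ↘ (Spec (CommRingCat.of k))).appLE ⊤ (U.ι ''ᵁ W) hUV := by
    have e₃ : W ≤ U.ι ⁻¹ᵁ (U.ι ''ᵁ W) := fun w hw => ⟨w, hw, rfl⟩
    have h2 := Scheme.Hom.appLE_comp_appLE U.ι (X ↘ (Spec (CommRingCat.of k))) ⊤ (U.ι ''ᵁ W) W
      hUV e₃
    rw [← h2, Scheme.Opens.ι_appLE]
    have hid : X.presheaf.map (homOfLE (x := U.ι ''ᵁ W) (y := U.ι ''ᵁ W)
        (Set.image_subset_iff.mpr e₃)).op = 𝟙 _ := X.presheaf.map_id _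
    rw [hid]
    exact Category.comp_id _
  have hstd' : ((X ↘ (Spec (CommRingCat.of k))).appLE ⊤ (U.ι ''ᵁ W)
      hUV).hom.IsStandardSmoothOfRelativeDimension n := by
    have h := hstd
    rw [hmor] at h
    exact h
  have hψ := (RingHom.isStandardSmoothOfRelativeDimension_respectsIso.cancel_left_isIso
    (Scheme.ΓSpecIso (CommRingCat.of k)).inv
    ((X ↘ (Spec (CommRingCat.of k))).appLE ⊤ (U.ι ''ᵁ W) hUV)).mpr hstd'
  letI algkB : Algebra k Γ(X, U.ι ''ᵁ W) :=
    (((X ↘ (Spec (CommRingCat.of k))).appLE ⊤ (U.ι ''ᵁ W) hUV).hom.comp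
      (Scheme.ΓSpecIso (CommRingCat.of k)).inv.hom).toAlgebra
  haveI hstdA : Algebra.IsStandardSmoothOfRelativeDimension n k Γ(X, U.ι ''ᵁ W) := hψ
  letI algkR : Algebra k (X.presheaf.stalk x) := Curv2.stalkAlgebra k X x
  letI algBR : Algebra Γ(X, U.ι ''ᵁ W) (X.presheaf.stalk x) :=
    TopCat.Presheaf.algebra_section_stalk X.presheaf ⟨x, hxU₀⟩
  haveI : IsScalarTower k Γ(X, U.ι ''ᵁ W) (X.presheaf.stalk x) := by
    refine IsScalarTower.of_algebraMap_eq (fun a => ?_)
    show (X.presheaf.germ ⊤ x trivial).hom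
        ((Coh.toGlobal (X ↘ (Spec (CommRingCat.of k)))) a) =
      (X.presheaf.germ (U.ι ''ᵁ W) x hxU₀).hom
        (((X ↘ (Spec (CommRingCat.of k))).appLE ⊤ (U.ι ''ᵁ W) hUV).hom
          ((Scheme.ΓSpecIso (CommRingCat.of k)).inv.hom a))
    simp only [Coh.toGlobal, Scheme.Hom.appLE, CommRingCat.hom_comp, RingHom.coe_comp,
      Function.comp_apply, X.presheaf.germ_res_apply]
    rfl
  haveI locX : IsLocalization.AtPrime (X.presheaf.stalk x)
      (hU₀.primeIdealOf ⟨x, hxU₀⟩).asIdeal := hU₀.isLocalization_stalk ⟨x, hxU₀⟩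
  haveI : Algebra.FormallyEtale Γ(X, U.ι ''ᵁ W) (X.presheaf.stalk x) :=
    Algebra.FormallyEtale.of_isLocalization (hU₀.primeIdealOf ⟨x, hxU₀⟩).asIdeal.primeCompl
  haveI : Nontrivial Γ(X, U.ι ''ᵁ W) :=
    ⟨⟨0, 1, fun h01 => (hU₀.primeIdealOf ⟨x, hxU₀⟩).isPrime.ne_top
      ((Ideal.eq_top_iff_one _).mpr (h01 ▸ Ideal.zero_mem _))⟩⟩
  haveI : Algebra.IsStandardSmooth k Γ(X, U.ι ''ᵁ W) := hstdA.isStandardSmooth
  haveI : Algebra.FiniteType k Γ(X, U.ι ''ᵁ W) := inferInstance
  haveI : IsNoetherianRing Γ(X, U.ι ''ᵁ W) := Algebra.FiniteType.isNoetherianRing k _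
  haveI : Algebra.FormallySmooth k Γ(X, U.ι ''ᵁ W) := inferInstance
  have hrankB : Module.finrank Γ(X, U.ι ''ᵁ W) Ω[Γ(X, U.ι ''ᵁ W)⁄k] = n :=
    Module.finrank_eq_of_rank_eq
      (Algebra.IsStandardSmoothOfRelativeDimension.rank_kaehlerDifferential n)
  let e₁ : (X.presheaf.stalk x) ⊗[Γ(X, U.ι ''ᵁ W)] Ω[Γ(X, U.ι ''ᵁ W)⁄k] ≃ₗ[X.presheaf.stalk x]
      Ω[X.presheaf.stalk x⁄k] :=
    KaehlerDifferential.tensorKaehlerEquivOfFormallyEtale k Γ(X, U.ι ''ᵁ W) (X.presheaf.stalk x)
  refine ⟨IsLocalization.isNoetherianRing (hU₀.primeIdealOf ⟨x, hxU₀⟩).asIdeal.primeCompl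
    (X.presheaf.stalk x) inferInstance,
    Algebra.FormallySmooth.comp k Γ(X, U.ι ''ᵁ W) (X.presheaf.stalk x),
    Module.Free.of_equiv e₁, Module.Finite.equiv e₁, ?_⟩
  rw [← e₁.finrank_eq, Module.finrank_baseChange, hrankB]


/-- Variant of `stalk_data` starting from a standard smooth chart in `X`. -/
theorem stalk_data_of_chart (k : Type u) [Field k] (X : Scheme.{u})
    [X.Over (Spec (CommRingCat.of k))] (x : X) (n : ℕ)
    (V : (Spec (CommRingCat.of k)).Opens) (W : X.Opens) (hW : IsAffineOpen W) (hxW : x ∈ W)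
    (e : W ≤ (X ↘ (Spec (CommRingCat.of k))) ⁻¹ᵁ V)
    (hstd : ((X ↘ (Spec (CommRingCat.of k))).appLE V W e).hom.IsStandardSmoothOfRelativeDimension
      n) :
    letI := Curv2.stalkAlgebra k X x
    IsNoetherianRing (X.presheaf.stalk x) ∧ Algebra.FormallySmooth k (X.presheaf.stalk x) ∧
      Module.Free (X.presheaf.stalk x) Ω[X.presheaf.stalk x⁄k] ∧
      Module.Finite (X.presheaf.stalk x) Ω[X.presheaf.stalk x⁄k] ∧
      Module.finrank (X.presheaf.stalk x) Ω[X.presheaf.stalk x⁄k] = n := by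
  haveI : Subsingleton (Spec (CommRingCat.of k)) :=
    (inferInstance : Subsingleton (PrimeSpectrum k))
  have hVtop : V = ⊤ := by
    ext y
    simp only [Opens.coe_top, Set.mem_univ, iff_true]
    have hy : y = (X ↘ (Spec (CommRingCat.of k))) x := Subsingleton.elim _ _
    rw [hy]
    exact e hxW
  subst hVtop
  have hψ := (RingHom.isStandardSmoothOfRelativeDimension_respectsIso.cancel_left_isIso
    (Scheme.ΓSpecIso (CommRingCat.of k)).inv
    ((X ↘ (Spec (CommRingCat.of k))).appLE ⊤ W e)).mpr hstd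
  letI algkB : Algebra k Γ(X, W) :=
    (((X ↘ (Spec (CommRingCat.of k))).appLE ⊤ W e).hom.comp
      (Scheme.ΓSpecIso (CommRingCat.of k)).inv.hom).toAlgebra
  haveI hstdA : Algebra.IsStandardSmoothOfRelativeDimension n k Γ(X, W) := hψ
  letI algkR : Algebra k (X.presheaf.stalk x) := Curv2.stalkAlgebra k X x
  letI algBR : Algebra Γ(X, W) (X.presheaf.stalk x) :=
    TopCat.Presheaf.algebra_section_stalk X.presheaf ⟨x, hxW⟩
  haveI : IsScalarTower k Γ(X, W) (X.presheaf.stalk x) := by
    refine IsScalarTower.of_algebraMap_eq (fun a => ?_)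
    show (X.presheaf.germ ⊤ x trivial).hom
        ((Coh.toGlobal (X ↘ (Spec (CommRingCat.of k)))) a) =
      (X.presheaf.germ W x hxW).hom
        (((X ↘ (Spec (CommRingCat.of k))).appLE ⊤ W e).hom
          ((Scheme.ΓSpecIso (CommRingCat.of k)).inv.hom a))
    simp only [Coh.toGlobal, Scheme.Hom.appLE, CommRingCat.hom_comp, RingHom.coe_comp,
      Function.comp_apply, X.presheaf.germ_res_apply]
    rfl
  haveI locX : IsLocalization.AtPrime (X.presheaf.stalk x)
      (hW.primeIdealOf ⟨x, hxW⟩).asIdeal := hW.isLocalization_stalk ⟨x, hxW⟩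
  haveI : Algebra.FormallyEtale Γ(X, W) (X.presheaf.stalk x) :=
    Algebra.FormallyEtale.of_isLocalization (hW.primeIdealOf ⟨x, hxW⟩).asIdeal.primeCompl
  haveI : Nontrivial Γ(X, W) :=
    ⟨⟨0, 1, fun h01 => (hW.primeIdealOf ⟨x, hxW⟩).isPrime.ne_top
      ((Ideal.eq_top_iff_one _).mpr (h01 ▸ Ideal.zero_mem _))⟩⟩
  haveI : Algebra.IsStandardSmooth k Γ(X, W) := hstdA.isStandardSmooth
  haveI : Algebra.FiniteType k Γ(X, W) := inferInstance
  haveI : IsNoetherianRing Γ(X, W) := Algebra.FiniteType.isNoetherianRing k _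
  haveI : Algebra.FormallySmooth k Γ(X, W) := inferInstance
  have hrankB : Module.finrank Γ(X, W) Ω[Γ(X, W)⁄k] = n :=
    Module.finrank_eq_of_rank_eq
      (Algebra.IsStandardSmoothOfRelativeDimension.rank_kaehlerDifferential n)
  let e₁ : (X.presheaf.stalk x) ⊗[Γ(X, W)] Ω[Γ(X, W)⁄k] ≃ₗ[X.presheaf.stalk x]
      Ω[X.presheaf.stalk x⁄k] :=
    KaehlerDifferential.tensorKaehlerEquivOfFormallyEtale k Γ(X, W) (X.presheaf.stalk x)
  refine ⟨IsLocalization.isNoetherianRing (hW.primeIdealOf ⟨x, hxW⟩).asIdeal.primeCompl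
    (X.presheaf.stalk x) inferInstance,
    Algebra.FormallySmooth.comp k Γ(X, W) (X.presheaf.stalk x),
    Module.Free.of_equiv e₁, Module.Finite.equiv e₁, ?_⟩
  rw [← e₁.finrank_eq, Module.finrank_baseChange, hrankB]

/-- Under the hypotheses of `bijective_smul_d`, the maximal ideal is principal and non-zero. -/
theorem maximalIdeal_principal (k R : Type u) [Field k] [CommRing R] [IsLocalRing R]
    [IsNoetherianRing R] [Algebra k R] [Algebra.FormallySmooth k R]
    [Algebra k (IsLocalRing.ResidueField R)] [IsScalarTower k R (IsLocalRing.ResidueField R)]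
    [Algebra.IsSeparable k (IsLocalRing.ResidueField R)]
    [Module.Free R Ω[R⁄k]] [Module.Finite R Ω[R⁄k]] (hrank : Module.finrank R Ω[R⁄k] = 1) :
    ∃ t : R, IsLocalRing.maximalIdeal R = Ideal.span {t} ∧ t ≠ 0 := by
  classical
  let κ := IsLocalRing.ResidueField R
  haveI : Algebra.FormallyEtale k κ := Algebra.FormallyEtale.of_isSeparable k κ
  haveI : Subsingleton Ω[κ⁄k] := inferInstance
  have hsurjκ : Function.Surjective (algebraMap R κ) := IsLocalRing.residue_surjective
  have hI : RingHom.ker (algebraMap R κ) = IsLocalRing.maximalIdeal R := by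
    ext r
    rw [RingHom.mem_ker]
    exact IsLocalRing.residue_eq_zero_iff r
  have hex := KaehlerDifferential.exact_kerCotangentToTensor_mapBaseChange k R κ hsurjκ
  have hsurj : Function.Surjective (KaehlerDifferential.kerCotangentToTensor k R κ) := fun y =>
    (hex y).mp (Subsingleton.elim _ _)
  obtain ⟨l, hl⟩ := (Algebra.FormallySmooth.iff_split_injection (R := k) (P := R) (A := κ)
    hsurjκ).mp inferInstance
  have hinj : Function.Injective (KaehlerDifferential.kerCotangentToTensor k R κ) := by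
    intro a b hab
    have := congrArg l hab
    rwa [← LinearMap.comp_apply, ← LinearMap.comp_apply, hl] at this
  let b : Module.Basis (Fin 1) R Ω[R⁄k] := Module.finBasisOfFinrankEq R Ω[R⁄k] hrank
  have hrepr : ∀ m : Ω[R⁄k], m = (b.repr m 0) • b 0 := by
    intro m
    conv_lhs => rw [← b.sum_repr m]
    simp
  let c : R → R := fun r => b.repr (KaehlerDifferential.D k R r) 0
  have hc : ∀ r, KaehlerDifferential.D k R r = c r • b 0 := fun r => hrepr _
  have himg : ∀ (t : R) (ht : t ∈ RingHom.ker (algebraMap R κ)),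
      KaehlerDifferential.kerCotangentToTensor k R κ (Ideal.toCotangent _ ⟨t, ht⟩) =
        (1 : κ) ⊗ₜ[R] (c t • b 0) := by
    intro t ht
    rw [KaehlerDifferential.kerCotangentToTensor_toCotangent, hc t]
  have hzero : ∀ y : R, y ∈ IsLocalRing.maximalIdeal R → ∀ m : Ω[R⁄k],
      (1 : κ) ⊗ₜ[R] (y • m) = 0 := by
    intro y hy m
    rw [← TensorProduct.smul_tmul, Algebra.smul_def, mul_one]
    have : algebraMap R κ y = 0 := (IsLocalRing.residue_eq_zero_iff y).mpr hy
    rw [this, TensorProduct.zero_tmul]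
  have hnontriv : Nontrivial (κ ⊗[R] Ω[R⁄k]) := by
    have h1 : Module.finrank κ (κ ⊗[R] Ω[R⁄k]) = 1 := by rw [Module.finrank_baseChange, hrank]
    exact Module.nontrivial_of_finrank_pos (R := κ) (by omega)
  obtain ⟨t, htm, htu⟩ : ∃ t ∈ IsLocalRing.maximalIdeal R, IsUnit (c t) := by
    by_contra hcon
    push Not at hcon
    obtain ⟨y, hy⟩ := exists_ne (0 : κ ⊗[R] Ω[R⁄k])
    apply hy
    obtain ⟨z, rfl⟩ := hsurj y
    obtain ⟨⟨t, ht⟩, rfl⟩ := Ideal.toCotangent_surjective _ z
    rw [himg t ht]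
    have htm : t ∈ IsLocalRing.maximalIdeal R := hI ▸ ht
    exact hzero (c t) ((IsLocalRing.mem_maximalIdeal _).mpr (hcon t htm)) _
  have htI : t ∈ RingHom.ker (algebraMap R κ) := hI ▸ htm
  have hmle : IsLocalRing.maximalIdeal R ≤ Ideal.span {t} := by
    refine Submodule.le_of_le_smul_of_le_jacobson_bot (I := IsLocalRing.maximalIdeal R)
      (IsNoetherian.noetherian _) (IsLocalRing.maximalIdeal_le_jacobson ⊥) ?_
    intro u hu
    have huI : u ∈ RingHom.ker (algebraMap R κ) := hI ▸ hu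
    obtain ⟨v, hv⟩ := htu
    set a : R := c u * ↑v⁻¹ with ha
    have hact : a * c t = c u := by
      rw [ha, ← hv, mul_assoc, Units.inv_mul, mul_one]
    have hdiff0 : Ideal.toCotangent _ (⟨u, huI⟩ : RingHom.ker (algebraMap R κ)) -
        a • Ideal.toCotangent _ (⟨t, htI⟩ : RingHom.ker (algebraMap R κ)) = 0 := by
      apply hinj
      rw [map_zero, map_sub, LinearMap.map_smul, himg u huI, himg t htI,
        ← TensorProduct.tmul_smul, smul_smul, hact, sub_self]
    have hdiff : Ideal.toCotangent _ (⟨u, huI⟩ - a • ⟨t, htI⟩ :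
        RingHom.ker (algebraMap R κ)) = 0 := by
      rw [map_sub, map_smul]; exact hdiff0
    rw [Ideal.toCotangent_eq_zero] at hdiff
    have h5 : ((⟨u, huI⟩ - a • ⟨t, htI⟩ : RingHom.ker (algebraMap R κ)) : R) = u - a * t := rfl
    rw [h5, hI] at hdiff
    have hdiff' : u - a * t ∈ IsLocalRing.maximalIdeal R ^ 2 := hdiff
    have hu' : u = a * t + (u - a * t) := by ring
    rw [hu']
    refine Submodule.add_mem_sup (Ideal.mem_span_singleton'.mpr ⟨a, rfl⟩) ?_
    rw [smul_eq_mul, ← pow_two]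
    exact hdiff'
  refine ⟨t, le_antisymm hmle ((Ideal.span_singleton_le_iff_mem _).mpr htm), ?_⟩
  rintro rfl
  have h0 : c 0 = 0 := by
    show b.repr (KaehlerDifferential.D k R 0) 0 = 0
    simp
  rw [h0] at htu
  exact not_isUnit_zero htu

end Groth.Agent.Lib.Helper22.CurveOmega
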