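import Mathlib
import Groth.Prelude
import Groth.Agent.Lib.Helper22.SmoothRelDim
import Groth.Agent.Lib.Helper22.CurveOmega

/-!
# More on local rings of smooth curves (helper22)

* `maximalIdeal_ne_bot_of_stdSmooth`: localisation of a standard smooth `k`-algebra of relative
  dimension `n + 1` at a maximal ideal is not a field.
* `stalk_data_closed`: at a closed point of a `k`-scheme with a standard smooth chart of relative
  dimension `n + 1`, `O_{X,x}` is essentially of finite type over `k` and not a field.
* `stalkMap_stalkMap`: compatibility of `Curv2.stalkMap` with morphisms of `k`-schemes.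
* `isSeparable_of_ramified`: `A → B` local map of local `k`-algebras, `κ ⊗ Ω[B/k]` of dimension one,
  `m_A B = m_B ^ e` with `e ≥ 2`, `κ_B/κ_A` separable ⇒ `κ_B/k` separable.
-/

set_option autoImplicit false
set_option maxHeartbeats 400000
universe u

open TensorProduct AlgebraicGeometry CategoryTheory KaehlerDifferential TopologicalSpace

namespace Groth.Agent.Lib.Helper22.CurveOmega

theorem maximalIdeal_ne_bot_of_stdSmooth (k : Type u) [Field k] (n : ℕ) (B R : Type u)
    [CommRing B] [CommRing R] [Algebra k B]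
    [Algebra.IsStandardSmoothOfRelativeDimension (n + 1) k B]
    (q : Ideal B) [hq : q.IsMaximal] [Algebra B R] [IsLocalization.AtPrime R q] [IsLocalRing R] :
    IsLocalRing.maximalIdeal R ≠ ⊥ := by
  intro hbot
  have h := Groth.Agent.Lib.Helper22.SmoothRelDim.height_add_coheight_of_isStandardSmooth k (n + 1) B
    ⟨q, hq.isPrime⟩
  have hco : Order.coheight (⟨q, hq.isPrime⟩ : PrimeSpectrum B) = 0 := by
    rw [Order.coheight_eq_zero]
    intro p hp
    exact (hq.eq_of_le p.2.ne_top hp).ge
  rw [hco, add_zero] at h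
  have hnm : ¬ IsMin (⟨q, hq.isPrime⟩ : PrimeSpectrum B) := by
    rw [← Order.height_eq_zero, h]
    exact_mod_cast (Nat.succ_ne_zero n)
  rw [not_isMin_iff] at hnm
  obtain ⟨p, hp⟩ := hnm
  have hlt : p.asIdeal < q := hp
  obtain ⟨b, hbq, hbp⟩ := SetLike.exists_of_lt hlt
  have hb0 : algebraMap B R b = 0 := by
    have hmem : algebraMap B R b ∈ IsLocalRing.maximalIdeal R := by
      rw [← IsLocalization.AtPrime.map_eq_maximalIdeal q R]
      exact Ideal.mem_map_of_mem _ hbq
    rw [hbot] at hmem
    exact hmem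
  obtain ⟨s, hs⟩ := (IsLocalization.map_eq_zero_iff q.primeCompl R b).mp hb0
  have hsb : (s : B) * b ∈ p.asIdeal := by
    rw [hs]
    exact zero_mem _
  rcases p.2.mem_or_mem hsb with h1 | h1
  · exact s.2 (hlt.le h1)
  · exact hbp h1

theorem stalk_data_closed (k : Type u) [Field k] (X : Scheme.{u})
    [X.Over (Spec (CommRingCat.of k))] (x : X) (hx : IsClosed ({x} : Set X)) (n : ℕ)
    (V : (Spec (CommRingCat.of k)).Opens) (W : X.Opens) (hW : IsAffineOpen W) (hxW : x ∈ W)
    (e : W ≤ (X ↘ (Spec (CommRingCat.of k))) ⁻¹ᵁ V)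
    (hstd : ((X ↘ (Spec (CommRingCat.of k))).appLE V W e).hom.IsStandardSmoothOfRelativeDimension
      (n + 1)) :
    letI := Curv2.stalkAlgebra k X x
    Algebra.EssFiniteType k (X.presheaf.stalk x) ∧
      IsLocalRing.maximalIdeal (X.presheaf.stalk x) ≠ ⊥ := by
  haveI : Subsingleton (Spec (CommRingCat.of k)) :=
    (inferInstance : Subsingleton (PrimeSpectrum k))
  have hVtop : V = ⊤ := by
    ext y
    simp only [Opens.coe_top, Set.mem_univ, iff_true]
    have hy : y = (X ↘ (Spec (CommRingCat.of k))) x := Subsingleton.elim _ _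
    rw [hy]
    exact e hxW
  subst hVtop
  have hψ := (RingHom.isStandardSmoothOfRelativeDimension_respectsIso.cancel_left_isIso
    (Scheme.ΓSpecIso (CommRingCat.of k)).inv
    ((X ↘ (Spec (CommRingCat.of k))).appLE ⊤ W e)).mpr hstd
  letI algkB : Algebra k Γ(X, W) :=
    (((X ↘ (Spec (CommRingCat.of k))).appLE ⊤ W e).hom.comp
      (Scheme.ΓSpecIso (CommRingCat.of k)).inv.hom).toAlgebra
  haveI hstdA : Algebra.IsStandardSmoothOfRelativeDimension (n + 1) k Γ(X, W) := hψ
  letI algkR : Algebra k (X.presheaf.stalk x) := Curv2.stalkAlgebra k X x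
  letI algBR : Algebra Γ(X, W) (X.presheaf.stalk x) :=
    TopCat.Presheaf.algebra_section_stalk X.presheaf ⟨x, hxW⟩
  haveI : IsScalarTower k Γ(X, W) (X.presheaf.stalk x) := by
    refine IsScalarTower.of_algebraMap_eq (fun a => ?_)
    show (X.presheaf.germ ⊤ x trivial).hom
        ((Coh.toGlobal (X ↘ (Spec (CommRingCat.of k)))) a) =
      (X.presheaf.germ W x hxW).hom
        (((X ↘ (Spec (CommRingCat.of k))).appLE ⊤ W e).hom
          ((Scheme.ΓSpecIso (CommRingCat.of k)).inv.hom a))
    simp only [Coh.toGlobal, Scheme.Hom.appLE, CommRingCat.hom_comp, RingHom.coe_comp,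
      Function.comp_apply, X.presheaf.germ_res_apply]
    rfl
  haveI locX : IsLocalization.AtPrime (X.presheaf.stalk x)
      (hW.primeIdealOf ⟨x, hxW⟩).asIdeal := hW.isLocalization_stalk ⟨x, hxW⟩
  haveI : Algebra.IsStandardSmooth k Γ(X, W) := hstdA.isStandardSmooth
  haveI : Algebra.FiniteType k Γ(X, W) := inferInstance
  haveI : Algebra.EssFiniteType Γ(X, W) (X.presheaf.stalk x) :=
    Algebra.EssFiniteType.of_isLocalization _ (hW.primeIdealOf ⟨x, hxW⟩).asIdeal.primeCompl
  haveI hmax : (hW.primeIdealOf ⟨x, hxW⟩).asIdeal.IsMaximal :=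
    hW.primeIdealOf_isMaximal_of_isClosed ⟨x, hxW⟩ hx
  exact ⟨Algebra.EssFiniteType.comp k Γ(X, W) (X.presheaf.stalk x),
    maximalIdeal_ne_bot_of_stdSmooth k n Γ(X, W) (X.presheaf.stalk x)
      (hW.primeIdealOf ⟨x, hxW⟩).asIdeal⟩

/-- A morphism of `k`-schemes is compatible with the structure maps `k → O_{X,x}`. -/
theorem stalkMap_stalkMap (k : Type u) [Field k] {X Y : Scheme.{u}}
    (p : X ⟶ Spec (CommRingCat.of k)) (q : Y ⟶ Spec (CommRingCat.of k)) (f : X ⟶ Y)
    (hf : f ≫ q = p) (x : X) (c : k) :
    letI : X.Over (Spec (CommRingCat.of k)) := ⟨p⟩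
    letI : Y.Over (Spec (CommRingCat.of k)) := ⟨q⟩
    (f.stalkMap x).hom (Curv2.stalkMap k Y (f x) c) = Curv2.stalkMap k X x c := by
  letI : X.Over (Spec (CommRingCat.of k)) := ⟨p⟩
  letI : Y.Over (Spec (CommRingCat.of k)) := ⟨q⟩
  change (f.stalkMap x).hom ((Y.presheaf.germ ⊤ (f x) trivial).hom (Coh.toGlobal q c)) =
    (X.presheaf.germ ⊤ x trivial).hom (Coh.toGlobal p c)
  have h3 := Scheme.Hom.germ_stalkMap_apply f ⊤ x trivial (Coh.toGlobal q c)
  refine h3.trans ?_
  subst hf
  simp only [Coh.toGlobal, RingHom.comp_apply, Scheme.Hom.comp_appTop, CommRingCat.hom_comp]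
  rfl

open IsLocalRing in
/-- Ramified point with separable residue extension on a smooth curve has separable residue
field over the base. -/
theorem isSeparable_of_ramified (k A B : Type u) [Field k] [CommRing A] [CommRing B]
    [IsLocalRing A] [IsLocalRing B] [IsNoetherianRing B]
    [Algebra k A] [Algebra k B] [Algebra A B] [IsScalarTower k A B]
    [IsLocalHom (algebraMap A B)] [Algebra.EssFiniteType A B] [Algebra.EssFiniteType k B]
    [Module.Finite B Ω[B⁄k]]
    (hrank : Module.finrank (ResidueField B) (ResidueField B ⊗[B] Ω[B⁄k]) = 1)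
    (hne : maximalIdeal B ≠ ⊥) (e : ℕ) (h2 : 2 ≤ e)
    (he : (maximalIdeal A).map (algebraMap A B) = maximalIdeal B ^ e)
    [Algebra.IsSeparable (ResidueField A) (ResidueField B)]
    [Algebra k (ResidueField B)] [IsScalarTower k B (ResidueField B)] :
    Algebra.IsSeparable k (ResidueField B) := by
  classical
  have hsurjκ : Function.Surjective (algebraMap B (ResidueField B)) := residue_surjective
  have hI : RingHom.ker (algebraMap B (ResidueField B)) = maximalIdeal B := by
    ext r
    rw [RingHom.mem_ker]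
    exact residue_eq_zero_iff r
  -- Step I
  obtain ⟨t, htI, ht⟩ : ∃ (t : B) (_ : t ∈ RingHom.ker (algebraMap B (ResidueField B))),
      (1 : ResidueField B) ⊗ₜ[B] KaehlerDifferential.D k B t ≠ 0 := by
    by_contra hcon
    push Not at hcon
    apply hne
    -- Ω[κ_B/A] = 0
    haveI : Algebra.FormallyUnramified (ResidueField A) (ResidueField B) := .of_isSeparable _ _
    haveI : Algebra.FormallyUnramified A (ResidueField B) := .comp _ (ResidueField A) _
    haveI : Subsingleton Ω[ResidueField B⁄A] := inferInstance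
    have hexA := KaehlerDifferential.exact_kerCotangentToTensor_mapBaseChange A B (ResidueField B)
      hsurjκ
    have hsurjA : Function.Surjective
        (KaehlerDifferential.kerCotangentToTensor A B (ResidueField B)) := fun y =>
      (hexA y).mp (Subsingleton.elim _ _)
    haveI hsub : Subsingleton (ResidueField B ⊗[B] Ω[B⁄A]) := by
      refine subsingleton_of_forall_eq 0 fun y => ?_
      obtain ⟨z, rfl⟩ := hsurjA y
      obtain ⟨⟨t, ht⟩, rfl⟩ := Ideal.toCotangent_surjective _ z
      rw [KaehlerDifferential.kerCotangentToTensor_toCotangent]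
      have h1 := congrArg (LinearMap.lTensor (ResidueField B) (KaehlerDifferential.map k A B B))
        (hcon t ht)
      rw [LinearMap.lTensor_tmul, KaehlerDifferential.map_D, map_zero] at h1
      exact h1
    haveI : Subsingleton Ω[B⁄A] := (IsLocalRing.subsingleton_tensorProduct (R := B)).mp hsub
    haveI : Algebra.FormallyUnramified A B := (Algebra.formallyUnramified_iff A B).mpr inferInstance
    have hmap : (maximalIdeal A).map (algebraMap A B) = maximalIdeal B :=
      Algebra.FormallyUnramified.map_maximalIdeal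
    rw [hmap] at he
    have hle : maximalIdeal B ≤ maximalIdeal B • maximalIdeal B := by
      rw [smul_eq_mul, ← pow_two]
      conv_lhs => rw [he]
      exact Ideal.pow_le_pow_right h2
    exact Submodule.eq_bot_of_le_smul_of_le_jacobson_bot (maximalIdeal B) (maximalIdeal B)
      (IsNoetherian.noetherian _) hle (maximalIdeal_le_jacobson ⊥)
  -- Step II
  have hex := KaehlerDifferential.exact_kerCotangentToTensor_mapBaseChange k B (ResidueField B)
    hsurjκ
  have hv0 : KaehlerDifferential.mapBaseChange k B (ResidueField B)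
      ((1 : ResidueField B) ⊗ₜ[B] KaehlerDifferential.D k B t) = 0 := by
    refine (hex _).mpr ⟨Ideal.toCotangent _ ⟨t, htI⟩, ?_⟩
    rw [KaehlerDifferential.kerCotangentToTensor_toCotangent]
  have hspan := (finrank_eq_one_iff_of_nonzero' _ ht).mp hrank
  haveI : Subsingleton Ω[ResidueField B⁄k] := by
    refine subsingleton_of_forall_eq 0 fun y => ?_
    obtain ⟨w, rfl⟩ := KaehlerDifferential.mapBaseChange_surjective k B (ResidueField B) hsurjκ y
    obtain ⟨c, rfl⟩ := hspan w
    rw [map_smul, hv0, smul_zero]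
  haveI : Algebra.FormallyUnramified k (ResidueField B) :=
    (Algebra.formallyUnramified_iff k (ResidueField B)).mpr inferInstance
  haveI : Algebra.EssFiniteType k (ResidueField B) := Algebra.EssFiniteType.comp k B _
  exact Algebra.FormallyUnramified.isSeparable k (ResidueField B)

end Groth.Agent.Lib.Helper22.CurveOmega
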