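import Mathlib
import Groth.Prelude.Def_W4bk4grassmannianPl

/-!
# Plücker coordinates: evaluation at minors, signed coordinates
-/

namespace Groth.Agent.Lib.Helper22.Grass

open W4bk4grassmannian MvPolynomial

universe u v

variable {K : Type u} [CommRing K] {d n : ℕ}

/-- evaluation of Plücker polynomials at the minors of a matrix over a `K`-algebra. -/
noncomputable def evalL {L : Type v} [CommRing L] [Algebra K L] (M : Matrix (Fin n) (Fin d) L) :
    PlRing K d n →ₐ[K] L :=
  MvPolynomial.aeval fun θ : Idx d n => (M.submatrix θ.1 id).det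

@[simp] lemma evalL_X {L : Type v} [CommRing L] [Algebra K L] (M : Matrix (Fin n) (Fin d) L)
    (θ : Idx d n) : evalL (K := K) M (X θ) = (M.submatrix θ.1 id).det := by
  simp [evalL]

lemma evalMinors_eq_evalL (A : Matrix (Fin n) (Fin d) K) :
    evalMinors K d n A = evalL (K := K) A := rfl

/-- the sign of a permutation of `Fin d` as a power of `-1` counting inversions. -/
lemma sign_eq_neg_one_pow (σ : Equiv.Perm (Fin d)) :
    ((Equiv.Perm.sign σ : ℤˣ) : ℤ) =
      (-1) ^ (Finset.univ.filter fun p : Fin d × Fin d => p.1 < p.2 ∧ σ p.2 < σ p.1).card := by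
  rw [Equiv.Perm.sign_eq_prod_prod_Iio]
  push_cast
  have h1 : ((-1 : ℤ)) ^ (Finset.univ.filter fun p : Fin d × Fin d => p.1 < p.2 ∧ σ p.2 < σ p.1).card
      = ∏ p : Fin d × Fin d, if p.1 < p.2 ∧ σ p.2 < σ p.1 then (-1 : ℤ) else 1 := by
    rw [Finset.prod_ite, Finset.prod_const_one, mul_one, Finset.prod_const]
  rw [h1, Fintype.prod_prod_type, Finset.prod_comm]
  refine Finset.prod_congr rfl (fun j _ => ?_)
  rw [← Finset.prod_filter_mul_prod_filter_not Finset.univ (fun i => i < j)]
  have h2 : ∏ x ∈ Finset.univ.filter (fun i => ¬ i < j),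
      (if x < j ∧ σ j < σ x then (-1 : ℤ) else 1) = 1 := by
    refine Finset.prod_eq_one (fun i hi => ?_)
    rw [Finset.mem_filter] at hi
    rw [if_neg (fun h => hi.2 h.1)]
  rw [h2, mul_one]
  have h3 : Finset.univ.filter (fun i => i < j) = Finset.Iio j := by
    ext i
    simp
  rw [h3]
  refine Finset.prod_congr rfl (fun i hi => ?_)
  rw [Finset.mem_Iio] at hi
  by_cases h : σ i < σ j
  · rw [if_pos h, if_neg (fun h' => absurd h'.2 (not_lt.2 h.le))]
    simp
  · rw [if_neg h, if_pos ⟨hi, lt_of_le_of_ne (not_lt.1 h) (fun h' => hi.ne (σ.injective h').symm)⟩]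
    simp

lemma injective_of_card_image {a : Fin d → Fin n} (h : (Finset.univ.image a).card = d) :
    Function.Injective a := by
  have h' : (Finset.univ.image a).card = (Finset.univ : Finset (Fin d)).card := by
    rw [h, Finset.card_univ, Fintype.card_fin]
  have := Finset.card_image_iff.1 h'
  exact fun x y hxy => this (Finset.mem_coe.2 (Finset.mem_univ x)) (Finset.mem_coe.2 (Finset.mem_univ y)) hxy

/-- the sorting permutation of an injective tuple. -/
lemma exists_sort_perm (a : Fin d → Fin n) (h : (Finset.univ.image a).card = d) :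
    ∃ σ : Equiv.Perm (Fin d), ∀ t, a t = (sortIdx d n a h).1 (σ t) := by
  classical
  have hinj := injective_of_card_image h
  set o := (Finset.univ.image a).orderIsoOfFin h with ho
  let f : Fin d → Fin d := fun t => o.symm ⟨a t, Finset.mem_image_of_mem a (Finset.mem_univ t)⟩
  have hf : Function.Injective f := by
    intro x y hxy
    have := o.symm.injective hxy
    exact hinj (Subtype.ext_iff.1 this)
  refine ⟨Equiv.ofBijective f (Finite.injective_iff_bijective.1 hf), fun t => ?_⟩
  change a t = (Finset.univ.image a).orderEmbOfFin h (f t)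
  rw [← Finset.coe_orderIsoOfFin_apply]
  simp only [f, ← ho, OrderIso.apply_symm_apply]

variable {L : Type v} [CommRing L] [Algebra K L] (M : Matrix (Fin n) (Fin d) L)

theorem evalL_coord (a : Fin d → Fin n) :
    evalL (K := K) M (coord K d n a) = (M.submatrix a id).det := by
  classical
  unfold coord
  split_ifs with h
  · obtain ⟨σ, hσ⟩ := exists_sort_perm a h
    have hsub : M.submatrix a id = (M.submatrix (sortIdx d n a h).1 id).submatrix σ id := by
      ext x y
      simp only [Matrix.submatrix_apply, id]
      rw [hσ x]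
    rw [map_mul, map_pow, map_neg, map_one, evalL_X, hsub, Matrix.det_permute]
    congr 1
    have hcount : invCount d n a =
        (Finset.univ.filter fun p : Fin d × Fin d => p.1 < p.2 ∧ σ p.2 < σ p.1).card := by
      unfold invCount
      congr 1
      ext p
      simp only [Finset.mem_filter, Finset.mem_univ, true_and]
      rw [hσ p.1, hσ p.2, (sortIdx d n a h).2.lt_iff_lt]
    rw [hcount]
    have := congrArg (Int.cast (R := L)) (sign_eq_neg_one_pow σ)
    push_cast at this
    rw [← this]
  · rw [map_zero]
    have hninj : ¬ Function.Injective a := by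
      intro hinj
      apply h
      rw [Finset.card_image_of_injective _ hinj, Finset.card_univ, Fintype.card_fin]
    rw [Function.Injective] at hninj
    push Not at hninj
    obtain ⟨x, y, hxy, hne⟩ := hninj
    exact (Matrix.det_zero_of_row_eq hne (by
      ext t
      simp only [Matrix.submatrix_apply, id]
      rw [hxy])).symm

end Groth.Agent.Lib.Helper22.Grass
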