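import Mathlib
import Groth.Agent.Lib.Helper22.GrassCoord

/-!
# The shuffle (Plücker) relations hold at the minors of any matrix
-/

namespace Groth.Agent.Lib.Helper22.Grass

open W4bk4grassmannian MvPolynomial

universe u v

section Adjacent

variable {R : Type*} [CommRing R] {V N : Type*} [AddCommGroup V] [Module R V]
  [AddCommGroup N] [Module R N]

/-- A multilinear map vanishing on tuples with two equal adjacent entries changes sign
under an adjacent transposition. -/
lemma map_swap_adjacent {m : ℕ} (f : MultilinearMap R (fun _ : Fin m => V) N)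
    (h : ∀ (v : Fin m → V) (p q : Fin m), p.val + 1 = q.val → v p = v q → f v = 0)
    (v : Fin m → V) (p q : Fin m) (hpq : p.val + 1 = q.val) :
    f (v ∘ Equiv.swap p q) = - f v := by
  have hne : p ≠ q := by
    intro hh
    rw [hh] at hpq
    omega
  have h0 : f (Function.update (Function.update v p (v p + v q)) q (v p + v q)) = 0 := by
    apply h _ p q hpq
    rw [Function.update_self, Function.update_of_ne hne, Function.update_self]
  have h1 : ∀ a : V, f (Function.update (Function.update v p a) q a) = 0 := by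
    intro a
    apply h _ p q hpq
    rw [Function.update_self, Function.update_of_ne hne, Function.update_self]
  have hb : ∀ a b b' : V, f (Function.update (Function.update v p a) q (b + b')) =
      f (Function.update (Function.update v p a) q b) +
        f (Function.update (Function.update v p a) q b') := fun a b b' => f.map_update_add _ _ _ _
  have ha : ∀ a a' b : V, f (Function.update (Function.update v p (a + a')) q b) =
      f (Function.update (Function.update v p a) q b) +
        f (Function.update (Function.update v p a') q b) := by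
    intro a a' b
    have hc : ∀ a b : V, Function.update (Function.update v p a) q b =
        Function.update (Function.update v q b) p a := fun a b => Function.update_comm hne a b v
    rw [hc, f.map_update_add, ← hc, ← hc]
  rw [hb, ha, ha, h1 (v p), h1 (v q), zero_add, add_zero] at h0
  rw [Equiv.comp_swap_eq_update]
  have e1 : Function.update (Function.update v p (v p)) q (v q) = v := by
    rw [Function.update_eq_self, Function.update_eq_self]
  rw [e1, Function.update_comm hne] at h0
  exact eq_neg_of_add_eq_zero_left h0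

lemma eq_zero_of_adjacent {m : ℕ} (f : MultilinearMap R (fun _ : Fin m => V) N)
    (h : ∀ (v : Fin m → V) (p q : Fin m), p.val + 1 = q.val → v p = v q → f v = 0) :
    ∀ (k : ℕ) (v : Fin m → V) (p q : Fin m), p.val + 1 + k = q.val → v p = v q → f v = 0
  | 0, v, p, q, hpq, hv => h v p q hpq hv
  | k + 1, v, p, q, hpq, hv => by
    have hq : q.val - 1 < m := by have := q.isLt; omega
    set q' : Fin m := ⟨q.val - 1, hq⟩ with hq'
    have hq'q : q'.val + 1 = q.val := by simp only [hq']; omega
    have hs := map_swap_adjacent f h v q' q hq'q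
    have hne1 : p ≠ q' := by
      intro hh
      have := congrArg Fin.val hh
      simp only [hq'] at this
      omega
    have hne2 : p ≠ q := by
      intro hh
      have := congrArg Fin.val hh
      omega
    have h2 : f (v ∘ Equiv.swap q' q) = 0 := by
      apply eq_zero_of_adjacent f h k (v ∘ Equiv.swap q' q) p q'
      · simp only [hq']; omega
      · simp only [Function.comp_apply]
        rw [Equiv.swap_apply_of_ne_of_ne hne1 hne2, Equiv.swap_apply_left]
        exact hv
    rw [h2] at hs
    exact neg_eq_zero.1 hs.symm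

/-- A multilinear map on `Fin m → V` vanishing on tuples with two equal adjacent entries is
alternating. -/
def altOfAdjacent {m : ℕ} (f : MultilinearMap R (fun _ : Fin m => V) N)
    (h : ∀ (v : Fin m → V) (p q : Fin m), p.val + 1 = q.val → v p = v q → f v = 0) :
    V [⋀^Fin m]→ₗ[R] N :=
  { f with
    map_eq_zero_of_eq' := by
      intro v i j hv hij
      rcases lt_or_gt_of_ne hij with hlt | hlt
      · exact eq_zero_of_adjacent f h (j.val - i.val - 1) v i j
          (by have := Fin.lt_def.1 hlt; omega) hv
      · exact eq_zero_of_adjacent f h (i.val - j.val - 1) v j i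
          (by have := Fin.lt_def.1 hlt; omega) hv.symm }

@[simp] lemma altOfAdjacent_apply {m : ℕ} (f : MultilinearMap R (fun _ : Fin m => V) N)
    (h : ∀ (v : Fin m → V) (p q : Fin m), p.val + 1 = q.val → v p = v q → f v = 0)
    (v : Fin m → V) : altOfAdjacent f h v = f v := rfl

/-- An alternating form in `d + 1` variables on `L^d` vanishes. -/
lemma alt_eq_zero_of_card {L : Type*} [CommRing L] {d : ℕ}
    (g : (Fin d → L) [⋀^Fin (d + 1)]→ₗ[L] L) : g = 0 := by
  refine Module.Basis.ext_alternating (Pi.basisFun L (Fin d)) (fun w hw => ?_)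
  exfalso
  have := Fintype.card_le_of_injective w hw
  simp at this

end Adjacent

section Rows

variable {L : Type*} [CommRing L] {d : ℕ}

/-- a `d × d` matrix some of whose rows are taken from `v` (through `e`), the others from `c`. -/
def rowsOf (P : Fin d → Prop) [DecidablePred P] (e : {t // P t} → Fin (d + 1))
    (c : Fin d → Fin d → L) (v : Fin (d + 1) → Fin d → L) : Matrix (Fin d) (Fin d) L :=
  Matrix.of fun t => if h : P t then v (e ⟨t, h⟩) else c t

variable {P : Fin d → Prop} [DecidablePred P] {e : {t // P t} → Fin (d + 1)}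
  {c : Fin d → Fin d → L}

lemma rowsOf_update_mem (he : Function.Injective e) (t₀ : {t // P t})
    (v : Fin (d + 1) → Fin d → L) (w : Fin d → L) :
    rowsOf P e c (Function.update v (e t₀) w) = (rowsOf P e c v).updateRow t₀.1 w := by
  ext t j
  by_cases ht : t = t₀.1
  · subst ht
    rw [Matrix.updateRow_self]
    simp only [rowsOf, Matrix.of_apply]
    rw [dif_pos t₀.2]
    simp
  · rw [Matrix.updateRow_ne ht]
    simp only [rowsOf, Matrix.of_apply]
    by_cases hP : P t
    · rw [dif_pos hP, dif_pos hP, Function.update_of_ne]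
      intro h
      exact ht (congrArg Subtype.val (he h))
    · rw [dif_neg hP, dif_neg hP]

lemma rowsOf_update_notMem (k : Fin (d + 1)) (hk : ∀ t, e t ≠ k)
    (v : Fin (d + 1) → Fin d → L) (w : Fin d → L) :
    rowsOf P e c (Function.update v k w) = rowsOf P e c v := by
  ext t j
  simp only [rowsOf, Matrix.of_apply]
  by_cases hP : P t
  · rw [dif_pos hP, dif_pos hP, Function.update_of_ne (hk _)]
  · rw [dif_neg hP, dif_neg hP]

lemma det_rowsOf_eq_zero (t₁ t₂ : {t // P t}) (hne : t₁ ≠ t₂)
    (v : Fin (d + 1) → Fin d → L) (hv : v (e t₁) = v (e t₂)) :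
    (rowsOf P e c v).det = 0 := by
  refine Matrix.det_zero_of_row_eq (i := t₁.1) (j := t₂.1) (fun h => hne (Subtype.ext h)) ?_
  ext j
  simp only [rowsOf, Matrix.of_apply]
  rw [dif_pos t₁.2, dif_pos t₂.2, hv]

lemma rowsOf_congr {e' : {t // P t} → Fin (d + 1)} (v : Fin (d + 1) → Fin d → L)
    (h : ∀ t, v (e t) = v (e' t)) : rowsOf P e c v = rowsOf P e' c v := by
  ext t j
  simp only [rowsOf, Matrix.of_apply]
  by_cases hP : P t
  · rw [dif_pos hP, dif_pos hP, h]
  · rw [dif_neg hP, dif_neg hP]

end Rows

section Emb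

/-- a strictly monotone map `Fin a → Fin b` satisfies `t ≤ f t`. -/
lemma le_strictMono_apply {a b : ℕ} (f : Fin a → Fin b) (hf : StrictMono f) :
    ∀ (k : ℕ) (hk : k < a), k ≤ (f ⟨k, hk⟩).val
  | 0, _ => Nat.zero_le _
  | k + 1, hk => by
    have h1 := le_strictMono_apply f hf k (by omega)
    have h2 : f ⟨k, by omega⟩ < f ⟨k + 1, hk⟩ := hf (by simp [Fin.lt_def])
    have h3 := Fin.lt_def.1 h2
    omega

lemma sum_val_ge {m k : ℕ} (A : Finset (Fin m)) (hA : A.card = k) :
    k * (k - 1) / 2 ≤ A.sum fun a => a.val := by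
  have h1 : A.sum (fun a => a.val) = ∑ s : Fin k, (A.orderEmbOfFin hA s).val := by
    conv_lhs => rw [← Finset.map_orderEmbOfFin_univ A hA]
    rw [Finset.sum_map]
    rfl
  rw [h1, ← Finset.sum_range_id, ← Fin.sum_univ_eq_sum_range (fun i => i) k]
  refine Finset.sum_le_sum (fun s _ => ?_)
  exact le_strictMono_apply _ (A.orderEmbOfFin hA).strictMono s.val s.isLt

lemma map_swap_compl {m : ℕ} (A : Finset (Fin m)) (p q : Fin m) :
    (A.map (Equiv.swap p q).toEmbedding)ᶜ = Aᶜ.map (Equiv.swap p q).toEmbedding := by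
  ext k
  simp only [Finset.mem_compl, Finset.mem_map_equiv]

/-- the increasing enumeration of the image of `S` under an adjacent transposition moving `p ∈ S`
to `q ∉ S`. -/
lemma orderEmbOfFin_map_swap {m k : ℕ} (S : Finset (Fin m)) (hS : S.card = k) (p q : Fin m)
    (hp : p ∈ S) (hq : q ∉ S) (hadj : p.val + 1 = q.val ∨ q.val + 1 = p.val)
    (hS' : (S.map (Equiv.swap p q).toEmbedding).card = k) (s : Fin k) :
    (S.map (Equiv.swap p q).toEmbedding).orderEmbOfFin hS' s =
      Equiv.swap p q (S.orderEmbOfFin hS s) := by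
  have key := Finset.orderEmbOfFin_unique (s := S.map (Equiv.swap p q).toEmbedding) hS'
    (f := fun s => Equiv.swap p q (S.orderEmbOfFin hS s)) ?_ ?_
  · exact (congrFun key s).symm
  · intro x
    rw [Finset.mem_map_equiv, Equiv.symm_swap, Equiv.swap_apply_self]
    exact Finset.orderEmbOfFin_mem S hS x
  · intro s s' hss'
    have hab : S.orderEmbOfFin hS s < S.orderEmbOfFin hS s' := (S.orderEmbOfFin hS).strictMono hss'
    have ha := Finset.orderEmbOfFin_mem S hS s
    have hb := Finset.orderEmbOfFin_mem S hS s'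
    set a := S.orderEmbOfFin hS s
    set b := S.orderEmbOfFin hS s'
    have haq : a ≠ q := fun h => hq (h ▸ ha)
    have hbq : b ≠ q := fun h => hq (h ▸ hb)
    have haq' : a.val ≠ q.val := fun h => haq (Fin.ext h)
    have hbq' : b.val ≠ q.val := fun h => hbq (Fin.ext h)
    have hab' := Fin.lt_def.1 hab
    show Equiv.swap p q a < Equiv.swap p q b
    by_cases hap : a = p
    · have hbp : b ≠ p := fun h => by rw [hap, h] at hab; exact lt_irrefl _ hab
      rw [hap, Equiv.swap_apply_left, Equiv.swap_apply_of_ne_of_ne hbp hbq, Fin.lt_def]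
      rw [hap] at hab'
      omega
    · by_cases hbp : b = p
      · rw [hbp, Equiv.swap_apply_left, Equiv.swap_apply_of_ne_of_ne hap haq, Fin.lt_def]
        rw [hbp] at hab'
        omega
      · rw [Equiv.swap_apply_of_ne_of_ne hap haq, Equiv.swap_apply_of_ne_of_ne hbp hbq]
        exact hab

lemma sum_map_swap {m : ℕ} (A : Finset (Fin m)) (p q : Fin m) (hp : p ∈ A) (hq : q ∉ A) :
    ((A.map (Equiv.swap p q).toEmbedding).sum fun a => a.val) + p.val =
      (A.sum fun a => a.val) + q.val := by
  rw [Finset.sum_map, ← Finset.add_sum_erase A _ hp, ← Finset.add_sum_erase A (fun a => a.val) hp]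
  have : ∀ a ∈ A.erase p, ((Equiv.swap p q).toEmbedding a).val = a.val := by
    intro a ha
    have h1 : a ≠ p := (Finset.mem_erase.1 ha).1
    have h2 : a ≠ q := fun h => hq (h ▸ (Finset.mem_erase.1 ha).2)
    simp only [Equiv.coe_toEmbedding]
    rw [Equiv.swap_apply_of_ne_of_ne h1 h2]
  rw [Finset.sum_congr rfl this]
  simp only [Equiv.coe_toEmbedding, Equiv.swap_apply_left]
  have : (A.erase p).sum Fin.val = ∑ x ∈ A.erase p, x.val := rfl
  omega

end Emb

section Shuffle

variable {L : Type*} [CommRing L] {d : ℕ}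

lemma compl_card (r : Fin d) (A : Finset (Fin (d + 1))) (hA : A.card = r.val + 1) :
    Aᶜ.card = d - r.val := by
  rw [Finset.card_compl, hA, Fintype.card_fin]; omega

/-- the positions `≤ r` are filled through the increasing enumeration of `A`. -/
def eI (r : Fin d) (A : Finset (Fin (d + 1))) (hA : A.card = r.val + 1) :
    {t : Fin d // t.val ≤ r.val} → Fin (d + 1) :=
  fun t => A.orderEmbOfFin hA ⟨t.1.val, Nat.lt_succ_of_le t.2⟩

/-- the positions `≥ r` are filled through the increasing enumeration of `Aᶜ`. -/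
def eJ (r : Fin d) (A : Finset (Fin (d + 1))) (hA : A.card = r.val + 1) :
    {t : Fin d // r.val ≤ t.val} → Fin (d + 1) :=
  fun t => Aᶜ.orderEmbOfFin (compl_card r A hA)
    ⟨t.1.val - r.val, by have := t.1.isLt; have := t.2; omega⟩

variable (r : Fin d) (A : Finset (Fin (d + 1))) (hA : A.card = r.val + 1)

lemma eI_injective : Function.Injective (eI r A hA) := by
  intro t t' h
  have := (A.orderEmbOfFin hA).injective h
  exact Subtype.ext (Fin.ext (Fin.mk.inj_iff.1 this))

lemma eJ_injective : Function.Injective (eJ r A hA) := by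
  intro t t' h
  have := (Aᶜ.orderEmbOfFin (compl_card r A hA)).injective h
  have h2 := Fin.mk.inj_iff.1 this
  have := t.2
  have := t'.2
  exact Subtype.ext (Fin.ext (by omega))

lemma eI_mem (t) : eI r A hA t ∈ A := Finset.orderEmbOfFin_mem A hA _

lemma eJ_notMem (t) : eJ r A hA t ∉ A :=
  Finset.mem_compl.1 (Finset.orderEmbOfFin_mem Aᶜ (compl_card r A hA) _)

lemma exists_eI (k : Fin (d + 1)) (hk : k ∈ A) : ∃ t, eI r A hA t = k := by
  set s := (A.orderIsoOfFin hA).symm ⟨k, hk⟩ with hs
  have hs2 : s.val ≤ r.val := Nat.le_of_lt_succ s.isLt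
  refine ⟨⟨⟨s.val, lt_of_le_of_lt hs2 r.isLt⟩, hs2⟩, ?_⟩
  show A.orderEmbOfFin hA ⟨s.val, _⟩ = k
  rw [← Finset.coe_orderIsoOfFin_apply]
  simp [hs]

lemma exists_eJ (k : Fin (d + 1)) (hk : k ∉ A) : ∃ t, eJ r A hA t = k := by
  have hk' : k ∈ Aᶜ := Finset.mem_compl.2 hk
  set s := (Aᶜ.orderIsoOfFin (compl_card r A hA)).symm ⟨k, hk'⟩ with hs
  have hs2 : s.val < d - r.val := s.isLt
  refine ⟨⟨⟨s.val + r.val, by have := r.isLt; omega⟩, by simp⟩, ?_⟩
  show Aᶜ.orderEmbOfFin (compl_card r A hA) ⟨s.val + r.val - r.val, _⟩ = k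
  rw [← Finset.coe_orderIsoOfFin_apply]
  simp [hs]

/-- one term of the shuffle form. -/
def sTerm (r : Fin d) (x y : Fin d → Fin d → L) (A : Finset (Fin (d + 1)))
    (v : Fin (d + 1) → Fin d → L) : L :=
  if hA : A.card = r.val + 1 then
    (-1 : L) ^ shuffleSign r A * (rowsOf _ (eI r A hA) x v).det * (rowsOf _ (eJ r A hA) y v).det
  else 0

lemma sTerm_update_add (x y : Fin d → Fin d → L) (v : Fin (d + 1) → Fin d → L) (k : Fin (d + 1))
    (a b : Fin d → L) :
    sTerm r x y A (Function.update v k (a + b)) =
      sTerm r x y A (Function.update v k a) + sTerm r x y A (Function.update v k b) := by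
  unfold sTerm
  split_ifs with hA
  · by_cases hk : k ∈ A
    · obtain ⟨t, rfl⟩ := exists_eI r A hA k hk
      have hn : ∀ t', eJ r A hA t' ≠ eI r A hA t := fun t' h => eJ_notMem r A hA t' (h ▸ hk)
      rw [rowsOf_update_mem (eI_injective r A hA), rowsOf_update_mem (eI_injective r A hA),
        rowsOf_update_mem (eI_injective r A hA), rowsOf_update_notMem _ hn,
        rowsOf_update_notMem _ hn, rowsOf_update_notMem _ hn, Matrix.det_updateRow_add]
      ring
    · obtain ⟨t, rfl⟩ := exists_eJ r A hA k hk
      have hn : ∀ t', eI r A hA t' ≠ eJ r A hA t := fun t' h => hk (h ▸ eI_mem r A hA t')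
      rw [rowsOf_update_mem (eJ_injective r A hA), rowsOf_update_mem (eJ_injective r A hA),
        rowsOf_update_mem (eJ_injective r A hA), rowsOf_update_notMem _ hn,
        rowsOf_update_notMem _ hn, rowsOf_update_notMem _ hn, Matrix.det_updateRow_add]
      ring
  · rw [add_zero]

lemma sTerm_update_smul (x y : Fin d → Fin d → L) (v : Fin (d + 1) → Fin d → L) (k : Fin (d + 1))
    (c : L) (a : Fin d → L) :
    sTerm r x y A (Function.update v k (c • a)) = c • sTerm r x y A (Function.update v k a) := by
  unfold sTerm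
  split_ifs with hA
  · by_cases hk : k ∈ A
    · obtain ⟨t, rfl⟩ := exists_eI r A hA k hk
      have hn : ∀ t', eJ r A hA t' ≠ eI r A hA t := fun t' h => eJ_notMem r A hA t' (h ▸ hk)
      rw [rowsOf_update_mem (eI_injective r A hA), rowsOf_update_mem (eI_injective r A hA),
        rowsOf_update_notMem _ hn, rowsOf_update_notMem _ hn, Matrix.det_updateRow_smul,
        smul_eq_mul]
      ring
    · obtain ⟨t, rfl⟩ := exists_eJ r A hA k hk
      have hn : ∀ t', eI r A hA t' ≠ eJ r A hA t := fun t' h => hk (h ▸ eI_mem r A hA t')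
      rw [rowsOf_update_mem (eJ_injective r A hA), rowsOf_update_mem (eJ_injective r A hA),
        rowsOf_update_notMem _ hn, rowsOf_update_notMem _ hn, Matrix.det_updateRow_smul,
        smul_eq_mul]
      ring
  · rw [smul_zero]

/-- the shuffle form as a multilinear map in the moving rows. -/
def sForm (r : Fin d) (x y : Fin d → Fin d → L) :
    MultilinearMap L (fun _ : Fin (d + 1) => Fin d → L) L :=
  MultilinearMap.mk' (fun v => ∑ A : Finset (Fin (d + 1)), sTerm r x y A v)
    (fun v k a b => by
      simp only [sTerm_update_add, Finset.sum_add_distrib])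
    (fun v k c a => by
      simp only [sTerm_update_smul, Finset.smul_sum])

end Shuffle

section Vanish

variable {L : Type*} [CommRing L] {d : ℕ} (r : Fin d) (x y : Fin d → Fin d → L)

lemma orderEmbOfFin_congr {α : Type*} [LinearOrder α] {S S' : Finset α} (h : S = S') {k : ℕ}
    (hS : S.card = k) (hS' : S'.card = k) (s : Fin k) :
    S.orderEmbOfFin hS s = S'.orderEmbOfFin hS' s := by
  subst h
  rfl

lemma sTerm_eq_zero_of_iff (A : Finset (Fin (d + 1))) (v : Fin (d + 1) → Fin d → L)
    (p q : Fin (d + 1)) (hpq : p ≠ q) (hv : v p = v q) (h : p ∈ A ↔ q ∈ A) :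
    sTerm r x y A v = 0 := by
  unfold sTerm
  split_ifs with hA
  · by_cases hp : p ∈ A
    · obtain ⟨t₁, h₁⟩ := exists_eI r A hA p hp
      obtain ⟨t₂, h₂⟩ := exists_eI r A hA q (h.1 hp)
      rw [det_rowsOf_eq_zero t₁ t₂ (fun hh => hpq (by rw [← h₁, ← h₂, hh])) v
        (by rw [h₁, h₂]; exact hv)]
      ring
    · obtain ⟨t₁, h₁⟩ := exists_eJ r A hA p hp
      obtain ⟨t₂, h₂⟩ := exists_eJ r A hA q (fun hq => hp (h.2 hq))
      rw [det_rowsOf_eq_zero (e := eJ r A hA) t₁ t₂ (fun hh => hpq (by rw [← h₁, ← h₂, hh])) v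
        (by rw [h₁, h₂]; exact hv)]
      ring
  · rfl

lemma sTerm_map_swap (A : Finset (Fin (d + 1))) (v : Fin (d + 1) → Fin d → L)
    (p q : Fin (d + 1)) (hadj : p.val + 1 = q.val ∨ q.val + 1 = p.val) (hv : v p = v q)
    (hp : p ∈ A) (hq : q ∉ A) :
    sTerm r x y (A.map (Equiv.swap p q).toEmbedding) v = - sTerm r x y A v := by
  have hsw : ∀ a, v (Equiv.swap p q a) = v a := by
    intro a
    by_cases h1 : a = p
    · rw [h1, Equiv.swap_apply_left, hv]
    · by_cases h2 : a = q
      · rw [h2, Equiv.swap_apply_right, hv]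
      · rw [Equiv.swap_apply_of_ne_of_ne h1 h2]
  unfold sTerm
  by_cases hA : A.card = r.val + 1
  · have hA' : (A.map (Equiv.swap p q).toEmbedding).card = r.val + 1 := by
      rw [Finset.card_map]; exact hA
    rw [dif_pos hA, dif_pos hA']
    have hI : rowsOf _ (eI r _ hA') x v = rowsOf _ (eI r A hA) x v := by
      refine rowsOf_congr v (fun t => ?_)
      unfold eI
      rw [orderEmbOfFin_map_swap A hA p q hp hq hadj hA', hsw]
    have hJ : rowsOf _ (eJ r _ hA') y v = rowsOf _ (eJ r A hA) y v := by
      refine rowsOf_congr v (fun t => ?_)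
      unfold eJ
      have hc : (A.map (Equiv.swap p q).toEmbedding)ᶜ = Aᶜ.map (Equiv.swap q p).toEmbedding := by
        rw [map_swap_compl, Equiv.swap_comm]
      have hS' : (Aᶜ.map (Equiv.swap q p).toEmbedding).card = d - r.val := by
        rw [Finset.card_map]; exact compl_card r A hA
      rw [orderEmbOfFin_congr hc (compl_card r _ hA') hS',
        orderEmbOfFin_map_swap Aᶜ (compl_card r A hA) q p (Finset.mem_compl.2 hq)
          (fun h => (Finset.mem_compl.1 h) hp) hadj.symm hS', Equiv.swap_comm, hsw]
    rw [hI, hJ]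
    have hsum := sum_map_swap A p q hp hq
    have hb1 := sum_val_ge A hA
    have hb2 := sum_val_ge _ hA'
    have hsign : (-1 : L) ^ shuffleSign r (A.map (Equiv.swap p q).toEmbedding) =
        - (-1 : L) ^ shuffleSign r A := by
      unfold shuffleSign
      have e1 : (r.val + 1) * (r.val + 1 - 1) / 2 = r.val * (r.val + 1) / 2 := by
        rw [Nat.add_sub_cancel, mul_comm]
      rw [e1] at hb1 hb2
      rcases hadj with h | h
      · have : (A.map (Equiv.swap p q).toEmbedding).sum (fun a => a.val) - r.val * (r.val + 1) / 2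
            = (A.sum (fun a => a.val) - r.val * (r.val + 1) / 2) + 1 := by omega
        rw [this, pow_succ]
        ring
      · have : A.sum (fun a => a.val) - r.val * (r.val + 1) / 2
            = ((A.map (Equiv.swap p q).toEmbedding).sum (fun a => a.val)
                - r.val * (r.val + 1) / 2) + 1 := by omega
        rw [this, pow_succ]
        ring
    rw [hsign]
    ring
  · have hA' : ¬ (A.map (Equiv.swap p q).toEmbedding).card = r.val + 1 := by
      rw [Finset.card_map]; exact hA
    rw [dif_neg hA, dif_neg hA', neg_zero]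

lemma sForm_adjacent (v : Fin (d + 1) → Fin d → L) (p q : Fin (d + 1))
    (hpq : p.val + 1 = q.val) (hv : v p = v q) : sForm r x y v = 0 := by
  have hne : p ≠ q := by
    intro hh
    rw [hh] at hpq
    omega
  show ∑ A : Finset (Fin (d + 1)), sTerm r x y A v = 0
  have hgg : ∀ A : Finset (Fin (d + 1)),
      (A.map (Equiv.swap p q).toEmbedding).map (Equiv.swap p q).toEmbedding = A := by
    intro A
    ext k
    simp only [Finset.mem_map_equiv, Equiv.symm_swap, Equiv.swap_apply_self]
  have hmemp : ∀ A : Finset (Fin (d + 1)),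
      p ∈ A.map (Equiv.swap p q).toEmbedding ↔ q ∈ A := by
    intro A
    rw [Finset.mem_map_equiv, Equiv.symm_swap, Equiv.swap_apply_left]
  have hmemq : ∀ A : Finset (Fin (d + 1)),
      q ∈ A.map (Equiv.swap p q).toEmbedding ↔ p ∈ A := by
    intro A
    rw [Finset.mem_map_equiv, Equiv.symm_swap, Equiv.swap_apply_right]
  refine Finset.sum_ninvolution (fun A => A.map (Equiv.swap p q).toEmbedding) ?_ ?_
    (fun _ => Finset.mem_univ _) hgg
  · intro A
    by_cases h : p ∈ A ↔ q ∈ A
    · rw [sTerm_eq_zero_of_iff r x y A v p q hne hv h,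
        sTerm_eq_zero_of_iff r x y _ v p q hne hv (by rw [hmemp, hmemq]; exact h.symm), add_zero]
    · by_cases hp : p ∈ A
      · have hq : q ∉ A := fun hq => h ⟨fun _ => hq, fun _ => hp⟩
        rw [sTerm_map_swap r x y A v p q (Or.inl hpq) hv hp hq]
        ring
      · have hq : q ∈ A := by
          by_contra hq
          exact h ⟨fun h' => absurd h' hp, fun h' => absurd h' hq⟩
        have := sTerm_map_swap r x y (A.map (Equiv.swap p q).toEmbedding) v p q (Or.inl hpq)
          hv ((hmemp A).2 hq) (fun h' => hp ((hmemq A).1 h'))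
        rw [hgg] at this
        rw [this]
        ring
  · intro A hA hfix
    apply hA
    refine sTerm_eq_zero_of_iff r x y A v p q hne hv ?_
    rw [← hmemq A, hfix]

/-- the shuffle form vanishes identically. -/
theorem sForm_eq_zero (v : Fin (d + 1) → Fin d → L) : sForm r x y v = 0 := by
  have h := alt_eq_zero_of_card (altOfAdjacent (sForm r x y)
    (fun v p q hpq hv => sForm_adjacent r x y v p q hpq hv))
  have := congrArg (fun g => g v) h
  simpa using this

end Vanish

section Main

variable {K : Type u} [CommRing K] {d n : ℕ} {L : Type v} [CommRing L] [Algebra K L]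
  (M : Matrix (Fin n) (Fin d) L)

lemma evalL_shuffleTerm (i j : Idx d n) (r : Fin d) (A : Finset (Fin (d + 1))) :
    evalL (K := K) M (shuffleTerm K i j r A) =
      sTerm r (fun t => M (i.1 t)) (fun t => M (j.1 t)) A (fun k => M (movingRows i j r k)) := by
  unfold shuffleTerm sTerm
  split_ifs with hA
  · rw [map_mul, map_mul, map_pow, map_neg, map_one, evalL_coord, evalL_coord]
    congr 2
    · congr 1
      ext t c
      simp only [Matrix.submatrix_apply, id, rowsOf, Matrix.of_apply, shuffleI, eI]
      split_ifs <;> rfl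
    · congr 1
      ext t c
      simp only [Matrix.submatrix_apply, id, rowsOf, Matrix.of_apply, shuffleJ, eJ]
      by_cases h : t.val < r.val
      · rw [dif_pos h, dif_neg (not_le.2 h)]
      · rw [dif_neg h, dif_pos (not_lt.1 h)]
  · rw [map_zero]

/-- **Plücker relations**: every shuffle relation vanishes at the minors of any matrix. -/
theorem evalL_shuffleRel (i j : Idx d n) (r : Fin d) :
    evalL (K := K) M (shuffleRel K i j r) = 0 := by
  unfold shuffleRel
  rw [map_sum]
  simp only [evalL_shuffleTerm]
  exact sForm_eq_zero r _ _ _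

theorem plIdealTop_le_ker : plIdealTop (d := d) (n := n) K ≤ RingHom.ker (evalL (K := K) M) := by
  unfold plIdealTop
  rw [Ideal.span_le]
  rintro f ⟨i, j, r, _, rfl⟩
  exact evalL_shuffleRel M i j r

theorem plIdealTop_le_plIdeal (τ : Idx d n) : plIdealTop (d := d) (n := n) K ≤ plIdeal K τ := by
  unfold plIdealTop plIdeal
  exact Ideal.span_mono Set.subset_union_left

theorem plIdeal_le_schubertVanishing (τ : Idx d n) :
    plIdeal K τ ≤ schubertVanishing K d n τ := by
  unfold plIdeal schubertVanishing
  rw [Ideal.span_le]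
  intro f hf
  simp only [Submodule.coe_iInf, Set.mem_iInter, SetLike.mem_coe, RingHom.mem_ker]
  intro A hA
  rcases hf with ⟨i, j, r, _, rfl⟩ | ⟨φ, hφ, rfl⟩
  · exact evalL_shuffleRel (K := K) A i j r
  · show evalL (K := K) A (X φ) = 0
    rw [evalL_X]
    exact hA φ hφ

end Main

end Groth.Agent.Lib.Helper22.Grass
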