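import Mathlib
import Groth.Agent.Lib.Helper22.GrassCoord
import Groth.Agent.Lib.Helper22.GrassPlucker

/-!
# Counting functions of increasing tuples; the dictionary between minors and Plücker indices
-/

namespace Groth.Agent.Lib.Helper22.Grass

open W4bk4grassmannian

section Count

variable {d N : ℕ}

/-- the number of entries of a tuple below `x`. -/
def cntT (a : Fin d → Fin N) (x : ℕ) : ℕ := (Finset.univ.filter fun j => (a j).val < x).card

lemma cntT_le (a : Fin d → Fin N) (x : ℕ) : cntT a x ≤ d := by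
  unfold cntT
  exact (Finset.card_le_univ _).trans_eq (Fintype.card_fin d)

lemma cntT_mono (a : Fin d → Fin N) {x y : ℕ} (h : x ≤ y) : cntT a x ≤ cntT a y := by
  unfold cntT
  refine Finset.card_le_card (fun j hj => ?_)
  rw [Finset.mem_filter] at hj ⊢
  exact ⟨hj.1, lt_of_lt_of_le hj.2 h⟩

lemma cntT_of_ge (a : Fin d → Fin N) {x : ℕ} (h : N ≤ x) : cntT a x = d := by
  unfold cntT
  rw [Finset.filter_true_of_mem, Finset.card_univ, Fintype.card_fin]
  intro j _
  exact lt_of_lt_of_le (a j).isLt h

/-- for an increasing tuple, the entries below `x` form an initial segment. -/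
lemma lt_iff_lt_cntT (θ : Idx d N) (i : Fin d) (x : ℕ) :
    (θ.1 i).val < x ↔ i.val < cntT θ.1 x := by
  unfold cntT
  constructor
  · intro h
    have hsub : Finset.Iic i ⊆ Finset.univ.filter fun j => (θ.1 j).val < x := by
      intro j hj
      rw [Finset.mem_Iic] at hj
      rw [Finset.mem_filter]
      exact ⟨Finset.mem_univ _, lt_of_le_of_lt (Fin.le_def.1 (θ.2.monotone hj)) h⟩
    have := Finset.card_le_card hsub
    rw [Fin.card_Iic] at this
    omega
  · intro h
    by_contra hge
    rw [not_lt] at hge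
    have hsub : (Finset.univ.filter fun j => (θ.1 j).val < x) ⊆ Finset.Iio i := by
      intro j hj
      rw [Finset.mem_filter] at hj
      rw [Finset.mem_Iio]
      by_contra hji
      rw [not_lt] at hji
      have := Fin.le_def.1 (θ.2.monotone hji)
      omega
    have := Finset.card_le_card hsub
    rw [Fin.card_Iio] at this
    omega

/-- the entrywise order in terms of counting functions. -/
lemma idx_le_iff_cntT (θ θ' : Idx d N) : θ ≤ θ' ↔ ∀ x, cntT θ'.1 x ≤ cntT θ.1 x := by
  constructor
  · intro h x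
    unfold cntT
    refine Finset.card_le_card (fun j hj => ?_)
    rw [Finset.mem_filter] at hj ⊢
    exact ⟨hj.1, lt_of_le_of_lt (Fin.le_def.1 (h j)) hj.2⟩
  · intro h i
    by_contra hlt
    rw [not_le] at hlt
    have h1 : (θ'.1 i).val < (θ.1 i).val := Fin.lt_def.1 hlt
    have h2 := (lt_iff_lt_cntT θ' i _).1 h1
    have h3 := lt_of_lt_of_le h2 (h _)
    have h4 := (lt_iff_lt_cntT θ i _).2 h3
    exact lt_irrefl _ h4

lemma idx_eq_of_cntT (θ θ' : Idx d N) (h : ∀ x, cntT θ.1 x = cntT θ'.1 x) : θ = θ' :=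
  le_antisymm ((idx_le_iff_cntT θ θ').2 (fun x => (h x).ge))
    ((idx_le_iff_cntT θ' θ).2 (fun x => (h x).le))

/-- sorting does not change the counting function. -/
lemma cntT_sortIdx (a : Fin d → Fin N) (h : (Finset.univ.image a).card = d) (x : ℕ) :
    cntT (sortIdx d N a h).1 x = cntT a x := by
  classical
  obtain ⟨σ, hσ⟩ := exists_sort_perm a h
  unfold cntT
  symm
  refine Finset.card_bij (fun j _ => σ j) ?_ ?_ ?_
  · intro j hj
    rw [Finset.mem_filter] at hj ⊢
    refine ⟨Finset.mem_univ _, ?_⟩
    rw [← hσ]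
    exact hj.2
  · intro j _ j' _ hjj'
    exact σ.injective hjj'
  · intro j hj
    rw [Finset.mem_filter] at hj
    refine ⟨σ.symm j, ?_, by simp⟩
    rw [Finset.mem_filter]
    refine ⟨Finset.mem_univ _, ?_⟩
    rw [hσ, Equiv.apply_symm_apply]
    exact hj.2

/-- comparison of the leading entries of two increasing tuples of different lengths. -/
lemma leading_ge_iff_cntT {s s' : ℕ} (A : Idx s N) (A' : Idx s' N) :
    (s ≤ s' ∧ ∀ (j : Fin s) (j' : Fin s'), j.val = j'.val → A'.1 j' ≤ A.1 j) ↔
      ∀ x, cntT A.1 x ≤ cntT A'.1 x := by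
  constructor
  · rintro ⟨hss, h⟩ x
    by_contra hlt
    rw [not_le] at hlt
    -- the index `cnt A' x` is an index of `A` below `x`
    have hc : cntT A'.1 x < s := lt_of_lt_of_le hlt (cntT_le _ _)
    set j : Fin s := ⟨cntT A'.1 x, hc⟩ with hj
    have h1 : (A.1 j).val < x := (lt_iff_lt_cntT A j x).2 hlt
    set j' : Fin s' := ⟨cntT A'.1 x, lt_of_lt_of_le hc hss⟩ with hj'
    have h2 : A'.1 j' ≤ A.1 j := h j j' rfl
    have h3 : (A'.1 j').val < x := lt_of_le_of_lt (Fin.le_def.1 h2) h1
    have h4 := (lt_iff_lt_cntT A' j' x).1 h3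
    exact lt_irrefl _ h4
  · intro h
    have hss : s ≤ s' := by
      have := h N
      rw [cntT_of_ge _ le_rfl, cntT_of_ge _ le_rfl] at this
      exact this
    refine ⟨hss, fun j j' hjj' => ?_⟩
    by_contra hlt
    rw [not_le] at hlt
    have h1 : (A.1 j).val < (A'.1 j').val := Fin.lt_def.1 hlt
    have h2 := (lt_iff_lt_cntT A j _).1 h1
    have h3 := lt_of_lt_of_le h2 (h _)
    rw [hjj'] at h3
    have h4 := (lt_iff_lt_cntT A' j' _).2 h3
    exact lt_irrefl _ h4

end Count

section Tup

variable {m n t : ℕ}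

/-- the rows `n + rev (f k)` at the positions `g k`; the other positions keep their own index. -/
noncomputable def tupFG (f : Fin t → Fin m) (g : Fin t → Fin n) : Fin n → Fin (n + m) := fun j =>
  if h : ∃ k, g k = j then ⟨n + (m - 1 - (f h.choose).val), by have := (f h.choose).isLt; omega⟩
  else ⟨j.val, by have := j.isLt; omega⟩

lemma tupFG_apply_g (f : Fin t → Fin m) {g : Fin t → Fin n} (hg : Function.Injective g)
    (k : Fin t) : (tupFG f g (g k)).val = n + (m - 1 - (f k).val) := by
  have h : ∃ k', g k' = g k := ⟨k, rfl⟩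
  have h2 : h.choose = k := hg h.choose_spec
  unfold tupFG
  rw [dif_pos h]
  simp only [h2]

lemma tupFG_apply_not (f : Fin t → Fin m) (g : Fin t → Fin n) (j : Fin n)
    (h : ¬ ∃ k, g k = j) : (tupFG f g j).val = j.val := by
  unfold tupFG
  rw [dif_neg h]

lemma tupFG_injective {f : Fin t → Fin m} {g : Fin t → Fin n} (hf : Function.Injective f)
    (hg : Function.Injective g) : Function.Injective (tupFG f g) := by
  intro i i' h
  have hv := congrArg Fin.val h
  by_cases hi : ∃ k, g k = i
  · obtain ⟨k, rfl⟩ := hi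
    by_cases hi' : ∃ k, g k = i'
    · obtain ⟨k', rfl⟩ := hi'
      rw [tupFG_apply_g f hg, tupFG_apply_g f hg] at hv
      have h1 := (f k).isLt
      have h2 := (f k').isLt
      have : f k = f k' := Fin.ext (by omega)
      rw [hf this]
    · rw [tupFG_apply_g f hg, tupFG_apply_not f g i' hi'] at hv
      have := i'.isLt
      omega
  · by_cases hi' : ∃ k, g k = i'
    · obtain ⟨k', rfl⟩ := hi'
      rw [tupFG_apply_g f hg, tupFG_apply_not f g i hi] at hv
      have := i.isLt
      omega
    · rw [tupFG_apply_not f g i hi, tupFG_apply_not f g i' hi'] at hv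
      exact Fin.ext hv

lemma card_image_tupFG {f : Fin t → Fin m} {g : Fin t → Fin n} (hf : Function.Injective f)
    (hg : Function.Injective g) : (Finset.univ.image (tupFG f g)).card = n := by
  rw [Finset.card_image_of_injective _ (tupFG_injective hf hg), Finset.card_univ, Fintype.card_fin]

/-- counting below `x ≤ n`. -/
lemma cntT_tupFG_low (f : Fin t → Fin m) {g : Fin t → Fin n} (hg : Function.Injective g)
    (x : ℕ) (hx : x ≤ n) : cntT (tupFG f g) x + cntT g x = x := by
  classical
  unfold cntT
  have h1 : (Finset.univ.filter fun j : Fin n => (tupFG f g j).val < x) =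
      Finset.univ.filter fun j : Fin n => (¬ ∃ k, g k = j) ∧ j.val < x := by
    ext j
    simp only [Finset.mem_filter, Finset.mem_univ, true_and]
    by_cases hj : ∃ k, g k = j
    · obtain ⟨k, rfl⟩ := hj
      rw [tupFG_apply_g f hg]
      constructor
      · intro h; omega
      · rintro ⟨h, -⟩; exact absurd ⟨k, rfl⟩ h
    · rw [tupFG_apply_not f g j hj]
      exact ⟨fun h => ⟨hj, h⟩, fun h => h.2⟩
  have h2 : (Finset.univ.filter fun k : Fin t => (g k).val < x).card =
      (Finset.univ.filter fun j : Fin n => (∃ k, g k = j) ∧ j.val < x).card := by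
    rw [← Finset.card_image_of_injective _ hg]
    congr 1
    ext j
    simp only [Finset.mem_image, Finset.mem_filter, Finset.mem_univ, true_and]
    constructor
    · rintro ⟨k, hk, rfl⟩
      exact ⟨⟨k, rfl⟩, hk⟩
    · rintro ⟨⟨k, rfl⟩, hk⟩
      exact ⟨k, hk, rfl⟩
  rw [h1, h2, add_comm]
  have h3 : (Finset.univ.filter fun j : Fin n => j.val < x) =
      (Finset.univ.filter fun j : Fin n => (∃ k, g k = j) ∧ j.val < x) ∪
      (Finset.univ.filter fun j : Fin n => (¬ ∃ k, g k = j) ∧ j.val < x) := by
    ext j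
    simp only [Finset.mem_union, Finset.mem_filter, Finset.mem_univ, true_and]
    tauto
  have h4 : Disjoint (Finset.univ.filter fun j : Fin n => (∃ k, g k = j) ∧ j.val < x)
      (Finset.univ.filter fun j : Fin n => (¬ ∃ k, g k = j) ∧ j.val < x) := by
    rw [Finset.disjoint_left]
    intro j hj hj'
    rw [Finset.mem_filter] at hj hj'
    exact hj'.2.1 hj.2.1
  rw [← Finset.card_union_of_disjoint h4, ← h3, Fin.card_filter_val_lt, min_eq_right hx]

/-- counting below `n + y`. -/
lemma cntT_tupFG_high (f : Fin t → Fin m) {g : Fin t → Fin n} (hg : Function.Injective g)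
    (y : ℕ) : cntT (tupFG f g) (n + y) + t =
      n + (Finset.univ.filter fun k : Fin t => m - 1 - (f k).val < y).card := by
  classical
  unfold cntT
  have h3 : (Finset.univ.filter fun j : Fin n => (tupFG f g j).val < n + y) =
      (Finset.univ.filter fun j : Fin n => (∃ k, g k = j) ∧ (tupFG f g j).val < n + y) ∪
      (Finset.univ.filter fun j : Fin n => ¬ ∃ k, g k = j) := by
    ext j
    simp only [Finset.mem_union, Finset.mem_filter, Finset.mem_univ, true_and]
    constructor
    · intro h
      by_cases hj : ∃ k, g k = j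
      · exact Or.inl ⟨hj, h⟩
      · exact Or.inr hj
    · rintro (h | h)
      · exact h.2
      · rw [tupFG_apply_not f g j h]
        have := j.isLt
        omega
  have h4 : Disjoint
      (Finset.univ.filter fun j : Fin n => (∃ k, g k = j) ∧ (tupFG f g j).val < n + y)
      (Finset.univ.filter fun j : Fin n => ¬ ∃ k, g k = j) := by
    rw [Finset.disjoint_left]
    intro j hj hj'
    rw [Finset.mem_filter] at hj hj'
    exact hj'.2 hj.2.1
  have h5 : (Finset.univ.filter fun j : Fin n => ¬ ∃ k, g k = j).card + t = n := by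
    have : (Finset.univ.filter fun j : Fin n => ¬ ∃ k, g k = j) =
        (Finset.univ.image g)ᶜ := by
      ext j
      simp
    rw [this, Finset.card_compl, Finset.card_image_of_injective _ hg, Finset.card_univ,
      Fintype.card_fin, Fintype.card_fin]
    have : t ≤ n := by
      have := Fintype.card_le_of_injective g hg
      simpa using this
    omega
  have h6 : (Finset.univ.filter fun j : Fin n => (∃ k, g k = j) ∧
      (tupFG f g j).val < n + y).card =
      (Finset.univ.filter fun k : Fin t => m - 1 - (f k).val < y).card := by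
    rw [← Finset.card_image_of_injective (Finset.univ.filter fun k : Fin t =>
      m - 1 - (f k).val < y) hg]
    congr 1
    ext j
    simp only [Finset.mem_image, Finset.mem_filter, Finset.mem_univ, true_and]
    constructor
    · rintro ⟨⟨k, rfl⟩, hk⟩
      rw [tupFG_apply_g f hg] at hk
      exact ⟨k, by omega, rfl⟩
    · rintro ⟨k, hk, rfl⟩
      refine ⟨⟨k, rfl⟩, ?_⟩
      rw [tupFG_apply_g f hg]
      omega
  rw [h3, Finset.card_union_of_disjoint h4, h6]
  omega

end Tup

section WIdx

variable {m n : ℕ}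

lemma idx_gap {d N : ℕ} (θ : Idx d N) : ∀ (j : ℕ) (a b : Fin d), a.val + j = b.val →
    (θ.1 a).val + j ≤ (θ.1 b).val
  | 0, a, b, h => by
    have : a = b := Fin.ext (by omega)
    rw [this]
    omega
  | j + 1, a, b, h => by
    have hb : b.val - 1 < d := by have := b.isLt; omega
    have h1 := idx_gap θ j a ⟨b.val - 1, hb⟩ (by simp only; omega)
    have h2 : θ.1 ⟨b.val - 1, hb⟩ < θ.1 b := θ.2 (Fin.lt_def.2 (by simp only; omega))
    have h3 := Fin.lt_def.1 h2
    omega

/-- the index of the Schubert variety whose opposite cell is the determinantal variety of the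
`t`-minors. -/
def wIdx (m n t : ℕ) (ht : 1 ≤ t) (htm : t ≤ m + 1) : Idx n (n + m) :=
  ⟨fun i => if h : i.val + t ≤ n then ⟨t - 1 + i.val, by omega⟩ else ⟨m + i.val, by have := i.isLt; omega⟩, by
    intro a b hab
    have := Fin.lt_def.1 hab
    rw [Fin.lt_def]
    dsimp only
    by_cases ha : a.val + t ≤ n
    · by_cases hb : b.val + t ≤ n
      · rw [dif_pos ha, dif_pos hb]
        simp only
        omega
      · rw [dif_pos ha, dif_neg hb]
        simp only
        omega
    · have hb : ¬ b.val + t ≤ n := by omega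
      rw [dif_neg ha, dif_neg hb]
      simp only
      omega⟩

lemma le_wIdx_iff (t : ℕ) (ht : 1 ≤ t) (htm : t ≤ m + 1) (θ : Idx n (n + m)) :
    θ ≤ wIdx m n t ht htm ↔ ∀ h : t ≤ n, (θ.1 ⟨n - t, by omega⟩).val < n := by
  constructor
  · intro hle h
    have h1 := Fin.le_def.1 (hle ⟨n - t, by omega⟩)
    unfold wIdx at h1
    simp only at h1
    rw [dif_pos (by omega)] at h1
    simp only at h1
    omega
  · intro h i
    rw [Fin.le_def]
    unfold wIdx
    simp only
    by_cases hi : i.val + t ≤ n
    · rw [dif_pos hi]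
      simp only
      have htn : t ≤ n := by omega
      have h1 := h htn
      have h2 := idx_gap θ (n - t - i.val) i ⟨n - t, by omega⟩ (by simp only; omega)
      omega
    · rw [dif_neg hi]
      simp only
      have hn : 0 < n := lt_of_le_of_lt (Nat.zero_le _) i.isLt
      have h2 := idx_gap θ (n - 1 - i.val) i ⟨n - 1, by omega⟩ (by simp only; have := i.isLt; omega)
      have h3 := (θ.1 ⟨n - 1, by omega⟩).isLt
      omega

lemma le_wIdx_iff_cntT (t : ℕ) (ht : 1 ≤ t) (htm : t ≤ m + 1) (θ : Idx n (n + m)) :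
    θ ≤ wIdx m n t ht htm ↔ (t ≤ n → n - t < cntT θ.1 n) := by
  rw [le_wIdx_iff]
  constructor
  · intro h htn
    exact (lt_iff_lt_cntT θ ⟨n - t, by omega⟩ n).1 (h htn)
  · intro h htn
    exact (lt_iff_lt_cntT θ ⟨n - t, by omega⟩ n).2 (h htn)

lemma not_le_wIdx (t : ℕ) (ht : 1 ≤ t) (htm : t ≤ m + 1) (θ : Idx n (n + m))
    (h : ¬ θ ≤ wIdx m n t ht htm) : ∃ htn : t ≤ n, n ≤ (θ.1 ⟨n - t, by omega⟩).val := by
  rw [le_wIdx_iff] at h
  push Not at h
  exact h

end WIdx

section Dict

variable {m n : ℕ}

/-- the unsorted tuple of a minor. -/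
noncomputable def tupM (M : MinorIdx m n) : Fin n → Fin (n + m) := tupFG M.2.1.1 M.2.2.1

lemma card_image_tupM (M : MinorIdx m n) : (Finset.univ.image (tupM M)).card = n :=
  card_image_tupFG M.2.1.2.injective M.2.2.2.injective

/-- the Plücker index of a minor: the columns not in the minor, followed by the (reversed) rows. -/
noncomputable def PhiM (M : MinorIdx m n) : Idx n (n + m) :=
  sortIdx n (n + m) (tupM M) (card_image_tupM M)

lemma cntT_PhiM_low (M : MinorIdx m n) (x : ℕ) (hx : x ≤ n) :
    cntT (PhiM M).1 x + cntT M.2.2.1 x = x := by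
  unfold PhiM
  rw [cntT_sortIdx]
  exact cntT_tupFG_low M.2.1.1 M.2.2.2.injective x hx

lemma cntT_PhiM_high (M : MinorIdx m n) (z : ℕ) (hz : z ≤ m) :
    cntT (PhiM M).1 (n + (m - z)) + cntT M.2.1.1 z = n := by
  classical
  unfold PhiM
  rw [cntT_sortIdx]
  have h1 := cntT_tupFG_high M.2.1.1 M.2.2.2.injective (m - z)
  have h2 : (Finset.univ.filter fun k : Fin (M.1 + 1) => m - 1 - (M.2.1.1 k).val < m - z).card +
      cntT M.2.1.1 z = M.1 + 1 := by
    unfold cntT
    have h3 : (Finset.univ.filter fun k : Fin (M.1 + 1) => m - 1 - (M.2.1.1 k).val < m - z) =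
        Finset.univ.filter fun k : Fin (M.1 + 1) => ¬ (M.2.1.1 k).val < z := by
      ext k
      simp only [Finset.mem_filter, Finset.mem_univ, true_and]
      have := (M.2.1.1 k).isLt
      omega
    rw [h3, add_comm, Finset.card_filter_add_card_filter_not, Finset.card_univ,
      Fintype.card_fin]
  unfold tupM
  omega

lemma cntT_PhiM_n (M : MinorIdx m n) : cntT (PhiM M).1 n + (M.1 + 1) = n := by
  have h := cntT_PhiM_high M m le_rfl
  rw [Nat.sub_self, add_zero, cntT_of_ge _ le_rfl] at h
  exact h

lemma size_le (M : MinorIdx m n) : M.1 + 1 ≤ n := by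
  have := cntT_PhiM_n M
  omega

lemma minorGE_iff_cntT (M M' : MinorIdx m n) :
    MinorGE M M' ↔ (∀ x, cntT M.2.1.1 x ≤ cntT M'.2.1.1 x) ∧
      (∀ x, cntT M.2.2.1 x ≤ cntT M'.2.2.1 x) := by
  rw [← leading_ge_iff_cntT, ← leading_ge_iff_cntT]
  unfold MinorGE
  constructor
  · rintro ⟨h1, h2⟩
    exact ⟨⟨by omega, fun j j' hjj' => (h2 j j' hjj').1⟩,
      ⟨by omega, fun j j' hjj' => (h2 j j' hjj').2⟩⟩
  · rintro ⟨⟨h1, h2⟩, ⟨-, h3⟩⟩
    exact ⟨by omega, fun j j' hjj' => ⟨h2 j j' hjj', h3 j j' hjj'⟩⟩

/-- the order on minors is the reverse of the order on Plücker indices. -/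
theorem PhiM_le_iff (M M' : MinorIdx m n) : PhiM M ≤ PhiM M' ↔ MinorGE M M' := by
  rw [idx_le_iff_cntT, minorGE_iff_cntT]
  constructor
  · intro h
    have hs : M.1 ≤ M'.1 := by
      have h1 := cntT_PhiM_n M
      have h2 := cntT_PhiM_n M'
      have := h n
      omega
    constructor
    · intro z
      by_cases hz : z ≤ m
      · have h1 := cntT_PhiM_high M z hz
        have h2 := cntT_PhiM_high M' z hz
        have := h (n + (m - z))
        omega
      · rw [cntT_of_ge _ (by omega), cntT_of_ge _ (by omega)]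
        omega
    · intro x
      by_cases hx : x ≤ n
      · have h1 := cntT_PhiM_low M x hx
        have h2 := cntT_PhiM_low M' x hx
        have := h x
        omega
      · rw [cntT_of_ge _ (by omega), cntT_of_ge _ (by omega)]
        omega
  · rintro ⟨hA, hB⟩ x
    by_cases hx : x ≤ n
    · have h1 := cntT_PhiM_low M x hx
      have h2 := cntT_PhiM_low M' x hx
      have := hB x
      omega
    · by_cases hx2 : x ≤ n + m
      · have h1 := cntT_PhiM_high M (n + m - x) (by omega)
        have h2 := cntT_PhiM_high M' (n + m - x) (by omega)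
        have hxx : n + (m - (n + m - x)) = x := by omega
        rw [hxx] at h1 h2
        have := hA (n + m - x)
        omega
      · rw [cntT_of_ge _ (by omega), cntT_of_ge _ (by omega)]

lemma minorGE_antisymm (M M' : MinorIdx m n) (h : MinorGE M M') (h' : MinorGE M' M) : M = M' := by
  obtain ⟨s, A, B⟩ := M
  obtain ⟨s', A', B'⟩ := M'
  have hs : s = s' := le_antisymm h.1 h'.1
  subst hs
  have hA : A = A' := by
    apply Subtype.ext
    funext j
    exact le_antisymm (h'.2 j j rfl).1 (h.2 j j rfl).1
  have hB : B = B' := by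
    apply Subtype.ext
    funext j
    exact le_antisymm (h'.2 j j rfl).2 (h.2 j j rfl).2
  rw [hA, hB]

theorem PhiM_injective : Function.Injective (PhiM (m := m) (n := n)) := by
  intro M M' h
  exact minorGE_antisymm M M' ((PhiM_le_iff M M').1 h.le) ((PhiM_le_iff M' M).1 h.ge)

theorem PhiM_le_wIdx_iff (t : ℕ) (ht : 1 ≤ t) (htm : t ≤ m + 1) (M : MinorIdx m n) :
    PhiM M ≤ wIdx m n t ht htm ↔ M.1 + 1 ≤ t - 1 := by
  rw [le_wIdx_iff_cntT]
  have h1 := cntT_PhiM_n M
  constructor
  · intro h
    by_cases htn : t ≤ n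
    · have := h htn
      omega
    · omega
  · intro h htn
    omega

end Dict

section Surj

variable {m n : ℕ}

lemma PhiM_last_ge (M : MinorIdx m n) : ∃ j, n ≤ ((PhiM M).1 j).val := by
  have h1 := cntT_PhiM_n M
  have hn : 0 < n := by omega
  refine ⟨⟨n - 1, by omega⟩, ?_⟩
  by_contra hlt
  rw [not_le] at hlt
  have := (lt_iff_lt_cntT (PhiM M) ⟨n - 1, by omega⟩ n).1 hlt
  simp only at this
  omega

/-- every Plücker index with an entry `≥ n` is the index of a minor. -/
theorem exists_PhiM_eq (θ : Idx n (n + m)) (hθ : ∃ j, n ≤ (θ.1 j).val) : ∃ M, PhiM M = θ := by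
  classical
  obtain ⟨j₀, hj₀⟩ := hθ
  have hm : 0 < m := by have := (θ.1 j₀).isLt; omega
  set Shi : Finset (Fin n) := Finset.univ.filter fun j => n ≤ (θ.1 j).val with hShi
  set Slo : Finset (Fin n) := Finset.univ.filter fun j => (θ.1 j).val < n with hSlo
  have hcard : Slo.card + Shi.card = n := by
    have : Shi = Finset.univ.filter fun j => ¬ (θ.1 j).val < n := by
      rw [hShi]
      congr 1
      funext j
      rw [not_lt]
    rw [hSlo, this, Finset.card_filter_add_card_filter_not, Finset.card_univ, Fintype.card_fin]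
  have hpos : 0 < Shi.card := Finset.card_pos.2 ⟨j₀, by rw [hShi, Finset.mem_filter]; exact ⟨Finset.mem_univ _, hj₀⟩⟩
  set rowOf : Fin n → Fin m := fun j => ⟨m - 1 - ((θ.1 j).val - n), by omega⟩ with hrowOf
  set Aset : Finset (Fin m) := Shi.image rowOf with hAset
  set Bset : Finset (Fin n) := (Slo.image fun j => (⟨min (θ.1 j).val (n - 1), by
    have := j.isLt; omega⟩ : Fin n))ᶜ with hBset
  have hAcard : Aset.card = (Shi.card - 1) + 1 := by
    rw [hAset, Finset.card_image_of_injOn]
    · omega
    · intro j hj j' hj' h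
      rw [Finset.mem_coe, hShi, Finset.mem_filter] at hj hj'
      have h1 := congrArg Fin.val h
      simp only [hrowOf] at h1
      have h2 := (θ.1 j).isLt
      have h3 := (θ.1 j').isLt
      exact θ.2.injective (Fin.ext (by omega))
  have hBcard : Bset.card = (Shi.card - 1) + 1 := by
    rw [hBset, Finset.card_compl, Finset.card_image_of_injOn, Fintype.card_fin]
    · omega
    · intro j hj j' hj' h
      rw [Finset.mem_coe, hSlo, Finset.mem_filter] at hj hj'
      have h1 := congrArg Fin.val h
      simp only at h1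
      exact θ.2.injective (Fin.ext (by omega))
  set A : Idx (Shi.card - 1 + 1) m :=
    ⟨fun k => Aset.orderEmbOfFin hAcard k, (Aset.orderEmbOfFin hAcard).strictMono⟩ with hA
  set B : Idx (Shi.card - 1 + 1) n :=
    ⟨fun k => Bset.orderEmbOfFin hBcard k, (Bset.orderEmbOfFin hBcard).strictMono⟩ with hB
  refine ⟨⟨Shi.card - 1, A, B⟩, ?_⟩
  set M : MinorIdx m n := ⟨Shi.card - 1, A, B⟩ with hM
  have hBrange : ∀ b : Fin n, (∃ k, B.1 k = b) ↔ b ∈ Bset := by
    intro b
    have := Finset.range_orderEmbOfFin Bset hBcard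
    rw [← Finset.mem_coe, ← this]
    rfl
  have hArange : ∀ a : Fin m, (∃ k, A.1 k = a) ↔ a ∈ Aset := by
    intro a
    have := Finset.range_orderEmbOfFin Aset hAcard
    rw [← Finset.mem_coe, ← this]
    rfl
  have hmem : ∀ j, θ.1 j ∈ Finset.univ.image (tupM M) := by
    intro j
    rw [Finset.mem_image]
    by_cases hj : (θ.1 j).val < n
    · refine ⟨⟨(θ.1 j).val, hj⟩, Finset.mem_univ _, ?_⟩
      apply Fin.ext
      unfold tupM
      rw [tupFG_apply_not]
      intro hk
      have h1 : (⟨(θ.1 j).val, hj⟩ : Fin n) ∈ Bset := (hBrange _).1 hk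
      rw [hBset, Finset.mem_compl, Finset.mem_image] at h1
      apply h1
      refine ⟨j, by rw [hSlo, Finset.mem_filter]; exact ⟨Finset.mem_univ _, hj⟩, ?_⟩
      apply Fin.ext
      simp only
      omega
    · rw [not_lt] at hj
      have h1 : rowOf j ∈ Aset := by
        rw [hAset]
        exact Finset.mem_image_of_mem _ (by rw [hShi, Finset.mem_filter]; exact ⟨Finset.mem_univ _, hj⟩)
      obtain ⟨k, hk⟩ := (hArange _).2 h1
      refine ⟨B.1 k, Finset.mem_univ _, ?_⟩
      apply Fin.ext
      unfold tupM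
      rw [tupFG_apply_g _ B.2.injective]
      have hk' : (M.2.1.1 k).val = m - 1 - ((θ.1 j).val - n) := by
        have := congrArg Fin.val hk
        simpa [hrowOf] using this
      rw [hk']
      have := (θ.1 j).isLt
      omega
  have huniq := Finset.orderEmbOfFin_unique (card_image_tupM M) hmem θ.2
  apply Subtype.ext
  unfold PhiM sortIdx
  simp only
  rw [huniq]

end Surj

end Groth.Agent.Lib.Helper22.Grass
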