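import Mathlib
import Groth.Agent.Lib.Helper22.GrassPlucker

/-!
# Straightening: standard monomials span modulo the shuffle relations
-/

namespace Groth.Agent.Lib.Helper22.Grass

open W4bk4grassmannian MvPolynomial

universe u

section Comb

variable {d n : ℕ}

/-- the sum of the entries of a tuple. -/
def isum (a : Fin d → Fin n) : ℕ := ∑ t, (a t).val

lemma isum_sortIdx (a : Fin d → Fin n) (h : (Finset.univ.image a).card = d) :
    isum (sortIdx d n a h).1 = isum a := by
  obtain ⟨σ, hσ⟩ := exists_sort_perm a h
  unfold isum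
  rw [← Equiv.sum_comp σ]
  exact Finset.sum_congr rfl (fun t _ => by rw [hσ t])

lemma sortIdx_strictMono (i : Idx d n) (h : (Finset.univ.image i.1).card = d) :
    sortIdx d n i.1 h = i := by
  apply Subtype.ext
  funext t
  have := Finset.orderEmbOfFin_unique h (f := i.1)
    (fun x => Finset.mem_image_of_mem _ (Finset.mem_univ x)) i.2
  exact (congrFun this t).symm

lemma card_image_strictMono (i : Idx d n) : (Finset.univ.image i.1).card = d := by
  rw [Finset.card_image_of_injective _ i.2.injective, Finset.card_univ, Fintype.card_fin]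

lemma movingRows_le (i j : Idx d n) (r : Fin d) (k : Fin (d + 1)) (h : k.val ≤ r.val) :
    movingRows i j r k = i.1 ⟨k.val, lt_of_le_of_lt h r.isLt⟩ := by
  unfold movingRows
  rw [dif_pos h]

lemma movingRows_gt (i j : Idx d n) (r : Fin d) (k : Fin (d + 1)) (h : r.val < k.val) :
    movingRows i j r k = j.1 ⟨k.val - 1, by have := k.isLt; omega⟩ := by
  unfold movingRows
  rw [dif_neg (not_le.2 h)]

lemma movingRows_strictMono (i j : Idx d n) (r : Fin d) (hp : i.1 r < j.1 r) :
    StrictMono (movingRows i j r) := by
  intro k k' hkk'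
  have hkk := Fin.lt_def.1 hkk'
  by_cases h1 : k'.val ≤ r.val
  · rw [movingRows_le i j r k' h1, movingRows_le i j r k (by omega)]
    exact i.2 (Fin.mk_lt_mk.2 hkk)
  · have h1' : r.val < k'.val := not_le.1 h1
    rw [movingRows_gt i j r k' h1']
    by_cases h2 : k.val ≤ r.val
    · rw [movingRows_le i j r k h2]
      have e1 : i.1 ⟨k.val, lt_of_le_of_lt h2 r.isLt⟩ ≤ i.1 r :=
        i.2.monotone (Fin.mk_le_mk.2 h2)
      have e2 : j.1 r ≤ j.1 ⟨k'.val - 1, by have := k'.isLt; omega⟩ :=
        j.2.monotone (Fin.le_def.2 (by simp only; omega))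
      exact lt_of_le_of_lt e1 (lt_of_lt_of_le hp e2)
    · rw [movingRows_gt i j r k (not_le.1 h2)]
      exact j.2 (Fin.mk_lt_mk.2 (by omega))

/-- the identity shuffle: the first `r + 1` positions. -/
def A₀ (r : Fin d) : Finset (Fin (d + 1)) := Finset.Iic ⟨r.val, by have := r.isLt; omega⟩

lemma A₀_card (r : Fin d) : (A₀ r).card = r.val + 1 := by
  unfold A₀
  rw [Fin.card_Iic]

lemma mem_A₀ (r : Fin d) (k : Fin (d + 1)) : k ∈ A₀ r ↔ k.val ≤ r.val := by
  unfold A₀
  rw [Finset.mem_Iic, Fin.le_def]

lemma emb_A₀ (r : Fin d) (s : Fin (r.val + 1)) :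
    (A₀ r).orderEmbOfFin (A₀_card r) s = ⟨s.val, by have := s.isLt; have := r.isLt; omega⟩ := by
  have := Finset.orderEmbOfFin_unique (A₀_card r)
    (f := fun s : Fin (r.val + 1) => (⟨s.val, by have := s.isLt; have := r.isLt; omega⟩ : Fin (d + 1)))
    (fun x => by rw [mem_A₀]; have := x.isLt; simp only; omega)
    (fun a b hab => Fin.mk_lt_mk.2 (by have := Fin.lt_def.1 hab; omega))
  exact (congrFun this s).symm

lemma emb_A₀_compl (r : Fin d) (s : Fin (d - r.val)) :
    (A₀ r)ᶜ.orderEmbOfFin (compl_card r (A₀ r) (A₀_card r)) s =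
      ⟨s.val + r.val + 1, by have := s.isLt; have := r.isLt; omega⟩ := by
  have := Finset.orderEmbOfFin_unique (compl_card r (A₀ r) (A₀_card r))
    (f := fun s : Fin (d - r.val) =>
      (⟨s.val + r.val + 1, by have := s.isLt; have := r.isLt; omega⟩ : Fin (d + 1)))
    (fun x => by rw [Finset.mem_compl, mem_A₀]; simp only; omega)
    (fun a b hab => Fin.mk_lt_mk.2 (by have := Fin.lt_def.1 hab; omega))
  exact (congrFun this s).symm

lemma shuffleI_A₀ (i j : Idx d n) (r : Fin d) : shuffleI i j r (A₀ r) (A₀_card r) = i.1 := by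
  funext t
  unfold shuffleI
  split_ifs with h
  · rw [emb_A₀, movingRows_le i j r _ h]
  · rfl

lemma shuffleJ_A₀ (i j : Idx d n) (r : Fin d) : shuffleJ i j r (A₀ r) (A₀_card r) = j.1 := by
  funext t
  unfold shuffleJ
  split_ifs with h
  · rfl
  · rw [emb_A₀_compl, movingRows_gt i j r _ (by simp only; omega)]
    exact congrArg j.1 (Fin.ext (by simp only; omega))

/-- a shuffle other than the identity moves the last of its first `r + 1` positions. -/
lemma eq_A₀_of_last_le (r : Fin d) (A : Finset (Fin (d + 1))) (hA : A.card = r.val + 1)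
    (h : (A.orderEmbOfFin hA ⟨r.val, Nat.lt_succ_self _⟩).val ≤ r.val) : A = A₀ r := by
  refine Finset.eq_of_subset_of_card_le (fun k hk => ?_) (by rw [A₀_card, hA])
  rw [mem_A₀]
  have : k ∈ Set.range (A.orderEmbOfFin hA) := by
    rw [Finset.range_orderEmbOfFin]; exact hk
  obtain ⟨s, rfl⟩ := this
  have h2 : A.orderEmbOfFin hA s ≤ A.orderEmbOfFin hA ⟨r.val, Nat.lt_succ_self _⟩ :=
    (A.orderEmbOfFin hA).monotone (by rw [Fin.le_def]; have := s.isLt; simp only; omega)
  exact le_trans (Fin.le_def.1 h2) h

lemma isum_shuffleI_gt (i j : Idx d n) (r : Fin d) (hp : i.1 r < j.1 r)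
    (A : Finset (Fin (d + 1))) (hA : A.card = r.val + 1) (hne : A ≠ A₀ r) :
    isum i.1 < isum (shuffleI i j r A hA) := by
  have hmono := movingRows_strictMono i j r hp
  unfold isum
  refine Finset.sum_lt_sum (fun t _ => ?_) ⟨r, Finset.mem_univ _, ?_⟩
  · unfold shuffleI
    split_ifs with h
    · have h1 := le_strictMono_apply _ (A.orderEmbOfFin hA).strictMono t.val (Nat.lt_succ_of_le h)
      have h2 : movingRows i j r ⟨t.val, by have := t.isLt; omega⟩ ≤
          movingRows i j r (A.orderEmbOfFin hA ⟨t.val, Nat.lt_succ_of_le h⟩) :=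
        hmono.monotone (by rw [Fin.le_def]; exact h1)
      rw [movingRows_le i j r _ h] at h2
      exact Fin.le_def.1 h2
    · exact le_refl _
  · unfold shuffleI
    rw [dif_pos (le_refl _)]
    have h1 : r.val < (A.orderEmbOfFin hA ⟨r.val, Nat.lt_succ_self _⟩).val := by
      by_contra hh
      exact hne (eq_A₀_of_last_le r A hA (not_lt.1 hh))
    have h2 : movingRows i j r ⟨r.val + 1, by have := r.isLt; omega⟩ ≤
        movingRows i j r (A.orderEmbOfFin hA ⟨r.val, Nat.lt_succ_self _⟩) :=
      hmono.monotone (by rw [Fin.le_def]; exact h1)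
    rw [movingRows_gt i j r _ (by simp)] at h2
    have h3 : (i.1 r).val < (j.1 r).val := Fin.lt_def.1 hp
    have h4 := Fin.le_def.1 h2
    simp only [Nat.add_sub_cancel] at h4
    exact lt_of_lt_of_le h3 h4

end Comb

section Straighten

variable (K : Type u) [CommRing K] {d n : ℕ}

/-- the span of the classes of the standard monomials modulo the shuffle relations. -/
noncomputable def stdSpan : Submodule K (PlRing K d n ⧸ plIdealTop (d := d) (n := n) K) :=
  Submodule.span K (Set.range fun c : (Σ m : ℕ, {c : Fin m → Idx d n // Antitone c}) =>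
    Ideal.Quotient.mk (plIdealTop (d := d) (n := n) K) (chainMon K c.2.1))

/-- the class of `f` is a combination of standard monomials. -/
def InT (f : PlRing K d n) : Prop :=
  Ideal.Quotient.mk (plIdealTop (d := d) (n := n) K) f ∈ stdSpan (d := d) (n := n) K

variable {K}

lemma InT_zero : InT K (0 : PlRing K d n) := by
  unfold InT
  rw [map_zero]
  exact Submodule.zero_mem _

lemma InT_add {f g : PlRing K d n} (hf : InT K f) (hg : InT K g) : InT K (f + g) := by
  unfold InT at *
  rw [map_add]
  exact Submodule.add_mem _ hf hg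

lemma InT_neg {f : PlRing K d n} (hf : InT K f) : InT K (-f) := by
  unfold InT at *
  rw [map_neg]
  exact Submodule.neg_mem _ hf

lemma InT_neg_one_pow_mul {f : PlRing K d n} (hf : InT K f) (e : ℕ) : InT K ((-1) ^ e * f) := by
  rcases neg_one_pow_eq_or (PlRing K d n) e with h | h
  · rw [h, one_mul]; exact hf
  · rw [h, neg_one_mul]; exact InT_neg hf

lemma InT_of_sub_mem {f g : PlRing K d n} (h : f - g ∈ plIdealTop (d := d) (n := n) K)
    (hg : InT K g) : InT K f := by
  unfold InT at *
  rw [(Ideal.Quotient.eq).2 h]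
  exact hg

lemma coord_strictMono (i : Idx d n) :
    coord K d n i.1 = (-1) ^ invCount d n i.1 * X i := by
  unfold coord
  rw [dif_pos (card_image_strictMono i), sortIdx_strictMono]

lemma chainMon_update_update {m : ℕ} (c : Fin m → Idx d n) (p q : Fin m) (hpq : p ≠ q)
    (a b : Idx d n) :
    chainMon K (Function.update (Function.update c p a) q b) =
      X a * X b * ∏ l ∈ (Finset.univ.erase q).erase p, (X (c l) : PlRing K d n) := by
  unfold chainMon
  rw [← Finset.mul_prod_erase Finset.univ _ (Finset.mem_univ q),
    ← Finset.mul_prod_erase (Finset.univ.erase q) _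
      (Finset.mem_erase.2 ⟨hpq, Finset.mem_univ p⟩)]
  rw [Function.update_self, Function.update_of_ne hpq, Function.update_self]
  have : ∀ l ∈ (Finset.univ.erase q).erase p,
      (X (Function.update (Function.update c p a) q b l) : PlRing K d n) = X (c l) := by
    intro l hl
    have h1 : l ≠ p := (Finset.mem_erase.1 hl).1
    have h2 : l ≠ q := (Finset.mem_erase.1 (Finset.mem_erase.1 hl).2).1
    rw [Function.update_of_ne h2, Function.update_of_ne h1]
  rw [Finset.prod_congr rfl this]
  ring

lemma chainMon_eq_mul {m : ℕ} (c : Fin m → Idx d n) (p q : Fin m) (hpq : p ≠ q) :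
    chainMon K c =
      X (c p) * X (c q) * ∏ l ∈ (Finset.univ.erase q).erase p, (X (c l) : PlRing K d n) := by
  rw [← chainMon_update_update c p q hpq, Function.update_eq_self, Function.update_eq_self]

/-- **Straightening**: every monomial is, modulo the shuffle relations, a combination of standard
monomials. -/
theorem InT_chainMon {m : ℕ} (c : Fin m → Idx d n) : InT K (chainMon K c) := by
  classical
  have hs : WellFounded (fun a b : Idx d n => isum b.1 < isum a.1) := by
    have : IsTrans (Idx d n) (fun a b : Idx d n => isum b.1 < isum a.1) :=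
      ⟨fun a b c h1 h2 => lt_trans h2 h1⟩
    have : Std.Irrefl (fun a b : Idx d n => isum b.1 < isum a.1) :=
      ⟨fun a h => lt_irrefl _ h⟩
    exact Finite.wellFounded_of_trans_of_irrefl _
  have wf := Pi.Lex.wellFounded (ι := Fin m) (· < ·) (fun _ => hs)
  refine wf.induction (C := fun c => InT K (chainMon K c)) c ?_
  intro c ih
  by_cases hanti : Antitone c
  · exact Submodule.subset_span ⟨⟨m, c, hanti⟩, rfl⟩
  · obtain _ | m' := m
    · exact absurd (fun a => a.elim0) hanti
    rw [Fin.antitone_iff_succ_le] at hanti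
    push Not at hanti
    obtain ⟨k, hk⟩ := hanti
    set i := c k.castSucc with hi
    set j := c k.succ with hj
    have hex : ∃ t, i.1 t < j.1 t := by
      by_contra hne
      push Not at hne
      exact hk hne
    obtain ⟨r, hr, hmin⟩ := WellFounded.has_min (wellFounded_lt (α := Fin d))
      {t | i.1 t < j.1 t} hex
    have hr' : i.1 r < j.1 r := hr
    have hpiv : IsPivot i j r := ⟨fun t ht => not_lt.1 (fun h => hmin t h ht), hr'⟩
    have hrel : shuffleRel K i j r ∈ plIdealTop (d := d) (n := n) K :=
      Ideal.subset_span ⟨i, j, r, hpiv, rfl⟩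
    have hkne : k.castSucc ≠ k.succ := (Fin.castSucc_lt_succ (i := k)).ne
    set rest := ∏ l ∈ (Finset.univ.erase k.succ).erase k.castSucc, (X (c l) : PlRing K d n)
      with hrest
    have hc : chainMon K c = X i * X j * rest := chainMon_eq_mul c _ _ hkne
    -- the identity shuffle
    obtain ⟨e, he⟩ : ∃ e : ℕ, shuffleTerm K i j r (A₀ r) = (-1) ^ e * (X i * X j) := by
      refine ⟨shuffleSign r (A₀ r) + invCount d n i.1 + invCount d n j.1, ?_⟩
      unfold shuffleTerm
      rw [dif_pos (A₀_card r), shuffleI_A₀, shuffleJ_A₀, coord_strictMono, coord_strictMono]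
      ring
    -- the other shuffles
    have hothers : ∀ A ∈ Finset.univ.erase (A₀ r), InT K (shuffleTerm K i j r A * rest) := by
      intro A hA0
      have hne : A ≠ A₀ r := (Finset.mem_erase.1 hA0).1
      unfold shuffleTerm
      split_ifs with hA
      · have hgt := isum_shuffleI_gt i j r hr' A hA hne
        unfold coord
        split_ifs with h1 h2
        · set i' := sortIdx d n (shuffleI i j r A hA) h1
          set j' := sortIdx d n (shuffleJ i j r A hA) h2
          have hi' : isum i'.1 = isum (shuffleI i j r A hA) := isum_sortIdx _ h1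
          set c' := Function.update (Function.update c k.castSucc i') k.succ j' with hc'
          have hc'' : chainMon K c' = X i' * X j' * rest := chainMon_update_update c _ _ hkne _ _
          have hlex : Pi.Lex (· < ·) (fun {_} (a b : Idx d n) => isum b.1 < isum a.1) c' c := by
            refine ⟨k.castSucc, fun l hl => ?_, ?_⟩
            · have h1 : l ≠ k.castSucc := hl.ne
              have h2 : l ≠ k.succ := (lt_trans hl Fin.castSucc_lt_succ).ne
              rw [hc', Function.update_of_ne h2, Function.update_of_ne h1]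
            · show isum (c k.castSucc).1 < isum (c' k.castSucc).1
              rw [hc', Function.update_of_ne hkne, Function.update_self, hi']
              exact hgt
          have := InT_neg_one_pow_mul (ih c' hlex)
            (shuffleSign r A + invCount d n (shuffleI i j r A hA) +
              invCount d n (shuffleJ i j r A hA))
          rw [hc''] at this
          convert this using 1
          ring
        · simp only [mul_zero, zero_mul]; exact InT_zero
        · simp only [mul_zero, zero_mul]; exact InT_zero
        · simp only [mul_zero, zero_mul]; exact InT_zero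
      · rw [zero_mul]; exact InT_zero
    -- assemble
    have hsum : shuffleRel K i j r * rest =
        shuffleTerm K i j r (A₀ r) * rest +
          ∑ A ∈ Finset.univ.erase (A₀ r), shuffleTerm K i j r A * rest := by
      unfold shuffleRel
      rw [Finset.sum_mul]
      exact (Finset.add_sum_erase _ (fun A => shuffleTerm K i j r A * rest)
        (Finset.mem_univ _)).symm
    have hsumT : InT K (∑ A ∈ Finset.univ.erase (A₀ r), shuffleTerm K i j r A * rest) := by
      unfold InT
      rw [map_sum]
      exact Submodule.sum_mem _ (fun A hA => hothers A hA)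
    -- chainMon c = (-1)^e * (shuffleTerm A₀ * rest)
    have h1 : chainMon K c = (-1) ^ e * (shuffleTerm K i j r (A₀ r) * rest) := by
      rw [hc, he]
      have : ((-1 : PlRing K d n) ^ e) * (-1) ^ e = 1 := by
        rw [← mul_pow]; simp
      calc X i * X j * rest = 1 * (X i * X j * rest) := by ring
        _ = ((-1 : PlRing K d n) ^ e * (-1) ^ e) * (X i * X j * rest) := by rw [this]
        _ = _ := by ring
    rw [h1]
    refine InT_neg_one_pow_mul ?_ e
    refine InT_of_sub_mem (g := -(∑ A ∈ Finset.univ.erase (A₀ r), shuffleTerm K i j r A * rest))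
      ?_ (InT_neg hsumT)
    rw [sub_neg_eq_add, ← hsum]
    exact Ideal.mul_mem_right _ _ hrel

lemma InT_smul {f : PlRing K d n} (hf : InT K f) (a : K) : InT K (a • f) := by
  unfold InT at *
  have : Ideal.Quotient.mk (plIdealTop (d := d) (n := n) K) (a • f) =
      a • Ideal.Quotient.mk (plIdealTop (d := d) (n := n) K) f :=
    map_smul (Ideal.Quotient.mkₐ K (plIdealTop (d := d) (n := n) K)) a f
  rw [this]
  exact Submodule.smul_mem _ _ hf

lemma exists_chainMon (s : Idx d n →₀ ℕ) (a : K) :
    ∃ (b : K) (m : ℕ) (c : Fin m → Idx d n), monomial s a = C b * chainMon K c := by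
  refine MvPolynomial.induction_on_monomial
    (motive := fun p => ∃ (b : K) (m : ℕ) (c : Fin m → Idx d n), p = C b * chainMon K c) ?_ ?_ s a
  · intro a
    exact ⟨a, 0, Fin.elim0, by simp [chainMon]⟩
  · rintro p θ ⟨b, m, c, rfl⟩
    refine ⟨b, m + 1, Fin.snoc c θ, ?_⟩
    unfold chainMon
    rw [Fin.prod_univ_castSucc]
    simp only [Fin.snoc_castSucc, Fin.snoc_last]
    ring

theorem InT_all (f : PlRing K d n) : InT K f := by
  induction f using MvPolynomial.induction_on' with
  | monomial s a =>
    obtain ⟨b, m, c, h⟩ := exists_chainMon s a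
    rw [h, MvPolynomial.C_mul']
    exact InT_smul (InT_chainMon c) b
  | add p q hp hq => exact InT_add hp hq

theorem stdSpan_eq_top : stdSpan (d := d) (n := n) K = ⊤ := by
  rw [eq_top_iff]
  intro x _
  obtain ⟨f, rfl⟩ := Ideal.Quotient.mk_surjective x
  exact InT_all f

end Straighten

end Groth.Agent.Lib.Helper22.Grass
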