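import Mathlib
import Groth.Agent.Lib.Helper22.GrassStraighten

/-!
# Linear independence of standard monomials on (unions of) Schubert varieties
-/

namespace Groth.Agent.Lib.Helper22.Grass

open W4bk4grassmannian MvPolynomial

universe u

section Antitone

/-- two antitone sequences with the same value counts are equal. -/
lemma antitone_eq_of_count {m : ℕ} {α : Type*} [LinearOrder α] (f g : Fin m → α)
    (hf : Antitone f) (hg : Antitone g)
    (h : ∀ p, (Finset.univ.filter fun k => f k = p).card = (Finset.univ.filter fun k => g k = p).card) :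
    f = g := by
  classical
  have hm : (Finset.univ : Finset (Fin m)).val.map f = (Finset.univ : Finset (Fin m)).val.map g := by
    ext p
    rw [Multiset.count_map, Multiset.count_map]
    have := h p
    simp only [Finset.card, Finset.filter_val] at this
    convert this using 3 <;> exact eq_comm
  rw [Fin.univ_val_map, Fin.univ_val_map] at hm
  have hperm : List.Perm (List.ofFn f) (List.ofFn g) := Quotient.exact hm
  have h1 : (List.ofFn f).Pairwise (· ≥ ·) := List.pairwise_ofFn.2 (fun i j hij => hf hij.le)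
  have h2 : (List.ofFn g).Pairwise (· ≥ ·) := List.pairwise_ofFn.2 (fun i j hij => hg hij.le)
  exact List.ofFn_injective (hperm.eq_of_pairwise' h1 h2)

/-- a strictly monotone permutation of `Fin d` is the identity. -/
lemma perm_eq_one_of_strictMono {d : ℕ} (σ : Equiv.Perm (Fin d)) (h : StrictMono σ) : σ = 1 := by
  have h1 := Finset.orderEmbOfFin_unique (s := (Finset.univ : Finset (Fin d))) (k := d)
    (by simp) (f := σ) (fun x => Finset.mem_univ _) h
  have h2 := Finset.orderEmbOfFin_unique (s := (Finset.univ : Finset (Fin d))) (k := d)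
    (by simp) (f := id) (fun x => Finset.mem_univ _) strictMono_id
  ext x
  rw [h1, ← h2]
  rfl

/-- strict rearrangement inequality for a strictly increasing tuple. -/
lemma sum_perm_mul_lt {d : ℕ} (θ : Fin d → ℕ) (hθ : StrictMono θ) (σ : Equiv.Perm (Fin d))
    (hσ : σ ≠ 1) : ∑ s, θ (σ s) * s.val < ∑ s, θ s * s.val := by
  have hmv : Monovary θ (fun s : Fin d => s.val) := fun i j hij => hθ.monotone (Fin.le_def.2 (le_of_lt hij))
  rw [hmv.sum_comp_perm_mul_lt_sum_mul_iff]
  intro hmv'
  apply hσ
  apply perm_eq_one_of_strictMono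
  intro i j hij
  have h1 : θ (σ i) ≤ θ (σ j) := hmv' (Fin.lt_def.1 hij)
  have h2 : σ i ≤ σ j := hθ.le_iff_le.1 h1
  exact lt_of_le_of_ne h2 (fun h => hij.ne (σ.injective h))

end Antitone

section Shape

variable (K : Type u) [CommRing K] {d n : ℕ}

/-- the generic matrix of shape `w`: the entry `(p, t)` is the variable if `p ≤ w_t`, else `0`. -/
noncomputable def shapeM (w : Idx d n) : Matrix (Fin n) (Fin d) (MatRing K d n) :=
  Matrix.of fun p t => if p ≤ w.1 t then X (p, t) else 0

variable {K}

/-- for every permutation some position `s ≤ t₀` is sent to a position `≥ t₀`. -/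
lemma exists_le_ge {d : ℕ} (σ : Equiv.Perm (Fin d)) (t₀ : Fin d) : ∃ s, s ≤ t₀ ∧ t₀ ≤ σ s := by
  by_contra hcon
  push Not at hcon
  have hmaps : ∀ s ∈ Finset.Iic t₀, σ s ∈ Finset.Iio t₀ := by
    intro s hs
    rw [Finset.mem_Iio]
    exact hcon s (Finset.mem_Iic.1 hs)
  have := Finset.card_le_card_of_injOn σ hmaps (σ.injective.injOn)
  rw [Fin.card_Iic, Fin.card_Iio] at this
  omega

lemma shapeM_minor_eq_zero (w φ : Idx d n) (h : ¬ φ ≤ w) :
    ((shapeM K w).submatrix φ.1 id).det = 0 := by
  have hex : ∃ t₀, w.1 t₀ < φ.1 t₀ := by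
    by_contra hne
    push Not at hne
    exact h hne
  obtain ⟨t₀, ht₀⟩ := hex
  rw [Matrix.det_apply]
  refine Finset.sum_eq_zero (fun σ _ => ?_)
  obtain ⟨s, hs1, hs2⟩ := exists_le_ge σ t₀
  have hz : (shapeM K w).submatrix φ.1 id (σ s) s = 0 := by
    simp only [shapeM, Matrix.submatrix_apply, Matrix.of_apply, id]
    rw [if_neg]
    rw [not_le]
    calc w.1 s ≤ w.1 t₀ := w.2.monotone hs1
      _ < φ.1 t₀ := ht₀
      _ ≤ φ.1 (σ s) := φ.2.monotone hs2
  rw [Finset.prod_eq_zero (f := fun i => (shapeM K w).submatrix φ.1 id (σ i) i)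
    (Finset.mem_univ s) hz, smul_zero]

end Shape

section EvalMap

variable {K : Type u} [CommRing K] {d n : ℕ}

lemma evalL_map {L L' : Type*} [CommRing L] [Algebra K L] [CommRing L'] [Algebra K L']
    (g : L →ₐ[K] L') (M : Matrix (Fin n) (Fin d) L) (f : PlRing K d n) :
    g (evalL (K := K) M f) = evalL (K := K) (M.map g) f := by
  have : g.comp (evalL (K := K) M) = evalL (K := K) (M.map g) := by
    apply MvPolynomial.algHom_ext
    intro θ
    rw [AlgHom.comp_apply, evalL_X, evalL_X, AlgHom.map_det]
    rfl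
  rw [← this]
  rfl

/-- the vanishing ideal of a Schubert variety is killed by evaluation at the generic matrix of the
corresponding shape (over an infinite domain). -/
theorem schubertVanishing_le_ker [IsDomain K] [Infinite K] (w : Idx d n) :
    schubertVanishing K d n w ≤ RingHom.ker (evalL (K := K) (shapeM K w)) := by
  intro f hf
  rw [RingHom.mem_ker]
  apply MvPolynomial.funext
  intro a
  rw [map_zero]
  have h1 := evalL_map (K := K) (MvPolynomial.aeval a : MatRing K d n →ₐ[K] K) (shapeM K w) f
  have h0 : MvPolynomial.eval a (evalL (K := K) (shapeM K w) f) =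
      MvPolynomial.aeval a (evalL (K := K) (shapeM K w) f) := rfl
  rw [h0, h1]
  unfold schubertVanishing at hf
  simp only [Ideal.mem_iInf, RingHom.mem_ker] at hf
  refine hf _ (fun φ hφ => ?_)
  have h2 := shapeM_minor_eq_zero (K := K) w φ hφ
  have h3 := congrArg (MvPolynomial.eval a) h2
  rw [map_zero, RingHom.map_det] at h3
  exact h3

end EvalMap

section Leading

variable {K : Type u} [CommRing K] {d n : ℕ}

/-- the weight of a monomial in the matrix variables: the variable `(p, t)` has weight `p * t`. -/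
noncomputable def wt : (Fin n × Fin d →₀ ℕ) →+ ℕ :=
  Finsupp.weight fun pt : Fin n × Fin d => pt.1.val * pt.2.val

/-- `p` has `μ` as its monomial of largest weight, with coefficient `1`. -/
def LT (p : MatRing K d n) (μ : Fin n × Fin d →₀ ℕ) : Prop :=
  ∀ ν, wt μ ≤ wt ν → coeff ν p = if μ = ν then 1 else 0

lemma LT_one : LT (1 : MatRing K d n) 0 := by
  intro ν _
  rw [MvPolynomial.coeff_one]

lemma LT.mul {p q : MatRing K d n} {μ μ' : Fin n × Fin d →₀ ℕ} (hp : LT p μ) (hq : LT q μ') :
    LT (p * q) (μ + μ') := by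
  classical
  intro ν hν
  rw [map_add] at hν
  rw [MvPolynomial.coeff_mul]
  have key : ∀ x ∈ Finset.HasAntidiagonal.antidiagonal ν,
      coeff x.1 p * coeff x.2 q = if x = (μ, μ') then 1 else 0 := by
    intro x hx
    rw [Finset.HasAntidiagonal.mem_antidiagonal] at hx
    have hw : wt x.1 + wt x.2 = wt ν := by rw [← map_add, hx]
    by_cases h1 : wt μ < wt x.1
    · rw [hp x.1 h1.le, if_neg (fun h => by rw [h] at h1; exact lt_irrefl _ h1), zero_mul,
        if_neg]
      intro h
      rw [h] at h1
      exact lt_irrefl _ h1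
    · have h1' : wt x.1 ≤ wt μ := not_lt.1 h1
      have h2 : wt μ' ≤ wt x.2 := by omega
      rw [hq x.2 h2]
      by_cases h3 : wt x.1 < wt μ
      · have h4 : μ' ≠ x.2 := by
          intro h
          rw [h] at hν
          omega
        rw [if_neg h4, mul_zero, if_neg]
        intro h
        rw [h] at h3
        exact lt_irrefl _ h3
      · have h5 : wt μ ≤ wt x.1 := not_lt.1 h3
        rw [hp x.1 h5]
        by_cases e1 : μ = x.1
        · by_cases e2 : μ' = x.2
          · rw [if_pos e1, if_pos e2, if_pos (Prod.ext e1.symm e2.symm), mul_one]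
          · rw [if_neg e2, mul_zero, if_neg]
            intro h
            exact e2 (by rw [h])
        · rw [if_neg e1, zero_mul, if_neg]
          intro h
          exact e1 (by rw [h])
  rw [Finset.sum_congr rfl key, Finset.sum_ite_eq']
  simp only [Finset.HasAntidiagonal.mem_antidiagonal]

lemma LT.prod {ι : Type*} (s : Finset ι) (p : ι → MatRing K d n)
    (μ : ι → (Fin n × Fin d →₀ ℕ)) (h : ∀ k ∈ s, LT (p k) (μ k)) :
    LT (∏ k ∈ s, p k) (∑ k ∈ s, μ k) := by
  classical
  induction s using Finset.induction_on with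
  | empty => simpa using LT_one
  | insert a s ha ih =>
    rw [Finset.prod_insert ha, Finset.sum_insert ha]
    exact (h a (Finset.mem_insert_self a s)).mul
      (ih (fun k hk => h k (Finset.mem_insert_of_mem hk)))

/-- the diagonal monomial of the minor on the rows `θ`. -/
noncomputable def diag (θ : Idx d n) : Fin n × Fin d →₀ ℕ := ∑ t, Finsupp.single (θ.1 t, t) 1

lemma wt_sum_single (a : Fin d → Fin n) :
    wt (∑ t, Finsupp.single (a t, t) 1) = ∑ t, (a t).val * t.val := by
  rw [map_sum]
  refine Finset.sum_congr rfl (fun t _ => ?_)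
  unfold wt
  rw [Finsupp.weight_single, smul_eq_mul, one_mul]

lemma prod_X_eq_monomial (a : Fin d → Fin n) :
    ∏ t, (X (a t, t) : MatRing K d n) = monomial (∑ t, Finsupp.single (a t, t) 1) 1 := by
  rw [MvPolynomial.monomial_sum_one]
  rfl

/-- the minor of the generic matrix of shape `w` on rows `θ ≤ w` has the diagonal monomial as
its monomial of largest weight. -/
lemma LT_minor (w θ : Idx d n) (h : θ ≤ w) :
    LT (((shapeM K w).submatrix θ.1 id).det) (diag θ) := by
  classical
  intro ν hν
  rw [Matrix.det_apply, MvPolynomial.coeff_sum]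
  rw [Finset.sum_eq_single (1 : Equiv.Perm (Fin d))]
  · rw [Equiv.Perm.sign_one, one_smul]
    have : ∏ i, (shapeM K w).submatrix θ.1 id ((1 : Equiv.Perm (Fin d)) i) i =
        monomial (diag θ) 1 := by
      unfold diag
      rw [← prod_X_eq_monomial]
      refine Finset.prod_congr rfl (fun t _ => ?_)
      simp only [shapeM, Matrix.submatrix_apply, Matrix.of_apply, id, Equiv.Perm.coe_one]
      rw [if_pos (h t)]
    rw [this, MvPolynomial.coeff_monomial]
  · intro σ _ hσ
    have hterm : ∏ i, (shapeM K w).submatrix θ.1 id (σ i) i =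
        if ∀ i ∈ Finset.univ, θ.1 (σ i) ≤ w.1 i then
          monomial (∑ t, Finsupp.single (θ.1 (σ t), t) 1) 1 else 0 := by
      have h0 : ∏ i, (shapeM K w).submatrix θ.1 id (σ i) i =
          ∏ i, (if θ.1 (σ i) ≤ w.1 i then (X (θ.1 (σ i), i) : MatRing K d n) else 0) := by
        refine Finset.prod_congr rfl (fun t _ => ?_)
        simp only [shapeM, Matrix.submatrix_apply, Matrix.of_apply, id]
      rw [h0, Finset.prod_ite_zero, prod_X_eq_monomial]
      congr
    have hlt : wt (∑ t, Finsupp.single (θ.1 (σ t), t) 1) < wt (diag θ) := by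
      unfold diag
      rw [wt_sum_single, wt_sum_single]
      exact sum_perm_mul_lt (fun t => (θ.1 t).val) (fun a b hab => Fin.lt_def.1 (θ.2 hab)) σ hσ
    have hne : ∑ t, Finsupp.single (θ.1 (σ t), t) 1 ≠ ν := by
      intro hh
      rw [hh] at hlt
      omega
    rw [hterm]
    split_ifs
    · rcases Int.units_eq_one_or (Equiv.Perm.sign σ) with hs | hs
      · rw [hs, one_smul, MvPolynomial.coeff_monomial, if_neg hne]
      · rw [hs, Units.neg_smul, one_smul, MvPolynomial.coeff_neg, MvPolynomial.coeff_monomial,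
          if_neg hne, neg_zero]
    · rw [smul_zero, MvPolynomial.coeff_zero]
  · intro h1
    exact absurd (Finset.mem_univ _) h1

end Leading

section Delta

variable {d n : ℕ}

/-- the diagonal monomial of a product of minors. -/
noncomputable def delta {m : ℕ} (c : Fin m → Idx d n) : Fin n × Fin d →₀ ℕ := ∑ k, diag (c k)

lemma delta_apply {m : ℕ} (c : Fin m → Idx d n) (p : Fin n) (t : Fin d) :
    delta c (p, t) = (Finset.univ.filter fun k => (c k).1 t = p).card := by
  classical
  unfold delta diag
  rw [Finsupp.finsetSum_apply, Finset.card_filter]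
  refine Finset.sum_congr rfl (fun k _ => ?_)
  rw [Finsupp.finsetSum_apply]
  simp only [Finsupp.single_apply, Prod.mk.injEq]
  rw [Finset.sum_eq_single t]
  · simp
  · intro t' _ ht'
    rw [if_neg (fun h => ht' h.2)]
  · intro h
    exact absurd (Finset.mem_univ _) h

lemma delta_degree {m : ℕ} (c : Fin m → Idx d n) : (delta c).degree = m * d := by
  unfold delta diag
  rw [map_sum]
  simp only [map_sum, Finsupp.degree_single, Finset.sum_const, Finset.card_univ, Fintype.card_fin,
    smul_eq_mul, mul_one]

lemma delta_inj {m : ℕ} (c c' : Fin m → Idx d n) (hc : Antitone c) (hc' : Antitone c')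
    (h : delta c = delta c') : c = c' := by
  funext k
  apply Subtype.ext
  funext t
  have := antitone_eq_of_count (fun k => (c k).1 t) (fun k => (c' k).1 t)
    (fun a b hab => hc hab t) (fun a b hab => hc' hab t) (fun p => by
      rw [← delta_apply, ← delta_apply, h])
  exact congrFun this k

end Delta

section Indep

variable {K : Type u} [Field K] [Infinite K] {d n : ℕ}

/-- chains lying below one of the `τs i`. -/
abbrev ChU {r : ℕ} (τs : Fin r → Idx d n) : Type :=
  Σ m : ℕ, {c : Fin m → Idx d n // Antitone c ∧ ∃ i, ∀ k, c k ≤ τs i}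

lemma ChU_ext (hd : 0 < d) {r : ℕ} {τs : Fin r → Idx d n} (c c' : ChU τs)
    (h : delta c.2.1 = delta c'.2.1) : c = c' := by
  obtain ⟨m, c, hc⟩ := c
  obtain ⟨m', c', hc'⟩ := c'
  have hm : m = m' := by
    have h1 := delta_degree c
    have h2 := delta_degree c'
    simp only at h
    rw [h, h2] at h1
    exact (Nat.eq_of_mul_eq_mul_right hd h1).symm
  subst hm
  have := delta_inj c c' hc.1 hc'.1 h
  subst this
  rfl

lemma evalL_chainMon {L : Type*} [CommRing L] [Algebra K L] (M : Matrix (Fin n) (Fin d) L)
    {m : ℕ} (c : Fin m → Idx d n) :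
    evalL (K := K) M (chainMon K c) = ∏ k, (M.submatrix (c k).1 id).det := by
  unfold chainMon
  rw [map_prod]
  simp only [evalL_X]

/-- **Linear independence** of the standard monomials on a union of Schubert varieties. -/
theorem linearIndependent_chainMon (hd : 0 < d) {r : ℕ} (τs : Fin r → Idx d n) :
    LinearIndependent K (fun c : ChU τs =>
      Ideal.Quotient.mk (⨅ i, schubertVanishing K d n (τs i)) (chainMon K c.2.1)) := by
  classical
  rw [linearIndependent_iff']
  intro s g hsum
  by_contra hcon
  push Not at hcon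
  obtain ⟨c₁, hc₁s, hc₁⟩ := hcon
  obtain ⟨i, hi⟩ := c₁.2.2.2
  set w := τs i with hw
  -- the polynomial
  set F : PlRing K d n := ∑ c ∈ s, g c • chainMon K c.2.1 with hF
  have hFJ : F ∈ (⨅ i, schubertVanishing K d n (τs i)) := by
    rw [← Ideal.Quotient.eq_zero_iff_mem, hF, map_sum]
    rw [← hsum]
    refine Finset.sum_congr rfl (fun c _ => ?_)
    exact map_smul (Ideal.Quotient.mkₐ K (⨅ i, schubertVanishing K d n (τs i))) (g c) _
  have hFw : F ∈ schubertVanishing K d n w := (Ideal.mem_iInf.1 hFJ) i
  have hE : evalL (K := K) (shapeM K w) F = 0 := schubertVanishing_le_ker (K := K) w hFw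
  -- the chain of maximal weight
  set S'' := s.filter (fun c => g c ≠ 0 ∧ ∀ k, c.2.1 k ≤ w) with hS''
  have hc₁S : c₁ ∈ S'' := Finset.mem_filter.2 ⟨hc₁s, hc₁, hi⟩
  obtain ⟨cs, hcsS, hmax⟩ := Finset.exists_max_image S'' (fun c => wt (delta c.2.1)) ⟨c₁, hc₁S⟩
  have hcs := Finset.mem_filter.1 hcsS
  have hLT : ∀ c : ChU τs, (∀ k, c.2.1 k ≤ w) →
      LT (evalL (K := K) (shapeM K w) (chainMon K c.2.1)) (delta c.2.1) := by
    intro c hcw
    rw [evalL_chainMon]
    exact LT.prod Finset.univ _ _ (fun k _ => LT_minor w (c.2.1 k) (hcw k))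
  have hcoeff : coeff (delta cs.2.1) (evalL (K := K) (shapeM K w) F) = g cs := by
    rw [hF, map_sum, MvPolynomial.coeff_sum, Finset.sum_eq_single cs]
    · rw [map_smul, MvPolynomial.coeff_smul, hLT cs hcs.2.2 _ le_rfl, if_pos rfl, smul_eq_mul,
        mul_one]
    · intro c hcs' hne
      rw [map_smul, MvPolynomial.coeff_smul]
      by_cases hg : g c = 0
      · rw [hg, zero_smul]
      · by_cases hcw : ∀ k, c.2.1 k ≤ w
        · have hcS : c ∈ S'' := Finset.mem_filter.2 ⟨hcs', hg, hcw⟩
          rw [hLT c hcw _ (hmax c hcS), if_neg, smul_zero]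
          intro h
          exact hne (ChU_ext hd c cs h)
        · push Not at hcw
          obtain ⟨k, hk⟩ := hcw
          rw [evalL_chainMon, Finset.prod_eq_zero (Finset.mem_univ k)
            (shapeM_minor_eq_zero (K := K) w (c.2.1 k) hk), MvPolynomial.coeff_zero, smul_zero]
    · intro h
      exact absurd hcs.1 h
  rw [hE, MvPolynomial.coeff_zero] at hcoeff
  exact hcs.2.1 hcoeff.symm

end Indep

end Groth.Agent.Lib.Helper22.Grass
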