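import Mathlib
import Groth.Agent.Lib.Helper22.GrassIndep

/-!
# Standard monomial theory for Schubert varieties: assembly
-/

namespace Groth.Agent.Lib.Helper22.Grass

open W4bk4grassmannian MvPolynomial

universe u

section Abstract

/-- if a family spans modulo `I` and is independent modulo `J ⊇ I`, then `I = J`. -/
lemma ideal_eq_of_span_of_indep {K R : Type*} [Field K] [CommRing R] [Algebra K R]
    (I J : Ideal R) (hIJ : I ≤ J) {ι : Type*} (e : ι → R)
    (hspan : Submodule.span K (Set.range fun c => Ideal.Quotient.mk I (e c)) = ⊤)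
    (hind : LinearIndependent K (fun c => Ideal.Quotient.mk J (e c))) : I = J := by
  refine le_antisymm hIJ (fun f hf => ?_)
  have h1 : Ideal.Quotient.mk I f ∈ Submodule.span K (Set.range fun c => Ideal.Quotient.mk I (e c)) := by
    rw [hspan]; trivial
  rw [Finsupp.mem_span_range_iff_exists_finsupp] at h1
  obtain ⟨l, hl⟩ := h1
  set g : R := l.sum fun c a => a • e c with hg
  have hmkI : Ideal.Quotient.mk I g = Ideal.Quotient.mk I f := by
    rw [← hl, hg, Finsupp.sum, Finsupp.sum, map_sum]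
    refine Finset.sum_congr rfl (fun c _ => ?_)
    exact map_smul (Ideal.Quotient.mkₐ K I) _ _
  have hfg : f - g ∈ I := by
    rw [← Ideal.Quotient.eq, hmkI]
  have hgJ : g ∈ J := by
    have := J.sub_mem hf (hIJ hfg)
    rwa [sub_sub_cancel] at this
  have hmkJ : Finsupp.linearCombination K (fun c => Ideal.Quotient.mk J (e c)) l = 0 := by
    rw [Finsupp.linearCombination_apply]
    have : Ideal.Quotient.mk J g = 0 := Ideal.Quotient.eq_zero_iff_mem.2 hgJ
    rw [← this, hg, Finsupp.sum, Finsupp.sum, map_sum]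
    refine Finset.sum_congr rfl (fun c _ => ?_)
    exact (map_smul (Ideal.Quotient.mkₐ K J) _ _).symm
  have hl0 : l = 0 := (linearIndependent_iff.1 hind) l hmkJ
  have hg0 : g = 0 := by rw [hg, hl0, Finsupp.sum_zero_index]
  rw [hg0, sub_zero] at hfg
  exact hfg

end Abstract

section Span

variable {K : Type u} [CommRing K] {d n : ℕ}

lemma chainMon_mem_of_X_mem (I : Ideal (PlRing K d n)) {m : ℕ} (c : Fin m → Idx d n) (k : Fin m)
    (h : (X (c k) : PlRing K d n) ∈ I) : chainMon K c ∈ I := by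
  unfold chainMon
  exact Ideal.mem_of_dvd I (Finset.dvd_prod_of_mem (fun k => (X (c k) : PlRing K d n))
    (Finset.mem_univ k)) h

/-- spanning by the chains below one of the `τs i`, modulo an ideal containing the shuffle
relations and the remaining standard monomials. -/
theorem span_chainMon_eq_top {r : ℕ} (τs : Fin r → Idx d n) (I : Ideal (PlRing K d n))
    (hI : plIdealTop (d := d) (n := n) K ≤ I)
    (hout : ∀ (m : ℕ) (c : Fin m → Idx d n), Antitone c → (¬ ∃ i, ∀ k, c k ≤ τs i) →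
      chainMon K c ∈ I) :
    Submodule.span K (Set.range fun c : ChU τs =>
      Ideal.Quotient.mk I (chainMon K c.2.1)) = ⊤ := by
  rw [eq_top_iff]
  intro x _
  obtain ⟨f, rfl⟩ := Ideal.Quotient.mk_surjective x
  have h1 : InT K f := InT_all f
  unfold InT stdSpan at h1
  set φ := Ideal.Quotient.factorₐ K hI with hφ
  have h2 := Submodule.apply_mem_span_image_of_mem_span φ.toLinearMap h1
  have h3 : φ.toLinearMap (Ideal.Quotient.mk (plIdealTop (d := d) (n := n) K) f) =
      Ideal.Quotient.mk I f := by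
    simp [hφ]
  rw [h3] at h2
  refine (Submodule.span_le.2 ?_) h2
  rintro _ ⟨_, ⟨⟨m, c, hc⟩, rfl⟩, rfl⟩
  have h4 : φ.toLinearMap (Ideal.Quotient.mk (plIdealTop (d := d) (n := n) K) (chainMon K c)) =
      Ideal.Quotient.mk I (chainMon K c) := by
    simp [hφ]
  simp only at h4 ⊢
  rw [h4]
  by_cases hex : ∃ i, ∀ k, c k ≤ τs i
  · exact Submodule.subset_span ⟨⟨m, c, hc, hex⟩, rfl⟩
  · rw [Ideal.Quotient.eq_zero_iff_mem.2 (hout m c hc hex)]
    exact Submodule.zero_mem _

end Span

section Main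

variable {K : Type u} [Field K] [Infinite K] {d n : ℕ}

lemma X_mem_plIdeal (τ φ : Idx d n) (h : ¬ φ ≤ τ) : (X φ : PlRing K d n) ∈ plIdeal K τ :=
  Ideal.subset_span (Or.inr ⟨φ, h, rfl⟩)

lemma X_mem_schubertVanishing (τ φ : Idx d n) (h : ¬ φ ≤ τ) :
    (X φ : PlRing K d n) ∈ schubertVanishing K d n τ :=
  plIdeal_le_schubertVanishing τ (X_mem_plIdeal τ φ h)

lemma plIdealTop_le_schubertVanishing (τ : Idx d n) :
    plIdealTop (d := d) (n := n) K ≤ schubertVanishing K d n τ :=
  le_trans (plIdealTop_le_plIdeal τ) (plIdeal_le_schubertVanishing τ)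

lemma schubertVanishing_anti {w w' : Idx d n} (h : w ≤ w') :
    schubertVanishing K d n w' ≤ schubertVanishing K d n w := by
  unfold schubertVanishing
  refine le_iInf (fun A => le_iInf (fun hA => ?_))
  exact iInf_le_of_le A (iInf_le _ (fun φ hφ => hA φ (fun h' => hφ (le_trans h' h))))

/-- **The shuffle relations and the vanishing coordinates generate the ideal of a Schubert
variety.** -/
theorem plIdeal_eq_schubertVanishing (hd : 0 < d) (τ : Idx d n) :
    plIdeal K τ = schubertVanishing K d n τ := by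
  set τs : Fin 1 → Idx d n := fun _ => τ with hτs
  have hJ : (⨅ i, schubertVanishing K d n (τs i)) = schubertVanishing K d n τ := by
    simp only [hτs]
    exact iInf_const
  refine ideal_eq_of_span_of_indep (K := K) _ _ (plIdeal_le_schubertVanishing τ)
    (fun c : ChU τs => chainMon K c.2.1) ?_ ?_
  · refine span_chainMon_eq_top τs _ (plIdealTop_le_plIdeal τ) (fun m c _ hex => ?_)
    push Not at hex
    obtain ⟨k, hk⟩ := hex 0
    exact chainMon_mem_of_X_mem _ c k (X_mem_plIdeal τ (c k) hk)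
  · have := linearIndependent_chainMon (K := K) hd τs
    rw [hJ] at this
    exact this

theorem span_chainMon_iInf_eq_top {r : ℕ} (τs : Fin r → Idx d n) :
    Submodule.span K (Set.range fun c : ChU τs =>
      Ideal.Quotient.mk (⨅ i, schubertVanishing K d n (τs i)) (chainMon K c.2.1)) = ⊤ := by
  refine span_chainMon_eq_top τs _ (le_iInf fun i => plIdealTop_le_schubertVanishing _)
    (fun m c _ hex => ?_)
  push Not at hex
  rw [Ideal.mem_iInf]
  intro i
  obtain ⟨k, hk⟩ := hex i
  exact chainMon_mem_of_X_mem _ c k (X_mem_schubertVanishing (τs i) (c k) hk)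

theorem schubertVanishing_isRadical (τ : Idx d n) : (schubertVanishing K d n τ).IsRadical := by
  intro f hf
  obtain ⟨k, hk⟩ := hf
  unfold schubertVanishing at hk ⊢
  simp only [Ideal.mem_iInf, RingHom.mem_ker] at hk ⊢
  intro A hA
  have := hk A hA
  rw [map_pow] at this
  exact eq_zero_of_pow_eq_zero this

lemma plIdeal_eq_sup (τ : Idx d n) :
    plIdeal K τ = plIdealTop (d := d) (n := n) K ⊔
      Ideal.span {f | ∃ φ : Idx d n, ¬ φ ≤ τ ∧ f = (X φ : PlRing K d n)} := by
  unfold plIdeal plIdealTop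
  rw [Ideal.span_union]

lemma le_inf_iff' (φ w₁ w₂ : Idx d n) : φ ≤ W4bk4grassmannian.inf w₁ w₂ ↔ φ ≤ w₁ ∧ φ ≤ w₂ := by
  constructor
  · intro h
    exact ⟨fun t => le_trans (h t) (min_le_left _ _), fun t => le_trans (h t) (min_le_right _ _)⟩
  · rintro ⟨h1, h2⟩ t
    exact le_min (h1 t) (h2 t)

theorem plIdeal_sup (w₁ w₂ : Idx d n) :
    plIdeal K w₁ ⊔ plIdeal K w₂ = plIdeal K (W4bk4grassmannian.inf w₁ w₂) := by
  rw [plIdeal_eq_sup, plIdeal_eq_sup, plIdeal_eq_sup]
  have : ∀ a b c : Ideal (PlRing K d n), (a ⊔ b) ⊔ (a ⊔ c) = a ⊔ (b ⊔ c) := by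
    intro a b c
    rw [sup_sup_sup_comm, sup_idem]
  rw [this, ← Ideal.span_union]
  congr 2
  ext f
  constructor
  · rintro (⟨φ, hφ, rfl⟩ | ⟨φ, hφ, rfl⟩)
    · exact ⟨φ, fun h => hφ ((le_inf_iff' φ w₁ w₂).1 h).1, rfl⟩
    · exact ⟨φ, fun h => hφ ((le_inf_iff' φ w₁ w₂).1 h).2, rfl⟩
  · rintro ⟨φ, hφ, rfl⟩
    by_cases h1 : φ ≤ w₁
    · right
      exact ⟨φ, fun h2 => hφ ((le_inf_iff' φ w₁ w₂).2 ⟨h1, h2⟩), rfl⟩
    · left
      exact ⟨φ, h1, rfl⟩

theorem schubertVanishing_sup (hd : 0 < d) (w₁ w₂ : Idx d n) :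
    schubertVanishing K d n w₁ ⊔ schubertVanishing K d n w₂ =
      schubertVanishing K d n (W4bk4grassmannian.inf w₁ w₂) := by
  rw [← plIdeal_eq_schubertVanishing hd, ← plIdeal_eq_schubertVanishing hd,
    ← plIdeal_eq_schubertVanishing hd, plIdeal_sup]

end Main

end Groth.Agent.Lib.Helper22.Grass
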