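import Mathlib

/-!
# Rees degeneration along a basis with weights

`A` is a commutative algebra over a field `K` with a basis `b` and weights `ω : ι → ℕ` such that the
increasing filtration `Fil k = span {b i | ω i ≤ k}` is multiplicative.  The Rees algebra
`{p ∈ A[X] | ∀ k, coeff p k ∈ Fil k}` is free over `K[X]`, its fibres at `c ≠ 0` are `A`, and its
fibre at `0` has the basis `b i X^(ω i)`.
-/

namespace Groth.Agent.Lib.Helper22.Rees

open Polynomial

variable {K : Type*} [Field K] {A : Type*} [CommRing A] [Algebra K A] {ι : Type*}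
  (b : Module.Basis ι K A) (ω : ι → ℕ)

/-- the weight filtration. -/
def Fil (k : ℕ) : Submodule K A := Submodule.span K (b '' {i | ω i ≤ k})

lemma mem_Fil_iff {k : ℕ} {x : A} : x ∈ Fil b ω k ↔ ∀ i, b.repr x i ≠ 0 → ω i ≤ k := by
  rw [Fil, b.mem_span_image]
  constructor
  · intro h i hi
    exact h (Finsupp.mem_support_iff.2 hi)
  · intro h i hi
    exact h i (Finsupp.mem_support_iff.1 hi)

lemma Fil_mono {k l : ℕ} (h : k ≤ l) : Fil b ω k ≤ Fil b ω l :=
  Submodule.span_mono (Set.image_mono (fun _ hi => le_trans hi h))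

lemma basis_mem_Fil (i : ι) {k : ℕ} (h : ω i ≤ k) : b i ∈ Fil b ω k :=
  Submodule.subset_span ⟨i, h, rfl⟩

lemma exists_mem_Fil (x : A) : ∃ k, x ∈ Fil b ω k := by
  refine ⟨(b.repr x).support.sup ω, ?_⟩
  rw [mem_Fil_iff]
  intro i hi
  exact Finset.le_sup (Finsupp.mem_support_iff.2 hi)

/-- the filtration is multiplicative. -/
structure Mult : Prop where
  one_mem : (1 : A) ∈ Fil b ω 0
  mul_mem : ∀ i j, b i * b j ∈ Fil b ω (ω i + ω j)

variable {b ω}

lemma Fil_mul (h : Mult b ω) {k l : ℕ} {x y : A} (hx : x ∈ Fil b ω k) (hy : y ∈ Fil b ω l) :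
    x * y ∈ Fil b ω (k + l) := by
  unfold Fil at hx
  induction hx using Submodule.span_induction with
  | mem x hx =>
    obtain ⟨i, hi, rfl⟩ := hx
    unfold Fil at hy
    induction hy using Submodule.span_induction with
    | mem y hy =>
      obtain ⟨j, hj, rfl⟩ := hy
      exact Fil_mono b ω (Nat.add_le_add hi hj) (h.mul_mem i j)
    | zero => rw [mul_zero]; exact Submodule.zero_mem _
    | add y z _ _ hy hz => rw [mul_add]; exact Submodule.add_mem _ hy hz
    | smul a y _ hy => rw [mul_smul_comm]; exact Submodule.smul_mem _ _ hy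
  | zero => rw [zero_mul]; exact Submodule.zero_mem _
  | add x z _ _ hx hz => rw [add_mul]; exact Submodule.add_mem _ hx hz
  | smul a x _ hx => rw [smul_mul_assoc]; exact Submodule.smul_mem _ _ hx

/-- the Rees algebra of the filtration. -/
def rees (h : Mult b ω) : Subalgebra K A[X] where
  carrier := {p | ∀ k, p.coeff k ∈ Fil b ω k}
  mul_mem' := by
    intro p q hp hq k
    rw [Polynomial.coeff_mul]
    refine Submodule.sum_mem _ (fun x hx => ?_)
    have := Fil_mul h (hp x.1) (hq x.2)
    rwa [Finset.HasAntidiagonal.mem_antidiagonal.1 hx] at this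
  one_mem' := by
    intro k
    rw [Polynomial.coeff_one]
    split_ifs with hk
    · subst hk; exact h.one_mem
    · exact Submodule.zero_mem _
  add_mem' := by
    intro p q hp hq k
    rw [Polynomial.coeff_add]
    exact Submodule.add_mem _ (hp k) (hq k)
  zero_mem' := by
    intro k
    rw [Polynomial.coeff_zero]
    exact Submodule.zero_mem _
  algebraMap_mem' := by
    intro r k
    rw [Polynomial.algebraMap_apply, Polynomial.coeff_C]
    split_ifs with hk
    · subst hk
      rw [Algebra.algebraMap_eq_smul_one]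
      exact Submodule.smul_mem _ _ h.one_mem
    · exact Submodule.zero_mem _

lemma mem_rees (h : Mult b ω) {p : A[X]} : p ∈ rees h ↔ ∀ k, p.coeff k ∈ Fil b ω k := Iff.rfl

lemma monomial_mem_rees (h : Mult b ω) {k : ℕ} {x : A} (hx : x ∈ Fil b ω k) :
    monomial k x ∈ rees h := by
  intro l
  rw [Polynomial.coeff_monomial]
  split_ifs with hl
  · subst hl; exact hx
  · exact Submodule.zero_mem _

/-- the parameter `t` of the Rees algebra. -/
noncomputable def tR (h : Mult b ω) : rees h :=
  ⟨X, by
    have := monomial_mem_rees h (Fil_mono b ω (Nat.zero_le 1) h.one_mem)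
    rwa [← Polynomial.X_pow_eq_monomial, pow_one] at this⟩

noncomputable instance instAlgebraPoly (h : Mult b ω) : Algebra K[X] (rees h) :=
  (Polynomial.aeval (tR h)).toRingHom.toAlgebra

lemma algebraMap_poly_apply (h : Mult b ω) (f : K[X]) :
    algebraMap K[X] (rees h) f = Polynomial.aeval (tR h) f := rfl

instance instIsScalarTower (h : Mult b ω) : IsScalarTower K K[X] (rees h) :=
  IsScalarTower.of_algebraMap_eq (fun r => by
    rw [algebraMap_poly_apply, Polynomial.algebraMap_apply, Polynomial.aeval_C]
    rfl)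

lemma coe_algebraMap_poly (h : Mult b ω) (f : K[X]) :
    ((algebraMap K[X] (rees h) f : rees h) : A[X]) = f.map (algebraMap K A) := by
  rw [algebraMap_poly_apply]
  have : ((Polynomial.aeval (tR h) f : rees h) : A[X]) =
      Polynomial.aeval ((rees h).val (tR h)) f := by
    rw [Polynomial.aeval_algHom_apply]
    rfl
  rw [this]
  exact Polynomial.aeval_X_left_eq_map f

lemma coe_smul_poly (h : Mult b ω) (f : K[X]) (r : rees h) :
    ((f • r : rees h) : A[X]) = f.map (algebraMap K A) * (r : A[X]) := by
  rw [Algebra.smul_def, MulMemClass.coe_mul, coe_algebraMap_poly]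

/-- the basis elements `b i X^(ω i)` of the Rees algebra. -/
noncomputable def eR (h : Mult b ω) (i : ι) : rees h :=
  ⟨monomial (ω i) (b i), monomial_mem_rees h (basis_mem_Fil b ω i le_rfl)⟩

lemma coeff_map_mul_monomial (f : K[X]) (k : ℕ) (x : A) (n : ℕ) :
    (f.map (algebraMap K A) * monomial k x).coeff n =
      if k ≤ n then (f.coeff (n - k)) • x else 0 := by
  rw [← Polynomial.C_mul_X_pow_eq_monomial, ← mul_assoc, Polynomial.coeff_mul_X_pow',
    Polynomial.coeff_mul_C, Polynomial.coeff_map, Algebra.smul_def]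

theorem linearIndependent_eR (h : Mult b ω) : LinearIndependent K[X] (eR h) := by
  classical
  rw [linearIndependent_iff']
  intro s g hsum i hi
  have hval := congrArg (fun r : rees h => (r : A[X])) hsum
  simp only [AddSubmonoidClass.coe_finset_sum, ZeroMemClass.coe_zero] at hval
  ext m
  rw [Polynomial.coeff_zero]
  have hc := congrArg (fun p : A[X] => p.coeff (ω i + m)) hval
  simp only [Polynomial.finset_sum_coeff, Polynomial.coeff_zero] at hc
  have hterm : ∀ j ∈ s, ((g j • eR h j : rees h) : A[X]).coeff (ω i + m) =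
      (if ω j ≤ ω i + m then (g j).coeff (ω i + m - ω j) else 0) • b j := by
    intro j _
    rw [coe_smul_poly]
    show ((g j).map (algebraMap K A) * monomial (ω j) (b j)).coeff (ω i + m) = _
    rw [coeff_map_mul_monomial]
    split_ifs
    · rfl
    · rw [zero_smul]
  rw [Finset.sum_congr rfl hterm] at hc
  have := (linearIndependent_iff'.1 b.linearIndependent) s _ hc i hi
  rw [if_pos (Nat.le_add_right _ _), Nat.add_sub_cancel_left] at this
  exact this

lemma monomial_mem_span (h : Mult b ω) {k : ℕ} {x : A} (hx : x ∈ Fil b ω k) :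
    (⟨monomial k x, monomial_mem_rees h hx⟩ : rees h) ∈
      Submodule.span K[X] (Set.range (eR h)) := by
  classical
  have hx' := (mem_Fil_iff b ω).1 hx
  have hsum : (⟨monomial k x, monomial_mem_rees h hx⟩ : rees h) =
      ∑ i ∈ (b.repr x).support, (monomial (k - ω i) (b.repr x i) : K[X]) • eR h i := by
    apply Subtype.ext
    rw [AddSubmonoidClass.coe_finset_sum]
    simp only [coe_smul_poly]
    have : ∀ i ∈ (b.repr x).support,
        (monomial (k - ω i) (b.repr x i) : K[X]).map (algebraMap K A) * ((eR h i : rees h) : A[X]) =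
          monomial k (b.repr x i • b i) := by
      intro i hi
      show (monomial (k - ω i) (b.repr x i) : K[X]).map (algebraMap K A) * monomial (ω i) (b i) = _
      rw [Polynomial.map_monomial, Polynomial.monomial_mul_monomial,
        Nat.sub_add_cancel (hx' i (Finsupp.mem_support_iff.1 hi)), Algebra.smul_def]
    rw [Finset.sum_congr rfl this, ← map_sum]
    congr 1
    conv_lhs => rw [← b.linearCombination_repr x]
    rw [Finsupp.linearCombination_apply, Finsupp.sum]
  rw [hsum]
  exact Submodule.sum_mem _ (fun i _ => Submodule.smul_mem _ _ (Submodule.subset_span ⟨i, rfl⟩))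

theorem span_eR (h : Mult b ω) : ⊤ ≤ Submodule.span K[X] (Set.range (eR h)) := by
  classical
  rintro ⟨p, hp⟩ _
  have hsum : (⟨p, hp⟩ : rees h) =
      ∑ k ∈ p.support, (⟨monomial k (p.coeff k), monomial_mem_rees h (hp k)⟩ : rees h) := by
    apply Subtype.ext
    rw [AddSubmonoidClass.coe_finset_sum]
    exact p.as_sum_support
  rw [hsum]
  exact Submodule.sum_mem _ (fun k _ => monomial_mem_span h (hp k))

/-- the Rees algebra is free over `K[X]`. -/
noncomputable def basisR (h : Mult b ω) : Module.Basis ι K[X] (rees h) :=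
  Module.Basis.mk (linearIndependent_eR h) (span_eR h)

theorem free_rees (h : Mult b ω) : Module.Free K[X] (rees h) :=
  Module.Free.of_basis (basisR h)

section GenericFibre

/-- evaluation of the Rees algebra at `t = c`. -/
noncomputable def evalC (h : Mult b ω) (c : K) : rees h →ₐ[K] A :=
  ((Polynomial.aeval (algebraMap K A c) : A[X] →ₐ[A] A).restrictScalars K).comp (rees h).val

lemma evalC_apply (h : Mult b ω) (c : K) (p : rees h) :
    evalC h c p = Polynomial.aeval (algebraMap K A c) (p : A[X]) := rfl

lemma evalC_surjective (h : Mult b ω) (c : K) (hc : c ≠ 0) : Function.Surjective (evalC h c) := by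
  intro a
  obtain ⟨k, hk⟩ := exists_mem_Fil b ω a
  refine ⟨⟨monomial k ((c⁻¹) ^ k • a), monomial_mem_rees h (Submodule.smul_mem _ _ hk)⟩, ?_⟩
  rw [evalC_apply]
  simp only [Polynomial.aeval_monomial, Algebra.algebraMap_self, RingHom.id_apply]
  rw [← map_pow, mul_comm, ← Algebra.smul_def, smul_smul, ← mul_pow,
    mul_inv_cancel₀ hc, one_pow, one_smul]

lemma coe_algebraMap_X_sub_C (h : Mult b ω) (c : K) :
    ((algebraMap K[X] (rees h) (X - C c) : rees h) : A[X]) = X - C (algebraMap K A c) := by
  rw [coe_algebraMap_poly]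
  simp

lemma ker_evalC (h : Mult b ω) (c : K) (hc : c ≠ 0) :
    RingHom.ker (evalC h c) = Ideal.span {algebraMap K[X] (rees h) (X - C c)} := by
  apply le_antisymm
  · intro p hp
    rw [RingHom.mem_ker, evalC_apply] at hp
    have hroot : Polynomial.IsRoot (p : A[X]) (algebraMap K A c) := by
      rw [Polynomial.IsRoot.def, ← Polynomial.coe_aeval_eq_eval]
      exact hp
    set c' := algebraMap K A c with hc'
    set q := (p : A[X]) /ₘ (X - C c') with hq
    have hmul : (X - C c') * q = (p : A[X]) := Polynomial.mul_divByMonic_eq_iff_isRoot.2 hroot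
    have hcoeff0 : c' * q.coeff 0 = - (p : A[X]).coeff 0 := by
      rw [← hmul, sub_mul, Polynomial.coeff_sub, Polynomial.coeff_X_mul_zero,
        Polynomial.coeff_C_mul, zero_sub, neg_neg]
    have hcoeffS : ∀ k, c' * q.coeff (k + 1) = q.coeff k - (p : A[X]).coeff (k + 1) := by
      intro k
      rw [← hmul, sub_mul, Polynomial.coeff_sub, Polynomial.coeff_X_mul,
        Polynomial.coeff_C_mul]
      ring
    have hinv : ∀ y z : A, c' * y = z → y = c⁻¹ • z := by
      intro y z hyz
      rw [← hyz, hc', ← Algebra.smul_def, smul_smul, inv_mul_cancel₀ hc, one_smul]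
    have hqmem : ∀ k, q.coeff k ∈ Fil b ω k := by
      intro k
      induction k with
      | zero =>
        rw [hinv _ _ hcoeff0]
        exact Submodule.smul_mem _ _ (Submodule.neg_mem _ (p.2 0))
      | succ k ih =>
        rw [hinv _ _ (hcoeffS k)]
        exact Submodule.smul_mem _ _
          (Submodule.sub_mem _ (Fil_mono b ω (Nat.le_succ k) ih) (p.2 (k + 1)))
    rw [Ideal.mem_span_singleton']
    refine ⟨⟨q, hqmem⟩, ?_⟩
    apply Subtype.ext
    rw [MulMemClass.coe_mul, coe_algebraMap_X_sub_C, mul_comm]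
    exact hmul
  · rw [Ideal.span_le, Set.singleton_subset_iff, SetLike.mem_coe, RingHom.mem_ker, evalC_apply,
      coe_algebraMap_X_sub_C]
    simp

/-- the fibre of the Rees algebra at `c ≠ 0` is `A`. -/
noncomputable def fibreEquiv (h : Mult b ω) (c : K) (hc : c ≠ 0) :
    (rees h ⧸ Ideal.span {algebraMap K[X] (rees h) (X - C c)}) ≃ₐ[K] A :=
  (Ideal.quotientEquivAlgOfEq K (ker_evalC h c hc).symm).trans
    (Ideal.quotientKerAlgEquivOfSurjective (evalC_surjective h c hc))

end GenericFibre

section SpecialFibre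

variable (h : Mult b ω)

/-- the ideal `(t)` of the Rees algebra. -/
noncomputable abbrev I0 : Ideal (rees h) := Ideal.span {algebraMap K[X] (rees h) X}

/-- the classes of the basis elements in the special fibre. -/
noncomputable def eBar (i : ι) : rees h ⧸ I0 h := Ideal.Quotient.mk _ (eR h i)

lemma X_smul_mem_I0 (g : K[X]) (r : rees h) : (X * g) • r ∈ I0 h := by
  rw [mul_smul, Algebra.smul_def]
  exact Ideal.mul_mem_right _ _ (Ideal.subset_span rfl)

lemma mk_smul_eR (f : K[X]) (i : ι) :
    Ideal.Quotient.mk (I0 h) (f • eR h i) = (f.coeff 0) • eBar h i := by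
  have hf : f = C (f.coeff 0) + X * f.divX := by
    conv_lhs => rw [← Polynomial.divX_mul_X_add f]
    ring
  conv_lhs => rw [hf, add_smul, map_add]
  rw [Ideal.Quotient.eq_zero_iff_mem.2 (X_smul_mem_I0 h _ _), add_zero]
  have : (C (f.coeff 0) : K[X]) • eR h i = (f.coeff 0) • eR h i := by
    show (algebraMap K K[X] (f.coeff 0)) • eR h i = _
    rw [algebraMap_smul]
  rw [this]
  exact map_smul (Ideal.Quotient.mkₐ K (I0 h)) _ _

theorem span_eBar : ⊤ ≤ Submodule.span K (Set.range (eBar h)) := by
  classical
  intro x _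
  obtain ⟨r, rfl⟩ := Ideal.Quotient.mk_surjective x
  have hr : r = ∑ i ∈ ((basisR h).repr r).support, ((basisR h).repr r i) • eR h i := by
    conv_lhs => rw [← (basisR h).linearCombination_repr r]
    rw [Finsupp.linearCombination_apply, Finsupp.sum]
    refine Finset.sum_congr rfl (fun i _ => ?_)
    rw [basisR, Module.Basis.mk_apply]
  rw [hr, map_sum]
  refine Submodule.sum_mem _ (fun i _ => ?_)
  rw [mk_smul_eR]
  exact Submodule.smul_mem _ _ (Submodule.subset_span ⟨i, rfl⟩)

theorem linearIndependent_eBar : LinearIndependent K (eBar h) := by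
  classical
  rw [linearIndependent_iff']
  intro s a hsum i hi
  have h1 : Ideal.Quotient.mk (I0 h) (∑ j ∈ s, (C (a j) : K[X]) • eR h j) = 0 := by
    rw [map_sum, ← hsum]
    refine Finset.sum_congr rfl (fun j _ => ?_)
    rw [mk_smul_eR, Polynomial.coeff_C_zero]
  rw [Ideal.Quotient.eq_zero_iff_mem, Ideal.mem_span_singleton'] at h1
  obtain ⟨r, hr⟩ := h1
  have h2 : (basisR h).repr (r * algebraMap K[X] (rees h) X) i =
      (basisR h).repr (∑ j ∈ s, (C (a j) : K[X]) • eR h j) i := by rw [hr]
  rw [mul_comm, ← Algebra.smul_def, map_smul, map_sum] at h2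
  simp only [map_smul, Finsupp.smul_apply, Finsupp.finsetSum_apply] at h2
  have h3 : ∀ j ∈ s, ((basisR h).repr (eR h j)) i = if j = i then 1 else 0 := by
    intro j _
    have : eR h j = basisR h j := by rw [basisR, Module.Basis.mk_apply]
    rw [this, Module.Basis.repr_self, Finsupp.single_apply]
  rw [Finset.sum_congr rfl (fun j hj => by rw [h3 j hj])] at h2
  simp only [smul_eq_mul, mul_ite, mul_one, mul_zero, Finset.sum_ite_eq', hi, if_true] at h2
  have h4 := congrArg (fun p : K[X] => p.coeff 0) h2
  simp only [Polynomial.coeff_X_mul_zero, Polynomial.coeff_C_zero] at h4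
  exact h4.symm

/-- the basis of the special fibre. -/
noncomputable def basisBar : Module.Basis ι K (rees h ⧸ I0 h) :=
  Module.Basis.mk (linearIndependent_eBar h) (span_eBar h)

lemma basisBar_apply (i : ι) : basisBar h i = eBar h i := by
  rw [basisBar, Module.Basis.mk_apply]

/-- an algebra map from an algebra with a basis, sending the basis to the basis of the special
fibre, is bijective. -/
theorem bijective_of_basis {B : Type*} [CommRing B] [Algebra K B] (β : Module.Basis ι K B)
    (ψ : B →ₐ[K] (rees h ⧸ I0 h)) (hψ : ∀ i, ψ (β i) = eBar h i) : Function.Bijective ψ := by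
  have : ψ.toLinearMap = (β.equiv (basisBar h) (Equiv.refl ι)).toLinearMap := by
    apply β.ext
    intro i
    simp [hψ, basisBar_apply]
  have h2 : (ψ : B → _) = (β.equiv (basisBar h) (Equiv.refl ι)) := by
    funext x
    exact congrArg (fun f : B →ₗ[K] _ => f x) this
  rw [h2]
  exact (β.equiv (basisBar h) (Equiv.refl ι)).bijective

lemma mk_monomial_succ_eq_zero {k : ℕ} {x : A} (hx : x ∈ Fil b ω k) :
    Ideal.Quotient.mk (I0 h)
      ⟨monomial (k + 1) x, monomial_mem_rees h (Fil_mono b ω (Nat.le_succ k) hx)⟩ = 0 := by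
  rw [Ideal.Quotient.eq_zero_iff_mem, Ideal.mem_span_singleton']
  refine ⟨⟨monomial k x, monomial_mem_rees h hx⟩, ?_⟩
  apply Subtype.ext
  rw [MulMemClass.coe_mul, coe_algebraMap_poly]
  simp only [Polynomial.map_X]
  rw [← Polynomial.monomial_mul_X]

end SpecialFibre

end Groth.Agent.Lib.Helper22.Rees
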