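import Mathlib
import Groth.Agent.Lib.Helper22.GrassSMT
import Groth.Agent.Lib.Helper22.ReesDegen

/-!
# The standard monomial basis of a Schubert cone and its weight filtrations
-/

namespace Groth.Agent.Lib.Helper22.Grass

open W4bk4grassmannian MvPolynomial

universe u

section Basis

variable (K : Type u) [Field K] [Infinite K] {d n : ℕ}

/-- chains below `w`. -/
abbrev Ch (w : Idx d n) : Type := ChU (fun _ : Fin 1 => w)

lemma Ch.le {w : Idx d n} (c : Ch w) (k : Fin c.1) : c.2.1 k ≤ w := by
  obtain ⟨_, hi⟩ := c.2.2.2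
  exact hi k

/-- the coordinate ring of the cone over the Schubert variety. -/
abbrev Aw (w : Idx d n) : Type u := PlRing K d n ⧸ schubertVanishing K d n w

/-- the class of a standard monomial. -/
noncomputable def bCh (w : Idx d n) (c : Ch w) : Aw K w :=
  Ideal.Quotient.mk (schubertVanishing K d n w) (chainMon K c.2.1)

lemma iInf_const_w (w : Idx d n) :
    (⨅ i : Fin 1, schubertVanishing K d n ((fun _ : Fin 1 => w) i)) = schubertVanishing K d n w :=
  iInf_const

theorem linearIndependent_bCh (hd : 0 < d) (w : Idx d n) : LinearIndependent K (bCh K w) := by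
  have := linearIndependent_chainMon (K := K) hd (fun _ : Fin 1 => w)
  rw [iInf_const_w] at this
  exact this

theorem span_bCh (w : Idx d n) : ⊤ ≤ Submodule.span K (Set.range (bCh K w)) := by
  have := span_chainMon_iInf_eq_top (K := K) (fun _ : Fin 1 => w)
  rw [iInf_const_w] at this
  rw [← this]
  rfl

/-- the standard monomial basis. -/
noncomputable def basisCh (hd : 0 < d) (w : Idx d n) : Module.Basis (Ch w) K (Aw K w) :=
  Module.Basis.mk (linearIndependent_bCh K hd w) (span_bCh K w)

lemma basisCh_apply (hd : 0 < d) (w : Idx d n) (c : Ch w) : basisCh K hd w c = bCh K w c := by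
  rw [basisCh, Module.Basis.mk_apply]

/-- evaluation at the generic matrix of shape `w`, on the coordinate ring. -/
noncomputable def Ebar (w : Idx d n) : Aw K w →ₐ[K] MatRing K d n :=
  Ideal.Quotient.liftₐ (schubertVanishing K d n w) (evalL (K := K) (shapeM K w))
    (fun f hf => schubertVanishing_le_ker (K := K) w hf)

lemma Ebar_mk (w : Idx d n) (f : PlRing K d n) :
    Ebar K w (Ideal.Quotient.mk _ f) = evalL (K := K) (shapeM K w) f := by
  unfold Ebar
  rw [Ideal.Quotient.liftₐ_apply]
  rfl

lemma LT_Ebar_bCh (w : Idx d n) (c : Ch w) : LT (Ebar K w (bCh K w c)) (delta c.2.1) := by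
  unfold bCh
  rw [Ebar_mk, evalL_chainMon]
  exact LT.prod Finset.univ _ _ (fun k _ => LT_minor w (c.2.1 k) (c.le k))

variable {K}

/-- the coefficient at the diagonal monomial of a chain of maximal weight. -/
lemma coeff_sum_of_max (hd : 0 < d) (w : Idx d n) (l : Ch w →₀ K) (e : Ch w)
    (hmax : ∀ e' ∈ l.support, wt (delta e'.2.1) ≤ wt (delta e.2.1)) :
    coeff (delta e.2.1) (∑ e' ∈ l.support, l e' • Ebar K w (bCh K w e')) = l e := by
  classical
  rw [MvPolynomial.coeff_sum]
  have hterm : ∀ e' ∈ l.support, coeff (delta e.2.1) (l e' • Ebar K w (bCh K w e')) =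
      if e' = e then l e else 0 := by
    intro e' he'
    rw [MvPolynomial.coeff_smul, LT_Ebar_bCh K w e' _ (hmax e' he')]
    by_cases h : e' = e
    · subst h
      rw [if_pos rfl, if_pos rfl, smul_eq_mul, mul_one]
    · rw [if_neg h, if_neg (fun h' => h (ChU_ext hd e' e h')), smul_zero]
  rw [Finset.sum_congr rfl hterm, Finset.sum_ite_eq']
  split_ifs with h
  · rfl
  · exact (Finsupp.notMem_support_iff.1 h).symm

lemma Ebar_eq_sum (hd : 0 < d) (w : Idx d n) (x : Aw K w) :
    Ebar K w x = ∑ e ∈ ((basisCh K hd w).repr x).support,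
      ((basisCh K hd w).repr x e) • Ebar K w (bCh K w e) := by
  conv_lhs => rw [← (basisCh K hd w).linearCombination_repr x]
  rw [Finsupp.linearCombination_apply, Finsupp.sum, map_sum]
  refine Finset.sum_congr rfl (fun e _ => ?_)
  rw [map_smul, basisCh_apply]

/-- **characterization of the weight filtration** by the monomials of the evaluation. -/
theorem repr_weight_lt_iff (hd : 0 < d) (w : Idx d n) (x : Aw K w) (N : ℕ) :
    (∀ e, (basisCh K hd w).repr x e ≠ 0 → wt (delta e.2.1) < N) ↔
      ∀ ν, N ≤ wt ν → coeff ν (Ebar K w x) = 0 := by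
  classical
  constructor
  · intro h ν hν
    rw [Ebar_eq_sum hd w x, MvPolynomial.coeff_sum]
    refine Finset.sum_eq_zero (fun e he => ?_)
    have hlt := h e (Finsupp.mem_support_iff.1 he)
    rw [MvPolynomial.coeff_smul, LT_Ebar_bCh K w e ν (le_trans hlt.le hν), if_neg, smul_zero]
    intro h'
    rw [← h'] at hν
    omega
  · intro h
    by_contra hcon
    push Not at hcon
    obtain ⟨e₁, he₁, hN⟩ := hcon
    set l := (basisCh K hd w).repr x with hl
    have hne : l.support.Nonempty := ⟨e₁, Finsupp.mem_support_iff.2 he₁⟩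
    obtain ⟨e, he, hmax⟩ := Finset.exists_max_image l.support (fun e => wt (delta e.2.1)) hne
    have h1 := coeff_sum_of_max hd w l e hmax
    rw [← Ebar_eq_sum hd w x] at h1
    have h2 : N ≤ wt (delta e.2.1) := le_trans hN (hmax e₁ (Finsupp.mem_support_iff.2 he₁))
    rw [h _ h2] at h1
    exact (Finsupp.mem_support_iff.1 he) h1.symm

end Basis

section HibiWeight

variable {K : Type u} [Field K] [Infinite K] {d n : ℕ}

open Groth.Agent.Lib.Helper22.Rees

/-- the weight of a standard monomial for the toric (Hibi) degeneration. -/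
noncomputable def ωH (w : Idx d n) (c : Ch w) : ℕ := wt (delta c.2.1)

theorem mem_FilH_iff (hd : 0 < d) (w : Idx d n) (x : Aw K w) (k : ℕ) :
    x ∈ Fil (basisCh K hd w) (ωH w) k ↔ ∀ ν, k < wt ν → coeff ν (Ebar K w x) = 0 := by
  rw [mem_Fil_iff]
  have := repr_weight_lt_iff hd w x (k + 1)
  constructor
  · intro h ν hν
    exact this.1 (fun e he => Nat.lt_succ_of_le (h e he)) ν hν
  · intro h e he
    exact Nat.le_of_lt_succ (this.2 (fun ν hν => h ν hν) e he)

theorem mult_H (hd : 0 < d) (w : Idx d n) : Mult (basisCh K hd w) (ωH w) := by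
  classical
  constructor
  · rw [mem_FilH_iff]
    intro ν hν
    rw [map_one, MvPolynomial.coeff_one, if_neg]
    intro h
    rw [← h, map_zero] at hν
    exact lt_irrefl _ hν
  · intro e e'
    rw [mem_FilH_iff]
    intro ν hν
    rw [map_mul, basisCh_apply, basisCh_apply]
    have hlt := (LT_Ebar_bCh K w e).mul (LT_Ebar_bCh K w e')
    have hν' : wt (delta e.2.1 + delta e'.2.1) ≤ wt ν := by
      rw [map_add]
      exact hν.le
    rw [hlt ν hν', if_neg]
    intro h
    rw [← h, map_add] at hν
    exact lt_irrefl _ hν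

end HibiWeight

section Homogeneous

variable {K : Type u} [Field K] [Infinite K] {d n : ℕ}

lemma isHomogeneous_minor (w θ : Idx d n) :
    (((shapeM K w).submatrix θ.1 id).det).IsHomogeneous d := by
  rw [Matrix.det_apply]
  refine MvPolynomial.IsHomogeneous.sum _ _ _ (fun σ _ => ?_)
  have hprod : (∏ i, (shapeM K w).submatrix θ.1 id (σ i) i).IsHomogeneous d := by
    have := MvPolynomial.IsHomogeneous.prod (Finset.univ : Finset (Fin d))
      (fun i => (shapeM K w).submatrix θ.1 id (σ i) i) (fun _ => 1) (fun i _ => by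
        simp only [shapeM, Matrix.submatrix_apply, Matrix.of_apply, id]
        split_ifs
        · exact MvPolynomial.isHomogeneous_X _ _
        · exact MvPolynomial.isHomogeneous_zero _ _ _)
    simpa using this
  rcases Int.units_eq_one_or (Equiv.Perm.sign σ) with hs | hs
  · rw [hs, one_smul]; exact hprod
  · rw [hs, Units.neg_smul, one_smul]; exact hprod.neg

lemma isHomogeneous_Ebar_bCh (w : Idx d n) (c : Ch w) :
    (Ebar K w (bCh K w c)).IsHomogeneous (c.1 * d) := by
  unfold bCh
  rw [Ebar_mk, evalL_chainMon]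
  have := MvPolynomial.IsHomogeneous.prod (Finset.univ : Finset (Fin c.1))
    (fun k => ((shapeM K w).submatrix (c.2.1 k).1 id).det) (fun _ => d)
    (fun k _ => isHomogeneous_minor w (c.2.1 k))
  simpa using this

/-- an element whose evaluation is homogeneous of degree `m d` is a combination of standard
monomials of length `m`. -/
theorem repr_length_eq (hd : 0 < d) (w : Idx d n) (x : Aw K w) (m : ℕ)
    (hx : (Ebar K w x).IsHomogeneous (m * d)) (e : Ch w)
    (he : (basisCh K hd w).repr x e ≠ 0) : e.1 = m := by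
  classical
  by_contra hne
  set l := (basisCh K hd w).repr x with hl
  set l' := l.filter (fun e : Ch w => e.1 ≠ m) with hl'
  have hsupp : l'.support = l.support.filter (fun e : Ch w => e.1 ≠ m) := Finsupp.support_filter _ _
  have he' : e ∈ l'.support := by
    rw [hsupp, Finset.mem_filter]
    exact ⟨Finsupp.mem_support_iff.2 he, hne⟩
  obtain ⟨es, hes, hmax⟩ := Finset.exists_max_image l'.support (fun e => wt (delta e.2.1)) ⟨e, he'⟩
  have h1 := coeff_sum_of_max hd w l' es hmax
  have hes' := Finset.mem_filter.1 (hsupp ▸ hes)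
  have hl'es : l' es = l es := Finsupp.filter_apply_pos _ _ hes'.2
  -- the sum over l' is homogeneous of degree m d
  have hP : (∑ e' ∈ l'.support, l' e' • Ebar K w (bCh K w e')).IsHomogeneous (m * d) := by
    have hsplit : Ebar K w x =
        ∑ e' ∈ l.support.filter (fun e : Ch w => e.1 ≠ m), l e' • Ebar K w (bCh K w e') +
          ∑ e' ∈ l.support.filter (fun e : Ch w => ¬ e.1 ≠ m), l e' • Ebar K w (bCh K w e') := by
      rw [Finset.sum_filter_add_sum_filter_not]
      exact Ebar_eq_sum hd w x
    have h2 : (∑ e' ∈ l.support.filter (fun e : Ch w => ¬ e.1 ≠ m),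
        l e' • Ebar K w (bCh K w e')).IsHomogeneous (m * d) := by
      refine MvPolynomial.IsHomogeneous.sum _ _ _ (fun e' he' => ?_)
      have hm : e'.1 = m := not_not.1 (Finset.mem_filter.1 he').2
      have := isHomogeneous_Ebar_bCh (K := K) w e'
      rw [hm] at this
      exact (MvPolynomial.homogeneousSubmodule _ K (m * d)).smul_mem _ this
    have h3 : ∑ e' ∈ l'.support, l' e' • Ebar K w (bCh K w e') =
        Ebar K w x - ∑ e' ∈ l.support.filter (fun e : Ch w => ¬ e.1 ≠ m),
          l e' • Ebar K w (bCh K w e') := by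
      rw [hsplit, add_sub_cancel_right, hsupp]
      refine Finset.sum_congr rfl (fun e' he' => ?_)
      have : l' e' = l e' :=
        Finsupp.filter_apply_pos (fun e : Ch w => e.1 ≠ m) l (Finset.mem_filter.1 he').2
      rw [this]
    rw [h3]
    exact hx.sub h2
  have hdeg : (delta es.2.1).degree ≠ m * d := by
    rw [delta_degree]
    intro h
    exact hes'.2 (Nat.eq_of_mul_eq_mul_right hd h)
  rw [hP.coeff_eq_zero hdeg] at h1
  exact (Finsupp.mem_support_iff.1 hes) h1.symm

end Homogeneous

end Groth.Agent.Lib.Helper22.Grass
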