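import Mathlib
import Groth.Agent.Lib.Helper22.GrassASL
import Groth.Agent.Lib.Helper22.GrassSMT

/-!
# The bottom Plücker coordinate is a prime element of the coordinate ring of a Schubert cone
-/

namespace Groth.Agent.Lib.Helper22.Grass

open W4bk4grassmannian MvPolynomial

universe u

section ShapeQ

variable (K : Type u) [CommRing K] {d n : ℕ}

/-- the generic matrix with prescribed zero pattern. -/
noncomputable def shapeQ (Q : Fin n → Fin d → Prop) [∀ p t, Decidable (Q p t)] :
    Matrix (Fin n) (Fin d) (MatRing K d n) :=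
  Matrix.of fun p t => if Q p t then X (p, t) else 0

variable {K} (Q : Fin n → Fin d → Prop) [∀ p t, Decidable (Q p t)]

lemma shapeQ_minor_eq_zero (w φ : Idx d n) (hQ : ∀ p t, Q p t → p ≤ w.1 t) (h : ¬ φ ≤ w) :
    ((shapeQ K Q).submatrix φ.1 id).det = 0 := by
  have hex : ∃ t₀, w.1 t₀ < φ.1 t₀ := by
    by_contra hne
    push Not at hne
    exact h hne
  obtain ⟨t₀, ht₀⟩ := hex
  rw [Matrix.det_apply]
  refine Finset.sum_eq_zero (fun σ _ => ?_)
  obtain ⟨s, hs1, hs2⟩ := exists_le_ge σ t₀
  have hz : (shapeQ K Q).submatrix φ.1 id (σ s) s = 0 := by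
    simp only [shapeQ, Matrix.submatrix_apply, Matrix.of_apply, id]
    rw [if_neg]
    intro hq
    have := hQ _ _ hq
    have h2 : w.1 s < φ.1 (σ s) :=
      calc w.1 s ≤ w.1 t₀ := w.2.monotone hs1
        _ < φ.1 t₀ := ht₀
        _ ≤ φ.1 (σ s) := φ.2.monotone hs2
    exact absurd this (not_le.2 h2)
  rw [Finset.prod_eq_zero (f := fun i => (shapeQ K Q).submatrix φ.1 id (σ i) i)
    (Finset.mem_univ s) hz, smul_zero]

theorem schubertVanishing_le_ker_Q [IsDomain K] [Infinite K] (w : Idx d n)
    (hQ : ∀ p t, Q p t → p ≤ w.1 t) :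
    schubertVanishing K d n w ≤ RingHom.ker (evalL (K := K) (shapeQ K Q)) := by
  intro f hf
  rw [RingHom.mem_ker]
  apply MvPolynomial.funext
  intro a
  rw [map_zero]
  have h1 := evalL_map (K := K) (MvPolynomial.aeval a : MatRing K d n →ₐ[K] K) (shapeQ K Q) f
  have h0 : MvPolynomial.eval a (evalL (K := K) (shapeQ K Q) f) =
      MvPolynomial.aeval a (evalL (K := K) (shapeQ K Q) f) := rfl
  rw [h0, h1]
  unfold schubertVanishing at hf
  simp only [Ideal.mem_iInf, RingHom.mem_ker] at hf
  refine hf _ (fun φ hφ => ?_)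
  have h2 := shapeQ_minor_eq_zero (K := K) Q w φ hQ hφ
  have h3 := congrArg (MvPolynomial.eval a) h2
  rw [map_zero, RingHom.map_det] at h3
  exact h3

lemma LT_minor_Q (θ : Idx d n) (h : ∀ t, Q (θ.1 t) t) :
    LT (((shapeQ K Q).submatrix θ.1 id).det) (diag θ) := by
  classical
  intro ν hν
  rw [Matrix.det_apply, MvPolynomial.coeff_sum]
  rw [Finset.sum_eq_single (1 : Equiv.Perm (Fin d))]
  · rw [Equiv.Perm.sign_one, one_smul]
    have : ∏ i, (shapeQ K Q).submatrix θ.1 id ((1 : Equiv.Perm (Fin d)) i) i =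
        monomial (diag θ) 1 := by
      unfold diag
      rw [← prod_X_eq_monomial]
      refine Finset.prod_congr rfl (fun t _ => ?_)
      simp only [shapeQ, Matrix.submatrix_apply, Matrix.of_apply, id, Equiv.Perm.coe_one]
      rw [if_pos (h t)]
    rw [this, MvPolynomial.coeff_monomial]
  · intro σ _ hσ
    have hterm : ∏ i, (shapeQ K Q).submatrix θ.1 id (σ i) i =
        if ∀ i ∈ Finset.univ, Q (θ.1 (σ i)) i then
          monomial (∑ t, Finsupp.single (θ.1 (σ t), t) 1) 1 else 0 := by
      have h0 : ∏ i, (shapeQ K Q).submatrix θ.1 id (σ i) i =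
          ∏ i, (if Q (θ.1 (σ i)) i then (X (θ.1 (σ i), i) : MatRing K d n) else 0) := by
        refine Finset.prod_congr rfl (fun t _ => ?_)
        simp only [shapeQ, Matrix.submatrix_apply, Matrix.of_apply, id]
      rw [h0, Finset.prod_ite_zero, prod_X_eq_monomial]
      congr
    have hlt : wt (∑ t, Finsupp.single (θ.1 (σ t), t) 1) < wt (diag θ) := by
      unfold diag
      rw [wt_sum_single, wt_sum_single]
      exact sum_perm_mul_lt (fun t => (θ.1 t).val) (fun a b hab => Fin.lt_def.1 (θ.2 hab)) σ hσ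
    have hne : ∑ t, Finsupp.single (θ.1 (σ t), t) 1 ≠ ν := by
      intro hh
      rw [hh] at hlt
      omega
    rw [hterm]
    split_ifs
    · rcases Int.units_eq_one_or (Equiv.Perm.sign σ) with hs | hs
      · rw [hs, one_smul, MvPolynomial.coeff_monomial, if_neg hne]
      · rw [hs, Units.neg_smul, one_smul, MvPolynomial.coeff_neg, MvPolynomial.coeff_monomial,
          if_neg hne, neg_zero]
    · rw [smul_zero, MvPolynomial.coeff_zero]
  · intro h1
    exact absurd (Finset.mem_univ _) h1

/-- polynomials with distinct leading monomials (for the weight) are linearly independent. -/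
theorem linearIndependent_of_LT [Nontrivial K] {ι : Type*} (g : ι → MatRing K d n)
    (δ : ι → (Fin n × Fin d →₀ ℕ)) (hδ : Function.Injective δ) (h : ∀ i, LT (g i) (δ i)) :
    LinearIndependent K g := by
  classical
  rw [linearIndependent_iff']
  intro s a hsum
  by_contra hcon
  push Not at hcon
  obtain ⟨i₁, hi₁s, hi₁⟩ := hcon
  set S' := s.filter (fun i => a i ≠ 0) with hS'
  have hi₁S : i₁ ∈ S' := Finset.mem_filter.2 ⟨hi₁s, hi₁⟩
  obtain ⟨is, hisS, hmax⟩ := Finset.exists_max_image S' (fun i => wt (δ i)) ⟨i₁, hi₁S⟩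
  have his := Finset.mem_filter.1 hisS
  have hcoeff : coeff (δ is) (∑ i ∈ s, a i • g i) = a is := by
    rw [MvPolynomial.coeff_sum, Finset.sum_eq_single is]
    · rw [MvPolynomial.coeff_smul, h is _ le_rfl, if_pos rfl, smul_eq_mul, mul_one]
    · intro i his' hne
      rw [MvPolynomial.coeff_smul]
      by_cases hg : a i = 0
      · rw [hg, zero_smul]
      · have hiS : i ∈ S' := Finset.mem_filter.2 ⟨his', hg⟩
        rw [h i _ (hmax i hiS), if_neg, smul_zero]
        intro h'
        exact hne (hδ h')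
    · intro h'
      exact absurd his.1 h'
  rw [hsum, MvPolynomial.coeff_zero] at hcoeff
  exact his.2 hcoeff.symm

end ShapeQ

section Prime

variable {K : Type u} [Field K] [Infinite K] {d n : ℕ}

/-- the bottom element of `I(d,n)`. -/
def iotaIdx (hdn : d < n) : Idx d n := ⟨fun t => ⟨t.val, lt_trans t.isLt hdn⟩, fun _ _ h => h⟩

lemma iotaIdx_le (hdn : d < n) (θ : Idx d n) : iotaIdx hdn ≤ θ := by
  intro t
  rw [Fin.le_def]
  exact le_strictMono_apply θ.1 θ.2 t.val t.isLt

lemma strictMono_gap (θ : Idx d n) : ∀ (j : ℕ) (a b : Fin d), a.val + j = b.val →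
    (θ.1 a).val + j ≤ (θ.1 b).val
  | 0, a, b, h => by
    have : a = b := Fin.ext (by omega)
    rw [this]
    omega
  | j + 1, a, b, h => by
    have hb : b.val - 1 < d := by have := b.isLt; omega
    have h1 := strictMono_gap θ j a ⟨b.val - 1, hb⟩ (by simp only; omega)
    have h2 : θ.1 ⟨b.val - 1, hb⟩ < θ.1 b := θ.2 (Fin.lt_def.2 (by simp only; omega))
    have h3 := Fin.lt_def.1 h2
    omega

lemma last_ge_of_ne_iota (hdn : d < n) (θ : Idx d n) (hne : θ ≠ iotaIdx hdn) (t : Fin d)
    (ht : t.val + 1 = d) : d ≤ (θ.1 t).val := by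
  by_contra hlt
  apply hne
  apply Subtype.ext
  funext s
  apply Fin.ext
  show (θ.1 s).val = s.val
  have h1 : s.val ≤ (θ.1 s).val := le_strictMono_apply θ.1 θ.2 s.val s.isLt
  have h2 := strictMono_gap θ (t.val - s.val) s t (by have := s.isLt; omega)
  omega

/-- the zero pattern of the generic matrix of the Richardson variety `X(w) ∩ {p_ι = 0}`. -/
def QR (w : Idx d n) : Fin n → Fin d → Prop := fun p t => p ≤ w.1 t ∧ (t.val + 1 = d → d ≤ p.val)

instance (w : Idx d n) : ∀ p t, Decidable (QR w p t) := fun p t =>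
  inferInstanceAs (Decidable (p ≤ w.1 t ∧ (t.val + 1 = d → d ≤ p.val)))

variable (K) in
/-- evaluation at the generic matrix of the Richardson variety. -/
noncomputable def ER (w : Idx d n) : PlRing K d n →ₐ[K] MatRing K d n :=
  evalL (K := K) (shapeQ K (QR w))

lemma schubertVanishing_le_ker_ER (w : Idx d n) :
    schubertVanishing K d n w ≤ RingHom.ker (ER K w) :=
  schubertVanishing_le_ker_Q (K := K) (QR w) w (fun _ _ h => h.1)

lemma ER_X_iota (hd : 0 < d) (hdn : d < n) (w : Idx d n) : ER K w (X (iotaIdx hdn)) = 0 := by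
  unfold ER
  rw [evalL_X]
  refine Matrix.det_eq_zero_of_column_eq_zero ⟨d - 1, by omega⟩ (fun s => ?_)
  simp only [shapeQ, Matrix.submatrix_apply, Matrix.of_apply, id]
  rw [if_neg]
  rintro ⟨_, h2⟩
  have := h2 (by simp only; omega)
  have h3 : ((iotaIdx hdn).1 s).val = s.val := rfl
  have := s.isLt
  omega

/-- chains below `w` avoiding the bottom element. -/
abbrev ChR (hdn : d < n) (w : Idx d n) : Type := {c : Ch w // ∀ k, c.2.1 k ≠ iotaIdx hdn}

lemma LT_ER_chainMon (hdn : d < n) (w : Idx d n) (c : ChR hdn w) :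
    LT (ER K w (chainMon K c.1.2.1)) (delta c.1.2.1) := by
  unfold ER
  rw [evalL_chainMon]
  refine LT.prod Finset.univ _ _ (fun k _ => LT_minor_Q (QR w) (c.1.2.1 k) (fun t => ?_))
  exact ⟨c.1.le k t, fun ht => last_ge_of_ne_iota hdn _ (c.2 k) t ht⟩

theorem ker_ER_eq (hd : 0 < d) (hdn : d < n) (w : Idx d n) :
    schubertVanishing K d n w ⊔ Ideal.span {X (iotaIdx hdn)} = RingHom.ker (ER K w) := by
  have hle : schubertVanishing K d n w ⊔ Ideal.span {X (iotaIdx hdn)} ≤ RingHom.ker (ER K w) := by
    refine sup_le (schubertVanishing_le_ker_ER w) ?_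
    rw [Ideal.span_le, Set.singleton_subset_iff]
    exact ER_X_iota hd hdn w
  refine ideal_eq_of_span_of_indep (K := K) _ _ hle
    (fun c : ChR hdn w => chainMon K c.1.2.1) ?_ ?_
  · -- spanning
    have h1 := span_chainMon_eq_top (K := K) (fun _ : Fin 1 => w)
      (schubertVanishing K d n w ⊔ Ideal.span {X (iotaIdx hdn)})
      (le_trans (plIdealTop_le_schubertVanishing w) le_sup_left) (fun m c _ hex => by
        push Not at hex
        obtain ⟨k, hk⟩ := hex 0
        exact chainMon_mem_of_X_mem _ c k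
          (Ideal.mem_sup_left (X_mem_schubertVanishing w (c k) hk)))
    rw [eq_top_iff, ← h1, Submodule.span_le]
    rintro _ ⟨c, rfl⟩
    by_cases hc : ∀ k, c.2.1 k ≠ iotaIdx hdn
    · exact Submodule.subset_span ⟨⟨c, hc⟩, rfl⟩
    · push Not at hc
      obtain ⟨k, hk⟩ := hc
      have : chainMon K c.2.1 ∈
          schubertVanishing K d n w ⊔ Ideal.span {X (iotaIdx hdn)} := by
        refine chainMon_mem_of_X_mem _ c.2.1 k ?_
        rw [hk]
        exact Ideal.mem_sup_right (Ideal.subset_span rfl)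
      simp only
      rw [Ideal.Quotient.eq_zero_iff_mem.2 this]
      exact Submodule.zero_mem _
  · -- independence
    have hLI : LinearIndependent K (fun c : ChR hdn w => ER K w (chainMon K c.1.2.1)) :=
      linearIndependent_of_LT _ (fun c : ChR hdn w => delta c.1.2.1)
        (fun c c' h => Subtype.ext (ChU_ext hd c.1 c'.1 h)) (fun c => LT_ER_chainMon hdn w c)
    set lift := Ideal.Quotient.liftₐ (RingHom.ker (ER K w)) (ER K w) (fun f hf => hf) with hlift
    refine LinearIndependent.of_comp lift.toLinearMap ?_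
    have h2 : (lift.toLinearMap ∘ fun c : ChR hdn w =>
        Ideal.Quotient.mk (RingHom.ker (ER K w)) (chainMon K c.1.2.1)) =
        fun c : ChR hdn w => ER K w (chainMon K c.1.2.1) := by
      funext c
      show lift (Ideal.Quotient.mk _ _) = _
      rw [hlift, Ideal.Quotient.liftₐ_apply]
      rfl
    rw [h2]
    exact hLI

lemma X_notMem_schubertVanishing (w θ : Idx d n) (hθ : θ ≤ w) :
    (X θ : PlRing K d n) ∉ schubertVanishing K d n w := by
  classical
  intro h
  have h1 := schubertVanishing_le_ker (K := K) w h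
  rw [RingHom.mem_ker, evalL_X] at h1
  have h2 := LT_minor (K := K) w θ hθ (diag θ) le_rfl
  rw [h1, MvPolynomial.coeff_zero, if_pos rfl] at h2
  exact zero_ne_one h2

/-- **The bottom Plücker coordinate is prime on the cone over a Schubert variety.** -/
theorem prime_mk_X_iota (hd : 0 < d) (hdn : d < n) (w : Idx d n) :
    Prime (Ideal.Quotient.mk (schubertVanishing K d n w) (X (iotaIdx hdn))) := by
  have hprime : (schubertVanishing K d n w ⊔ Ideal.span {X (iotaIdx hdn)}).IsPrime := by
    rw [ker_ER_eq hd hdn w]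
    exact RingHom.ker_isPrime _
  have hne : Ideal.Quotient.mk (schubertVanishing K d n w) (X (iotaIdx hdn)) ≠ 0 := by
    intro h
    exact X_notMem_schubertVanishing w _ (iotaIdx_le hdn w) (Ideal.Quotient.eq_zero_iff_mem.1 h)
  rw [← Ideal.span_singleton_prime hne]
  have hmap : Ideal.span {Ideal.Quotient.mk (schubertVanishing K d n w) (X (iotaIdx hdn))} =
      (schubertVanishing K d n w ⊔ Ideal.span {X (iotaIdx hdn)}).map
        (Ideal.Quotient.mk (schubertVanishing K d n w)) := by
    rw [Ideal.map_sup, Ideal.map_quotient_self, bot_sup_eq, Ideal.map_span, Set.image_singleton]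
  rw [hmap]
  refine Ideal.map_isPrime_of_surjective Ideal.Quotient.mk_surjective ?_
  rw [Ideal.mk_ker]
  exact le_sup_left

end Prime

end Groth.Agent.Lib.Helper22.Grass
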