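import Mathlib
import Groth.Agent.Lib.Helper22.GrassSMT
import Groth.Agent.Lib.Helper22.GrassPrime

/-!
# The opposite cell of a Schubert variety: `(S/J(τ))[1/X_τ] ≅ K[z][T, T⁻¹]`
-/

namespace Groth.Agent.Lib.Helper22.Grass

open W4bk4grassmannian MvPolynomial

universe u v

section DetIdentity

variable {L : Type v} [CommRing L] {d n : ℕ}

lemma vecMul_adjugate_apply (A : Matrix (Fin d) (Fin d) L) (b : Fin d → L) (j : Fin d) :
    (Matrix.vecMul b A.adjugate) j = (A.updateRow j b).det := by
  rw [← Matrix.cramer_transpose_apply, Matrix.cramer_eq_adjugate_mulVec, ← Matrix.adjugate_transpose,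
    Matrix.mulVec_transpose]

lemma det_one_updateRow (b : Fin d → L) (j : Fin d) :
    ((1 : Matrix (Fin d) (Fin d) L).updateRow j b).det = b j := by
  rw [← Matrix.cramer_transpose_apply, Matrix.transpose_one, Matrix.cramer_one]
  rfl

lemma submatrix_update_eq (M : Matrix (Fin n) (Fin d) L) (τ : Fin d → Fin n) (i : Fin n)
    (j : Fin d) :
    M.submatrix (Function.update τ j i) id = (M.submatrix τ id).updateRow j (M i) := by
  ext a b
  rw [Matrix.submatrix_apply, Matrix.updateRow_apply, Function.update_apply]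
  split_ifs <;> rfl

/-- Cramer: the entries of `M * adj(M_τ)` are the minors with one row replaced. -/
lemma mul_adjugate_apply' (M : Matrix (Fin n) (Fin d) L) (τ : Fin d → Fin n) (i : Fin n)
    (j : Fin d) :
    (M * (M.submatrix τ id).adjugate) i j = (M.submatrix (Function.update τ j i) id).det := by
  rw [submatrix_update_eq, ← vecMul_adjugate_apply, Matrix.mul_apply_eq_vecMul]

theorem det_mul_det_pow (M : Matrix (Fin n) (Fin d) L) (τ θ : Fin d → Fin n) :
    (M.submatrix θ id).det * (M.submatrix τ id).det ^ (d - 1) =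
      (Matrix.of fun a b : Fin d => (M.submatrix (Function.update τ b (θ a)) id).det).det := by
  have h1 : (Matrix.of fun a b : Fin d => (M.submatrix (Function.update τ b (θ a)) id).det) =
      (M.submatrix θ id) * (M.submatrix τ id).adjugate := by
    ext a b
    rw [Matrix.of_apply, ← mul_adjugate_apply' M τ (θ a) b]
    simp [Matrix.mul_apply]
  rw [h1, Matrix.det_mul, Matrix.det_adjugate, Fintype.card_fin]

end DetIdentity

section Cramer

variable (K : Type u) [CommRing K] {d n : ℕ}

/-- the signed coordinate obtained from `τ` by putting the row `i` at the position `j`. -/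
noncomputable def cf (τ : Idx d n) (i : Fin n) (j : Fin d) : PlRing K d n :=
  coord K d n (Function.update τ.1 j i)

variable {K}

lemma evalL_cf {L : Type v} [CommRing L] [Algebra K L] (M : Matrix (Fin n) (Fin d) L)
    (τ : Idx d n) (i : Fin n) (j : Fin d) :
    evalL (K := K) M (cf K τ i j) = (M.submatrix (Function.update τ.1 j i) id).det :=
  evalL_coord (K := K) M _

lemma evalL_cramer {L : Type v} [CommRing L] [Algebra K L] (M : Matrix (Fin n) (Fin d) L)
    (τ θ : Idx d n) :
    evalL (K := K) M (X θ * X τ ^ (d - 1) -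
      (Matrix.of fun a b : Fin d => cf K τ (θ.1 a) b).det) = 0 := by
  rw [map_sub, map_mul, map_pow, evalL_X, evalL_X, AlgHom.map_det, det_mul_det_pow, sub_eq_zero]
  congr 1
  ext a b
  simp [evalL_cf]

theorem cramer_mem_vanishing (τ θ : Idx d n) :
    X θ * X τ ^ (d - 1) - (Matrix.of fun a b : Fin d => cf K τ (θ.1 a) b).det ∈
      vanishing K d n := by
  unfold vanishing
  rw [Ideal.mem_iInf]
  intro A
  rw [RingHom.mem_ker]
  exact evalL_cramer (K := K) A τ θ

lemma vanishing_le_schubertVanishing (w : Idx d n) :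
    vanishing K d n ≤ schubertVanishing K d n w := by
  unfold vanishing schubertVanishing
  exact le_iInf fun A => le_iInf fun _ => iInf_le _ A

theorem cramer_mem_schubertVanishing (w τ θ : Idx d n) :
    X θ * X τ ^ (d - 1) - (Matrix.of fun a b : Fin d => cf K τ (θ.1 a) b).det ∈
      schubertVanishing K d n w :=
  vanishing_le_schubertVanishing w (cramer_mem_vanishing τ θ)

end Cramer

section Pattern

variable {K : Type u} [CommRing K] {d n : ℕ}

lemma minor_eq_zero_of_pattern {L : Type v} [CommRing L] (M : Matrix (Fin n) (Fin d) L)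
    (w φ : Idx d n) (hM : ∀ p t, w.1 t < p → M p t = 0) (h : ¬ φ ≤ w) :
    (M.submatrix φ.1 id).det = 0 := by
  have hex : ∃ t₀, w.1 t₀ < φ.1 t₀ := by
    by_contra hne
    push Not at hne
    exact h hne
  obtain ⟨t₀, ht₀⟩ := hex
  rw [Matrix.det_apply]
  refine Finset.sum_eq_zero (fun σ _ => ?_)
  obtain ⟨s, hs1, hs2⟩ := exists_le_ge σ t₀
  have hz : M.submatrix φ.1 id (σ s) s = 0 := by
    rw [Matrix.submatrix_apply]
    apply hM
    calc w.1 s ≤ w.1 t₀ := w.2.monotone hs1
      _ < φ.1 t₀ := ht₀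
      _ ≤ φ.1 (σ s) := φ.2.monotone hs2
  rw [Finset.prod_eq_zero (f := fun i => M.submatrix φ.1 id (σ i) i)
    (Finset.mem_univ s) hz, smul_zero]

theorem schubertVanishing_le_ker_of_pattern [IsDomain K] [Infinite K] {σ : Type*}
    (M : Matrix (Fin n) (Fin d) (MvPolynomial σ K)) (w : Idx d n)
    (hM : ∀ p t, w.1 t < p → M p t = 0) :
    schubertVanishing K d n w ≤ RingHom.ker (evalL (K := K) M) := by
  intro f hf
  rw [RingHom.mem_ker]
  apply MvPolynomial.funext
  intro a
  rw [map_zero]
  have h1 := evalL_map (K := K) (MvPolynomial.aeval a : MvPolynomial σ K →ₐ[K] K) M f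
  have h0 : MvPolynomial.eval a (evalL (K := K) M f) =
      MvPolynomial.aeval a (evalL (K := K) M f) := rfl
  rw [h0, h1]
  unfold schubertVanishing at hf
  simp only [Ideal.mem_iInf, RingHom.mem_ker] at hf
  refine hf _ (fun φ hφ => ?_)
  have h2 := minor_eq_zero_of_pattern M w φ hM hφ
  have h3 := congrArg (MvPolynomial.eval a) h2
  rw [map_zero, RingHom.map_det] at h3
  exact h3

end Pattern

section CellMatrix

variable (K : Type u) [CommRing K] {d n : ℕ}

/-- the coordinates of the opposite cell of `X(τ)`: pairs `(i, j)` with `i` not a row of `τ`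
and `i < τ_j`. -/
abbrev Zc (τ : Idx d n) : Type := {p : Fin n × Fin d // (∀ k, τ.1 k ≠ p.1) ∧ p.1 < τ.1 p.2}

/-- the matrix with the identity on the rows `τ` and the cell coordinates elsewhere. -/
noncomputable def cellM0 (τ : Idx d n) : Matrix (Fin n) (Fin d) (MvPolynomial (Option (Zc τ)) K) :=
  Matrix.of fun i j => if i = τ.1 j then 1 else
    if h : (∀ k, τ.1 k ≠ i) ∧ i < τ.1 j then X (some ⟨(i, j), h⟩) else 0

/-- the same matrix with the first column multiplied by the cone parameter `T`. -/
noncomputable def cellM (τ : Idx d n) : Matrix (Fin n) (Fin d) (MvPolynomial (Option (Zc τ)) K) :=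
  Matrix.of fun i j => (if j.val = 0 then X none else 1) * cellM0 K τ i j

variable {K}

lemma cellM0_tau (τ : Idx d n) : (cellM0 K τ).submatrix τ.1 id = 1 := by
  ext a b
  rw [Matrix.submatrix_apply, id, Matrix.one_apply]
  unfold cellM0
  rw [Matrix.of_apply]
  by_cases hab : a = b
  · rw [hab, if_pos rfl, if_pos rfl]
  · rw [if_neg (fun h => hab (τ.2.injective h)), if_neg hab, dif_neg]
    rintro ⟨h1, -⟩
    exact h1 a rfl

lemma cellM0_pattern (τ : Idx d n) (p : Fin n) (t : Fin d) (h : τ.1 t < p) :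
    cellM0 K τ p t = 0 := by
  unfold cellM0
  rw [Matrix.of_apply, if_neg (ne_of_gt h), dif_neg]
  rintro ⟨-, h2⟩
  exact lt_asymm h h2

lemma cellM_pattern (τ : Idx d n) (p : Fin n) (t : Fin d) (h : τ.1 t < p) :
    cellM K τ p t = 0 := by
  unfold cellM
  rw [Matrix.of_apply, cellM0_pattern τ p t h, mul_zero]

lemma prod_scale (hd : 0 < d) {R : Type*} [CommRing R] (T : R) :
    ∏ j : Fin d, (if j.val = 0 then T else 1) = T := by
  rw [Finset.prod_eq_single (⟨0, hd⟩ : Fin d)]
  · simp
  · intro j _ hj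
    rw [if_neg]
    intro h
    exact hj (Fin.ext h)
  · intro h
    exact absurd (Finset.mem_univ _) h

lemma cellM_minor (hd : 0 < d) (τ : Idx d n) (a : Fin d → Fin n) :
    ((cellM K τ).submatrix a id).det = X none * ((cellM0 K τ).submatrix a id).det := by
  have h1 : (cellM K τ).submatrix a id =
      Matrix.of fun i j => (if j.val = 0 then (X none : MvPolynomial (Option (Zc τ)) K) else 1) *
        ((cellM0 K τ).submatrix a id) i j := by
    ext i j
    simp [cellM]
  rw [h1, Matrix.det_mul_row, prod_scale hd]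

lemma cellM0_minor_update (τ : Idx d n) (i : Fin n) (j : Fin d) :
    ((cellM0 K τ).submatrix (Function.update τ.1 j i) id).det = cellM0 K τ i j := by
  rw [submatrix_update_eq, cellM0_tau, det_one_updateRow]

variable [IsDomain K] [Infinite K]

theorem schubertVanishing_le_ker_cellM (τ : Idx d n) :
    schubertVanishing K d n τ ≤ RingHom.ker (evalL (K := K) (cellM K τ)) :=
  schubertVanishing_le_ker_of_pattern _ τ (cellM_pattern τ)

lemma evalL_cellM_cf (hd : 0 < d) (τ : Idx d n) (i : Fin n) (j : Fin d) :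
    evalL (K := K) (cellM K τ) (cf K τ i j) = X none * cellM0 K τ i j := by
  rw [evalL_cf, cellM_minor hd, cellM0_minor_update]

lemma evalL_cellM_X_tau (hd : 0 < d) (τ : Idx d n) :
    evalL (K := K) (cellM K τ) (X τ) = X none := by
  rw [evalL_X, cellM_minor hd, cellM0_tau, Matrix.det_one, mul_one]

lemma cellM0_of_mem (τ : Idx d n) (p : Zc τ) :
    cellM0 K τ p.1.1 p.1.2 = X (some p) := by
  unfold cellM0
  rw [Matrix.of_apply, if_neg (fun h => p.2.1 p.1.2 h.symm), dif_pos p.2]

end CellMatrix

section CfFacts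

variable {K : Type u} [CommRing K] {d n : ℕ}

lemma invCount_strictMono (i : Idx d n) : invCount d n i.1 = 0 := by
  unfold invCount
  rw [Finset.card_eq_zero, Finset.filter_eq_empty_iff]
  rintro p - ⟨h1, h2⟩
  exact lt_asymm (i.2 h1) h2

lemma coord_idx (i : Idx d n) : coord K d n i.1 = X i := by
  rw [coord_strictMono, invCount_strictMono, pow_zero, one_mul]

lemma cf_self (τ : Idx d n) (j : Fin d) : cf K τ (τ.1 j) j = X τ := by
  unfold cf
  rw [Function.update_eq_self, coord_idx]

lemma cf_eq_zero_of_ne (τ : Idx d n) (l j : Fin d) (hlj : l ≠ j) : cf K τ (τ.1 l) j = 0 := by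
  unfold cf coord
  rw [dif_neg]
  intro h
  have hinj := injective_of_card_image h
  have : Function.update τ.1 j (τ.1 l) j = Function.update τ.1 j (τ.1 l) l := by
    rw [Function.update_self, Function.update_of_ne hlj]
  exact hlj (hinj this).symm

lemma cf_mem_of_gt {K : Type u} [Field K] [Infinite K] (τ : Idx d n) (i : Fin n) (j : Fin d)
    (hgt : τ.1 j < i) : cf K τ i j ∈ schubertVanishing K d n τ := by
  unfold cf coord
  split_ifs with h
  · refine Ideal.mul_mem_left _ _ (X_mem_schubertVanishing τ _ ?_)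
    intro hle
    obtain ⟨σ, hσ⟩ := exists_sort_perm _ h
    obtain ⟨s, hs1, hs2⟩ := exists_le_ge σ.symm j
    -- `φ_s ≤ φ_j ≤ τ_j`
    set φ := sortIdx d n (Function.update τ.1 j i) h with hφ
    have h1 : φ.1 s ≤ τ.1 j := le_trans (φ.2.monotone hs1) (hle j)
    have h2 := hσ (σ.symm s)
    rw [Equiv.apply_symm_apply] at h2
    by_cases hj : σ.symm s = j
    · rw [hj, Function.update_self] at h2
      rw [← h2] at h1
      exact absurd hgt (not_lt.2 h1)
    · rw [Function.update_of_ne hj] at h2
      rw [← h2] at h1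
      have h3 : σ.symm s ≤ j := τ.2.le_iff_le.1 h1
      exact hj (le_antisymm h3 hs2)
  · exact zero_mem _

end CfFacts

section AlgIndep

variable {K : Type u} [Field K]

/-- `T` and the `T z_p` are algebraically independent. -/
theorem algebraicIndependent_scaled (σ : Type*) :
    AlgebraicIndependent K (fun o : Option σ =>
      (Option.elim o (X none) (fun p => X none * X (some p)) : MvPolynomial (Option σ) K)) := by
  classical
  unfold AlgebraicIndependent
  set x : Option σ → MvPolynomial (Option σ) K :=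
    fun o => Option.elim o (X none) (fun p => X none * X (some p)) with hx
  let F := FractionRing (MvPolynomial (Option σ) K)
  let g' : MvPolynomial (Option σ) K →ₐ[K] F :=
    MvPolynomial.aeval (fun o : Option σ => Option.elim o
      (algebraMap (MvPolynomial (Option σ) K) F (X none))
      (fun p => algebraMap (MvPolynomial (Option σ) K) F (X (some p)) /
        algebraMap (MvPolynomial (Option σ) K) F (X none)))
  have hT : algebraMap (MvPolynomial (Option σ) K) F (X none) ≠ 0 := by
    intro h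
    have := (IsFractionRing.injective (MvPolynomial (Option σ) K) F)
      (h.trans (map_zero _).symm)
    exact MvPolynomial.X_ne_zero _ this
  have hcomp : g'.comp (MvPolynomial.aeval x) =
      IsScalarTower.toAlgHom K (MvPolynomial (Option σ) K) F := by
    apply MvPolynomial.algHom_ext
    intro o
    rw [AlgHom.comp_apply, MvPolynomial.aeval_X, IsScalarTower.toAlgHom_apply]
    cases o with
    | none =>
      simp only [hx, Option.elim_none]
      rw [MvPolynomial.aeval_X]
      rfl
    | some p =>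
      simp only [hx, Option.elim_some]
      rw [map_mul, MvPolynomial.aeval_X, MvPolynomial.aeval_X]
      simp only [Option.elim_none, Option.elim_some]
      rw [mul_div_cancel₀ _ hT]
  intro a b hab
  have h1 : g'.comp (MvPolynomial.aeval x) a = g'.comp (MvPolynomial.aeval x) b := by
    rw [AlgHom.comp_apply, AlgHom.comp_apply, hab]
  rw [hcomp, IsScalarTower.toAlgHom_apply, IsScalarTower.toAlgHom_apply] at h1
  exact IsFractionRing.injective (MvPolynomial (Option σ) K) F h1

end AlgIndep

section Domain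

variable (K : Type u) [Field K] [Infinite K] {d n : ℕ}

theorem Ebar_injective (hd : 0 < d) (w : Idx d n) : Function.Injective (Ebar K w) := by
  have hLI : LinearIndependent K (fun c : Ch w => Ebar K w (bCh K w c)) :=
    linearIndependent_of_LT _ (fun c : Ch w => delta c.2.1)
      (fun c c' h => ChU_ext hd c c' h) (fun c => LT_Ebar_bCh K w c)
  rw [injective_iff_map_eq_zero]
  intro x hx
  set b := basisCh K hd w with hb
  have h1 : x = Finsupp.linearCombination K b (b.repr x) := (b.linearCombination_repr x).symm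
  have h2 : Ebar K w x = Finsupp.linearCombination K (fun c : Ch w => Ebar K w (bCh K w c))
      (b.repr x) := by
    conv_lhs => rw [h1]
    have := Finsupp.apply_linearCombination K (Ebar K w).toLinearMap b (b.repr x)
    rw [AlgHom.toLinearMap_apply] at this
    rw [this]
    have hfun : ((Ebar K w).toLinearMap ∘ b : Ch w → MatRing K d n) =
        fun c : Ch w => Ebar K w (bCh K w c) := by
      funext c
      simp only [Function.comp_apply, AlgHom.toLinearMap_apply, hb, basisCh_apply]
    rw [hfun]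
  rw [hx] at h2
  have h3 := (linearIndependent_iff.1 hLI) (b.repr x) h2.symm
  exact (LinearEquiv.map_eq_zero_iff b.repr).1 h3

theorem isDomain_Aw (hd : 0 < d) (w : Idx d n) : IsDomain (Aw K w) :=
  Function.Injective.isDomain (Ebar K w).toRingHom (Ebar_injective K hd w)

theorem schubertVanishing_isPrime (hd : 0 < d) (w : Idx d n) :
    (schubertVanishing K d n w).IsPrime := by
  haveI := isDomain_Aw K hd w
  exact (Ideal.Quotient.isDomain_iff_prime _).1 inferInstance

end Domain

section CellIso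

variable (K : Type u) [Field K] [Infinite K] {d n : ℕ}

/-- the class of `X_τ`. -/
noncomputable def xτ (τ : Idx d n) : Aw K τ := Ideal.Quotient.mk _ (X τ)

/-- the classes of the signed coordinates `τ[j ↦ i]`. -/
noncomputable def cfb (τ : Idx d n) (i : Fin n) (j : Fin d) : Aw K τ :=
  Ideal.Quotient.mk _ (cf K τ i j)

/-- the polynomial ring of the cone over the cell. -/
abbrev Pc (τ : Idx d n) : Type u := MvPolynomial (Option (Zc τ)) K

/-- evaluation on the cell matrix. -/
noncomputable def φc (τ : Idx d n) : Aw K τ →ₐ[K] Pc K τ :=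
  Ideal.Quotient.liftₐ _ (evalL (K := K) (cellM K τ))
    (fun f hf => schubertVanishing_le_ker_cellM τ hf)

lemma φc_mk (τ : Idx d n) (f : PlRing K d n) :
    φc K τ (Ideal.Quotient.mk _ f) = evalL (K := K) (cellM K τ) f := by
  unfold φc
  rw [Ideal.Quotient.liftₐ_apply]
  rfl

lemma φc_xτ (hd : 0 < d) (τ : Idx d n) : φc K τ (xτ K τ) = X none := by
  unfold xτ
  rw [φc_mk, evalL_cellM_X_tau hd]

lemma φc_cfb (hd : 0 < d) (τ : Idx d n) (i : Fin n) (j : Fin d) :
    φc K τ (cfb K τ i j) = X none * cellM0 K τ i j := by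
  unfold cfb
  rw [φc_mk, evalL_cellM_cf hd]

lemma xτ_ne_zero (τ : Idx d n) : xτ K τ ≠ 0 := by
  unfold xτ
  rw [Ne, Ideal.Quotient.eq_zero_iff_mem]
  exact X_notMem_schubertVanishing τ τ le_rfl

/-- Cramer's rule in the coordinate ring. -/
lemma cramer_Aw (τ θ : Idx d n) :
    (Ideal.Quotient.mk (schubertVanishing K d n τ) (X θ)) * xτ K τ ^ (d - 1) =
      (Matrix.of fun a b : Fin d => cfb K τ (θ.1 a) b).det := by
  have h := cramer_mem_schubertVanishing (K := K) τ τ θ
  rw [← Ideal.Quotient.eq_zero_iff_mem, map_sub, sub_eq_zero, map_mul, map_pow,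
    RingHom.map_det] at h
  rw [xτ, h]
  congr 1

lemma cfb_self (τ : Idx d n) (j : Fin d) : cfb K τ (τ.1 j) j = xτ K τ := by
  unfold cfb xτ
  rw [cf_self]

lemma cfb_eq_zero (τ : Idx d n) (i : Fin n) (j : Fin d) (hij : i ≠ τ.1 j)
    (h : ¬ ((∀ k, τ.1 k ≠ i) ∧ i < τ.1 j)) : cfb K τ i j = 0 := by
  unfold cfb
  rw [not_and_or] at h
  rcases h with h | h
  · push Not at h
    obtain ⟨k, hk⟩ := h
    have hkj : k ≠ j := fun hkj => hij (by rw [← hk, hkj])
    rw [← hk, cf_eq_zero_of_ne τ k j hkj, map_zero]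
  · rw [Ideal.Quotient.eq_zero_iff_mem]
    exact cf_mem_of_gt τ i j (lt_of_le_of_ne (not_lt.1 h) (Ne.symm hij))

/-- the localization of the coordinate ring at `X_τ`. -/
abbrev Ax (τ : Idx d n) : Type u := Localization.Away (xτ K τ)

/-- the Laurent ring of the cone over the cell. -/
abbrev Bc (τ : Idx d n) : Type u := Localization.Away (X none : Pc K τ)

/-- the map `A[1/X_τ] → K[z][T, 1/T]`. -/
noncomputable def φloc (hd : 0 < d) (τ : Idx d n) : Ax K τ →+* Bc K τ :=
  IsLocalization.Away.lift (xτ K τ) (g := (algebraMap (Pc K τ) (Bc K τ)).comp (φc K τ).toRingHom)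
    (by
      have : ((algebraMap (Pc K τ) (Bc K τ)).comp (φc K τ).toRingHom) (xτ K τ) =
          algebraMap (Pc K τ) (Bc K τ) (X none) := by
        rw [RingHom.comp_apply]
        congr 1
        exact φc_xτ K hd τ
      rw [this]
      exact IsLocalization.Away.algebraMap_isUnit _)

lemma φloc_algebraMap (hd : 0 < d) (τ : Idx d n) (a : Aw K τ) :
    φloc K hd τ (algebraMap (Aw K τ) (Ax K τ) a) = algebraMap (Pc K τ) (Bc K τ) (φc K τ a) := by
  unfold φloc
  rw [IsLocalization.Away.lift_eq]
  rfl

/-- the images of the variables. -/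
noncomputable def yx (τ : Idx d n) (o : Option (Zc τ)) : Ax K τ :=
  Option.elim o (algebraMap (Aw K τ) (Ax K τ) (xτ K τ))
    (fun p => algebraMap (Aw K τ) (Ax K τ) (cfb K τ p.1.1 p.1.2) *
      IsLocalization.Away.invSelf (xτ K τ))

/-- the map `K[z][T] → A[1/X_τ]`. -/
noncomputable def ψ₀ (τ : Idx d n) : Pc K τ →+* Ax K τ :=
  MvPolynomial.eval₂Hom (algebraMap K (Ax K τ)) (yx K τ)

lemma ψ₀_none (τ : Idx d n) : ψ₀ K τ (X none) = algebraMap (Aw K τ) (Ax K τ) (xτ K τ) := by
  unfold ψ₀
  rw [MvPolynomial.eval₂Hom_X']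
  rfl

lemma ψ₀_some (τ : Idx d n) (p : Zc τ) : ψ₀ K τ (X (some p)) =
    algebraMap (Aw K τ) (Ax K τ) (cfb K τ p.1.1 p.1.2) *
      IsLocalization.Away.invSelf (xτ K τ) := by
  unfold ψ₀
  rw [MvPolynomial.eval₂Hom_X']
  rfl

lemma ψ₀_cell (τ : Idx d n) (i : Fin n) (j : Fin d) :
    ψ₀ K τ (X none * cellM0 K τ i j) = algebraMap (Aw K τ) (Ax K τ) (cfb K τ i j) := by
  rw [map_mul, ψ₀_none]
  unfold cellM0
  rw [Matrix.of_apply]
  by_cases hij : i = τ.1 j
  · rw [if_pos hij, map_one, mul_one, hij, cfb_self]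
  · rw [if_neg hij]
    by_cases h : (∀ k, τ.1 k ≠ i) ∧ i < τ.1 j
    · rw [dif_pos h, ψ₀_some]
      rw [mul_comm (algebraMap (Aw K τ) (Ax K τ) (cfb K τ _ _)), ← mul_assoc,
        IsLocalization.Away.mul_invSelf, one_mul]
    · rw [dif_neg h, map_zero, mul_zero, cfb_eq_zero K τ i j hij h, map_zero]

/-- the map `K[z][T, 1/T] → A[1/X_τ]`. -/
noncomputable def ψloc (τ : Idx d n) : Bc K τ →+* Ax K τ :=
  IsLocalization.Away.lift (X none : Pc K τ) (g := ψ₀ K τ)
    (by
      rw [ψ₀_none]
      exact IsLocalization.Away.algebraMap_isUnit _)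

lemma ψloc_algebraMap (τ : Idx d n) (f : Pc K τ) :
    ψloc K τ (algebraMap (Pc K τ) (Bc K τ) f) = ψ₀ K τ f := by
  unfold ψloc
  rw [IsLocalization.Away.lift_eq]

lemma φloc_invSelf (hd : 0 < d) (τ : Idx d n) :
    algebraMap (Pc K τ) (Bc K τ) (X none) *
      φloc K hd τ (IsLocalization.Away.invSelf (xτ K τ)) = 1 := by
  have h := congrArg (φloc K hd τ) (IsLocalization.Away.mul_invSelf (S := Ax K τ) (xτ K τ))
  rw [map_mul, map_one, φloc_algebraMap, φc_xτ K hd] at h
  exact h

theorem φloc_comp_ψloc (hd : 0 < d) (τ : Idx d n) :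
    (φloc K hd τ).comp (ψloc K τ) = RingHom.id _ := by
  apply IsLocalization.ringHom_ext (Submonoid.powers (X none : Pc K τ))
  apply MvPolynomial.ringHom_ext
  · intro r
    simp only [RingHom.comp_apply, RingHom.id_apply]
    rw [ψloc_algebraMap]
    unfold ψ₀
    rw [MvPolynomial.eval₂Hom_C, IsScalarTower.algebraMap_apply K (Aw K τ) (Ax K τ),
      φloc_algebraMap, AlgHom.commutes]
    rfl
  · intro o
    simp only [RingHom.comp_apply, RingHom.id_apply]
    rw [ψloc_algebraMap]
    cases o with
    | none =>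
      rw [ψ₀_none, φloc_algebraMap, φc_xτ K hd]
    | some p =>
      rw [ψ₀_some, map_mul, φloc_algebraMap, φc_cfb K hd, cellM0_of_mem, map_mul,
        mul_comm (algebraMap (Pc K τ) (Bc K τ) (X none)), mul_assoc, φloc_invSelf, mul_one]

lemma ψloc_invSelf (τ : Idx d n) :
    ψloc K τ (IsLocalization.Away.invSelf (X none : Pc K τ)) =
      IsLocalization.Away.invSelf (xτ K τ) := by
  have h := congrArg (ψloc K τ)
    (IsLocalization.Away.mul_invSelf (S := Bc K τ) (X none : Pc K τ))
  rw [map_mul, map_one, ψloc_algebraMap, ψ₀_none] at h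
  have h2 := IsLocalization.Away.mul_invSelf (S := Ax K τ) (xτ K τ)
  exact left_inv_eq_right_inv (by rw [mul_comm]; exact h) h2

lemma algebraMap_X_mem_range (τ θ : Idx d n) :
    algebraMap (Aw K τ) (Ax K τ) (Ideal.Quotient.mk _ (X θ)) ∈ (ψloc K τ).range := by
  have h := congrArg (algebraMap (Aw K τ) (Ax K τ)) (cramer_Aw K τ θ)
  rw [map_mul, map_pow, RingHom.map_det] at h
  have hmat : (algebraMap (Aw K τ) (Ax K τ)).mapMatrix
      (Matrix.of fun a b : Fin d => cfb K τ (θ.1 a) b) =
      (ψ₀ K τ).mapMatrix (Matrix.of fun a b : Fin d => X none * cellM0 K τ (θ.1 a) b) := by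
    ext a b
    simp only [RingHom.mapMatrix_apply, Matrix.map_apply, Matrix.of_apply]
    rw [ψ₀_cell]
  rw [hmat, ← RingHom.map_det] at h
  set D := (Matrix.of fun a b : Fin d => (X none : Pc K τ) * cellM0 K τ (θ.1 a) b).det with hD
  have h2 : algebraMap (Aw K τ) (Ax K τ) (Ideal.Quotient.mk _ (X θ)) =
      ψ₀ K τ D * IsLocalization.Away.invSelf (xτ K τ) ^ (d - 1) := by
    rw [← h, mul_assoc, ← mul_pow, IsLocalization.Away.mul_invSelf, one_pow, mul_one]
  rw [h2]
  refine ⟨algebraMap (Pc K τ) (Bc K τ) D *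
    IsLocalization.Away.invSelf (X none : Pc K τ) ^ (d - 1), ?_⟩
  rw [map_mul, map_pow, ψloc_algebraMap, ψloc_invSelf]

lemma algebraMap_mem_range (τ : Idx d n) (a : Aw K τ) :
    algebraMap (Aw K τ) (Ax K τ) a ∈ (ψloc K τ).range := by
  obtain ⟨f, rfl⟩ := Ideal.Quotient.mk_surjective a
  induction f using MvPolynomial.induction_on with
  | C r =>
    refine ⟨algebraMap (Pc K τ) (Bc K τ) (C r), ?_⟩
    rw [ψloc_algebraMap]
    unfold ψ₀
    rw [MvPolynomial.eval₂Hom_C, IsScalarTower.algebraMap_apply K (Aw K τ) (Ax K τ)]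
    rfl
  | add f g hf hg =>
    rw [map_add, map_add]
    exact Subring.add_mem _ hf hg
  | mul_X f θ hf =>
    rw [map_mul, map_mul]
    exact Subring.mul_mem _ hf (algebraMap_X_mem_range K τ θ)

theorem ψloc_surjective (τ : Idx d n) : Function.Surjective (ψloc K τ) := by
  intro z
  obtain ⟨k, a, hz⟩ := IsLocalization.Away.surj (xτ K τ) z
  have hz' : z = algebraMap (Aw K τ) (Ax K τ) a * IsLocalization.Away.invSelf (xτ K τ) ^ k := by
    rw [← hz, mul_assoc, ← mul_pow, IsLocalization.Away.mul_invSelf, one_pow, mul_one]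
  have hmem : z ∈ (ψloc K τ).range := by
    rw [hz']
    refine Subring.mul_mem _ (algebraMap_mem_range K τ a) (Subring.pow_mem _ ?_ k)
    exact ⟨_, ψloc_invSelf K τ⟩
  exact hmem

theorem φloc_bijective (hd : 0 < d) (τ : Idx d n) : Function.Bijective (φloc K hd τ) := by
  have hcomp : ∀ w, φloc K hd τ (ψloc K τ w) = w := fun w =>
    congrArg (fun f : Bc K τ →+* Bc K τ => f w) (φloc_comp_ψloc K hd τ)
  constructor
  · rw [injective_iff_map_eq_zero]
    intro z hz
    obtain ⟨w, rfl⟩ := ψloc_surjective K τ z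
    rw [hcomp] at hz
    rw [hz, map_zero]
  · intro w
    exact ⟨ψloc K τ w, hcomp w⟩

/-- `A[1/X_τ] ≅ K[z][T, 1/T]`. -/
noncomputable def cellEquiv (hd : 0 < d) (τ : Idx d n) : Ax K τ ≃+* Bc K τ :=
  RingEquiv.ofBijective (φloc K hd τ) (φloc_bijective K hd τ)

theorem φc_injective (hd : 0 < d) (τ : Idx d n) : Function.Injective (φc K τ) := by
  haveI := isDomain_Aw K hd τ
  rw [injective_iff_map_eq_zero]
  intro a ha
  have h1 : φloc K hd τ (algebraMap (Aw K τ) (Ax K τ) a) = 0 := by
    rw [φloc_algebraMap, ha, map_zero]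
  have h2 := (φloc_bijective K hd τ).1 (h1.trans (map_zero _).symm)
  have hinj := IsLocalization.injective (Ax K τ)
    (powers_le_nonZeroDivisors_of_noZeroDivisors (xτ_ne_zero K τ))
  exact hinj (h2.trans (map_zero _).symm)

end CellIso

end Groth.Agent.Lib.Helper22.Grass
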