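import Mathlib
import Groth.Agent.Lib.Helper22.GrassCell

/-!
# Dehomogenization of the standard monomial basis at the bottom Plücker coordinate
-/

namespace Groth.Agent.Lib.Helper22.Grass

open W4bk4grassmannian MvPolynomial

universe u

variable (K : Type u) [Field K] [Infinite K] {d n : ℕ}

/-- the ideal `J(w) + (X_ι - 1)`. -/
noncomputable def Qw (hdn : d < n) (w : Idx d n) : Ideal (PlRing K d n) :=
  schubertVanishing K d n w ⊔ Ideal.span {X (iotaIdx hdn) - 1}

variable {K}

/-- appending the bottom element to a chain. -/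
def snocι (hdn : d < n) {w : Idx d n} (c : Ch w) : Ch w :=
  ⟨c.1 + 1, Fin.snoc c.2.1 (iotaIdx hdn), by
    intro a b hab
    induction b using Fin.lastCases with
    | last =>
      rw [Fin.snoc_last]
      exact iotaIdx_le hdn _
    | cast b =>
      have ha : a ≠ Fin.last c.1 := by
        intro h
        rw [h] at hab
        exact absurd (Fin.castSucc_lt_last b) (not_lt.2 hab)
      obtain ⟨a', rfl⟩ := Fin.exists_castSucc_eq.2 ha
      rw [Fin.snoc_castSucc, Fin.snoc_castSucc]
      exact c.2.2.1 (Fin.castSucc_le_castSucc_iff.1 hab), by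
    refine ⟨0, fun k => ?_⟩
    induction k using Fin.lastCases with
    | last =>
      rw [Fin.snoc_last]
      exact iotaIdx_le hdn _
    | cast k =>
      rw [Fin.snoc_castSucc]
      exact c.le k⟩

lemma snocι_fst (hdn : d < n) {w : Idx d n} (c : Ch w) : (snocι hdn c).1 = c.1 + 1 := rfl

lemma chainMon_snocι (hdn : d < n) {w : Idx d n} (c : Ch w) :
    chainMon K (snocι hdn c).2.1 = chainMon K c.2.1 * X (iotaIdx hdn) := by
  unfold chainMon
  show ∏ k : Fin (c.1 + 1), (X ((Fin.snoc c.2.1 (iotaIdx hdn) : Fin (c.1 + 1) → Idx d n) k) :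
    PlRing K d n) = _
  rw [Fin.prod_univ_castSucc]
  simp only [Fin.snoc_castSucc, Fin.snoc_last]

lemma snocι_last (hdn : d < n) {w : Idx d n} (c : Ch w) :
    (snocι hdn c).2.1 (Fin.last c.1) = iotaIdx hdn := by
  show (Fin.snoc c.2.1 (iotaIdx hdn) : Fin (c.1 + 1) → Idx d n) (Fin.last c.1) = _
  rw [Fin.snoc_last]

lemma snocι_injective (hdn : d < n) {w : Idx d n} :
    Function.Injective (snocι hdn (w := w)) := by
  intro c c' h
  obtain ⟨m, c, hc⟩ := c
  obtain ⟨m', c', hc'⟩ := c'
  have hm : m = m' := by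
    have := congrArg Sigma.fst h
    simp only [snocι] at this
    omega
  subst hm
  have h2 : (Fin.snoc c (iotaIdx hdn) : Fin (m + 1) → Idx d n) = Fin.snoc c' (iotaIdx hdn) := by
    have := (Sigma.mk.inj_iff.1 h).2
    have h3 := eq_of_heq this
    exact congrArg Subtype.val h3
  have h4 : c = c' := by
    funext k
    have := congrFun h2 k.castSucc
    rwa [Fin.snoc_castSucc, Fin.snoc_castSucc] at this
  subst h4
  rfl

lemma iterate_snocι_fst (hdn : d < n) {w : Idx d n} (c : Ch w) (k : ℕ) :
    ((snocι hdn)^[k] c).1 = c.1 + k := by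
  induction k with
  | zero => rfl
  | succ k ih =>
    rw [Function.iterate_succ_apply', snocι_fst, ih]
    omega

lemma not_free_snocι (hdn : d < n) {w : Idx d n} (c : Ch w) :
    ¬ ∀ k, (snocι hdn c).2.1 k ≠ iotaIdx hdn := by
  intro h
  exact h (Fin.last c.1) (snocι_last hdn c)

lemma free_notMem_range (hdn : d < n) {w : Idx d n} (e : ChR hdn w) :
    e.1 ∉ Set.range (snocι hdn (w := w)) := by
  rintro ⟨c, hc⟩
  apply not_free_snocι hdn c
  rw [hc]
  exact e.2

variable (K)

/-- multiplication by `X_ι` shifts the standard monomial coordinates. -/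
lemma repr_mul_xι (hd : 0 < d) (hdn : d < n) (w : Idx d n) (y : Aw K w) :
    (basisCh K hd w).repr (y * Ideal.Quotient.mk _ (X (iotaIdx hdn))) =
      Finsupp.mapDomain (snocι hdn) ((basisCh K hd w).repr y) := by
  set b := basisCh K hd w with hb
  let L1 : Aw K w →ₗ[K] (Ch w →₀ K) :=
    b.repr.toLinearMap.comp (LinearMap.mulRight K (Ideal.Quotient.mk _ (X (iotaIdx hdn))))
  let L2 : Aw K w →ₗ[K] (Ch w →₀ K) :=
    (Finsupp.lmapDomain K K (snocι hdn (w := w))).comp b.repr.toLinearMap
  have h12 : L1 = L2 := by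
    apply b.ext
    intro c
    simp only [L1, L2, LinearMap.comp_apply, LinearEquiv.coe_coe, LinearMap.mulRight_apply,
      Finsupp.lmapDomain_apply]
    rw [b.repr_self, Finsupp.mapDomain_single]
    have : b c * Ideal.Quotient.mk _ (X (iotaIdx hdn)) = b (snocι hdn c) := by
      rw [hb, basisCh_apply, basisCh_apply]
      unfold bCh
      rw [chainMon_snocι, map_mul]
    rw [this, b.repr_self]
  exact congrArg (fun L : Aw K w →ₗ[K] (Ch w →₀ K) => L y) h12

/-- the classes of the standard monomials avoiding `X_ι` are linearly independent modulo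
`J(w) + (X_ι - 1)`. -/
theorem linearIndependent_dehom (hd : 0 < d) (hdn : d < n) (w : Idx d n) :
    LinearIndependent K (fun e : ChR hdn w =>
      Ideal.Quotient.mk (Qw K hdn w) (chainMon K e.1.2.1)) := by
  classical
  rw [linearIndependent_iff]
  intro a hsum
  -- the polynomial
  set F : PlRing K d n := ∑ e ∈ a.support, a e • chainMon K e.1.2.1 with hF
  have hFQ : F ∈ Qw K hdn w := by
    rw [← Ideal.Quotient.eq_zero_iff_mem, hF, map_sum]
    rw [Finsupp.linearCombination_apply, Finsupp.sum] at hsum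
    rw [← hsum]
    refine Finset.sum_congr rfl (fun e _ => ?_)
    exact map_smul (Ideal.Quotient.mkₐ K (Qw K hdn w)) (a e) _
  unfold Qw at hFQ
  rw [Submodule.mem_sup] at hFQ
  obtain ⟨j, hj, z, hz, hjz⟩ := hFQ
  obtain ⟨g, rfl⟩ := Ideal.mem_span_singleton'.1 hz
  set b := basisCh K hd w with hb
  set xι : Aw K w := Ideal.Quotient.mk _ (X (iotaIdx hdn)) with hxι
  set gb : Aw K w := Ideal.Quotient.mk _ g with hgb
  set γ := b.repr gb with hγ
  -- the class of `F`
  have hFbar : Ideal.Quotient.mk (schubertVanishing K d n w) F = gb * xι - gb := by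
    rw [← hjz, map_add, Ideal.Quotient.eq_zero_iff_mem.2 hj, zero_add, map_mul, map_sub, map_one]
    ring
  have hrepr : b.repr (Ideal.Quotient.mk (schubertVanishing K d n w) F) =
      Finsupp.mapDomain (snocι hdn) γ - γ := by
    rw [hFbar, map_sub, repr_mul_xι K hd hdn w gb]
  have hreprF : b.repr (Ideal.Quotient.mk (schubertVanishing K d n w) F) =
      Finsupp.mapDomain Subtype.val a := by
    rw [hF, map_sum, map_sum]
    rw [Finsupp.mapDomain, Finsupp.sum]
    refine Finset.sum_congr rfl (fun e _ => ?_)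
    have : Ideal.Quotient.mk (schubertVanishing K d n w) (a e • chainMon K e.1.2.1) =
        a e • b e.1 := by
      rw [hb, basisCh_apply]
      exact map_smul (Ideal.Quotient.mkₐ K (schubertVanishing K d n w)) (a e) _
    rw [this, map_smul, b.repr_self, Finsupp.smul_single, smul_eq_mul, mul_one]
  -- values
  have hval : ∀ c : Ch w, (Finsupp.mapDomain Subtype.val a : Ch w →₀ K) c =
      (Finsupp.mapDomain (snocι hdn) γ) c - γ c := by
    intro c
    rw [← hreprF, hrepr, Finsupp.sub_apply]
  have hfree : ∀ e : ChR hdn w, a e = - γ e.1 := by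
    intro e
    have := hval e.1
    rw [Finsupp.mapDomain_apply Subtype.val_injective,
      Finsupp.mapDomain_notin_range _ _ (free_notMem_range hdn e), zero_sub] at this
    exact this
  have hshift : ∀ c : Ch w, γ (snocι hdn c) = γ c := by
    intro c
    have := hval (snocι hdn c)
    rw [Finsupp.mapDomain_apply (snocι_injective hdn),
      Finsupp.mapDomain_notin_range] at this
    · exact (sub_eq_zero.1 this.symm).symm
    · rintro ⟨e, he⟩
      apply not_free_snocι hdn c
      rw [← he]
      exact e.2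
  have hiter : ∀ (c : Ch w) (k : ℕ), γ ((snocι hdn)^[k] c) = γ c := by
    intro c k
    induction k with
    | zero => rfl
    | succ k ih => rw [Function.iterate_succ_apply', hshift, ih]
  ext e
  rw [hfree e, Finsupp.zero_apply, neg_eq_zero]
  by_contra hne
  have hmem : ∀ k : ℕ, (snocι hdn)^[k] e.1 ∈ γ.support := by
    intro k
    rw [Finsupp.mem_support_iff, hiter]
    exact hne
  have hinj : Function.Injective (fun k : ℕ => (snocι hdn)^[k] e.1) := by
    intro k k' h
    have := congrArg Sigma.fst h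
    simp only [iterate_snocι_fst] at this
    omega
  exact Set.infinite_of_injective_forall_mem hinj hmem γ.support.finite_toSet

lemma mk_Qw_X_iota (hdn : d < n) (w : Idx d n) :
    Ideal.Quotient.mk (Qw K hdn w) (X (iotaIdx hdn)) = 1 := by
  rw [← sub_eq_zero, ← map_one (Ideal.Quotient.mk (Qw K hdn w)), ← map_sub,
    Ideal.Quotient.eq_zero_iff_mem]
  exact Ideal.mem_sup_right (Ideal.mem_span_singleton_self _)

lemma chainMon_mem_span_dehom (hdn : d < n) (w : Idx d n) :
    ∀ (m : ℕ) (c : Fin m → Idx d n), Antitone c → (∀ k, c k ≤ w) →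
      Ideal.Quotient.mk (Qw K hdn w) (chainMon K c) ∈
        Submodule.span K (Set.range fun e : ChR hdn w =>
          Ideal.Quotient.mk (Qw K hdn w) (chainMon K e.1.2.1)) := by
  intro m
  induction m with
  | zero =>
    intro c hc hle
    exact Submodule.subset_span ⟨⟨⟨0, c, hc, ⟨0, hle⟩⟩, fun k => k.elim0⟩, rfl⟩
  | succ m ih =>
    intro c hc hle
    by_cases hfree : ∀ k, c k ≠ iotaIdx hdn
    · exact Submodule.subset_span ⟨⟨⟨m + 1, c, hc, ⟨0, hle⟩⟩, hfree⟩, rfl⟩
    · push Not at hfree
      obtain ⟨k, hk⟩ := hfree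
      have hlast : c (Fin.last m) = iotaIdx hdn :=
        le_antisymm (hk ▸ hc (Fin.le_last k)) (iotaIdx_le hdn _)
      have hprod : chainMon K c = chainMon K (fun i : Fin m => c i.castSucc) * X (iotaIdx hdn) := by
        unfold chainMon
        rw [Fin.prod_univ_castSucc, hlast]
      rw [hprod, map_mul, mk_Qw_X_iota, mul_one]
      exact ih _ (fun a b hab => hc (Fin.castSucc_le_castSucc_iff.2 hab)) (fun i => hle _)

/-- the classes of the standard monomials avoiding `X_ι` span the quotient by
`J(w) + (X_ι - 1)`. -/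
theorem span_dehom (hdn : d < n) (w : Idx d n) :
    Submodule.span K (Set.range fun e : ChR hdn w =>
      Ideal.Quotient.mk (Qw K hdn w) (chainMon K e.1.2.1)) = ⊤ := by
  rw [eq_top_iff]
  rintro x -
  obtain ⟨f, rfl⟩ := Ideal.Quotient.mk_surjective x
  have hJQ : schubertVanishing K d n w ≤ Qw K hdn w := le_sup_left
  let π : Aw K w →ₗ[K] (PlRing K d n ⧸ Qw K hdn w) :=
    (Ideal.Quotient.factorₐ K hJQ).toLinearMap
  have hπ : ∀ g : PlRing K d n, π (Ideal.Quotient.mk _ g) = Ideal.Quotient.mk (Qw K hdn w) g := by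
    intro g
    rfl
  have hmem : Ideal.Quotient.mk (schubertVanishing K d n w) f ∈
      Submodule.span K (Set.range (bCh K w)) := span_bCh K w Submodule.mem_top
  have h2 := Submodule.mem_map_of_mem (f := π) hmem
  rw [hπ, Submodule.map_span] at h2
  refine (Submodule.span_le.2 ?_) h2
  rintro _ ⟨_, ⟨c, rfl⟩, rfl⟩
  unfold bCh
  rw [hπ]
  exact chainMon_mem_span_dehom K hdn w c.1 c.2.1 c.2.2.1 (fun k => c.le k)

end Groth.Agent.Lib.Helper22.Grass
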