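import Mathlib
import Groth.Agent.Lib.Helper22.GrassCount
import Groth.Agent.Lib.Helper22.GrassDehom
import Groth.Prelude.Def_CAlgX

/-!
# The opposite big cell of the Grassmannian and determinantal ideals
-/

namespace Groth.Agent.Lib.Helper22.Grass

open W4bk4grassmannian MvPolynomial

universe u

section General

/-- a determinant whose last `t` rows are rows of `A` lies in the ideal of `t`-minors of `A`
(Laplace expansion). -/
lemma det_mem_minorIdeal' {R : Type u} [CommRing R] {m n : Type} [Fintype m] [Fintype n]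
    (A : Matrix m n R) (t : ℕ) :
    ∀ N, t ≤ N → ∀ (g : Fin N → n) (f : Fin N → m) (M : Matrix (Fin N) (Fin N) R),
      (∀ i : Fin N, N - t ≤ i.val → ∀ j, M i j = A (f i) (g j)) →
        M.det ∈ CAlgX.minorIdeal A t := by
  intro N hN
  induction N, hN using Nat.le_induction with
  | base =>
    intro g f M hM
    have : M = A.submatrix f g := by
      ext i j
      exact hM i (by omega) j
    rw [this]
    exact Ideal.subset_span ⟨(f, g), rfl⟩
  | succ N hN ih =>
    intro g f M hM
    rw [Matrix.det_succ_row_zero]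
    refine Ideal.sum_mem _ fun j _ => Ideal.mul_mem_left _ _ ?_
    refine ih (g ∘ j.succAbove) (f ∘ Fin.succ) _ fun i hi j' => ?_
    rw [Matrix.submatrix_apply]
    exact hM i.succ (by simp only [Fin.val_succ]; omega) _

variable {K : Type u} [Field K] [Infinite K] {d n : ℕ}

theorem vanishing_le_ker {σ : Type*} (M : Matrix (Fin n) (Fin d) (MvPolynomial σ K)) :
    vanishing K d n ≤ RingHom.ker (evalL (K := K) M) := by
  intro f hf
  rw [RingHom.mem_ker]
  apply MvPolynomial.funext
  intro a
  rw [map_zero]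
  have h1 := evalL_map (K := K) (MvPolynomial.aeval a : MvPolynomial σ K →ₐ[K] K) M f
  have h0 : MvPolynomial.eval a (evalL (K := K) M f) =
      MvPolynomial.aeval a (evalL (K := K) M f) := rfl
  rw [h0, h1]
  unfold vanishing at hf
  simp only [Ideal.mem_iInf, RingHom.mem_ker] at hf
  exact hf _

end General

section BigCell

variable (K : Type u) [CommRing K] (m n : ℕ)

/-- the matrix `[I_n ; Z^rev]`: the identity on top of the generic matrix with reversed rows. -/
noncomputable def Mrev : Matrix (Fin (n + m)) (Fin n) (MvPolynomial (Fin m × Fin n) K) :=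
  Matrix.of fun i j => if h : i.val < n then (if i.val = j.val then 1 else 0)
    else X (⟨m - 1 - (i.val - n), by have := i.isLt; omega⟩, j)

variable {K m n}

lemma Mrev_low (i : Fin (n + m)) (h : i.val < n) (j : Fin n) :
    Mrev K m n i j = if i.val = j.val then 1 else 0 := by
  unfold Mrev
  rw [Matrix.of_apply, dif_pos h]

lemma Mrev_high (i : Fin (n + m)) (h : n ≤ i.val) (j : Fin n) :
    Mrev K m n i j = X (⟨m - 1 - (i.val - n), by have := i.isLt; omega⟩, j) := by
  unfold Mrev
  rw [Matrix.of_apply, dif_neg (by omega)]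

/-- the minors of `[I ; Z^rev]` on the tuples `tupFG f g` are the minors of `Z`. -/
theorem det_Mrev_tupFG {t : ℕ} (f : Fin t → Fin m) (g : Fin t → Fin n)
    (hg : Function.Injective g) :
    ((Mrev K m n).submatrix (tupFG f g) id).det = ((genMatrix K m n).submatrix f g).det := by
  classical
  set N : Matrix (Fin n) (Fin n) (MvPolynomial (Fin m × Fin n) K) :=
    (Mrev K m n).submatrix (tupFG f g) id with hNdef
  have hN1 : ∀ k j, N (g k) j = MvPolynomial.X (f k, j) := by
    intro k j
    have h1 := tupFG_apply_g f hg k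
    rw [hNdef, Matrix.submatrix_apply, id, Mrev_high _ (by omega)]
    congr 2
    apply Fin.ext
    simp only [h1]
    have := (f k).isLt
    omega
  have hN2 : ∀ i, (¬ ∃ k, g k = i) → ∀ j, N i j = if i = j then 1 else 0 := by
    intro i hi j
    have h1 := tupFG_apply_not f g i hi
    rw [hNdef, Matrix.submatrix_apply, id, Mrev_low _ (by rw [h1]; exact i.isLt), h1]
    simp only [Fin.ext_iff]
  rw [Matrix.twoBlockTriangular_det N (fun i => ∃ k, g k = i)]
  · have hb2 : Matrix.toSquareBlockProp N (fun i => ¬ ∃ k, g k = i) = 1 := by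
      refine Matrix.ext fun ⟨i, hi⟩ ⟨j, hj⟩ => ?_
      simp only [Matrix.toSquareBlockProp, Matrix.toBlock_apply, hN2 i hi j, Matrix.one_apply,
        Subtype.mk.injEq]
    rw [hb2, Matrix.det_one, mul_one]
    let e' : Fin t ≃ {i // ∃ k, g k = i} :=
      Equiv.ofBijective (fun k => ⟨g k, k, rfl⟩)
        ⟨fun a b h => hg (Subtype.mk.inj h), fun ⟨i, k, hk⟩ => ⟨k, Subtype.ext hk⟩⟩
    rw [← Matrix.det_submatrix_equiv_self e' (Matrix.toSquareBlockProp N _)]
    congr 1
    refine Matrix.ext fun k l => ?_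
    simp only [Matrix.submatrix_apply, Matrix.toSquareBlockProp, Matrix.toBlock_apply,
      Matrix.of_apply, genMatrix]
    exact hN1 k (g l)
  · intro i hi j hj
    rw [hN2 i hi j, if_neg]
    rintro rfl
    exact hi hj

end BigCell

section Theta

variable (K : Type u) [Field K] [Infinite K] (m n : ℕ)

/-- evaluation of the Plücker coordinates on the opposite big cell (with reversed rows). -/
noncomputable def Θc : PlRing K n (n + m) →ₐ[K] MvPolynomial (Fin m × Fin n) K :=
  evalL (K := K) (Mrev K m n)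

variable {K m n}

lemma Θc_coord_tupFG {t : ℕ} (f : Fin t → Fin m) (g : Fin t → Fin n)
    (hg : Function.Injective g) :
    Θc K m n (coord K n (n + m) (tupFG f g)) = ((genMatrix K m n).submatrix f g).det := by
  unfold Θc
  rw [evalL_coord, det_Mrev_tupFG f g hg]

lemma Mrev_iota (hm : 0 < m) :
    (Mrev K m n).submatrix (iotaIdx (show n < n + m by omega)).1 id = 1 := by
  ext a b
  rw [Matrix.submatrix_apply, id, Mrev_low _ (by exact a.isLt), Matrix.one_apply]
  have : ((iotaIdx (show n < n + m by omega)).1 a).val = a.val := rfl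
  simp only [this, Fin.ext_iff]

lemma Θc_X_iota (hm : 0 < m) : Θc K m n (X (iotaIdx (show n < n + m by omega))) = 1 := by
  unfold Θc
  rw [evalL_X, Mrev_iota hm, Matrix.det_one]

/-- the ideal `vanishing + (X_ι - 1)`. -/
noncomputable def Q₀ (K : Type u) [Field K] (m n : ℕ) (hm : 0 < m) : Ideal (PlRing K n (n + m)) :=
  vanishing K n (n + m) ⊔ Ideal.span {X (iotaIdx (show n < n + m by omega)) - 1}

lemma mk_Q₀_X_iota (hm : 0 < m) :
    Ideal.Quotient.mk (Q₀ K m n hm) (X (iotaIdx (show n < n + m by omega))) = 1 := by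
  rw [← sub_eq_zero, ← map_one (Ideal.Quotient.mk (Q₀ K m n hm)), ← map_sub,
    Ideal.Quotient.eq_zero_iff_mem]
  exact Ideal.mem_sup_right (Ideal.mem_span_singleton_self _)

/-- the section of `Θc` modulo `vanishing + (X_ι - 1)`. -/
noncomputable def σc (hm : 0 < m) :
    MvPolynomial (Fin m × Fin n) K →ₐ[K] (PlRing K n (n + m) ⧸ Q₀ K m n hm) :=
  MvPolynomial.aeval fun p : Fin m × Fin n =>
    Ideal.Quotient.mk (Q₀ K m n hm)
      (cf K (iotaIdx (show n < n + m by omega))
        ⟨n + (m - 1 - p.1.val), by have := p.1.isLt; omega⟩ p.2)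

lemma σc_Mrev (hm : 0 < m) (i : Fin (n + m)) (j : Fin n) :
    σc hm (Mrev K m n i j) =
      Ideal.Quotient.mk (Q₀ K m n hm) (cf K (iotaIdx (show n < n + m by omega)) i j) := by
  by_cases hi : i.val < n
  · rw [Mrev_low i hi]
    by_cases hij : i.val = j.val
    · rw [if_pos hij, map_one]
      have : i = (iotaIdx (show n < n + m by omega)).1 j := Fin.ext hij
      rw [this, cf_self, mk_Q₀_X_iota]
    · rw [if_neg hij, map_zero]
      have : i = (iotaIdx (show n < n + m by omega)).1 ⟨i.val, hi⟩ := Fin.ext rfl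
      rw [this, cf_eq_zero_of_ne _ ⟨i.val, hi⟩ j (fun h => hij (congrArg Fin.val h)), map_zero]
  · rw [not_lt] at hi
    rw [Mrev_high i hi]
    unfold σc
    rw [MvPolynomial.aeval_X]
    congr 2
    apply Fin.ext
    simp only
    have := i.isLt
    omega

lemma σc_Θc_X (hm : 0 < m) (θ : Idx n (n + m)) :
    σc hm (Θc K m n (X θ)) = Ideal.Quotient.mk (Q₀ K m n hm) (X θ) := by
  unfold Θc
  rw [evalL_X, AlgHom.map_det]
  have hmat : (σc hm).mapMatrix ((Mrev K m n).submatrix θ.1 id) =
      (Ideal.Quotient.mk (Q₀ K m n hm)).mapMatrix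
        (Matrix.of fun a b : Fin n => cf K (iotaIdx (show n < n + m by omega)) (θ.1 a) b) := by
    ext a b
    simp only [AlgHom.mapMatrix_apply, RingHom.mapMatrix_apply, Matrix.map_apply,
      Matrix.submatrix_apply, Matrix.of_apply, id]
    exact σc_Mrev hm (θ.1 a) b
  rw [hmat, ← RingHom.map_det]
  have h := cramer_mem_vanishing (K := K) (iotaIdx (show n < n + m by omega)) θ
  have h2 : X θ * X (iotaIdx (show n < n + m by omega)) ^ (n - 1) -
      (Matrix.of fun a b : Fin n =>
        cf K (iotaIdx (show n < n + m by omega)) (θ.1 a) b).det ∈ Q₀ K m n hm :=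
    Ideal.mem_sup_left h
  rw [← Ideal.Quotient.eq_zero_iff_mem, map_sub, sub_eq_zero, map_mul, map_pow, mk_Q₀_X_iota,
    one_pow, mul_one] at h2
  exact h2.symm

/-- **the big cell**: the kernel of `Θc` is `vanishing + (X_ι - 1)`. -/
theorem mem_Q₀_of_Θc_eq_zero (hm : 0 < m) (f : PlRing K n (n + m)) (hf : Θc K m n f = 0) :
    f ∈ Q₀ K m n hm := by
  have hcomp : (σc hm).comp (Θc K m n) = Ideal.Quotient.mkₐ K (Q₀ K m n hm) := by
    apply MvPolynomial.algHom_ext
    intro θ
    rw [AlgHom.comp_apply, σc_Θc_X]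
    rfl
  have := congrArg (fun φ : PlRing K n (n + m) →ₐ[K] _ => φ f) hcomp
  simp only [AlgHom.comp_apply, hf, map_zero] at this
  rw [← Ideal.Quotient.eq_zero_iff_mem]
  exact this.symm

theorem Θc_surjective : Function.Surjective (Θc K m n) := by
  have hX : ∀ p : Fin m × Fin n, (X p : MvPolynomial (Fin m × Fin n) K) ∈ (Θc K m n).range := by
    intro p
    refine ⟨coord K n (n + m) (tupFG (fun _ : Fin 1 => p.1) (fun _ : Fin 1 => p.2)), ?_⟩
    show Θc K m n _ = _
    rw [Θc_coord_tupFG _ _ (fun a b _ => Subsingleton.elim a b)]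
    rw [Matrix.det_fin_one]
    simp [genMatrix]
  intro q
  have : q ∈ (Θc K m n).range := by
    induction q using MvPolynomial.induction_on with
    | C a => exact ⟨C a, by simp⟩
    | add p q hp hq => exact Subalgebra.add_mem _ hp hq
    | mul_X p i hp => exact Subalgebra.mul_mem _ hp (hX i)
  exact this

end Theta

section Det

variable {K : Type u} [Field K] [Infinite K] {m n : ℕ}

lemma Θc_X_mem_minorIdeal (hm : 0 < m) (t : ℕ) (ht : 1 ≤ t) (htm : t ≤ m + 1)
    (φ : Idx n (n + m)) (hφ : ¬ φ ≤ wIdx m n t ht htm) :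
    Θc K m n (X φ) ∈ CAlgX.minorIdeal (genMatrix K m n) t := by
  obtain ⟨htn, hge⟩ := not_le_wIdx t ht htm φ hφ
  unfold Θc
  rw [evalL_X]
  refine det_mem_minorIdeal' (genMatrix K m n) t n htn id
    (fun i => ⟨m - 1 - ((φ.1 i).val - n), by omega⟩) _ ?_
  intro i hi j
  have h1 : n ≤ (φ.1 i).val :=
    le_trans hge (Fin.le_def.1 (φ.2.monotone (show (⟨n - t, by omega⟩ : Fin n) ≤ i from hi)))
  rw [Matrix.submatrix_apply, id, Mrev_high _ h1]
  rfl

/-- `Θc` maps `J(w_t) + (X_ι - 1)` into the ideal of `t`-minors. -/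
theorem Θc_mem_minorIdeal (hm : 0 < m) (hn : 0 < n) (t : ℕ) (ht : 1 ≤ t) (htm : t ≤ m + 1)
    (f : PlRing K n (n + m))
    (hf : f ∈ Qw K (show n < n + m by omega) (wIdx m n t ht htm)) :
    Θc K m n f ∈ CAlgX.minorIdeal (genMatrix K m n) t := by
  have hle : Qw K (show n < n + m by omega) (wIdx m n t ht htm) ≤
      (CAlgX.minorIdeal (genMatrix K m n) t).comap (Θc K m n).toRingHom := by
    unfold Qw
    refine sup_le ?_ ?_
    · rw [← plIdeal_eq_schubertVanishing hn]
      unfold plIdeal
      rw [Ideal.span_le]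
      rintro g (⟨i, j, r, -, rfl⟩ | ⟨φ, hφ, rfl⟩)
      · rw [SetLike.mem_coe, Ideal.mem_comap]
        have : (Θc K m n).toRingHom (shuffleRel K i j r) = 0 := by
          show Θc K m n _ = 0
          unfold Θc
          rw [evalL_shuffleRel]
        rw [this]
        exact Ideal.zero_mem _
      · exact Θc_X_mem_minorIdeal hm t ht htm φ hφ
    · rw [Ideal.span_le, Set.singleton_subset_iff, SetLike.mem_coe, Ideal.mem_comap]
      have : (Θc K m n).toRingHom (X (iotaIdx (show n < n + m by omega)) - 1) = 0 := by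
        show Θc K m n _ = 0
        rw [map_sub, Θc_X_iota hm, map_one, sub_self]
      rw [this]
      exact Ideal.zero_mem _
  exact hle hf

lemma coord_tupFG_mem (t : ℕ) (ht : 1 ≤ t) (htm : t ≤ m + 1) (f : Fin t → Fin m)
    (g : Fin t → Fin n) (hf : Function.Injective f) (hg : Function.Injective g) :
    coord K n (n + m) (tupFG f g) ∈ schubertVanishing K n (n + m) (wIdx m n t ht htm) := by
  unfold coord
  rw [dif_pos (card_image_tupFG hf hg)]
  refine Ideal.mul_mem_left _ _ (X_mem_schubertVanishing _ _ ?_)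
  rw [le_wIdx_iff_cntT, cntT_sortIdx]
  have htn : t ≤ n := by
    have := Fintype.card_le_of_injective g hg
    simpa using this
  have h1 := cntT_tupFG_low f hg n le_rfl
  rw [cntT_of_ge g le_rfl] at h1
  intro h
  have := h htn
  omega

/-- the preimage of the ideal of `t`-minors under `Θc` is `J(w_t) + (X_ι - 1)`. -/
theorem mem_Qw_of_Θc_mem (hm : 0 < m) (t : ℕ) (ht : 1 ≤ t) (htm : t ≤ m + 1)
    (f : PlRing K n (n + m))
    (hf : Θc K m n f ∈ CAlgX.minorIdeal (genMatrix K m n) t) :
    f ∈ Qw K (show n < n + m by omega) (wIdx m n t ht htm) := by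
  have hle : CAlgX.minorIdeal (genMatrix K m n) t ≤
      (schubertVanishing K n (n + m) (wIdx m n t ht htm)).map (Θc K m n).toRingHom := by
    unfold CAlgX.minorIdeal
    rw [Ideal.span_le]
    rintro _ ⟨⟨f', g'⟩, rfl⟩
    simp only
    by_cases hf' : Function.Injective f'
    swap
    · rw [Function.Injective] at hf'
      push Not at hf'
      obtain ⟨i, j, hij, hne⟩ := hf'
      rw [Matrix.det_zero_of_row_eq hne (by ext k; simp [hij])]
      exact Ideal.zero_mem _
    by_cases hg' : Function.Injective g'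
    swap
    · rw [Function.Injective] at hg'
      push Not at hg'
      obtain ⟨i, j, hij, hne⟩ := hg'
      rw [Matrix.det_zero_of_column_eq hne (by intro k; simp [hij])]
      exact Ideal.zero_mem _
    rw [← Θc_coord_tupFG f' g' hg']
    exact Ideal.mem_map_of_mem _ (coord_tupFG_mem t ht htm f' g' hf' hg')
  have h2 := hle hf
  rw [Ideal.mem_map_iff_of_surjective (Θc K m n).toRingHom (Θc_surjective (K := K))] at h2
  obtain ⟨g, hg, hgf⟩ := h2
  have h3 : Θc K m n (f - g) = 0 := by
    rw [map_sub, sub_eq_zero]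
    exact hgf.symm
  have h4 := mem_Q₀_of_Θc_eq_zero hm (f - g) h3
  have h5 : Q₀ K m n hm ≤ Qw K (show n < n + m by omega) (wIdx m n t ht htm) := by
    unfold Q₀ Qw
    exact sup_le_sup_right (vanishing_le_schubertVanishing _) _
  have : f = g + (f - g) := by ring
  rw [this]
  exact Ideal.add_mem _ (Ideal.mem_sup_left hg) (h5 h4)

end Det

end Groth.Agent.Lib.Helper22.Grass
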