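import Mathlib
import Groth.Agent.Lib.Helper22.GrassPlucker

/-!
# Combinatorics of the Schubert divisors
-/

namespace Groth.Agent.Lib.Helper22.Grass

open W4bk4grassmannian

variable {d n : ℕ}

lemma idx_ge (θ : Idx d n) (t : Fin d) : t.val ≤ (θ.1 t).val :=
  le_strictMono_apply θ.1 θ.2 t.val t.isLt

lemma idx_le_iff (φ ψ : Idx d n) : φ ≤ ψ ↔ ∀ t, φ.1 t ≤ ψ.1 t := Iff.rfl

lemma codeg_add_le {φ ψ : Idx d n} (h : φ ≤ ψ) (g : Fin d → ℕ)
    (hg : ∀ t, (φ.1 t).val + g t ≤ (ψ.1 t).val) : codeg φ + ∑ t, g t ≤ codeg ψ := by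
  unfold codeg
  rw [← Finset.sum_add_distrib]
  refine Finset.sum_le_sum (fun t _ => ?_)
  have h1 := idx_ge φ t
  have h2 := hg t
  omega

lemma exists_lt_of_lt {φ ψ : Idx d n} (h : φ < ψ) : ∃ t, φ.1 t < ψ.1 t := by
  by_contra hcon
  push Not at hcon
  exact h.2 hcon

lemma codeg_lt_of_lt {φ ψ : Idx d n} (h : φ < ψ) : codeg φ < codeg ψ := by
  classical
  obtain ⟨a, ha⟩ := exists_lt_of_lt h
  have := codeg_add_le h.1 (fun t => if t = a then 1 else 0) (fun t => by
    by_cases hta : t = a
    · rw [if_pos hta, hta]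
      exact ha
    · rw [if_neg hta, add_zero]
      exact h.1 t)
  rw [Finset.sum_ite_eq' Finset.univ a (fun _ => 1), if_pos (Finset.mem_univ a)] at this
  omega

lemma codeg_add_two_le {φ ψ : Idx d n} (h : φ ≤ ψ) (a b : Fin d) (hab : a ≠ b)
    (ha : φ.1 a < ψ.1 a) (hb : φ.1 b < ψ.1 b) : codeg φ + 2 ≤ codeg ψ := by
  classical
  have := codeg_add_le h (fun t => (if t = a then 1 else 0) + (if t = b then 1 else 0)) (fun t => by
    by_cases hta : t = a
    · have htb : t ≠ b := fun htb => hab (hta.symm.trans htb)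
      rw [if_pos hta, if_neg htb, hta]
      exact ha
    · by_cases htb : t = b
      · rw [if_neg hta, if_pos htb, htb]
        exact hb
      · rw [if_neg hta, if_neg htb]
        exact h t)
  rw [Finset.sum_add_distrib, Finset.sum_ite_eq' Finset.univ a (fun _ => 1),
    Finset.sum_ite_eq' Finset.univ b (fun _ => 1), if_pos (Finset.mem_univ a),
    if_pos (Finset.mem_univ b)] at this
  omega

/-- the position `t` of `τ` can be decreased by one. -/
def Decr (τ : Idx d n) (t : Fin d) : Prop :=
  t.val < (τ.1 t).val ∧ ∀ t' : Fin d, t'.val + 1 = t.val → (τ.1 t').val + 1 < (τ.1 t).val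

/-- `τ` with the position `t` decreased by one. -/
def decIdx (τ : Idx d n) (t : Fin d) (h : Decr τ t) : Idx d n :=
  ⟨Function.update τ.1 t ⟨(τ.1 t).val - 1, by have := (τ.1 t).isLt; omega⟩, by
    intro a b hab
    by_cases hb : b = t
    · have ha : a ≠ t := fun ha => by rw [ha, hb] at hab; exact lt_irrefl _ hab
      rw [hb, Function.update_self, Function.update_of_ne ha]
      rw [hb] at hab
      have hpos : 0 < t.val := lt_of_le_of_lt (Nat.zero_le _) hab
      have h1 := h.2 ⟨t.val - 1, by have := t.isLt; omega⟩ (by simp only; omega)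
      have h2 : τ.1 a ≤ τ.1 ⟨t.val - 1, by have := t.isLt; omega⟩ := by
        apply τ.2.monotone
        rw [Fin.le_def]
        have := Fin.lt_def.1 hab
        simp only
        omega
      rw [Fin.lt_def]
      have h3 := Fin.le_def.1 h2
      simp only
      omega
    · rw [Function.update_of_ne hb]
      by_cases ha : a = t
      · rw [ha, Function.update_self]
        rw [ha] at hab
        have := Fin.lt_def.1 (τ.2 hab)
        rw [Fin.lt_def]
        simp only
        omega
      · rw [Function.update_of_ne ha]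
        exact τ.2 hab⟩

lemma decIdx_apply_self (τ : Idx d n) (t : Fin d) (h : Decr τ t) :
    ((decIdx τ t h).1 t).val = (τ.1 t).val - 1 := by
  unfold decIdx
  simp only [Function.update_self]

lemma decIdx_apply_ne (τ : Idx d n) (t : Fin d) (h : Decr τ t) (s : Fin d) (hs : s ≠ t) :
    (decIdx τ t h).1 s = τ.1 s := by
  unfold decIdx
  simp only [Function.update_of_ne hs]

lemma decIdx_le (τ : Idx d n) (t : Fin d) (h : Decr τ t) : decIdx τ t h ≤ τ := by
  intro s
  by_cases hs : s = t
  · rw [hs, Fin.le_def, decIdx_apply_self]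
    omega
  · rw [decIdx_apply_ne τ t h s hs]

lemma decIdx_mem_divisors (τ : Idx d n) (t : Fin d) (h : Decr τ t) :
    decIdx τ t h ∈ divisors τ := by
  classical
  have hle := decIdx_le τ t h
  have hne : decIdx τ t h ≠ τ := by
    intro heq
    have := decIdx_apply_self τ t h
    rw [heq] at this
    have := h.1
    omega
  refine ⟨lt_of_le_of_ne hle hne, ?_⟩
  unfold codeg
  rw [← Finset.add_sum_erase Finset.univ _ (Finset.mem_univ t),
    ← Finset.add_sum_erase Finset.univ (fun s => ((τ.1 s).val - s.val)) (Finset.mem_univ t)]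
  have hrest : ∑ s ∈ Finset.univ.erase t, (((decIdx τ t h).1 s).val - s.val) =
      ∑ s ∈ Finset.univ.erase t, ((τ.1 s).val - s.val) := by
    refine Finset.sum_congr rfl (fun s hs => ?_)
    rw [decIdx_apply_ne τ t h s (Finset.ne_of_mem_erase hs)]
  rw [hrest, decIdx_apply_self]
  have := h.1
  omega

/-- `τ` has a single run after an initial segment. -/
def IsRun (τ : Idx d n) : Prop :=
  ∃ s : ℕ, (∀ t : Fin d, t.val < s → (τ.1 t).val = t.val) ∧
    ∀ t t' : Fin d, s ≤ t.val → t.val + 1 = t'.val → (τ.1 t).val + 1 = (τ.1 t').val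

theorem isRun_of_subsingleton (τ : Idx d n) (h : (divisors τ).Subsingleton) : IsRun τ := by
  classical
  -- all positions but one cannot be decreased
  obtain ⟨s, hs⟩ : ∃ s : ℕ, ∀ t : Fin d, t.val ≠ s → ¬ Decr τ t := by
    by_cases hex : ∃ p, Decr τ p
    · obtain ⟨p, hp⟩ := hex
      refine ⟨p.val, fun t htp ht => ?_⟩
      have htp' : t ≠ p := fun h' => htp (by rw [h'])
      have heq := h (decIdx_mem_divisors τ t ht) (decIdx_mem_divisors τ p hp)
      have h1 := decIdx_apply_self τ t ht
      rw [heq, decIdx_apply_ne τ p hp t htp'] at h1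
      have := ht.1
      omega
    · push Not at hex
      exact ⟨0, fun t _ => hex t⟩
  refine ⟨s, ?_, ?_⟩
  · -- below `s`
    have key : ∀ (k : ℕ) (hk : k < d), k < s → (τ.1 ⟨k, hk⟩).val = k := by
      intro k
      induction k with
      | zero =>
        intro hk hks
        by_contra hne
        apply hs ⟨0, hk⟩ (by simp only; omega)
        refine ⟨by simp only; omega, fun t' ht' => ?_⟩
        simp only at ht'
        omega
      | succ k ih =>
        intro hk hks
        have h1 := ih (by omega) (by omega)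
        have h2 := idx_ge τ ⟨k + 1, hk⟩
        simp only at h2
        by_contra hne
        apply hs ⟨k + 1, hk⟩ (by simp only; omega)
        refine ⟨by simp only; omega, fun t' ht' => ?_⟩
        simp only at ht'
        have : t' = ⟨k, by omega⟩ := Fin.ext (by simp only; omega)
        rw [this, h1]
        omega
    intro t ht
    exact key t.val t.isLt ht
  · intro t t' hst htt'
    have hlt : τ.1 t < τ.1 t' := τ.2 (Fin.lt_def.2 (by omega))
    have hlt' := Fin.lt_def.1 hlt
    by_contra hne
    apply hs t' (by omega)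
    refine ⟨?_, fun t'' ht'' => ?_⟩
    · have := idx_ge τ t
      omega
    · have : t'' = t := Fin.ext (by omega)
      rw [this]
      omega

theorem subsingleton_of_isRun (τ : Idx d n) (h : IsRun τ) : (divisors τ).Subsingleton := by
  classical
  obtain ⟨s, hs1, hs2⟩ := h
  -- a divisor agrees with `τ` off the position `s`
  have hoff : ∀ φ ∈ divisors τ, ∀ t : Fin d, t.val ≠ s → φ.1 t = τ.1 t := by
    intro φ hφ t hts
    by_contra hne
    have hlt : φ.1 t < τ.1 t := lt_of_le_of_ne (hφ.1.1 t) hne
    have hlt' := Fin.lt_def.1 hlt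
    rcases lt_or_gt_of_ne hts with h1 | h1
    · have := hs1 t h1
      have := idx_ge φ t
      omega
    · -- the previous position is also smaller
      set t' : Fin d := ⟨t.val - 1, by have := t.isLt; omega⟩ with ht'
      have h2 := hs2 t' t (by simp only [ht']; omega) (by simp only [ht']; omega)
      have h3 : φ.1 t' < φ.1 t := φ.2 (Fin.lt_def.2 (by simp only [ht']; omega))
      have h3' := Fin.lt_def.1 h3
      have h4 : φ.1 t' < τ.1 t' := Fin.lt_def.2 (by omega)
      have hne' : t' ≠ t := fun h' => by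
        have := congrArg Fin.val h'
        simp only [ht'] at this
        omega
      have := codeg_add_two_le hφ.1.1 t' t hne' h4 hlt
      have := hφ.2
      omega
  intro φ₁ h₁ φ₂ h₂
  apply Subtype.ext
  funext t
  by_cases hts : t.val = s
  · have hc : codeg φ₁ = codeg φ₂ := by
      have := h₁.2
      have := h₂.2
      omega
    unfold codeg at hc
    rw [← Finset.add_sum_erase Finset.univ _ (Finset.mem_univ t),
      ← Finset.add_sum_erase Finset.univ (fun s => ((φ₂.1 s).val - s.val)) (Finset.mem_univ t)] at hc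
    have hrest : ∑ s ∈ Finset.univ.erase t, ((φ₁.1 s).val - s.val) =
        ∑ s ∈ Finset.univ.erase t, ((φ₂.1 s).val - s.val) := by
      refine Finset.sum_congr rfl (fun u hu => ?_)
      have hut : u ≠ t := Finset.ne_of_mem_erase hu
      have hus : u.val ≠ s := fun h' => hut (Fin.ext (h'.trans hts.symm))
      rw [hoff φ₁ h₁ u hus, hoff φ₂ h₂ u hus]
    rw [hrest] at hc
    have h1 := idx_ge φ₁ t
    have h2 := idx_ge φ₂ t
    apply Fin.ext
    omega
  · rw [hoff φ₁ h₁ t hts, hoff φ₂ h₂ t hts]

end Groth.Agent.Lib.Helper22.Grass
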