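import Mathlib

/-!
# Normality from a normal localization `A[1/x]` and a radical ideal `(x)`
-/

namespace Groth.Agent.Lib.Helper22

open Polynomial

/-- if `x u = a` with `u` integral over `A` then some power of `a` lies in `(x)`. -/
lemma pow_mem_span_of_isIntegral {A F : Type*} [CommRing A] [CommRing F] [Algebra A F]
    (hinj : Function.Injective (algebraMap A F)) (x a : A) (u : F) (hu : IsIntegral A u)
    (hua : algebraMap A F x * u = algebraMap A F a) : ∃ m : ℕ, a ^ m ∈ Ideal.span {x} := by
  obtain ⟨p, hp, hpu⟩ := hu
  have hpu' : aeval u p = 0 := hpu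
  have h1 := scaleRoots_aeval_eq_zero (r := x) hpu'
  rw [hua, aeval_algebraMap_apply] at h1
  have h2 : aeval a (scaleRoots p x) = 0 := hinj (h1.trans (map_zero _).symm)
  rw [coe_aeval_eq_eval, eval_eq_sum_range, natDegree_scaleRoots, Finset.sum_range_succ,
    coeff_scaleRoots_natDegree, hp.leadingCoeff, one_mul] at h2
  refine ⟨p.natDegree, ?_⟩
  have h3 : a ^ p.natDegree = -∑ i ∈ Finset.range p.natDegree, (scaleRoots p x).coeff i * a ^ i :=
    eq_neg_of_add_eq_zero_right h2
  rw [h3]
  refine neg_mem (Ideal.sum_mem _ (fun i hi => ?_))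
  rw [Finset.mem_range] at hi
  rw [coeff_scaleRoots]
  have : x ^ (p.natDegree - i) = x * x ^ (p.natDegree - i - 1) := by
    rw [← pow_succ']
    congr 1
    omega
  rw [this]
  refine Ideal.mul_mem_right _ _ (Ideal.mul_mem_left _ _ (Ideal.mul_mem_right _ _ ?_))
  exact Ideal.mem_span_singleton_self x

/-- a domain `A` with `(x)` radical and `A[1/x]` integrally closed is integrally closed. -/
theorem isIntegrallyClosed_of_away {A : Type*} [CommRing A] [IsDomain A] (x : A) (hx : x ≠ 0)
    (hrad : (Ideal.span {x}).IsRadical) (h : IsIntegrallyClosed (Localization.Away x)) :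
    IsIntegrallyClosed A := by
  set F := FractionRing A
  set Ax := Localization.Away x
  have hM : Submonoid.powers x ≤ nonZeroDivisors A := powers_le_nonZeroDivisors_of_noZeroDivisors hx
  letI : Algebra Ax F :=
    IsLocalization.localizationAlgebraOfSubmonoidLe Ax F (Submonoid.powers x) (nonZeroDivisors A) hM
  haveI : IsScalarTower A Ax F :=
    IsLocalization.localization_isScalarTower_of_submonoid_le Ax F (Submonoid.powers x)
      (nonZeroDivisors A) hM
  haveI : IsFractionRing Ax F :=
    IsFractionRing.isFractionRing_of_isLocalization (Submonoid.powers x) Ax F hM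
  have hinj : Function.Injective (algebraMap A F) := IsFractionRing.injective A F
  have hxF : algebraMap A F x ≠ 0 := fun h0 => hx (hinj (h0.trans (map_zero _).symm))
  -- the descent step
  have key : ∀ (k : ℕ) (t : F) (a : A), IsIntegral A t → t * algebraMap A F x ^ k = algebraMap A F a →
      ∃ a' : A, algebraMap A F a' = t := by
    intro k
    induction k with
    | zero =>
      intro t a _ hta
      exact ⟨a, by rw [← hta, pow_zero, mul_one]⟩
    | succ k ih =>
      intro t a ht hta
      set u := t * algebraMap A F x ^ k with hu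
      have hui : IsIntegral A u := ht.mul (isIntegral_algebraMap.pow k)
      have hua : algebraMap A F x * u = algebraMap A F a := by
        rw [← hta, hu, pow_succ]
        ring
      obtain ⟨m, hm⟩ := pow_mem_span_of_isIntegral hinj x a u hui hua
      have ha : a ∈ Ideal.span {x} := hrad ⟨m, hm⟩
      obtain ⟨a', rfl⟩ := Ideal.mem_span_singleton'.1 ha
      refine ih t a' ht ?_
      rw [map_mul] at hua
      rw [← hu]
      exact mul_left_cancel₀ hxF (by rw [hua]; ring)
  rw [isIntegrallyClosed_iff F]
  intro t ht
  have ht' : IsIntegral Ax t := ht.tower_top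
  obtain ⟨s, hs⟩ := (isIntegrallyClosed_iff F).1 h ht'
  obtain ⟨k, a, hka⟩ := IsLocalization.Away.surj x s
  refine key k t a ht ?_
  have := congrArg (algebraMap Ax F) hka
  rw [map_mul, map_pow, hs, ← IsScalarTower.algebraMap_apply, ← IsScalarTower.algebraMap_apply]
    at this
  exact this

end Groth.Agent.Lib.Helper22
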