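import Mathlib
import Groth.Agent.Lib.Helper22.GrassCell
import Groth.Agent.Lib.Helper22.NormalAway
import Groth.Agent.S11268

/-!
# Normality of the cones over Schubert varieties
-/

namespace Groth.Agent.Lib.Helper22.Grass

open W4bk4grassmannian MvPolynomial

universe u

variable {K : Type u} [Field K] [Infinite K] {d n : ℕ}

/-- `J(τ) + (X_τ)` is the intersection of the ideals of the Schubert divisors. -/
theorem sup_span_X_eq_iInf (hd : 0 < d) (τ : Idx d n) (hτ : ∃ φ : Idx d n, φ < τ) :
    schubertVanishing K d n τ ⊔ Ideal.span {MvPolynomial.X τ} =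
      ⨅ φ ∈ divisors τ, schubertVanishing K d n φ := by
  classical
  obtain ⟨r, τs, -, hrange⟩ := (Set.toFinite (divisors τ)).fin_param
  have hdiv : ∀ i, τs i ∈ divisors τ := fun i => hrange ▸ Set.mem_range_self i
  have hJ : (⨅ φ ∈ divisors τ, schubertVanishing K d n φ) = ⨅ i, schubertVanishing K d n (τs i) := by
    rw [← hrange, iInf_range]
  rw [hJ]
  obtain ⟨φ₀, hφ₀⟩ := hτ
  obtain ⟨ψ₀, hψ₀, -⟩ := Groth.Agent.S11268.result d n φ₀ τ hφ₀
  obtain ⟨i₀, hi₀⟩ : ∃ i, τs i = ψ₀ := by
    have : ψ₀ ∈ Set.range τs := hrange ▸ hψ₀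
    exact this
  refine ideal_eq_of_span_of_indep (K := K) _ _ ?_
    (fun c : ChU τs => chainMon K c.2.1) ?_
    (linearIndependent_chainMon (K := K) hd τs)
  · refine sup_le (le_iInf fun i => ?_) ?_
    · exact schubertVanishing_anti (le_of_lt (hdiv i).1)
    · rw [Ideal.span_le, Set.singleton_subset_iff, SetLike.mem_coe, Ideal.mem_iInf]
      intro i
      exact X_mem_schubertVanishing (τs i) τ
        (fun h => lt_irrefl _ (lt_of_le_of_lt h (hdiv i).1))
  · refine span_chainMon_eq_top τs _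
      (le_trans (plIdealTop_le_schubertVanishing τ) le_sup_left)
      (fun m c hc hex => ?_)
    by_cases hall : ∀ k, c k ≤ τ
    · by_cases hlt : ∀ k, c k < τ
      · exfalso
        apply hex
        obtain _ | m' := m
        · exact ⟨i₀, fun k => k.elim0⟩
        · obtain ⟨ψ, hψ, hle⟩ := Groth.Agent.S11268.result d n (c 0) τ (hlt 0)
          obtain ⟨i, hi⟩ : ∃ i, τs i = ψ := by
            have : ψ ∈ Set.range τs := hrange ▸ hψ
            exact this
          exact ⟨i, fun k => hi ▸ le_trans (hc (Fin.zero_le k)) hle⟩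
      · push Not at hlt
        obtain ⟨k, hk⟩ := hlt
        have hk' : c k = τ := by
          by_contra hne
          exact hk (lt_of_le_of_ne (hall k) hne)
        refine chainMon_mem_of_X_mem _ c k ?_
        rw [hk']
        exact Ideal.mem_sup_right (Ideal.subset_span rfl)
    · push Not at hall
      obtain ⟨k, hk⟩ := hall
      exact chainMon_mem_of_X_mem _ c k
        (Ideal.mem_sup_left (X_mem_schubertVanishing τ (c k) hk))

lemma isRadical_iInf {R : Type*} [CommRing R] {ι : Sort*} (I : ι → Ideal R)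
    (h : ∀ i, (I i).IsRadical) : (⨅ i, I i).IsRadical := by
  intro f hf
  obtain ⟨k, hk⟩ := hf
  rw [Ideal.mem_iInf] at hk ⊢
  intro i
  exact h i ⟨k, hk i⟩

/-- `J(τ) + (X_τ)` is a radical ideal. -/
theorem isRadical_sup_span_X (hd : 0 < d) (hdn : d < n) (τ : Idx d n) :
    (schubertVanishing K d n τ ⊔ Ideal.span {MvPolynomial.X τ}).IsRadical := by
  by_cases hτ : ∃ φ : Idx d n, φ < τ
  · rw [sup_span_X_eq_iInf hd τ hτ]
    exact isRadical_iInf _ (fun φ => isRadical_iInf _ (fun _ => schubertVanishing_isRadical φ))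
  · have hτι : τ = iotaIdx hdn := by
      by_contra hne
      exact hτ ⟨iotaIdx hdn, lt_of_le_of_ne (iotaIdx_le hdn τ) (Ne.symm hne)⟩
    rw [hτι, ker_ER_eq hd hdn]
    exact (RingHom.ker_isPrime _).isRadical

/-- the ideal `(X_τ)` of the coordinate ring of the cone is radical. -/
theorem isRadical_span_xτ (hd : 0 < d) (hdn : d < n) (τ : Idx d n) :
    (Ideal.span {xτ K τ}).IsRadical := by
  have h := isRadical_sup_span_X (K := K) hd hdn τ
  have hmap : Ideal.span {xτ K τ} =
      (Ideal.span {(X τ : PlRing K d n)}).map (Ideal.Quotient.mk (schubertVanishing K d n τ)) := by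
    rw [Ideal.map_span, Set.image_singleton]
    rfl
  intro a ha
  obtain ⟨k, hk⟩ := ha
  obtain ⟨f, rfl⟩ := Ideal.Quotient.mk_surjective a
  rw [hmap, ← map_pow, Ideal.mem_quotient_iff_mem_sup] at hk
  rw [hmap, Ideal.mem_quotient_iff_mem_sup]
  rw [sup_comm] at hk ⊢
  exact h ⟨k, hk⟩

instance instIsDomainBc (τ : Idx d n) : IsDomain (Bc K τ) :=
  IsLocalization.isDomain_localization
    (powers_le_nonZeroDivisors_of_noZeroDivisors (MvPolynomial.X_ne_zero _))

theorem isIntegrallyClosed_Bc (τ : Idx d n) : IsIntegrallyClosed (Bc K τ) :=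
  isIntegrallyClosed_of_isLocalization (Bc K τ) (Submonoid.powers (X none : Pc K τ))
    (powers_le_nonZeroDivisors_of_noZeroDivisors (MvPolynomial.X_ne_zero _))

theorem isIntegrallyClosed_Ax (hd : 0 < d) (τ : Idx d n) : IsIntegrallyClosed (Ax K τ) :=
  haveI := isIntegrallyClosed_Bc (K := K) τ
  IsIntegrallyClosed.of_equiv (cellEquiv K hd τ).symm

/-- the cone over a Schubert variety is normal. -/
theorem isIntegrallyClosed_Aw (hd : 0 < d) (hdn : d < n) (τ : Idx d n) :
    IsIntegrallyClosed (Aw K τ) := by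
  haveI := isDomain_Aw K hd τ
  exact isIntegrallyClosed_of_away (xτ K τ) (xτ_ne_zero K τ) (isRadical_span_xτ hd hdn τ)
    (isIntegrallyClosed_Ax hd τ)

end Groth.Agent.Lib.Helper22.Grass
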