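import Mathlib
import Groth.Agent.Lib.Helper22.CMReg
import Groth.Agent.Lib.Helper22.GrassNormal
import Groth.Agent.Lib.Helper22.GrassDivisors

/-!
# Schubert varieties and unions of Schubert divisors are Cohen–Macaulay
-/

set_option autoImplicit false

namespace Groth.Agent.Lib.Helper22.Grass

open W4bk4grassmannian MvPolynomial Groth.Agent.Lib.Helper22.CMG

universe u

section Comb

variable {d n : ℕ}

lemma codeg_sup_add_inf (a b : Idx d n) :
    codeg (W4bk4grassmannian.sup a b) + codeg (W4bk4grassmannian.inf a b) = codeg a + codeg b := by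
  unfold codeg
  rw [← Finset.sum_add_distrib, ← Finset.sum_add_distrib]
  refine Finset.sum_congr rfl (fun t _ => ?_)
  simp only [W4bk4grassmannian.sup, W4bk4grassmannian.inf]
  rcases le_total (a.1 t) (b.1 t) with h | h
  · rw [max_eq_right h, min_eq_left h, add_comm]
  · rw [max_eq_left h, min_eq_right h]

lemma codeg_mono {a b : Idx d n} (h : a ≤ b) : codeg a ≤ codeg b := by
  rcases eq_or_lt_of_le h with h' | h'
  · rw [h']
  · exact (codeg_lt_of_lt h').le

lemma le_sup_left' (a b : Idx d n) : a ≤ W4bk4grassmannian.sup a b := fun t => le_max_left _ _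

lemma sup_le' {a b c : Idx d n} (ha : a ≤ c) (hb : b ≤ c) : W4bk4grassmannian.sup a b ≤ c :=
  fun t => max_le (ha t) (hb t)

lemma inf_le_left' (a b : Idx d n) : W4bk4grassmannian.inf a b ≤ a := fun t => min_le_left _ _

lemma inf_le_right' (a b : Idx d n) : W4bk4grassmannian.inf a b ≤ b := fun t => min_le_right _ _

lemma eq_of_le_of_mem_divisors {τ φ φ' : Idx d n} (h : φ ∈ divisors τ) (h' : φ' ∈ divisors τ)
    (hle : φ ≤ φ') : φ = φ' := by
  by_contra hne
  have := codeg_lt_of_lt (lt_of_le_of_ne hle hne)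
  have h1 := h.2
  have h2 := h'.2
  omega

/-- the meet of two distinct divisors of `τ` is a divisor of each of them. -/
lemma inf_mem_divisors {τ φ φ' : Idx d n} (h : φ ∈ divisors τ) (h' : φ' ∈ divisors τ)
    (hne : φ ≠ φ') : W4bk4grassmannian.inf φ φ' ∈ divisors φ' := by
  have hsup : W4bk4grassmannian.sup φ φ' ≤ τ := sup_le' h.1.le h'.1.le
  have hlt : φ < W4bk4grassmannian.sup φ φ' := by
    refine lt_of_le_of_ne (le_sup_left' φ φ') (fun heq => ?_)
    have hle : φ' ≤ φ := by
      intro t
      have := congrArg (fun w : Idx d n => w.1 t) heq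
      simp only [W4bk4grassmannian.sup] at this
      rw [this]
      exact le_max_right _ _
    exact hne (eq_of_le_of_mem_divisors h' h hle).symm
  have h1 := codeg_lt_of_lt hlt
  have h2 := codeg_mono hsup
  have h3 := codeg_sup_add_inf φ φ'
  have h4 := h.2
  have h5 := h'.2
  have hcodeg : codeg (W4bk4grassmannian.inf φ φ') + 1 = codeg φ' := by omega
  refine ⟨lt_of_le_of_ne (inf_le_right' φ φ') (fun heq => ?_), hcodeg⟩
  rw [heq] at hcodeg
  omega

end Comb

section Ideals

variable {K : Type u} [Field K] [Infinite K] {d n : ℕ}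

/-- distributivity of sums over intersections of Schubert ideals. -/
theorem iInf_sup_schubertVanishing (hd : 0 < d) {s : ℕ} (a : Fin s → Idx d n) (b : Idx d n) :
    (⨅ i, schubertVanishing K d n (a i)) ⊔ schubertVanishing K d n b =
      ⨅ i, schubertVanishing K d n (W4bk4grassmannian.inf (a i) b) := by
  set τs : Fin s → Idx d n := fun i => W4bk4grassmannian.inf (a i) b with hτs
  refine ideal_eq_of_span_of_indep (K := K) _ _ ?_ (fun c : ChU τs => chainMon K c.2.1) ?_ ?_
  · refine sup_le ?_ ?_
    · exact le_iInf fun i => iInf_le_of_le i (schubertVanishing_anti (inf_le_left' _ _))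
    · exact le_iInf fun i => schubertVanishing_anti (inf_le_right' _ _)
  · refine span_chainMon_eq_top τs _
      (le_trans (plIdealTop_le_schubertVanishing b) le_sup_right) (fun m c _ hex => ?_)
    by_cases hb : ∀ k, c k ≤ b
    · refine Ideal.mem_sup_left ?_
      rw [Ideal.mem_iInf]
      intro i
      have : ¬ ∀ k, c k ≤ a i := by
        intro hall
        exact hex ⟨i, fun k => (le_inf_iff' _ _ _).2 ⟨hall k, hb k⟩⟩
      push Not at this
      obtain ⟨k, hk⟩ := this
      exact chainMon_mem_of_X_mem _ c k (X_mem_schubertVanishing (a i) (c k) hk)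
    · push Not at hb
      obtain ⟨k, hk⟩ := hb
      exact Ideal.mem_sup_right (chainMon_mem_of_X_mem _ c k (X_mem_schubertVanishing b (c k) hk))
  · exact linearIndependent_chainMon (K := K) hd τs

lemma schubertVanishing_lt_of_lt (hd : 0 < d) {φ τ : Idx d n} (h : φ < τ) :
    schubertVanishing K d n τ < schubertVanishing K d n φ := by
  refine lt_of_le_of_ne (schubertVanishing_anti h.le) (fun heq => ?_)
  have h1 : (X τ : PlRing K d n) ∈ schubertVanishing K d n φ :=
    X_mem_schubertVanishing φ τ (not_le_of_gt h)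
  rw [← heq] at h1
  exact X_notMem_schubertVanishing τ τ le_rfl h1

lemma le_of_schubertVanishing_le {φ φ' : Idx d n}
    (h : schubertVanishing K d n φ' ≤ schubertVanishing K d n φ) : φ ≤ φ' := by
  by_contra hne
  exact X_notMem_schubertVanishing φ φ le_rfl (h (X_mem_schubertVanishing φ' φ hne))

/-- a Schubert divisor is a minimal prime over the hyperplane section. -/
theorem mem_minimalPrimes_of_mem_divisors (hd : 0 < d) {τ φ : Idx d n} (h : φ ∈ divisors τ) :
    schubertVanishing K d n φ ∈
      (schubertVanishing K d n τ ⊔ Ideal.span {(X τ : PlRing K d n)}).minimalPrimes := by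
  classical
  haveI := schubertVanishing_isPrime K hd φ
  have hle : schubertVanishing K d n τ ⊔ Ideal.span {(X τ : PlRing K d n)} ≤
      schubertVanishing K d n φ := by
    refine sup_le (schubertVanishing_anti h.1.le) ?_
    rw [Ideal.span_le, Set.singleton_subset_iff]
    exact X_mem_schubertVanishing φ τ (not_le_of_gt h.1)
  refine ⟨⟨inferInstance, hle⟩, ?_⟩
  rintro q ⟨hq, hqle⟩ hqφ
  rw [sup_span_X_eq_iInf hd τ ⟨φ, h.1⟩] at hqle
  have hfin := Set.toFinite (divisors τ)
  have h1 : hfin.toFinset.inf (fun φ' => schubertVanishing K d n φ') ≤ q := by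
    rw [Finset.inf_eq_iInf]
    refine le_trans (le_of_eq ?_) hqle
    simp only [Set.Finite.mem_toFinset]
  obtain ⟨φ', hφ', hφ'q⟩ := (Ideal.IsPrime.inf_le' hq).1 h1
  rw [Set.Finite.mem_toFinset] at hφ'
  have h2 : φ ≤ φ' := le_of_schubertVanishing_le (le_trans hφ'q hqφ)
  have h3 := eq_of_le_of_mem_divisors h hφ' h2
  rw [h3]
  exact hφ'q

end Ideals

section CM

variable (K : Type u) [Field K] [Infinite K] {d n : ℕ}

/-- the local rings of the Plücker polynomial ring are Cohen–Macaulay. -/
theorem hS_PlRing (P : Ideal (PlRing K d n)) [P.IsPrime] :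
    LocCoh.IsCohenMacaulayLocalRing (Localization.AtPrime P) :=
  isCMLocalRing_of_isRegularRing P

instance isRegularRing_Bc (τ : Idx d n) : IsRegularRing (Bc K τ) :=
  isRegularRing_of_isLocalization (Submonoid.powers (X none : Pc K τ)) (Bc K τ)

theorem isRegularRing_Ax (hd : 0 < d) (τ : Idx d n) : IsRegularRing (Ax K τ) :=
  IsRegularRing.of_ringEquiv (cellEquiv K hd τ).symm

/-- the codimension of a Schubert variety, as the height of its ideal. -/
noncomputable def cτ (τ : Idx d n) : ℕ := (schubertVanishing K d n τ).height.toNat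

variable {K}

/-- Cohen–Macaulayness of the Schubert variety away from the hyperplane section. -/
theorem cmAt_away (hd : 0 < d) (τ : Idx d n) (P : Ideal (PlRing K d n)) [P.IsPrime]
    (hle : schubertVanishing K d n τ ≤ P) (hx : (X τ : PlRing K d n) ∉ P) :
    CMat (schubertVanishing K d n τ) P := by
  haveI := map_mk_isPrime (schubertVanishing K d n τ) P hle
  have hcomap := comap_map_mk_eq (schubertVanishing K d n τ) P hle
  set q := P.map (Ideal.Quotient.mk (schubertVanishing K d n τ)) with hq
  have hxq : xτ K τ ∉ q := by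
    intro h
    apply hx
    rw [← hcomap]
    exact h
  haveI := isRegularRing_Ax K hd τ
  haveI : IsRegularLocalRing (Localization.AtPrime q) := isRegularLocalRing_of_away (xτ K τ) q hxq
  haveI : LocCoh.IsCohenMacaulayLocalRing (Localization.AtPrime q) :=
    Groth.Agent.Lib.Helper4.RegCM.isCohenMacaulayLocalRing _
  exact cmAt_of_isCMLocalRing (schubertVanishing K d n τ) q P hcomap.symm

lemma cτ_divisor (hd : 0 < d) {τ φ : Idx d n} (h : φ ∈ divisors τ) : cτ K φ = cτ K τ + 1 := by
  haveI := schubertVanishing_isPrime K hd φ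
  haveI := schubertVanishing_isPrime K hd τ
  have h1 := height_eq_add_one_of_minimalPrimes (fun P _ => hS_PlRing K P)
    (schubertVanishing K d n τ) (schubertVanishing K d n φ) (X τ)
    (schubertVanishing_lt_of_lt hd h.1) (mem_minimalPrimes_of_mem_divisors hd h)
  unfold cτ
  rw [h1]
  have hfin : (schubertVanishing K d n τ).height ≠ ⊤ := Ideal.height_ne_top_of_isPrime
  rw [ENat.toNat_add hfin ENat.one_ne_top]
  rfl

/-- the data at primes avoiding `X_τ`. -/
lemma away_data (hd : 0 < d) (τ : Idx d n) (P : Ideal (PlRing K d n)) [P.IsPrime]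
    (hle : schubertVanishing K d n τ ≤ P) (hx : (X τ : PlRing K d n) ∉ P) :
    CMat (schubertVanishing K d n τ) P ∧
      ∃ e : ℕ, dimAt (schubertVanishing K d n τ) P = e ∧ ((e + cτ K τ : ℕ) : ℕ∞) = P.height := by
  haveI := schubertVanishing_isPrime K hd τ
  exact ⟨cmAt_away hd τ P hle hx,
    exists_dimAt_of_prime (fun P _ => hS_PlRing K P) (schubertVanishing K d n τ) P hle⟩

lemma X_mul_mem (hd : 0 < d) (τ : Idx d n) (a : PlRing K d n)
    (h : X τ * a ∈ schubertVanishing K d n τ) : a ∈ schubertVanishing K d n τ := by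
  haveI := schubertVanishing_isPrime K hd τ
  rcases Ideal.IsPrime.mem_or_mem ‹_› h with h1 | h1
  · exact absurd h1 (X_notMem_schubertVanishing τ τ le_rfl)
  · exact h1

lemma iInf_fin_succ_eq {α : Type*} [CompleteLattice α] {s : ℕ} (f : Fin (s + 1) → α) :
    (⨅ i, f i) = (⨅ i : Fin s, f i.castSucc) ⊓ f (Fin.last s) := by
  apply le_antisymm
  · exact le_inf (le_iInf fun i => iInf_le _ _) (iInf_le _ _)
  · refine le_iInf fun i => ?_
    induction i using Fin.lastCases with
    | last => exact inf_le_right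
    | cast j => exact inf_le_left.trans (iInf_le _ j)

/-- the case of the bottom Schubert variety: the vertex. -/
lemma CMc_vertex (hd : 0 < d) (hdn : d < n) (τ : Idx d n) (hτ : ¬ ∃ φ : Idx d n, φ < τ) :
    CMc (schubertVanishing K d n τ ⊔ Ideal.span {(X τ : PlRing K d n)}) (cτ K τ + 1) := by
  classical
  haveI : Nonempty (Fin d) := ⟨⟨0, hd⟩⟩
  have hτι : τ = iotaIdx hdn := by
    by_contra hne
    exact hτ ⟨iotaIdx hdn, lt_of_le_of_ne (iotaIdx_le hdn τ) (Ne.symm hne)⟩
  have hθ : ∀ θ : Idx d n, θ ≠ τ → ¬ θ ≤ τ := by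
    intro θ hne hle
    exact hτ ⟨θ, lt_of_le_of_ne hle hne⟩
  set 𝔫 : Ideal (PlRing K d n) :=
    RingHom.ker (MvPolynomial.constantCoeff : PlRing K d n →+* K) with h𝔫
  have hsurj : Function.Surjective (MvPolynomial.constantCoeff : PlRing K d n →+* K) :=
    fun c => ⟨C c, MvPolynomial.constantCoeff_C _ c⟩
  haveI h𝔫max : 𝔫.IsMaximal := RingHom.ker_isMaximal_of_surjective _ hsurj
  haveI h𝔫prime : 𝔫.IsPrime := h𝔫max.isPrime
  have hJle : schubertVanishing K d n τ ≤ 𝔫 := by
    intro f hf
    unfold schubertVanishing at hf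
    rw [Ideal.mem_iInf] at hf
    have h1 := hf 0
    rw [Ideal.mem_iInf] at h1
    have h2 := h1 (fun φ _ => by
      rw [Matrix.submatrix_zero]
      exact Matrix.det_zero)
    rw [RingHom.mem_ker] at h2 ⊢
    have h3 : (evalMinors K d n 0) f = MvPolynomial.aeval (0 : Idx d n → K) f := by
      unfold evalMinors
      congr 2
      funext θ
      rw [Matrix.submatrix_zero]
      exact Matrix.det_zero
    have h4 : (evalMinors K d n 0) f = 0 := h2
    rw [h3, MvPolynomial.aeval_zero] at h4
    simpa using h4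
  have hXτ : (X τ : PlRing K d n) ∈ 𝔫 := by
    rw [h𝔫, RingHom.mem_ker, MvPolynomial.constantCoeff_X]
  have heq : schubertVanishing K d n τ ⊔ Ideal.span {(X τ : PlRing K d n)} = 𝔫 := by
    apply le_antisymm
    · refine sup_le hJle ?_
      rw [Ideal.span_le, Set.singleton_subset_iff]
      exact hXτ
    · intro f hf
      have h1 : f ∈ Ideal.span (MvPolynomial.X '' (Set.univ : Set (Idx d n)) :
          Set (PlRing K d n)) := by
        rw [MvPolynomial.mem_ideal_span_X_image]
        intro m hm
        have hm0 : m ≠ 0 := by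
          rintro rfl
          rw [MvPolynomial.mem_support_iff] at hm
          apply hm
          rw [h𝔫, RingHom.mem_ker] at hf
          exact hf
        obtain ⟨i, hi⟩ := Finsupp.ne_iff.mp hm0
        exact ⟨i, Set.mem_univ _, by simpa using hi⟩
      refine (Ideal.span_le.2 ?_) h1
      rintro _ ⟨θ, _, rfl⟩
      by_cases hθτ : θ = τ
      · rw [hθτ]
        exact Ideal.mem_sup_right (Ideal.subset_span rfl)
      · exact Ideal.mem_sup_left (X_mem_schubertVanishing τ θ (hθ θ hθτ))
  rw [heq]
  haveI := schubertVanishing_isPrime K hd τ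
  have hlt : schubertVanishing K d n τ < 𝔫 := by
    refine lt_of_le_of_ne hJle (fun h => ?_)
    rw [← h] at hXτ
    exact X_notMem_schubertVanishing τ τ le_rfl hXτ
  have hmin : 𝔫 ∈ (schubertVanishing K d n τ ⊔ Ideal.span {(X τ : PlRing K d n)}).minimalPrimes := by
    rw [heq, Ideal.minimalPrimes_eq_subsingleton_self]
    rfl
  have hht := height_eq_add_one_of_minimalPrimes (fun P _ => hS_PlRing K P)
    (schubertVanishing K d n τ) 𝔫 (X τ) hlt hmin
  have hc : cτ K τ + 1 = 𝔫.height.toNat := by
    unfold cτ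
    rw [hht]
    have hfin : (schubertVanishing K d n τ).height ≠ ⊤ := Ideal.height_ne_top_of_isPrime
    rw [ENat.toNat_add hfin ENat.one_ne_top]
    rfl
  rw [hc]
  refine CMc.of_prime (fun P _ => hS_PlRing K P) 𝔫 (fun P _ hP => ?_)
  haveI := map_mk_isPrime 𝔫 P hP
  have hcomap := comap_map_mk_eq 𝔫 P hP
  haveI : IsRegularRing (PlRing K d n ⧸ 𝔫) :=
    IsRegularRing.of_ringEquiv (RingHom.quotientKerEquivOfSurjective hsurj).symm
  haveI : LocCoh.IsCohenMacaulayLocalRing
      (Localization.AtPrime (P.map (Ideal.Quotient.mk 𝔫))) :=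
    isCMLocalRing_of_isRegularRing _
  exact cmAt_of_isCMLocalRing 𝔫 (P.map (Ideal.Quotient.mk 𝔫)) P hcomap.symm

/-- the statement `Q(τ)`: unions of Schubert divisors of `X(τ)` are Cohen–Macaulay. -/
def QCM (K : Type u) [Field K] [Infinite K] {d n : ℕ} (τ : Idx d n) : Prop :=
  ∀ (s : ℕ) (φ : Fin (s + 1) → Idx d n), (∀ i, φ i ∈ divisors τ) →
    CMc (⨅ i, schubertVanishing K d n (φ i)) (cτ K τ + 1)

lemma QCM_of_forall (hd : 0 < d) (τ : Idx d n)
    (hP : ∀ φ ∈ divisors τ, CMc (schubertVanishing K d n φ) (cτ K φ))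
    (hQ : ∀ φ ∈ divisors τ, QCM K φ) : QCM K τ := by
  intro s
  induction s with
  | zero =>
    intro φ hφ
    have h1 : (⨅ i, schubertVanishing K d n (φ i)) = schubertVanishing K d n (φ 0) := by
      apply le_antisymm (iInf_le _ _)
      refine le_iInf fun i => ?_
      rw [Fin.fin_one_eq_zero i]
    rw [h1, ← cτ_divisor hd (hφ 0)]
    exact hP _ (hφ 0)
  | succ s ih =>
    intro φ hφ
    rw [iInf_fin_succ_eq]
    have hI := ih (fun i => φ i.castSucc) (fun i => hφ _)
    by_cases hex : ∃ i : Fin (s + 1), φ i.castSucc = φ (Fin.last _)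
    · obtain ⟨i, hi⟩ := hex
      have : (⨅ i : Fin (s + 1), schubertVanishing K d n (φ i.castSucc)) ≤
          schubertVanishing K d n (φ (Fin.last _)) := by
        rw [← hi]
        exact iInf_le _ i
      rw [inf_eq_left.2 this]
      exact hI
    · push Not at hex
      have hlast := hφ (Fin.last _)
      refine CMc.inf hI ?_ ?_
      · rw [← cτ_divisor hd hlast]
        exact hP _ hlast
      · rw [iInf_sup_schubertVanishing hd, ← cτ_divisor hd hlast]
        exact hQ _ hlast s _ (fun i => inf_mem_divisors (hφ _) hlast (hex i))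

/-- the main induction: Schubert varieties and unions of their divisors are Cohen–Macaulay. -/
theorem CMc_main (hd : 0 < d) (hdn : d < n) :
    ∀ (N : ℕ) (τ : Idx d n), codeg τ = N →
      CMc (schubertVanishing K d n τ) (cτ K τ) ∧ QCM K τ := by
  classical
  intro N
  induction N using Nat.strong_induction_on with
  | _ N IH =>
    intro τ hτN
    have hlt : ∀ φ ∈ divisors τ, codeg φ < N := by
      intro φ hφ
      rw [← hτN]
      exact codeg_lt_of_lt hφ.1
    have hQ : QCM K τ :=
      QCM_of_forall hd τ (fun φ hφ => (IH _ (hlt φ hφ) φ rfl).1)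
        (fun φ hφ => (IH _ (hlt φ hφ) φ rfl).2)
    refine ⟨?_, hQ⟩
    refine CMc.of_nzd (X_mul_mem hd τ) ?_ (fun P _ hle hx => away_data hd τ P hle hx)
    by_cases hτ : ∃ φ : Idx d n, φ < τ
    · rw [sup_span_X_eq_iInf hd τ hτ]
      obtain ⟨r, τs, -, hrange⟩ := (Set.toFinite (divisors τ)).fin_param
      have hdiv : ∀ i, τs i ∈ divisors τ := fun i => hrange ▸ Set.mem_range_self i
      have hJ : (⨅ φ ∈ divisors τ, schubertVanishing K d n φ) =
          ⨅ i, schubertVanishing K d n (τs i) := by
        rw [← hrange, iInf_range]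
      rw [hJ]
      obtain ⟨φ₀, hφ₀⟩ := hτ
      obtain ⟨ψ₀, hψ₀, -⟩ := Groth.Agent.S11268.result d n φ₀ τ hφ₀
      obtain ⟨i₀, -⟩ : ∃ i, τs i = ψ₀ := by
        have : ψ₀ ∈ Set.range τs := hrange ▸ hψ₀
        exact this
      obtain ⟨r', rfl⟩ : ∃ r', r = r' + 1 := by
        rcases r with _ | r'
        · exact i₀.elim0
        · exact ⟨r', rfl⟩
      exact hQ r' τs hdiv
    · exact CMc_vertex hd hdn τ hτ

theorem isCMRing_schubert (hd : 0 < d) (hdn : d < n) (τ : Idx d n) :
    LocCoh.IsCohenMacaulayRing (PlRing K d n ⧸ schubertVanishing K d n τ) :=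
  ((CMc_main (K := K) hd hdn _ τ rfl).1).isCMRing

theorem isCMRing_divisors (hd : 0 < d) (hdn : d < n) (τ : Idx d n) {s : ℕ}
    (φ : Fin s → Idx d n) (hφ : ∀ i, φ i ∈ divisors τ) :
    LocCoh.IsCohenMacaulayRing (PlRing K d n ⧸ ⨅ i, schubertVanishing K d n (φ i)) := by
  rcases s with _ | s
  · refine isCMRing_quotient_of_forall _ (fun P hP hle => ?_)
    exfalso
    have : (⨅ i : Fin 0, schubertVanishing K d n (φ i)) = ⊤ := by
      rw [iInf_of_isEmpty (fun i : Fin 0 => schubertVanishing K d n (φ i)), sInf_empty]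
    rw [this] at hle
    exact hP.ne_top (top_le_iff.1 hle)
  · exact ((CMc_main (K := K) hd hdn _ τ rfl).2 s φ hφ).isCMRing

end CM


end Groth.Agent.Lib.Helper22.Grass
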