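import Mathlib
import Groth.Agent.Lib.Helper22.GrassCell
import Groth.Agent.Lib.Helper22.DimTrdeg

/-!
# The dimension of the cone over a Schubert variety
-/

namespace Groth.Agent.Lib.Helper22.Grass

open W4bk4grassmannian MvPolynomial

universe u

section Card

variable {d n : ℕ}

lemma card_col (w : Idx d n) (j : Fin d) :
    (Finset.univ.filter fun i : Fin n => (∀ k, w.1 k ≠ i) ∧ i < w.1 j).card =
      (w.1 j).val - j.val := by
  classical
  have hset : (Finset.univ.filter fun i : Fin n => (∀ k, w.1 k ≠ i) ∧ i < w.1 j) =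
      Finset.Iio (w.1 j) \ (Finset.Iio j).image w.1 := by
    ext i
    rw [Finset.mem_filter, Finset.mem_sdiff, Finset.mem_Iio, Finset.mem_image]
    constructor
    · rintro ⟨-, h1, h2⟩
      refine ⟨h2, ?_⟩
      rintro ⟨k, -, hk⟩
      exact h1 k hk
    · rintro ⟨h1, h2⟩
      refine ⟨Finset.mem_univ _, fun k hk => h2 ⟨k, ?_, hk⟩, h1⟩
      rw [Finset.mem_Iio]
      rw [← hk] at h1
      exact w.2.lt_iff_lt.1 h1
  rw [hset, Finset.card_sdiff_of_subset, Fin.card_Iio,
    Finset.card_image_of_injective _ w.2.injective, Fin.card_Iio]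
  intro i hi
  rw [Finset.mem_image] at hi
  obtain ⟨k, hk, rfl⟩ := hi
  rw [Finset.mem_Iio] at hk ⊢
  exact w.2 hk

theorem card_Zc (w : Idx d n) : Fintype.card (Zc w) = codeg w := by
  classical
  rw [Fintype.card_subtype]
  unfold codeg
  rw [Finset.card_filter, Fintype.sum_prod_type_right]
  refine Finset.sum_congr rfl (fun j _ => ?_)
  rw [← card_col w j, Finset.card_filter]

end Card

section Dim

variable (K : Type u) [Field K] [Infinite K] {d n : ℕ}

/-- the generators of the cone over the cell. -/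
noncomputable def yc (τ : Idx d n) (o : Option (Zc τ)) : Aw K τ :=
  Option.elim o (xτ K τ) (fun p => cfb K τ p.1.1 p.1.2)

theorem aeval_yc_injective (hd : 0 < d) (τ : Idx d n) :
    Function.Injective (MvPolynomial.aeval (R := K) (yc K τ)) := by
  have hcomp : (φc K τ).comp (MvPolynomial.aeval (R := K) (yc K τ)) =
      MvPolynomial.aeval (fun o : Option (Zc τ) =>
        (Option.elim o (X none) (fun p => X none * X (some p)) : Pc K τ)) := by
    apply MvPolynomial.algHom_ext
    intro o
    rw [AlgHom.comp_apply, MvPolynomial.aeval_X, MvPolynomial.aeval_X]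
    cases o with
    | none => exact φc_xτ K hd τ
    | some p =>
      simp only [yc, Option.elim_some]
      rw [φc_cfb K hd, cellM0_of_mem]
  have hinj : Function.Injective ((φc K τ).comp (MvPolynomial.aeval (R := K) (yc K τ))) := by
    rw [hcomp]
    exact algebraicIndependent_scaled (K := K) (Zc τ)
  exact Function.Injective.of_comp (f := φc K τ) hinj

theorem trdeg_Aw (hd : 0 < d) (τ : Idx d n) :
    Algebra.trdeg K (Aw K τ) = ((codeg τ + 1 : ℕ) : Cardinal.{u}) := by
  have h1 : Algebra.trdeg K (Aw K τ) ≤ Algebra.trdeg K (Pc K τ) :=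
    trdeg_le_of_injective (φc K τ) (φc_injective K hd τ)
  have h2 : Algebra.trdeg K (Pc K τ) ≤ Algebra.trdeg K (Aw K τ) :=
    trdeg_le_of_injective (MvPolynomial.aeval (R := K) (yc K τ)) (aeval_yc_injective K hd τ)
  rw [le_antisymm h1 h2, MvPolynomial.trdeg_of_isDomain, Cardinal.mk_fintype, Fintype.card_option,
    card_Zc]
  simp

theorem ringKrullDim_Aw (hd : 0 < d) (τ : Idx d n) :
    ringKrullDim (Aw K τ) = ((codeg τ + 1 : ℕ) : WithBot ℕ∞) := by
  haveI := isDomain_Aw K hd τ
  exact Groth.Agent.Lib.Helper22.ringKrullDim_eq_of_trdeg (k := K) (codeg τ + 1) (trdeg_Aw K hd τ)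

end Dim

end Groth.Agent.Lib.Helper22.Grass
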