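import Mathlib
import Groth.Agent.Lib.Helper22.DetGen
import Groth.Agent.Lib.Helper22.GrassCM
import Groth.Agent.Lib.Helper22.GrassDehom
import Groth.Agent.Lib.Helper22.GrassDim
import Groth.Agent.Lib.Helper22.GrassBigCell

/-!
# The opposite cells of Schubert varieties: normality, Cohen–Macaulayness, dimension
-/

set_option autoImplicit false

namespace Groth.Agent.Lib.Helper22.Grass

open W4bk4grassmannian MvPolynomial Groth.Agent.Lib.Helper22.CMG

universe u

section Homog

variable {K : Type u} [Field K] {d n : ℕ}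

lemma coord_isHomogeneous (a : Fin d → Fin n) : (coord K d n a).IsHomogeneous 1 := by
  unfold coord
  split_ifs with h
  · have h1 : ((-1 : PlRing K d n) ^ invCount d n a) = C ((-1 : K) ^ invCount d n a) := by
      rw [map_pow, map_neg, map_one]
    rw [h1]
    have := (MvPolynomial.isHomogeneous_C (Idx d n) ((-1 : K) ^ invCount d n a)).mul
      (MvPolynomial.isHomogeneous_X K (sortIdx d n a h))
    simpa using this
  · exact MvPolynomial.isHomogeneous_zero _ _ _

lemma shuffleRel_isHomogeneous (i j : Idx d n) (r : Fin d) :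
    (shuffleRel K i j r).IsHomogeneous 2 := by
  unfold shuffleRel
  refine MvPolynomial.IsHomogeneous.sum _ _ _ (fun A _ => ?_)
  unfold shuffleTerm
  split_ifs with hA
  · have h1 : ((-1 : PlRing K d n) ^ shuffleSign r A) = C ((-1 : K) ^ shuffleSign r A) := by
      rw [map_pow, map_neg, map_one]
    rw [h1]
    have := ((MvPolynomial.isHomogeneous_C (Idx d n) ((-1 : K) ^ shuffleSign r A)).mul
      (coord_isHomogeneous (K := K) (shuffleI i j r A hA))).mul
      (coord_isHomogeneous (K := K) (shuffleJ i j r A hA))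
    simpa using this
  · exact MvPolynomial.isHomogeneous_zero _ _ _

/-- a rescaled evaluation vanishes on an ideal generated by homogeneous elements as soon as the
evaluation does. -/
lemma aeval_mul_eq_zero_of_mem_span {σ : Type*} {A' : Type*} [CommRing A'] [Algebra K A']
    (g : σ → A') (u : A') (G : Set (MvPolynomial σ K))
    (hG : ∀ f ∈ G, ∃ k, f.IsHomogeneous k) (hg : ∀ f ∈ G, MvPolynomial.aeval g f = 0)
    {f : MvPolynomial σ K} (hf : f ∈ Ideal.span G) :
    MvPolynomial.aeval (fun i => g i * u) f = 0 := by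
  have hle : Ideal.span G ≤ RingHom.ker (MvPolynomial.aeval (R := K) (fun i => g i * u)).toRingHom := by
    rw [Ideal.span_le]
    intro f hf
    obtain ⟨k, hk⟩ := hG f hf
    rw [SetLike.mem_coe, RingHom.mem_ker]
    show MvPolynomial.aeval (fun i => g i * u) f = 0
    rw [aeval_mul_of_isHomogeneous g u hk, hg f hf, zero_mul]
  exact hle hf

end Homog

section Maps

open LaurentPolynomial

variable (K : Type u) [Field K] [Infinite K] {d n : ℕ}

/-- the bottom coordinate in the coordinate ring of the cone over `X(w)`. -/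
noncomputable def xι (hdn : d < n) (w : Idx d n) : Aw K w :=
  Ideal.Quotient.mk _ (X (iotaIdx hdn))

/-- the coordinate ring of the cone over the opposite cell. -/
abbrev Aι (hdn : d < n) (w : Idx d n) : Type u := Localization.Away (xι K hdn w)

/-- the coordinate ring of the opposite cell. -/
abbrev Bq (hdn : d < n) (w : Idx d n) : Type u := PlRing K d n ⧸ Qw K hdn w

variable {K}

lemma xι_ne_zero (hdn : d < n) (w : Idx d n) : xι K hdn w ≠ 0 := by
  intro h
  exact X_notMem_schubertVanishing w _ (iotaIdx_le hdn w) (Ideal.Quotient.eq_zero_iff_mem.1 h)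

lemma schubertVanishing_le_Qw (hdn : d < n) (w : Idx d n) :
    schubertVanishing K d n w ≤ Qw K hdn w := le_sup_left

lemma gens_homogeneous (w : Idx d n) :
    ∀ f ∈ ({f | ∃ (i j : Idx d n) (r : Fin d), IsPivot i j r ∧ f = shuffleRel K i j r} ∪
      {f | ∃ φ : Idx d n, ¬ φ ≤ w ∧ f = X φ} : Set (PlRing K d n)), ∃ k, f.IsHomogeneous k := by
  rintro f (⟨i, j, r, -, rfl⟩ | ⟨φ, -, rfl⟩)
  · exact ⟨2, shuffleRel_isHomogeneous i j r⟩
  · exact ⟨1, MvPolynomial.isHomogeneous_X K φ⟩

/-- the dehomogenization `X_θ ↦ X_θ / X_ι`. -/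
noncomputable def ε₀ (hdn : d < n) (w : Idx d n) : PlRing K d n →ₐ[K] Aι K hdn w :=
  MvPolynomial.aeval (fun θ : Idx d n =>
    algebraMap (Aw K w) (Aι K hdn w) (Ideal.Quotient.mk _ (X θ)) *
      IsLocalization.Away.invSelf (xι K hdn w))

lemma aeval_algebraMap_mk (hdn : d < n) (w : Idx d n) (f : PlRing K d n) :
    MvPolynomial.aeval (fun θ : Idx d n =>
      algebraMap (Aw K w) (Aι K hdn w) (Ideal.Quotient.mk _ (X θ))) f =
      algebraMap (Aw K w) (Aι K hdn w) (Ideal.Quotient.mk _ f) := by
  have h := MvPolynomial.aeval_unique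
    ((IsScalarTower.toAlgHom K (Aw K w) (Aι K hdn w)).comp
      (Ideal.Quotient.mkₐ K (schubertVanishing K d n w)))
  have h2 := congrArg (fun ψ => ψ f) h
  simp only [AlgHom.comp_apply, Ideal.Quotient.mkₐ_eq_mk, IsScalarTower.coe_toAlgHom'] at h2
  rw [h2]
  rfl

lemma ε₀_eq_zero (hd : 0 < d) (hdn : d < n) (w : Idx d n) (f : PlRing K d n)
    (hf : f ∈ Qw K hdn w) : ε₀ hdn w f = 0 := by
  have hle : Qw K hdn w ≤ RingHom.ker (ε₀ (K := K) hdn w).toRingHom := by
    unfold Qw
    refine sup_le ?_ ?_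
    · intro f hf
      rw [RingHom.mem_ker]
      show ε₀ hdn w f = 0
      have hf' := hf
      rw [← plIdeal_eq_schubertVanishing hd w] at hf
      unfold plIdeal at hf
      refine aeval_mul_eq_zero_of_mem_span _ _ _ (gens_homogeneous w) (fun g hg => ?_) hf
      rw [aeval_algebraMap_mk]
      have : g ∈ schubertVanishing K d n w := by
        rw [← plIdeal_eq_schubertVanishing hd w]
        exact Ideal.subset_span hg
      rw [Ideal.Quotient.eq_zero_iff_mem.2 this, map_zero]
    · rw [Ideal.span_le, Set.singleton_subset_iff, SetLike.mem_coe, RingHom.mem_ker]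
      show ε₀ hdn w (X (iotaIdx hdn) - 1) = 0
      unfold ε₀
      rw [map_sub, MvPolynomial.aeval_X, map_one]
      have := IsLocalization.Away.mul_invSelf (S := Aι K hdn w) (xι K hdn w)
      rw [sub_eq_zero]
      exact this
  exact hle hf

/-- the dehomogenization on the coordinate ring of the opposite cell. -/
noncomputable def εbar (hd : 0 < d) (hdn : d < n) (w : Idx d n) : Bq K hdn w →+* Aι K hdn w :=
  Ideal.Quotient.lift (Qw K hdn w) (ε₀ (K := K) hdn w).toRingHom (ε₀_eq_zero hd hdn w)

/-- the homogenization `X_θ ↦ X_θ T`. -/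
noncomputable def lam₀ (hdn : d < n) (w : Idx d n) : PlRing K d n →ₐ[K] (Bq K hdn w)[T;T⁻¹] :=
  MvPolynomial.aeval (fun θ : Idx d n =>
    (LaurentPolynomial.C (Ideal.Quotient.mk (Qw K hdn w) (X θ)) : (Bq K hdn w)[T;T⁻¹]) *
      LaurentPolynomial.T 1)

lemma aeval_C_mk (hdn : d < n) (w : Idx d n) (f : PlRing K d n) :
    MvPolynomial.aeval (fun θ : Idx d n =>
      (LaurentPolynomial.C (Ideal.Quotient.mk (Qw K hdn w) (X θ)) : (Bq K hdn w)[T;T⁻¹])) f =
      LaurentPolynomial.C (Ideal.Quotient.mk (Qw K hdn w) f) := by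
  induction f using MvPolynomial.induction_on with
  | C a =>
    rw [MvPolynomial.aeval_C, LaurentPolynomial.algebraMap_apply]
    rfl
  | add p q hp hq => rw [map_add, hp, hq, map_add, map_add]
  | mul_X p θ hp => rw [map_mul, hp, MvPolynomial.aeval_X, map_mul, map_mul]

lemma lam₀_eq_zero (hd : 0 < d) (hdn : d < n) (w : Idx d n) (f : PlRing K d n)
    (hf : f ∈ schubertVanishing K d n w) : lam₀ hdn w f = 0 := by
  rw [← plIdeal_eq_schubertVanishing hd w] at hf
  unfold plIdeal at hf
  unfold lam₀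
  refine aeval_mul_eq_zero_of_mem_span (A' := (Bq K hdn w)[T;T⁻¹])
    (fun θ : Idx d n => LaurentPolynomial.C (Ideal.Quotient.mk (Qw K hdn w) (X θ)))
    (LaurentPolynomial.T 1) _ (gens_homogeneous w) (fun g hg => ?_) hf
  rw [aeval_C_mk]
  have : g ∈ Qw K hdn w := by
    apply schubertVanishing_le_Qw hdn w
    rw [← plIdeal_eq_schubertVanishing hd w]
    exact Ideal.subset_span hg
  rw [Ideal.Quotient.eq_zero_iff_mem.2 this, map_zero]

noncomputable def lambar (hd : 0 < d) (hdn : d < n) (w : Idx d n) :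
    Aw K w →+* (Bq K hdn w)[T;T⁻¹] :=
  Ideal.Quotient.lift (schubertVanishing K d n w) (lam₀ (K := K) hdn w).toRingHom
    (lam₀_eq_zero hd hdn w)

lemma lambar_mk_X (hd : 0 < d) (hdn : d < n) (w : Idx d n) (θ : Idx d n) :
    lambar hd hdn w (Ideal.Quotient.mk _ (X θ)) =
      (LaurentPolynomial.C (Ideal.Quotient.mk (Qw K hdn w) (X θ)) : (Bq K hdn w)[T;T⁻¹]) *
        LaurentPolynomial.T 1 := by
  unfold lambar
  rw [Ideal.Quotient.lift_mk]
  show lam₀ hdn w (X θ) = _
  unfold lam₀
  rw [MvPolynomial.aeval_X]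

lemma lambar_xι (hd : 0 < d) (hdn : d < n) (w : Idx d n) :
    lambar hd hdn w (xι K hdn w) = LaurentPolynomial.T 1 := by
  unfold xι
  rw [lambar_mk_X, mk_Qw_X_iota, map_one, one_mul]

lemma isUnit_lambar_xι (hd : 0 < d) (hdn : d < n) (w : Idx d n) :
    IsUnit (lambar hd hdn w (xι K hdn w)) := by
  rw [lambar_xι]
  exact LaurentPolynomial.isUnit_T 1

noncomputable def lam (hd : 0 < d) (hdn : d < n) (w : Idx d n) :
    Aι K hdn w →+* (Bq K hdn w)[T;T⁻¹] :=
  IsLocalization.Away.lift (S := Aι K hdn w) (P := (Bq K hdn w)[T;T⁻¹]) (xι K hdn w)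
    (g := lambar hd hdn w) (isUnit_lambar_xι hd hdn w)

lemma lam_algebraMap (hd : 0 < d) (hdn : d < n) (w : Idx d n) (a : Aw K w) :
    lam hd hdn w (algebraMap _ _ a) = lambar hd hdn w a := by
  unfold lam
  rw [IsLocalization.Away.lift_eq]

lemma lam_invSelf (hd : 0 < d) (hdn : d < n) (w : Idx d n) :
    lam hd hdn w (IsLocalization.Away.invSelf (xι K hdn w)) =
      (LaurentPolynomial.T (-1) : (Bq K hdn w)[T;T⁻¹]) := by
  have h1 := IsLocalization.Away.mul_invSelf (S := Aι K hdn w) (xι K hdn w)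
  have h2 := congrArg (lam hd hdn w) h1
  rw [map_mul, lam_algebraMap, lambar_xι, map_one] at h2
  calc lam hd hdn w (IsLocalization.Away.invSelf (xι K hdn w))
      = LaurentPolynomial.T (-1) * (LaurentPolynomial.T 1 *
          lam hd hdn w (IsLocalization.Away.invSelf (xι K hdn w))) := by
        rw [← mul_assoc, ← LaurentPolynomial.T_add]
        simp
    _ = LaurentPolynomial.T (-1) := by rw [h2, mul_one]

/-- `λ ∘ ε = C`. -/
theorem lam_εbar (hd : 0 < d) (hdn : d < n) (w : Idx d n) (b : Bq K hdn w) :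
    lam hd hdn w (εbar hd hdn w b) = LaurentPolynomial.C b := by
  have h : (lam hd hdn w).comp (εbar hd hdn w) =
      (LaurentPolynomial.C : Bq K hdn w →+* (Bq K hdn w)[T;T⁻¹]) := by
    apply Ideal.Quotient.ringHom_ext
    apply MvPolynomial.ringHom_ext
    · intro a
      simp only [RingHom.comp_apply]
      unfold εbar
      rw [Ideal.Quotient.lift_mk]
      show lam hd hdn w (ε₀ hdn w (MvPolynomial.C a)) = _
      have h1 : ε₀ hdn w (MvPolynomial.C a) = algebraMap (Aw K w) (Aι K hdn w)
          (Ideal.Quotient.mk _ (MvPolynomial.C a)) := by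
        unfold ε₀
        rw [MvPolynomial.aeval_C]
        rfl
      rw [h1, lam_algebraMap]
      unfold lambar
      rw [Ideal.Quotient.lift_mk]
      show lam₀ hdn w (MvPolynomial.C a) = _
      unfold lam₀
      rw [MvPolynomial.aeval_C]
      rfl
    · intro θ
      simp only [RingHom.comp_apply]
      unfold εbar
      rw [Ideal.Quotient.lift_mk]
      show lam hd hdn w (ε₀ hdn w (X θ)) = _
      unfold ε₀
      rw [MvPolynomial.aeval_X, map_mul, lam_algebraMap, lam_invSelf, lambar_mk_X, mul_assoc,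
        ← LaurentPolynomial.T_add]
      simp
  exact congrArg (fun ψ => ψ b) h

lemma εbar_injective (hd : 0 < d) (hdn : d < n) (w : Idx d n) :
    Function.Injective (εbar (K := K) hd hdn w) := by
  intro a b hab
  have := congrArg (lam hd hdn w) hab
  rw [lam_εbar, lam_εbar] at this
  have h2 := congrArg (fun p : (Bq K hdn w)[T;T⁻¹] => p.coeff 0) this
  simpa using h2

end Maps

section Props

open LaurentPolynomial

variable {K : Type u} [Field K] [Infinite K] {d n : ℕ}

lemma powers_xι_le (hd : 0 < d) (hdn : d < n) (w : Idx d n) :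
    haveI := isDomain_Aw K hd w
    Submonoid.powers (xι K hdn w) ≤ nonZeroDivisors (Aw K w) := by
  haveI := isDomain_Aw K hd w
  exact powers_le_nonZeroDivisors_of_noZeroDivisors (xι_ne_zero hdn w)

theorem isDomain_Aι (hd : 0 < d) (hdn : d < n) (w : Idx d n) : IsDomain (Aι K hdn w) := by
  haveI := isDomain_Aw K hd w
  exact IsLocalization.isDomain_localization (powers_xι_le hd hdn w)

theorem isIntegrallyClosed_Aι (hd : 0 < d) (hdn : d < n) (w : Idx d n) :
    IsIntegrallyClosed (Aι K hdn w) := by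
  haveI := isDomain_Aw K hd w
  haveI := isIntegrallyClosed_Aw (K := K) hd hdn w
  exact isIntegrallyClosed_of_isLocalization (Aι K hdn w) (Submonoid.powers (xι K hdn w))
    (powers_xι_le hd hdn w)

/-- the opposite cell of a Schubert variety is integral. -/
theorem isDomain_Bq (hd : 0 < d) (hdn : d < n) (w : Idx d n) : IsDomain (Bq K hdn w) := by
  haveI := isDomain_Aι (K := K) hd hdn w
  exact Function.Injective.isDomain (εbar (K := K) hd hdn w) (εbar_injective hd hdn w)

/-- the opposite cell of a Schubert variety is normal. -/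
theorem isIntegrallyClosed_Bq (hd : 0 < d) (hdn : d < n) (w : Idx d n) :
    IsIntegrallyClosed (Bq K hdn w) := by
  haveI := isDomain_Aι (K := K) hd hdn w
  haveI := isIntegrallyClosed_Aι (K := K) hd hdn w
  haveI := isDomain_Bq (K := K) hd hdn w
  let ρ : Aι K hdn w →+ Bq K hdn w :=
    { toFun := fun a => (lam hd hdn w a).coeff 0
      map_zero' := by
        show (lam hd hdn w 0).coeff 0 = 0
        rw [RingHom.map_zero, AddMonoidAlgebra.coeff_zero]
        rfl
      map_add' := fun a b => by
        show (lam hd hdn w (a + b)).coeff 0 = _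
        rw [RingHom.map_add, AddMonoidAlgebra.coeff_add]
        rfl }
  refine isIntegrallyClosed_of_retract (εbar (K := K) hd hdn w) (εbar_injective hd hdn w) ρ ?_ ?_
  · intro b a
    show (lam hd hdn w (εbar hd hdn w b * a)).coeff 0 = b * (lam hd hdn w a).coeff 0
    rw [map_mul, lam_εbar, ← LaurentPolynomial.single_eq_C, AddMonoidAlgebra.coeff_single_zero_mul]
  · show (lam hd hdn w 1).coeff 0 = 1
    rw [map_one, ← LaurentPolynomial.T_zero, LaurentPolynomial.T_apply, if_pos rfl]

lemma schubertVanishing_le_ker_constantCoeff (hd : 0 < d) (τ : Idx d n) :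
    schubertVanishing K d n τ ≤
      RingHom.ker (MvPolynomial.constantCoeff : PlRing K d n →+* K) := by
  haveI : Nonempty (Fin d) := ⟨⟨0, hd⟩⟩
  intro f hf
  unfold schubertVanishing at hf
  rw [Ideal.mem_iInf] at hf
  have h1 := hf 0
  rw [Ideal.mem_iInf] at h1
  have h2 := h1 (fun φ _ => by
    rw [Matrix.submatrix_zero]
    exact Matrix.det_zero)
  rw [RingHom.mem_ker] at h2 ⊢
  have h3 : (evalMinors K d n 0) f = MvPolynomial.aeval (0 : Idx d n → K) f := by
    unfold evalMinors
    congr 2
    funext θ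
    rw [Matrix.submatrix_zero]
    exact Matrix.det_zero
  have h4 : (evalMinors K d n 0) f = 0 := h2
  rw [h3, MvPolynomial.aeval_zero] at h4
  simpa using h4

lemma X_iota_sub_one_notMem (hd : 0 < d) (hdn : d < n) (w : Idx d n) :
    (X (iotaIdx hdn) - 1 : PlRing K d n) ∉ schubertVanishing K d n w := by
  intro h
  have h1 := schubertVanishing_le_ker_constantCoeff hd w h
  rw [RingHom.mem_ker, map_sub, MvPolynomial.constantCoeff_X, map_one] at h1
  norm_num at h1

/-- the opposite cell of a Schubert variety is Cohen–Macaulay. -/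
theorem isCMRing_Bq (hd : 0 < d) (hdn : d < n) (w : Idx d n) :
    LocCoh.IsCohenMacaulayRing (Bq K hdn w) := by
  haveI := schubertVanishing_isPrime K hd w
  refine isCMRing_quotient_sup_span (𝔞 := schubertVanishing K d n w) (y := X (iotaIdx hdn) - 1)
    (fun a ha => ?_) (fun P _ hP => ((CMc_main (K := K) hd hdn _ w rfl).1 P hP).1)
  rcases Ideal.IsPrime.mem_or_mem ‹_› ha with h1 | h1
  · exact absurd h1 (X_iota_sub_one_notMem hd hdn w)
  · exact h1

end Props

section Dim

variable {K : Type u} [Field K] [Infinite K] {d n : ℕ}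

lemma withBot_enat_cancel (x : WithBot ℕ∞) (c : ℕ)
    (h : x + 1 = ((c + 1 : ℕ) : WithBot ℕ∞)) : x = (c : WithBot ℕ∞) := by
  induction x using WithBot.recBotCoe with
  | bot =>
    exfalso
    rw [WithBot.bot_add] at h
    exact WithBot.bot_ne_coe (a := ((c + 1 : ℕ) : ℕ∞)) h
  | coe y =>
    have h1 : (y + 1 : ℕ∞) = ((c + 1 : ℕ) : ℕ∞) := by exact_mod_cast h
    induction y using ENat.recTopCoe with
    | top =>
      exfalso
      rw [top_add] at h1
      exact ENat.top_ne_natCast _ h1
    | coe m =>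
      have : m + 1 = c + 1 := by exact_mod_cast h1
      have : m = c := by omega
      rw [this]
      rfl

lemma codeg_iotaIdx (hdn : d < n) : codeg (iotaIdx hdn) = 0 := by
  unfold codeg
  refine Finset.sum_eq_zero (fun t _ => ?_)
  simp [iotaIdx]

/-- the codimension of the vertex of the cone, via a saturated chain of Schubert varieties. -/
theorem cτ_iota (hd : 0 < d) (hdn : d < n) :
    ∀ (N : ℕ) (τ : Idx d n), codeg τ = N → cτ K (iotaIdx hdn) = cτ K τ + codeg τ := by
  intro N
  induction N using Nat.strong_induction_on with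
  | _ N IH =>
    intro τ hτN
    by_cases hτ : τ = iotaIdx hdn
    · rw [hτ, codeg_iotaIdx, add_zero]
    · have hlt : iotaIdx hdn < τ := lt_of_le_of_ne (iotaIdx_le hdn τ) (Ne.symm hτ)
      obtain ⟨ψ, hψ, -⟩ := Groth.Agent.S11268.result d n _ τ hlt
      have h1 := IH (codeg ψ) (by rw [← hτN]; exact codeg_lt_of_lt hψ.1) ψ rfl
      have h2 := cτ_divisor (K := K) hd hψ
      have h3 := hψ.2
      rw [h1, h2]
      omega

/-- the dimension of the opposite cell of a Schubert variety. -/
theorem ringKrullDim_Bq (hd : 0 < d) (hdn : d < n) (w : Idx d n) :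
    ringKrullDim (Bq K hdn w) = ((codeg w : ℕ) : WithBot ℕ∞) := by
  classical
  haveI := isDomain_Aw K hd w
  haveI hJw := schubertVanishing_isPrime K hd w
  haveI hJι := schubertVanishing_isPrime K hd (iotaIdx hdn)
  haveI := isDomain_Bq (K := K) hd hdn (iotaIdx hdn)
  -- a maximal ideal through the point `e_ι`
  have hne : Qw K hdn (iotaIdx hdn) ≠ ⊤ := by
    intro h
    have : Subsingleton (Bq K hdn (iotaIdx hdn)) := Ideal.Quotient.subsingleton_iff.2 h
    exact not_subsingleton _ this
  obtain ⟨P₁, hP₁max, hP₁le⟩ := Ideal.exists_le_maximal _ hne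
  haveI hP₁ : P₁.IsPrime := hP₁max.isPrime
  have hJιle : schubertVanishing K d n (iotaIdx hdn) ≤ P₁ := le_sup_left.trans hP₁le
  have hy : (X (iotaIdx hdn) - 1 : PlRing K d n) ∈ P₁ :=
    hP₁le (Ideal.mem_sup_right (Ideal.subset_span rfl))
  have hJιlt : schubertVanishing K d n (iotaIdx hdn) < P₁ := by
    refine lt_of_le_of_ne hJιle (fun h => ?_)
    rw [← h] at hy
    exact X_iota_sub_one_notMem hd hdn _ hy
  have hJwle : schubertVanishing K d n w ≤ P₁ :=
    (schubertVanishing_anti (iotaIdx_le hdn w)).trans hJιle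
  have hht1 := Ideal.height_add_one_le_of_lt_of_isPrime hJιlt
  -- the image in the coordinate ring
  haveI hq := map_mk_isPrime (schubertVanishing K d n w) P₁ hJwle
  have hcomap := comap_map_mk_eq (schubertVanishing K d n w) P₁ hJwle
  set q := P₁.map (Ideal.Quotient.mk (schubertVanishing K d n w)) with hqdef
  obtain ⟨e, he1, he2⟩ := exists_dimAt_of_prime (fun P _ => hS_PlRing K P)
    (schubertVanishing K d n w) P₁ hJwle
  have he3 := dimAt_eq_height (schubertVanishing K d n w) q P₁ hcomap.symm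
  have hqe : q.height = (e : ℕ∞) := by
    rw [he1] at he3
    exact_mod_cast he3.symm
  have hcι : ((cτ K (iotaIdx hdn) : ℕ) : ℕ∞) = (schubertVanishing K d n (iotaIdx hdn)).height :=
    ENat.coe_toNat Ideal.height_ne_top_of_isPrime
  have hchain := cτ_iota (K := K) hd hdn _ w rfl
  have hge : codeg w + 1 ≤ e := by
    have he2' : ((e + cτ K w : ℕ) : ℕ∞) = P₁.height := he2
    have h1 : ((cτ K (iotaIdx hdn) + 1 : ℕ) : ℕ∞) ≤ ((e + cτ K w : ℕ) : ℕ∞) := by
      rw [he2']
      push_cast
      rw [hcι]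
      exact hht1
    have h2 : cτ K (iotaIdx hdn) + 1 ≤ e + cτ K w := by exact_mod_cast h1
    omega
  have hdimA := ringKrullDim_Aw K hd w
  have hqle : (q.height : WithBot ℕ∞) ≤ ringKrullDim (Aw K w) :=
    Ideal.height_le_ringKrullDim_of_ne_top hq.ne_top
  have hqeq : (q.height : WithBot ℕ∞) = ringKrullDim (Aw K w) := by
    apply le_antisymm hqle
    rw [hdimA, hqe]
    exact_mod_cast hge
  -- the hyperplane section
  set r : Aw K w := Ideal.Quotient.mk _ (X (iotaIdx hdn) - 1) with hr
  have hr0 : r ≠ 0 := by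
    intro h
    exact X_iota_sub_one_notMem hd hdn w (Ideal.Quotient.eq_zero_iff_mem.1 h)
  have hrq : r ∈ q := Ideal.mem_map_of_mem _ hy
  have hdim := Module.ringKrullDim_quotient_add_one_of_mem_nonZeroDivisors
    (mem_nonZeroDivisors_of_ne_zero hr0) hqeq hrq
  have hmap : (Ideal.span {(X (iotaIdx hdn) - 1 : PlRing K d n)}).map
      (Ideal.Quotient.mk (schubertVanishing K d n w)) = Ideal.span {r} := by
    rw [Ideal.map_span, Set.image_singleton]
  have e1 := DoubleQuot.quotQuotEquivQuotSup (schubertVanishing K d n w)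
    (Ideal.span {(X (iotaIdx hdn) - 1 : PlRing K d n)})
  rw [hmap] at e1
  have hdimB : ringKrullDim (Bq K hdn w) = ringKrullDim (Aw K w ⧸ Ideal.span {r}) :=
    (ringKrullDim_eq_of_ringEquiv e1).symm
  rw [hdimB]
  apply withBot_enat_cancel
  rw [hdim, hdimA]

end Dim

section Determinantal

variable {K : Type u} [Field K] [Infinite K] {m n : ℕ}

lemma sum_ite_range (n t a b : ℕ) (ht : 1 ≤ t) (htn : t ≤ n) :
    ∑ i ∈ Finset.range n, (if i + t ≤ n then a else b) = (n - t + 1) * a + (t - 1) * b := by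
  obtain ⟨c, rfl⟩ : ∃ c, n = (c + 1) + (t - 1) := ⟨n - t, by omega⟩
  rw [Finset.sum_range_add]
  have h1 : ∑ x ∈ Finset.range (c + 1), (if x + t ≤ c + 1 + (t - 1) then a else b) =
      ∑ x ∈ Finset.range (c + 1), a := by
    refine Finset.sum_congr rfl (fun x hx => ?_)
    rw [Finset.mem_range] at hx
    rw [if_pos (by omega)]
  have h2 : ∑ x ∈ Finset.range (t - 1), (if c + 1 + x + t ≤ c + 1 + (t - 1) then a else b) =
      ∑ x ∈ Finset.range (t - 1), b := by
    refine Finset.sum_congr rfl (fun x hx => ?_)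
    rw [if_neg (by omega)]
  rw [h1, h2, Finset.sum_const, Finset.sum_const, Finset.card_range, Finset.card_range,
    smul_eq_mul, smul_eq_mul]
  have : c + 1 + (t - 1) - t + 1 = c + 1 := by omega
  rw [this]

theorem codeg_wIdx (t : ℕ) (ht : 1 ≤ t) (htm : t ≤ m + 1) (htn : t ≤ n) :
    codeg (wIdx m n t ht htm) = (t - 1) * (m + n - t + 1) := by
  unfold codeg
  have h1 : ∀ i : Fin n, (((wIdx m n t ht htm).1 i).val - i.val) =
      (fun j : ℕ => if j + t ≤ n then t - 1 else m) i.val := by
    intro i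
    unfold wIdx
    simp only
    split_ifs with h
    · simp only
      omega
    · simp only
      omega
  rw [Finset.sum_congr rfl (fun i _ => h1 i),
    Fin.sum_univ_eq_sum_range (fun j : ℕ => if j + t ≤ n then t - 1 else m) n,
    sum_ite_range n t (t - 1) m ht htn]
  have : m + n - t + 1 = m + (n - t + 1) := by omega
  rw [this]
  ring

/-- the coordinate ring of the determinantal variety is the coordinate ring of the opposite cell
of a Schubert variety. -/
noncomputable def detEquiv (hm : 0 < m) (hn : 0 < n) (t : ℕ) (ht : 1 ≤ t) (htm : t ≤ m + 1) :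
    Bq K (show n < n + m by omega) (wIdx m n t ht htm) ≃+*
      (MvPolynomial (Fin m × Fin n) K ⧸ CAlgX.minorIdeal (genMatrix K m n) t) := by
  set f : PlRing K n (n + m) →+*
      (MvPolynomial (Fin m × Fin n) K ⧸ CAlgX.minorIdeal (genMatrix K m n) t) :=
    (Ideal.Quotient.mk _).comp (Θc K m n).toRingHom with hf
  have hsurj : Function.Surjective f :=
    Ideal.Quotient.mk_surjective.comp (Θc_surjective (K := K))
  have hker : Qw K (show n < n + m by omega) (wIdx m n t ht htm) = RingHom.ker f := by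
    ext g
    rw [RingHom.mem_ker]
    constructor
    · intro hg
      exact Ideal.Quotient.eq_zero_iff_mem.2 (Θc_mem_minorIdeal hm hn t ht htm g hg)
    · intro hg
      exact mem_Qw_of_Θc_mem hm t ht htm g (Ideal.Quotient.eq_zero_iff_mem.1 hg)
  exact (Ideal.quotEquivOfEq hker).trans (RingHom.quotientKerEquivOfSurjective hsurj)

/-- **determinantal varieties** are integral, normal, Cohen–Macaulay, of the expected dimension. -/
theorem determinantal (hm : 0 < m) (hn : 0 < n) (t : ℕ) (ht : 1 ≤ t) (htm : t ≤ m) (htn : t ≤ n) :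
    IsDomain (MvPolynomial (Fin m × Fin n) K ⧸ CAlgX.minorIdeal (genMatrix K m n) t) ∧
      IsIntegrallyClosed (MvPolynomial (Fin m × Fin n) K ⧸ CAlgX.minorIdeal (genMatrix K m n) t) ∧
      LocCoh.IsCohenMacaulayRing
        (MvPolynomial (Fin m × Fin n) K ⧸ CAlgX.minorIdeal (genMatrix K m n) t) ∧
      ringKrullDim (MvPolynomial (Fin m × Fin n) K ⧸ CAlgX.minorIdeal (genMatrix K m n) t) =
        (((t - 1) * (m + n - t + 1) : ℕ) : WithBot ℕ∞) := by
  have htm' : t ≤ m + 1 := by omega
  have hdn : n < n + m := by omega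
  have e := detEquiv (K := K) hm hn t ht htm'
  haveI := isDomain_Bq (K := K) hn hdn (wIdx m n t ht htm')
  haveI := isIntegrallyClosed_Bq (K := K) hn hdn (wIdx m n t ht htm')
  haveI := isCMRing_Bq (K := K) hn hdn (wIdx m n t ht htm')
  haveI hdom : IsDomain (MvPolynomial (Fin m × Fin n) K ⧸ CAlgX.minorIdeal (genMatrix K m n) t) :=
    e.symm.toMulEquiv.isDomain _
  refine ⟨hdom, ?_, isCMRing_of_ringEquiv e, ?_⟩
  · exact IsIntegrallyClosed.of_equiv e
  · rw [← ringKrullDim_eq_of_ringEquiv e, ringKrullDim_Bq hn hdn, codeg_wIdx t ht htm' htn]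

end Determinantal

end Groth.Agent.Lib.Helper22.Grass
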