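import Mathlib
import Groth.Agent.Lib.Helper22.GrassDet

/-!
# Dehomogenization of an ideal generated by homogeneous polynomials: radicality
-/

set_option autoImplicit false

namespace Groth.Agent.Lib.Helper22.Dehom

open MvPolynomial Groth.Agent.Lib.Helper22.CMG Groth.Agent.Lib.Helper22.Grass

universe u

variable {K : Type u} [Field K] {σ : Type} (G : Set (MvPolynomial σ K)) (i₀ : σ)

/-- the homogeneous coordinate ring. -/
abbrev AG : Type u := MvPolynomial σ K ⧸ Ideal.span G

/-- the dehomogenized ideal. -/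
noncomputable def cI : Ideal (MvPolynomial σ K) := Ideal.span G ⊔ Ideal.span {X i₀ - 1}

/-- the dehomogenized coordinate ring. -/
abbrev BG : Type u := MvPolynomial σ K ⧸ cI G i₀

/-- the class of the distinguished variable. -/
noncomputable def xG : AG G := Ideal.Quotient.mk _ (X i₀)

abbrev AxG : Type u := Localization.Away (xG G i₀)

lemma mk_cI_X : Ideal.Quotient.mk (cI G i₀) (X i₀) = 1 := by
  rw [← sub_eq_zero, ← map_one (Ideal.Quotient.mk (cI G i₀)), ← map_sub,
    Ideal.Quotient.eq_zero_iff_mem]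
  exact Ideal.mem_sup_right (Ideal.subset_span rfl)

noncomputable def ε₀ : MvPolynomial σ K →ₐ[K] AxG G i₀ :=
  MvPolynomial.aeval (fun θ : σ =>
    algebraMap (AG G) (AxG G i₀) (Ideal.Quotient.mk _ (X θ)) *
      IsLocalization.Away.invSelf (xG G i₀))

lemma aeval_algebraMap_mk (f : MvPolynomial σ K) :
    MvPolynomial.aeval (fun θ : σ =>
      algebraMap (AG G) (AxG G i₀) (Ideal.Quotient.mk _ (X θ))) f =
      algebraMap (AG G) (AxG G i₀) (Ideal.Quotient.mk _ f) := by
  induction f using MvPolynomial.induction_on with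
  | C a =>
    rw [MvPolynomial.aeval_C]
    rfl
  | add p q hp hq => rw [map_add, hp, hq, map_add, map_add]
  | mul_X p θ hp => rw [map_mul, hp, MvPolynomial.aeval_X, map_mul, map_mul]

variable {G}

lemma ε₀_eq_zero (hG : ∀ f ∈ G, ∃ k, f.IsHomogeneous k) (f : MvPolynomial σ K)
    (hf : f ∈ cI G i₀) : ε₀ G i₀ f = 0 := by
  have hle : cI G i₀ ≤ RingHom.ker (ε₀ G i₀).toRingHom := by
    unfold cI
    refine sup_le ?_ ?_
    · intro f hf
      rw [RingHom.mem_ker]
      show ε₀ G i₀ f = 0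
      refine aeval_mul_eq_zero_of_mem_span _ _ _ hG (fun g hg => ?_) hf
      rw [aeval_algebraMap_mk]
      rw [Ideal.Quotient.eq_zero_iff_mem.2 (Ideal.subset_span hg), map_zero]
    · rw [Ideal.span_le, Set.singleton_subset_iff, SetLike.mem_coe, RingHom.mem_ker]
      show ε₀ G i₀ (X i₀ - 1) = 0
      unfold ε₀
      rw [map_sub, MvPolynomial.aeval_X, map_one]
      have := IsLocalization.Away.mul_invSelf (S := AxG G i₀) (xG G i₀)
      rw [sub_eq_zero]
      exact this
  exact hle hf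

noncomputable def εbar (hG : ∀ f ∈ G, ∃ k, f.IsHomogeneous k) : BG G i₀ →+* AxG G i₀ :=
  Ideal.Quotient.lift (cI G i₀) (ε₀ G i₀).toRingHom (ε₀_eq_zero i₀ hG)

open LaurentPolynomial in
noncomputable def lam₀ : MvPolynomial σ K →ₐ[K] (BG G i₀)[T;T⁻¹] :=
  MvPolynomial.aeval (fun θ : σ =>
    (LaurentPolynomial.C (Ideal.Quotient.mk (cI G i₀) (X θ)) : (BG G i₀)[T;T⁻¹]) *
      LaurentPolynomial.T 1)

open LaurentPolynomial in
lemma aeval_C_mk (f : MvPolynomial σ K) :
    MvPolynomial.aeval (fun θ : σ =>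
      (LaurentPolynomial.C (Ideal.Quotient.mk (cI G i₀) (X θ)) : (BG G i₀)[T;T⁻¹])) f =
      LaurentPolynomial.C (Ideal.Quotient.mk (cI G i₀) f) := by
  induction f using MvPolynomial.induction_on with
  | C a =>
    rw [MvPolynomial.aeval_C, LaurentPolynomial.algebraMap_apply]
    rfl
  | add p q hp hq => rw [map_add, hp, hq, map_add, map_add]
  | mul_X p θ hp => rw [map_mul, hp, MvPolynomial.aeval_X, map_mul, map_mul]

open LaurentPolynomial in
lemma lam₀_eq_zero (hG : ∀ f ∈ G, ∃ k, f.IsHomogeneous k) (f : MvPolynomial σ K)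
    (hf : f ∈ Ideal.span G) : lam₀ (G := G) i₀ f = 0 := by
  unfold lam₀
  refine aeval_mul_eq_zero_of_mem_span (A' := (BG G i₀)[T;T⁻¹])
    (fun θ : σ => LaurentPolynomial.C (Ideal.Quotient.mk (cI G i₀) (X θ)))
    (LaurentPolynomial.T 1) _ hG (fun g hg => ?_) hf
  rw [aeval_C_mk]
  have : g ∈ cI G i₀ := Ideal.mem_sup_left (Ideal.subset_span hg)
  rw [Ideal.Quotient.eq_zero_iff_mem.2 this, map_zero]

open LaurentPolynomial in
noncomputable def lambar (hG : ∀ f ∈ G, ∃ k, f.IsHomogeneous k) :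
    AG G →+* (BG G i₀)[T;T⁻¹] :=
  Ideal.Quotient.lift (Ideal.span G) (lam₀ (G := G) i₀).toRingHom (lam₀_eq_zero i₀ hG)

open LaurentPolynomial in
lemma lambar_mk_X (hG : ∀ f ∈ G, ∃ k, f.IsHomogeneous k) (θ : σ) :
    lambar i₀ hG (Ideal.Quotient.mk _ (X θ)) =
      (LaurentPolynomial.C (Ideal.Quotient.mk (cI G i₀) (X θ)) : (BG G i₀)[T;T⁻¹]) *
        LaurentPolynomial.T 1 := by
  unfold lambar
  rw [Ideal.Quotient.lift_mk]
  show lam₀ i₀ (X θ) = _
  unfold lam₀
  rw [MvPolynomial.aeval_X]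

open LaurentPolynomial in
lemma lambar_xG (hG : ∀ f ∈ G, ∃ k, f.IsHomogeneous k) :
    lambar i₀ hG (xG G i₀) = LaurentPolynomial.T 1 := by
  unfold xG
  rw [lambar_mk_X, mk_cI_X, map_one, one_mul]

open LaurentPolynomial in
lemma isUnit_lambar_xG (hG : ∀ f ∈ G, ∃ k, f.IsHomogeneous k) :
    IsUnit (lambar i₀ hG (xG G i₀)) := by
  rw [lambar_xG]
  exact LaurentPolynomial.isUnit_T 1

open LaurentPolynomial in
noncomputable def lam (hG : ∀ f ∈ G, ∃ k, f.IsHomogeneous k) :
    AxG G i₀ →+* (BG G i₀)[T;T⁻¹] :=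
  IsLocalization.Away.lift (S := AxG G i₀) (P := (BG G i₀)[T;T⁻¹]) (xG G i₀)
    (g := lambar i₀ hG) (isUnit_lambar_xG i₀ hG)

lemma lam_algebraMap (hG : ∀ f ∈ G, ∃ k, f.IsHomogeneous k) (a : AG G) :
    lam i₀ hG (algebraMap _ _ a) = lambar i₀ hG a := by
  unfold lam
  rw [IsLocalization.Away.lift_eq]

open LaurentPolynomial in
lemma lam_invSelf (hG : ∀ f ∈ G, ∃ k, f.IsHomogeneous k) :
    lam i₀ hG (IsLocalization.Away.invSelf (xG G i₀)) =
      (LaurentPolynomial.T (-1) : (BG G i₀)[T;T⁻¹]) := by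
  have h1 := IsLocalization.Away.mul_invSelf (S := AxG G i₀) (xG G i₀)
  have h2 := congrArg (lam i₀ hG) h1
  rw [map_mul, lam_algebraMap, lambar_xG, map_one] at h2
  calc lam i₀ hG (IsLocalization.Away.invSelf (xG G i₀))
      = LaurentPolynomial.T (-1) * (LaurentPolynomial.T 1 *
          lam i₀ hG (IsLocalization.Away.invSelf (xG G i₀))) := by
        rw [← mul_assoc, ← LaurentPolynomial.T_add]
        simp
    _ = LaurentPolynomial.T (-1) := by rw [h2, mul_one]

open LaurentPolynomial in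
theorem lam_εbar (hG : ∀ f ∈ G, ∃ k, f.IsHomogeneous k) (b : BG G i₀) :
    lam i₀ hG (εbar i₀ hG b) = LaurentPolynomial.C b := by
  have h : (lam i₀ hG).comp (εbar i₀ hG) =
      (LaurentPolynomial.C : BG G i₀ →+* (BG G i₀)[T;T⁻¹]) := by
    apply Ideal.Quotient.ringHom_ext
    apply MvPolynomial.ringHom_ext
    · intro a
      simp only [RingHom.comp_apply]
      unfold εbar
      rw [Ideal.Quotient.lift_mk]
      show lam i₀ hG (ε₀ G i₀ (MvPolynomial.C a)) = _
      have h1 : ε₀ G i₀ (MvPolynomial.C a) = algebraMap (AG G) (AxG G i₀)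
          (Ideal.Quotient.mk _ (MvPolynomial.C a)) := by
        unfold ε₀
        rw [MvPolynomial.aeval_C]
        rfl
      rw [h1, lam_algebraMap]
      unfold lambar
      rw [Ideal.Quotient.lift_mk]
      show lam₀ i₀ (MvPolynomial.C a) = _
      unfold lam₀
      rw [MvPolynomial.aeval_C]
      rfl
    · intro θ
      simp only [RingHom.comp_apply]
      unfold εbar
      rw [Ideal.Quotient.lift_mk]
      show lam i₀ hG (ε₀ G i₀ (X θ)) = _
      unfold ε₀
      rw [MvPolynomial.aeval_X, map_mul, lam_algebraMap, lam_invSelf, lambar_mk_X, mul_assoc,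
        ← LaurentPolynomial.T_add]
      simp
  exact congrArg (fun ψ => ψ b) h

lemma εbar_injective (hG : ∀ f ∈ G, ∃ k, f.IsHomogeneous k) :
    Function.Injective (εbar (G := G) i₀ hG) := by
  intro a b hab
  have := congrArg (lam i₀ hG) hab
  rw [lam_εbar, lam_εbar] at this
  have h2 := congrArg (fun p : LaurentPolynomial (BG G i₀) => p.coeff 0) this
  simpa using h2

/-- the dehomogenization of a radical ideal generated by homogeneous elements is radical. -/
theorem isRadical_cI (hG : ∀ f ∈ G, ∃ k, f.IsHomogeneous k) (hrad : (Ideal.span G).IsRadical) :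
    (cI G i₀).IsRadical := by
  rw [Ideal.isRadical_iff_quotient_reduced] at hrad ⊢
  haveI : IsReduced (AG G) := hrad
  haveI : IsReduced (AxG G i₀) := inferInstance
  exact isReduced_of_injective (εbar (G := G) i₀ hG) (εbar_injective i₀ hG)

end Groth.Agent.Lib.Helper22.Dehom
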