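import Mathlib
import Groth.Prelude.Def_CAlgX
import Groth.Agent.Lib.Helper12.DimFT
import Groth.Agent.Lib.Helper12.DimFT2

/-!
# Dimension of the generic determinantal variety, upper bound (helper22)

If `D` is a domain generated over `k` by the entries of an `n × m` matrix `Z` all of whose
`(r+1)`-minors vanish, then `dim D ≤ r (m + n - r)`.  The proof expands an `(r+1)`-minor along its
last row: every entry is rational over the entries in a "hook" (rows and columns of a nonvanishing
`r`-minor).
-/

set_option autoImplicit false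

universe u

namespace Groth.Agent.Lib.Helper22.DetDim

variable {k : Type u} [Field k] {n m r : ℕ}

section Hook

variable {D : Type u} [CommRing D] [Algebra k D] (Z : Matrix (Fin n) (Fin m) D)
  (f : Fin r → Fin n) (g : Fin r → Fin m)

/-- index type of the hook: the rows `f a` and, for the other rows, the columns `g b`. -/
abbrev Idx (f : Fin r → Fin n) (m : ℕ) := (Fin r × Fin m) ⊕ ({i : Fin n // i ∉ Set.range f} × Fin r)

/-- the entries of the hook. -/
def tau : Idx f m → D := Sum.elim (fun p => Z (f p.1) p.2) (fun p => Z p.1.1 (g p.2))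

variable (k) in
/-- the subalgebra generated by the hook. -/
def Hk : Subalgebra k D := Algebra.adjoin k (Set.range (tau Z f g))

lemma row_mem (a : Fin r) (j : Fin m) : Z (f a) j ∈ Hk k Z f g :=
  Algebra.subset_adjoin ⟨Sum.inl (a, j), rfl⟩

lemma col_mem (i : Fin n) (b : Fin r) : Z i (g b) ∈ Hk k Z f g := by
  by_cases h : i ∈ Set.range f
  · obtain ⟨a, rfl⟩ := h
    exact row_mem Z f g a (g b)
  · exact Algebra.subset_adjoin ⟨Sum.inr (⟨i, h⟩, b), rfl⟩

lemma det_mem_subalgebra {ι : Type*} [Fintype ι] [DecidableEq ι] (S : Subalgebra k D)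
    (M : Matrix ι ι D) (h : ∀ a b, M a b ∈ S) : M.det ∈ S := by
  rw [Matrix.det_apply]
  refine Subalgebra.sum_mem _ fun σ _ => ?_
  rw [Units.smul_def]
  exact S.zsmul_mem (S.prod_mem fun i _ => h _ _) _

lemma minor_mem : (Z.submatrix f g).det ∈ Hk k Z f g :=
  det_mem_subalgebra _ _ fun a b => row_mem Z f g a (g b)

lemma hook_expansion (i : Fin n) (j : Fin m) :
    (Z.submatrix (Fin.snoc f i : Fin (r + 1) → Fin n) (Fin.snoc g j : Fin (r + 1) → Fin m)).det -
      Z i j * (Z.submatrix f g).det ∈ Hk k Z f g := by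
  rw [Matrix.det_succ_row _ (Fin.last r), Fin.sum_univ_castSucc]
  have hlast : (-1 : D) ^ ((Fin.last r : ℕ) + (Fin.last r : ℕ)) *
      (Z.submatrix (Fin.snoc f i : Fin (r + 1) → Fin n) (Fin.snoc g j : Fin (r + 1) → Fin m))
        (Fin.last r) (Fin.last r) *
      ((Z.submatrix (Fin.snoc f i : Fin (r + 1) → Fin n)
        (Fin.snoc g j : Fin (r + 1) → Fin m)).submatrix
        (Fin.last r).succAbove (Fin.last r).succAbove).det = Z i j * (Z.submatrix f g).det := by
    have h1 : (-1 : D) ^ ((Fin.last r : ℕ) + (Fin.last r : ℕ)) = 1 :=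
      Even.neg_one_pow ⟨_, rfl⟩
    rw [h1, one_mul]
    congr 1
    · simp
    · congr 1
      ext a b
      simp [Fin.succAbove_last]
  rw [hlast, add_sub_cancel_right]
  refine Subalgebra.sum_mem _ fun c _ => ?_
  refine Subalgebra.mul_mem _ (Subalgebra.mul_mem _ ?_ ?_) ?_
  · exact Subalgebra.pow_mem _ (Subalgebra.neg_mem _ (Subalgebra.one_mem _)) _
  · have : (Z.submatrix (Fin.snoc f i : Fin (r + 1) → Fin n)
        (Fin.snoc g j : Fin (r + 1) → Fin m)) (Fin.last r) (Fin.castSucc c) = Z i (g c) := by
      simp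
    rw [this]
    exact col_mem Z f g i c
  · refine det_mem_subalgebra _ _ fun a b => ?_
    have : ((Z.submatrix (Fin.snoc f i : Fin (r + 1) → Fin n)
        (Fin.snoc g j : Fin (r + 1) → Fin m)).submatrix
        (Fin.last r).succAbove (Fin.castSucc c).succAbove) a b =
        Z (f a) ((Fin.snoc g j : Fin (r + 1) → Fin m) ((Fin.castSucc c).succAbove b)) := by
      simp [Fin.succAbove_last]
    rw [this]
    exact row_mem Z f g a _

end Hook

section Upper

open MvPolynomial Cardinal

variable {D : Type u} [CommRing D] [IsDomain D] [Algebra k D]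

lemma isAlgebraic_of_linear (S : Subalgebra k D) (a b : S) (ha : a ≠ 0) (y : D)
    (h : (a : D) * y = b) : IsAlgebraic S y := by
  refine ⟨Polynomial.C a * Polynomial.X - Polynomial.C b, ?_, ?_⟩
  · intro h0
    have := congrArg (fun q => Polynomial.coeff q 1) h0
    simp at this
    exact ha this
  · rw [map_sub, map_mul, Polynomial.aeval_C, Polynomial.aeval_C, Polynomial.aeval_X]
    change (a : D) * y - (b : D) = 0
    rw [h, sub_self]

variable (Z : Matrix (Fin n) (Fin m) D) (f : Fin r → Fin n) (g : Fin r → Fin m)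

lemma isAlgebraic_entry
    (hminors : ∀ (f' : Fin (r + 1) → Fin n) (g' : Fin (r + 1) → Fin m),
      (Z.submatrix f' g').det = 0)
    (hδ : (Z.submatrix f g).det ≠ 0) (i : Fin n) (j : Fin m) :
    IsAlgebraic (Hk k Z f g) (Z i j) := by
  have h1 := hook_expansion (k := k) Z f g i j
  rw [hminors, zero_sub] at h1
  have h2 : Z i j * (Z.submatrix f g).det ∈ Hk k Z f g := by
    have := Subalgebra.neg_mem _ h1
    rwa [neg_neg] at this
  refine isAlgebraic_of_linear (Hk k Z f g) ⟨_, minor_mem Z f g⟩ ⟨_, h2⟩ ?_ (Z i j) ?_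
  · intro h0
    exact hδ (congrArg Subtype.val h0)
  · exact mul_comm _ _

lemma injective_of_minor_ne_zero (hδ : (Z.submatrix f g).det ≠ 0) : Function.Injective f := by
  intro a a' h
  by_contra hne
  apply hδ
  refine Matrix.det_zero_of_row_eq hne ?_
  ext b
  simp [h]

lemma card_idx (hf : Function.Injective f) :
    Fintype.card (Idx f m) = r * m + (n - r) * r := by
  classical
  have h1 : Fintype.card {i : Fin n // i ∉ Set.range f} = n - r := by
    rw [Fintype.card_subtype_compl (fun i => i ∈ Set.range f)]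
    have : Fintype.card {i : Fin n // i ∈ Set.range f} = r := by
      rw [Fintype.card_congr (Equiv.ofInjective f hf).symm, Fintype.card_fin]
    rw [this, Fintype.card_fin]
  rw [Fintype.card_sum, Fintype.card_prod, Fintype.card_prod, h1, Fintype.card_fin,
    Fintype.card_fin]

theorem isAlgebraic_of_surjective (π : MvPolynomial (Fin n × Fin m) k →ₐ[k] D)
    (hπ : Function.Surjective π)
    (hminors : ∀ (f' : Fin (r + 1) → Fin n) (g' : Fin (r + 1) → Fin m),
      ((Matrix.of fun i j => π (X (i, j))).submatrix f' g').det = 0)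
    (hδ : ((Matrix.of fun i j => π (X (i, j))).submatrix f g).det ≠ 0) :
    Algebra.IsAlgebraic (Hk k (Matrix.of fun i j => π (X (i, j))) f g) D := by
  constructor
  intro d
  obtain ⟨p, rfl⟩ := hπ d
  induction p using MvPolynomial.induction_on with
  | C c =>
    have : π (C c) = algebraMap (Hk k (Matrix.of fun i j => π (X (i, j))) f g) D
        (algebraMap k (Hk k (Matrix.of fun i j => π (X (i, j))) f g) c) := by
      rw [← IsScalarTower.algebraMap_apply]
      exact π.commutes c
    rw [this]
    exact isAlgebraic_algebraMap _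
  | add p q hp hq =>
    rw [map_add]
    exact hp.add hq
  | mul_X p v hp =>
    rw [map_mul]
    exact hp.mul (isAlgebraic_entry (Matrix.of fun i j => π (X (i, j))) f g hminors hδ v.1 v.2)

theorem trdeg_le (π : MvPolynomial (Fin n × Fin m) k →ₐ[k] D)
    (hπ : Function.Surjective π)
    (hminors : ∀ (f' : Fin (r + 1) → Fin n) (g' : Fin (r + 1) → Fin m),
      ((Matrix.of fun i j => π (X (i, j))).submatrix f' g').det = 0)
    (hδ : ((Matrix.of fun i j => π (X (i, j))).submatrix f g).det ≠ 0) :
    Algebra.trdeg k D ≤ ((r * m + (n - r) * r : ℕ) : Cardinal.{u}) := by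
  have halg : Algebra.IsAlgebraic
      (Algebra.adjoin k (Set.range (tau (Matrix.of fun i j => π (X (i, j))) f g))) D :=
    isAlgebraic_of_surjective f g π hπ hminors hδ
  have h1 := Algebra.IsAlgebraic.trdeg_le_cardinalMk k
    (Set.range (tau (Matrix.of fun i j => π (X (i, j))) f g))
  refine h1.trans ?_
  have h2 := Cardinal.mk_range_le_lift (f := tau (Matrix.of fun i j => π (X (i, j))) f g)
  rw [Cardinal.lift_uzero, Cardinal.mk_fintype (Idx f m),
    card_idx f (injective_of_minor_ne_zero _ f g hδ), Cardinal.lift_natCast] at h2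
  exact h2

theorem dim_le_of_minor_ne_zero (π : MvPolynomial (Fin n × Fin m) k →ₐ[k] D)
    (hπ : Function.Surjective π)
    (hminors : ∀ (f' : Fin (r + 1) → Fin n) (g' : Fin (r + 1) → Fin m),
      ((Matrix.of fun i j => π (X (i, j))).submatrix f' g').det = 0)
    (hδ : ((Matrix.of fun i j => π (X (i, j))).submatrix f g).det ≠ 0) :
    ringKrullDim D ≤ ((r * m + (n - r) * r : ℕ) : WithBot ℕ∞) := by
  have : Algebra.FiniteType k D := Algebra.FiniteType.of_surjective π hπ
  obtain ⟨s, hs1, hs2, -⟩ := Groth.Agent.Lib.Helper12.DimFT.exists_dim_eq_trdeg k D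
  have h := trdeg_le f g π hπ hminors hδ
  rw [hs2] at h
  rw [hs1]
  have : s ≤ r * m + (n - r) * r := by exact_mod_cast h
  exact_mod_cast this

theorem dim_le : ∀ (r : ℕ), r ≤ n → r ≤ m → ∀ (D : Type u) [CommRing D] [IsDomain D] [Algebra k D]
    (π : MvPolynomial (Fin n × Fin m) k →ₐ[k] D), Function.Surjective π →
    (∀ (f' : Fin (r + 1) → Fin n) (g' : Fin (r + 1) → Fin m),
      ((Matrix.of fun i j => π (X (i, j))).submatrix f' g').det = 0) →
    ringKrullDim D ≤ ((r * (m + n - r) : ℕ) : WithBot ℕ∞) := by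
  intro r
  induction r with
  | zero =>
    intro _ _ D _ _ _ π hπ hminors
    have hδ : ((Matrix.of fun i j => π (X (i, j))).submatrix (Fin.elim0 : Fin 0 → Fin n)
        (Fin.elim0 : Fin 0 → Fin m)).det ≠ 0 := by
      rw [Matrix.det_fin_zero]; exact one_ne_zero
    have := dim_le_of_minor_ne_zero _ _ π hπ hminors hδ
    simpa using this
  | succ r ih =>
    intro hrn hrm D _ _ _ π hπ hminors
    by_cases h : ∃ (f : Fin (r + 1) → Fin n) (g : Fin (r + 1) → Fin m),
        ((Matrix.of fun i j => π (X (i, j))).submatrix f g).det ≠ 0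
    · obtain ⟨f, g, hδ⟩ := h
      have := dim_le_of_minor_ne_zero f g π hπ hminors hδ
      refine this.trans (le_of_eq ?_)
      obtain ⟨q, rfl⟩ := Nat.exists_eq_add_of_le hrn
      have h1 : r + 1 + q - (r + 1) = q := by omega
      have h2 : m + (r + 1 + q) - (r + 1) = m + q := by omega
      rw [h1, h2]
      congr 1
      ring
    · push Not at h
      have := ih (by omega) (by omega) D π hπ h
      refine this.trans ?_
      have h1 : m + n - r = (m + n - (r + 1)) + 1 := by omega
      have h2 : r ≤ m + n - (r + 1) := by omega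
      have h3 : r * (m + n - r) ≤ (r + 1) * (m + n - (r + 1)) := by
        rw [h1]
        nlinarith
      exact_mod_cast h3

/-- upper bound for the dimension of a quotient of the polynomial ring killing the
`(r+1)`-minors of the generic matrix. -/
theorem ringKrullDim_quotient_le (hrn : r ≤ n) (hrm : r ≤ m)
    (I : Ideal (MvPolynomial (Fin n × Fin m) k))
    (hI : ∀ (f' : Fin (r + 1) → Fin n) (g' : Fin (r + 1) → Fin m),
      ((Matrix.of fun (i : Fin n) (j : Fin m) =>
        (X (i, j) : MvPolynomial (Fin n × Fin m) k)).submatrix f' g').det ∈ I) :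
    ringKrullDim (MvPolynomial (Fin n × Fin m) k ⧸ I) ≤ ((r * (m + n - r) : ℕ) : WithBot ℕ∞) := by
  apply Groth.Agent.Lib.Helper12.DimFT2.ringKrullDim_le_of_minimalPrimes
  intro P _ hPp
  haveI := hPp
  let π : MvPolynomial (Fin n × Fin m) k →ₐ[k] ((MvPolynomial (Fin n × Fin m) k ⧸ I) ⧸ P) :=
    (Ideal.Quotient.mkₐ k P).comp (Ideal.Quotient.mkₐ k I)
  have hπ : Function.Surjective π :=
    (Ideal.Quotient.mkₐ_surjective k P).comp (Ideal.Quotient.mkₐ_surjective k I)
  refine dim_le r hrn hrm _ π hπ ?_
  intro f' g'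
  have h1 : ((Matrix.of fun i j => π (X (i, j))).submatrix f' g') =
      ((Matrix.of fun (i : Fin n) (j : Fin m) =>
        (X (i, j) : MvPolynomial (Fin n × Fin m) k)).submatrix f' g').map π := by
    ext a b
    simp
  rw [h1, ← AlgHom.mapMatrix_apply, ← AlgHom.map_det]
  show Ideal.Quotient.mk P (Ideal.Quotient.mk I _) = 0
  rw [Ideal.Quotient.eq_zero_iff_mem.2 (hI f' g'), map_zero]

end Upper

end Groth.Agent.Lib.Helper22.DetDim
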