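import Mathlib
import Groth.Agent.Lib.Helper22.DetDim
import Groth.Agent.Lib.Helper22.DimTrdeg

/-!
# Dimension of the generic determinantal variety, lower bound (helper22)

The matrix `[1; C] · W` over `k[C, W]` has rank `≤ r`, and `k[C, W]` is algebraic over the
subalgebra generated by its entries.
-/

set_option autoImplicit false

universe u

open MvPolynomial

namespace Groth.Agent.Lib.Helper22.DetDim

variable {k : Type u} [Field k] {n m r : ℕ}

section Lower

/-- a product through a smaller inner dimension has vanishing determinant. -/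
lemma det_mul_eq_zero_of_lt {R : Type*} [CommRing R] [IsDomain R] {a b : ℕ} (hab : b < a)
    (A : Matrix (Fin a) (Fin b) R) (B : Matrix (Fin b) (Fin a) R) : (A * B).det = 0 := by
  by_contra h
  have h1 := Matrix.rank_of_det_ne_zero h
  have h2 := (Matrix.rank_mul_le_left A B).trans (Matrix.rank_le_width A)
  rw [h1, Fintype.card_fin] at h2
  omega

variable (hrn : r ≤ n) (hrm : r ≤ m)

/-- the parameter ring `k[W, C]`. -/
abbrev Par (k : Type u) [Field k] (hrn : r ≤ n) (m : ℕ) :=
  MvPolynomial (Idx (Fin.castLE hrn : Fin r → Fin n) m) k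

/-- the generic `r × m` matrix `W`. -/
noncomputable def Wm : Matrix (Fin r) (Fin m) (Par k hrn m) :=
  Matrix.of fun a j => X (Sum.inl (a, j))

open Classical in
/-- the `n × r` matrix `[1; C]`. -/
noncomputable def Um : Matrix (Fin n) (Fin r) (Par k hrn m) :=
  Matrix.of fun i b => if h : i ∈ Set.range (Fin.castLE hrn : Fin r → Fin n) then
    (if i = Fin.castLE hrn b then 1 else 0) else X (Sum.inr (⟨i, h⟩, b))

/-- the matrix `[1; C] · W`. -/
noncomputable def Ym : Matrix (Fin n) (Fin m) (Par k hrn m) :=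
  (Um hrn : Matrix (Fin n) (Fin r) (Par k hrn m)) * (Wm hrn : Matrix (Fin r) (Fin m) (Par k hrn m))

lemma Ym_castLE (a : Fin r) (j : Fin m) :
    Ym (k := k) (m := m) hrn (Fin.castLE hrn a) j = X (Sum.inl (a, j)) := by
  classical
  have hinj : Function.Injective (Fin.castLE hrn : Fin r → Fin n) := Fin.castLE_injective hrn
  simp only [Ym, Matrix.mul_apply, Um, Wm, Matrix.of_apply, Set.mem_range_self, dite_true]
  rw [Finset.sum_eq_single a]
  · simp
  · intro b _ hb
    rw [if_neg (fun h => hb (hinj h).symm), zero_mul]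
  · intro h; exact absurd (Finset.mem_univ a) h

lemma Ym_of_notMem (i : Fin n) (h : i ∉ Set.range (Fin.castLE hrn : Fin r → Fin n)) (j : Fin m) :
    Ym (k := k) (m := m) hrn i j = ∑ b, X (Sum.inr (⟨i, h⟩, b)) * X (Sum.inl (b, j)) := by
  classical
  simp only [Ym, Matrix.mul_apply, Um, Wm, Matrix.of_apply, h, dite_false]

/-- the parametrisation `X ↦ [1; C] W`. -/
noncomputable def psi : MvPolynomial (Fin n × Fin m) k →ₐ[k] Par k hrn m :=
  aeval fun p => Ym hrn p.1 p.2

lemma psi_X (i : Fin n) (j : Fin m) : psi (k := k) (m := m) hrn (X (i, j)) = Ym hrn i j := by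
  simp [psi]

lemma psi_minor (f' : Fin (r + 1) → Fin n) (g' : Fin (r + 1) → Fin m) :
    psi (k := k) (m := m) hrn ((Matrix.of fun (i : Fin n) (j : Fin m) =>
        (X (i, j) : MvPolynomial (Fin n × Fin m) k)).submatrix f' g').det = 0 := by
  rw [AlgHom.map_det]
  have h1 : (psi (k := k) (m := m) hrn).mapMatrix ((Matrix.of fun (i : Fin n) (j : Fin m) =>
        (X (i, j) : MvPolynomial (Fin n × Fin m) k)).submatrix f' g') =
      (Um hrn : Matrix (Fin n) (Fin r) (Par k hrn m)).submatrix f' id *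
        (Wm hrn : Matrix (Fin r) (Fin m) (Par k hrn m)).submatrix id g' := by
    rw [← Matrix.submatrix_mul _ _ f' id g' Function.bijective_id]
    ext a b
    simp [psi_X, Ym]
  rw [h1]
  exact det_mul_eq_zero_of_lt (Nat.lt_succ_self r) _ _

/-- the image subalgebra `k[entries of [1; C] W]`. -/
noncomputable def Tsub : Subalgebra k (Par k hrn m) := (psi (k := k) (m := m) hrn).range

lemma Y_mem (i : Fin n) (j : Fin m) : Ym (k := k) (m := m) hrn i j ∈ Tsub hrn :=
  ⟨X (i, j), psi_X hrn i j⟩

lemma W_mem (a : Fin r) (j : Fin m) : (X (Sum.inl (a, j)) : Par k hrn m) ∈ Tsub hrn := by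
  rw [← Ym_castLE]
  exact Y_mem hrn _ _

/-- the leading `r × r` block of `W`. -/
noncomputable def Wsq : Matrix (Fin r) (Fin r) (Par k hrn m) :=
  (Wm hrn : Matrix (Fin r) (Fin m) (Par k hrn m)).submatrix id (Fin.castLE hrm)

lemma Wsq_det_mem : (Wsq (k := k) hrn hrm).det ∈ Tsub hrn :=
  det_mem_subalgebra _ _ fun a b => W_mem hrn a _

lemma Wsq_det_ne_zero : (Wsq (k := k) hrn hrm).det ≠ 0 := by
  classical
  intro h0
  let ev : Par k hrn m →ₐ[k] k :=
    aeval (Sum.elim (fun p => if p.2 = Fin.castLE hrm p.1 then 1 else 0) (fun _ => 0))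
  have h1 := congrArg ev h0
  rw [AlgHom.map_det, map_zero] at h1
  have h2 : ev.mapMatrix (Wsq (k := k) hrn hrm) = 1 := by
    ext a b
    have hinj : Function.Injective (Fin.castLE hrm : Fin r → Fin m) := Fin.castLE_injective hrm
    simp only [AlgHom.mapMatrix_apply, Matrix.map_apply, Wsq, Wm, Matrix.submatrix_apply,
      Matrix.of_apply, id_eq, ev, aeval_X, Sum.elim_inl, Matrix.one_apply]
    by_cases hab : a = b
    · subst hab; simp
    · rw [if_neg hab, if_neg (fun h => hab (hinj h).symm)]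
  rw [h2, Matrix.det_one] at h1
  exact one_ne_zero h1

lemma adjugate_mem {S : Subalgebra k (Par k hrn m)} (A : Matrix (Fin r) (Fin r) (Par k hrn m))
    (hA : ∀ a b, A a b ∈ S) (a b : Fin r) : A.adjugate a b ∈ S := by
  classical
  rw [Matrix.adjugate_apply]
  refine det_mem_subalgebra _ _ fun a' b' => ?_
  rw [Matrix.updateRow_apply]
  split_ifs
  · rw [Pi.single_apply]
    split_ifs
    · exact S.one_mem
    · exact S.zero_mem
  · exact hA _ _

lemma det_mul_C_mem (i : Fin n) (h : i ∉ Set.range (Fin.castLE hrn : Fin r → Fin n)) (b : Fin r) :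
    (Wsq (k := k) hrn hrm).det * X (Sum.inr (⟨i, h⟩, b)) ∈ Tsub hrn := by
  classical
  let c : Fin r → Par k hrn m := fun b => X (Sum.inr (⟨i, h⟩, b))
  let y : Fin r → Par k hrn m := fun b' => Ym hrn i (Fin.castLE hrm b')
  have hy : y = Matrix.vecMul c (Wsq hrn hrm) := by
    funext b'
    simp only [y, c, Matrix.vecMul, dotProduct, Wsq, Wm, Matrix.submatrix_apply, Matrix.of_apply,
      id_eq]
    rw [Ym_of_notMem hrn i h]
  have h1 : Matrix.vecMul y (Wsq hrn hrm).adjugate = (Wsq (k := k) hrn hrm).det • c := by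
    rw [hy, Matrix.vecMul_vecMul, Matrix.mul_adjugate, Matrix.vecMul_smul, Matrix.vecMul_one]
  have h2 := congrFun h1 b
  simp only [Pi.smul_apply, smul_eq_mul] at h2
  rw [show (Wsq (k := k) hrn hrm).det * X (Sum.inr (⟨i, h⟩, b)) =
    (Wsq (k := k) hrn hrm).det * c b from rfl, ← h2]
  simp only [Matrix.vecMul, dotProduct]
  refine Subalgebra.sum_mem _ fun b' _ => Subalgebra.mul_mem _ (Y_mem hrn _ _) ?_
  exact adjugate_mem hrn _ (fun a b => W_mem hrn a _) _ _

include hrm in
theorem isAlgebraic_Par : Algebra.IsAlgebraic (Tsub (k := k) (m := m) hrn) (Par k hrn m) := by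
  constructor
  have hX : ∀ v, IsAlgebraic (Tsub (k := k) (m := m) hrn) (X v : Par k hrn m) := by
    intro v
    rcases v with ⟨a, j⟩ | ⟨⟨i, h⟩, b⟩
    · exact isAlgebraic_algebraMap (⟨_, W_mem hrn a j⟩ : Tsub (k := k) (m := m) hrn)
    · refine isAlgebraic_of_linear (Tsub hrn) ⟨_, Wsq_det_mem hrn hrm⟩
        ⟨_, det_mul_C_mem hrn hrm i h b⟩ ?_ _ rfl
      intro h0
      exact Wsq_det_ne_zero hrn hrm (congrArg Subtype.val h0)
  intro q
  induction q using MvPolynomial.induction_on with
  | C c =>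
    have : (C c : Par k hrn m) = algebraMap (Tsub (k := k) (m := m) hrn) (Par k hrn m)
        (algebraMap k (Tsub (k := k) (m := m) hrn) c) := rfl
    rw [this]
    exact isAlgebraic_algebraMap _
  | add p q hp hq => exact hp.add hq
  | mul_X p v hp => exact hp.mul (hX v)

include hrm in
open Cardinal in
theorem trdeg_Tsub :
    Algebra.trdeg k (Tsub (k := k) (m := m) hrn) = ((r * m + (n - r) * r : ℕ) : Cardinal.{u}) := by
  haveI := isAlgebraic_Par (k := k) hrn hrm
  have h1 := trdeg_add_eq k (Tsub (k := k) (m := m) hrn) (A := Par k hrn m)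
  rw [trdeg_eq_zero (R := Tsub (k := k) (m := m) hrn) (A := Par k hrn m), add_zero,
    MvPolynomial.trdeg_of_isDomain, Cardinal.mk_fintype,
    card_idx _ (Fin.castLE_injective hrn)] at h1
  rw [h1]
  simp

include hrm in
/-- **lower bound**: a quotient of the polynomial ring by an ideal killed by the parametrisation
has dimension at least `r m + (n - r) r`. -/
theorem le_ringKrullDim_quotient (I : Ideal (MvPolynomial (Fin n × Fin m) k))
    (hI : I ≤ RingHom.ker (psi (k := k) (m := m) hrn)) :
    ((r * m + (n - r) * r : ℕ) : WithBot ℕ∞) ≤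
      ringKrullDim (MvPolynomial (Fin n × Fin m) k ⧸ I) := by
  haveI : Algebra.FiniteType k (Tsub (k := k) (m := m) hrn) :=
    Algebra.FiniteType.of_surjective (psi (k := k) (m := m) hrn).rangeRestrict
      (AlgHom.rangeRestrict_surjective _)
  have hT : ringKrullDim (Tsub (k := k) (m := m) hrn) = ((r * m + (n - r) * r : ℕ) : WithBot ℕ∞) :=
    Groth.Agent.Lib.Helper22.ringKrullDim_eq_of_trdeg _ (trdeg_Tsub hrn hrm)
  rw [← hT]
  let φ : (MvPolynomial (Fin n × Fin m) k ⧸ I) →ₐ[k] Tsub (k := k) (m := m) hrn :=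
    Ideal.Quotient.liftₐ I (psi (k := k) (m := m) hrn).rangeRestrict (fun a ha => by
      apply Subtype.ext
      exact hI ha)
  have hφ : Function.Surjective φ := by
    rintro ⟨y, x, rfl⟩
    exact ⟨Ideal.Quotient.mk I x, Subtype.ext rfl⟩
  exact ringKrullDim_le_of_surjective φ.toRingHom hφ

end Lower

end Groth.Agent.Lib.Helper22.DetDim
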