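import Mathlib

/-!
# Diagonalisability from a separable split annihilating polynomial (helper22)
-/

set_option autoImplicit false
universe u v

namespace Groth.Agent.Lib.Helper22.Diag

open Polynomial

variable {K : Type u} {V : Type v} [Field K] [AddCommGroup V] [Module K V]

theorem ker_aeval_X_sub_C (f : Module.End K V) (a : K) :
    LinearMap.ker (aeval f (X - C a : K[X])) = f.eigenspace a := by
  rw [Module.End.eigenspace_def]
  simp [Algebra.algebraMap_eq_smul_one]

theorem ker_aeval_prod_le (f : Module.End K V) (s : Finset K) :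
    LinearMap.ker (aeval f (∏ μ ∈ s, (X - C μ : K[X]))) ≤ ⨆ μ : K, f.eigenspace μ := by
  classical
  induction s using Finset.induction_on with
  | empty =>
    intro v hv
    simp only [Finset.prod_empty, map_one, LinearMap.mem_ker, Module.End.one_apply] at hv
    rw [hv]
    exact Submodule.zero_mem _
  | insert a s ha ih =>
    rw [Finset.prod_insert ha]
    have hcop : IsCoprime (X - C a : K[X]) (∏ μ ∈ s, (X - C μ : K[X])) := by
      apply IsCoprime.prod_right
      intro μ hμ
      apply Polynomial.isCoprime_X_sub_C_of_isUnit_sub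
      rw [isUnit_iff_ne_zero, sub_ne_zero]
      rintro rfl
      exact ha hμ
    rw [← sup_ker_aeval_eq_ker_aeval_mul_of_coprime f hcop, ker_aeval_X_sub_C]
    exact sup_le (le_iSup (fun μ => f.eigenspace μ) a) ih

/-- An endomorphism killed by a separable split polynomial is diagonalisable. -/
theorem iSup_eigenspace_eq_top_of_aeval_eq_zero (f : Module.End K V) (P : K[X]) (hs : P.Splits)
    (hsep : P.Separable) (hP : aeval f P = 0) : ⨆ μ : K, f.eigenspace μ = ⊤ := by
  classical
  have hP0 : P ≠ 0 := hsep.ne_zero
  have hlc : P.leadingCoeff ≠ 0 := leadingCoeff_ne_zero.mpr hP0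
  have hnd : P.roots.Nodup := nodup_roots hsep
  have hprod : (P.roots.map (fun μ => (X - C μ : K[X]))).prod =
      ∏ μ ∈ P.roots.toFinset, (X - C μ : K[X]) := by
    rw [Finset.prod_eq_multiset_prod, Multiset.toFinset_val, Multiset.dedup_eq_self.mpr hnd]
  have h1 := hs.eq_prod_roots
  rw [hprod] at h1
  rw [h1, map_mul, aeval_C] at hP
  have h2 : aeval f (∏ μ ∈ P.roots.toFinset, (X - C μ : K[X])) = 0 := by
    have h3 : (algebraMap K (Module.End K V) P.leadingCoeff) *
        aeval f (∏ μ ∈ P.roots.toFinset, (X - C μ : K[X])) = 0 := hP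
    rw [Algebra.algebraMap_eq_smul_one, smul_mul_assoc, one_mul] at h3
    exact (smul_eq_zero.mp h3).resolve_left hlc
  rw [eq_top_iff]
  refine le_trans ?_ (ker_aeval_prod_le f P.roots.toFinset)
  rw [h2, LinearMap.ker_zero]

end Groth.Agent.Lib.Helper22.Diag
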