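import Mathlib
import Groth.Agent.Lib.Helper9.RegLocal

/-!
# A local homomorphism into a regular local ring which is injective on cotangent spaces is
injective (when the source is a domain and the residue fields agree)
-/

set_option autoImplicit false
universe u

open IsLocalRing

namespace Groth.Agent.Lib.Helper22.DomCot

lemma map_mem {R S : Type*} [CommRing R] [CommRing S] [IsLocalRing R]
    [IsLocalRing S] (ψ : R →+* S) [IsLocalHom ψ] (a : R) (ha : a ∈ maximalIdeal R) :
    ψ a ∈ maximalIdeal S := by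
  rw [mem_maximalIdeal, mem_nonunits_iff] at ha ⊢
  exact fun hu => ha ((isUnit_map_iff ψ a).mp hu)

lemma toCotangent_sum_mul {R : Type*} [CommRing R] [IsLocalRing R] {ι : Type*} (s : Finset ι)
    (r : ι → R) (m : ι → maximalIdeal R) (h : ∑ j ∈ s, r j * (m j : R) ∈ maximalIdeal R) :
    (maximalIdeal R).toCotangent ⟨∑ j ∈ s, r j * (m j : R), h⟩ =
      ∑ j ∈ s, residue R (r j) • (maximalIdeal R).toCotangent (m j) := by
  have e : (⟨∑ j ∈ s, r j * (m j : R), h⟩ : maximalIdeal R) = ∑ j ∈ s, r j • m j := by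
    apply Subtype.ext
    rw [Submodule.coe_sum]
    rfl
  rw [e, map_sum]
  refine Finset.sum_congr rfl (fun j _ => ?_)
  rw [map_smul]
  exact (IsScalarTower.algebraMap_smul (ResidueField R) (r j) _).symm

lemma arith1 (D C : WithBot ℕ∞) (n e : ℕ) (hC : C = n) (h : C + e ≤ D + C) :
    (e : WithBot ℕ∞) ≤ D := by
  subst hC
  induction D using WithBot.recBotCoe with
  | bot =>
    rw [WithBot.bot_add] at h
    exact absurd (le_bot_iff.mp h) (by
      have : ((n : WithBot ℕ∞) + (e : WithBot ℕ∞)) = ((n + e : ℕ) : WithBot ℕ∞) := by push_cast; rfl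
      rw [this]
      exact WithBot.natCast_ne_bot _)
  | coe d =>
    induction d using ENat.recTopCoe with
    | top => exact le_top
    | coe m =>
      have h' : ((n + e : ℕ) : WithBot ℕ∞) ≤ ((m + n : ℕ) : WithBot ℕ∞) := by
        push_cast
        exact h
      have h'' : n + e ≤ m + n := by exact_mod_cast h'
      have : e ≤ m := by omega
      exact_mod_cast this

theorem injective_of_cotangent {A B : Type u} [CommRing A] [CommRing B] [IsLocalRing A]
    [IsNoetherianRing A] [IsDomain A] [IsRegularLocalRing B] (φ : A →+* B) [IsLocalHom φ]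
    (hres : ∀ b : B, ∃ a : A, b - φ a ∈ maximalIdeal B)
    (hinj : ∀ a ∈ maximalIdeal A, φ a ∈ maximalIdeal B ^ 2 → a ∈ maximalIdeal A ^ 2) :
    Function.Injective φ := by
  classical
  haveI : IsDomain B := Groth.Agent.Lib.Helper9.RegLocal.isDomain_of_isRegularLocalRing B
  by_contra hni
  set 𝔭 : Ideal A := RingHom.ker φ with h𝔭
  haveI h𝔭prime : 𝔭.IsPrime := RingHom.ker_isPrime φ
  have hne : 𝔭 ≠ ⊥ := fun h => hni ((RingHom.injective_iff_ker_eq_bot φ).mpr h)
  have h𝔭m : 𝔭 ≤ maximalIdeal A := IsLocalRing.le_maximalIdeal h𝔭prime.ne_top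
  have h𝔭sq : 𝔭 ≤ maximalIdeal A ^ 2 := by
    intro a ha
    refine hinj a (h𝔭m ha) ?_
    rw [(RingHom.mem_ker).mp ha]
    exact zero_mem _
  -- the quotient
  let π : A →+* A ⧸ 𝔭 := Ideal.Quotient.mk 𝔭
  have hπs : Function.Surjective π := Ideal.Quotient.mk_surjective
  haveI : IsLocalRing (A ⧸ 𝔭) := IsLocalRing.of_surjective' π hπs
  let φ' : A ⧸ 𝔭 →+* B := RingHom.kerLift φ
  have hφ'inj : Function.Injective φ' := RingHom.kerLift_injective φ
  have hφ'π : ∀ a, φ' (π a) = φ a := fun a => RingHom.kerLift_mk φ a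
  haveI : IsLocalHom π := IsLocalHom.of_surjective π hπs
  haveI : IsLocalHom φ' := by
    constructor
    intro a' ha'
    obtain ⟨a, rfl⟩ := hπs a'
    rw [hφ'π] at ha'
    exact (isUnit_of_map_unit φ a ha').map π
  have hπm : Ideal.map π (maximalIdeal A) = maximalIdeal (A ⧸ 𝔭) :=
    map_maximalIdeal_of_surjective π hπs
  have hinj' : ∀ a' ∈ maximalIdeal (A ⧸ 𝔭), φ' a' ∈ maximalIdeal B ^ 2 →
      a' ∈ maximalIdeal (A ⧸ 𝔭) ^ 2 := by
    intro a' ha' h
    obtain ⟨a, rfl⟩ := hπs a'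
    have ha : a ∈ maximalIdeal A := by
      rw [mem_maximalIdeal, mem_nonunits_iff] at ha' ⊢
      exact fun hu => ha' (hu.map π)
    rw [hφ'π] at h
    have h2 : π a ∈ Ideal.map π (maximalIdeal A ^ 2) := Ideal.mem_map_of_mem π (hinj a ha h)
    rwa [Ideal.map_pow, hπm] at h2
  -- a basis of the cotangent space of the quotient
  set e := Module.finrank (ResidueField (A ⧸ 𝔭)) (CotangentSpace (A ⧸ 𝔭)) with he
  let bas := Module.finBasis (ResidueField (A ⧸ 𝔭)) (CotangentSpace (A ⧸ 𝔭))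
  have hx : ∀ i, ∃ x : maximalIdeal (A ⧸ 𝔭), (maximalIdeal (A ⧸ 𝔭)).toCotangent x = bas i :=
    fun i => Ideal.toCotangent_surjective _ _
  choose x hx using hx
  have hspanx : Ideal.span (Set.range fun i => (x i : A ⧸ 𝔭)) = maximalIdeal (A ⧸ 𝔭) := by
    have h1 : Submodule.span (ResidueField (A ⧸ 𝔭))
        ((maximalIdeal (A ⧸ 𝔭)).toCotangent '' Set.range x) = ⊤ := by
      rw [← Set.range_comp]
      have : ((maximalIdeal (A ⧸ 𝔭)).toCotangent ∘ x) = bas := funext hx
      rw [this]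
      exact bas.span_eq
    have h2 := CotangentSpace.span_image_eq_top_iff.mp h1
    have h3 := congrArg (Submodule.map (maximalIdeal (A ⧸ 𝔭)).subtype) h2
    rw [Submodule.map_span, Submodule.map_top, Submodule.range_subtype, ← Set.range_comp] at h3
    exact h3
  -- the images in `B`
  have hmem : ∀ i, φ' (x i : A ⧸ 𝔭) ∈ maximalIdeal B := fun i => map_mem φ' _ (x i).2
  let y : Fin e → maximalIdeal B := fun i => ⟨φ' (x i : A ⧸ 𝔭), hmem i⟩
  have hy : LinearIndependent (ResidueField B) (fun i => (maximalIdeal B).toCotangent (y i)) := by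
    rw [Fintype.linearIndependent_iff]
    intro c hc i
    have hlift : ∀ j, ∃ a : A, residue B (φ a) = c j := by
      intro j
      obtain ⟨b, hb⟩ := residue_surjective (c j)
      obtain ⟨a, ha⟩ := hres b
      refine ⟨a, ?_⟩
      rw [← hb]
      have := (residue_eq_zero_iff (b - φ a)).mpr ha
      rw [map_sub, sub_eq_zero] at this
      exact this.symm
    choose a ha using hlift
    have hzm : ∑ j, π (a j) * (x j : A ⧸ 𝔭) ∈ maximalIdeal (A ⧸ 𝔭) :=
      Ideal.sum_mem _ (fun j _ => Ideal.mul_mem_left _ _ (x j).2)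
    have hφz : φ' (∑ j, π (a j) * (x j : A ⧸ 𝔭)) = ∑ j, φ (a j) * (y j : B) := by
      rw [map_sum]
      refine Finset.sum_congr rfl (fun j _ => ?_)
      rw [map_mul, hφ'π]
    have hzm' : ∑ j, φ (a j) * (y j : B) ∈ maximalIdeal B :=
      Ideal.sum_mem _ (fun j _ => Ideal.mul_mem_left _ _ (y j).2)
    have hφz2 : φ' (∑ j, π (a j) * (x j : A ⧸ 𝔭)) ∈ maximalIdeal B ^ 2 := by
      rw [hφz, ← Ideal.toCotangent_eq_zero (maximalIdeal B) ⟨_, hzm'⟩,
        toCotangent_sum_mul Finset.univ (fun j => φ (a j)) y hzm']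
      rw [← hc]
      exact Finset.sum_congr rfl (fun j _ => by rw [ha j])
    have hz2 := hinj' _ hzm hφz2
    have h2 : ∑ j, residue (A ⧸ 𝔭) (π (a j)) • bas j = 0 := by
      have h3 := (Ideal.toCotangent_eq_zero (maximalIdeal (A ⧸ 𝔭)) ⟨_, hzm⟩).mpr hz2
      rw [toCotangent_sum_mul Finset.univ (fun j => π (a j)) x hzm] at h3
      rw [← h3]
      exact Finset.sum_congr rfl (fun j _ => by rw [hx j])
    have h4 := (Fintype.linearIndependent_iff.mp bas.linearIndependent) _ h2 i
    have h5 : π (a i) ∈ maximalIdeal (A ⧸ 𝔭) := (residue_eq_zero_iff _).mp h4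
    have h6 : φ (a i) ∈ maximalIdeal B := by
      rw [← hφ'π]
      exact map_mem φ' _ h5
    rw [← ha i]
    exact (residue_eq_zero_iff _).mpr h6
  obtain ⟨hdimq, -⟩ := Groth.Agent.Lib.Helper9.RegLocal.quotient_regular B e y hy
  -- the dimension inequality
  letI : Algebra (A ⧸ 𝔭) B := φ'.toAlgebra
  haveI : (maximalIdeal B).LiesOver (maximalIdeal (A ⧸ 𝔭)) :=
    ⟨(maximalIdeal_comap φ').symm⟩
  have hineq := Ideal.height_le_height_add_of_liesOver (maximalIdeal (A ⧸ 𝔭)) (maximalIdeal B)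
  have hIeq : Ideal.map (algebraMap (A ⧸ 𝔭) B) (maximalIdeal (A ⧸ 𝔭)) =
      Ideal.span (Set.range fun i => (y i : B)) := by
    rw [← hspanx, Ideal.map_span, ← Set.range_comp]
    rfl
  rw [hIeq] at hineq
  have hproper : Ideal.span (Set.range fun i => (y i : B)) ≠ ⊤ := by
    intro htop
    have : Ideal.span (Set.range fun i => (y i : B)) ≤ maximalIdeal B := by
      rw [Ideal.span_le]
      rintro _ ⟨i, rfl⟩
      exact (y i).2
    rw [htop] at this
    exact (maximalIdeal.isMaximal B).ne_top (top_le_iff.mp this)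
  haveI : Nontrivial (B ⧸ Ideal.span (Set.range fun i => (y i : B))) :=
    Ideal.Quotient.nontrivial_iff.mpr hproper
  haveI : IsLocalRing (B ⧸ Ideal.span (Set.range fun i => (y i : B))) :=
    IsLocalRing.of_surjective' (Ideal.Quotient.mk _) Ideal.Quotient.mk_surjective
  have hmq : Ideal.map (Ideal.Quotient.mk (Ideal.span (Set.range fun i => (y i : B))))
      (maximalIdeal B) = maximalIdeal (B ⧸ Ideal.span (Set.range fun i => (y i : B))) :=
    map_maximalIdeal_of_surjective _ Ideal.Quotient.mk_surjective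
  rw [hmq] at hineq
  have hineq' : ringKrullDim B ≤ ringKrullDim (A ⧸ 𝔭) +
      ringKrullDim (B ⧸ Ideal.span (Set.range fun i => (y i : B))) := by
    rw [← maximalIdeal_height_eq_ringKrullDim, ← maximalIdeal_height_eq_ringKrullDim,
      ← maximalIdeal_height_eq_ringKrullDim]
    exact_mod_cast hineq
  rw [← hdimq] at hineq'
  obtain ⟨nC, hnC⟩ : ∃ n : ℕ, ringKrullDim (B ⧸ Ideal.span (Set.range fun i => (y i : B))) = n := by
    have h1 := finiteRingKrullDim_iff_ne_bot_and_top.mp
      (inferInstance : FiniteRingKrullDim (B ⧸ Ideal.span (Set.range fun i => (y i : B))))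
    generalize ringKrullDim (B ⧸ Ideal.span (Set.range fun i => (y i : B))) = D at h1
    induction D using WithBot.recBotCoe with
    | bot => exact absurd rfl h1.1
    | coe d =>
      induction d using ENat.recTopCoe with
      | top => exact absurd rfl h1.2
      | coe m => exact ⟨m, rfl⟩
  have he_le : (e : WithBot ℕ∞) ≤ ringKrullDim (A ⧸ 𝔭) := arith1 _ _ nC e hnC hineq'
  -- `dim A ≤ e`
  have hlift : ∀ i, ∃ t : A, t ∈ maximalIdeal A ∧ π t = (x i : A ⧸ 𝔭) := by
    intro i
    obtain ⟨t, ht⟩ := hπs (x i : A ⧸ 𝔭)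
    refine ⟨t, ?_, ht⟩
    have h1 : π t ∈ maximalIdeal (A ⧸ 𝔭) := by rw [ht]; exact (x i).2
    rw [mem_maximalIdeal, mem_nonunits_iff] at h1 ⊢
    exact fun hu => h1 (hu.map π)
  choose t htm htx using hlift
  have hmle : maximalIdeal A ≤ Ideal.span (Set.range t) ⊔ 𝔭 := by
    intro a ha
    have h1 : π a ∈ Ideal.map π (Ideal.span (Set.range t)) := by
      rw [Ideal.map_span, ← Set.range_comp]
      have : (π ∘ t) = fun i => (x i : A ⧸ 𝔭) := funext htx
      rw [this, hspanx]
      exact map_mem π a ha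
    have h2 : a ∈ Ideal.comap π (Ideal.map π (Ideal.span (Set.range t))) := h1
    rw [Ideal.comap_map_of_surjective π hπs] at h2
    have h3 : Ideal.comap π ⊥ = 𝔭 := by
      rw [← RingHom.ker_eq_comap_bot]
      exact Ideal.mk_ker
    rwa [h3] at h2
  have hspant : maximalIdeal A ≤ Ideal.span (Set.range t) := by
    apply Submodule.le_of_le_smul_of_le_jacobson_bot (IsNoetherian.noetherian _)
      (IsLocalRing.jacobson_eq_maximalIdeal _ bot_ne_top).ge
    refine hmle.trans (sup_le_sup_left ?_ _)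
    rw [smul_eq_mul, ← pow_two]
    exact h𝔭sq
  have hspant' : maximalIdeal A = Ideal.span (Set.range t) := by
    refine le_antisymm hspant ?_
    rw [Ideal.span_le]
    rintro _ ⟨i, rfl⟩
    exact htm i
  have hdimA : ringKrullDim A ≤ e := by
    refine (ringKrullDim_le_spanFinrank_maximalIdeal A).trans ?_
    rw [hspant']
    exact_mod_cast Groth.Agent.Lib.Helper9.RegLocal.spanFinrank_span_range_le t
  -- `dim A/𝔭 + 1 ≤ dim A`
  obtain ⟨a₀, ha₀, ha₀ne⟩ : ∃ a ∈ 𝔭, a ≠ 0 := by
    by_contra hcon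
    push Not at hcon
    exact hne ((Submodule.eq_bot_iff _).mpr hcon)
  have h1 : ringKrullDim (A ⧸ Ideal.span {a₀}) + 1 ≤ ringKrullDim A :=
    ringKrullDim_quotient_succ_le_of_nonZeroDivisor (mem_nonZeroDivisors_of_ne_zero ha₀ne)
  have h2 : ringKrullDim (A ⧸ 𝔭) ≤ ringKrullDim (A ⧸ Ideal.span {a₀}) :=
    ringKrullDim_le_of_surjective
      (Ideal.Quotient.factor ((Ideal.span_singleton_le_iff_mem _).mpr ha₀))
      (Ideal.Quotient.factor_surjective _)
  have h3 : ringKrullDim (A ⧸ 𝔭) + 1 ≤ ringKrullDim (A ⧸ 𝔭) :=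
    ((add_le_add h2 le_rfl).trans h1).trans (hdimA.trans he_le)
  obtain ⟨nA, hnA⟩ : ∃ n : ℕ, ringKrullDim (A ⧸ 𝔭) = n := by
    have h1 := finiteRingKrullDim_iff_ne_bot_and_top.mp
      (inferInstance : FiniteRingKrullDim (A ⧸ 𝔭))
    generalize ringKrullDim (A ⧸ 𝔭) = D at h1
    induction D using WithBot.recBotCoe with
    | bot => exact absurd rfl h1.1
    | coe d =>
      induction d using ENat.recTopCoe with
      | top => exact absurd rfl h1.2
      | coe m => exact ⟨m, rfl⟩
  rw [hnA] at h3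
  have h4 : ((nA + 1 : ℕ) : WithBot ℕ∞) ≤ (nA : WithBot ℕ∞) := by
    push_cast
    exact h3
  have h5 : nA + 1 ≤ nA := by exact_mod_cast h4
  omega

end Groth.Agent.Lib.Helper22.DomCot
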