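import Mathlib
import Groth.Agent.Lib.Helper22.DomCotA
import Groth.Agent.Lib.Helper22.Sard2
import Groth.Agent.Lib.Helper22.RegPerfSm
import Groth.Agent.Lib.Helper14.GeomRegSmooth
import Groth.Agent.Lib.Helper26.RegularSch

/-!
# Dominance and the differential at a regular closed point (characteristic zero)
-/

set_option autoImplicit false
set_option maxHeartbeats 400000
set_option linter.style.haveILetI false
set_option linter.unusedSectionVars false
universe u

open AlgebraicGeometry CategoryTheory TopologicalSpace IsLocalRing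

namespace Groth.Agent.Lib.Helper22.DomCot

open Groth.Agent.Lib.Helper22.SmoothJZ Groth.Agent.Lib.Helper22.Sard

/-- a morphism from a reduced scheme to an integral scheme which is injective on some stalk is
dominant -/
theorem isDominant_of_injective_stalkMap {X Y : Scheme.{u}} [IsReduced X] [IsIntegral Y]
    (u : X ⟶ Y) (P : X) (hinj : Function.Injective (u.stalkMap P).hom) : IsDominant u := by
  refine ⟨?_⟩
  by_contra hnd
  have hne : ((closure (Set.range u.base))ᶜ : Set Y).Nonempty := by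
    rw [Set.nonempty_compl]
    intro h
    exact hnd (dense_iff_closure_eq.mpr h)
  let Vo : Y.Opens := ⟨(closure (Set.range u.base))ᶜ, isClosed_closure.isOpen_compl⟩
  obtain ⟨_, ⟨W, hW, rfl⟩, hPW, -⟩ :=
    Y.isBasis_affineOpens.exists_subset_of_mem_open (Set.mem_univ (u.base P)) isOpen_univ
  have hPW' : u.base P ∈ W := hPW
  obtain ⟨v, -, hvV, hvW⟩ : (Set.univ ∩ ((Vo : Set Y) ∩ (W : Set Y))).Nonempty :=
    (IrreducibleSpace.isIrreducible_univ Y).2 Vo W Vo.isOpen W.isOpen
      (by rw [Set.univ_inter]; exact hne) (by rw [Set.univ_inter]; exact ⟨u.base P, hPW'⟩)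
  obtain ⟨f, hfV, hvf⟩ := IsAffineOpen.exists_basicOpen_le hW (V := Vo) ⟨v, hvV⟩ hvW
  -- the pullback of `f` vanishes
  have h1 : X.basicOpen (u.app W f) = ⊥ := by
    rw [← Scheme.preimage_basicOpen]
    ext x
    simp only [Opens.coe_bot, Set.mem_empty_iff_false, iff_false]
    intro hx
    have h2 : u.base x ∈ (Vo : Set Y) := hfV hx
    exact h2 (subset_closure (Set.mem_range_self x))
  have h2 : u.app W f = 0 := (basicOpen_eq_bot_iff _).mp h1
  have h3 : (u.stalkMap P).hom (Y.presheaf.germ W (u.base P) hPW' f) = 0 := by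
    rw [Scheme.Hom.germ_stalkMap_apply, h2, map_zero]
  have h4 : Y.presheaf.germ W (u.base P) hPW' f = 0 := hinj (h3.trans (map_zero _).symm)
  have h5 : f = 0 := germ_injective_of_isIntegral Y (u.base P) hPW' (h4.trans (map_zero _).symm)
  rw [h5] at hvf
  simp at hvf

lemma map_mem_sq {R S : Type*} [CommRing R] [CommRing S] [IsLocalRing R] [IsLocalRing S]
    (ψ : R →+* S) [IsLocalHom ψ] (b : R) (hb : b ∈ maximalIdeal R ^ 2) :
    ψ b ∈ maximalIdeal S ^ 2 := by
  have h1 : ψ b ∈ Ideal.map ψ (maximalIdeal R ^ 2) := Ideal.mem_map_of_mem ψ hb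
  rw [Ideal.map_pow] at h1
  exact Ideal.pow_right_mono (Ideal.map_le_iff_le_comap.mpr (fun a ha => Ideal.mem_comap.mpr (map_mem ψ a ha))) 2 h1

/-- the backward direction -/
theorem isDominant_of_cotangent (k : Type u) [Field k] [IsAlgClosed k] {X Y : Scheme.{u}}
    (qY : Y ⟶ Spec (CommRingCat.of k)) [LocallyOfFiniteType qY] (u : X ⟶ Y)
    [LocallyOfFiniteType (u ≫ qY)] [IsReduced X] [IsIntegral Y] (P : X)
    (hP : IsClosed ({P} : Set X)) (hreg : IsRegularLocalRing (X.presheaf.stalk P))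
    (hcot : ∀ a ∈ maximalIdeal (Y.presheaf.stalk (u.base P)),
      (u.stalkMap P).hom a ∈ maximalIdeal (X.presheaf.stalk P) ^ 2 →
        a ∈ maximalIdeal (Y.presheaf.stalk (u.base P)) ^ 2) :
    IsDominant u := by
  haveI : IsLocallyNoetherian Y := LocallyOfFiniteType.isLocallyNoetherian qY
  haveI := hreg
  refine isDominant_of_injective_stalkMap u P ?_
  refine injective_of_cotangent (u.stalkMap P).hom ?_ hcot
  intro b
  letI := ((u ≫ qY).stalkMap P).hom.toAlgebra
  obtain ⟨c, hc⟩ := (bijective_algebraMap_residueField k (u ≫ qY) P hP).2 (residue _ b)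
  refine ⟨(qY.stalkMap (u.base P)).hom c, ?_⟩
  rw [← residue_eq_zero_iff, map_sub, sub_eq_zero, ← hc]
  show residue _ (((u ≫ qY).stalkMap P).hom c) = _
  rw [Scheme.Hom.stalkMap_comp]
  rfl

/-- the forward direction -/
theorem exists_point_of_isDominant (k : Type u) [Field k] [IsAlgClosed k] [CharZero k]
    {X Y : Scheme.{u}} (qY : Y ⟶ Spec (CommRingCat.of k)) [LocallyOfFiniteType qY]
    [QuasiCompact qY] (u : X ⟶ Y) [LocallyOfFiniteType (u ≫ qY)] [QuasiCompact (u ≫ qY)]
    [IsReduced X] [IsIntegral Y] [IsDominant u] :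
    ∃ P : X, IsClosed ({P} : Set X) ∧ IsRegularLocalRing (X.presheaf.stalk P) ∧
      ∀ a ∈ maximalIdeal (Y.presheaf.stalk (u.base P)),
        (u.stalkMap P).hom a ∈ maximalIdeal (X.presheaf.stalk P) ^ 2 →
          a ∈ maximalIdeal (Y.presheaf.stalk (u.base P)) ^ 2 := by
  haveI : IsNoetherian X := isNoetherian_of_finiteType k (u ≫ qY)
  haveI : IsNoetherian Y := isNoetherian_of_finiteType k qY
  haveI : LocallyOfFiniteType u := locallyOfFiniteType_of_comp u qY
  haveI : JacobsonSpace X := LocallyOfFiniteType.jacobsonSpace (u ≫ qY)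
  -- a point over the generic point
  obtain ⟨ξ, hξ, -⟩ := exists_generic_of_mem_closure_image u.base u.continuous Set.univ
    (genericPoint Y) (by
      rw [Set.image_univ, (u.denseRange).closure_eq]
      exact Set.mem_univ _)
  have huξ : u.base ξ = genericPoint Y := (hξ.antisymm (genericPoint_specializes _)).eq
  -- the generic point of a component through `ξ`
  have hC₀irr : IsIrreducible (irreducibleComponent ξ) := isIrreducible_irreducibleComponent
  have hC₀cl : IsClosed (irreducibleComponent ξ) := isClosed_irreducibleComponent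
  have hC₀mem : irreducibleComponent ξ ∈ irreducibleComponents X :=
    irreducibleComponent_mem_irreducibleComponents ξ
  obtain ⟨ξ', hξ'gen⟩ := QuasiSober.sober hC₀irr hC₀cl
  have hξ'ξ : ξ' ⤳ ξ := by
    rw [specializes_iff_mem_closure, hξ'gen.def]
    exact mem_irreducibleComponent
  have huξ' : u.base ξ' = genericPoint Y := by
    have h1 : u.base ξ' ⤳ u.base ξ := hξ'ξ.map u.continuous
    rw [huξ] at h1
    exact (h1.antisymm (genericPoint_specializes _)).eq
  -- the open subset of points lying on no other component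
  have h𝒞fin : (irreducibleComponents X \ {irreducibleComponent ξ}).Finite :=
    (NoetherianSpace.finite_irreducibleComponents).subset Set.diff_subset
  have hZcl : IsClosed (⋃₀ (irreducibleComponents X \ {irreducibleComponent ξ})) :=
    by
      rw [Set.sUnion_eq_biUnion]
      exact h𝒞fin.isClosed_biUnion (fun C hC => isClosed_of_mem_irreducibleComponents C hC.1)
  let U₀ : X.Opens := ⟨(⋃₀ (irreducibleComponents X \ {irreducibleComponent ξ}))ᶜ,
    hZcl.isOpen_compl⟩
  have hξ'U₀ : ξ' ∈ U₀ := by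
    rintro ⟨C, ⟨hC, hCne⟩, hξ'C⟩
    apply hCne
    have hsub : irreducibleComponent ξ ⊆ C := by
      rw [← hξ'gen.def]
      exact (isClosed_of_mem_irreducibleComponents C hC).closure_subset_iff.mpr
        (Set.singleton_subset_iff.mpr hξ'C)
    exact (hC₀mem.eq_of_le hC.1 hsub).symm
  have hU₀sub : (U₀ : Set X) ⊆ irreducibleComponent ξ := by
    intro x hx
    by_contra hxC
    apply hx
    refine ⟨irreducibleComponent x, ⟨irreducibleComponent_mem_irreducibleComponents x, ?_⟩,
      mem_irreducibleComponent⟩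
    intro h
    rw [Set.mem_singleton_iff] at h
    exact hxC (h ▸ mem_irreducibleComponent)
  have hU₀irr : IsIrreducible (U₀ : Set X) :=
    ⟨⟨ξ', hξ'U₀⟩, hC₀irr.isPreirreducible.open_subset U₀.isOpen hU₀sub⟩
  haveI : IrreducibleSpace ↥(U₀ : Scheme.{u}) := Subtype.irreducibleSpace hU₀irr
  haveI : IsIntegral (U₀ : Scheme.{u}) := isIntegral_of_irreducibleSpace_of_isReduced _
  haveI : CompactSpace ↥(U₀ : Scheme.{u}) :=
    isCompact_iff_compactSpace.mp (NoetherianSpace.isCompact (U₀ : Set X))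
  haveI : IsNoetherian (U₀ : Scheme.{u}) :=
    { __ := (inferInstance : IsLocallyNoetherian (U₀ : Scheme.{u}))
      __ := (inferInstance : CompactSpace ↥(U₀ : Scheme.{u})) }
  have hdom : (U₀.ι ≫ u).base (genericPoint ↥(U₀ : Scheme.{u})) = genericPoint Y := by
    have h1 : genericPoint ↥(U₀ : Scheme.{u}) ⤳ (⟨ξ', hξ'U₀⟩ : ↥(U₀ : Scheme.{u})) := genericPoint_specializes _
    have h2 : (U₀.ι ≫ u).base (genericPoint ↥(U₀ : Scheme.{u})) ⤳ (U₀.ι ≫ u).base ⟨ξ', hξ'U₀⟩ :=
      h1.map (U₀.ι ≫ u).continuous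
    have h3 : (U₀.ι ≫ u).base ⟨ξ', hξ'U₀⟩ = genericPoint Y := huξ'
    rw [h3] at h2
    exact (h2.antisymm (genericPoint_specializes _)).eq
  haveI : CharZero Y.functionField := charZero_functionField k Y qY
  obtain ⟨U, hUne, hUsm⟩ := exists_open_smooth (U₀ : Scheme.{u}) Y (U₀.ι ≫ u) hdom
  let j : (U : Scheme.{u}) ⟶ X := U.ι ≫ U₀.ι
  haveI hgs : Smooth (j ≫ u) := by
    show Smooth ((U.ι ≫ U₀.ι) ≫ u)
    rw [Category.assoc]
    exact hUsm
  -- the smooth locus of `Y`
  have hηV : genericPoint Y ∈ qY.smoothLocus := by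
    apply Groth.Agent.Lib.Helper22.RegPerfSm.mem_smoothLocus_of_isRegularLocalRing k qY
    exact (inferInstance : IsRegularLocalRing Y.functionField)
  have hOopen : IsOpen (Set.range j.base ∩ u.base ⁻¹' (qY.smoothLocus : Set Y)) :=
    (j.isOpenEmbedding.isOpen_range).inter (qY.smoothLocus.isOpen.preimage u.continuous)
  have hOne : (Set.range j.base ∩ u.base ⁻¹' (qY.smoothLocus : Set Y)).Nonempty := by
    have hgU : genericPoint ↥(U₀ : Scheme.{u}) ∈ (U : Set ↥(U₀ : Scheme.{u})) :=
      ((genericPoint_spec ↥(U₀ : Scheme.{u})).mem_open_set_iff U.2).mpr (by simpa using hUne)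
    refine ⟨j.base ⟨genericPoint ↥(U₀ : Scheme.{u}), hgU⟩, ⟨_, rfl⟩, ?_⟩
    have h1 : u.base (j.base ⟨genericPoint ↥(U₀ : Scheme.{u}), hgU⟩) = (U₀.ι ≫ u).base (genericPoint ↥(U₀ : Scheme.{u})) := rfl
    show u.base (j.base ⟨genericPoint ↥(U₀ : Scheme.{u}), hgU⟩) ∈ (qY.smoothLocus : Set Y)
    rw [h1, hdom]
    exact hηV
  obtain ⟨P, ⟨⟨P', rfl⟩, hPV⟩, hPcl⟩ := nonempty_inter_closedPoints hOne hOopen.isLocallyClosed
  have hPcl' : IsClosed ({j.base P'} : Set X) := hPcl
  have hP'cl : IsClosed ({P'} : Set ↥U) := by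
    have h1 := IsClosed.preimage j.continuous hPcl'
    have h2 : j.base ⁻¹' {j.base P'} = {P'} := by
      ext v
      simp only [Set.mem_preimage, Set.mem_singleton_iff]
      exact ⟨fun hv => j.isOpenEmbedding.injective hv, fun hv => by rw [hv]⟩
    rwa [h2] at h1
  have hregY : IsRegularLocalRing (Y.presheaf.stalk ((j ≫ u).base P')) :=
    Groth.Agent.Lib.Helper14.GeomRegSmooth.isRegularLocalRing_stalk_of_mem_smoothLocus k qY _ hPV
  haveI hregU : IsRegularLocalRing ((U : Scheme.{u}).presheaf.stalk P') :=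
    (Groth.Agent.Lib.Helper26.RegularSch.isRegularLocalRing_stalk_iff_of_smooth (j ≫ u) P').mpr hregY
  have hregX : IsRegularLocalRing (X.presheaf.stalk (j.base P')) :=
    IsRegularLocalRing.of_ringEquiv (asIso (j.stalkMap P')).commRingCatIsoToRingEquiv.symm
  haveI : LocallyOfFiniteType ((j ≫ u) ≫ qY) := by
    rw [Category.assoc]
    infer_instance
  have hinjg := (cotangentMapAt_injective_iff (j ≫ u) P').mp
    (cotangent_injective_of_smooth k qY (j ≫ u) P' hP'cl)
  refine ⟨j.base P', hPcl', hregX, ?_⟩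
  intro a ha h
  refine hinjg a ha ?_
  have e : ((j ≫ u).stalkMap P').hom a = (j.stalkMap P').hom ((u.stalkMap (j.base P')).hom a) :=
    congrArg (fun ψ : Y.presheaf.stalk ((j ≫ u).base P') ⟶ (U : Scheme.{u}).presheaf.stalk P' =>
      ψ.hom a) (Scheme.Hom.stalkMap_comp j u P')
  rw [e]
  exact map_mem_sq (j.stalkMap P').hom _ h

end Groth.Agent.Lib.Helper22.DomCot
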