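import Mathlib
import Groth.Prelude.Def_W4c1chowmix47Eta

/-!
# Basic API for the pointwise construction `EtaPt`

`rm f p q h : κ(p) →+* κ(q)` the residue field map for `p = f⁻¹ q` (with an explicit proof), its
functoriality, functoriality of `Nmap`, and transport lemmas.
-/

namespace Groth.Agent.Lib.Helper22.EtaBasic

open EtaPt

universe u

variable (η : FieldEndo.{u})

section rm

variable {A B C : Type u} [CommRing A] [CommRing B] [CommRing C]

/-- residue field map with explicit proof. -/
noncomputable def rm (f : A →+* B) (p : PrimeSpectrum A) (q : PrimeSpectrum B)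
    (h : p.asIdeal = q.asIdeal.comap f) : p.asIdeal.ResidueField →+* q.asIdeal.ResidueField :=
  Ideal.ResidueField.map p.asIdeal q.asIdeal f h

@[simp]
lemma rm_algebraMap (f : A →+* B) (p : PrimeSpectrum A) (q : PrimeSpectrum B)
    (h : p.asIdeal = q.asIdeal.comap f) (a : A) :
    rm f p q h (algebraMap A _ a) = algebraMap B _ (f a) :=
  Ideal.ResidueField.map_algebraMap _ _ f h a

lemma rm_comp (f : A →+* B) (g : B →+* C) (p : PrimeSpectrum A) (q : PrimeSpectrum B)
    (r : PrimeSpectrum C) (h1 : p.asIdeal = q.asIdeal.comap f) (h2 : q.asIdeal = r.asIdeal.comap g)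
    (h3 : p.asIdeal = r.asIdeal.comap (g.comp f)) :
    (rm g q r h2).comp (rm f p q h1) = rm (g.comp f) p r h3 := by
  apply Ideal.ResidueField.ringHom_ext
  ext a
  simp

lemma rm_id (p : PrimeSpectrum A) (h : p.asIdeal = p.asIdeal.comap (RingHom.id A)) :
    rm (RingHom.id A) p p h = RingHom.id _ := by
  apply Ideal.ResidueField.ringHom_ext
  ext a
  simp

lemma Nmap_apply (f : A →+* B) (x : η.N A) (q : PrimeSpectrum B) :
    η.Nmap f x q = η.map (rm f (PrimeSpectrum.comap f q) q rfl) (x (PrimeSpectrum.comap f q)) :=
  rfl

/-- transport along an equality of primes. -/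
lemma map_rm_congr (f : A →+* B) (x : η.N A) {p p' : PrimeSpectrum A} (hpp : p = p')
    (q : PrimeSpectrum B) (h : p.asIdeal = q.asIdeal.comap f)
    (h' : p'.asIdeal = q.asIdeal.comap f) :
    η.map (rm f p q h) (x p) = η.map (rm f p' q h') (x p') := by
  subst hpp
  rfl

/-- `Nmap` evaluated through any prime equal to the preimage. -/
lemma Nmap_apply' (f : A →+* B) (x : η.N A) (q : PrimeSpectrum B) (p : PrimeSpectrum A)
    (h : p.asIdeal = q.asIdeal.comap f) :
    η.Nmap f x q = η.map (rm f p q h) (x p) := by
  rw [Nmap_apply]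
  have hpp : PrimeSpectrum.comap f q = p := PrimeSpectrum.ext h.symm
  exact map_rm_congr η f x hpp q rfl h

lemma Nmap_comp (f : A →+* B) (g : B →+* C) (x : η.N A) :
    η.Nmap (g.comp f) x = η.Nmap g (η.Nmap f x) := by
  funext r
  rw [Nmap_apply η g, Nmap_apply η f,
    Nmap_apply' η (g.comp f) x r (PrimeSpectrum.comap f (PrimeSpectrum.comap g r)) rfl,
    ← rm_comp f g _ (PrimeSpectrum.comap g r) r rfl rfl rfl, η.map_comp]
  rfl

lemma Nmap_id (x : η.N A) : η.Nmap (RingHom.id A) x = x := by
  funext r
  rw [Nmap_apply' η (RingHom.id A) x r r rfl, rm_id, η.map_id]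
  rfl

end rm

section basic

variable {A B : Type u} [CommRing A] [CommRing B]

lemma Nmap_mem_M (f : A →+* B) {x : η.N A} (hx : x ∈ η.M A) : η.Nmap f x ∈ η.M B := by
  intro R _ _ _ hR g
  rw [← Nmap_comp]
  exact hx R hR (g.comp f)

lemma map_injective {K L : Type u} [Field K] [Field L] (φ : K →+* L) :
    Function.Injective (η.map φ) := (η.map φ).injective

lemma eta_injective (K : Type u) [Field K] : Function.Injective (η.eta K) := (η.eta K).injective

/-- `η.map` of a ring isomorphism is bijective. -/
lemma map_bijective_of_equiv {K L : Type u} [Field K] [Field L] (e : K ≃+* L) :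
    Function.Bijective (η.map (e : K →+* L)) := by
  refine ⟨map_injective η _, fun y => ⟨η.map (e.symm : L →+* K) y, ?_⟩⟩
  have h1 : (η.map (e : K →+* L)).comp (η.map (e.symm : L →+* K)) = RingHom.id _ := by
    rw [← η.map_comp]
    have : (e : K →+* L).comp (e.symm : L →+* K) = RingHom.id L := by ext; simp
    rw [this, η.map_id]
  exact congrArg (fun h => h y) (congrArg DFunLike.coe h1)

/-- bijectivity of `η.eta` transfers along ring isomorphisms. -/
lemma eta_bijective_of_equiv {K L : Type u} [Field K] [Field L] (e : K ≃+* L)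
    (h : Function.Bijective (η.eta K)) : Function.Bijective (η.eta L) := by
  have hnat := η.eta_natural (e : K →+* L)
  -- η_L = F(e) ∘ η_K ∘ e⁻¹
  have h2 : ⇑(η.eta L) = ⇑(η.map (e : K →+* L)) ∘ ⇑(η.eta K) ∘ ⇑e.symm := by
    funext y
    have := congrArg (fun h => h (e.symm y)) (congrArg DFunLike.coe hnat)
    simp only [RingHom.comp_apply, RingHom.coe_coe, RingEquiv.apply_symm_apply] at this
    simp [Function.comp, this]
  rw [h2]
  exact (map_bijective_of_equiv η e).comp (h.comp e.symm.bijective)

/-- the generic point of a domain. -/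
def gen (R : Type u) [CommRing R] [IsDomain R] : PrimeSpectrum R := ⟨⊥, Ideal.isPrime_bot⟩

lemma inV_iff_gen (R : Type u) [CommRing R] [IsDomain R] :
    η.InV R ↔ Function.Bijective (η.eta (gen R).asIdeal.ResidueField) := by
  have e : FractionRing R ≃+* (gen R).asIdeal.ResidueField :=
    (FractionRing.algEquiv R (⊥ : Ideal R).ResidueField).toRingEquiv
  exact ⟨fun h => eta_bijective_of_equiv η e h, fun h => eta_bijective_of_equiv η e.symm h⟩

/-- Frobenius-power injectivity in a field receiving a map from `K`. -/
lemma pow_expChar_inj {K L : Type u} [Field K] [Field L] (φ : K →+* L) (n : ℕ) {x y : L}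
    (h : x ^ ringExpChar K ^ n = y ^ ringExpChar K ^ n) : x = y := by
  haveI : ExpChar L (ringExpChar K) := expChar_of_injective_ringHom φ.injective (ringExpChar K)
  exact iterateFrobenius_inj L (ringExpChar K) n h

lemma t_apply (a : A) (p : PrimeSpectrum A) :
    η.t A a p = η.eta _ (algebraMap A p.asIdeal.ResidueField a) := rfl

end basic

section field

/-- `M(K) = ⊤` for a field `K`. -/
theorem M_field (K : Type u) [Field K] : η.M K = ⊤ := by
  rw [eq_top_iff]
  intro x _ R _ _ _ hR g
  classical
  set q₀ : PrimeSpectrum R := gen R with hq₀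
  set p₀ : PrimeSpectrum K := PrimeSpectrum.comap g q₀ with hp₀
  have hsub : ∀ p : PrimeSpectrum K, p = p₀ := fun p => Subsingleton.elim _ _
  haveI : p₀.asIdeal.IsMaximal := by
    have : p₀.asIdeal = ⊥ := by
      rcases Ideal.eq_bot_or_top p₀.asIdeal with h | h
      · exact h
      · exact absurd h p₀.isPrime.ne_top
    rw [this]; exact Ideal.bot_isMaximal
  obtain ⟨n, z, hz⟩ := η.exists_pow_mem_range_eta p₀.asIdeal.ResidueField (x p₀)
  obtain ⟨z', rfl⟩ := Ideal.algebraMap_residueField_surjective p₀.asIdeal z
  set N := ringExpChar p₀.asIdeal.ResidueField ^ n with hN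
  have hNpos : 0 < N := by
    have : 0 < ringExpChar p₀.asIdeal.ResidueField :=
      expChar_pos p₀.asIdeal.ResidueField (ringExpChar p₀.asIdeal.ResidueField)
    positivity
  have hbij := (inV_iff_gen η R).mp hR
  obtain ⟨y, hy⟩ := hbij.2 (η.map (rm g p₀ q₀ rfl) (x p₀))
  -- y ^ N = image of g z'
  have hyN : y ^ N = algebraMap R q₀.asIdeal.ResidueField (g z') := by
    apply hbij.1
    rw [map_pow, hy, ← map_pow, ← hz, ← rm_algebraMap g p₀ q₀ rfl z']
    exact congrArg (fun h => h (algebraMap K _ z')) (congrArg DFunLike.coe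
      (η.eta_natural (rm g p₀ q₀ rfl)))
  -- y is integral over R, hence in R
  haveI : IsFractionRing R q₀.asIdeal.ResidueField :=
    inferInstanceAs (IsFractionRing R (⊥ : Ideal R).ResidueField)
  have hint : IsIntegral R y := by
    refine IsIntegral.of_pow hNpos ?_
    rw [hyN]
    exact isIntegral_algebraMap
  obtain ⟨r, hr⟩ := IsIntegrallyClosed.isIntegral_iff.mp hint
  have hrN : r ^ N = g z' := by
    apply IsFractionRing.injective R q₀.asIdeal.ResidueField
    rw [map_pow, hr, hyN]
  refine ⟨r, ?_⟩
  funext q
  have hq : p₀.asIdeal = q.asIdeal.comap g :=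
    congrArg PrimeSpectrum.asIdeal (hsub (PrimeSpectrum.comap g q)).symm
  rw [t_apply, Nmap_apply' η g x q p₀ hq]
  -- compare N-th powers
  apply pow_expChar_inj ((η.eta _).comp (rm g p₀ q hq)) n
  rw [← hN, ← map_pow, ← map_pow, ← map_pow, hrN, ← hz, ← rm_algebraMap g p₀ q hq z']
  exact (congrArg (fun h => h (algebraMap K _ z')) (congrArg DFunLike.coe
    (η.eta_natural (rm g p₀ q hq)))).symm

end field

section domination

variable (A : Type u) [CommRing A] [IsDomain A]

/-- For a domain `A` and a prime `p` there is a valuation subring `V` of `Frac A` containing `A`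
whose closed point lies over `p`. -/
lemma exists_valuationSubring_over (p : PrimeSpectrum A) :
    ∃ (V : ValuationSubring (FractionRing A))
      (hV : ∀ a, algebraMap A (FractionRing A) a ∈ V.toSubring),
      Ideal.comap ((algebraMap A (FractionRing A)).codRestrict V.toSubring hV)
        (IsLocalRing.maximalIdeal V) = p.asIdeal := by
  classical
  have hunits : ∀ y : p.asIdeal.primeCompl, IsUnit (algebraMap A (FractionRing A) y) := by
    intro y
    apply IsUnit.mk0
    intro h0
    have : (y : A) = 0 := (IsFractionRing.injective A (FractionRing A)) (by rw [h0, map_zero])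
    exact y.2 (by rw [this]; exact p.asIdeal.zero_mem)
  let f : Localization.AtPrime p.asIdeal →+* FractionRing A :=
    IsLocalization.lift (M := p.asIdeal.primeCompl) hunits
  have hf : ∀ a, f (algebraMap A _ a) = algebraMap A (FractionRing A) a := fun a =>
    IsLocalization.lift_eq hunits a
  obtain ⟨V, h, hloc⟩ := IsLocalRing.exists_factor_valuationRing f
  have hV : ∀ a, algebraMap A (FractionRing A) a ∈ V.toSubring := fun a => by
    rw [← hf]; exact h _
  refine ⟨V, hV, ?_⟩
  ext x
  rw [Ideal.mem_comap, IsLocalRing.mem_maximalIdeal, mem_nonunits_iff]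
  have hx : (algebraMap A (FractionRing A)).codRestrict V.toSubring hV x =
      f.codRestrict V.toSubring h (algebraMap A _ x) := Subtype.ext (hf x).symm
  rw [hx]
  have hiff : IsUnit (f.codRestrict V.toSubring h (algebraMap A _ x)) ↔
      IsUnit (algebraMap A (Localization.AtPrime p.asIdeal) x) :=
    ⟨fun hu => hloc.map_nonunit _ hu, fun hu => hu.map _⟩
  rw [hiff, IsLocalization.AtPrime.isUnit_to_map_iff (Localization.AtPrime p.asIdeal) p.asIdeal x]
  simp [Ideal.primeCompl]

lemma inV_valuationSubring (hA : η.InV A) (V : ValuationSubring (FractionRing A)) :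
    η.InV V := by
  have e : FractionRing A ≃+* FractionRing V :=
    (FractionRing.algEquiv V (FractionRing A)).toRingEquiv.symm
  exact eta_bijective_of_equiv η e hA

/-- The generic projection is injective on `M(A)` for a domain `A` with `InV A`. -/
theorem genProj_injOn (hA : η.InV A) :
    Set.InjOn (fun x : η.N A => x (gen A)) (η.M A) := by
  intro x hx y hy hxy
  have hd : x - y ∈ η.M A := Subring.sub_mem _ hx hy
  have hd0 : (x - y) (gen A) = 0 := by
    change x (gen A) - y (gen A) = 0
    exact sub_eq_zero.mpr hxy
  suffices h : ∀ p, (x - y) p = 0 by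
    funext p
    have := h p
    change x p - y p = 0 at this
    exact sub_eq_zero.mp this
  set d := x - y with hdd
  intro p
  obtain ⟨V, hV, hcomap⟩ := exists_valuationSubring_over A p
  set g : A →+* V := (algebraMap A (FractionRing A)).codRestrict V.toSubring hV with hg
  have hginj : Function.Injective g := by
    intro a b hab
    have := congrArg Subtype.val hab
    exact IsFractionRing.injective A (FractionRing A) this
  obtain ⟨r, hr⟩ := hd V (inV_valuationSubring η A hA V) g
  -- evaluate at the generic point of V
  have hgen : (gen A).asIdeal = (gen V).asIdeal.comap g := by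
    change (⊥ : Ideal A) = Ideal.comap g ⊥
    rw [← RingHom.ker_eq_comap_bot, (RingHom.injective_iff_ker_eq_bot g).mp hginj]
  have h1 := congrFun hr (gen V)
  rw [t_apply, Nmap_apply' η g d (gen V) (gen A) hgen, hd0, map_zero] at h1
  have hr0 : r = 0 := by
    have h2 : algebraMap V (gen V).asIdeal.ResidueField r = 0 :=
      (map_eq_zero_iff _ (eta_injective η _)).mp h1
    haveI : IsFractionRing V (gen V).asIdeal.ResidueField :=
      inferInstanceAs (IsFractionRing V (⊥ : Ideal V).ResidueField)
    exact (IsFractionRing.injective V (gen V).asIdeal.ResidueField) (by rw [h2, map_zero])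
  -- evaluate at the closed point
  let Q : PrimeSpectrum V := ⟨IsLocalRing.maximalIdeal V, inferInstance⟩
  have hQ : p.asIdeal = Q.asIdeal.comap g := hcomap.symm
  have h3 := congrFun hr Q
  rw [hr0, map_zero, Nmap_apply' η g d Q p hQ] at h3
  exact (map_eq_zero_iff _ (map_injective η _)).mp h3.symm

lemma t_injective_of_isDomain : Function.Injective (η.t A) := by
  intro a b hab
  have h1 := congrFun hab (gen A)
  rw [t_apply, t_apply] at h1
  have h2 := eta_injective η _ h1
  haveI : IsFractionRing A (gen A).asIdeal.ResidueField :=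
    inferInstanceAs (IsFractionRing A (⊥ : Ideal A).ResidueField)
  exact IsFractionRing.injective A (gen A).asIdeal.ResidueField h2

lemma isIntegral_of_isIntegral_range {A L : Type*} [CommRing A] [CommRing L] [Nontrivial L]
    [Algebra A L] {y : L} (hy : IsIntegral (algebraMap A L).range y) : IsIntegral A y := by
  obtain ⟨P, hP, hPy⟩ := hy
  have hmem : P ∈ Polynomial.lifts (algebraMap A L).rangeRestrict := by
    rw [Polynomial.mem_lifts]
    exact Polynomial.map_surjective _ (algebraMap A L).rangeRestrict_surjective P
  obtain ⟨Q, hQ, -, hQm⟩ := Polynomial.lifts_and_degree_eq_and_monic hmem hP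
  refine ⟨Q, hQm, ?_⟩
  rw [← hPy, ← hQ, Polynomial.eval₂_map]
  rfl

/-- `q_A` is bijective for an integrally closed domain with `InV A`. -/
theorem q_bijective_of_isIntegrallyClosed [IsIntegrallyClosed A] (hA : η.InV A) :
    Function.Bijective (η.q A) := by
  classical
  constructor
  · intro a b hab
    exact t_injective_of_isDomain η A (congrArg Subtype.val hab)
  · rintro ⟨x, hx⟩
    set L := (gen A).asIdeal.ResidueField with hL
    haveI : IsFractionRing A L := inferInstanceAs (IsFractionRing A (⊥ : Ideal A).ResidueField)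
    have hbij := (inV_iff_gen η A).mp hA
    obtain ⟨a, ha⟩ := hbij.2 (x (gen A))
    -- a lies in A
    have haA : a ∈ (algebraMap A L).range := by
      by_contra hnot
      haveI : IsIntegrallyClosedIn (algebraMap A L).range L := by
        rw [Subring.isIntegrallyClosedIn_iff]
        intro y hy
        exact IsIntegrallyClosed.isIntegral_iff.mp (isIntegral_of_isIntegral_range hy)
      obtain ⟨V, hRV, haV⟩ := Subring.exists_le_valuationSubring_of_isIntegrallyClosedIn hnot
      have hV : ∀ a', algebraMap A L a' ∈ V.toSubring := fun a' => hRV ⟨a', rfl⟩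
      set g : A →+* V := (algebraMap A L).codRestrict V.toSubring hV with hg
      have hginj : Function.Injective g := by
        intro a₁ a₂ hab
        exact IsFractionRing.injective A L (congrArg Subtype.val hab)
      have hVin : η.InV V :=
        eta_bijective_of_equiv η (FractionRing.algEquiv V L).toRingEquiv.symm hbij
      obtain ⟨r, hr⟩ := hx V hVin g
      have hgen : (gen A).asIdeal = (gen V).asIdeal.comap g := by
        change (⊥ : Ideal A) = Ideal.comap g ⊥
        rw [← RingHom.ker_eq_comap_bot, (RingHom.injective_iff_ker_eq_bot g).mp hginj]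
      have h1 := congrFun hr (gen V)
      rw [t_apply, Nmap_apply' η g x (gen V) (gen A) hgen, ← ha] at h1
      have hnat := congrArg (fun h => h a) (congrArg DFunLike.coe
        (η.eta_natural (rm g (gen A) (gen V) hgen)))
      simp only [RingHom.comp_apply] at hnat
      rw [hnat] at h1
      have h2 : algebraMap V (gen V).asIdeal.ResidueField r = rm g (gen A) (gen V) hgen a :=
        eta_injective η _ h1
      haveI : IsFractionRing V (gen V).asIdeal.ResidueField :=
        inferInstanceAs (IsFractionRing V (⊥ : Ideal V).ResidueField)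
      let ψ : (gen V).asIdeal.ResidueField ≃ₐ[V] L :=
        IsLocalization.algEquiv (nonZeroDivisors V) (gen V).asIdeal.ResidueField L
      have hψ : ((ψ : (gen V).asIdeal.ResidueField →+* L)).comp (rm g (gen A) (gen V) hgen) =
          RingHom.id L := by
        apply Ideal.ResidueField.ringHom_ext
        ext a'
        simp only [RingHom.comp_apply, rm_algebraMap]
        have : ψ (algebraMap V _ (g a')) = algebraMap V L (g a') := ψ.commutes (g a')
        exact this
      have h3 : a = ψ (algebraMap V _ r) := by
        rw [h2]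
        exact (congrArg (fun h => h a) (congrArg DFunLike.coe hψ)).symm
      have h4 : ψ (algebraMap V _ r) = algebraMap V L r := ψ.commutes r
      apply haV
      rw [h3, h4]
      exact r.2
    obtain ⟨a₀, ha₀⟩ := haA
    refine ⟨a₀, Subtype.ext ?_⟩
    apply genProj_injOn η A hA (η.t_mem_M A a₀) hx
    change η.t A a₀ (gen A) = x (gen A)
    rw [t_apply, ha₀, ha]

end domination

section integral

variable {A B : Type u} [CommRing A] [CommRing B]

/-- If `Nmap f` is injective, then `Spec f` is surjective. -/
lemma comap_surjective_of_Nmap_injective (f : A →+* B) (hN : Function.Injective (η.Nmap f)) :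
    Function.Surjective (PrimeSpectrum.comap f) := by
  classical
  intro p'
  by_contra hcon
  push Not at hcon
  let x : η.N A := Function.update 0 p' 1
  have hx : η.Nmap f x = η.Nmap f 0 := by
    funext q
    rw [Nmap_apply, Nmap_apply]
    have : x (PrimeSpectrum.comap f q) = 0 := by
      simp only [x]
      rw [Function.update_of_ne (hcon q)]
      rfl
    rw [this]
    rfl
  have h0 := congrFun (hN hx) p'
  simp only [x, Function.update_self] at h0
  exact one_ne_zero h0

/-- If `Nmap f` is surjective, each `F(κ(p)) → F(κ(q))` is surjective. -/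
lemma map_rm_surjective_of_Nmap_surjective (f : A →+* B) (hN : Function.Surjective (η.Nmap f))
    (p : PrimeSpectrum A) (q : PrimeSpectrum B) (h : p.asIdeal = q.asIdeal.comap f) :
    Function.Surjective (η.map (rm f p q h)) := by
  classical
  intro y
  let Y : η.N B := Function.update 0 q y
  obtain ⟨X, hX⟩ := hN Y
  refine ⟨X p, ?_⟩
  rw [← Nmap_apply' η f X q p h, hX]
  simp [Y]

lemma map_rm_bijective_of_Nmap_surjective (f : A →+* B) (hN : Function.Surjective (η.Nmap f))
    (p : PrimeSpectrum A) (q : PrimeSpectrum B) (h : p.asIdeal = q.asIdeal.comap f) :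
    Function.Bijective (η.map (rm f p q h)) :=
  ⟨map_injective η _, map_rm_surjective_of_Nmap_surjective η f hN p q h⟩

/-- Integral maps with `N(f)` bijective: maps to valuation rings in `V_η` factor. -/
theorem exists_factor_of_isIntegral_of_bijective_Nmap (f : A →+* B) (hf : f.IsIntegral)
    (hN : Function.Bijective (η.Nmap f))
    (R : Type u) [CommRing R] [IsDomain R] [ValuationRing R] (hR : η.InV R) (g : A →+* R) :
    ∃ g' : B →+* R, g'.comp f = g := by
  classical
  set p' : PrimeSpectrum A := PrimeSpectrum.comap g (gen R) with hp'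
  obtain ⟨q, hq⟩ := comap_surjective_of_Nmap_injective η f hN.1 p'
  have h : p'.asIdeal = q.asIdeal.comap f := congrArg PrimeSpectrum.asIdeal hq.symm
  have hφ := map_rm_bijective_of_Nmap_surjective η f hN.2 p' q h
  set L := (gen R).asIdeal.ResidueField with hL
  haveI : IsFractionRing R L := inferInstanceAs (IsFractionRing R (⊥ : Ideal R).ResidueField)
  have hbij := (inV_iff_gen η R).mp hR
  let φe : η.obj p'.asIdeal.ResidueField ≃+* η.obj q.asIdeal.ResidueField :=
    RingEquiv.ofBijective (η.map (rm f p' q h)) hφ
  let ηLe : L ≃+* η.obj L := RingEquiv.ofBijective (η.eta L) hbij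
  let σ₀ : p'.asIdeal.ResidueField →+* L := rm g p' (gen R) rfl
  let τ : q.asIdeal.ResidueField →+* L :=
    (ηLe.symm : η.obj L →+* L).comp ((η.map σ₀).comp
      ((φe.symm : η.obj q.asIdeal.ResidueField →+* η.obj p'.asIdeal.ResidueField).comp
        (η.eta q.asIdeal.ResidueField)))
  have hτ : ∀ a : p'.asIdeal.ResidueField, τ (rm f p' q h a) = σ₀ a := by
    intro a
    have h1 : η.eta q.asIdeal.ResidueField (rm f p' q h a) = φe (η.eta _ a) :=
      (congrArg (fun k => k a) (congrArg DFunLike.coe (η.eta_natural (rm f p' q h)))).symm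
    have h2 : η.map σ₀ (η.eta _ a) = ηLe (σ₀ a) :=
      congrArg (fun k => k a) (congrArg DFunLike.coe (η.eta_natural σ₀))
    simp only [τ, RingHom.comp_apply, RingHom.coe_coe, h1, RingEquiv.symm_apply_apply, h2]
  let g'' : B →+* L := τ.comp (algebraMap B q.asIdeal.ResidueField)
  have hg'' : ∀ a : A, g'' (f a) = algebraMap R L (g a) := by
    intro a
    simp only [g'', RingHom.comp_apply]
    rw [← rm_algebraMap f p' q h a, hτ]
    exact rm_algebraMap g p' (gen R) rfl a
  have hmem : ∀ b : B, g'' b ∈ (algebraMap R L).range := by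
    intro b
    obtain ⟨P, hP, hPb⟩ := hf b
    have hint : IsIntegral R (g'' b) := by
      refine ⟨P.map g, hP.map g, ?_⟩
      rw [Polynomial.eval₂_map]
      have h1 : (algebraMap R L).comp g = g''.comp f := by
        ext a; exact (hg'' a).symm
      rw [h1, ← Polynomial.hom_eval₂, hPb, map_zero]
    exact IsIntegrallyClosed.isIntegral_iff.mp hint
  let e : R ≃+* (algebraMap R L).range :=
    RingEquiv.ofBijective (algebraMap R L).rangeRestrict
      ⟨fun a b hab => IsFractionRing.injective R L (congrArg Subtype.val hab),
        (algebraMap R L).rangeRestrict_surjective⟩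
  let g' : B →+* R := (e.symm : (algebraMap R L).range →+* R).comp
    (g''.codRestrict (algebraMap R L).range hmem)
  have hg' : ∀ b, algebraMap R L (g' b) = g'' b := by
    intro b
    have : e (g' b) = g''.codRestrict (algebraMap R L).range hmem b := by
      simp only [g', RingHom.comp_apply, RingHom.coe_coe, RingEquiv.apply_symm_apply]
    exact congrArg Subtype.val this
  refine ⟨g', ?_⟩
  ext a
  apply IsFractionRing.injective R L
  rw [RingHom.comp_apply, hg', hg'']

/-- `N(f)` restricts to a bijection `M(A) → M(B)` for integral `f` with `N(f)` bijective. -/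
theorem bijOn_Nmap_M (f : A →+* B) (hf : f.IsIntegral) (hN : Function.Bijective (η.Nmap f)) :
    Set.BijOn (η.Nmap f) (η.M A) (η.M B) := by
  refine ⟨fun x hx => Nmap_mem_M η f hx, hN.1.injOn, ?_⟩
  intro y hy
  obtain ⟨x, rfl⟩ := hN.2 y
  refine ⟨x, ?_, rfl⟩
  intro R _ _ _ hR g
  obtain ⟨g', rfl⟩ := exists_factor_of_isIntegral_of_bijective_Nmap η f hf hN R hR g
  rw [Nmap_comp]
  exact hy R hR g'

end integral

section general

/-- `η` at `F K` is `F(η_K)`. -/
lemma eta_obj (K : Type u) [Field K] : η.eta (η.obj K) = η.map (η.eta K) := by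
  ext x
  obtain ⟨n, z, hz⟩ := η.exists_pow_mem_range_eta K x
  apply pow_expChar_inj ((η.eta (η.obj K)).comp (η.eta K)) n
  rw [← map_pow, ← map_pow, ← hz]
  exact (congrArg (fun k => k z) (congrArg DFunLike.coe (η.eta_natural (η.eta K)))).symm

lemma eta_obj_bijective (K : Type u) [Field K] : Function.Bijective (η.eta (η.obj K)) := by
  rw [eta_obj]
  exact η.bijective_map_eta K

/-- For a domain `D` embedded in a field `K'` and a prime `p` of `D` there is a valuation subring
of `K'` containing `D` with closed point over `p`. -/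
lemma exists_valuationSubring_over' {D : Type u} [CommRing D] {K' : Type u} [Field K']
    (ι : D →+* K') (hι : Function.Injective ι) (p : PrimeSpectrum D) :
    ∃ (V : ValuationSubring K') (hV : ∀ a, ι a ∈ V.toSubring),
      Ideal.comap (ι.codRestrict V.toSubring hV) (IsLocalRing.maximalIdeal V) = p.asIdeal := by
  classical
  have hunits : ∀ y : p.asIdeal.primeCompl, IsUnit (ι y) := by
    intro y
    apply IsUnit.mk0
    intro h0
    have : (y : D) = 0 := hι (by rw [h0, map_zero])
    exact y.2 (by rw [this]; exact p.asIdeal.zero_mem)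
  let f : Localization.AtPrime p.asIdeal →+* K' :=
    IsLocalization.lift (M := p.asIdeal.primeCompl) hunits
  have hf : ∀ a, f (algebraMap D _ a) = ι a := fun a => IsLocalization.lift_eq hunits a
  obtain ⟨V, h, hloc⟩ := IsLocalRing.exists_factor_valuationRing f
  have hV : ∀ a, ι a ∈ V.toSubring := fun a => by rw [← hf]; exact h _
  refine ⟨V, hV, ?_⟩
  ext x
  rw [Ideal.mem_comap, IsLocalRing.mem_maximalIdeal, mem_nonunits_iff]
  have hx : ι.codRestrict V.toSubring hV x =
      f.codRestrict V.toSubring h (algebraMap D _ x) := Subtype.ext (hf x).symm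
  rw [hx]
  have hiff : IsUnit (f.codRestrict V.toSubring h (algebraMap D _ x)) ↔
      IsUnit (algebraMap D (Localization.AtPrime p.asIdeal) x) :=
    ⟨fun hu => hloc.map_nonunit _ hu, fun hu => hu.map _⟩
  rw [hiff, IsLocalization.AtPrime.isUnit_to_map_iff (Localization.AtPrime p.asIdeal) p.asIdeal x]
  simp [Ideal.primeCompl]

/-- valuation subrings of a field at which `η` is bijective are in `V_η`. -/
lemma inV_valuationSubring' {K' : Type u} [Field K'] (hK : Function.Bijective (η.eta K'))
    (V : ValuationSubring K') : η.InV V :=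
  eta_bijective_of_equiv η (FractionRing.algEquiv V K').toRingEquiv.symm hK

end general

end Groth.Agent.Lib.Helper22.EtaBasic
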