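import Mathlib
import Groth.Agent.Lib.Helper22.EtaBasic

/-!
# `M(R)` for a valuation ring `R` (EtaPt)
-/

namespace Groth.Agent.Lib.Helper22.EtaVal

open EtaPt Groth.Agent.Lib.Helper22.EtaBasic

universe u

variable (η : FieldEndo.{u})

section tools

lemma pow_inj_of_ringHom {R Ω : Type*} [CommRing R] [Field Ω] (φ : R →+* Ω) (e : ℕ) [he : ExpChar R e]
    (n : ℕ) {x y : Ω} (h : x ^ e ^ n = y ^ e ^ n) : x = y := by
  cases he with
  | zero => simpa using h
  | prime hp =>
    have h0 : ((e : ℕ) : Ω) = 0 := by
      have := CharP.cast_eq_zero R e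
      rw [← map_natCast φ, this, map_zero]
    haveI : CharP Ω e := (CharP.charP_iff_prime_eq_zero hp).mpr h0
    haveI : ExpChar Ω e := ExpChar.prime hp
    exact iterateFrobenius_inj Ω e n h

lemma isIntegralElem_of_isIntegral_range {A L : Type*} [CommRing A] [CommRing L] [Nontrivial L]
    (ι : A →+* L) {y : L} (hy : IsIntegral ι.range y) : ι.IsIntegralElem y := by
  obtain ⟨P, hP, hPy⟩ := hy
  have hmem : P ∈ Polynomial.lifts ι.rangeRestrict := by
    rw [Polynomial.mem_lifts]
    exact Polynomial.map_surjective _ ι.rangeRestrict_surjective P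
  obtain ⟨Q, hQ, -, hQm⟩ := Polynomial.lifts_and_degree_eq_and_monic hmem hP
  refine ⟨Q, hQm, ?_⟩
  rw [← hPy, ← hQ, Polynomial.eval₂_map]
  rfl

/-- an element lying in all valuation subrings containing the image of `ι` is integral. -/
lemma isIntegralElem_of_forall_mem_valuationSubring {A : Type*} [CommRing A] {K' : Type*} [Field K']
    (ι : A →+* K') (y : K')
    (h : ∀ V : ValuationSubring K', (∀ a, ι a ∈ V) → y ∈ V) : ι.IsIntegralElem y := by
  apply isIntegralElem_of_isIntegral_range
  have h1 : y ∈ (⨅ V : {V : ValuationSubring K' // Set.range ι ⊆ V.toSubring}, V.1.toSubring) := by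
    rw [Subring.mem_iInf]
    rintro ⟨V, hV⟩
    exact h V (fun a => hV ⟨a, rfl⟩)
  rw [iInf_valuationSubring_superset] at h1
  have h2 : IsIntegral (Subring.closure (Set.range ι)) y := h1
  have h3 : Subring.closure (Set.range ι) = ι.range := by
    rw [← RingHom.coe_range, Subring.closure_eq]
  rw [h3] at h2
  exact h2

end tools

section eval

variable {A : Type u} [CommRing A]

/-- evaluation of `x ∈ M A` on a valuation subring of a field at which `η` is bijective. -/
lemma exists_eval_valuationSubring {K' : Type u} [Field K'] (hK : Function.Bijective (η.eta K'))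
    (V : ValuationSubring K') (g : A →+* V) {x : η.N A} (hx : x ∈ η.M A) :
    ∃ r : V, η.Nmap g x = η.t V r ∧
      ∀ (P : PrimeSpectrum A) (h : P.asIdeal = (gen V).asIdeal.comap g)
        (j : P.asIdeal.ResidueField →+* K') (_ : ∀ a, j (algebraMap A _ a) = (g a : K')),
        η.eta K' (r : K') = η.map j (x P) := by
  obtain ⟨r, hr⟩ := hx V (inV_valuationSubring' η hK V) g
  refine ⟨r, hr.symm, ?_⟩
  intro P h j hj
  haveI : IsFractionRing V (gen V).asIdeal.ResidueField :=
    inferInstanceAs (IsFractionRing V (⊥ : Ideal V).ResidueField)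
  let ψ : (gen V).asIdeal.ResidueField ≃ₐ[V] K' :=
    IsLocalization.algEquiv (nonZeroDivisors V) (gen V).asIdeal.ResidueField K'
  have hψj : ((ψ : (gen V).asIdeal.ResidueField →+* K')).comp (rm g P (gen V) h) = j := by
    apply Ideal.ResidueField.ringHom_ext
    ext a
    simp only [RingHom.comp_apply, rm_algebraMap, hj]
    exact ψ.commutes (g a)
  have h1 := congrFun hr (gen V)
  rw [t_apply, Nmap_apply' η g x (gen V) P h] at h1
  have h2 := congrArg (η.map (ψ : (gen V).asIdeal.ResidueField →+* K')) h1
  have hnat := congrArg (fun k => k (algebraMap V _ r)) (congrArg DFunLike.coe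
    (η.eta_natural (ψ : (gen V).asIdeal.ResidueField →+* K')))
  simp only [RingHom.comp_apply] at hnat
  rw [hnat] at h2
  have h3 : (ψ : (gen V).asIdeal.ResidueField →+* K') (algebraMap V _ r) = (r : K') :=
    ψ.commutes r
  rw [h3] at h2
  rw [h2, ← hψj, η.map_comp]
  rfl

end eval

section domain

variable (A : Type u) [CommRing A] [IsDomain A]

/-- The generic projection is injective on `M(A)` for any domain `A`. -/
theorem genProj_injOn' : Set.InjOn (fun x : η.N A => x (gen A)) (η.M A) := by
  intro x hx y hy hxy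
  have hd : x - y ∈ η.M A := Subring.sub_mem _ hx hy
  have hd0 : (x - y) (gen A) = 0 := by
    change x (gen A) - y (gen A) = 0
    exact sub_eq_zero.mpr hxy
  suffices h : ∀ p, (x - y) p = 0 by
    funext p
    have := h p
    change x p - y p = 0 at this
    exact sub_eq_zero.mp this
  set d := x - y with hdd
  intro p
  set K := (gen A).asIdeal.ResidueField with hK
  haveI : IsFractionRing A K := inferInstanceAs (IsFractionRing A (⊥ : Ideal A).ResidueField)
  let ι : A →+* η.obj K := (η.eta K).comp (algebraMap A K)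
  have hι : Function.Injective ι := (eta_injective η K).comp (IsFractionRing.injective A K)
  obtain ⟨V, hV, hcomap⟩ := exists_valuationSubring_over' ι hι p
  set g : A →+* V := ι.codRestrict V.toSubring hV with hg
  have hginj : Function.Injective g := by
    intro a b hab
    exact hι (congrArg Subtype.val hab)
  obtain ⟨r, hr⟩ := hd V (inV_valuationSubring' η (eta_obj_bijective η K) V) g
  have hgen : (gen A).asIdeal = (gen V).asIdeal.comap g := by
    change (⊥ : Ideal A) = Ideal.comap g ⊥
    rw [← RingHom.ker_eq_comap_bot, (RingHom.injective_iff_ker_eq_bot g).mp hginj]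
  have h1 := congrFun hr (gen V)
  rw [t_apply, Nmap_apply' η g d (gen V) (gen A) hgen, hd0, map_zero] at h1
  have hr0 : r = 0 := by
    have h2 : algebraMap V (gen V).asIdeal.ResidueField r = 0 :=
      (map_eq_zero_iff _ (eta_injective η _)).mp h1
    haveI : IsFractionRing V (gen V).asIdeal.ResidueField :=
      inferInstanceAs (IsFractionRing V (⊥ : Ideal V).ResidueField)
    exact (IsFractionRing.injective V (gen V).asIdeal.ResidueField) (by rw [h2, map_zero])
  let Q : PrimeSpectrum V := ⟨IsLocalRing.maximalIdeal V, inferInstance⟩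
  have hQ : p.asIdeal = Q.asIdeal.comap g := hcomap.symm
  have h3 := congrFun hr Q
  rw [hr0, map_zero, Nmap_apply' η g d Q p hQ] at h3
  exact (map_eq_zero_iff _ (map_injective η _)).mp h3.symm

/-- generic values of elements of `M(A)` are integral over `A`. -/
theorem gen_isIntegralElem {x : η.N A} (hx : x ∈ η.M A) :
    ((η.eta (gen A).asIdeal.ResidueField).comp
      (algebraMap A (gen A).asIdeal.ResidueField)).IsIntegralElem (x (gen A)) := by
  set K := (gen A).asIdeal.ResidueField with hK
  haveI : IsFractionRing A K := inferInstanceAs (IsFractionRing A (⊥ : Ideal A).ResidueField)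
  set ι : A →+* η.obj K := (η.eta K).comp (algebraMap A K) with hι
  have hιinj : Function.Injective ι := (eta_injective η K).comp (IsFractionRing.injective A K)
  apply isIntegralElem_of_forall_mem_valuationSubring
  intro V hV
  set g : A →+* V := ι.codRestrict V.toSubring hV with hg
  have hginj : Function.Injective g := by
    intro a b hab
    exact hιinj (congrArg Subtype.val hab)
  obtain ⟨r, -, hr⟩ := exists_eval_valuationSubring η (eta_obj_bijective η K) V g hx
  have hgen : (gen A).asIdeal = (gen V).asIdeal.comap g := by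
    change (⊥ : Ideal A) = Ideal.comap g ⊥
    rw [← RingHom.ker_eq_comap_bot, (RingHom.injective_iff_ker_eq_bot g).mp hginj]
  have h1 := hr (gen A) hgen (η.eta K) (fun a => rfl)
  rw [← eta_obj] at h1
  have h2 : (r : η.obj K) = x (gen A) := eta_injective η _ h1
  rw [← h2]
  exact r.2

end domain

section valuation

variable (R : Type u) [CommRing R] [IsDomain R] [ValuationRing R]

/-- the perfectness hypothesis: fields of the characteristic of `R` at which `η` is bijective are
perfect. -/
def PerfHyp : Prop := ∀ (k : Type u) [Field k], ringChar k = ringChar R →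
  Function.Bijective (η.eta k) → PerfectField k

variable {R}

lemma exists_root (hperf : PerfHyp η R) {Ω : Type u} [Field Ω] (φ : R →+* Ω)
    (hΩ : Function.Bijective (η.eta Ω)) (e : ℕ) [he : ExpChar R e] (n : ℕ) (a : Ω) :
    ∃ w : Ω, w ^ e ^ n = a := by
  cases he with
  | zero => exact ⟨a, by simp⟩
  | prime hp =>
    have h0 : ((e : ℕ) : Ω) = 0 := by
      have := CharP.cast_eq_zero R e
      rw [← map_natCast φ, this, map_zero]
    haveI : CharP Ω e := (CharP.charP_iff_prime_eq_zero hp).mpr h0
    haveI : ExpChar Ω e := ExpChar.prime hp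
    haveI : PerfectField Ω := hperf Ω (by rw [ringChar.eq Ω e, ringChar.eq R e]) hΩ
    haveI : PerfectRing Ω e := PerfectField.toPerfectRing e
    exact (bijective_iterateFrobenius Ω e n).2 a

variable (R)

/-- integral elements of `F(Frac R)` are generic values of elements of `M(R)`. -/
theorem exists_mem_M_of_isIntegralElem (hη : η.InV R ∨ PerfHyp η R)
    (y : η.obj (gen R).asIdeal.ResidueField)
    (hy : ((η.eta (gen R).asIdeal.ResidueField).comp
      (algebraMap R (gen R).asIdeal.ResidueField)).IsIntegralElem y) :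
    ∃ x ∈ η.M R, x (gen R) = y := by
  classical
  set K := (gen R).asIdeal.ResidueField with hK
  haveI : IsFractionRing R K := inferInstanceAs (IsFractionRing R (⊥ : Ideal R).ResidueField)
  set ι : R →+* η.obj K := (η.eta K).comp (algebraMap R K) with hι
  -- general fact: if η z is integral then z ∈ R
  have hdesc : ∀ z : K, ι.IsIntegralElem (η.eta K z) → ∃ z₀ : R, algebraMap R K z₀ = z := by
    intro z hz
    obtain ⟨P, hP, hPz⟩ := hz
    have h1 : η.eta K (Polynomial.eval₂ (algebraMap R K) z P) = 0 := by
      rw [Polynomial.hom_eval₂]; exact hPz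
    have h2 : Polynomial.eval₂ (algebraMap R K) z P = 0 :=
      (map_eq_zero_iff _ (eta_injective η K)).mp h1
    exact IsIntegrallyClosed.isIntegral_iff.mp ⟨P, hP, h2⟩
  rcases hη with hV | hperf
  · have hbij := (inV_iff_gen η R).mp hV
    obtain ⟨a, rfl⟩ := hbij.2 y
    obtain ⟨z₀, rfl⟩ := hdesc a hy
    exact ⟨η.t R z₀, η.t_mem_M R z₀, rfl⟩
  · set e := ringExpChar K with he
    haveI : ExpChar R e := RingHom.expChar (algebraMap R K) (IsFractionRing.injective R K) e
    obtain ⟨n, z, hz⟩ := η.exists_pow_mem_range_eta K y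
    have hyN : ι.IsIntegralElem (y ^ e ^ n) := by
      letI : Algebra R (η.obj K) := ι.toAlgebra
      have : IsIntegral R y := hy
      exact this.pow (e ^ n)
    rw [← hz] at hyN
    obtain ⟨z₀, rfl⟩ := hdesc z hyN
    -- pointwise roots
    have hroot : ∀ p : PrimeSpectrum R, ∃ w : η.obj p.asIdeal.ResidueField,
        w ^ e ^ n = η.eta _ (algebraMap R p.asIdeal.ResidueField z₀) := fun p =>
      exists_root η hperf ((η.eta _).comp (algebraMap R p.asIdeal.ResidueField))
        (eta_obj_bijective η _) e n _
    choose x hx using hroot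
    refine ⟨x, ?_, ?_⟩
    · intro V _ _ _ hV g
      set L := (gen V).asIdeal.ResidueField with hL
      haveI : IsFractionRing V L := inferInstanceAs (IsFractionRing V (⊥ : Ideal V).ResidueField)
      have hbij := (inV_iff_gen η V).mp hV
      obtain ⟨ρ, hρ⟩ := exists_root η hperf ((algebraMap V L).comp g) hbij e n
        (algebraMap V L (g z₀))
      have hint : IsIntegral V ρ := by
        refine IsIntegral.of_pow (n := e ^ n) ?_ ?_
        · have : 0 < e := expChar_pos R e
          positivity
        · rw [hρ]; exact isIntegral_algebraMap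
      obtain ⟨r, rfl⟩ := IsIntegrallyClosed.isIntegral_iff.mp hint
      have hrN : r ^ e ^ n = g z₀ := by
        apply IsFractionRing.injective V L
        rw [map_pow, hρ]
      refine ⟨r, ?_⟩
      funext Q
      rw [t_apply, Nmap_apply]
      apply pow_inj_of_ringHom ((η.eta _).comp ((algebraMap V Q.asIdeal.ResidueField).comp g)) e n
      rw [← map_pow, ← map_pow, ← map_pow, hrN, hx, ← rm_algebraMap g (PrimeSpectrum.comap g Q) Q rfl z₀]
      exact (congrArg (fun k => k (algebraMap R _ z₀)) (congrArg DFunLike.coe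
        (η.eta_natural (rm g (PrimeSpectrum.comap g Q) Q rfl)))).symm
    · apply pow_inj_of_ringHom ι e n
      rw [hx, ← hz]

/-- if `η z` is integral over `R` then `z ∈ R`. -/
lemma exists_of_isIntegralElem_eta (z : (gen R).asIdeal.ResidueField)
    (hz : ((η.eta (gen R).asIdeal.ResidueField).comp
      (algebraMap R (gen R).asIdeal.ResidueField)).IsIntegralElem (η.eta _ z)) :
    ∃ z₀ : R, algebraMap R (gen R).asIdeal.ResidueField z₀ = z := by
  haveI : IsFractionRing R (gen R).asIdeal.ResidueField :=
    inferInstanceAs (IsFractionRing R (⊥ : Ideal R).ResidueField)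
  obtain ⟨P, hP, hPz⟩ := hz
  have h1 : η.eta _ (Polynomial.eval₂ (algebraMap R (gen R).asIdeal.ResidueField) z P) = 0 := by
    rw [Polynomial.hom_eval₂]; exact hPz
  have h2 : Polynomial.eval₂ (algebraMap R (gen R).asIdeal.ResidueField) z P = 0 :=
    (map_eq_zero_iff _ (eta_injective η _)).mp h1
  exact IsIntegrallyClosed.isIntegral_iff.mp ⟨P, hP, h2⟩

/-- the generic projection as a ring hom on `M(R)`. -/
noncomputable def gp : η.M R →+* η.obj (gen R).asIdeal.ResidueField :=
  (Pi.evalRingHom (fun p : PrimeSpectrum R => η.obj p.asIdeal.ResidueField) (gen R)).comp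
    (η.M R).subtype

lemma gp_apply (a : η.M R) : gp η R a = (a : η.N R) (gen R) := rfl

lemma gp_injective : Function.Injective (gp η R) := by
  intro a b hab
  exact Subtype.ext (genProj_injOn' η R a.2 b.2 hab)

/-- Structure of `M(R)` for a valuation ring `R`. -/
theorem M_valuationRing_structure (hη : η.InV R ∨ PerfHyp η R) :
    IsDomain (η.M R) ∧ PreValuationRing (η.M R) ∧
      (∀ y : η.obj (gen R).asIdeal.ResidueField, ∃ a b : η.M R,
        (b : η.N R) (gen R) ≠ 0 ∧ y * (b : η.N R) (gen R) = (a : η.N R) (gen R)) ∧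
      (fun x : η.N R => x (gen R)) '' (η.M R : Set (η.N R)) ∩
          Set.range (η.eta (gen R).asIdeal.ResidueField) =
        Set.range ((η.eta (gen R).asIdeal.ResidueField).comp
          (algebraMap R (gen R).asIdeal.ResidueField)) := by
  classical
  set K := (gen R).asIdeal.ResidueField with hK
  haveI : IsFractionRing R K := inferInstanceAs (IsFractionRing R (⊥ : Ideal R).ResidueField)
  set ι : R →+* η.obj K := (η.eta K).comp (algebraMap R K) with hι
  set e := ringExpChar K with he
  have hepos : 0 < e := expChar_pos K e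
  -- integrality of roots
  have hroot_int : ∀ (y : η.obj K) (N : ℕ) (c : R), 0 < N → y ^ N = ι c → ι.IsIntegralElem y := by
    intro y N c hN hyc
    letI : Algebra R (η.obj K) := ι.toAlgebra
    have : IsIntegral R y := by
      refine IsIntegral.of_pow hN ?_
      rw [hyc]
      exact isIntegral_algebraMap
    exact this
  -- every integral y has a power in ι R
  have hpow : ∀ y : η.obj K, ι.IsIntegralElem y → ∃ (n : ℕ) (z₀ : R), y ^ e ^ n = ι z₀ := by
    intro y hy
    obtain ⟨n, z, hz⟩ := η.exists_pow_mem_range_eta K y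
    have hyN : ι.IsIntegralElem (y ^ e ^ n) := by
      letI : Algebra R (η.obj K) := ι.toAlgebra
      have : IsIntegral R y := hy
      exact this.pow (e ^ n)
    rw [← hz] at hyN
    obtain ⟨z₀, rfl⟩ := exists_of_isIntegralElem_eta η R z hyN
    exact ⟨n, z₀, hz.symm⟩
  refine ⟨Function.Injective.isDomain (gp η R) (gp_injective η R), ⟨?_⟩, ?_, ?_⟩
  · -- PreValuationRing
    intro a b
    by_cases ha : gp η R a = 0
    · have : a = 0 := gp_injective η R (by rw [ha, map_zero])
      exact ⟨0, Or.inr (by rw [this, mul_zero])⟩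
    by_cases hb : gp η R b = 0
    · have : b = 0 := gp_injective η R (by rw [hb, map_zero])
      exact ⟨0, Or.inl (by rw [this, mul_zero])⟩
    obtain ⟨na, za, hza⟩ := hpow _ (gen_isIntegralElem η R a.2)
    obtain ⟨nb, zb, hzb⟩ := hpow _ (gen_isIntegralElem η R b.2)
    change (gp η R a) ^ e ^ na = ι za at hza
    change (gp η R b) ^ e ^ nb = ι zb at hzb
    -- common exponent
    have hA : (gp η R a) ^ e ^ (na + nb) = ι (za ^ e ^ nb) := by
      rw [pow_add, pow_mul, hza, map_pow]
    have hB : (gp η R b) ^ e ^ (na + nb) = ι (zb ^ e ^ na) := by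
      rw [add_comm, pow_add, pow_mul, hzb, map_pow]
    set N := e ^ (na + nb) with hN
    have hNpos : 0 < N := by positivity
    set za' := za ^ e ^ nb with hza'
    set zb' := zb ^ e ^ na with hzb'
    have hιinj : Function.Injective ι := (eta_injective η K).comp (IsFractionRing.injective R K)
    have hza0 : ι za' ≠ 0 := by rw [← hA]; exact pow_ne_zero _ ha
    have hzb0 : ι zb' ≠ 0 := by rw [← hB]; exact pow_ne_zero _ hb
    obtain ⟨c, hc | hc⟩ := ValuationRing.cond za' zb'
    · -- za' * c = zb' : b / a integral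
      have hyc : (gp η R b / gp η R a) ^ N = ι c := by
        rw [div_pow, hA, hB, ← hc, map_mul]
        field_simp
      obtain ⟨xc, hxc, hxcy⟩ := exists_mem_M_of_isIntegralElem η R hη _
        (hroot_int _ N c hNpos hyc)
      refine ⟨⟨xc, hxc⟩, Or.inl ?_⟩
      apply gp_injective η R
      rw [map_mul, gp_apply η R ⟨xc, hxc⟩]
      change gp η R a * xc (gen R) = gp η R b
      rw [hxcy]
      field_simp
    · have hyc : (gp η R a / gp η R b) ^ N = ι c := by
        rw [div_pow, hA, hB, ← hc, map_mul]
        field_simp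
      obtain ⟨xc, hxc, hxcy⟩ := exists_mem_M_of_isIntegralElem η R hη _
        (hroot_int _ N c hNpos hyc)
      refine ⟨⟨xc, hxc⟩, Or.inr ?_⟩
      apply gp_injective η R
      rw [map_mul, gp_apply η R ⟨xc, hxc⟩]
      change gp η R b * xc (gen R) = gp η R a
      rw [hxcy]
      field_simp
  · -- fraction field
    intro y
    obtain ⟨n, z, hz⟩ := η.exists_pow_mem_range_eta K y
    obtain ⟨z₁, z₂, hz₂, rfl⟩ := IsFractionRing.div_surjective (A := R) z
    have hz₂' : algebraMap R K z₂ ≠ 0 := by
      intro h0
      have : z₂ = 0 := IsFractionRing.injective R K (by rw [h0, map_zero])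
      exact (mem_nonZeroDivisors_iff_ne_zero.mp hz₂) this
    have hιz₂ : ι z₂ ≠ 0 := by
      simp only [hι, RingHom.comp_apply]
      exact (map_ne_zero_iff _ (eta_injective η K)).mpr hz₂'
    obtain ⟨N', hN'⟩ : ∃ N', e ^ n = N' + 1 := ⟨e ^ n - 1, by
      have : 0 < e ^ n := by positivity
      omega⟩
    have hint : ι.IsIntegralElem (y * ι z₂) := by
      refine hroot_int _ (e ^ n) (z₁ * z₂ ^ N') (by positivity) ?_
      rw [mul_pow, ← hz, map_mul, map_pow]
      simp only [hι, RingHom.comp_apply, map_div₀]
      rw [hN', pow_succ]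
      have hne : η.eta K (algebraMap R K z₂) ≠ 0 := hιz₂
      field_simp
    obtain ⟨xa, hxa, hxay⟩ := exists_mem_M_of_isIntegralElem η R hη _ hint
    exact ⟨⟨xa, hxa⟩, ⟨η.t R z₂, η.t_mem_M R z₂⟩, hιz₂, hxay.symm⟩
  · ext y
    constructor
    · rintro ⟨⟨x, hx, rfl⟩, ⟨a, ha⟩⟩
      have hint := gen_isIntegralElem η R hx
      simp only at ha
      rw [← ha] at hint
      obtain ⟨z₀, rfl⟩ := exists_of_isIntegralElem_eta η R a hint
      exact ⟨z₀, ha⟩
    · rintro ⟨r, rfl⟩
      exact ⟨⟨η.t R r, η.t_mem_M R r, rfl⟩, ⟨algebraMap R K r, rfl⟩⟩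

end valuation

end Groth.Agent.Lib.Helper22.EtaVal
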