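import Mathlib
import Groth.Agent.Lib.Helper22.EtaVal

/-!
# Integrality of `q_A : A → M(A)` (EtaPt)
-/

namespace Groth.Agent.Lib.Helper22.EtaInt

open EtaPt Groth.Agent.Lib.Helper22.EtaBasic Groth.Agent.Lib.Helper22.EtaVal

universe u

variable (η : FieldEndo.{u})

section

variable {A : Type u} [CommRing A]

/-- `ι_p : A → F(κ(p))`. -/
noncomputable def iota (p : PrimeSpectrum A) : A →+* η.obj p.asIdeal.ResidueField :=
  (η.eta p.asIdeal.ResidueField).comp (algebraMap A p.asIdeal.ResidueField)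

lemma ker_iota (p : PrimeSpectrum A) : RingHom.ker (iota η p) = p.asIdeal := by
  ext a
  rw [RingHom.mem_ker, iota, RingHom.comp_apply, map_eq_zero_iff _ (eta_injective η _),
    ← RingHom.mem_ker, Ideal.ker_algebraMap_residueField]

/-- For `ι : A → K'` with kernel contained in `p` there is a valuation subring of `K'` containing
`ι A` with closed point over `p`. -/
lemma exists_valuationSubring_over'' {K' : Type u} [Field K']
    (ι : A →+* K') (p : PrimeSpectrum A) (hker : RingHom.ker ι ≤ p.asIdeal) :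
    ∃ (V : ValuationSubring K') (hV : ∀ a, ι a ∈ V.toSubring),
      Ideal.comap (ι.codRestrict V.toSubring hV) (IsLocalRing.maximalIdeal V) = p.asIdeal := by
  classical
  have hunits : ∀ y : p.asIdeal.primeCompl, IsUnit (ι y) := by
    intro y
    apply IsUnit.mk0
    intro h0
    exact y.2 (hker ((RingHom.mem_ker).mpr h0))
  let f : Localization.AtPrime p.asIdeal →+* K' :=
    IsLocalization.lift (M := p.asIdeal.primeCompl) hunits
  have hf : ∀ a, f (algebraMap A _ a) = ι a := fun a => IsLocalization.lift_eq hunits a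
  obtain ⟨V, h, hloc⟩ := IsLocalRing.exists_factor_valuationRing f
  have hV : ∀ a, ι a ∈ V.toSubring := fun a => by rw [← hf]; exact h _
  refine ⟨V, hV, ?_⟩
  ext x
  rw [Ideal.mem_comap, IsLocalRing.mem_maximalIdeal, mem_nonunits_iff]
  have hx : ι.codRestrict V.toSubring hV x =
      f.codRestrict V.toSubring h (algebraMap A _ x) := Subtype.ext (hf x).symm
  rw [hx]
  have hiff : IsUnit (f.codRestrict V.toSubring h (algebraMap A _ x)) ↔
      IsUnit (algebraMap A (Localization.AtPrime p.asIdeal) x) :=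
    ⟨fun hu => hloc.map_nonunit _ hu, fun hu => hu.map _⟩
  rw [hiff, IsLocalization.AtPrime.isUnit_to_map_iff (Localization.AtPrime p.asIdeal) p.asIdeal x]
  simp [Ideal.primeCompl]

/-- for `x ∈ M A` and a valuation subring `V` of `F(κ(𝔭))` containing `ι_𝔭 A`, `x 𝔭 ∈ V` and
`N(g) x = t_V (x 𝔭)`. -/
lemma eval_at_prime {x : η.N A} (hx : x ∈ η.M A) (𝔭 : PrimeSpectrum A)
    (V : ValuationSubring (η.obj 𝔭.asIdeal.ResidueField)) (hV : ∀ a, iota η 𝔭 a ∈ V.toSubring) :
    ∃ r : V, (r : η.obj 𝔭.asIdeal.ResidueField) = x 𝔭 ∧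
      η.Nmap ((iota η 𝔭).codRestrict V.toSubring hV) x = η.t V r := by
  set g : A →+* V := (iota η 𝔭).codRestrict V.toSubring hV with hg
  obtain ⟨r, hr1, hr2⟩ := exists_eval_valuationSubring η (eta_obj_bijective η _) V g hx
  have hgen : 𝔭.asIdeal = (gen V).asIdeal.comap g := by
    change 𝔭.asIdeal = Ideal.comap g ⊥
    rw [← RingHom.ker_eq_comap_bot]
    have hk : RingHom.ker g = RingHom.ker (iota η 𝔭) := by
      ext a
      rw [RingHom.mem_ker, RingHom.mem_ker]
      constructor
      · intro h; exact congrArg Subtype.val h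
      · intro h; exact Subtype.ext h
    exact (hk.trans (ker_iota η 𝔭)).symm
  have h1 := hr2 𝔭 hgen (η.eta _) (fun a => rfl)
  rw [← eta_obj] at h1
  exact ⟨r, eta_injective η _ h1, hr1⟩

/-- values of elements of `M(A)` are integral over `A`. -/
theorem isIntegralElem_at {x : η.N A} (hx : x ∈ η.M A) (𝔭 : PrimeSpectrum A) :
    (iota η 𝔭).IsIntegralElem (x 𝔭) := by
  apply isIntegralElem_of_forall_mem_valuationSubring
  intro V hV
  obtain ⟨r, hr, -⟩ := eval_at_prime η hx 𝔭 V hV
  rw [← hr]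
  exact r.2

/-- a polynomial relation at `𝔭` propagates to all specializations. -/
theorem eval₂_eq_zero_of_le {x : η.N A} (hx : x ∈ η.M A) (𝔭 p : PrimeSpectrum A)
    (hle : 𝔭.asIdeal ≤ p.asIdeal) (P : Polynomial A)
    (hP : Polynomial.eval₂ (iota η 𝔭) (x 𝔭) P = 0) :
    Polynomial.eval₂ (iota η p) (x p) P = 0 := by
  obtain ⟨V, hV, hcomap⟩ := exists_valuationSubring_over'' (iota η 𝔭) p
    (by rw [ker_iota]; exact hle)
  set g : A →+* V := (iota η 𝔭).codRestrict V.toSubring hV with hg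
  obtain ⟨r, hr, hrt⟩ := eval_at_prime η hx 𝔭 V hV
  -- P^g(r) = 0 in V
  have h0 : Polynomial.eval₂ g r P = 0 := by
    apply Subtype.ext
    have h3 := Polynomial.hom_eval₂ P g V.toSubring.subtype r
    have h4 : V.toSubring.subtype.comp g = iota η 𝔭 := by ext a; rfl
    have h5 : V.toSubring.subtype r = x 𝔭 := hr
    rw [h4, h5, hP] at h3
    exact h3
  let Q : PrimeSpectrum V := ⟨IsLocalRing.maximalIdeal V, inferInstance⟩
  have hQ : p.asIdeal = Q.asIdeal.comap g := hcomap.symm
  have h1 := congrFun hrt Q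
  rw [t_apply, Nmap_apply' η g x Q p hQ] at h1
  -- apply P
  have hcomp : (η.map (rm g p Q hQ)).comp (iota η p) = (iota η Q).comp g := by
    ext a
    simp only [iota, RingHom.comp_apply]
    rw [← rm_algebraMap g p Q hQ a]
    exact congrArg (fun k => k (algebraMap A _ a)) (congrArg DFunLike.coe
      (η.eta_natural (rm g p Q hQ)))
  have h2 : η.map (rm g p Q hQ) (Polynomial.eval₂ (iota η p) (x p) P) = 0 := by
    rw [Polynomial.hom_eval₂, hcomp, h1]
    have := Polynomial.hom_eval₂ P g (iota η Q) r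
    rw [h0, map_zero] at this
    exact this.symm
  exact (map_eq_zero_iff _ (map_injective η _)).mp h2

/-- evaluation of a polynomial in `N A` is componentwise. -/
lemma eval₂_t_apply (x : η.N A) (P : Polynomial A) (p : PrimeSpectrum A) :
    (Polynomial.eval₂ (η.t A) x P) p = Polynomial.eval₂ (iota η p) (x p) P := by
  have := Polynomial.hom_eval₂ P (η.t A)
    (Pi.evalRingHom (fun p : PrimeSpectrum A => η.obj p.asIdeal.ResidueField) p) x
  exact this

/-- a common monic polynomial for `x ∈ M(A)` when `A` has finitely many minimal primes. -/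
theorem exists_monic_eval₂_t_eq_zero (hA : (minimalPrimes A).Finite) {x : η.N A}
    (hx : x ∈ η.M A) : ∃ P : Polynomial A, P.Monic ∧ Polynomial.eval₂ (η.t A) x P = 0 := by
  classical
  have hmin : ∀ I : Ideal A, ∃ P : Polynomial A, P.Monic ∧
      ∀ (hI : I ∈ minimalPrimes A),
        Polynomial.eval₂ (iota η ⟨I, hI.1.1⟩) (x ⟨I, hI.1.1⟩) P = 0 := by
    intro I
    by_cases hI : I ∈ minimalPrimes A
    · obtain ⟨P, hP, hPx⟩ := isIntegralElem_at η hx ⟨I, hI.1.1⟩
      exact ⟨P, hP, fun _ => hPx⟩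
    · exact ⟨1, Polynomial.monic_one, fun h => absurd h hI⟩
  choose Pf hPf1 hPf2 using hmin
  refine ⟨∏ I ∈ hA.toFinset, Pf I, Polynomial.monic_prod_of_monic _ _ (fun I _ => hPf1 I), ?_⟩
  funext p
  rw [eval₂_t_apply, Polynomial.eval₂_finset_prod]
  obtain ⟨I, hI, hIp⟩ := Ideal.exists_minimalPrimes_le (show (⊥ : Ideal A) ≤ p.asIdeal from bot_le)
  refine Finset.prod_eq_zero (i := I) (hA.mem_toFinset.mpr hI) ?_
  exact eval₂_eq_zero_of_le η hx ⟨I, hI.1.1⟩ p hIp (Pf I) (hPf2 I hI)

/-- `q_A` is integral when `A` has finitely many minimal primes. -/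
theorem q_isIntegral (hA : (minimalPrimes A).Finite) : (η.q A).IsIntegral := by
  rintro ⟨x, hx⟩
  obtain ⟨P, hP, hPx⟩ := exists_monic_eval₂_t_eq_zero η hA hx
  refine ⟨P, hP, ?_⟩
  apply Subtype.ext
  have := Polynomial.hom_eval₂ P (η.q A) (η.M A).subtype ⟨x, hx⟩
  exact this.trans hPx

end

end Groth.Agent.Lib.Helper22.EtaInt
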