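import Mathlib
import Groth.Agent.Lib.Helper22.EtaInt

/-!
# The spectrum of `M(A)` (EtaPt)
-/

namespace Groth.Agent.Lib.Helper22.EtaSpec

open EtaPt Groth.Agent.Lib.Helper22.EtaBasic Groth.Agent.Lib.Helper22.EtaVal
  Groth.Agent.Lib.Helper22.EtaInt

universe u

variable (η : FieldEndo.{u})

section

variable {A : Type u} [CommRing A]

/-- evaluation at `𝔭` on `M(A)`. -/
noncomputable def ev (𝔭 : PrimeSpectrum A) : η.M A →+* η.obj 𝔭.asIdeal.ResidueField :=
  (Pi.evalRingHom (fun p : PrimeSpectrum A => η.obj p.asIdeal.ResidueField) 𝔭).comp (η.M A).subtype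

lemma ev_apply (𝔭 : PrimeSpectrum A) (x : η.M A) : ev η 𝔭 x = (x : η.N A) 𝔭 := rfl

lemma ev_q (𝔭 : PrimeSpectrum A) (a : A) : ev η 𝔭 (η.q A a) = iota η 𝔭 a := rfl

/-- the prime `Q_𝔭 = ker ev_𝔭` of `M(A)`. -/
noncomputable def Qp (𝔭 : PrimeSpectrum A) : PrimeSpectrum (η.M A) :=
  ⟨RingHom.ker (ev η 𝔭), RingHom.ker_isPrime _⟩

lemma comap_Qp (𝔭 : PrimeSpectrum A) : 𝔭.asIdeal = (Qp η 𝔭).asIdeal.comap (η.q A) := by
  ext a
  change a ∈ 𝔭.asIdeal ↔ ev η 𝔭 (η.q A a) = 0
  rw [ev_q, ← RingHom.mem_ker, ker_iota]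

/-- the embedding `κ(Q_𝔭) → F(κ(𝔭))`. -/
noncomputable def eps (𝔭 : PrimeSpectrum A) :
    (Qp η 𝔭).asIdeal.ResidueField →+* η.obj 𝔭.asIdeal.ResidueField :=
  Ideal.ResidueField.lift (Qp η 𝔭).asIdeal (ev η 𝔭) (le_refl _) (by
    intro x hx
    change IsUnit (ev η 𝔭 x)
    apply IsUnit.mk0
    intro h0
    exact hx ((RingHom.mem_ker).mpr h0))

lemma eps_algebraMap (𝔭 : PrimeSpectrum A) (x : η.M A) :
    eps η 𝔭 (algebraMap _ _ x) = (x : η.N A) 𝔭 :=
  Ideal.ResidueField.lift_algebraMap _ _ _ _ x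

lemma eps_comp_rm (𝔭 : PrimeSpectrum A) :
    (eps η 𝔭).comp (rm (η.q A) 𝔭 (Qp η 𝔭) (comap_Qp η 𝔭)) = η.eta _ := by
  apply Ideal.ResidueField.ringHom_ext
  ext a
  simp only [RingHom.comp_apply, rm_algebraMap]
  rw [eps_algebraMap]
  rfl

/-- `(*)` at the primes `Q_𝔭`. -/
lemma Nmap_q_eq_t_at_Qp {x : η.N A} (hx : x ∈ η.M A) (𝔭 : PrimeSpectrum A) :
    η.Nmap (η.q A) x (Qp η 𝔭) = η.t (η.M A) ⟨x, hx⟩ (Qp η 𝔭) := by
  rw [Nmap_apply' η (η.q A) x (Qp η 𝔭) 𝔭 (comap_Qp η 𝔭), t_apply]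
  apply map_injective η (eps η 𝔭)
  have h1 : η.map (eps η 𝔭) (η.map (rm (η.q A) 𝔭 (Qp η 𝔭) (comap_Qp η 𝔭)) (x 𝔭)) =
      η.eta _ (x 𝔭) := by
    have := congrArg (fun k => k (x 𝔭)) (congrArg DFunLike.coe
      (η.map_comp (rm (η.q A) 𝔭 (Qp η 𝔭) (comap_Qp η 𝔭)) (eps η 𝔭)))
    simp only [RingHom.comp_apply] at this
    rw [← this, eps_comp_rm, ← eta_obj]
  have h2 : η.map (eps η 𝔭) (η.eta _ (algebraMap (η.M A) _ ⟨x, hx⟩)) = η.eta _ (x 𝔭) := by
    have := congrArg (fun k => k (algebraMap (η.M A) _ ⟨x, hx⟩)) (congrArg DFunLike.coe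
      (η.eta_natural (eps η 𝔭)))
    simp only [RingHom.comp_apply] at this
    rw [this, eps_algebraMap]
  rw [h1, h2]

/-- vanishing propagates to specializations. -/
lemma eq_zero_of_le {x : η.N A} (hx : x ∈ η.M A) (𝔭 p : PrimeSpectrum A)
    (hle : 𝔭.asIdeal ≤ p.asIdeal) (h0 : x 𝔭 = 0) : x p = 0 := by
  have := eval₂_eq_zero_of_le η hx 𝔭 p hle Polynomial.X (by rw [Polynomial.eval₂_X]; exact h0)
  rwa [Polynomial.eval₂_X] at this

/-- an element of `M(A)` vanishing at all minimal primes is zero. -/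
lemma eq_zero_of_minimalPrimes {x : η.N A} (hx : x ∈ η.M A)
    (h0 : ∀ (I : Ideal A) (hI : I ∈ minimalPrimes A), x ⟨I, hI.1.1⟩ = 0) : x = 0 := by
  funext p
  obtain ⟨I, hI, hIp⟩ := Ideal.exists_minimalPrimes_le (show (⊥ : Ideal A) ≤ p.asIdeal from bot_le)
  exact eq_zero_of_le η hx ⟨I, hI.1.1⟩ p hIp (h0 I hI)

/-- every prime of `M(A)` contains some `Q_𝔭` (finitely many minimal primes). -/
lemma exists_Qp_le (hA : (minimalPrimes A).Finite) (Q : PrimeSpectrum (η.M A)) :
    ∃ 𝔭 : PrimeSpectrum A, (Qp η 𝔭).asIdeal ≤ Q.asIdeal := by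
  classical
  let f : Ideal A → Ideal (η.M A) := fun I =>
    if h : I.IsPrime then (Qp η ⟨I, h⟩).asIdeal else ⊤
  have hinf : hA.toFinset.inf f ≤ Q.asIdeal := by
    intro x hx
    rw [Submodule.mem_finsetInf] at hx
    have hx0 : (x : η.N A) = 0 := by
      apply eq_zero_of_minimalPrimes η x.2
      intro I hI
      have := hx I (hA.mem_toFinset.mpr hI)
      simp only [f, dif_pos hI.1.1] at this
      exact this
    have : x = 0 := Subtype.ext hx0
    rw [this]
    exact Q.asIdeal.zero_mem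
  obtain ⟨I, hI, hIQ⟩ := (Ideal.IsPrime.inf_le' Q.isPrime).mp hinf
  have hIp : I.IsPrime := (hA.mem_toFinset.mp hI).1.1
  simp only [f, dif_pos hIp] at hIQ
  exact ⟨⟨I, hIp⟩, hIQ⟩

/-- `(*)`: `N(q_A) x = t_{M(A)} x` for `x ∈ M(A)`. -/
theorem Nmap_q_eq_t (hA : (minimalPrimes A).Finite) {x : η.N A} (hx : x ∈ η.M A) :
    η.Nmap (η.q A) x = η.t (η.M A) ⟨x, hx⟩ := by
  have hw : η.Nmap (η.q A) x - η.t (η.M A) ⟨x, hx⟩ ∈ η.M (η.M A) :=
    Subring.sub_mem _ (Nmap_mem_M η (η.q A) hx) (η.t_mem_M _ _)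
  rw [← sub_eq_zero]
  funext Q
  obtain ⟨𝔭, h𝔭⟩ := exists_Qp_le η hA Q
  apply eq_zero_of_le η hw (Qp η 𝔭) Q h𝔭
  change η.Nmap (η.q A) x (Qp η 𝔭) - η.t (η.M A) ⟨x, hx⟩ (Qp η 𝔭) = 0
  rw [Nmap_q_eq_t_at_Qp η hx 𝔭, sub_self]

/-- membership in a prime of `M(A)` is detected by the value at the contracted prime. -/
lemma mem_iff_eval_eq_zero (hA : (minimalPrimes A).Finite) (Q : PrimeSpectrum (η.M A))
    (x : η.M A) : x ∈ Q.asIdeal ↔ (x : η.N A) (PrimeSpectrum.comap (η.q A) Q) = 0 := by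
  have h1 := congrFun (Nmap_q_eq_t η hA x.2) Q
  rw [Nmap_apply, t_apply] at h1
  rw [← Ideal.algebraMap_residueField_eq_zero, ← map_eq_zero_iff _ (eta_injective η _)]
  change _ ↔ (x : η.N A) (PrimeSpectrum.comap (η.q A) Q) = 0
  rw [← map_eq_zero_iff _ (map_injective η (rm (η.q A) (PrimeSpectrum.comap (η.q A) Q) Q rfl)), h1]

lemma eq_Qp_comap (hA : (minimalPrimes A).Finite) (Q : PrimeSpectrum (η.M A)) :
    Q = Qp η (PrimeSpectrum.comap (η.q A) Q) := by
  apply PrimeSpectrum.ext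
  ext x
  rw [mem_iff_eval_eq_zero η hA Q x]
  rfl

/-- `Spec q_A` is bijective, with the residue field factorization. -/
theorem comap_q_bijective_and_factor (hA : (minimalPrimes A).Finite) :
    Function.Bijective (PrimeSpectrum.comap (η.q A)) ∧
      ∀ Q : PrimeSpectrum (η.M A),
        ∃ φ : Q.asIdeal.ResidueField →+* η.obj (PrimeSpectrum.comap (η.q A) Q).asIdeal.ResidueField,
          φ.comp (Ideal.ResidueField.map (PrimeSpectrum.comap (η.q A) Q).asIdeal Q.asIdeal
            (η.q A) rfl) = η.eta (PrimeSpectrum.comap (η.q A) Q).asIdeal.ResidueField := by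
  refine ⟨⟨?_, ?_⟩, ?_⟩
  · intro Q₁ Q₂ h
    rw [eq_Qp_comap η hA Q₁, eq_Qp_comap η hA Q₂, h]
  · intro p
    exact ⟨Qp η p, PrimeSpectrum.ext (comap_Qp η p).symm⟩
  · intro Q
    set p := PrimeSpectrum.comap (η.q A) Q with hp
    have hQ : Q.asIdeal ≤ RingHom.ker (ev η p) := by
      intro x hx
      exact (mem_iff_eval_eq_zero η hA Q x).mp hx
    have hunits : Q.asIdeal.primeCompl ≤ (IsUnit.submonoid _).comap (ev η p) := by
      intro x hx
      change IsUnit (ev η p x)
      apply IsUnit.mk0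
      intro h0
      exact hx ((mem_iff_eval_eq_zero η hA Q x).mpr h0)
    refine ⟨Ideal.ResidueField.lift Q.asIdeal (ev η p) hQ hunits, ?_⟩
    apply Ideal.ResidueField.ringHom_ext
    ext a
    simp only [RingHom.comp_apply]
    rw [Ideal.ResidueField.map_algebraMap, Ideal.ResidueField.lift_algebraMap]
    rfl

/-- `F(κ(𝔭)) → F(κ(Q_𝔭))` is bijective. -/
lemma map_rm_Qp_bijective (𝔭 : PrimeSpectrum A) :
    Function.Bijective (η.map (rm (η.q A) 𝔭 (Qp η 𝔭) (comap_Qp η 𝔭))) := by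
  refine ⟨map_injective η _, ?_⟩
  have hcomp : (η.map (eps η 𝔭)).comp (η.map (rm (η.q A) 𝔭 (Qp η 𝔭) (comap_Qp η 𝔭))) =
      η.map (η.eta _) := by
    rw [← η.map_comp, eps_comp_rm]
  intro y
  obtain ⟨z, hz⟩ := (η.bijective_map_eta _).2 (η.map (eps η 𝔭) y)
  refine ⟨z, ?_⟩
  apply map_injective η (eps η 𝔭)
  rw [← hz]
  exact congrArg (fun k => k z) (congrArg DFunLike.coe hcomp)

/-- `N(q_A)` is bijective. -/
theorem Nmap_q_bijective (hA : (minimalPrimes A).Finite) :
    Function.Bijective (η.Nmap (η.q A)) := by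
  constructor
  · intro x x' h
    funext p
    have h1 := congrFun h (Qp η p)
    rw [Nmap_apply' η (η.q A) x (Qp η p) p (comap_Qp η p),
      Nmap_apply' η (η.q A) x' (Qp η p) p (comap_Qp η p)] at h1
    exact map_injective η _ h1
  · intro w
    choose x hx using fun p => (map_rm_Qp_bijective η p).2 (w (Qp η p))
    refine ⟨x, funext fun Q => ?_⟩
    have key : ∀ (Q : PrimeSpectrum (η.M A)) (p : PrimeSpectrum A)
        (h : p.asIdeal = Q.asIdeal.comap (η.q A)) (_ : Q = Qp η p),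
        η.map (rm (η.q A) p Q h) (x p) = w Q := by
      intro Q p h hQp
      subst hQp
      exact hx p
    rw [Nmap_apply]
    exact key Q _ rfl (eq_Qp_comap η hA Q)

/-- `t_B` is injective for reduced `B`. -/
lemma t_injective_of_isReduced (B : Type u) [CommRing B] [IsReduced B] :
    Function.Injective (η.t B) := by
  rw [injective_iff_map_eq_zero]
  intro b hb
  have hmem : b ∈ nilradical B := by
    rw [nilradical_eq_sInf, Ideal.mem_sInf]
    intro I hI
    haveI : I.IsPrime := hI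
    have h1 := congrFun hb ⟨I, hI⟩
    rw [t_apply] at h1
    have h2 : algebraMap B (Ideal.ResidueField I) b = 0 :=
      (map_eq_zero_iff _ (eta_injective η _)).mp h1
    exact Ideal.algebraMap_residueField_eq_zero.mp h2
  rw [nilradical_eq_zero B] at hmem
  exact hmem

instance isReduced_N : IsReduced (η.N A) := by
  unfold FieldEndo.N
  infer_instance

instance isReduced_M : IsReduced (η.M A) :=
  isReduced_of_injective (η.M A).subtype Subtype.val_injective

/-- `q_{M(A)}` is bijective. -/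
theorem q_M_bijective (hA : (minimalPrimes A).Finite) : Function.Bijective (η.q (η.M A)) := by
  constructor
  · intro a b hab
    exact t_injective_of_isReduced η (η.M A) (congrArg Subtype.val hab)
  · rintro ⟨w, hw⟩
    obtain ⟨x, hx, rfl⟩ := (bijOn_Nmap_M η (η.q A) (q_isIntegral η hA)
      (Nmap_q_bijective η hA)).surjOn hw
    exact ⟨⟨x, hx⟩, Subtype.ext (Nmap_q_eq_t η hA hx).symm⟩

/-- integral maps out of `M(A)` to reduced rings with `N(f)` bijective are bijective. -/
theorem bijective_of_isIntegral_of_bijective_Nmap (hA : (minimalPrimes A).Finite)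
    (B : Type u) [CommRing B] [IsReduced B] (f : η.M A →+* B) (hf : f.IsIntegral)
    (hN : Function.Bijective (η.Nmap f)) : Function.Bijective f := by
  constructor
  · rw [injective_iff_map_eq_zero]
    intro a ha
    have hsurj := comap_surjective_of_Nmap_injective η f hN.1
    have hmem : a ∈ nilradical (η.M A) := by
      rw [nilradical_eq_sInf, Ideal.mem_sInf]
      intro I hI
      obtain ⟨Q', hQ'⟩ := hsurj ⟨I, hI⟩
      have : a ∈ (PrimeSpectrum.comap f Q').asIdeal := by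
        change f a ∈ Q'.asIdeal
        rw [ha]; exact Q'.asIdeal.zero_mem
      rw [hQ'] at this
      exact this
    rw [nilradical_eq_zero] at hmem
    exact hmem
  · intro b
    obtain ⟨w, hw, hwb⟩ := (bijOn_Nmap_M η f hf hN).surjOn (η.t_mem_M B b)
    obtain ⟨x, hx⟩ := (q_M_bijective η hA).2 ⟨w, hw⟩
    have hx' : η.t (η.M A) x = w := congrArg Subtype.val hx
    refine ⟨x, ?_⟩
    apply t_injective_of_isReduced η B
    rw [← η.Nmap_t_apply f x, hx', hwb]

end

section uniqueness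

variable {A B : Type u} [CommRing A] [CommRing B]

/-- If `N(g)` is surjective then `Spec g` is injective. -/
lemma comap_injective_of_Nmap_surjective (g : A →+* B) (hN : Function.Surjective (η.Nmap g)) :
    Function.Injective (PrimeSpectrum.comap g) := by
  classical
  intro q₁ q₂ h
  by_contra hne
  let w : η.N B := Function.update 0 q₁ 1
  obtain ⟨x, hx⟩ := hN w
  have h1 := congrFun hx q₁
  have h2 := congrFun hx q₂
  have hw1 : w q₁ = 1 := by simp [w]
  have hw2 : w q₂ = 0 := by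
    simp only [w]
    rw [Function.update_of_ne (Ne.symm hne)]
    rfl
  rw [hw1, Nmap_apply' η g x q₁ (PrimeSpectrum.comap g q₁) rfl] at h1
  rw [hw2, Nmap_apply' η g x q₂ (PrimeSpectrum.comap g q₁)
    (show (PrimeSpectrum.comap g q₁).asIdeal = q₂.asIdeal.comap g from
      congrArg PrimeSpectrum.asIdeal h)] at h2
  have hx0 : x (PrimeSpectrum.comap g q₁) = 0 :=
    (map_eq_zero_iff _ (map_injective η _)).mp h2
  rw [hx0, map_zero] at h1
  exact zero_ne_one h1

/-- residue field extensions along `g` with `N(g)` surjective are purely inseparable, in the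
following explicit form. -/
lemma exists_pow_mul_sub_mem (g : A →+* B) (hN : Function.Surjective (η.Nmap g))
    (q : PrimeSpectrum B) (b : B) :
    ∃ (n : ℕ) (a s : A), s ∉ (PrimeSpectrum.comap g q).asIdeal ∧
      b ^ (ringExpChar (PrimeSpectrum.comap g q).asIdeal.ResidueField) ^ n * g s - g a
        ∈ q.asIdeal := by
  set p' := PrimeSpectrum.comap g q with hp'
  obtain ⟨y, hy⟩ := map_rm_surjective_of_Nmap_surjective η g hN p' q rfl
    (η.eta _ (algebraMap B q.asIdeal.ResidueField b))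
  obtain ⟨n, z, hz⟩ := η.exists_pow_mem_range_eta _ y
  obtain ⟨z₁, z₂, hz₂, rfl⟩ := IsFractionRing.div_surjective (A := A ⧸ p'.asIdeal) z
  obtain ⟨a, rfl⟩ := Ideal.Quotient.mk_surjective z₁
  obtain ⟨s, rfl⟩ := Ideal.Quotient.mk_surjective z₂
  have hs : s ∉ p'.asIdeal := by
    intro hs
    have : (Ideal.Quotient.mk p'.asIdeal s) = 0 := Ideal.Quotient.eq_zero_iff_mem.mpr hs
    rw [this] at hz₂
    exact zero_notMem_nonZeroDivisors hz₂
  refine ⟨n, a, s, hs, ?_⟩
  set N := ringExpChar p'.asIdeal.ResidueField ^ n with hN'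
  -- in κ(q): alg(b)^N = rm (alg a / alg s)
  have h1 : η.eta _ (algebraMap B q.asIdeal.ResidueField b ^ N) =
      η.eta _ (rm g p' q rfl (algebraMap (A ⧸ p'.asIdeal) _ (Ideal.Quotient.mk _ a) /
        algebraMap (A ⧸ p'.asIdeal) _ (Ideal.Quotient.mk _ s))) := by
    rw [map_pow, ← hy, ← map_pow, ← hz]
    exact congrArg (fun k => k (algebraMap (A ⧸ p'.asIdeal) _ (Ideal.Quotient.mk _ a) /
        algebraMap (A ⧸ p'.asIdeal) _ (Ideal.Quotient.mk _ s)))
      (congrArg DFunLike.coe (η.eta_natural (rm g p' q rfl)))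
  have h2 := eta_injective η _ h1
  have ha : algebraMap (A ⧸ p'.asIdeal) p'.asIdeal.ResidueField (Ideal.Quotient.mk _ a) =
      algebraMap A _ a := rfl
  have hs' : algebraMap (A ⧸ p'.asIdeal) p'.asIdeal.ResidueField (Ideal.Quotient.mk _ s) =
      algebraMap A _ s := rfl
  rw [ha, hs', map_div₀, rm_algebraMap, rm_algebraMap] at h2
  have hgs : algebraMap B q.asIdeal.ResidueField (g s) ≠ 0 := by
    intro h0
    have : g s ∈ q.asIdeal := Ideal.algebraMap_residueField_eq_zero.mp h0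
    exact hs this
  rw [← Ideal.algebraMap_residueField_eq_zero, map_sub, map_mul, map_pow, h2]
  field_simp
  ring

/-- Two ring homs from `B` to a field agreeing on `A` are equal when `N(g)` is bijective. -/
theorem ringHom_ext_of_Nmap_bijective (g : A →+* B) (hN : Function.Bijective (η.Nmap g))
    {Ω : Type u} [Field Ω] (h₁ h₂ : B →+* Ω) (h : h₁.comp g = h₂.comp g) : h₁ = h₂ := by
  have hinj := comap_injective_of_Nmap_surjective η g hN.2
  let q₁ : PrimeSpectrum B := ⟨RingHom.ker h₁, RingHom.ker_isPrime _⟩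
  let q₂ : PrimeSpectrum B := ⟨RingHom.ker h₂, RingHom.ker_isPrime _⟩
  have hq : q₁ = q₂ := by
    apply hinj
    apply PrimeSpectrum.ext
    ext a
    change h₁ (g a) = 0 ↔ h₂ (g a) = 0
    have := congrArg (fun k => k a) (congrArg DFunLike.coe h)
    simp only [RingHom.comp_apply] at this
    rw [this]
  have hker : RingHom.ker h₁ = RingHom.ker h₂ := congrArg PrimeSpectrum.asIdeal hq
  ext b
  obtain ⟨n, a, s, hs, hmem⟩ := exists_pow_mul_sub_mem η g hN.2 q₁ b
  set p' := PrimeSpectrum.comap g q₁ with hp'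
  have hga : h₁ (g a) = h₂ (g a) := by
    have := congrArg (fun k => k a) (congrArg DFunLike.coe h)
    exact this
  have hgs : h₁ (g s) = h₂ (g s) := by
    have := congrArg (fun k => k s) (congrArg DFunLike.coe h)
    exact this
  have hgs0 : h₁ (g s) ≠ 0 := fun h0 => hs ((RingHom.mem_ker).mpr h0)
  have e1 : h₁ (b ^ ringExpChar p'.asIdeal.ResidueField ^ n * g s - g a) = 0 := hmem
  have e2 : h₂ (b ^ ringExpChar p'.asIdeal.ResidueField ^ n * g s - g a) = 0 := by
    have : b ^ ringExpChar p'.asIdeal.ResidueField ^ n * g s - g a ∈ RingHom.ker h₂ := by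
      rw [← hker]; exact hmem
    exact this
  rw [map_sub, map_mul, map_pow, sub_eq_zero] at e1 e2
  -- field hom κ(p') → Ω
  let j : p'.asIdeal.ResidueField →+* Ω :=
    Ideal.ResidueField.lift p'.asIdeal (h₁.comp g) (by
      intro a' ha'
      exact ha') (by
      intro a' ha'
      change IsUnit (h₁ (g a'))
      apply IsUnit.mk0
      intro h0
      exact ha' ((RingHom.mem_ker).mpr h0))
  apply pow_expChar_inj j n
  have e3 : h₁ b ^ ringExpChar p'.asIdeal.ResidueField ^ n * h₁ (g s) =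
      h₂ b ^ ringExpChar p'.asIdeal.ResidueField ^ n * h₁ (g s) := by
    rw [e1, hga, ← e2, hgs]
  exact mul_right_cancel₀ hgs0 e3

/-- universal property of `M(A)`: integral `g : A → B` with `N(g)` bijective factor `q_A`
uniquely. -/
theorem existsUnique_lift_q (g : A →+* B) (hg : g.IsIntegral)
    (hN : Function.Bijective (η.Nmap g)) : ∃! g' : B →+* η.M A, g'.comp g = η.q A := by
  have hb := bijOn_Nmap_M η g hg hN
  let Ng : η.M A →+* η.M B := (η.Nmap g).restrict (η.M A) (η.M B) (fun x hx => hb.mapsTo hx)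
  have hNg : Function.Bijective Ng := by
    constructor
    · intro x y hxy
      exact Subtype.ext (hN.1 (congrArg Subtype.val hxy))
    · rintro ⟨w, hw⟩
      obtain ⟨x, hx, rfl⟩ := hb.surjOn hw
      exact ⟨⟨x, hx⟩, rfl⟩
  let e : η.M A ≃+* η.M B := RingEquiv.ofBijective Ng hNg
  have he : ∀ a, e (η.q A a) = η.q B (g a) := by
    intro a
    apply Subtype.ext
    exact η.Nmap_t_apply g a
  refine ⟨(e.symm : η.M B →+* η.M A).comp (η.q B), ?_, ?_⟩
  · ext a : 1
    simp only [RingHom.comp_apply, RingHom.coe_coe]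
    rw [← he, RingEquiv.symm_apply_apply]
  · intro g'' hg''
    ext b : 1
    apply Subtype.ext
    funext p
    have h1 : ((ev η p).comp g'').comp g = ((ev η p).comp
        ((e.symm : η.M B →+* η.M A).comp (η.q B))).comp g := by
      rw [RingHom.comp_assoc, hg'', RingHom.comp_assoc]
      congr 1
      ext a : 1
      simp only [RingHom.comp_apply, RingHom.coe_coe]
      rw [← he, RingEquiv.symm_apply_apply]
    have h2 := ringHom_ext_of_Nmap_bijective η g hN _ _ h1
    exact congrArg (fun k => k b) (congrArg DFunLike.coe h2)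

end uniqueness

end Groth.Agent.Lib.Helper22.EtaSpec
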