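import Mathlib
import Groth.Agent.Lib.Helper22.EtaSpec

/-!
# The relative construction `rel f` (EtaPt)
-/

namespace Groth.Agent.Lib.Helper22.EtaRel

open EtaPt Groth.Agent.Lib.Helper22.EtaBasic Groth.Agent.Lib.Helper22.EtaVal
  Groth.Agent.Lib.Helper22.EtaInt Groth.Agent.Lib.Helper22.EtaSpec

universe u

variable (η : FieldEndo.{u})

section

variable {A B : Type u} [CommRing A] [CommRing B]

lemma mem_rel_iff (f : A →+* B) (b : B) :
    b ∈ η.rel f ↔ ∃ x ∈ η.M A, η.Nmap f x = η.t B b := by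
  unfold FieldEndo.rel
  rw [Subring.mem_comap, Subring.mem_map]

/-- `f₂.range ≤ rel (f₂ ∘ f₁)` for integral `f₁` with `N(f₁)` bijective. -/
theorem range_le_rel {B' : Type u} [CommRing B'] (f₁ : A →+* B') (f₂ : B' →+* B)
    (h₁ : f₁.IsIntegral) (hN : Function.Bijective (η.Nmap f₁)) :
    f₂.range ≤ η.rel (f₂.comp f₁) := by
  rintro _ ⟨b', rfl⟩
  rw [mem_rel_iff]
  obtain ⟨x, hx, hxb⟩ := (bijOn_Nmap_M η f₁ h₁ hN).surjOn (η.t_mem_M B' b')
  refine ⟨x, hx, ?_⟩
  rw [Nmap_comp, hxb, η.Nmap_t_apply]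

end

section intermediate

variable {A C : Type u} [CommRing A] [CommRing C]

lemma rm_congr {B : Type u} [CommRing B] {f f' : A →+* B} (hff' : f = f') (p : PrimeSpectrum A)
    (q : PrimeSpectrum B) (h : p.asIdeal = q.asIdeal.comap f) (h' : p.asIdeal = q.asIdeal.comap f') :
    rm f p q h = rm f' p q h' := by
  subst hff'
  rfl

/-- flexible form of the residue factorization for `q_A`. -/
lemma exists_factor_q (hA : (minimalPrimes A).Finite) (Q' : PrimeSpectrum (η.M A))
    (p : PrimeSpectrum A) (h : p.asIdeal = Q'.asIdeal.comap (η.q A)) :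
    ∃ φ' : Q'.asIdeal.ResidueField →+* η.obj p.asIdeal.ResidueField,
      φ'.comp (rm (η.q A) p Q' h) = η.eta p.asIdeal.ResidueField := by
  have hp : p = PrimeSpectrum.comap (η.q A) Q' := PrimeSpectrum.ext h
  subst hp
  exact (comap_q_bijective_and_factor η hA).2 Q'

/-- if `ψ ∘ rm = η` then `F(rm)` is bijective. -/
lemma map_rm_bijective_of_factor {B : Type u} [CommRing B] (f : A →+* B) (p : PrimeSpectrum A)
    (q : PrimeSpectrum B) (h : p.asIdeal = q.asIdeal.comap f)
    (ψ : q.asIdeal.ResidueField →+* η.obj p.asIdeal.ResidueField)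
    (hψ : ψ.comp (rm f p q h) = η.eta p.asIdeal.ResidueField) :
    Function.Bijective (η.map (rm f p q h)) := by
  refine ⟨map_injective η _, ?_⟩
  have hcomp : (η.map ψ).comp (η.map (rm f p q h)) = η.map (η.eta _) := by
    rw [← η.map_comp, hψ]
  intro y
  obtain ⟨z, hz⟩ := (η.bijective_map_eta _).2 (η.map ψ y)
  refine ⟨z, ?_⟩
  apply map_injective η ψ
  rw [← hz]
  exact congrArg (fun k => k z) (congrArg DFunLike.coe hcomp)

/-- `N(f)` is bijective when `Spec f` is bijective and all `F(κ(p)) → F(κ(q))` are bijective. -/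
lemma Nmap_bijective_of_comap_bijective {B : Type u} [CommRing B] (f : A →+* B)
    (hs : Function.Bijective (PrimeSpectrum.comap f))
    (hr : ∀ (q : PrimeSpectrum B), Function.Bijective
      (η.map (rm f (PrimeSpectrum.comap f q) q rfl))) :
    Function.Bijective (η.Nmap f) := by
  constructor
  · intro x x' h
    funext p
    obtain ⟨q, rfl⟩ := hs.2 p
    have h1 := congrFun h q
    rw [Nmap_apply, Nmap_apply] at h1
    exact (hr q).1 h1
  · intro w
    have hex : ∀ p : PrimeSpectrum A, ∃ v : η.obj p.asIdeal.ResidueField,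
        ∀ (q : PrimeSpectrum B) (h : p.asIdeal = q.asIdeal.comap f),
          η.map (rm f p q h) v = w q := by
      intro p
      obtain ⟨q₀, rfl⟩ := hs.2 p
      obtain ⟨v, hv⟩ := (hr q₀).2 (w q₀)
      refine ⟨v, ?_⟩
      intro q h
      have hq : q = q₀ := hs.1 (PrimeSpectrum.ext h.symm)
      subst hq
      exact hv
    choose x hx using hex
    exact ⟨x, funext fun q => by rw [Nmap_apply]; exact hx _ q rfl⟩

/-- The structure theorem for rings between `A` and `M(A)`. -/
theorem intermediate (hA : (minimalPrimes A).Finite) (φ : A →+* C) (ρ : C →+* η.M A)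
    (hρφ : ρ.comp φ = η.q A) (hker : ∀ c, ρ c = 0 → IsNilpotent c) :
    φ.IsIntegral ∧ Function.Bijective (PrimeSpectrum.comap φ) ∧
      (∀ Q : PrimeSpectrum C,
        ∃ ψ : Q.asIdeal.ResidueField →+* η.obj (PrimeSpectrum.comap φ Q).asIdeal.ResidueField,
          ψ.comp (Ideal.ResidueField.map (PrimeSpectrum.comap φ Q).asIdeal Q.asIdeal φ rfl) =
            η.eta (PrimeSpectrum.comap φ Q).asIdeal.ResidueField) ∧
      Function.Bijective (η.Nmap φ) := by
  have hq := q_isIntegral η hA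
  -- (a) φ integral
  have hφint : φ.IsIntegral := by
    intro c
    obtain ⟨P, hP, hPx⟩ := hq (ρ c)
    have h1 : ρ (Polynomial.eval₂ φ c P) = 0 := by
      rw [Polynomial.hom_eval₂, hρφ]; exact hPx
    obtain ⟨k, hk⟩ := hker _ h1
    by_cases hk0 : k = 0
    · subst hk0
      rw [pow_zero] at hk
      haveI : Subsingleton C := subsingleton_of_zero_eq_one hk.symm
      exact ⟨1, Polynomial.monic_one, Subsingleton.elim _ _⟩
    · refine ⟨P ^ k, hP.pow k, ?_⟩
      rw [Polynomial.eval₂_pow, hk]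
  -- ρ integral
  have hρint : ρ.IsIntegral := by
    intro x
    obtain ⟨P, hP, hPx⟩ := hq x
    refine ⟨P.map φ, hP.map φ, ?_⟩
    rw [Polynomial.eval₂_map, hρφ]; exact hPx
  -- Spec ρ surjective
  have hρsurj : Function.Surjective (PrimeSpectrum.comap ρ) := by
    intro Q
    letI : Algebra C (η.M A) := ρ.toAlgebra
    haveI : Algebra.IsIntegral C (η.M A) := ⟨hρint⟩
    have hle : (⊥ : Ideal (η.M A)).comap (algebraMap C (η.M A)) ≤ Q.asIdeal := by
      intro c hc
      have : ρ c = 0 := hc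
      obtain ⟨k, hk⟩ := hker c this
      exact Q.isPrime.mem_of_pow_mem k (by rw [hk]; exact Q.asIdeal.zero_mem)
    obtain ⟨Q', -, hQ'p, hQ'⟩ := Ideal.exists_ideal_over_prime_of_isIntegral Q.asIdeal ⊥ hle
    exact ⟨⟨Q', hQ'p⟩, PrimeSpectrum.ext hQ'⟩
  have hqbij := (comap_q_bijective_and_factor η hA).1
  have hcomp : PrimeSpectrum.comap (η.q A) = PrimeSpectrum.comap φ ∘ PrimeSpectrum.comap ρ := by
    funext Q'
    rw [← hρφ]
    rfl
  have hρinj : Function.Injective (PrimeSpectrum.comap ρ) := by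
    have : Function.Injective (PrimeSpectrum.comap φ ∘ PrimeSpectrum.comap ρ) := by
      rw [← hcomp]; exact hqbij.1
    exact Function.Injective.of_comp this
  have hρbij : Function.Bijective (PrimeSpectrum.comap ρ) := ⟨hρinj, hρsurj⟩
  have hφbij : Function.Bijective (PrimeSpectrum.comap φ) := by
    have h1 : Function.Bijective (PrimeSpectrum.comap φ ∘ PrimeSpectrum.comap ρ) := by
      rw [← hcomp]; exact hqbij
    exact (Function.Bijective.of_comp_iff _ hρbij).mp h1
  -- (c) factorization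
  have hfac : ∀ Q : PrimeSpectrum C,
      ∃ ψ : Q.asIdeal.ResidueField →+* η.obj (PrimeSpectrum.comap φ Q).asIdeal.ResidueField,
        ψ.comp (rm φ (PrimeSpectrum.comap φ Q) Q rfl) =
          η.eta (PrimeSpectrum.comap φ Q).asIdeal.ResidueField := by
    intro Q
    obtain ⟨Q', rfl⟩ := hρsurj Q
    set p := PrimeSpectrum.comap φ (PrimeSpectrum.comap ρ Q') with hp
    have h : p.asIdeal = Q'.asIdeal.comap (η.q A) := by
      rw [← hρφ]; rfl
    obtain ⟨φ', hφ'⟩ := exists_factor_q η hA Q' p h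
    refine ⟨φ'.comp (rm ρ (PrimeSpectrum.comap ρ Q') Q' rfl), ?_⟩
    rw [RingHom.comp_assoc, rm_comp φ ρ p (PrimeSpectrum.comap ρ Q') Q' rfl rfl rfl,
      rm_congr hρφ p Q' rfl h]
    exact hφ'
  refine ⟨hφint, hφbij, hfac, ?_⟩
  apply Nmap_bijective_of_comap_bijective η φ hφbij
  intro Q
  obtain ⟨ψ, hψ⟩ := hfac Q
  exact map_rm_bijective_of_factor η φ _ Q rfl ψ hψ

end intermediate

section relstruct

variable {A B : Type u} [CommRing A] [CommRing B]

lemma Nmap_injective_of_comap_surjective (f : A →+* B)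
    (hs : Function.Surjective (PrimeSpectrum.comap f)) : Function.Injective (η.Nmap f) := by
  intro x x' h
  funext p
  obtain ⟨q, rfl⟩ := hs p
  have h1 := congrFun h q
  rw [Nmap_apply, Nmap_apply] at h1
  exact map_injective η _ h1

/-- `t_B b = 0` implies `b` nilpotent. -/
lemma isNilpotent_of_t_eq_zero (b : B) (hb : η.t B b = 0) : IsNilpotent b := by
  rw [← mem_nilradical, nilradical_eq_sInf, Ideal.mem_sInf]
  intro I hI
  haveI : I.IsPrime := hI
  have h1 := congrFun hb ⟨I, hI⟩
  rw [t_apply] at h1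
  have h2 : algebraMap B (Ideal.ResidueField I) b = 0 :=
    (map_eq_zero_iff _ (eta_injective η _)).mp h1
  exact Ideal.algebraMap_residueField_eq_zero.mp h2

/-- the canonical map `rel f → M(A)` when `Spec f` is surjective. -/
theorem exists_rho (f : A →+* B) (hs : Function.Surjective (PrimeSpectrum.comap f)) :
    ∃ ρ : η.rel f →+* η.M A, (∀ b : η.rel f, η.Nmap f (ρ b : η.N A) = η.t B b) ∧
      ρ.comp (η.qRel f) = η.q A ∧ ∀ c, ρ c = 0 → IsNilpotent c := by
  have hinj := Nmap_injective_of_comap_surjective η f hs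
  let Ng : η.M A →+* η.N B := (η.Nmap f).comp (η.M A).subtype
  have hNginj : Function.Injective Ng := fun x y hxy => Subtype.ext (hinj hxy)
  let e : η.M A ≃+* Ng.range := RingEquiv.ofBijective Ng.rangeRestrict
    ⟨fun x y hxy => hNginj (congrArg Subtype.val hxy), Ng.rangeRestrict_surjective⟩
  have hmem : ∀ b : η.rel f, ((η.t B).comp (η.rel f).subtype) b ∈ Ng.range := by
    rintro ⟨b, hb⟩
    obtain ⟨x, hx, hxb⟩ := (mem_rel_iff η f b).mp hb
    exact ⟨⟨x, hx⟩, hxb⟩
  let tB' : η.rel f →+* Ng.range := ((η.t B).comp (η.rel f).subtype).codRestrict Ng.range hmem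
  let ρ : η.rel f →+* η.M A := (e.symm : Ng.range →+* η.M A).comp tB'
  have hρ : ∀ b : η.rel f, η.Nmap f (ρ b : η.N A) = η.t B b := by
    intro b
    have h1 : e (ρ b) = tB' b := by
      simp only [ρ, RingHom.comp_apply, RingHom.coe_coe, RingEquiv.apply_symm_apply]
    exact congrArg Subtype.val h1
  refine ⟨ρ, hρ, ?_, ?_⟩
  · ext a : 1
    apply hNginj
    change η.Nmap f (ρ (η.qRel f a) : η.N A) = η.Nmap f (η.t A a)
    rw [hρ, η.Nmap_t_apply]
    rfl
  · intro c hc
    have h1 : η.t B c = 0 := by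
      rw [← hρ, hc]
      exact map_zero _
    obtain ⟨k, hk⟩ := isNilpotent_of_t_eq_zero η (c : B) h1
    exact ⟨k, Subtype.ext (by simpa using hk)⟩

/-- structure theorem for `qRel f`. -/
theorem qRel_structure (hA : (minimalPrimes A).Finite) (f : A →+* B)
    (hs : Function.Surjective (PrimeSpectrum.comap f)) :
    (η.qRel f).IsIntegral ∧ Function.Bijective (PrimeSpectrum.comap (η.qRel f)) ∧
      (∀ Q : PrimeSpectrum (η.rel f),
        ∃ φ : Q.asIdeal.ResidueField →+*
            η.obj (PrimeSpectrum.comap (η.qRel f) Q).asIdeal.ResidueField,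
          φ.comp (Ideal.ResidueField.map (PrimeSpectrum.comap (η.qRel f) Q).asIdeal Q.asIdeal
            (η.qRel f) rfl) = η.eta (PrimeSpectrum.comap (η.qRel f) Q).asIdeal.ResidueField) ∧
      Function.Bijective (η.Nmap (η.qRel f)) := by
  obtain ⟨ρ, -, hρ2, hρ3⟩ := exists_rho η f hs
  exact intermediate η hA (η.qRel f) ρ hρ2 hρ3

/-- elements of `M(B₀)` killed by `N(incl)` for an injective `incl` vanish. -/
lemma eq_zero_of_Nmap_injective_eq_zero {B₀ : Type u} [CommRing B₀] (incl : B₀ →+* B)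
    (hincl : Function.Injective incl) {y : η.N B₀} (hy : y ∈ η.M B₀)
    (h0 : η.Nmap incl y = 0) : y = 0 := by
  apply eq_zero_of_minimalPrimes η hy
  intro I hI
  obtain ⟨𝔮, h𝔮, h𝔮I⟩ := Ideal.exists_comap_eq_of_mem_minimalPrimes_of_injective hincl I hI
  have h1 := congrFun h0 ⟨𝔮, h𝔮⟩
  rw [Nmap_apply' η incl y ⟨𝔮, h𝔮⟩ ⟨I, hI.1.1⟩ h𝔮I.symm] at h1
  exact (map_eq_zero_iff _ (map_injective η _)).mp h1

/-- elements of `rel f` are integral over `A`. -/
lemma isIntegralElem_of_mem_rel (hA : (minimalPrimes A).Finite) (f : A →+* B)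
    (hs : Function.Surjective (PrimeSpectrum.comap f)) {b : B} (hb : b ∈ η.rel f) :
    f.IsIntegralElem b := by
  obtain ⟨P, hP, hPb⟩ := (qRel_structure η hA f hs).1 ⟨b, hb⟩
  refine ⟨P, hP, ?_⟩
  have := Polynomial.hom_eval₂ P (η.qRel f) (η.rel f).subtype ⟨b, hb⟩
  rw [hPb, map_zero] at this
  exact this.symm

/-- `rel` of the integral closure. -/
theorem rel_integralClosure_map_eq_rel (A B : Type u) [CommRing A] [CommRing B] [Algebra A B]
    (hA : (minimalPrimes A).Finite)
    (hs : Function.Surjective (PrimeSpectrum.comap (algebraMap A B))) :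
    (η.rel (algebraMap A (integralClosure A B))).map (integralClosure A B).val.toRingHom =
      η.rel (algebraMap A B) := by
  set incl : integralClosure A B →+* B := (integralClosure A B).val.toRingHom with hincl
  have hcomp : incl.comp (algebraMap A (integralClosure A B)) = algebraMap A B := by
    ext a; rfl
  have hinj : Function.Injective incl := Subtype.val_injective
  apply le_antisymm
  · rintro _ ⟨b₀, hb₀, rfl⟩
    obtain ⟨x, hx, hxb⟩ := (mem_rel_iff η _ b₀).mp hb₀
    rw [mem_rel_iff]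
    refine ⟨x, hx, ?_⟩
    rw [← hcomp, Nmap_comp, hxb, η.Nmap_t_apply]
  · intro b hb
    obtain ⟨x, hx, hxb⟩ := (mem_rel_iff η _ b).mp hb
    have hint : IsIntegral A b := isIntegralElem_of_mem_rel η hA _ hs hb
    let b₀ : integralClosure A B := ⟨b, hint⟩
    refine ⟨b₀, ?_, rfl⟩
    show b₀ ∈ η.rel (algebraMap A (integralClosure A B))
    rw [mem_rel_iff]
    refine ⟨x, hx, ?_⟩
    rw [← sub_eq_zero]
    apply eq_zero_of_Nmap_injective_eq_zero η incl hinj
      (Subring.sub_mem _ (Nmap_mem_M η _ hx) (η.t_mem_M _ b₀))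
    rw [map_sub, ← Nmap_comp, hcomp, hxb, η.Nmap_t_apply, sub_eq_zero]
    rfl

end relstruct

end Groth.Agent.Lib.Helper22.EtaRel
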