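import Mathlib
import Groth.Agent.Lib.Helper22.EtaRel

/-!
# More on the relative construction `rel f` (EtaPt)
-/

namespace Groth.Agent.Lib.Helper22.EtaRel2

open EtaPt Groth.Agent.Lib.Helper22.EtaBasic Groth.Agent.Lib.Helper22.EtaVal
  Groth.Agent.Lib.Helper22.EtaInt Groth.Agent.Lib.Helper22.EtaSpec
  Groth.Agent.Lib.Helper22.EtaRel

universe u

variable (η : FieldEndo.{u})

section

variable {A B C : Type u} [CommRing A] [CommRing B] [CommRing C]

lemma qRel_apply (f : A →+* B) (a : A) : ((η.qRel f a : η.rel f) : B) = f a := rfl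

lemma qRel_bijective_iff (f : A →+* B) :
    Function.Bijective (η.qRel f) ↔ Function.Injective f ∧ ∀ b ∈ η.rel f, ∃ a, f a = b := by
  constructor
  · rintro ⟨hi, hsj⟩
    refine ⟨fun a a' h => hi (Subtype.ext h), fun b hb => ?_⟩
    obtain ⟨a, ha⟩ := hsj ⟨b, hb⟩
    exact ⟨a, congrArg Subtype.val ha⟩
  · rintro ⟨hi, hsj⟩
    refine ⟨fun a a' h => hi (congrArg Subtype.val h), fun b => ?_⟩
    obtain ⟨a, ha⟩ := hsj b.1 b.2
    exact ⟨a, Subtype.ext ha⟩

theorem qRel_comp_bijective (f : A →+* B) (g : B →+* C)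
    (hg : Function.Surjective (PrimeSpectrum.comap g))
    (h1 : Function.Bijective (η.qRel f)) (h2 : Function.Bijective (η.qRel g)) :
    Function.Bijective (η.qRel (g.comp f)) := by
  rw [qRel_bijective_iff] at h1 h2 ⊢
  refine ⟨h2.1.comp h1.1, fun c hc => ?_⟩
  obtain ⟨x, hx, hxc⟩ := (mem_rel_iff η _ c).mp hc
  rw [Nmap_comp] at hxc
  obtain ⟨b, rfl⟩ := h2.2 c ((mem_rel_iff η _ c).mpr ⟨_, Nmap_mem_M η f hx, hxc⟩)
  rw [← η.Nmap_t_apply] at hxc
  have := Nmap_injective_of_comap_surjective η g hg hxc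
  obtain ⟨a, rfl⟩ := h1.2 b ((mem_rel_iff η _ b).mpr ⟨x, hx, this⟩)
  exact ⟨a, rfl⟩

theorem qRel_bijective_of_comp (f : A →+* B) (g : B →+* C)
    (hg : Function.Injective g) (h : Function.Bijective (η.qRel (g.comp f))) :
    Function.Bijective (η.qRel f) := by
  rw [qRel_bijective_iff] at h ⊢
  refine ⟨fun a a' haa' => h.1 (by simp [haa']), fun b hb => ?_⟩
  obtain ⟨x, hx, hxb⟩ := (mem_rel_iff η _ b).mp hb
  obtain ⟨a, ha⟩ := h.2 (g b) ((mem_rel_iff η _ _).mpr ⟨x, hx, by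
    rw [Nmap_comp, hxb, η.Nmap_t_apply]⟩)
  exact ⟨a, hg ha⟩

end

end Groth.Agent.Lib.Helper22.EtaRel2

namespace Groth.Agent.Lib.Helper22.EtaRel2

open EtaPt Groth.Agent.Lib.Helper22.EtaBasic Groth.Agent.Lib.Helper22.EtaVal
  Groth.Agent.Lib.Helper22.EtaInt Groth.Agent.Lib.Helper22.EtaSpec
  Groth.Agent.Lib.Helper22.EtaRel

universe u

variable (η : FieldEndo.{u})

theorem qRel_bijective_of_pullback {A A' B B' : Type u} [CommRing A] [CommRing A'] [CommRing B]
    [CommRing B'] (j : A →+* B) (f : A →+* A') (g : B →+* B') (j' : A' →+* B')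
    (hcomm : j'.comp f = g.comp j)
    (hcart : ∀ (a' : A') (b : B), j' a' = g b → ∃! a : A, f a = a' ∧ j a = b)
    (h : Function.Bijective (η.qRel j')) : Function.Bijective (η.qRel j) := by
  rw [qRel_bijective_iff] at h ⊢
  have hc : ∀ a, j' (f a) = g (j a) := fun a => congrArg (fun k => k a) (congrArg DFunLike.coe hcomm)
  constructor
  · rw [injective_iff_map_eq_zero]
    intro a ha
    have h1 : f a = 0 := by
      apply h.1
      rw [hc, ha, map_zero, map_zero]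
    obtain ⟨a₀, -, huniq⟩ := hcart 0 0 (by rw [map_zero, map_zero])
    rw [huniq a ⟨h1, ha⟩, huniq 0 ⟨map_zero _, map_zero _⟩]
  · intro b hb
    obtain ⟨x, hx, hxb⟩ := (mem_rel_iff η _ b).mp hb
    have hgb : g b ∈ η.rel j' := by
      rw [mem_rel_iff]
      refine ⟨η.Nmap f x, Nmap_mem_M η f hx, ?_⟩
      rw [← Nmap_comp, hcomm, Nmap_comp, hxb, η.Nmap_t_apply]
    obtain ⟨a', ha'⟩ := h.2 (g b) hgb
    obtain ⟨a, ⟨-, haj⟩, -⟩ := hcart a' b ha'
    exact ⟨a, haj⟩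

end Groth.Agent.Lib.Helper22.EtaRel2
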