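import Mathlib
import Groth.Agent.Lib.Helper22.EtaRel2

/-!
# Faithfully flat descent for `q_{B/A}` (EtaPt)
-/

namespace Groth.Agent.Lib.Helper22.EtaFlat

open EtaPt Groth.Agent.Lib.Helper22.EtaBasic Groth.Agent.Lib.Helper22.EtaVal
  Groth.Agent.Lib.Helper22.EtaInt Groth.Agent.Lib.Helper22.EtaSpec
  Groth.Agent.Lib.Helper22.EtaRel Groth.Agent.Lib.Helper22.EtaRel2

open scoped TensorProduct

universe u

variable (η : FieldEndo.{u})

theorem qRel_bijective_of_faithfullyFlat_baseChange (A A' B : Type u) [CommRing A] [CommRing A']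
    [CommRing B] [Algebra A A'] [Algebra A B] [Module.FaithfullyFlat A A']
    (h : Function.Bijective
      (η.qRel (Algebra.TensorProduct.includeLeftRingHom : A' →+* A' ⊗[A] B))) :
    Function.Bijective (η.qRel (algebraMap A B)) := by
  rw [qRel_bijective_iff] at h ⊢
  have hcomp : (Algebra.TensorProduct.includeLeftRingHom : A' →+* A' ⊗[A] B).comp (algebraMap A A') =
      (Algebra.TensorProduct.includeRight : B →ₐ[A] A' ⊗[A] B).toRingHom.comp (algebraMap A B) := by
    ext a
    change (algebraMap A A' a) ⊗ₜ[A] (1 : B) = (1 : A') ⊗ₜ[A] (algebraMap A B a)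
    rw [Algebra.algebraMap_eq_smul_one, Algebra.algebraMap_eq_smul_one, TensorProduct.smul_tmul]
  constructor
  · rw [injective_iff_map_eq_zero]
    intro a ha
    apply FaithfulSMul.algebraMap_injective A A'
    rw [map_zero]
    apply h.1
    have := congrArg (fun k => k a) (congrArg DFunLike.coe hcomp)
    simp only [RingHom.comp_apply] at this
    rw [this, ha, map_zero, map_zero]
  · intro b hb
    obtain ⟨x, hx, hxb⟩ := (mem_rel_iff η _ b).mp hb
    have hmem : (Algebra.TensorProduct.includeRight : B →ₐ[A] A' ⊗[A] B) b ∈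
        η.rel (Algebra.TensorProduct.includeLeftRingHom : A' →+* A' ⊗[A] B) := by
      rw [mem_rel_iff]
      refine ⟨η.Nmap (algebraMap A A') x, Nmap_mem_M η _ hx, ?_⟩
      rw [← Nmap_comp, hcomp, Nmap_comp, hxb, η.Nmap_t_apply]
      rfl
    obtain ⟨a', ha'⟩ := h.2 _ hmem
    -- a' ⊗ 1 = 1 ⊗ b
    have ha'' : a' ⊗ₜ[A] (1 : B) = (1 : A') ⊗ₜ[A] b := ha'
    let Abar : Submodule A B := LinearMap.range (Algebra.linearMap A B)
    let π : B →ₗ[A] (B ⧸ Abar) := Abar.mkQ
    have h1 : π 1 = 0 := by
      rw [Submodule.mkQ_apply, Submodule.Quotient.mk_eq_zero]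
      exact ⟨1, by simp⟩
    have h2 := congrArg (LinearMap.lTensor A' π) ha''
    rw [LinearMap.lTensor_tmul, LinearMap.lTensor_tmul, h1, TensorProduct.tmul_zero] at h2
    have h3 : π b = 0 := by
      apply Module.FaithfullyFlat.tensorProduct_mk_injective (A := A) (B := A') (B ⧸ Abar)
      rw [map_zero]
      exact h2.symm
    rw [Submodule.mkQ_apply, Submodule.Quotient.mk_eq_zero] at h3
    obtain ⟨a, ha⟩ := h3
    exact ⟨a, ha⟩

end Groth.Agent.Lib.Helper22.EtaFlat

namespace Groth.Agent.Lib.Helper22.EtaFlat

open EtaPt Groth.Agent.Lib.Helper22.EtaBasic Groth.Agent.Lib.Helper22.EtaVal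
  Groth.Agent.Lib.Helper22.EtaInt Groth.Agent.Lib.Helper22.EtaSpec
  Groth.Agent.Lib.Helper22.EtaRel Groth.Agent.Lib.Helper22.EtaRel2

universe u

variable (η : FieldEndo.{u})

theorem qRel_integralClosure_of_faithfullyFlat (A A' : Type u) [CommRing A] [CommRing A']
    [Algebra A A'] [Module.FaithfullyFlat A A']
    (h : Function.Bijective (η.qRel (algebraMap A' (integralClosure A' (FractionRing A'))))) :
    Function.Bijective (η.qRel (algebraMap A (integralClosure A (FractionRing A)))) := by
  rw [qRel_bijective_iff] at h ⊢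
  have hnzd : nonZeroDivisors A ≤ (nonZeroDivisors A').comap (algebraMap A A') := by
    intro s hs
    rw [Submonoid.mem_comap, mem_nonZeroDivisors_iff_right]
    intro z hz
    have hreg : IsSMulRegular A' s := Module.Flat.isSMulRegular_of_nonZeroDivisors hs
    apply hreg
    change s • z = s • (0 : A')
    rw [smul_zero, Algebra.smul_def, mul_comm]
    exact hz
  let ψ : FractionRing A →+* FractionRing A' :=
    IsLocalization.map (FractionRing A') (algebraMap A A') hnzd
  have hψ : ∀ a, ψ (algebraMap A (FractionRing A) a) =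
      algebraMap A' (FractionRing A') (algebraMap A A' a) := fun a => IsLocalization.map_eq hnzd a
  have hint : ∀ c : integralClosure A (FractionRing A),
      ψ (c : FractionRing A) ∈ integralClosure A' (FractionRing A') := by
    rintro ⟨c, P, hP, hPc⟩
    refine ⟨P.map (algebraMap A A'), hP.map _, ?_⟩
    rw [Polynomial.eval₂_map]
    have h1 : (algebraMap A' (FractionRing A')).comp (algebraMap A A') =
        ψ.comp (algebraMap A (FractionRing A)) := RingHom.ext fun a => (hψ a).symm
    rw [h1, ← Polynomial.hom_eval₂, hPc, map_zero]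
  let φbar : integralClosure A (FractionRing A) →+* integralClosure A' (FractionRing A') :=
    (ψ.comp (integralClosure A (FractionRing A)).val.toRingHom).codRestrict _ hint
  have hφbar : φbar.comp (algebraMap A (integralClosure A (FractionRing A))) =
      (algebraMap A' (integralClosure A' (FractionRing A'))).comp (algebraMap A A') := by
    refine RingHom.ext fun a => Subtype.ext ?_
    exact hψ a
  have hinjA : Function.Injective (algebraMap A (FractionRing A)) :=
    IsLocalization.injective (FractionRing A) (le_refl (nonZeroDivisors A))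
  have hinjA' : Function.Injective (algebraMap A' (FractionRing A')) :=
    IsLocalization.injective (FractionRing A') (le_refl (nonZeroDivisors A'))
  constructor
  · intro a b hab
    exact hinjA (congrArg Subtype.val hab)
  · intro c hc
    obtain ⟨x, hx, hxc⟩ := (mem_rel_iff η _ c).mp hc
    have hmem : φbar c ∈ η.rel (algebraMap A' (integralClosure A' (FractionRing A'))) := by
      rw [mem_rel_iff]
      refine ⟨η.Nmap (algebraMap A A') x, Nmap_mem_M η _ hx, ?_⟩
      rw [← Nmap_comp, ← hφbar, Nmap_comp, hxc, η.Nmap_t_apply]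
    obtain ⟨a', ha'⟩ := h.2 _ hmem
    have ha'' : algebraMap A' (FractionRing A') a' = ψ (c : FractionRing A) :=
      congrArg Subtype.val ha'
    obtain ⟨⟨a, s⟩, hs⟩ := IsLocalization.surj (nonZeroDivisors A) (c : FractionRing A)
    have hs' : (c : FractionRing A) * algebraMap A (FractionRing A) (s : A) =
        algebraMap A (FractionRing A) a := hs
    have h2 : a' * algebraMap A A' (s : A) = algebraMap A A' a := by
      apply hinjA'
      rw [map_mul, ha'', ← hψ, ← hψ, ← map_mul, hs']
    have h3 : a ∈ Ideal.span {(s : A)} := by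
      rw [← Ideal.comap_map_eq_self_of_faithfullyFlat (B := A') (Ideal.span {(s : A)}),
        Ideal.mem_comap, Ideal.map_span, Set.image_singleton, Ideal.mem_span_singleton']
      exact ⟨a', h2⟩
    obtain ⟨a₀, ha₀⟩ := Ideal.mem_span_singleton'.mp h3
    refine ⟨a₀, Subtype.ext ?_⟩
    have hunit : IsUnit (algebraMap A (FractionRing A) (s : A)) :=
      IsLocalization.map_units (FractionRing A) s
    apply hunit.mul_right_cancel
    change algebraMap A (FractionRing A) a₀ * _ = (c : FractionRing A) * _
    rw [hs', ← map_mul, ha₀]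

end Groth.Agent.Lib.Helper22.EtaFlat
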