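import Mathlib
import Groth.Agent.Lib.Helper22.EtaRel2

/-!
# Integral descent for membership in `M(A)` (EtaPt)
-/

namespace Groth.Agent.Lib.Helper22.EtaIntDesc

open EtaPt Groth.Agent.Lib.Helper22.EtaBasic Groth.Agent.Lib.Helper22.EtaVal
  Groth.Agent.Lib.Helper22.EtaInt Groth.Agent.Lib.Helper22.EtaSpec
  Groth.Agent.Lib.Helper22.EtaRel Groth.Agent.Lib.Helper22.EtaRel2

open scoped TensorProduct

universe u

variable (η : FieldEndo.{u})

/-- a compositum of two field extensions. -/
lemma exists_compositum {k K L : Type u} [Field k] [Field K] [Field L] (a : k →+* K) (b : k →+* L) :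
    ∃ (K' : Type u) (_ : Field K') (eK : K →+* K') (eL : L →+* K'), eK.comp a = eL.comp b := by
  letI : Algebra k K := a.toAlgebra
  letI : Algebra k L := b.toAlgebra
  haveI : Nontrivial (K ⊗[k] L) :=
    Algebra.TensorProduct.nontrivial_of_algebraMap_injective_of_isDomain k K L a.injective b.injective
  obtain ⟨𝔐, h𝔐⟩ := Ideal.exists_maximal (K ⊗[k] L)
  haveI := h𝔐
  refine ⟨(K ⊗[k] L) ⧸ 𝔐, Ideal.Quotient.field 𝔐,
    (Ideal.Quotient.mk 𝔐).comp Algebra.TensorProduct.includeLeftRingHom,
    (Ideal.Quotient.mk 𝔐).comp (Algebra.TensorProduct.includeRight : L →ₐ[k] K ⊗[k] L).toRingHom, ?_⟩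
  refine RingHom.ext fun z => ?_
  change Ideal.Quotient.mk 𝔐 ((algebraMap k K z) ⊗ₜ[k] (1 : L)) =
    Ideal.Quotient.mk 𝔐 ((1 : K) ⊗ₜ[k] (algebraMap k L z))
  rw [Algebra.algebraMap_eq_smul_one, Algebra.algebraMap_eq_smul_one, TensorProduct.smul_tmul]

theorem mem_M_of_Nmap_mem_M {A B : Type u} [CommRing A] [CommRing B] (f : A →+* B)
    (hf : f.IsIntegral) (hs : Function.Surjective (PrimeSpectrum.comap f)) (x : η.N A)
    (hx : η.Nmap f x ∈ η.M B) : x ∈ η.M A := by
  classical
  intro R _ _ _ hR g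
  set K := FractionRing R with hK
  have hKbij : Function.Bijective (η.eta K) := hR
  set ι : R →+* K := algebraMap R K with hι
  have hιinj : Function.Injective ι := IsFractionRing.injective R K
  obtain ⟨p₀, hp₀⟩ : ∃ p₀ : PrimeSpectrum A, p₀.asIdeal = RingHom.ker (ι.comp g) :=
    ⟨⟨_, RingHom.ker_isPrime _⟩, rfl⟩
  obtain ⟨q₀, hq₀⟩ := hs p₀
  have hpq : p₀.asIdeal = q₀.asIdeal.comap f := by rw [← hq₀]; rfl
  let jK : p₀.asIdeal.ResidueField →+* K :=
    Ideal.ResidueField.lift p₀.asIdeal (ι.comp g) (le_of_eq hp₀) (by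
      intro a ha
      change IsUnit ((ι.comp g) a)
      exact IsUnit.mk0 _ (fun h0 => ha (by rw [hp₀]; exact RingHom.mem_ker.mpr h0)))
  have hjK : ∀ a, jK (algebraMap A _ a) = ι (g a) :=
    fun a => Ideal.ResidueField.lift_algebraMap _ _ _ _ a
  obtain ⟨K', _, eK, eq, hcompat⟩ := exists_compositum jK (rm f p₀ q₀ hpq)
  have hΩ' : Function.Bijective (η.eta (η.obj K')) := eta_obj_bijective η K'
  let e : K →+* η.obj K' := (η.eta K').comp eK
  let hR' : R →+* η.obj K' := e.comp ι
  have hR'inj : Function.Injective hR' := e.injective.comp hιinj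
  let jq : q₀.asIdeal.ResidueField →+* η.obj K' := (η.eta K').comp eq
  let hB' : B →+* η.obj K' := jq.comp (algebraMap B q₀.asIdeal.ResidueField)
  have hRB : hB'.comp f = hR'.comp g := by
    refine RingHom.ext fun a => ?_
    change η.eta K' (eq (algebraMap B _ (f a))) = η.eta K' (eK (ι (g a)))
    rw [← rm_algebraMap f p₀ q₀ hpq, ← hjK]
    exact congrArg (η.eta K') (congrArg (fun k => k (algebraMap A _ a))
      (congrArg DFunLike.coe hcompat)).symm
  obtain ⟨r', hr'⟩ := hKbij.2 (η.map jK (x p₀))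
  -- the key fact for valuation subrings containing the image of `R`
  have keyW : ∀ (W : ValuationSubring (η.obj K')) (hW : ∀ r, hR' r ∈ W.toSubring),
      ∃ ρ : W, (ρ : η.obj K') = e r' ∧
        η.Nmap ((hR'.codRestrict W.toSubring hW).comp g) x = η.t W ρ := by
    intro W hW
    have hBW : ∀ b, hB' b ∈ W.toSubring := by
      intro b
      obtain ⟨P, hP, hPb⟩ := hf b
      have hint : IsIntegral W (hB' b) := by
        refine ⟨P.map ((hR'.codRestrict W.toSubring hW).comp g), hP.map _, ?_⟩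
        rw [Polynomial.eval₂_map]
        have h1 : (algebraMap W (η.obj K')).comp ((hR'.codRestrict W.toSubring hW).comp g) =
            hB'.comp f := by
          rw [hRB]
          rfl
        rw [h1, ← Polynomial.hom_eval₂, hPb, map_zero]
      obtain ⟨w, hw⟩ := IsIntegrallyClosed.isIntegral_iff.mp hint
      rw [← hw]
      exact w.2
    set gW : B →+* W := hB'.codRestrict W.toSubring hBW with hgW
    have hcomp : gW.comp f = (hR'.codRestrict W.toSubring hW).comp g := by
      refine RingHom.ext fun a => Subtype.ext ?_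
      exact congrArg (fun k => k a) (congrArg DFunLike.coe hRB)
    obtain ⟨ρ, hρ, hρgen⟩ := exists_eval_valuationSubring η hΩ' W gW hx
    have hq₀W : q₀.asIdeal = (gen W).asIdeal.comap gW := by
      ext b
      change b ∈ q₀.asIdeal ↔ gW b = 0
      rw [← Ideal.algebraMap_residueField_eq_zero (I := q₀.asIdeal)]
      constructor
      · intro h0
        apply Subtype.ext
        change jq (algebraMap B _ b) = 0
        rw [h0, map_zero]
      · intro h0
        have : jq (algebraMap B _ b) = 0 := congrArg Subtype.val h0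
        exact (map_eq_zero_iff _ jq.injective).mp this
    refine ⟨ρ, ?_, ?_⟩
    · apply eta_injective η (η.obj K')
      rw [hρgen q₀ hq₀W jq (fun b => rfl), Nmap_apply' η f x q₀ p₀ hpq]
      have h1 : η.map jq (η.map (rm f p₀ q₀ hpq) (x p₀)) = η.map (jq.comp (rm f p₀ q₀ hpq)) (x p₀) :=
        (congrArg (fun k => k (x p₀)) (congrArg DFunLike.coe (η.map_comp (rm f p₀ q₀ hpq) jq))).symm
      have h2 : jq.comp (rm f p₀ q₀ hpq) = e.comp jK := by
        change ((η.eta K').comp eq).comp (rm f p₀ q₀ hpq) = ((η.eta K').comp eK).comp jK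
        rw [RingHom.comp_assoc, RingHom.comp_assoc, hcompat]
      rw [h1, h2, η.map_comp]
      change η.map e (η.map jK (x p₀)) = _
      rw [← hr']
      change η.map ((η.eta K').comp eK) (η.eta K r') = _
      rw [η.map_comp]
      change η.map (η.eta K') (η.map eK (η.eta K r')) = _
      have h3 : η.map eK (η.eta K r') = η.eta K' (eK r') :=
        congrArg (fun k => k r') (congrArg DFunLike.coe (η.eta_natural eK))
      rw [h3, eta_obj]
      rfl
    · rw [← hcomp, Nmap_comp, hρ]
  -- `r' ∈ R`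
  have hr'R : ∃ r : R, ι r = r' := by
    rcases ValuationRing.isInteger_or_isInteger R r' with ⟨r, hr⟩ | ⟨s, hs⟩
    · exact ⟨r, hr⟩
    · by_cases hr0 : r' = 0
      · exact ⟨0, by rw [map_zero, hr0]⟩
      by_cases hsu : IsUnit s
      · obtain ⟨u, rfl⟩ := hsu
        refine ⟨((u⁻¹ : Rˣ) : R), ?_⟩
        have h1 : ι ((u⁻¹ : Rˣ) : R) * ι (u : R) = 1 := by
          rw [← map_mul, Units.inv_mul, map_one]
        have hs' : ι (u : R) = r'⁻¹ := hs
        rw [hs'] at h1
        exact (mul_inv_eq_one₀ hr0).mp h1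
      · exfalso
        have hsm : s ∈ IsLocalRing.maximalIdeal R := (IsLocalRing.mem_maximalIdeal s).mpr hsu
        obtain ⟨W, hW, hWc⟩ := exists_valuationSubring_over' hR' hR'inj
          ⟨IsLocalRing.maximalIdeal R, inferInstance⟩
        obtain ⟨ρ, hρ, -⟩ := keyW W hW
        set ιW : R →+* W := hR'.codRestrict W.toSubring hW with hιW
        have hsW : ιW s ∈ IsLocalRing.maximalIdeal W := by
          have : s ∈ Ideal.comap ιW (IsLocalRing.maximalIdeal W) := by
            rw [hWc]; exact hsm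
          exact this
        have h1 : ρ * ιW s = 1 := by
          apply Subtype.ext
          change (ρ : η.obj K') * e (ι s) = 1
          have hs' : ι s = r'⁻¹ := hs
          rw [hρ, hs', ← map_mul, mul_inv_cancel₀ hr0, map_one]
        exact (IsLocalRing.mem_maximalIdeal _).mp hsW (IsUnit.of_mul_eq_one _ (by rw [mul_comm]; exact h1))
  obtain ⟨r, hr⟩ := hr'R
  refine ⟨r, ?_⟩
  funext 𝔯
  obtain ⟨W, hW, hWc⟩ := exists_valuationSubring_over' hR' hR'inj 𝔯
  obtain ⟨ρ, hρ, hρN⟩ := keyW W hW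
  set ιW : R →+* W := hR'.codRestrict W.toSubring hW with hιW
  have hρr : ρ = ιW r := by
    apply Subtype.ext
    change (ρ : η.obj K') = e (ι r)
    rw [hρ, hr]
  have key : η.Nmap ιW (η.Nmap g x) = η.Nmap ιW (η.t R r) := by
    rw [← Nmap_comp, hρN, η.Nmap_t_apply, hρr]
  let 𝔪 : PrimeSpectrum W := ⟨IsLocalRing.maximalIdeal W, inferInstance⟩
  have h𝔪 : 𝔯.asIdeal = 𝔪.asIdeal.comap ιW := hWc.symm
  have := congrFun key 𝔪
  rw [Nmap_apply' η ιW _ 𝔪 𝔯 h𝔪, Nmap_apply' η ιW _ 𝔪 𝔯 h𝔪] at this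
  exact (map_injective η _ this).symm

end Groth.Agent.Lib.Helper22.EtaIntDesc
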