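import Mathlib
import Groth.Agent.Lib.Helper22.EtaRel2

/-!
# Localization statements (EtaPt)
-/

namespace Groth.Agent.Lib.Helper22.EtaLoc

open EtaPt Groth.Agent.Lib.Helper22.EtaBasic Groth.Agent.Lib.Helper22.EtaVal
  Groth.Agent.Lib.Helper22.EtaInt Groth.Agent.Lib.Helper22.EtaSpec
  Groth.Agent.Lib.Helper22.EtaRel Groth.Agent.Lib.Helper22.EtaRel2

universe u

variable (η : FieldEndo.{u})

section sos

variable {A B : Type u} [CommRing A] [CommRing B]

lemma map_bijective_of_bijective {K L : Type u} [Field K] [Field L] (φ : K →+* L)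
    (hφ : Function.Bijective φ) : Function.Bijective (η.map φ) := by
  have := map_bijective_of_equiv η (RingEquiv.ofBijective φ hφ)
  have h2 : ((RingEquiv.ofBijective φ hφ : K ≃+* L) : K →+* L) = φ := by ext; rfl
  rwa [h2] at this

lemma map_rm_bijective_of_sos (g : A →+* B) (hg : g.SurjectiveOnStalks) (p : PrimeSpectrum A)
    (q : PrimeSpectrum B) (h : p.asIdeal = q.asIdeal.comap g) :
    Function.Bijective (η.map (rm g p q h)) :=
  map_bijective_of_bijective η _ (hg.residueFieldMap_bijective p.asIdeal q.asIdeal h)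

theorem Nmap_surjective_of_sos (g : A →+* B) (hg : g.SurjectiveOnStalks)
    (hinj : Function.Injective (PrimeSpectrum.comap g)) : Function.Surjective (η.Nmap g) := by
  classical
  intro y
  have key : ∀ p : PrimeSpectrum A, ∃ z : η.obj p.asIdeal.ResidueField,
      ∀ (q : PrimeSpectrum B) (h : p.asIdeal = q.asIdeal.comap g),
        η.map (rm g p q h) z = y q := by
    intro p
    by_cases hp : ∃ q : PrimeSpectrum B, p.asIdeal = q.asIdeal.comap g
    · obtain ⟨q₀, h₀⟩ := hp
      obtain ⟨z, hz⟩ := (map_rm_bijective_of_sos η g hg p q₀ h₀).2 (y q₀)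
      refine ⟨z, fun q h => ?_⟩
      have : q = q₀ := hinj (PrimeSpectrum.ext (h.symm.trans h₀))
      subst this
      exact hz
    · exact ⟨0, fun q h => absurd ⟨q, h⟩ hp⟩
  choose x hx using key
  refine ⟨x, ?_⟩
  funext q
  rw [Nmap_apply]
  exact hx _ q rfl

lemma eq_zero_of_Nmap_eq_zero (g : A →+* B) (x : η.N A) (h0 : η.Nmap g x = 0)
    (q : PrimeSpectrum B) (p : PrimeSpectrum A) (h : p.asIdeal = q.asIdeal.comap g) : x p = 0 := by
  have h1 := congrFun h0 q
  rw [Nmap_apply' η g x q p h] at h1
  exact (map_eq_zero_iff _ (map_injective η _)).mp h1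

lemma t_apply_eq_zero_of_mem (a : A) (p : PrimeSpectrum A) (h : a ∈ p.asIdeal) : η.t A a p = 0 := by
  rw [t_apply, Ideal.algebraMap_residueField_eq_zero.mpr h, map_zero]

end sos

section away

variable (A : Type u) [CommRing A] (f : A) (L : Type u) [CommRing L] [Algebra A L]
  [IsLocalization.Away f L]

include f in
theorem N_away_surj (y : η.N L) : ∃ x : η.N A, η.Nmap (algebraMap A L) x = y :=
  Nmap_surjective_of_sos η (algebraMap A L)
    (RingHom.surjectiveOnStalks_of_isLocalization (Submonoid.powers f) L)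
    (PrimeSpectrum.localization_comap_injective L (Submonoid.powers f)) y

theorem N_away_ker (x : η.N A) (h0 : η.Nmap (algebraMap A L) x = 0) : η.t A f * x = 0 := by
  funext p
  change η.t A f p * x p = 0
  by_cases hf : f ∈ p.asIdeal
  · rw [t_apply_eq_zero_of_mem η f p hf, zero_mul]
  · have hp : p ∈ Set.range (PrimeSpectrum.comap (algebraMap A L)) := by
      rw [PrimeSpectrum.localization_away_comap_range L f]
      exact hf
    obtain ⟨q, rfl⟩ := hp
    rw [eq_zero_of_Nmap_eq_zero η _ x h0 q _ rfl, mul_zero]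

lemma minimalPrimes_finite_of_isLocalization {A : Type*} [CommRing A] (S : Submonoid A)
    (L : Type*) [CommRing L] [Algebra A L]
    [IsLocalization S L] (hA : (minimalPrimes A).Finite) : (minimalPrimes L).Finite := by
  have h1 : minimalPrimes L = Ideal.under A ⁻¹' minimalPrimes A := by
    have := IsLocalization.minimalPrimes_map S L (⊥ : Ideal A)
    rwa [Ideal.map_bot] at this
  rw [h1]
  apply hA.preimage
  intro I _ J _ hIJ
  rw [← IsLocalization.map_under S L I, ← IsLocalization.map_under S L J]
  exact congrArg _ hIJ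

end away

end Groth.Agent.Lib.Helper22.EtaLoc
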