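import Mathlib
import Groth.Agent.Lib.Helper22.EtaLoc

/-!
# `M(A)[1/f] = M(A_f)` (EtaPt)
-/

namespace Groth.Agent.Lib.Helper22.EtaLoc2

open EtaPt Groth.Agent.Lib.Helper22.EtaBasic Groth.Agent.Lib.Helper22.EtaVal
  Groth.Agent.Lib.Helper22.EtaInt Groth.Agent.Lib.Helper22.EtaSpec
  Groth.Agent.Lib.Helper22.EtaRel Groth.Agent.Lib.Helper22.EtaRel2
  Groth.Agent.Lib.Helper22.EtaLoc

universe u

variable (η : FieldEndo.{u})

theorem exists_mem_M_away (A : Type u) [CommRing A] (hA : (minimalPrimes A).Finite) (f : A)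
    (L : Type u) [CommRing L] [Algebra A L] [IsLocalization.Away f L]
    (y : η.N L) (hy : y ∈ η.M L) :
    ∃ x ∈ η.M A, ∃ n : ℕ, y * η.t L (algebraMap A L f) ^ n = η.Nmap (algebraMap A L) x := by
  classical
  set alg : A →+* L := algebraMap A L with halg
  have hL : (minimalPrimes L).Finite :=
    minimalPrimes_finite_of_isLocalization (Submonoid.powers f) L hA
  -- integrality
  obtain ⟨k, P, hP, hPy⟩ : ∃ (k : ℕ) (P : Polynomial A), P.Monic ∧
      Polynomial.eval₂ ((η.t L).comp alg) (η.t L (alg f) ^ k * y) P = 0 := by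
    letI : Algebra L (η.M L) := (η.q L).toAlgebra
    letI : Algebra A (η.M L) := ((η.q L).comp alg).toAlgebra
    haveI : IsScalarTower A L (η.M L) := IsScalarTower.of_algebraMap_eq (fun _ => rfl)
    have hint : IsIntegral L (⟨y, hy⟩ : η.M L) := q_isIntegral η hL ⟨y, hy⟩
    obtain ⟨⟨m, k, rfl⟩, P, hP, hPm⟩ :=
      IsIntegral.exists_multiple_integral_of_isLocalization (Submonoid.powers f)
        (⟨y, hy⟩ : η.M L) hint
    refine ⟨k, P, hP, ?_⟩
    have := congrArg (η.M L).subtype hPm
    rw [Polynomial.hom_eval₂, map_zero] at this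
    rw [← this]
    congr 1
    rw [Submonoid.smul_def, Algebra.smul_def, map_mul]
    change _ = η.t L (alg (f ^ k)) * y
    rw [map_pow, map_pow]
  obtain ⟨x₀, hx₀⟩ := N_away_surj η A f L y
  set x : η.N A := η.t A f ^ (k + 1) * x₀ with hx
  have hxy : η.Nmap alg x = η.t L (alg f) ^ (k + 1) * y := by
    rw [hx, map_mul, map_pow, η.Nmap_t_apply, hx₀]
  refine ⟨x, ?_, k + 1, by rw [hxy, mul_comm]⟩
  intro R _ _ _ hR g
  by_cases hgf : g f = 0
  · refine ⟨0, ?_⟩
    rw [map_zero, hx, map_mul, map_pow, η.Nmap_t_apply, hgf, map_zero,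
      zero_pow (Nat.succ_ne_zero k), zero_mul]
  · set K := FractionRing R with hK
    have hKbij : Function.Bijective (η.eta K) := hR
    set ι : R →+* K := algebraMap R K with hι
    have hιinj : Function.Injective ι := IsFractionRing.injective R K
    have hunit : IsUnit ((ι.comp g) f) := by
      apply IsUnit.mk0
      intro h0
      exact hgf (hιinj (by rw [map_zero]; exact h0))
    let gK : L →+* K := IsLocalization.Away.lift f hunit
    have hgK : ∀ a, gK (alg a) = ι (g a) := fun a => IsLocalization.Away.lift_eq f hunit a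
    -- generic prime of L
    obtain ⟨P₀, hP₀k⟩ : ∃ P₀ : PrimeSpectrum L, P₀.asIdeal = RingHom.ker gK :=
      ⟨⟨RingHom.ker gK, RingHom.ker_isPrime gK⟩, rfl⟩
    let j : P₀.asIdeal.ResidueField →+* K :=
      Ideal.ResidueField.lift P₀.asIdeal gK (le_of_eq hP₀k) (by
        intro l hl
        change IsUnit (gK l)
        exact IsUnit.mk0 _ (fun h0 => hl (by rw [hP₀k]; exact RingHom.mem_ker.mpr h0)))
    have hj : ∀ l, j (algebraMap L _ l) = gK l :=
      fun l => Ideal.ResidueField.lift_algebraMap _ _ _ _ l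
    obtain ⟨r', hr'⟩ := hKbij.2 (η.map j (y P₀))
    let Φ : η.N L →+* η.obj K := (η.map j).comp
      (Pi.evalRingHom (fun p : PrimeSpectrum L => η.obj p.asIdeal.ResidueField) P₀)
    have hΦt : ∀ l, Φ (η.t L l) = η.eta K (gK l) := by
      intro l
      change η.map j (η.t L l P₀) = _
      rw [t_apply, ← hj]
      exact congrArg (fun k => k (algebraMap L _ l)) (congrArg DFunLike.coe (η.eta_natural j))
    have hΦy : Φ y = η.eta K r' := hr'.symm
    have h1 := congrArg Φ hPy
    rw [Polynomial.hom_eval₂, map_zero, map_mul, map_pow, hΦt, hΦy, hgK, ← map_pow, ← map_mul] at h1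
    have hΦcomp : Φ.comp ((η.t L).comp alg) = (η.eta K).comp (ι.comp g) := by
      refine RingHom.ext fun a => ?_
      change Φ (η.t L (alg a)) = η.eta K (ι (g a))
      rw [hΦt, hgK]
    rw [hΦcomp, ← Polynomial.hom_eval₂] at h1
    have h2 : Polynomial.eval₂ (ι.comp g) (ι (g f) ^ k * r') P = 0 :=
      (map_eq_zero_iff _ (eta_injective η K)).mp h1
    have hint'' : IsIntegral R (ι (g f) ^ k * r') := by
      refine ⟨P.map g, hP.map g, ?_⟩
      rw [Polynomial.eval₂_map]; exact h2
    obtain ⟨r'', hr''⟩ := IsIntegrallyClosed.isIntegral_iff.mp hint''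
    set r : R := g f * r'' with hr
    have hrK : ι r = ι (g f) ^ (k + 1) * r' := by
      rw [hr, map_mul, hr'', pow_succ]; ring
    refine ⟨r, ?_⟩
    funext 𝔯
    by_cases h𝔯 : g f ∈ 𝔯.asIdeal
    · rw [t_apply_eq_zero_of_mem η r 𝔯 (Ideal.mul_mem_right _ _ h𝔯), hx, map_mul, map_pow,
        η.Nmap_t_apply]
      change 0 = (η.t R (g f) 𝔯) ^ (k + 1) * _
      rw [t_apply_eq_zero_of_mem η _ 𝔯 h𝔯, zero_pow (Nat.succ_ne_zero k), zero_mul]
    · obtain ⟨V, hV, hV𝔯⟩ := exists_valuationSubring_over' ι hιinj 𝔯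
      set ιV : R →+* V := ι.codRestrict V.toSubring hV with hιV
      have hunitV : IsUnit ((ιV.comp g) f) := by
        rw [RingHom.comp_apply, ← IsLocalRing.notMem_maximalIdeal]
        intro hmem
        apply h𝔯
        rw [← hV𝔯]
        exact hmem
      let gV : L →+* V := IsLocalization.Away.lift f hunitV
      have hgV : ∀ a, gV (alg a) = ιV (g a) := fun a => IsLocalization.Away.lift_eq f hunitV a
      have hgVK : ∀ l, ((gV l : V) : K) = gK l := by
        have : (V.subtype : V →+* K).comp gV = gK := by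
          apply IsLocalization.ringHom_ext (Submonoid.powers f)
          refine RingHom.ext fun a => ?_
          rw [RingHom.comp_apply, RingHom.comp_apply, RingHom.comp_apply, hgV, hgK]
          rfl
        intro l
        exact congrArg (fun k => k l) (congrArg DFunLike.coe this)
      have hcomp : gV.comp alg = ιV.comp g := RingHom.ext hgV
      obtain ⟨ρ, hρ, hρgen⟩ := exists_eval_valuationSubring η hKbij V gV hy
      have hP₀ : P₀.asIdeal = (gen V).asIdeal.comap gV := by
        ext l
        rw [hP₀k]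
        change gK l = 0 ↔ gV l = 0
        rw [← hgVK]
        exact ⟨fun h => Subtype.ext h, fun h => congrArg Subtype.val h⟩
      have hρr : (ρ : K) = r' := by
        apply eta_injective η K
        rw [hρgen P₀ hP₀ j (fun l => by rw [hj, hgVK]), hr']
      have key : η.Nmap ιV (η.Nmap g x) = η.Nmap ιV (η.t R r) := by
        rw [← Nmap_comp, ← hcomp, Nmap_comp, hxy, map_mul, map_pow, η.Nmap_t_apply, hρ,
          η.Nmap_t_apply, ← map_pow, ← map_mul]
        congr 1
        apply Subtype.ext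
        change ((gV (alg f) : V) : K) ^ (k + 1) * (ρ : K) = ι r
        rw [hgVK, hgK, hρr, hrK]
      let 𝔪 : PrimeSpectrum V := ⟨IsLocalRing.maximalIdeal V, inferInstance⟩
      have h𝔪 : 𝔯.asIdeal = 𝔪.asIdeal.comap ιV := hV𝔯.symm
      have := congrFun key 𝔪
      rw [Nmap_apply' η ιV _ 𝔪 𝔯 h𝔪, Nmap_apply' η ιV _ 𝔪 𝔯 h𝔪] at this
      exact (map_injective η _ this).symm

end Groth.Agent.Lib.Helper22.EtaLoc2

namespace Groth.Agent.Lib.Helper22.EtaLoc2

open EtaPt Groth.Agent.Lib.Helper22.EtaBasic Groth.Agent.Lib.Helper22.EtaVal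
  Groth.Agent.Lib.Helper22.EtaInt Groth.Agent.Lib.Helper22.EtaSpec
  Groth.Agent.Lib.Helper22.EtaRel Groth.Agent.Lib.Helper22.EtaRel2
  Groth.Agent.Lib.Helper22.EtaLoc

universe u

variable (η : FieldEndo.{u}) {A B : Type u} [CommRing A] [CommRing B]

lemma awayMap_algebraMap (φ : A →+* B) (f : A) (a : A) :
    Localization.awayMap φ f (algebraMap A (Localization.Away f) a) =
      algebraMap B (Localization.Away (φ f)) (φ a) :=
  IsLocalization.map_eq _ a

lemma awayMap_comp (φ : A →+* B) (f : A) :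
    (Localization.awayMap φ f).comp (algebraMap A (Localization.Away f)) =
      (algebraMap B (Localization.Away (φ f))).comp φ :=
  RingHom.ext (awayMap_algebraMap φ f)

theorem rel_map_le_rel_awayMap (φ : A →+* B) (f : A) :
    (η.rel φ).map (algebraMap B (Localization.Away (φ f))) ≤ η.rel (Localization.awayMap φ f) := by
  rintro _ ⟨b, hb, rfl⟩
  obtain ⟨x, hx, hxb⟩ := (mem_rel_iff η _ b).mp hb
  rw [mem_rel_iff]
  refine ⟨η.Nmap (algebraMap A (Localization.Away f)) x, Nmap_mem_M η _ hx, ?_⟩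
  rw [← Nmap_comp, awayMap_comp, Nmap_comp, hxb, η.Nmap_t_apply]

theorem exists_mem_rel_of_mem_rel_awayMap (hA : (minimalPrimes A).Finite) (φ : A →+* B) (f : A)
    (y : Localization.Away (φ f)) (hy : y ∈ η.rel (Localization.awayMap φ f)) :
    ∃ x ∈ η.rel φ, ∃ n : ℕ,
      y * algebraMap B (Localization.Away (φ f)) (φ f) ^ n =
        algebraMap B (Localization.Away (φ f)) x := by
  obtain ⟨z, hz, hzy⟩ := (mem_rel_iff η _ y).mp hy
  obtain ⟨x₁, hx₁, n, hn⟩ := exists_mem_M_away η A hA f (Localization.Away f) z hz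
  obtain ⟨m, b, hb⟩ := IsLocalization.Away.surj (φ f) y
  have hφfalg := awayMap_algebraMap φ f f
  have e1 : η.Nmap (algebraMap B (Localization.Away (φ f))) (η.t B (b * φ f ^ n)) =
      η.t _ y * η.t _ (algebraMap B (Localization.Away (φ f)) (φ f)) ^ (m + n) := by
    rw [η.Nmap_t_apply, map_mul (algebraMap B (Localization.Away (φ f))), ← hb, map_mul, map_mul,
      map_pow, map_pow, map_pow, pow_add, mul_assoc]
  have e2 : η.Nmap (algebraMap B (Localization.Away (φ f))) (η.Nmap φ (x₁ * η.t A f ^ m)) =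
      η.t _ y * η.t _ (algebraMap B (Localization.Away (φ f)) (φ f)) ^ (m + n) := by
    rw [← Nmap_comp, ← awayMap_comp, Nmap_comp, map_mul (η.Nmap (algebraMap A (Localization.Away f))),
      ← hn, map_pow, η.Nmap_t_apply, map_mul, map_mul, map_pow, map_pow, η.Nmap_t_apply, hzy,
      hφfalg, pow_add]
    ring
  have hd : η.Nmap (algebraMap B (Localization.Away (φ f)))
      (η.t B (b * φ f ^ n) - η.Nmap φ (x₁ * η.t A f ^ m)) = 0 := by
    rw [map_sub, e1, e2, sub_self]
  have h1 := N_away_ker η B (φ f) (Localization.Away (φ f)) _ hd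
  rw [mul_sub, sub_eq_zero] at h1
  refine ⟨b * φ f ^ (n + 1), ?_, m + n + 1, ?_⟩
  · rw [mem_rel_iff]
    refine ⟨x₁ * η.t A f ^ (m + 1), Subring.mul_mem _ hx₁ (Subring.pow_mem _ (η.t_mem_M A f) _), ?_⟩
    have e3 : η.Nmap φ (x₁ * η.t A f ^ (m + 1)) = η.t B (φ f) * η.Nmap φ (x₁ * η.t A f ^ m) := by
      rw [map_mul, map_mul, map_pow, map_pow, η.Nmap_t_apply, pow_succ]
      ring
    rw [e3, ← h1, ← map_mul]
    congr 1
    ring
  · rw [map_mul (algebraMap B (Localization.Away (φ f))), ← hb, map_pow]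
    ring

end Groth.Agent.Lib.Helper22.EtaLoc2

namespace Groth.Agent.Lib.Helper22.EtaLoc2

open EtaPt Groth.Agent.Lib.Helper22.EtaBasic Groth.Agent.Lib.Helper22.EtaVal
  Groth.Agent.Lib.Helper22.EtaInt Groth.Agent.Lib.Helper22.EtaSpec
  Groth.Agent.Lib.Helper22.EtaRel Groth.Agent.Lib.Helper22.EtaRel2
  Groth.Agent.Lib.Helper22.EtaLoc

universe u

variable (η : FieldEndo.{u}) {A B : Type u} [CommRing A] [CommRing B]

theorem qRel_awayMap_bijective (hA : (minimalPrimes A).Finite) (φ : A →+* B)
    (h : Function.Bijective (η.qRel φ)) (f : A) :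
    Function.Bijective (η.qRel (Localization.awayMap φ f)) := by
  rw [qRel_bijective_iff] at h ⊢
  constructor
  · rw [Localization.awayMap_injective_iff]
    intro a ha
    refine ⟨0, ?_⟩
    rw [pow_zero, one_mul]
    exact h.1 (by rw [ha, map_zero])
  · intro y hy
    obtain ⟨x, hx, n, hn⟩ := exists_mem_rel_of_mem_rel_awayMap η hA φ f y hy
    obtain ⟨a, rfl⟩ := h.2 x hx
    obtain ⟨u, hu⟩ := IsLocalization.Away.algebraMap_isUnit (S := Localization.Away f) f
    refine ⟨algebraMap A (Localization.Away f) a * ((u⁻¹ : (Localization.Away f)ˣ) : Localization.Away f) ^ n, ?_⟩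
    rw [map_mul, awayMap_algebraMap, ← hn, ← awayMap_algebraMap φ f f, map_pow, mul_assoc, ← mul_pow,
      ← map_mul, ← hu, Units.mul_inv, map_one, one_pow, mul_one]

lemma eq_top_of_forall_pow_mem (J : Ideal A) (s : Finset A) (hspan : Ideal.span (s : Set A) = ⊤)
    (h : ∀ f ∈ s, ∃ n : ℕ, f ^ n ∈ J) : J = ⊤ := by
  rw [← Ideal.radical_eq_top, eq_top_iff, ← hspan, Ideal.span_le]
  intro f hf
  exact h f hf

theorem qRel_bijective_of_awayMap (hA : (minimalPrimes A).Finite) (φ : A →+* B)
    (s : Finset A) (hspan : Ideal.span (s : Set A) = ⊤)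
    (h : ∀ f ∈ s, Function.Bijective (η.qRel (Localization.awayMap φ f))) :
    Function.Bijective (η.qRel φ) := by
  rw [qRel_bijective_iff]
  constructor
  · rw [injective_iff_map_eq_zero]
    intro a ha
    let J : Ideal A := LinearMap.ker (LinearMap.toSpanSingleton A A a)
    have hJ : J = ⊤ := by
      apply eq_top_of_forall_pow_mem J s hspan
      intro f hf
      have hinj := ((qRel_bijective_iff η _).mp (h f hf)).1
      rw [Localization.awayMap_injective_iff] at hinj
      obtain ⟨n, hn⟩ := hinj a ha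
      refine ⟨n, ?_⟩
      change (LinearMap.toSpanSingleton A A a) (f ^ n) = 0
      rw [LinearMap.toSpanSingleton_apply, smul_eq_mul]
      exact hn
    have h1 : (1 : A) ∈ J := by rw [hJ]; trivial
    have h2 : (LinearMap.toSpanSingleton A A a) 1 = 0 := h1
    rwa [LinearMap.toSpanSingleton_apply, one_smul] at h2
  · intro b hb
    let J : Ideal A :=
      { carrier := {c | φ c * b ∈ φ.range}
        add_mem' := by
          intro c d hc hd
          change φ (c + d) * b ∈ φ.range
          rw [map_add, add_mul]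
          exact Subring.add_mem _ hc hd
        zero_mem' := by
          change φ 0 * b ∈ φ.range
          rw [map_zero, zero_mul]
          exact Subring.zero_mem _
        smul_mem' := by
          intro c d hd
          change φ (c • d) * b ∈ φ.range
          rw [smul_eq_mul, map_mul, mul_assoc]
          exact Subring.mul_mem _ ⟨c, rfl⟩ hd }
    have hJ : J = ⊤ := by
      apply eq_top_of_forall_pow_mem J s hspan
      intro f hf
      have hsurj := ((qRel_bijective_iff η _).mp (h f hf)).2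
      have hmem : algebraMap B (Localization.Away (φ f)) b ∈ η.rel (Localization.awayMap φ f) :=
        rel_map_le_rel_awayMap η φ f ⟨b, hb, rfl⟩
      obtain ⟨a', ha'⟩ := hsurj _ hmem
      obtain ⟨n, a, hna⟩ := IsLocalization.Away.surj f a'
      have h3 : algebraMap B (Localization.Away (φ f)) (b * φ f ^ n) =
          algebraMap B (Localization.Away (φ f)) (φ a) := by
        rw [← awayMap_algebraMap, ← hna, map_mul (Localization.awayMap φ f), ha',
          map_pow (Localization.awayMap φ f), awayMap_algebraMap, map_mul, map_pow]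
      obtain ⟨⟨_, m, rfl⟩, hm⟩ := (IsLocalization.eq_iff_exists (Submonoid.powers (φ f)) _).mp h3
      refine ⟨m + n, ?_⟩
      change φ (f ^ (m + n)) * b ∈ φ.range
      refine ⟨f ^ m * a, ?_⟩
      rw [map_mul, map_pow, map_pow, pow_add, ← hm]
      ring
    have h1 : (1 : A) ∈ J := by rw [hJ]; trivial
    obtain ⟨a, ha⟩ : φ 1 * b ∈ φ.range := h1
    exact ⟨a, by rw [ha, map_one, one_mul]⟩

end Groth.Agent.Lib.Helper22.EtaLoc2
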