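import Mathlib
import Groth.Agent.Lib.Helper22.EtaRel2

/-!
# `M(f)` statements (EtaPt)
-/

namespace Groth.Agent.Lib.Helper22.EtaMmap

open EtaPt Groth.Agent.Lib.Helper22.EtaBasic Groth.Agent.Lib.Helper22.EtaVal
  Groth.Agent.Lib.Helper22.EtaInt Groth.Agent.Lib.Helper22.EtaSpec
  Groth.Agent.Lib.Helper22.EtaRel Groth.Agent.Lib.Helper22.EtaRel2

universe u

variable (η : FieldEndo.{u}) {A B : Type u} [CommRing A] [CommRing B]

lemma square (f : A →+* B) (g : η.M A →+* η.M B)
    (hg : ∀ x : η.M A, ((g x : η.M B) : η.N B) = η.Nmap f (x : η.N A)) :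
    g.comp (η.q A) = (η.q B).comp f := by
  refine RingHom.ext fun a => ?_
  apply Subtype.ext
  rw [RingHom.comp_apply, hg]
  exact η.Nmap_t_apply f a

lemma comap_square (f : A →+* B) (g : η.M A →+* η.M B)
    (hg : ∀ x : η.M A, ((g x : η.M B) : η.N B) = η.Nmap f (x : η.N A)) (Q : PrimeSpectrum (η.M B)) :
    PrimeSpectrum.comap (η.q A) (PrimeSpectrum.comap g Q) =
      PrimeSpectrum.comap f (PrimeSpectrum.comap (η.q B) Q) := by
  apply PrimeSpectrum.ext
  change (Q.asIdeal.comap g).comap (η.q A) = (Q.asIdeal.comap (η.q B)).comap f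
  rw [Ideal.comap_comap, Ideal.comap_comap, square η f g hg]

/-- if `q_B ∘ f` is integral then `f` is integral. -/
lemma isIntegral_of_q_comp (f : A →+* B) (h : ((η.q B).comp f).IsIntegral) : f.IsIntegral := by
  intro b
  obtain ⟨P, hP, hPb⟩ := h (η.q B b)
  rw [← Polynomial.hom_eval₂] at hPb
  have h0 : η.t B (Polynomial.eval₂ f b P) = 0 := congrArg Subtype.val hPb
  obtain ⟨n, hn⟩ := isNilpotent_of_t_eq_zero η _ h0
  refine ⟨P ^ n, hP.pow n, ?_⟩
  rw [Polynomial.eval₂_pow, hn]

theorem isIntegral_iff_and_comap_surjective_iff (hA : (minimalPrimes A).Finite)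
    (hB : (minimalPrimes B).Finite) (f : A →+* B)
    (g : η.M A →+* η.M B) (hg : ∀ x : η.M A, ((g x : η.M B) : η.N B) = η.Nmap f (x : η.N A)) :
    (f.IsIntegral ↔ g.IsIntegral) ∧
      (Function.Surjective (PrimeSpectrum.comap f) ↔ Function.Surjective (PrimeSpectrum.comap g)) := by
  have hsq := square η f g hg
  have hqA := (comap_q_bijective_and_factor η hA).1
  have hqB := (comap_q_bijective_and_factor η hB).1
  refine ⟨⟨fun hf => ?_, fun hgi => ?_⟩, ⟨fun hf P' => ?_, fun hgs p => ?_⟩⟩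
  · have h1 : ((η.q B).comp f).IsIntegral := hf.trans _ _ (q_isIntegral η hB)
    rw [← hsq] at h1
    exact RingHom.IsIntegral.tower_top _ _ h1
  · apply isIntegral_of_q_comp η f
    rw [← hsq]
    exact (q_isIntegral η hA).trans _ _ hgi
  · obtain ⟨Q₀, hQ₀⟩ := hf (PrimeSpectrum.comap (η.q A) P')
    obtain ⟨Q, hQ⟩ := hqB.2 Q₀
    refine ⟨Q, hqA.1 ?_⟩
    rw [comap_square η f g hg, hQ, hQ₀]
  · obtain ⟨P', hP'⟩ := hqA.2 p
    obtain ⟨Q, hQ⟩ := hgs P'
    refine ⟨PrimeSpectrum.comap (η.q B) Q, ?_⟩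
    rw [← comap_square η f g hg, hQ, hP']

lemma comap_bijective_of_bijective {R S : Type*} [CommRing R] [CommRing S] (g : R →+* S)
    (hg : Function.Bijective g) : Function.Bijective (PrimeSpectrum.comap g) := by
  refine ⟨PrimeSpectrum.comap_injective_of_surjective g hg.2, fun P => ?_⟩
  let e := RingEquiv.ofBijective g hg
  refine ⟨PrimeSpectrum.comap (e.symm : S →+* R) P, ?_⟩
  apply PrimeSpectrum.ext
  change (P.asIdeal.comap (e.symm : S →+* R)).comap g = P.asIdeal
  rw [Ideal.comap_comap]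
  have : (e.symm : S →+* R).comp g = RingHom.id R := by
    ext r
    exact e.symm_apply_apply r
  rw [this, Ideal.comap_id]

theorem comap_bijective_and_residue_factor (hA : (minimalPrimes A).Finite)
    (hB : (minimalPrimes B).Finite) (f : A →+* B)
    (g : η.M A →+* η.M B) (hg : ∀ x : η.M A, ((g x : η.M B) : η.N B) = η.Nmap f (x : η.N A))
    (hbij : Function.Bijective g) :
    Function.Bijective (PrimeSpectrum.comap f) ∧
      ∀ Q : PrimeSpectrum B,
        ∃ φ : Q.asIdeal.ResidueField →+* η.obj (PrimeSpectrum.comap f Q).asIdeal.ResidueField,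
          φ.comp (Ideal.ResidueField.map (PrimeSpectrum.comap f Q).asIdeal Q.asIdeal f rfl) =
            η.eta (PrimeSpectrum.comap f Q).asIdeal.ResidueField := by
  have hsq := square η f g hg
  have hqA := (comap_q_bijective_and_factor η hA).1
  have hqB := (comap_q_bijective_and_factor η hB).1
  have hgb := comap_bijective_of_bijective g hbij
  constructor
  · have h1 : (PrimeSpectrum.comap f) ∘ (PrimeSpectrum.comap (η.q B)) =
        (PrimeSpectrum.comap (η.q A)) ∘ (PrimeSpectrum.comap g) := by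
      funext Q
      exact (comap_square η f g hg Q).symm
    have h2 : Function.Bijective ((PrimeSpectrum.comap f) ∘ (PrimeSpectrum.comap (η.q B))) := by
      rw [h1]
      exact hqA.comp hgb
    exact (Function.Bijective.of_comp_iff _ hqB).mp h2
  · intro Q
    set P : PrimeSpectrum A := PrimeSpectrum.comap f Q with hP
    let e := RingEquiv.ofBijective g hbij
    let ginv : η.M B →+* η.M A := (e.symm : η.M B →+* η.M A)
    have hginv : ginv.comp g = RingHom.id _ := by
      ext1 r
      exact e.symm_apply_apply r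
    have hginv' : g.comp ginv = RingHom.id _ := by
      ext1 r
      exact e.apply_symm_apply r
    set Q' : PrimeSpectrum (η.M B) := Qp η Q with hQ'
    set P' : PrimeSpectrum (η.M A) := PrimeSpectrum.comap g Q' with hP'
    have hQQ' : Q.asIdeal = Q'.asIdeal.comap (η.q B) := comap_Qp η Q
    have hPP' : P.asIdeal = P'.asIdeal.comap (η.q A) := by
      change Q.asIdeal.comap f = (Q'.asIdeal.comap g).comap (η.q A)
      rw [Ideal.comap_comap, hsq, ← Ideal.comap_comap, ← hQQ']
    have hQ'P' : Q'.asIdeal = P'.asIdeal.comap ginv := by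
      change Q'.asIdeal = (Q'.asIdeal.comap g).comap ginv
      rw [Ideal.comap_comap, hginv', Ideal.comap_id]
    obtain ⟨φ', hφ'⟩ := exists_factor_q η hA P' P hPP'
    refine ⟨φ'.comp ((rm ginv Q' P' hQ'P').comp (rm (η.q B) Q Q' hQQ')), ?_⟩
    change (φ'.comp ((rm ginv Q' P' hQ'P').comp (rm (η.q B) Q Q' hQQ'))).comp (rm f P Q rfl) = _
    have hPQ' : P.asIdeal = Q'.asIdeal.comap ((η.q B).comp f) := by
      rw [← Ideal.comap_comap, ← hQQ']; rfl
    have hPP'2 : P.asIdeal = P'.asIdeal.comap (ginv.comp ((η.q B).comp f)) := by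
      rw [← Ideal.comap_comap, ← hQ'P', ← hPQ']
    have hcomp : ginv.comp ((η.q B).comp f) = η.q A := by
      rw [← hsq, ← RingHom.comp_assoc, hginv, RingHom.id_comp]
    rw [RingHom.comp_assoc, RingHom.comp_assoc, rm_comp f (η.q B) P Q Q' rfl hQQ' hPQ',
      rm_comp ((η.q B).comp f) ginv P Q' P' hPQ' hQ'P' hPP'2,
      rm_congr hcomp P P' hPP'2 hPP', hφ']

end Groth.Agent.Lib.Helper22.EtaMmap
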