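import Mathlib
import Groth.Prelude.Def_EGA4b
import Groth.Agent.Lib.Helper22.EtaLoc

/-!
# Normal rings: `q_A` bijective (EtaPt)
-/

namespace Groth.Agent.Lib.Helper22.EtaNormal

open EtaPt Groth.Agent.Lib.Helper22.EtaBasic Groth.Agent.Lib.Helper22.EtaVal
  Groth.Agent.Lib.Helper22.EtaInt Groth.Agent.Lib.Helper22.EtaSpec
  Groth.Agent.Lib.Helper22.EtaRel Groth.Agent.Lib.Helper22.EtaRel2
  Groth.Agent.Lib.Helper22.EtaLoc

universe u

variable (η : FieldEndo.{u}) {A : Type u} [CommRing A]

lemma exists_mul_mem_range (hn : EGA4.IsNormalRing A) (hA : (minimalPrimes A).Finite)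
    (hη : ∀ p : PrimeSpectrum A, p.asIdeal ∈ minimalPrimes A →
      Function.Bijective (η.eta p.asIdeal.ResidueField))
    {x : η.N A} (hx : x ∈ η.M A) (p : PrimeSpectrum A) :
    ∃ s : A, s ∉ p.asIdeal ∧ η.t A s * x ∈ (η.t A).range := by
  classical
  obtain ⟨hdom, hic⟩ := @hn p.asIdeal p.isPrime
  haveI := hdom
  haveI := hic
  have hsos : (algebraMap A (Localization.AtPrime p.asIdeal)).SurjectiveOnStalks :=
    RingHom.surjectiveOnStalks_of_isLocalization p.asIdeal.primeCompl _
  -- InV
  have hInV : η.InV (Localization.AtPrime p.asIdeal) := by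
    rw [inV_iff_gen]
    set 𝔭₀ : PrimeSpectrum A := PrimeSpectrum.comap (algebraMap A (Localization.AtPrime p.asIdeal))
      (gen (Localization.AtPrime p.asIdeal)) with h𝔭₀
    have hmin : 𝔭₀.asIdeal ∈ minimalPrimes A := by
      have h1 : minimalPrimes (Localization.AtPrime p.asIdeal) =
          Ideal.under A ⁻¹' minimalPrimes A := by
        have := IsLocalization.minimalPrimes_map p.asIdeal.primeCompl
          (Localization.AtPrime p.asIdeal) (⊥ : Ideal A)
        rwa [Ideal.map_bot] at this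
      have h2 : (⊥ : Ideal (Localization.AtPrime p.asIdeal)) ∈
          minimalPrimes (Localization.AtPrime p.asIdeal) := by
        rw [IsDomain.minimalPrimes_eq_singleton_bot]; rfl
      rw [h1] at h2
      exact h2
    exact eta_bijective_of_equiv η (RingEquiv.ofBijective _
      (hsos.residueFieldMap_bijective 𝔭₀.asIdeal (gen (Localization.AtPrime p.asIdeal)).asIdeal rfl))
      (hη 𝔭₀ hmin)
  obtain ⟨a', ha'⟩ := (q_bijective_of_isIntegrallyClosed η (Localization.AtPrime p.asIdeal) hInV).2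
    ⟨η.Nmap (algebraMap A (Localization.AtPrime p.asIdeal)) x, Nmap_mem_M η _ hx⟩
  have ha'' : η.t _ a' = η.Nmap (algebraMap A (Localization.AtPrime p.asIdeal)) x :=
    congrArg Subtype.val ha'
  obtain ⟨⟨a, s⟩, has⟩ := IsLocalization.surj p.asIdeal.primeCompl a'
  have has' : a' * algebraMap A (Localization.AtPrime p.asIdeal) (s : A) =
      algebraMap A (Localization.AtPrime p.asIdeal) a := has
  set w : η.N A := η.t A s * x - η.t A a with hw
  have hwM : w ∈ η.M A :=
    Subring.sub_mem _ (Subring.mul_mem _ (η.t_mem_M A _) hx) (η.t_mem_M A a)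
  have hw0 : η.Nmap (algebraMap A (Localization.AtPrime p.asIdeal)) w = 0 := by
    rw [hw, map_sub, map_mul, η.Nmap_t_apply, η.Nmap_t_apply, ← ha'', ← map_mul, mul_comm, has',
      sub_self]
  have hvan : ∀ 𝔮 : PrimeSpectrum A, 𝔮.asIdeal ≤ p.asIdeal → w 𝔮 = 0 := by
    intro 𝔮 hle
    have : 𝔮 ∈ Set.range (PrimeSpectrum.comap (algebraMap A (Localization.AtPrime p.asIdeal))) := by
      rw [PrimeSpectrum.localization_comap_range (Localization.AtPrime p.asIdeal)
        p.asIdeal.primeCompl]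
      change Disjoint _ _
      rw [Set.disjoint_left]
      intro c hc hc'
      exact hc (hle hc')
    obtain ⟨Q, rfl⟩ := this
    exact eq_zero_of_Nmap_eq_zero η _ w hw0 Q _ rfl
  let c : Ideal A → A := fun 𝔮 => if h : ∃ c ∈ 𝔮, c ∉ p.asIdeal then h.choose else 1
  set s' := ∏ 𝔮 ∈ hA.toFinset, c 𝔮 with hs'
  have hs'p : s' ∉ p.asIdeal := by
    rw [Ideal.IsPrime.prod_mem_iff]
    push Not
    intro 𝔮 _
    dsimp only [c]
    split_ifs with h
    · exact h.choose_spec.2
    · exact (Ideal.ne_top_iff_one _).mp p.isPrime.ne_top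
  have hs'w : η.t A s' * w = 0 := by
    apply eq_zero_of_minimalPrimes η (Subring.mul_mem _ (η.t_mem_M A _) hwM)
    intro 𝔮 h𝔮
    change η.t A s' ⟨𝔮, h𝔮.1.1⟩ * w ⟨𝔮, h𝔮.1.1⟩ = 0
    by_cases hle : 𝔮 ≤ p.asIdeal
    · rw [hvan _ hle, mul_zero]
    · have hex : ∃ c ∈ 𝔮, c ∉ p.asIdeal := SetLike.not_le_iff_exists.mp hle
      have hc : c 𝔮 ∈ 𝔮 := by
        dsimp only [c]
        rw [dif_pos hex]
        exact hex.choose_spec.1
      have hmem : s' ∈ 𝔮 := by
        obtain ⟨d, hd⟩ := Finset.dvd_prod_of_mem c (hA.mem_toFinset.mpr h𝔮)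
        rw [hs', hd]
        exact Ideal.mul_mem_right _ _ hc
      rw [t_apply_eq_zero_of_mem η s' ⟨𝔮, h𝔮.1.1⟩ hmem, zero_mul]
  refine ⟨s' * s, ?_, s' * a, ?_⟩
  · intro hmem
    rcases p.isPrime.mem_or_mem hmem with h | h
    · exact hs'p h
    · exact s.2 h
  · rw [hw, mul_sub, sub_eq_zero] at hs'w
    rw [map_mul, map_mul, mul_assoc]
    exact hs'w.symm

theorem q_bijective_of_isNormalRing (hn : EGA4.IsNormalRing A) (hA : (minimalPrimes A).Finite)
    (hη : ∀ p : PrimeSpectrum A, p.asIdeal ∈ minimalPrimes A →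
      Function.Bijective (η.eta p.asIdeal.ResidueField)) :
    Function.Bijective (η.q A) := by
  classical
  have hred : IsReduced A := by
    apply isReduced_ofLocalizationMaximal
    intro J hJ
    haveI := (@hn J hJ.isPrime).1
    infer_instance
  constructor
  · intro a b hab
    exact t_injective_of_isReduced η A (congrArg Subtype.val hab)
  · rintro ⟨x, hx⟩
    let I : Ideal A :=
      { carrier := {s | η.t A s * x ∈ (η.t A).range}
        add_mem' := by
          intro c d hc hd
          change η.t A (c + d) * x ∈ (η.t A).range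
          rw [map_add, add_mul]
          exact Subring.add_mem _ hc hd
        zero_mem' := by
          change η.t A 0 * x ∈ (η.t A).range
          rw [map_zero, zero_mul]
          exact Subring.zero_mem _
        smul_mem' := by
          intro c d hd
          change η.t A (c • d) * x ∈ (η.t A).range
          rw [smul_eq_mul, map_mul, mul_assoc]
          exact Subring.mul_mem _ ⟨c, rfl⟩ hd }
    have hI : I = ⊤ := by
      by_contra hne
      obtain ⟨𝔪, h𝔪, hI𝔪⟩ := Ideal.exists_le_maximal I hne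
      obtain ⟨s, hs, hs'⟩ := exists_mul_mem_range η hn hA hη hx ⟨𝔪, h𝔪.isPrime⟩
      exact hs (hI𝔪 hs')
    have h1 : (1 : A) ∈ I := by rw [hI]; trivial
    obtain ⟨a, ha⟩ : η.t A 1 * x ∈ (η.t A).range := h1
    refine ⟨a, Subtype.ext ?_⟩
    rw [map_one, one_mul] at ha
    exact ha

end Groth.Agent.Lib.Helper22.EtaNormal
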