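import Mathlib
import Groth.Agent.Lib.Helper22.EtaLoc

/-!
# `M(A × B) = M(A) × M(B)` (EtaPt)
-/

namespace Groth.Agent.Lib.Helper22.EtaProd

open EtaPt Groth.Agent.Lib.Helper22.EtaBasic Groth.Agent.Lib.Helper22.EtaVal
  Groth.Agent.Lib.Helper22.EtaInt Groth.Agent.Lib.Helper22.EtaSpec
  Groth.Agent.Lib.Helper22.EtaRel Groth.Agent.Lib.Helper22.EtaRel2
  Groth.Agent.Lib.Helper22.EtaLoc

universe u

variable (η : FieldEndo.{u}) (A B : Type u) [CommRing A] [CommRing B]

lemma prime_prod_cases (P : PrimeSpectrum (A × B)) :
    (∃ p, P = PrimeSpectrum.comap (RingHom.fst A B) p) ∨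
      (∃ q, P = PrimeSpectrum.comap (RingHom.snd A B) q) := by
  have h := (PrimeSpectrum.primeSpectrumProd A B).symm_apply_apply P
  rcases hP : PrimeSpectrum.primeSpectrumProd A B P with p | q
  · left
    rw [hP, PrimeSpectrum.primeSpectrumProd_symm_inl] at h
    exact ⟨p, h.symm⟩
  · right
    rw [hP, PrimeSpectrum.primeSpectrumProd_symm_inr] at h
    exact ⟨q, h.symm⟩

lemma fst_snd_disjoint (P : PrimeSpectrum (A × B)) (p : PrimeSpectrum A) (q : PrimeSpectrum B)
    (h1 : P.asIdeal = p.asIdeal.comap (RingHom.fst A B))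
    (h2 : P.asIdeal = q.asIdeal.comap (RingHom.snd A B)) : False := by
  have e1 : ((0 : A), (1 : B)) ∈ P.asIdeal := by
    rw [h1]
    change (0 : A) ∈ p.asIdeal
    exact p.asIdeal.zero_mem
  have e2 : ((1 : A), (0 : B)) ∈ P.asIdeal := by
    rw [h2]
    change (0 : B) ∈ q.asIdeal
    exact q.asIdeal.zero_mem
  have e3 : (1 : A × B) ∈ P.asIdeal := by
    have := P.asIdeal.add_mem e1 e2
    have h3 : ((0 : A), (1 : B)) + ((1 : A), (0 : B)) = 1 := by
      ext <;> simp
    rwa [h3] at this
  exact P.isPrime.ne_top ((Ideal.eq_top_iff_one _).mpr e3)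

theorem bijOn_M_prod :
    Set.BijOn (fun x : η.N (A × B) => (η.Nmap (RingHom.fst A B) x, η.Nmap (RingHom.snd A B) x))
      (η.M (A × B)) ((η.M A : Set (η.N A)) ×ˢ (η.M B : Set (η.N B))) := by
  classical
  have hsf : (RingHom.fst A B).SurjectiveOnStalks :=
    RingHom.surjectiveOnStalks_of_surjective (fun a => ⟨(a, 0), rfl⟩)
  have hss : (RingHom.snd A B).SurjectiveOnStalks :=
    RingHom.surjectiveOnStalks_of_surjective (fun b => ⟨(0, b), rfl⟩)
  have hif : Function.Injective (PrimeSpectrum.comap (RingHom.fst A B)) :=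
    PrimeSpectrum.comap_injective_of_surjective _ (fun a => ⟨(a, 0), rfl⟩)
  have his : Function.Injective (PrimeSpectrum.comap (RingHom.snd A B)) :=
    PrimeSpectrum.comap_injective_of_surjective _ (fun b => ⟨(0, b), rfl⟩)
  refine ⟨?_, ?_, ?_⟩
  · intro x hx
    exact ⟨Nmap_mem_M η _ hx, Nmap_mem_M η _ hx⟩
  · intro x _ x' _ hxx'
    have h1 : η.Nmap (RingHom.fst A B) x = η.Nmap (RingHom.fst A B) x' := congrArg Prod.fst hxx'
    have h2 : η.Nmap (RingHom.snd A B) x = η.Nmap (RingHom.snd A B) x' := congrArg Prod.snd hxx'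
    funext P
    rcases prime_prod_cases A B P with ⟨p, rfl⟩ | ⟨q, rfl⟩
    · have := congrFun h1 p
      rw [Nmap_apply, Nmap_apply] at this
      exact map_injective η _ this
    · have := congrFun h2 q
      rw [Nmap_apply, Nmap_apply] at this
      exact map_injective η _ this
  · rintro ⟨u, v⟩ ⟨hu, hv⟩
    have key : ∀ P : PrimeSpectrum (A × B), ∃ z : η.obj P.asIdeal.ResidueField,
        (∀ (p : PrimeSpectrum A) (h : P.asIdeal = p.asIdeal.comap (RingHom.fst A B)),
          η.map (rm (RingHom.fst A B) P p h) z = u p) ∧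
        (∀ (q : PrimeSpectrum B) (h : P.asIdeal = q.asIdeal.comap (RingHom.snd A B)),
          η.map (rm (RingHom.snd A B) P q h) z = v q) := by
      intro P
      rcases prime_prod_cases A B P with ⟨p₀, rfl⟩ | ⟨q₀, rfl⟩
      · obtain ⟨z, hz⟩ := (map_rm_bijective_of_sos η _ hsf (PrimeSpectrum.comap (RingHom.fst A B) p₀) p₀ rfl).2 (u p₀)
        refine ⟨z, fun p h => ?_, fun q h => (fst_snd_disjoint A B _ p₀ q rfl h).elim⟩
        have : p = p₀ := hif (PrimeSpectrum.ext h.symm)
        subst this
        exact hz
      · obtain ⟨z, hz⟩ := (map_rm_bijective_of_sos η _ hss (PrimeSpectrum.comap (RingHom.snd A B) q₀) q₀ rfl).2 (v q₀)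
        refine ⟨z, fun p h => (fst_snd_disjoint A B _ p q₀ h rfl).elim, fun q h => ?_⟩
        have : q = q₀ := his (PrimeSpectrum.ext h.symm)
        subst this
        exact hz
    choose x hx1 hx2 using key
    have hxu : η.Nmap (RingHom.fst A B) x = u := by
      funext p
      rw [Nmap_apply]
      exact hx1 _ p rfl
    have hxv : η.Nmap (RingHom.snd A B) x = v := by
      funext q
      rw [Nmap_apply]
      exact hx2 _ q rfl
    refine ⟨x, ?_, by rw [Prod.mk.injEq]; exact ⟨hxu, hxv⟩⟩
    intro R _ _ _ hR g
    have hz : g (1, 0) * g (0, 1) = 0 := by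
      rw [← map_mul]
      have h3 : (((1 : A), (0 : B)) : A × B) * ((0 : A), (1 : B)) = 0 := by
        ext <;> simp
      rw [h3, map_zero]
    rcases mul_eq_zero.mp hz with h0 | h0
    · -- g factors through snd
      let g' : B →+* R :=
        { toFun := fun b => g (0, b)
          map_one' := by
            have : g (1, 1) = 1 := map_one g
            have h3 : ((1 : A), (1 : B)) = (1, 0) + (0, 1) := by simp
            rw [h3, map_add, h0, zero_add] at this
            exact this
          map_mul' := by
            intro b b'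
            rw [← map_mul]
            simp
          map_zero' := map_zero g
          map_add' := by
            intro b b'
            rw [← map_add]
            simp }
      have hg : g = g'.comp (RingHom.snd A B) := by
        ext ⟨a, b⟩
        change g (a, b) = g (0, b)
        have h3 : ((a, b) : A × B) = (a, 0) * (1, 0) + (0, b) := by simp
        rw [h3, map_add, map_mul, h0, mul_zero, zero_add]
      rw [hg, Nmap_comp, hxv]
      exact hv R hR g'
    · let g' : A →+* R :=
        { toFun := fun a => g (a, 0)
          map_one' := by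
            have : g (1, 1) = 1 := map_one g
            have h3 : ((1 : A), (1 : B)) = (1, 0) + (0, 1) := by simp
            rw [h3, map_add, h0, add_zero] at this
            exact this
          map_mul' := by
            intro b b'
            rw [← map_mul]
            simp
          map_zero' := map_zero g
          map_add' := by
            intro b b'
            rw [← map_add]
            simp }
      have hg : g = g'.comp (RingHom.fst A B) := by
        ext ⟨a, b⟩
        change g (a, b) = g (a, 0)
        have h3 : ((a, b) : A × B) = (a, 0) + (0, b) * (0, 1) := by simp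
        rw [h3, map_add, map_mul, h0, mul_zero, add_zero]
      rw [hg, Nmap_comp, hxu]
      exact hu R hR g'

end Groth.Agent.Lib.Helper22.EtaProd
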