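import Mathlib
import Groth.Prelude.Def_HTop2
import Groth.Agent.Lib.Helper11.UHRing
import Groth.Agent.Lib.Helper11.UHSub
import Groth.Agent.Lib.Helper22.EtaRel2

/-!
# EtaPt for the identity endofunctor: seminormalization
-/

namespace Groth.Agent.Lib.Helper22.EtaSN

open EtaPt Groth.Agent.Lib.Helper22.EtaBasic Groth.Agent.Lib.Helper22.EtaVal
  Groth.Agent.Lib.Helper22.EtaInt Groth.Agent.Lib.Helper22.EtaSpec
  Groth.Agent.Lib.Helper22.EtaRel Groth.Agent.Lib.Helper22.EtaRel2
  Groth.Agent.Lib.Helper11.UHRing CategoryTheory AlgebraicGeometry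

universe u

section general

variable (η : FieldEndo.{u}) {A B : Type u} [CommRing A] [CommRing B]

theorem exists_residueField_div (p : Ideal A) [p.IsPrime] (z : p.ResidueField) :
    ∃ a s : A, s ∉ p ∧ z * algebraMap A p.ResidueField s = algebraMap A p.ResidueField a := by
  obtain ⟨l, hl⟩ := IsLocalRing.residue_surjective (R := Localization.AtPrime p) z
  obtain ⟨⟨r, s⟩, hrs⟩ := IsLocalization.mk'_surjective p.primeCompl l
  refine ⟨r, s.1, s.2, ?_⟩
  rw [← hl, ← hrs]
  show IsLocalRing.residue _ _ * IsLocalRing.residue _ (algebraMap A _ s.1) =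
    IsLocalRing.residue _ (algebraMap A _ r)
  rw [← map_mul, IsLocalization.mk'_spec]

/-- surjective residue field maps give `ResTriv`. -/
theorem resTriv_of_rm_surjective (φ : A →+* B)
    (h : ∀ Q : PrimeSpectrum B, Function.Surjective (rm φ (PrimeSpectrum.comap φ Q) Q rfl)) :
    ResTriv φ := by
  intro Q b
  obtain ⟨z, hz⟩ := h Q (algebraMap B _ b)
  obtain ⟨a, s, hs, hzs⟩ := exists_residueField_div (PrimeSpectrum.comap φ Q).asIdeal z
  refine ⟨a, s, hs, ?_⟩
  rw [← Ideal.algebraMap_residueField_eq_zero, map_sub, map_mul, sub_eq_zero, ← hz,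
    ← rm_algebraMap φ (PrimeSpectrum.comap φ Q) Q rfl, ← rm_algebraMap φ (PrimeSpectrum.comap φ Q) Q rfl,
    ← hzs, map_mul, mul_comm]

/-- `ResTriv` gives surjective residue field maps. -/
theorem rm_surjective_of_resTriv (φ : A →+* B) (h : ResTriv φ) (Q : PrimeSpectrum B)
    (P : PrimeSpectrum A) (hPQ : P.asIdeal = Q.asIdeal.comap φ) :
    Function.Surjective (rm φ P Q hPQ) := by
  have key : ∀ b : B, algebraMap B Q.asIdeal.ResidueField b ∈ (rm φ P Q hPQ).range := by
    intro b
    obtain ⟨a, s, hs, hsa⟩ := h Q b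
    rw [← Ideal.algebraMap_residueField_eq_zero, map_sub, map_mul, sub_eq_zero] at hsa
    have hs0 : algebraMap B Q.asIdeal.ResidueField (φ s) ≠ 0 := by
      intro h0
      exact hs (Ideal.algebraMap_residueField_eq_zero.mp h0)
    refine ⟨algebraMap A _ a / algebraMap A _ s, ?_⟩
    rw [map_div₀, rm_algebraMap, rm_algebraMap, div_eq_iff hs0, mul_comm]
    exact hsa.symm
  intro y
  obtain ⟨b₁, b₂, hb₂, hy⟩ := exists_residueField_div Q.asIdeal y
  have hb0 : algebraMap B Q.asIdeal.ResidueField b₂ ≠ 0 := by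
    intro h0
    exact hb₂ (Ideal.algebraMap_residueField_eq_zero.mp h0)
  have : y = algebraMap B Q.asIdeal.ResidueField b₁ / algebraMap B Q.asIdeal.ResidueField b₂ := by
    rw [eq_div_iff hb0, hy]
  rw [this]
  exact (rm φ P Q hPQ).fieldRange.div_mem (key b₁) (key b₂)

theorem residueFieldsIso_iff_resTriv (φ : A →+* B) :
    HTop.ResidueFieldsIso (Spec.map (CommRingCat.ofHom φ)) ↔ ResTriv φ := by
  rw [← residueFieldMap_surjective_iff]
  constructor
  · intro h y
    have := h y
    rw [ConcreteCategory.isIso_iff_bijective] at this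
    exact this.2
  · intro h y
    rw [ConcreteCategory.isIso_iff_bijective]
    exact ⟨RingHom.injective _, h y⟩

/-- `q_A` is a ring-level universal homeomorphism. -/
theorem UH_q (hA : (minimalPrimes A).Finite) : UH (η.q A) := by
  refine ⟨q_isIntegral η hA, ?_, ?_⟩
  · intro a ha
    rw [mem_nilradical]
    apply isNilpotent_of_t_eq_zero η a
    exact congrArg Subtype.val ha
  · intro K _ g₁ g₂ hg
    exact ringHom_ext_of_Nmap_bijective η (η.q A) (Nmap_q_bijective η hA) g₁ g₂ hg

/-- `q_{B/A}` is a ring-level universal homeomorphism. -/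
theorem UH_qRel (hA : (minimalPrimes A).Finite) (f : A →+* B)
    (hs : Function.Surjective (PrimeSpectrum.comap f)) : UH (η.qRel f) := by
  obtain ⟨hint, hbij, -, hN⟩ := qRel_structure η hA f hs
  refine ⟨hint, ?_, ?_⟩
  · intro a ha
    rw [nilradical_eq_sInf, Ideal.mem_sInf]
    intro I hI
    obtain ⟨Q, hQ⟩ := hs ⟨I, hI⟩
    have h1 : f a = 0 := congrArg Subtype.val ha
    have h2 : a ∈ (PrimeSpectrum.comap f Q).asIdeal := by
      change f a ∈ Q.asIdeal
      rw [h1]; exact Q.asIdeal.zero_mem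
    rw [hQ] at h2
    exact h2
  · intro K _ g₁ g₂ hg
    exact ringHom_ext_of_Nmap_bijective η (η.qRel f) hN g₁ g₂ hg

end general

section ident

variable {A B : Type u} [CommRing A] [CommRing B]

lemma surjective_of_factor_ident {K L : Type u} [Field K] [Field L] (r : K →+* L) (φ : L →+* K)
    (h : φ.comp r = RingHom.id K) : Function.Surjective r := by
  intro y
  refine ⟨φ y, φ.injective ?_⟩
  have := congrArg (fun k => k (φ y)) (congrArg DFunLike.coe h)
  simpa using this

theorem resTriv_q_ident (hA : (minimalPrimes A).Finite) : ResTriv (FieldEndo.ident.{u}.q A) := by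
  apply resTriv_of_rm_surjective
  intro Q
  obtain ⟨φ, hφ⟩ := (comap_q_bijective_and_factor FieldEndo.ident.{u} hA).2 Q
  exact surjective_of_factor_ident _ φ hφ

theorem resTriv_qRel_ident (hA : (minimalPrimes A).Finite) (f : A →+* B)
    (hs : Function.Surjective (PrimeSpectrum.comap f)) : ResTriv (FieldEndo.ident.{u}.qRel f) := by
  apply resTriv_of_rm_surjective
  intro Q
  obtain ⟨φ, hφ⟩ := (qRel_structure FieldEndo.ident.{u} hA f hs).2.2.1 Q
  exact surjective_of_factor_ident _ φ hφ

/-- UH + trivial residue fields ⇒ `N(ψ)` bijective (identity endofunctor). -/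
theorem Nmap_bijective_of_UH_resTriv (ψ : A →+* B) (h1 : UH ψ) (h2 : ResTriv ψ) :
    Function.Bijective (FieldEndo.ident.{u}.Nmap ψ) := by
  apply Nmap_bijective_of_comap_bijective FieldEndo.ident.{u} ψ h1.bijective_comap
  intro Q
  exact ⟨RingHom.injective _, rm_surjective_of_resTriv ψ h2 Q _ rfl⟩

theorem isRingSN_q_ident (A : Type u) [CommRing A] (hA : (minimalPrimes A).Finite) :
    HTop.IsRingSN (FieldEndo.ident.{u}.q A) := by
  refine ⟨⟨(isUnivHomeo_SpecMap_iff _).mpr (UH_q _ hA),
    (residueFieldsIso_iff_resTriv _).mpr (resTriv_q_ident hA)⟩, ?_⟩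
  intro C _ ψ h1 h2
  rw [isUnivHomeo_SpecMap_iff] at h1
  rw [residueFieldsIso_iff_resTriv] at h2
  exact existsUnique_lift_q FieldEndo.ident.{u} ψ h1.integral (Nmap_bijective_of_UH_resTriv ψ h1 h2)

theorem relSN_ident (A B : Type u) [CommRing A] [CommRing B] [Algebra A B]
    (hA : (minimalPrimes A).Finite)
    (hs : Function.Surjective (PrimeSpectrum.comap (algebraMap A B))) :
    (FlatMor.IsUnivHomeo (Spec.map (CommRingCat.ofHom (FieldEndo.ident.{u}.qRel (algebraMap A B)))) ∧
      HTop.ResidueFieldsIso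
        (Spec.map (CommRingCat.ofHom (FieldEndo.ident.{u}.qRel (algebraMap A B))))) ∧
    ∀ C : Subalgebra A B,
      FlatMor.IsUnivHomeo (Spec.map (CommRingCat.ofHom (algebraMap A C))) →
      HTop.ResidueFieldsIso (Spec.map (CommRingCat.ofHom (algebraMap A C))) →
      C.toSubring ≤ FieldEndo.ident.{u}.rel (algebraMap A B) := by
  refine ⟨⟨(isUnivHomeo_SpecMap_iff _).mpr (UH_qRel _ hA _ hs),
    (residueFieldsIso_iff_resTriv _).mpr (resTriv_qRel_ident hA _ hs)⟩, ?_⟩
  intro C h1 h2
  rw [isUnivHomeo_SpecMap_iff] at h1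
  rw [residueFieldsIso_iff_resTriv] at h2
  have hN := Nmap_bijective_of_UH_resTriv _ h1 h2
  have := range_le_rel FieldEndo.ident.{u} (algebraMap A C) C.val.toRingHom h1.integral hN
  have hcomp : C.val.toRingHom.comp (algebraMap A C) = algebraMap A B := by
    ext a; rfl
  rw [hcomp] at this
  intro b hb
  exact this ⟨⟨b, hb⟩, rfl⟩

end ident

end Groth.Agent.Lib.Helper22.EtaSN
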