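import Mathlib

/-!
# Differentials of a local algebra: generators of `Ω_{C/k}` versus generators of `𝔪` and `Ω_{κ/k}`
-/

set_option linter.style.haveILetI false

namespace Groth.Agent.Lib.Helper22.EtaleDim

open IsLocalRing TensorProduct

variable {k C : Type*} [CommRing k] [CommRing C] [Algebra k C] [IsLocalRing C] {n : ℕ} (r : ℕ)
  (y : Fin n → C)

/-- if the `dy_i` generate `Ω_{C/k}` and `y_i ∈ 𝔪` for `i < r`, then the `dȳ_i`, `i ≥ r`, generate
`Ω_{κ/k}`. -/
theorem span_D_residue_eq_top (hy : ∀ i : Fin n, (i : ℕ) < r → y i ∈ maximalIdeal C)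
    (hspan : Submodule.span C (Set.range fun i => KaehlerDifferential.D k C (y i)) = ⊤) :
    Submodule.span (ResidueField C) ((fun i : Fin n =>
      KaehlerDifferential.D k (ResidueField C) (residue C (y i))) '' {i : Fin n | r ≤ (i : ℕ)}) =
      ⊤ := by
  rw [eq_top_iff]
  rintro ω' -
  obtain ⟨ω, rfl⟩ := KaehlerDifferential.map_surjective_of_surjective k k C (ResidueField C)
    (by rw [ResidueField.algebraMap_eq]; exact residue_surjective) ω'
  have hω : ω ∈ Submodule.span C (Set.range fun i => KaehlerDifferential.D k C (y i)) := by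
    rw [hspan]; trivial
  induction hω using Submodule.span_induction with
  | mem x hx =>
    obtain ⟨i, rfl⟩ := hx
    rw [KaehlerDifferential.map_D, ResidueField.algebraMap_eq]
    by_cases hi : (i : ℕ) < r
    · rw [(residue_eq_zero_iff (y i)).mpr (hy i hi), map_zero]
      exact zero_mem _
    · exact Submodule.subset_span ⟨i, not_lt.mp hi, rfl⟩
  | zero => rw [map_zero]; exact zero_mem _
  | add x z _ _ hx hz => rw [map_add]; exact add_mem hx hz
  | smul c x _ hx =>
    rw [map_smul, ← algebraMap_smul (ResidueField C) c]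
    exact Submodule.smul_mem _ _ hx

/-- if `y_i`, `i < r`, generate `𝔪` and the `dȳ_i`, `i ≥ r`, generate `Ω_{κ/k}`, then the `dy_i`
generate `Ω_{C/k}`. -/
theorem span_D_eq_top [Module.Finite C (Ω[C⁄k])]
    (h1 : Ideal.span (y '' {i : Fin n | (i : ℕ) < r}) = maximalIdeal C)
    (h2 : Submodule.span (ResidueField C) ((fun i : Fin n =>
      KaehlerDifferential.D k (ResidueField C) (residue C (y i))) '' {i : Fin n | r ≤ (i : ℕ)}) =
      ⊤) :
    Submodule.span C (Set.range fun i => KaehlerDifferential.D k C (y i)) = ⊤ := by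
  rw [← map_tensorProduct_mk_eq_top]
  set N := Submodule.span C (Set.range fun i => KaehlerDifferential.D k C (y i)) with hN
  set W := Submodule.map ((TensorProduct.mk C (ResidueField C) (Ω[C⁄k])) 1) N with hW
  have hgen : ∀ i, (1 : ResidueField C) ⊗ₜ[C] KaehlerDifferential.D k C (y i) ∈ W :=
    fun i => ⟨_, Submodule.subset_span ⟨i, rfl⟩, rfl⟩
  -- `W` is stable under `κ`
  have hWsmul : ∀ (a : ResidueField C) (t : ResidueField C ⊗[C] Ω[C⁄k]), t ∈ W → a • t ∈ W := by
    intro a t ht
    obtain ⟨c, rfl⟩ := residue_surjective a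
    rw [← ResidueField.algebraMap_eq, algebraMap_smul]
    exact Submodule.smul_mem _ _ ht
  -- elements `1 ⊗ dz` with `z ∈ 𝔪` are in `W`
  have hm : ∀ z ∈ maximalIdeal C, (1 : ResidueField C) ⊗ₜ[C] KaehlerDifferential.D k C z ∈ W := by
    intro z hz
    rw [← h1] at hz
    induction hz using Submodule.span_induction with
    | mem x hx =>
      obtain ⟨i, -, rfl⟩ := hx
      exact hgen i
    | zero => rw [map_zero, tmul_zero]; exact zero_mem _
    | add x z _ _ hx hz => rw [map_add, tmul_add]; exact add_mem hx hz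
    | smul c x hx ih =>
      have hxm : x ∈ maximalIdeal C := by rw [← h1]; exact hx
      have hrx : (x • (1 : ResidueField C)) = 0 := by
        rw [Algebra.smul_def, mul_one, ResidueField.algebraMap_eq]
        exact (residue_eq_zero_iff x).mpr hxm
      rw [smul_eq_mul, Derivation.leibniz, tmul_add, ← smul_tmul x, hrx, zero_tmul, add_zero,
        tmul_smul]
      exact Submodule.smul_mem _ _ ih
  rw [eq_top_iff]
  rintro t -
  have hsurj : Function.Surjective (algebraMap C (ResidueField C)) := by
    rw [ResidueField.algebraMap_eq]; exact residue_surjective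
  -- find `w ∈ W` with the same image in `Ω_{κ/k}`
  have hex : ∀ ω' : Ω[ResidueField C⁄k], ∃ w ∈ W,
      KaehlerDifferential.mapBaseChange k C (ResidueField C) w = ω' := by
    intro ω'
    have hω' : ω' ∈ Submodule.span (ResidueField C) ((fun i : Fin n =>
        KaehlerDifferential.D k (ResidueField C) (residue C (y i))) ''
          {i : Fin n | r ≤ (i : ℕ)}) := by
      rw [h2]; trivial
    induction hω' using Submodule.span_induction with
    | mem x hx =>
      obtain ⟨i, -, rfl⟩ := hx
      refine ⟨_, hgen i, ?_⟩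
      rw [KaehlerDifferential.mapBaseChange_tmul, one_smul, KaehlerDifferential.map_D,
        ResidueField.algebraMap_eq]
    | zero => exact ⟨0, zero_mem _, map_zero _⟩
    | add x z _ _ hx hz =>
      obtain ⟨w₁, hw₁, e₁⟩ := hx
      obtain ⟨w₂, hw₂, e₂⟩ := hz
      exact ⟨w₁ + w₂, add_mem hw₁ hw₂, by rw [map_add, e₁, e₂]⟩
    | smul a x _ hx =>
      obtain ⟨w, hw, e⟩ := hx
      exact ⟨a • w, hWsmul a w hw, by rw [map_smul, e]⟩
  obtain ⟨w, hw, hwt⟩ := hex (KaehlerDifferential.mapBaseChange k C (ResidueField C) t)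
  have hker : KaehlerDifferential.mapBaseChange k C (ResidueField C) (t - w) = 0 := by
    rw [map_sub, hwt, sub_self]
  obtain ⟨ξ, hξ⟩ := (KaehlerDifferential.exact_kerCotangentToTensor_mapBaseChange k C
    (ResidueField C) hsurj (t - w)).mp hker
  obtain ⟨z, rfl⟩ := Ideal.toCotangent_surjective _ ξ
  rw [KaehlerDifferential.kerCotangentToTensor_toCotangent] at hξ
  have hzm : (z : C) ∈ maximalIdeal C := by
    have h0 : ∀ c : C, algebraMap C (ResidueField C) c = 0 → c ∈ maximalIdeal C := by
      intro c hc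
      rw [ResidueField.algebraMap_eq] at hc
      exact (residue_eq_zero_iff _).mp hc
    exact h0 _ (RingHom.mem_ker.mp z.2)
  have : t = w + (1 : ResidueField C) ⊗ₜ[C] KaehlerDifferential.D k C (z : C) := by
    rw [hξ]; abel
  rw [this]
  exact add_mem hw (hm _ hzm)

end Groth.Agent.Lib.Helper22.EtaleDim
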