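import Mathlib
import Groth.Agent.Lib.Helper22.SmoothRed

/-! Sections of unramified / separated morphisms, smooth ⇒ geometrically reduced (helper22). -/

universe u

namespace Groth.Agent.Lib.Helper22.ExactOrd

open AlgebraicGeometry CategoryTheory CategoryTheory.Limits TopologicalSpace

/-- A section of a formally unramified morphism locally of finite type is an open immersion. -/
theorem isOpenImmersion_of_section {X Y : Scheme.{u}} (f : X ⟶ Y) (s : Y ⟶ X) (h : s ≫ f = 𝟙 Y)
    [LocallyOfFiniteType f] [FormallyUnramified f] : IsOpenImmersion s := by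
  have key : MorphismProperty.HasOfPostcompProperty @IsOpenImmersion
      (@LocallyOfFiniteType ⊓ @FormallyUnramified) := by
    rw [MorphismProperty.hasOfPostcompProperty_iff_le_diagonal]
    intro X Y f ⟨hft, hfu⟩
    exact inferInstanceAs <| IsOpenImmersion (pullback.diagonal f)
  exact MorphismProperty.of_postcomp (W := @IsOpenImmersion)
    (W' := @LocallyOfFiniteType ⊓ @FormallyUnramified) s f ⟨‹_›, ‹_›⟩ (by rw [h]; infer_instance)

/-- A section of a separated morphism is a closed immersion. -/
theorem isClosedImmersion_of_section {X Y : Scheme.{u}} (f : X ⟶ Y) (s : Y ⟶ X) (h : s ≫ f = 𝟙 Y)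
    [IsSeparated f] : IsClosedImmersion s :=
  MorphismProperty.of_postcomp (W := @IsClosedImmersion) (W' := @IsSeparated) s f ‹_›
    (by rw [h]; infer_instance)

/-- Smooth morphisms are geometrically reduced. -/
theorem geometricallyReduced_of_smooth {X Y : Scheme.{u}} (f : X ⟶ Y) [Smooth f] :
    GeometricallyReduced f := by
  constructor
  intro K _ y Z fst snd h
  haveI : Smooth snd := MorphismProperty.of_isPullback (P := @Smooth) h ‹_›
  exact Groth.Agent.Lib.Helper22.SmoothRed.isReduced_of_smooth snd

end Groth.Agent.Lib.Helper22.ExactOrd
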