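import Mathlib
import Groth.Agent.Lib.Helper22.ExactOrdA

/-! Kernel of the `N`-th power map of a group scheme and its points of exact order (helper22). -/

universe u

namespace Groth.Agent.Lib.Helper22.ExactOrd

open AlgebraicGeometry CategoryTheory CategoryTheory.Limits MonoidalCategory
  CartesianMonoidalCategory MonObj TopologicalSpace

variable {S : Scheme.{u}} (E : Over S) [GrpObj E]

theorem unit_eq_one : (η[E] : 𝟙_ (Over S) ⟶ E) = 1 := by
  rw [Hom.one_def]
  have : toUnit (𝟙_ (Over S)) = 𝟙 _ := Subsingleton.elim _ _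
  rw [this, Category.id_comp]

theorem unit_comp_pow (n : ℕ) : η[E] ≫ (𝟙 E ^ n) = η[E] := by
  rw [MonObj.comp_pow, Category.comp_id, unit_eq_one, one_pow]

theorem pow_comp_pow (a b : ℕ) : (𝟙 E ^ a) ≫ (𝟙 E ^ b) = 𝟙 E ^ (a * b) := by
  rw [MonObj.comp_pow, Category.comp_id, ← pow_mul]

/-- The unit section. -/
noncomputable def un : S ⟶ E.left := η[E].left

theorem un_hom : un E ≫ E.hom = 𝟙 S := Over.w η[E]

/-- The `n`-th power map. -/
noncomputable def pw (n : ℕ) : E.left ⟶ E.left := (𝟙 E ^ n).left

theorem pw_hom (n : ℕ) : pw E n ≫ E.hom = E.hom := Over.w (𝟙 E ^ n)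

theorem un_pw (n : ℕ) : un E ≫ pw E n = un E :=
  congrArg (fun f => CommaMorphism.left f) (unit_comp_pow E n)

theorem pw_pw (a b : ℕ) : pw E a ≫ pw E b = pw E (a * b) :=
  congrArg (fun f => CommaMorphism.left f) (pow_comp_pow E a b)

/-- The kernel of the `N`-th power map. -/
noncomputable abbrev Ker (N : ℕ) : Scheme.{u} := pullback (pw E N) (un E)

/-- The inclusion of the kernel. -/
noncomputable abbrev inc (N : ℕ) : Ker E N ⟶ E.left := pullback.fst _ _

/-- The structure map of the kernel. -/
noncomputable abbrev str (N : ℕ) : Ker E N ⟶ S := pullback.snd _ _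

theorem inc_pw (N : ℕ) : inc E N ≫ pw E N = str E N ≫ un E := pullback.condition

theorem inc_hom (N : ℕ) : inc E N ≫ E.hom = str E N := by
  calc inc E N ≫ E.hom = inc E N ≫ pw E N ≫ E.hom := by rw [pw_hom]
    _ = str E N ≫ un E ≫ E.hom := by rw [← Category.assoc, inc_pw, Category.assoc]
    _ = str E N := by rw [un_hom, Category.comp_id]

instance : Mono (un E) := mono_of_mono_fac (un_hom E)

instance (N : ℕ) : Mono (inc E N) := by unfold inc; infer_instance

/-- The unit section of the kernel. -/
noncomputable def unK (N : ℕ) : S ⟶ Ker E N :=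
  pullback.lift (un E) (𝟙 S) (by rw [un_pw, Category.id_comp])

@[reassoc] theorem unK_inc (N : ℕ) : unK E N ≫ inc E N = un E := pullback.lift_fst _ _ _

@[reassoc] theorem unK_str (N : ℕ) : unK E N ≫ str E N = 𝟙 S := pullback.lift_snd _ _ _

/-- The `d`-th power map on the kernel of the `N`-th power map. -/
noncomputable def pwK (N d : ℕ) : Ker E N ⟶ Ker E N :=
  pullback.lift (inc E N ≫ pw E d) (str E N) (by
    rw [Category.assoc, pw_pw, mul_comm, ← pw_pw, ← Category.assoc, inc_pw, Category.assoc, un_pw])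

@[reassoc] theorem pwK_inc (N d : ℕ) : pwK E N d ≫ inc E N = inc E N ≫ pw E d :=
  pullback.lift_fst _ _ _

@[reassoc] theorem pwK_str (N d : ℕ) : pwK E N d ≫ str E N = str E N := pullback.lift_snd _ _ _

/-- A morphism into the kernel. -/
theorem ker_hom_ext {T : Scheme.{u}} (N : ℕ) (a b : T ⟶ Ker E N) (h : a ≫ inc E N = b ≫ inc E N) :
    a = b := by
  rwa [cancel_mono] at h

/-- The bad locus: points of the kernel of order `< N`. -/
def bad (N : ℕ) : Set (Ker E N) :=
  ⋃ d ∈ Finset.Ico 1 N, (pwK E N d).base ⁻¹' Set.range (unK E N).base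

theorem isClopen_bad (N : ℕ) [IsFinite (str E N)] [Etale (str E N)] : IsClopen (bad E N) := by
  haveI : IsOpenImmersion (unK E N) := isOpenImmersion_of_section (str E N) _ (unK_str E N)
  haveI : IsClosedImmersion (unK E N) := isClosedImmersion_of_section (str E N) _ (unK_str E N)
  unfold bad
  refine Set.Finite.isClopen_biUnion (Finset.finite_toSet _) ?_
  intro d _
  refine ⟨?_, ?_⟩
  · exact (unK E N).isClosedEmbedding.isClosed_range.preimage (pwK E N d).continuous
  · exact (unK E N).isOpenEmbedding.isOpen_range.preimage (pwK E N d).continuous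

/-- The good locus, an open subscheme of the kernel. -/
def good (N : ℕ) [IsFinite (str E N)] [Etale (str E N)] : (Ker E N).Opens :=
  ⟨(bad E N)ᶜ, (isClopen_bad E N).compl.isOpen⟩

theorem mem_good_iff (N : ℕ) [IsFinite (str E N)] [Etale (str E N)] (z : Ker E N) :
    z ∈ good E N ↔ ∀ d, 1 ≤ d → d < N → (pwK E N d).base z ∉ Set.range (unK E N).base := by
  change z ∈ (bad E N)ᶜ ↔ _
  simp only [bad, Set.mem_compl_iff, Set.mem_iUnion, Finset.mem_Ico, Set.mem_preimage, not_exists]
  constructor
  · intro h d h1 h2; exact h d ⟨h1, h2⟩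
  · intro h d hd; exact h d hd.1 hd.2

instance (N : ℕ) [IsFinite (str E N)] [Etale (str E N)] : IsClosedImmersion (good E N).ι := by
  refine IsClosedImmersion.of_isPreimmersion _ ?_
  rw [Scheme.Opens.range_ι]
  exact (isClopen_bad E N).compl.isClosed

end Groth.Agent.Lib.Helper22.ExactOrd
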