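import Mathlib
import Groth.Agent.Lib.Helper22.ExactOrdB

/-! Points of exact order `N` of a group scheme whose `N`-th power map is finite étale (helper22). -/

universe u

namespace Groth.Agent.Lib.Helper22.ExactOrd

open AlgebraicGeometry CategoryTheory CategoryTheory.Limits MonoidalCategory
  CartesianMonoidalCategory MonObj TopologicalSpace

variable {S : Scheme.{u}} (E : Over S) [GrpObj E]

theorem pow_eq_one_iff {T : Over S} (x : T ⟶ E) (d : ℕ) :
    x ^ d = 1 ↔ x.left ≫ pw E d = T.hom ≫ un E := by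
  have h1 : x ^ d = x ≫ (𝟙 E ^ d) := by rw [MonObj.comp_pow, Category.comp_id]
  rw [h1, Hom.one_def, Over.OverMorphism.ext_iff]
  rfl

/-- If `a` followed by the `d`-th power is trivial, then `a ≫ pwK d` factors through the unit. -/
theorem comp_pwK_of_eq {T : Scheme.{u}} (N d : ℕ) (a : T ⟶ Ker E N)
    (h : (a ≫ inc E N) ≫ pw E d = (a ≫ str E N) ≫ un E) :
    a ≫ pwK E N d = (a ≫ str E N) ≫ unK E N := by
  apply ker_hom_ext
  rw [Category.assoc, pwK_inc, Category.assoc, unK_inc, ← h, Category.assoc]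

/-- A field-valued point of the kernel whose `d`-th power lies in the unit section topologically
has trivial `d`-th power. -/
theorem eq_of_mem_range (N d : ℕ) [IsFinite (str E N)] [Etale (str E N)]
    {T : Scheme.{u}} (a : T ⟶ Ker E N)
    (hmem : Set.range (a ≫ pwK E N d).base ⊆ Set.range (unK E N).base) :
    (a ≫ inc E N) ≫ pw E d = (a ≫ str E N) ≫ un E := by
  haveI : IsOpenImmersion (unK E N) := isOpenImmersion_of_section (str E N) _ (unK_str E N)
  let l := IsOpenImmersion.lift (unK E N) (a ≫ pwK E N d) hmem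
  have hl : l ≫ unK E N = a ≫ pwK E N d := IsOpenImmersion.lift_fac _ _ _
  have hl2 : l = a ≫ str E N := by
    calc l = l ≫ unK E N ≫ str E N := by rw [unK_str, Category.comp_id]
      _ = a ≫ str E N := by rw [← Category.assoc, hl, Category.assoc, pwK_str]
  calc (a ≫ inc E N) ≫ pw E d = (a ≫ pwK E N d) ≫ inc E N := by
        rw [Category.assoc, Category.assoc, pwK_inc]
    _ = l ≫ un E := by rw [← hl, Category.assoc, unK_inc]
    _ = (a ≫ str E N) ≫ un E := by rw [hl2]

theorem exists_exactOrder (N : ℕ) (hN : 1 ≤ N) [IsFinite (pw E N)] [Etale (pw E N)] :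
    ∃ (Z : Over S) (P : Z ⟶ E), IsFinite Z.hom ∧ Etale Z.hom ∧
      (P ^ N = 1 ∧ ∀ (Ω : Type u) [Field Ω] [IsAlgClosed Ω] (t : Spec (CommRingCat.of Ω) ⟶ Z.left),
        orderOf ((Over.homMk t rfl : Over.mk (t ≫ Z.hom) ⟶ Z) ≫ P) = N) ∧
      ∀ (T : Over S) (Q : T ⟶ E), Q ^ N = 1 →
        (∀ (Ω : Type u) [Field Ω] [IsAlgClosed Ω] (t : Spec (CommRingCat.of Ω) ⟶ T.left),
          orderOf ((Over.homMk t rfl : Over.mk (t ≫ T.hom) ⟶ T) ≫ Q) = N) →
        ∃! v : T ⟶ Z, v ≫ P = Q := by
  haveI : IsFinite (str E N) := by unfold str; infer_instance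
  haveI : Etale (str E N) := by unfold str; infer_instance
  haveI hoi : IsOpenImmersion (unK E N) := isOpenImmersion_of_section (str E N) _ (unK_str E N)
  let U := good E N
  let Z : Over S := Over.mk (U.ι ≫ str E N)
  let P : Z ⟶ E := Over.homMk (U.ι ≫ inc E N) (by
    change (U.ι ≫ inc E N) ≫ E.hom = U.ι ≫ str E N
    rw [Category.assoc, inc_hom])
  refine ⟨Z, P, ?_, ?_, ⟨?_, ?_⟩, ?_⟩
  · change IsFinite (U.ι ≫ str E N)
    infer_instance
  · change Etale (U.ι ≫ str E N)
    infer_instance
  · rw [pow_eq_one_iff]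
    change (U.ι ≫ inc E N) ≫ pw E N = (U.ι ≫ str E N) ≫ un E
    rw [Category.assoc, inc_pw, Category.assoc]
  · intro Ω _ _ t
    rw [orderOf_eq_iff (by omega)]
    refine ⟨?_, ?_⟩
    · rw [pow_eq_one_iff]
      change (t ≫ U.ι ≫ inc E N) ≫ pw E N = (t ≫ U.ι ≫ str E N) ≫ un E
      rw [Category.assoc, Category.assoc, inc_pw, Category.assoc, Category.assoc]
    · intro d hdN hd0 hxd
      rw [pow_eq_one_iff] at hxd
      have hxd' : ((t ≫ U.ι) ≫ inc E N) ≫ pw E d = ((t ≫ U.ι) ≫ str E N) ≫ un E := by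
        have h0 := hxd
        change (t ≫ U.ι ≫ inc E N) ≫ pw E d = (t ≫ U.ι ≫ str E N) ≫ un E at h0
        simpa only [Category.assoc] using h0
      have h2 := comp_pwK_of_eq E N d (t ≫ U.ι) hxd'
      let pt : Spec (CommRingCat.of Ω) := IsLocalRing.closedPoint Ω
      have hz : U.ι.base (t.base pt) ∈ U := by
        have : U.ι.base (t.base pt) ∈ Set.range U.ι.base := ⟨_, rfl⟩
        rwa [Scheme.Opens.range_ι] at this
      refine (mem_good_iff E N _).1 hz d hd0 hdN ?_
      refine ⟨((t ≫ U.ι) ≫ str E N).base pt, ?_⟩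
      have h7 : ((t ≫ U.ι) ≫ pwK E N d).base pt =
          (((t ≫ U.ι) ≫ str E N) ≫ unK E N).base pt := by rw [h2]
      exact h7.symm
  · intro T Q hQ hord
    have hQ' := (pow_eq_one_iff E Q N).1 hQ
    let q : T.left ⟶ Ker E N := pullback.lift Q.left T.hom hQ'
    have hq1 : q ≫ inc E N = Q.left := pullback.lift_fst _ _ _
    have hq2 : q ≫ str E N = T.hom := pullback.lift_snd _ _ _
    have hrange : Set.range q.base ⊆ Set.range U.ι.base := by
      rintro _ ⟨τ, rfl⟩
      rw [Scheme.Opens.range_ι]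
      change q.base τ ∈ U
      rw [mem_good_iff]
      intro d hd0 hdN hmem
      let κ := T.left.residueField τ
      let Ω := AlgebraicClosure κ
      let t : Spec (CommRingCat.of Ω) ⟶ T.left :=
        Spec.map (CommRingCat.ofHom (algebraMap κ Ω)) ≫ T.left.fromSpecResidueField τ
      have ht : ∀ z, t.base z = τ := by
        intro z
        have : t.base z ∈ Set.range (T.left.fromSpecResidueField τ).base := by
          change (Spec.map (CommRingCat.ofHom (algebraMap κ Ω)) ≫
            T.left.fromSpecResidueField τ).base z ∈ _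
          exact ⟨(Spec.map (CommRingCat.ofHom (algebraMap κ Ω))).base z, rfl⟩
        rw [Scheme.range_fromSpecResidueField] at this
        exact this
      have h1 := hord Ω t
      have h3 : ((Over.homMk t rfl : Over.mk (t ≫ T.hom) ⟶ T) ≫ Q) ^ d = 1 := by
        rw [pow_eq_one_iff]
        change (t ≫ Q.left) ≫ pw E d = (t ≫ T.hom) ≫ un E
        have h4 := eq_of_mem_range E N d (t ≫ q) (by
          rintro _ ⟨z, rfl⟩
          have : ((t ≫ q) ≫ pwK E N d).base z = (pwK E N d).base (q.base τ) := by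
            simp [ht z]
          rw [this]
          exact hmem)
        rw [show (t ≫ q) ≫ inc E N = t ≫ Q.left by rw [Category.assoc, hq1],
          show (t ≫ q) ≫ str E N = t ≫ T.hom by rw [Category.assoc, hq2]] at h4
        exact h4
      exact pow_ne_one_of_lt_orderOf (by omega) (by rw [h1]; exact hdN) h3
    let v0 : T.left ⟶ U.toScheme := IsOpenImmersion.lift U.ι q hrange
    have hv0 : v0 ≫ U.ι = q := IsOpenImmersion.lift_fac _ _ _
    refine ⟨Over.homMk v0 ?_, ?_, ?_⟩
    · change v0 ≫ U.ι ≫ str E N = T.hom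
      rw [← Category.assoc, hv0, hq2]
    · apply Over.OverMorphism.ext
      change v0 ≫ U.ι ≫ inc E N = Q.left
      rw [← Category.assoc, hv0, hq1]
    · intro v' hv'
      apply Over.OverMorphism.ext
      change v'.left = v0
      have h5 : v'.left ≫ U.ι ≫ inc E N = Q.left := congrArg (fun f => CommaMorphism.left f) hv'
      have h6 : (v'.left ≫ U.ι) ≫ inc E N = q ≫ inc E N := by
        rw [Category.assoc, h5, hq1]
      rw [cancel_mono] at h6
      rw [← cancel_mono U.ι, h6, hv0]

end Groth.Agent.Lib.Helper22.ExactOrd
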