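import Mathlib

/-!
# Cancellation of flatness along a faithfully flat module; local ring stalk algebra
-/

set_option autoImplicit false
set_option linter.style.haveILetI false
set_option linter.unusedSectionVars false
universe u v w
open TensorProduct

namespace Groth.Agent.Lib.Helper22.FFlatMod

section Module

variable (R : Type u) (S : Type v) (M : Type w) [CommRing R] [CommRing S]
  [Algebra R S] [AddCommGroup M] [Module R M] [Module S M] [IsScalarTower R S M]

/-- If `M` is flat over `R` and faithfully flat over `S`, then `S` is flat over `R`. -/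
theorem flat_of_flat_of_faithfullyFlat [Module.Flat R M] [Module.FaithfullyFlat S M] :
    Module.Flat R S := by
  rw [Module.Flat.iff_lTensor_preserves_injective_linearMap]
  intro N P _ _ _ _ f hf
  have h1 : Function.Injective (LinearMap.lTensor M f) :=
    Module.Flat.lTensor_preserves_injective_linearMap f hf
  let f' : S ⊗[R] N →ₗ[S] S ⊗[R] P := TensorProduct.AlgebraTensorModule.map LinearMap.id f
  have h2 : Function.Injective (LinearMap.lTensor M f') := by
    have e : LinearMap.lTensor M f' =
        ((TensorProduct.AlgebraTensorModule.cancelBaseChange R S S M P).symm.toLinearMap) ∘ₗ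
        ((TensorProduct.AlgebraTensorModule.map (LinearMap.id : M →ₗ[S] M) f)) ∘ₗ
        ((TensorProduct.AlgebraTensorModule.cancelBaseChange R S S M N).toLinearMap) := by
      ext m s n
      simp [f']
    rw [e]
    simp only [LinearMap.coe_comp, LinearEquiv.coe_coe]
    exact ((TensorProduct.AlgebraTensorModule.cancelBaseChange R S S M P).symm.injective.comp h1).comp
      (TensorProduct.AlgebraTensorModule.cancelBaseChange R S S M N).injective
  have h3 := (Module.FaithfullyFlat.lTensor_injective_iff_injective S M f').1 h2
  exact h3

/-- over a local ring, flat + `𝔪 M ≠ M` is faithfully flat. -/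
theorem faithfullyFlat_of_isLocalRing [IsLocalRing S] [Module.Flat S M]
    (h : IsLocalRing.maximalIdeal S • (⊤ : Submodule S M) ≠ ⊤) : Module.FaithfullyFlat S M :=
  ⟨fun m hm => by rw [IsLocalRing.eq_maximalIdeal hm]; exact h⟩

/-- `𝔪_R M ⊆ 𝔪_S M` for a local homomorphism. -/
theorem smul_top_ne_top_of_isLocalHom [IsLocalRing R] [IsLocalRing S]
    [IsLocalHom (algebraMap R S)]
    (h : IsLocalRing.maximalIdeal S • (⊤ : Submodule S M) ≠ ⊤) :
    IsLocalRing.maximalIdeal R • (⊤ : Submodule R M) ≠ ⊤ := by
  intro h'
  apply h
  rw [eq_top_iff]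
  intro m _
  have hm : m ∈ IsLocalRing.maximalIdeal R • (⊤ : Submodule R M) := by rw [h']; trivial
  refine Submodule.smul_induction_on hm ?_ ?_
  · intro a ha n _
    rw [← algebraMap_smul S a n]
    refine Submodule.smul_mem_smul ?_ trivial
    exact (IsLocalRing.mem_maximalIdeal _).mpr
      (fun hu => ((IsLocalRing.mem_maximalIdeal _).mp ha) (isUnit_of_map_unit (algebraMap R S) a hu))
  · intro a b ha hb
    exact add_mem ha hb

end Module

end Groth.Agent.Lib.Helper22.FFlatMod
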