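import Mathlib
import Groth.Agent.Lib.Helper12.FpDesc

/-!
# Models over finitely generated `ℤ`-subalgebras

A commutative ring `A` is the filtered colimit of its finitely generated `ℤ`-subalgebras, hence
`Spec A` is the cofiltered limit of the `Spec A₀`.  Combined with descent of morphisms of finite
presentation (`Helper12.FpDesc.descends_of_fp`) and with a "property descends to a stage" input
`hP`, this gives models of `P`-morphisms over f.g. `ℤ`-subalgebras (`exists_model`).
-/

universe u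
set_option linter.style.haveILetI false
open CategoryTheory Limits AlgebraicGeometry

namespace Groth.Agent.Lib.Helper22.FGModel

variable (A : Type u) [CommRing A]

/-- Finitely generated `ℤ`-subalgebras of `A`. -/
abbrev FGSub : Type u := {A₀ : Subalgebra ℤ A // A₀.FG}

instance : Nonempty (FGSub A) := ⟨⟨⊥, Subalgebra.fg_bot⟩⟩

instance : IsDirectedOrder (FGSub A) :=
  ⟨fun a b => ⟨⟨a.1 ⊔ b.1, a.2.sup b.2⟩, (le_sup_left : a.1 ≤ a.1 ⊔ b.1),
    (le_sup_right : b.1 ≤ a.1 ⊔ b.1)⟩⟩

/-- The diagram of f.g. subalgebras. -/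
def F : FGSub A ⥤ CommRingCat.{u} where
  obj a := CommRingCat.of ↥a.1
  map {a b} h := CommRingCat.ofHom
    (Subalgebra.inclusion (show a.1 ≤ b.1 from leOfHom h)).toRingHom
  map_id a := by ext x; rfl
  map_comp f g := by ext x; rfl

/-- The cocone with point `A`. -/
def cocone : Cocone (F A) where
  pt := CommRingCat.of A
  ι :=
    { app := fun a => CommRingCat.ofHom (algebraMap ↥a.1 A)
      naturality := fun a b h => by ext x; rfl }

variable {A}

lemma mem_single (a : A) : a ∈ Algebra.adjoin ℤ ({a} : Set A) :=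
  Algebra.subset_adjoin (Set.mem_singleton a)

/-- The subalgebra generated by one element. -/
def single (a : A) : FGSub A :=
  ⟨Algebra.adjoin ℤ {a}, ⟨{a}, by rw [Finset.coe_singleton]⟩⟩

/-- The subalgebra generated by two elements. -/
def pair (a b : A) : FGSub A :=
  ⟨(single a).1 ⊔ (single b).1, (single a).2.sup (single b).2⟩

lemma left_mem_pair (a b : A) : a ∈ (pair a b).1 :=
  (le_sup_left : (single a).1 ≤ (single a).1 ⊔ (single b).1) (mem_single a)

lemma right_mem_pair (a b : A) : b ∈ (pair a b).1 :=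
  (le_sup_right : (single b).1 ≤ (single a).1 ⊔ (single b).1) (mem_single b)

/-- The underlying function of the descent map. -/
noncomputable def descFun (s : Cocone (F A)) (a : A) : s.pt :=
  (s.ι.app (single a)).hom (⟨a, mem_single a⟩ : ↥(single a).1)

lemma descFun_eq (s : Cocone (F A)) (B : FGSub A) (a : A) (h : a ∈ B.1) :
    descFun s a = (s.ι.app B).hom (⟨a, h⟩ : ↥B.1) := by
  have hle : single a ≤ B := by
    change Algebra.adjoin ℤ {a} ≤ B.1
    exact Algebra.adjoin_le (by simpa using h)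
  have := s.w (homOfLE hle)
  rw [descFun, ← this]
  rfl

/-- The descent ring homomorphism. -/
noncomputable def descHom (s : Cocone (F A)) : A →+* s.pt where
  toFun := descFun s
  map_one' := by
    change descFun s 1 = 1
    rw [descFun_eq s (single 1) 1 (one_mem _)]
    exact map_one (s.ι.app (single 1)).hom
  map_zero' := by
    change descFun s 0 = 0
    rw [descFun_eq s (single 0) 0 (zero_mem _)]
    exact map_zero (s.ι.app (single 0)).hom
  map_mul' a b := by
    change descFun s (a * b) = descFun s a * descFun s b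
    rw [descFun_eq s (pair a b) (a * b) (mul_mem (left_mem_pair a b) (right_mem_pair a b)),
      descFun_eq s (pair a b) a (left_mem_pair a b), descFun_eq s (pair a b) b (right_mem_pair a b)]
    exact map_mul (s.ι.app (pair a b)).hom ⟨a, left_mem_pair a b⟩ ⟨b, right_mem_pair a b⟩
  map_add' a b := by
    change descFun s (a + b) = descFun s a + descFun s b
    rw [descFun_eq s (pair a b) (a + b) (add_mem (left_mem_pair a b) (right_mem_pair a b)),
      descFun_eq s (pair a b) a (left_mem_pair a b), descFun_eq s (pair a b) b (right_mem_pair a b)]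
    exact map_add (s.ι.app (pair a b)).hom ⟨a, left_mem_pair a b⟩ ⟨b, right_mem_pair a b⟩

variable (A)

/-- `A` is the colimit of its f.g. `ℤ`-subalgebras. -/
noncomputable def isColimit : IsColimit (cocone A) where
  desc s := CommRingCat.ofHom (descHom s)
  fac s B := by
    ext x
    exact descFun_eq s B x.1 x.2
  uniq s m hm := by
    ext a
    have := hm (single a)
    change m.hom a = descFun s a
    rw [descFun, ← this]
    rfl

/-- The diagram of spectra of f.g. subalgebras. -/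
noncomputable abbrev D : (FGSub A)ᵒᵖ ⥤ Scheme.{u} := (F A).op ⋙ Scheme.Spec

/-- The cone with point `Spec A`. -/
noncomputable def cone : Cone (D A) := Scheme.Spec.mapCone (cocone A).op

/-- `Spec A` is the limit of the `Spec A₀`. -/
noncomputable def isLimit : IsLimit (cone A) :=
  isLimitOfPreserves Scheme.Spec (isColimit A).op

instance (i : (FGSub A)ᵒᵖ) : IsAffine ((D A).obj i) := by
  change IsAffine (Spec _)
  infer_instance

lemma cone_pt : (cone A).pt = Spec (CommRingCat.of A) := rfl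

lemma cone_π_app (j : (FGSub A)ᵒᵖ) :
    (cone A).π.app j = Spec.map (CommRingCat.ofHom (algebraMap ↥j.unop.1 A)) := rfl

lemma D_obj (j : (FGSub A)ᵒᵖ) : (D A).obj j = Spec (CommRingCat.of ↥j.unop.1) := rfl

/-- Auxiliary form of `exists_model`, stated with the cone. -/
theorem exists_model_aux (P : MorphismProperty Scheme.{u}) [P.RespectsIso]
    (hP : ∀ (i₀ : (FGSub A)ᵒᵖ) {X₀ Y₀ : Scheme.{u}} (f₀ : X₀ ⟶ Y₀) (g₀ : Y₀ ⟶ (D A).obj i₀)
      [LocallyOfFinitePresentation g₀] [LocallyOfFinitePresentation (f₀ ≫ g₀)] [CompactSpace ↥X₀]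
      {X Y : Scheme.{u}} (f : X ⟶ Y) (g : Y ⟶ (cone A).pt) (qY : Y ⟶ Y₀) (qX : X ⟶ X₀)
      (_ : IsPullback qY g g₀ ((cone A).π.app i₀)) (_ : IsPullback qX f f₀ qY), P f →
      ∃ (j : (FGSub A)ᵒᵖ) (φ : j ⟶ i₀) (Xj Yj : Scheme.{u}) (fj : Xj ⟶ Yj)
        (gj : Yj ⟶ (D A).obj j) (pY : Yj ⟶ Y₀) (pX : Xj ⟶ X₀),
        IsPullback pY gj g₀ ((D A).map φ) ∧ IsPullback pX fj f₀ pY ∧ P fj)
    {X : Scheme.{u}} (f : X ⟶ (cone A).pt)
    [LocallyOfFinitePresentation f] [QuasiCompact f] [QuasiSeparated f] (hf : P f) :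
    ∃ j : (FGSub A)ᵒᵖ,
      ∃ (X₀ : Scheme.{u}) (f₀ : X₀ ⟶ (D A).obj j) (g : X ⟶ X₀),
        P f₀ ∧ LocallyOfFinitePresentation f₀ ∧ QuasiCompact f₀ ∧
          IsPullback g f f₀ ((cone A).π.app j) := by
  obtain ⟨i, Zi, hi, g, hlfp, hqc, hqs, hpb⟩ :=
    Groth.Agent.Lib.Helper12.FpDesc.descends_of_fp (D := D A) (c := cone A) (isLimit A) (X := X) f
  haveI := hlfp
  haveI := hqc
  haveI : CompactSpace ↥Zi := QuasiCompact.compactSpace_of_compactSpace hi
  haveI : LocallyOfFinitePresentation (hi ≫ 𝟙 ((D A).obj i)) := by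
    rw [Category.comp_id]; exact hlfp
  have hY : IsPullback ((cone A).π.app i) (𝟙 (cone A).pt) (𝟙 ((D A).obj i)) ((cone A).π.app i) :=
    IsPullback.id_vert ((cone A).π.app i)
  obtain ⟨j, φ, Xj, Yj, fj, gj, pY, pX, h1, h2, hPj⟩ :=
    hP i hi (𝟙 ((D A).obj i)) f (𝟙 (cone A).pt) ((cone A).π.app i) g hY hpb hf
  haveI : IsIso gj := h1.isIso_snd_of_isIso
  have h2' : IsPullback pX (fj ≫ gj) hi ((D A).map φ) := by
    simpa using h2.paste_vert h1
  have hw : g ≫ hi = (f ≫ (cone A).π.app j) ≫ (D A).map φ := by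
    rw [Category.assoc, (cone A).w φ]; exact hpb.w
  have hpb' : IsPullback (h2'.lift g (f ≫ (cone A).π.app j) hw) f (fj ≫ gj)
      ((cone A).π.app j) := by
    refine IsPullback.of_right ?_ (h2'.lift_snd _ _ hw) h2'
    rw [h2'.lift_fst, (cone A).w φ]
    exact hpb
  exact ⟨j, Xj, fj ≫ gj, h2'.lift g (f ≫ (cone A).π.app j) hw,
    (P.cancel_right_of_respectsIso fj gj).mpr hPj,
    MorphismProperty.of_isPullback (P := @LocallyOfFinitePresentation) h2' hlfp,
    MorphismProperty.of_isPullback (P := @QuasiCompact) h2' hqc, hpb'⟩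

/-- Models over f.g. `ℤ`-subalgebras: if `P` descends to a stage of the system of f.g.
subalgebras (input `hP`, in the shape of S5940–S5942), every finitely presented `P`-morphism to
`Spec A` is the base change of a finitely presented `P`-morphism to `Spec A₀`. -/
theorem exists_model (P : MorphismProperty Scheme.{u}) [P.RespectsIso]
    (hP : ∀ (i₀ : (FGSub A)ᵒᵖ) {X₀ Y₀ : Scheme.{u}} (f₀ : X₀ ⟶ Y₀) (g₀ : Y₀ ⟶ (D A).obj i₀)
      [LocallyOfFinitePresentation g₀] [LocallyOfFinitePresentation (f₀ ≫ g₀)] [CompactSpace ↥X₀]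
      {X Y : Scheme.{u}} (f : X ⟶ Y) (g : Y ⟶ (cone A).pt) (qY : Y ⟶ Y₀) (qX : X ⟶ X₀)
      (_ : IsPullback qY g g₀ ((cone A).π.app i₀)) (_ : IsPullback qX f f₀ qY), P f →
      ∃ (j : (FGSub A)ᵒᵖ) (φ : j ⟶ i₀) (Xj Yj : Scheme.{u}) (fj : Xj ⟶ Yj)
        (gj : Yj ⟶ (D A).obj j) (pY : Yj ⟶ Y₀) (pX : Xj ⟶ X₀),
        IsPullback pY gj g₀ ((D A).map φ) ∧ IsPullback pX fj f₀ pY ∧ P fj)
    {X : Scheme.{u}} (f : X ⟶ Spec (CommRingCat.of A))
    [LocallyOfFinitePresentation f] [QuasiCompact f] [QuasiSeparated f] (hf : P f) :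
    ∃ A₀ : Subalgebra ℤ A, A₀.FG ∧
      ∃ (X₀ : Scheme.{u}) (f₀ : X₀ ⟶ Spec (CommRingCat.of ↥A₀)) (g : X ⟶ X₀),
        P f₀ ∧ LocallyOfFinitePresentation f₀ ∧ QuasiCompact f₀ ∧
          IsPullback g f f₀ (Spec.map (CommRingCat.ofHom (algebraMap (↥A₀) A))) := by
  haveI i1 : @LocallyOfFinitePresentation X (cone A).pt f := ‹LocallyOfFinitePresentation f›
  haveI i2 : @QuasiCompact X (cone A).pt f := ‹QuasiCompact f›
  haveI i3 : @QuasiSeparated X (cone A).pt f := ‹QuasiSeparated f›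
  obtain ⟨j, X₀, f₀, g, h1, h2, h3, h4⟩ :=
    exists_model_aux A P hP (show X ⟶ (cone A).pt from f) hf
  exact ⟨j.unop.1, j.unop.2, X₀, f₀, g, h1, h2, h3, h4⟩

end Groth.Agent.Lib.Helper22.FGModel
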