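import Mathlib
import Groth.Prelude.Def_RefHull
import Groth.Agent.Lib.Helper3.QCLocal
import Groth.Agent.Lib.Helper3.FreeSec
import Groth.Agent.Lib.Helper3.InvGen

/-!
# Helper22: local generators of the stalks of a finite type module (no quasi-coherence)
-/

set_option autoImplicit false
universe u

open CategoryTheory CategoryTheory.Limits AlgebraicGeometry TopologicalSpace Opposite

namespace Groth.Agent.Lib.Helper22.FTGen

open Groth.Agent.Lib.Helper3

variable {X : Scheme.{u}}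

/-- A finite type `O_X`-module has, near every point, finitely many sections whose germs generate
all nearby stalks. -/
theorem exists_local_generators (F : X.Modules) [F.IsFiniteType] (x : X) :
    ∃ (V : X.Opens) (_ : x ∈ V) (ι : Type u) (_ : Finite ι) (m : ι → Γ(F, V)),
      ∀ (y : X) (hy : y ∈ V), Submodule.span (X.presheaf.stalk y)
        (Set.range fun i => F.presheaf.germ V y hy (m i)) = ⊤ := by
  obtain ⟨U, hU, hxU, σ, hσ⟩ := QCLocal.exists_affine_generatingSections F x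
  have hepi : Epi σ.π := σ.epi
  have hspan := @FreeSec.isLocSpannedBy_of_epi (U : Scheme.{u}) (F.restrict U.ι) σ.I σ.π hepi
  refine ⟨U.ι ''ᵁ ⊤, ⟨⟨x, hxU⟩, trivial, rfl⟩, σ.I, hσ.finite,
    fun i => (show Γ(F, U.ι ''ᵁ ⊤) from FreeSec.secOfHom σ.π i), ?_⟩
  rintro _ ⟨y', -, rfl⟩
  have hyV : U.ι y' ∈ U.ι ''ᵁ ⊤ := ⟨y', trivial, rfl⟩
  rw [eq_top_iff]
  intro v _
  obtain ⟨W, hyW, s, rfl⟩ := TopCat.Presheaf.exists_germ_eq F.presheaf v
  have hy'W₀ : y' ∈ U.ι ⁻¹ᵁ W := hyW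
  have hle : U.ι ''ᵁ (U.ι ⁻¹ᵁ W) ≤ W := by
    rintro _ ⟨z, hz, rfl⟩
    exact hz
  obtain ⟨W', hW', hyW', hsp⟩ := hspan (U.ι ⁻¹ᵁ W)
    (show Γ(F.restrict U.ι, U.ι ⁻¹ᵁ W) from F.presheaf.map (homOfLE hle).op s) y' hy'W₀
  have hyW'' : U.ι y' ∈ U.ι ''ᵁ W' := ⟨y', hyW', rfl⟩
  -- the key claim
  have key : ∀ t ∈ Submodule.span Γ((U : Scheme.{u}), W')
      (Set.range fun i => QCSec.res (F.restrict U.ι) (le_top : W' ≤ ⊤) (FreeSec.secOfHom σ.π i)),
      F.presheaf.germ (U.ι ''ᵁ W') (U.ι y') hyW'' (show Γ(F, U.ι ''ᵁ W') from t) ∈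
        Submodule.span (X.presheaf.stalk (U.ι y')) (Set.range fun i =>
          F.presheaf.germ (U.ι ''ᵁ ⊤) (U.ι y') hyV
            (show Γ(F, U.ι ''ᵁ ⊤) from FreeSec.secOfHom σ.π i)) := by
    intro t ht
    induction ht using Submodule.span_induction with
    | mem t ht =>
      obtain ⟨i, rfl⟩ := ht
      apply Submodule.subset_span
      refine ⟨i, ?_⟩
      exact (TopCat.Presheaf.germ_res_apply F.presheaf
        (homOfLE (show U.ι ''ᵁ W' ≤ U.ι ''ᵁ ⊤ from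
          fun _ ⟨z, _, hz⟩ => ⟨z, trivial, hz⟩)) (U.ι y') hyW''
        (show Γ(F, U.ι ''ᵁ ⊤) from FreeSec.secOfHom σ.π i)).symm
    | zero =>
      rw [show (show Γ(F, U.ι ''ᵁ W') from (0 : Γ(F.restrict U.ι, W'))) = 0 from rfl, map_zero]
      exact Submodule.zero_mem _
    | add a b _ _ ha hb =>
      rw [show (show Γ(F, U.ι ''ᵁ W') from (a + b : Γ(F.restrict U.ι, W'))) =
        (show Γ(F, U.ι ''ᵁ W') from a) + (show Γ(F, U.ι ''ᵁ W') from b) from rfl, map_add]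
      exact Submodule.add_mem _ ha hb
    | smul r a _ ha =>
      rw [InvGen.restrict_smul F U W' r a, Mero.germ_smul]
      exact Submodule.smul_mem _ _ ha
  have h1 := key _ hsp
  have h2 : F.presheaf.germ W (U.ι y') hyW s =
      F.presheaf.germ (U.ι ''ᵁ W') (U.ι y') hyW''
        (show Γ(F, U.ι ''ᵁ W') from QCSec.res (F.restrict U.ι) hW'
          (show Γ(F.restrict U.ι, U.ι ⁻¹ᵁ W) from F.presheaf.map (homOfLE hle).op s)) := by
    have hle2 : U.ι ''ᵁ W' ≤ U.ι ''ᵁ (U.ι ⁻¹ᵁ W) := fun _ ⟨z, hz, e⟩ => ⟨z, hW' hz, e⟩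
    have e1 : (show Γ(F, U.ι ''ᵁ W') from QCSec.res (F.restrict U.ι) hW'
          (show Γ(F.restrict U.ι, U.ι ⁻¹ᵁ W) from F.presheaf.map (homOfLE hle).op s)) =
        F.presheaf.map (homOfLE hle2).op (F.presheaf.map (homOfLE hle).op s) := rfl
    rw [e1, TopCat.Presheaf.germ_res_apply, TopCat.Presheaf.germ_res_apply]
  rw [← h2] at h1
  exact h1

end Groth.Agent.Lib.Helper22.FTGen
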