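import Mathlib

/-!
# Fibre rank of a finite flat morphism and degree of function fields (helper22)

Pure-Mathlib part: rank of a finite flat morphism via rings, fibres over points of an open
where the morphism is finite flat, fraction fields as residue fields at generic points.
-/

set_option autoImplicit false
set_option linter.style.haveILetI false
set_option linter.unusedSectionVars false
universe u
open CategoryTheory CategoryTheory.Limits AlgebraicGeometry TopologicalSpace

namespace Groth.Agent.Lib.Helper22.FibDeg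

/-- `P (f ∣_ V)` implies `P (f ∣_ W)` for `W ≤ V`. -/
theorem restrict_of_le {P : MorphismProperty Scheme.{u}} [IsZariskiLocalAtTarget P]
    {X Y : Scheme.{u}} (f : X ⟶ Y) {V W : Y.Opens} (hWV : W ≤ V) (h : P (f ∣_ V)) :
    P (f ∣_ W) := by
  have h1 : P ((f ∣_ V) ∣_ (V.ι ⁻¹ᵁ W)) := IsZariskiLocalAtTarget.restrict h _
  have h2 : P (f ∣_ V.ι ''ᵁ (V.ι ⁻¹ᵁ W)) :=
    (P.arrow_mk_iso_iff (morphismRestrictRestrict f V (V.ι ⁻¹ᵁ W))).mp h1
  have e : V.ι ''ᵁ (V.ι ⁻¹ᵁ W) = W := by
    rw [Scheme.Hom.image_preimage_eq_opensRange_inf, Scheme.Opens.opensRange_ι]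
    exact inf_eq_right.mpr hWV
  rwa [e] at h2

/-- A dominant morphism of irreducible schemes maps the generic point to the generic point. -/
theorem map_genericPoint {X Y : Scheme.{u}} [IrreducibleSpace X] [IrreducibleSpace Y] (f : X ⟶ Y)
    [IsDominant f] : f (genericPoint X) = genericPoint Y := by
  apply ((genericPoint_spec Y).eq _).symm
  have h := (genericPoint_spec X).image f.continuous
  have e : closure (f '' (Set.univ : Set X)) = (Set.univ : Set Y) := by
    rw [Set.image_univ]
    exact f.denseRange.closure_range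
  rwa [e] at h

/-- The rank of a finite flat morphism to an affine scheme, via global sections. -/
theorem finrank_eq_of_isAffine {X Y : Scheme.{u}} (h : X ⟶ Y) [IsAffine Y] [Flat h] [IsFinite h]
    (y : Y) : h.finrank y = h.appTop.hom.finrank (Y.isoSpec.hom y) := by
  haveI : IsAffine X := isAffine_of_isAffineHom h
  have hfin : h.appTop.hom.Finite := h.finite_appTop
  have hflat : h.appTop.hom.Flat := h.flat_appTop
  haveI : IsFinite (Spec.map h.appTop) := (IsFinite.SpecMap_iff _).mpr hfin
  haveI : Flat (Spec.map h.appTop) := Flat.SpecMap_iff.mpr hflat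
  have hpb : IsPullback X.isoSpec.hom h (Spec.map h.appTop) Y.isoSpec.hom :=
    IsPullback.of_horiz_isIso ⟨Scheme.isoSpec_hom_naturality h⟩
  rw [Scheme.Hom.finrank_of_isPullback _ _ _ _ hpb y,
    Scheme.Hom.finrank_SpecMap_eq_finrank hfin hflat]

/-- The rank of a finite morphism to the spectrum of a field is the dimension of global
sections. -/
theorem finrank_field {P : Scheme.{u}} (κ : Type u) [Field κ]
    (s : P ⟶ Spec (CommRingCat.of κ)) [IsFinite s] (pt : Spec (CommRingCat.of κ)) :
    s.finrank pt =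
      (letI := ((Scheme.ΓSpecIso (CommRingCat.of κ)).inv ≫ s.appTop).hom.toAlgebra
       Module.finrank κ Γ(P, ⊤)) := by
  haveI : IsAffine P := isAffine_of_isAffineHom s
  have hs : s = P.isoSpec.hom ≫
      Spec.map ((Scheme.ΓSpecIso (CommRingCat.of κ)).inv ≫ s.appTop) := by
    rw [Spec.map_comp, ← Category.assoc, Scheme.isoSpec_hom_naturality, Category.assoc,
      Scheme.isoSpec_Spec_hom, ← Spec.map_comp, Iso.inv_hom_id, Spec.map_id, Category.comp_id]
  generalize hφ : (Scheme.ΓSpecIso (CommRingCat.of κ)).inv ≫ s.appTop = φ at hs ⊢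
  have hfin : IsFinite (Spec.map φ) := by
    have h1 : IsFinite (P.isoSpec.hom ≫ Spec.map φ) := hs ▸ inferInstance
    exact (MorphismProperty.cancel_left_of_respectsIso @IsFinite P.isoSpec.hom _).mp h1
  have hφfin : φ.hom.Finite := (IsFinite.SpecMap_iff _).mp hfin
  have hφflat : φ.hom.Flat := by
    letI := φ.hom.toAlgebra
    show Module.Flat κ Γ(P, ⊤)
    infer_instance
  haveI : Flat (Spec.map φ) := Flat.SpecMap_iff.mpr hφflat
  have e1 : s.finrank pt = (P.isoSpec.hom ≫ Spec.map φ).finrank pt :=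
    congrArg (fun t => Scheme.Hom.finrank t pt) hs
  rw [e1, Scheme.Hom.finrank_comp_left_of_isIso,
    Scheme.Hom.finrank_SpecMap_eq_finrank hφfin hφflat]
  letI := φ.hom.toAlgebra
  exact congrFun (Module.rankAtStalk_eq_finrank_of_free (R := κ) (M := Γ(P, ⊤))) pt

/-- The fibre of `f` over a point `y` of an open `W` over which `f` is finite and flat. -/
theorem fibre_isFinite_and_finrank {X Y : Scheme.{u}} (f : X ⟶ Y) (W : Y.Opens)
    [IsFinite (f ∣_ W)] [Flat (f ∣_ W)] (y : Y) (hy : y ∈ W) :
    IsFinite (pullback.snd f (Y.fromSpecResidueField y)) ∧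
      ∀ pt : Spec (Y.residueField y),
        (pullback.snd f (Y.fromSpecResidueField y)).finrank pt = (f ∣_ W).finrank ⟨y, hy⟩ := by
  have hrange : Set.range (Y.fromSpecResidueField y) ⊆ Set.range W.ι := by
    rw [Scheme.range_fromSpecResidueField, Scheme.Opens.range_ι]
    exact Set.singleton_subset_iff.mpr hy
  have hj' : IsOpenImmersion.lift W.ι (Y.fromSpecResidueField y) hrange ≫ W.ι =
      Y.fromSpecResidueField y := IsOpenImmersion.lift_fac _ _ _
  generalize IsOpenImmersion.lift W.ι (Y.fromSpecResidueField y) hrange = j' at hj'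
  have t : IsPullback (f ⁻¹ᵁ W).ι (f ∣_ W) f W.ι := (isPullback_morphismRestrict f W).flip
  have s : IsPullback (pullback.fst f (Y.fromSpecResidueField y))
      (pullback.snd f (Y.fromSpecResidueField y)) f (j' ≫ W.ι) := by
    rw [hj']; exact IsPullback.of_hasPullback _ _
  have hpb := IsPullback.of_right' s t
  refine ⟨MorphismProperty.of_isPullback hpb inferInstance, fun pt => ?_⟩
  rw [Scheme.Hom.finrank_of_isPullback _ _ _ _ hpb pt]
  congr 1
  apply Subtype.ext
  have h1 : (j' ≫ W.ι) pt = y := by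
    rw [hj']; exact Scheme.fromSpecResidueField_apply y pt
  simpa using h1

/-- On an integral scheme, the residue field at the generic point is the fraction field of the
sections over any affine open containing it. -/
theorem isFractionRing_evaluation (Y : Scheme.{u}) [IsIntegral Y] (W : Y.Opens)
    (hW : IsAffineOpen W) (y : Y) (hy : y = genericPoint Y) (hyW : y ∈ W) :
    @IsFractionRing Γ(Y, W) _ (Y.residueField y) _ (Y.evaluation W y hyW).hom.toAlgebra := by
  subst hy
  haveI : Nonempty W := ⟨⟨_, hyW⟩⟩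
  have h1 : IsFractionRing Γ(Y, W) Y.functionField :=
    functionField_isFractionRing_of_isAffineOpen Y W hW
  letI : Algebra Γ(Y, W) (Y.residueField (genericPoint Y)) :=
    (Y.evaluation W _ hyW).hom.toAlgebra
  have hres : Function.Injective (Y.residue (genericPoint Y)).hom := RingHom.injective _
  have hev : ∀ x : Γ(Y, W), algebraMap Γ(Y, W) (Y.residueField (genericPoint Y)) x =
      (Y.residue (genericPoint Y)).hom (algebraMap Γ(Y, W) Y.functionField x) := fun x => rfl
  haveI : FaithfulSMul Γ(Y, W) (Y.residueField (genericPoint Y)) := by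
    rw [faithfulSMul_iff_algebraMap_injective]
    intro a b hab
    rw [hev, hev] at hab
    exact IsFractionRing.injective Γ(Y, W) Y.functionField (hres hab)
  refine IsFractionRing.of_field _ _ (fun z => ?_)
  obtain ⟨s, rfl⟩ := Y.residue_surjective (genericPoint Y) z
  obtain ⟨a, b, hb, rfl⟩ := IsFractionRing.div_surjective (A := Γ(Y, W)) s
  exact ⟨a, b, by rw [hev, hev]; exact map_div₀ (Y.residue (genericPoint Y)).hom _ _⟩

section Generic

variable {X Y : Scheme.{u}} [IsIntegral X] [IsIntegral Y] (f : X ⟶ Y)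
  (hη : f (genericPoint X) = genericPoint Y) (W : Y.Opens) (hW : IsAffineOpen W)
  (hU : IsAffineOpen (f ⁻¹ᵁ W)) (hηW : f (genericPoint X) ∈ W)

include hη hW hU hηW in
/-- The degree of the function field extension is the rank of sections over an affine open with
affine preimage. -/
theorem finrank_sections_eq :
    (letI := (f.residueFieldMap (genericPoint X)).hom.toAlgebra
     Module.finrank (Y.residueField (f (genericPoint X))) (X.residueField (genericPoint X))) =
    (letI := (f.app W).hom.toAlgebra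
     Module.finrank Γ(Y, W) Γ(X, f ⁻¹ᵁ W)) := by
  letI a1 : Algebra Γ(Y, W) Γ(X, f ⁻¹ᵁ W) := (f.app W).hom.toAlgebra
  letI a2 : Algebra (Y.residueField (f (genericPoint X))) (X.residueField (genericPoint X)) :=
    (f.residueFieldMap (genericPoint X)).hom.toAlgebra
  letI a3 : Algebra Γ(Y, W) (Y.residueField (f (genericPoint X))) :=
    (Y.evaluation W _ hηW).hom.toAlgebra
  letI a4 : Algebra Γ(X, f ⁻¹ᵁ W) (X.residueField (genericPoint X)) :=
    (X.evaluation (f ⁻¹ᵁ W) _ hηW).hom.toAlgebra
  letI a5 : Algebra Γ(Y, W) (X.residueField (genericPoint X)) :=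
    (f.app W ≫ X.evaluation (f ⁻¹ᵁ W) _ hηW).hom.toAlgebra
  haveI t1 : IsScalarTower Γ(Y, W) Γ(X, f ⁻¹ᵁ W) (X.residueField (genericPoint X)) :=
    IsScalarTower.of_algebraMap_eq' rfl
  haveI t2 : IsScalarTower Γ(Y, W) (Y.residueField (f (genericPoint X)))
      (X.residueField (genericPoint X)) := by
    apply IsScalarTower.of_algebraMap_eq'
    have h := Scheme.evaluation_naturality f (genericPoint X) hηW
    exact congrArg CommRingCat.Hom.hom h.symm
  haveI f1 := isFractionRing_evaluation Y W hW _ hη hηW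
  haveI f2 := isFractionRing_evaluation X (f ⁻¹ᵁ W) hU (genericPoint X) rfl hηW
  exact IsFractionRing.finrank_eq Γ(Y, W) (Y.residueField (f (genericPoint X))) Γ(X, f ⁻¹ᵁ W)
    (X.residueField (genericPoint X))

include hη hW hU hηW in
/-- The function field extension is finite if sections over an affine open with affine preimage
are finite. -/
theorem finite_residueField (hfin : (f.app W).hom.Finite) :
    (letI := (f.residueFieldMap (genericPoint X)).hom.toAlgebra
     Module.Finite (Y.residueField (f (genericPoint X))) (X.residueField (genericPoint X))) := by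
  letI a1 : Algebra Γ(Y, W) Γ(X, f ⁻¹ᵁ W) := (f.app W).hom.toAlgebra
  letI a2 : Algebra (Y.residueField (f (genericPoint X))) (X.residueField (genericPoint X)) :=
    (f.residueFieldMap (genericPoint X)).hom.toAlgebra
  letI a3 : Algebra Γ(Y, W) (Y.residueField (f (genericPoint X))) :=
    (Y.evaluation W _ hηW).hom.toAlgebra
  letI a4 : Algebra Γ(X, f ⁻¹ᵁ W) (X.residueField (genericPoint X)) :=
    (X.evaluation (f ⁻¹ᵁ W) _ hηW).hom.toAlgebra
  letI a5 : Algebra Γ(Y, W) (X.residueField (genericPoint X)) :=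
    (f.app W ≫ X.evaluation (f ⁻¹ᵁ W) _ hηW).hom.toAlgebra
  haveI t1 : IsScalarTower Γ(Y, W) Γ(X, f ⁻¹ᵁ W) (X.residueField (genericPoint X)) :=
    IsScalarTower.of_algebraMap_eq' rfl
  haveI t2 : IsScalarTower Γ(Y, W) (Y.residueField (f (genericPoint X)))
      (X.residueField (genericPoint X)) := by
    apply IsScalarTower.of_algebraMap_eq'
    have h := Scheme.evaluation_naturality f (genericPoint X) hηW
    exact congrArg CommRingCat.Hom.hom h.symm
  haveI f1 := isFractionRing_evaluation Y W hW _ hη hηW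
  haveI f2 := isFractionRing_evaluation X (f ⁻¹ᵁ W) hU (genericPoint X) rfl hηW
  haveI : Module.Finite Γ(Y, W) Γ(X, f ⁻¹ᵁ W) := hfin
  haveI : Nonempty W := ⟨⟨_, hηW⟩⟩
  haveI : Nonempty (f ⁻¹ᵁ W) := ⟨⟨genericPoint X, hηW⟩⟩
  haveI : FaithfulSMul Γ(Y, W) Γ(X, f ⁻¹ᵁ W) := by
    rw [faithfulSMul_iff_algebraMap_injective]
    intro a b hab
    have h1 : algebraMap Γ(Y, W) (X.residueField (genericPoint X)) a =
        algebraMap Γ(Y, W) (X.residueField (genericPoint X)) b := by
      rw [IsScalarTower.algebraMap_apply Γ(Y, W) Γ(X, f ⁻¹ᵁ W) (X.residueField (genericPoint X)),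
        IsScalarTower.algebraMap_apply Γ(Y, W) Γ(X, f ⁻¹ᵁ W) (X.residueField (genericPoint X)),
        hab]
    rw [IsScalarTower.algebraMap_apply Γ(Y, W) (Y.residueField (f (genericPoint X)))
        (X.residueField (genericPoint X)),
      IsScalarTower.algebraMap_apply Γ(Y, W) (Y.residueField (f (genericPoint X)))
        (X.residueField (genericPoint X))] at h1
    exact IsFractionRing.injective Γ(Y, W) (Y.residueField (f (genericPoint X)))
      ((algebraMap (Y.residueField (f (genericPoint X)))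
        (X.residueField (genericPoint X))).injective h1)
  haveI : Algebra.IsIntegral Γ(Y, W) Γ(X, f ⁻¹ᵁ W) := Algebra.IsIntegral.of_finite _ _
  exact Module.Finite.of_isLocalization Γ(Y, W) Γ(X, f ⁻¹ᵁ W) (nonZeroDivisors Γ(Y, W))

end Generic

/-- Sections of the restriction vs. sections over the open. -/
theorem appTop_topIso {X Y : Scheme.{u}} (f : X ⟶ Y) (W : Y.Opens) :
    (f ∣_ W).appTop ≫ (f ⁻¹ᵁ W).topIso.hom = W.topIso.hom ≫ f.app W := by
  simp only [Scheme.Opens.topIso_hom]
  rw [Scheme.Hom.appTop, morphismRestrict_app', Scheme.Hom.app_eq_appLE]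
  erw [Scheme.Hom.appLE_map, Scheme.Hom.map_appLE]

/-- Finiteness of sections from finiteness of the restriction. -/
theorem finite_app_of_restrict {X Y : Scheme.{u}} (f : X ⟶ Y) (W : Y.Opens)
    (hW : IsAffineOpen W) [IsFinite (f ∣_ W)] : (f.app W).hom.Finite := by
  haveI : IsAffine ↑W := hW
  have h1 : (f ∣_ W).appTop.hom.Finite := (f ∣_ W).finite_appTop
  have e : f.app W = W.topIso.inv ≫ ((f ∣_ W).appTop ≫ (f ⁻¹ᵁ W).topIso.hom) := by
    rw [appTop_topIso, Iso.inv_hom_id_assoc]
  rw [e]
  simp only [CommRingCat.hom_comp]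
  exact ((RingHom.Finite.of_surjective _
    (ConcreteCategory.bijective_of_isIso (f ⁻¹ᵁ W).topIso.hom).surjective).comp h1).comp
    (RingHom.Finite.of_surjective _
      (ConcreteCategory.bijective_of_isIso W.topIso.inv).surjective)

/-- The preimage of an affine open over which `f` is finite is affine. -/
theorem isAffineOpen_preimage_of_restrict {X Y : Scheme.{u}} (f : X ⟶ Y) (W : Y.Opens)
    (hW : IsAffineOpen W) [IsFinite (f ∣_ W)] : IsAffineOpen (f ⁻¹ᵁ W) := by
  haveI : IsAffine ↑W := hW
  exact isAffine_of_isAffineHom (f ∣_ W)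

/-- For `f` finite flat over an affine open `W` of an integral scheme, the rank of `f ∣_ W` is
everywhere the rank of the sections. -/
theorem rank_restrict {X Y : Scheme.{u}} [IsIntegral Y] (f : X ⟶ Y) (W : Y.Opens)
    (hW : IsAffineOpen W) [IsFinite (f ∣_ W)] [Flat (f ∣_ W)] (y : W) :
    (f ∣_ W).finrank y =
      (letI := (f.app W).hom.toAlgebra
       Module.finrank Γ(Y, W) Γ(X, f ⁻¹ᵁ W)) := by
  haveI : IsAffine ↑W := hW
  haveI : Nonempty W := ⟨y⟩
  haveI : IsAffine ↑(f ⁻¹ᵁ W) := isAffine_of_isAffineHom (f ∣_ W)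
  rw [finrank_eq_of_isAffine]
  letI alg : Algebra Γ(↑W, ⊤) Γ(↑(f ⁻¹ᵁ W), ⊤) := (f ∣_ W).appTop.hom.toAlgebra
  letI alg' : Algebra Γ(Y, W) Γ(X, f ⁻¹ᵁ W) := (f.app W).hom.toAlgebra
  haveI : Module.Finite Γ(↑W, ⊤) Γ(↑(f ⁻¹ᵁ W), ⊤) := (f ∣_ W).finite_appTop
  haveI : Module.Flat Γ(↑W, ⊤) Γ(↑(f ⁻¹ᵁ W), ⊤) := (f ∣_ W).flat_appTop
  haveI : IsDomain Γ(↑W, ⊤) := Function.Injective.isDomain W.topIso.hom.hom
    (ConcreteCategory.bijective_of_isIso W.topIso.hom).injective
  have h1 := Ideal.finrank_fiber_eq_rankAtStalk (M := Γ(↑(f ⁻¹ᵁ W), ⊤))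
    ((↑W : Scheme).isoSpec.hom y).asIdeal (hp := ((↑W : Scheme).isoSpec.hom y).isPrime)
  have h2 := Ideal.finrank_fiber_eq_finrank (M := Γ(↑(f ⁻¹ᵁ W), ⊤))
    ((↑W : Scheme).isoSpec.hom y).asIdeal
  have h3 : Module.finrank Γ(↑W, ⊤) Γ(↑(f ⁻¹ᵁ W), ⊤) = Module.finrank Γ(Y, W) Γ(X, f ⁻¹ᵁ W) :=
    Algebra.finrank_eq_of_equiv_equiv W.topIso.commRingCatIsoToRingEquiv
      (f ⁻¹ᵁ W).topIso.commRingCatIsoToRingEquiv
      (congrArg CommRingCat.Hom.hom (appTop_topIso f W).symm)
  exact (h1.symm.trans h2).trans h3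

end Groth.Agent.Lib.Helper22.FibDeg
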