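import Mathlib
import Groth.Agent.Lib.Helper22.FibDeg
import Groth.Agent.Lib.Helper28.GenFinSch
import Groth.Agent.Lib.Helper28.GenFlatScheme
import Groth.Agent.Lib.Helper12.SchemeDimFT3

/-!
# Generic finiteness and fibre rank = degree of the function field extension (helper22)
-/

set_option autoImplicit false
set_option linter.style.haveILetI false
set_option linter.unusedSectionVars false
universe u
open CategoryTheory CategoryTheory.Limits AlgebraicGeometry TopologicalSpace

namespace Groth.Agent.Lib.Helper22.FibDeg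

open Groth.Agent.Lib.Helper12

attribute [local instance] Curv2.resAlgebra

/-- For a `k`-morphism of integral schemes locally of finite type of the same dimension, only the
generic point maps to the generic point. -/
theorem eq_genericPoint_of_map_eq (k : Type u) [Field k] {X Y : Scheme.{u}}
    [X.Over (Spec (CommRingCat.of k))] [Y.Over (Spec (CommRingCat.of k))]
    [LocallyOfFiniteType (X ↘ Spec (CommRingCat.of k))]
    [LocallyOfFiniteType (Y ↘ Spec (CommRingCat.of k))]
    [IsIntegral X] [IsIntegral Y] (f : X ⟶ Y)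
    (hf : f ≫ (Y ↘ Spec (CommRingCat.of k)) = X ↘ Spec (CommRingCat.of k))
    (hdim : topologicalKrullDim ↥X = topologicalKrullDim ↥Y) (x : X)
    (hx : f x = genericPoint Y) : x = genericPoint X := by
  by_contra hne
  have dimX := SchemeDimFT.topologicalKrullDim_eq_of_irreducible k X _
    (SchemeDimFT.tr_spec k X (genericPoint X))
  have dimY := SchemeDimFT.topologicalKrullDim_eq_of_irreducible k Y _
    (SchemeDimFT.tr_spec k Y (genericPoint Y))
  have hXY : SchemeDimFT.tr k X (genericPoint X) = SchemeDimFT.tr k Y (genericPoint Y) := by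
    have h0 : ((SchemeDimFT.tr k X (genericPoint X) : ℕ) : WithBot ℕ∞) =
        (SchemeDimFT.tr k Y (genericPoint Y) : ℕ) := by rw [← dimX, ← dimY, hdim]
    exact_mod_cast h0
  have h1 := SchemeDimFT.tr_lt_of_specializes k X (genericPoint X) x
    ((genericPoint_spec X).specializes trivial) (Ne.symm hne)
  have h5 := SchemeDimFT.trdeg_le_of_hom k (Y ↘ Spec (CommRingCat.of k))
    (X ↘ Spec (CommRingCat.of k)) f hf x
  rw [hx] at h5
  have h6 : (SchemeDimFT.tr k Y (genericPoint Y) : Cardinal.{u}) ≤
      (SchemeDimFT.tr k X x : Cardinal.{u}) := by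
    rw [← SchemeDimFT.tr_spec k Y, ← SchemeDimFT.tr_spec k X]; exact h5
  have h7 : SchemeDimFT.tr k Y (genericPoint Y) ≤ SchemeDimFT.tr k X x := by exact_mod_cast h6
  omega

/-- Generic finiteness and fibre rank = degree, on a non-empty open. -/
theorem main (k : Type u) [Field k] {X Y : Scheme.{u}}
    [X.Over (Spec (CommRingCat.of k))] [Y.Over (Spec (CommRingCat.of k))]
    [LocallyOfFiniteType (X ↘ Spec (CommRingCat.of k))] [QuasiCompact (X ↘ Spec (CommRingCat.of k))]
    [LocallyOfFiniteType (Y ↘ Spec (CommRingCat.of k))]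
    [IsIntegral X] [IsIntegral Y] (f : X ⟶ Y) [IsDominant f]
    (hf : f ≫ (Y ↘ Spec (CommRingCat.of k)) = X ↘ Spec (CommRingCat.of k))
    (hdim : topologicalKrullDim ↥X = topologicalKrullDim ↥Y) :
    (letI := (f.residueFieldMap (genericPoint ↥X)).hom.toAlgebra;
      Module.Finite (Y.residueField (f.base (genericPoint ↥X))) (X.residueField (genericPoint ↥X))) ∧
    ∃ U : Y.Opens, Nonempty ↥U ∧ ∀ y : Y, y ∈ U →
      IsFinite (pullback.snd f (Y.fromSpecResidueField y)) ∧
        (letI := ((Scheme.ΓSpecIso (CommRingCat.of (Y.residueField y))).inv ≫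
            (pullback.snd f (Y.fromSpecResidueField y)).appTop).hom.toAlgebra;
          Module.finrank (Y.residueField y) ↑(Γ(pullback f (Y.fromSpecResidueField y), ⊤))) =
        (letI := (f.residueFieldMap (genericPoint ↥X)).hom.toAlgebra;
          Module.finrank (Y.residueField (f.base (genericPoint ↥X)))
            (X.residueField (genericPoint ↥X))) := by
  have hη : f (genericPoint X) = genericPoint Y := map_genericPoint f
  haveI : LocallyOfFiniteType f := by
    haveI : LocallyOfFiniteType (f ≫ (Y ↘ Spec (CommRingCat.of k))) := by rw [hf]; infer_instance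
    exact locallyOfFiniteType_of_comp f (Y ↘ Spec (CommRingCat.of k))
  haveI : IsLocallyNoetherian Y :=
    LocallyOfFiniteType.isLocallyNoetherian (Y ↘ Spec (CommRingCat.of k))
  haveI : QuasiCompact f := by
    haveI : QuasiCompact (f ≫ (Y ↘ Spec (CommRingCat.of k))) := by rw [hf]; infer_instance
    exact QuasiCompact.of_comp f (Y ↘ Spec (CommRingCat.of k))
  have hX : (irreducibleComponents (X : Type u)).Finite := by
    rw [irreducibleComponents_eq_singleton]; exact Set.finite_singleton _
  have hmax : ∀ y : Y, y ⤳ f (genericPoint X) → y = f (genericPoint X) := by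
    intro y hy
    rw [hη] at hy ⊢
    exact (hy.antisymm ((genericPoint_spec Y).specializes trivial)).eq
  have hF : ∀ x : X, f x = f (genericPoint X) →
      closure {x} ∈ irreducibleComponents (X : Type u) := by
    intro x hx
    have hxg : x = genericPoint X := eq_genericPoint_of_map_eq k f hf hdim x (hx.trans hη)
    rw [hxg, irreducibleComponents_eq_singleton, Set.mem_singleton_iff]
    exact (genericPoint_spec X).def
  obtain ⟨V, hV, hηV, hVfin⟩ :=
    Groth.Agent.Lib.Helper28.GenFinSch.exists_isFinite_of_generic_fibre f hX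
      (f (genericPoint X)) hmax hF
  obtain ⟨U₁, hU₁dense, hU₁flat, -⟩ := Groth.Agent.Lib.Helper28.GenFlat.generic_flat f
  have hηU₁ : f (genericPoint X) ∈ U₁ := by
    rw [hη]
    refine ((genericPoint_spec Y).mem_open_set_iff U₁.isOpen).mpr ?_
    obtain ⟨z, hz⟩ := hU₁dense.nonempty
    exact ⟨z, trivial, hz⟩
  obtain ⟨W, hW, hηW, hWle⟩ := Opens.isBasis_iff_nbhd.mp Y.isBasis_affineOpens
    (show f (genericPoint X) ∈ V ⊓ U₁ from ⟨hηV, hηU₁⟩)
  have hW : IsAffineOpen W := hW
  haveI : IsFinite (f ∣_ W) := restrict_of_le f (hWle.trans inf_le_left) hVfin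
  haveI : Flat (f ∣_ W) := restrict_of_le f (hWle.trans inf_le_right) hU₁flat
  have hU : IsAffineOpen (f ⁻¹ᵁ W) := isAffineOpen_preimage_of_restrict f W hW
  have hdeg := finrank_sections_eq f hη W hW hU hηW
  refine ⟨finite_residueField f hη W hW hU hηW (finite_app_of_restrict f W hW), W,
    ⟨⟨_, hηW⟩⟩, fun y hy => ?_⟩
  obtain ⟨h1, h2⟩ := fibre_isFinite_and_finrank f W y hy
  refine ⟨h1, ?_⟩
  haveI := h1
  have e1 := finrank_field (Y.residueField y) (pullback.snd f (Y.fromSpecResidueField y))
    (⊥ : PrimeSpectrum (Y.residueField y))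
  exact (e1.symm.trans ((h2 _).trans (rank_restrict f W hW ⟨y, hy⟩))).trans hdeg.symm

end Groth.Agent.Lib.Helper22.FibDeg
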