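import Mathlib

/-!
# Successive approximation in separated filtered modules over an adically complete ring
-/

namespace Groth.Agent.Lib.Helper22.FiltComplete

variable {S : Type*} [CommRing S] (J : Ideal S) [IsPrecomplete J S]
  {M : Type*} [AddCommGroup M] [Module S M]

/-- successive approximation. -/
theorem approx (Nn : ℕ → Submodule S M) (hanti : Antitone Nn) (hJ : ∀ n, J • Nn n ≤ Nn (n + 1))
    {r : ℕ} (g : Fin r → M) (hg : ∀ i, g i ∈ Nn 0)
    (H : ∀ n, ∀ x ∈ Nn n, ∃ c : Fin r → S, (∀ i, c i ∈ J ^ n) ∧ x - ∑ i, c i • g i ∈ Nn (n + 1))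
    (n₀ : ℕ) (x : M) (hx : x ∈ Nn n₀) :
    ∃ a : Fin r → S, (∀ i, a i ∈ J ^ n₀) ∧ ∀ m, x - ∑ i, a i • g i ∈ Nn m := by
  classical
  -- J ^ m • N_0 ≤ N_m
  have hpow : ∀ m, J ^ m • Nn 0 ≤ Nn m := by
    intro m
    induction m with
    | zero => simp
    | succ m ih =>
      rw [pow_succ', mul_smul]
      exact (Submodule.smul_mono le_rfl ih).trans (hJ m)
  choose! c hc1 hc2 using H
  -- the recursive sequence
  let seq : (m : ℕ) → {y : M // y ∈ Nn (n₀ + m)} := fun m =>
    Nat.rec (motive := fun m => {y : M // y ∈ Nn (n₀ + m)}) ⟨x, hx⟩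
      (fun m y => ⟨y.1 - ∑ i, c (n₀ + m) y.1 i • g i, hc2 (n₀ + m) y.1 y.2⟩) m
  have hseq0 : (seq 0).1 = x := rfl
  let cc : ℕ → Fin r → S := fun m => c (n₀ + m) (seq m).1
  have hseqS : ∀ m, (seq (m + 1)).1 = (seq m).1 - ∑ i, cc m i • g i := fun m => rfl
  have hcc : ∀ m i, cc m i ∈ J ^ (n₀ + m) := fun m i => hc1 (n₀ + m) (seq m).1 (seq m).2 i
  let s : ℕ → Fin r → S := fun m i => ∑ j ∈ Finset.range m, cc j i
  have hs : ∀ m, (seq m).1 = x - ∑ i, s m i • g i := by
    intro m
    induction m with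
    | zero => simp [s, hseq0]
    | succ m ih =>
      have hsS : ∀ i, s (m + 1) i = s m i + cc m i := fun i => Finset.sum_range_succ _ _
      rw [hseqS, ih]
      simp only [hsS, add_smul, Finset.sum_add_distrib]
      abel
  have hsmem : ∀ m i, s m i ∈ J ^ n₀ := by
    intro m i
    refine Ideal.sum_mem _ (fun j _ => ?_)
    exact Ideal.pow_le_pow_right (Nat.le_add_right n₀ j) (hcc j i)
  have hcauchy : ∀ i, ∀ {m n : ℕ}, m ≤ n →
      s m i ≡ s n i [SMOD (J ^ m • ⊤ : Submodule S S)] := by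
    intro i m n hmn
    rw [SModEq.sub_mem, smul_eq_mul, Ideal.mul_top]
    have : s m i - s n i = - ∑ j ∈ Finset.Ico m n, cc j i := by
      have h1 : s n i = s m i + ∑ j ∈ Finset.Ico m n, cc j i :=
        (Finset.sum_range_add_sum_Ico (fun j => cc j i) hmn).symm
      rw [h1]
      ring
    rw [this]
    refine neg_mem (Ideal.sum_mem _ (fun j hj => ?_))
    exact Ideal.pow_le_pow_right (by have := (Finset.mem_Ico.1 hj).1; omega) (hcc j i)
  have hlim : ∀ i, ∃ L : S, ∀ n, s n i ≡ L [SMOD (J ^ n • ⊤ : Submodule S S)] := fun i =>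
    IsPrecomplete.prec' (fun m => s m i) (hcauchy i)
  choose a ha using hlim
  have ha' : ∀ n i, a i - s n i ∈ J ^ n := by
    intro n i
    have := (ha i n).symm
    rwa [SModEq.sub_mem, smul_eq_mul, Ideal.mul_top] at this
  refine ⟨a, fun i => ?_, fun m => ?_⟩
  · have := add_mem (ha' n₀ i) (hsmem n₀ i)
    rwa [sub_add_cancel] at this
  · have h1 : x - ∑ i, a i • g i = (seq m).1 - ∑ i, (a i - s m i) • g i := by
      rw [hs m]
      simp only [sub_smul, Finset.sum_sub_distrib]
      abel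
    rw [h1]
    refine sub_mem (hanti (Nat.le_add_left m n₀) (seq m).2) (sum_mem (fun i _ => ?_))
    exact hpow m (Submodule.smul_mem_smul (ha' m i) (hg i))

section main

variable {S : Type*} [CommRing S] [IsNoetherianRing S] (J : Ideal S) [IsAdicComplete J S]
  {M : Type*} [AddCommGroup M] [Module S M]
  (F : ℤ → Submodule S M) (hF : Antitone F) (hcod : ∃ p₀ : ℤ, F p₀ = ⊤)
  (hJ : ∀ p : ℤ, J • F p ≤ F (p + 1)) (hsep : ⨅ p : ℤ, F p = ⊥)

include hF hJ hsep in
/-- key consequence of successive approximation: beyond `q` the filtration is `J`-adic on `F q`,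
which is finitely generated. -/
theorem key (q : ℤ) (hgr : (Submodule.map (F (q + 1)).mkQ (F q)).FG)
    (hq : ∀ p : ℤ, q ≤ p → F (p + 1) = J • F p ⊔ F (p + 2)) :
    (F q).FG ∧ ∀ n : ℕ, F (q + n) = J ^ n • F q := by
  obtain ⟨r, t, ht⟩ := Submodule.fg_iff_exists_fin_generating_family.1 hgr
  have htmem : ∀ i, t i ∈ Submodule.map (F (q + 1)).mkQ (F q) := fun i =>
    ht ▸ Submodule.subset_span ⟨i, rfl⟩
  choose g hg1 hg2 using htmem
  let Nn : ℕ → Submodule S M := fun n => F (q + n)
  have hanti : Antitone Nn := fun m n hmn => hF (by simpa using hmn)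
  have hJN : ∀ n, J • Nn n ≤ Nn (n + 1) := fun n => by
    have := hJ (q + n)
    simpa [Nn, add_assoc] using this
  have hg0 : ∀ i, g i ∈ Nn 0 := fun i => by simpa [Nn] using hg1 i
  -- the approximation hypothesis
  have H : ∀ n, ∀ x ∈ Nn n, ∃ c : Fin r → S, (∀ i, c i ∈ J ^ n) ∧
      x - ∑ i, c i • g i ∈ Nn (n + 1) := by
    intro n
    induction n with
    | zero =>
      intro x hx
      have hx' : (F (q + 1)).mkQ x ∈ Submodule.span S (Set.range t) := by
        rw [ht]
        exact ⟨x, by simpa [Nn] using hx, rfl⟩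
      obtain ⟨c, hc⟩ := (Submodule.mem_span_range_iff_exists_fun S).1 hx'
      refine ⟨c, fun i => by simp, ?_⟩
      have : (F (q + 1)).mkQ (x - ∑ i, c i • g i) = 0 := by
        rw [map_sub, map_sum, ← hc, sub_eq_zero]
        refine Finset.sum_congr rfl (fun i _ => ?_)
        rw [map_smul, hg2 i]
      have h3 : x - ∑ i, c i • g i ∈ F (q + 1) := by
        rwa [Submodule.mkQ_apply, Submodule.Quotient.mk_eq_zero] at this
      simpa [Nn] using h3
    | succ n ih =>
      intro x hx
      have hx' : x ∈ J • Nn n ⊔ Nn (n + 2) := by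
        have := hq (q + n) (by omega)
        have h2 : Nn (n + 1) = J • Nn n ⊔ Nn (n + 2) := by
          simp only [Nn]
          push_cast
          rw [← add_assoc, this, add_assoc q n 2]
        rwa [← h2]
      obtain ⟨u, hu, v, hv, rfl⟩ := Submodule.mem_sup.1 hx'
      have hP : ∀ u ∈ J • Nn n, ∃ c : Fin r → S, (∀ i, c i ∈ J ^ (n + 1)) ∧
          u - ∑ i, c i • g i ∈ Nn (n + 1 + 1) := by
        intro u hu
        refine Submodule.smul_induction_on hu (fun j hj w hw => ?_) (fun u₁ u₂ h₁ h₂ => ?_)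
        · obtain ⟨c, hc1, hc2⟩ := ih w hw
          refine ⟨fun i => j * c i, fun i => ?_, ?_⟩
          · rw [pow_succ']
            exact Ideal.mul_mem_mul hj (hc1 i)
          · have : j • w - ∑ i, (j * c i) • g i = j • (w - ∑ i, c i • g i) := by
              rw [smul_sub, Finset.smul_sum]
              simp only [mul_smul]
            rw [this]
            exact hJN (n + 1) (Submodule.smul_mem_smul hj hc2)
        · obtain ⟨c₁, hc₁, hc₁'⟩ := h₁
          obtain ⟨c₂, hc₂, hc₂'⟩ := h₂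
          refine ⟨fun i => c₁ i + c₂ i, fun i => add_mem (hc₁ i) (hc₂ i), ?_⟩
          have : u₁ + u₂ - ∑ i, (c₁ i + c₂ i) • g i =
              (u₁ - ∑ i, c₁ i • g i) + (u₂ - ∑ i, c₂ i • g i) := by
            simp only [add_smul, Finset.sum_add_distrib]
            abel
          rw [this]
          exact add_mem hc₁' hc₂'
      obtain ⟨c, hc1, hc2⟩ := hP u hu
      refine ⟨c, hc1, ?_⟩
      have : u + v - ∑ i, c i • g i = (u - ∑ i, c i • g i) + v := by abel
      rw [this]
      exact add_mem hc2 hv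
  -- separatedness
  have hsepN : ∀ y : M, (∀ m : ℕ, y ∈ Nn m) → y = 0 := by
    intro y hy
    have : y ∈ ⨅ p : ℤ, F p := by
      rw [Submodule.mem_iInf]
      intro p
      exact hF (show p ≤ q + (p - q).toNat by omega) (hy (p - q).toNat)
    rwa [hsep, Submodule.mem_bot] at this
  have hrepr : ∀ n₀ : ℕ, ∀ x ∈ Nn n₀, ∃ a : Fin r → S, (∀ i, a i ∈ J ^ n₀) ∧ x = ∑ i, a i • g i := by
    intro n₀ x hx
    obtain ⟨a, ha1, ha2⟩ := approx J Nn hanti hJN g hg0 H n₀ x hx
    exact ⟨a, ha1, sub_eq_zero.1 (hsepN _ ha2)⟩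
  have hspan : F q = Submodule.span S (Set.range g) := by
    apply le_antisymm
    · intro x hx
      obtain ⟨a, -, rfl⟩ := hrepr 0 x (by simpa [Nn] using hx)
      exact sum_mem (fun i _ => Submodule.smul_mem _ _ (Submodule.subset_span ⟨i, rfl⟩))
    · rw [Submodule.span_le]
      rintro _ ⟨i, rfl⟩
      exact hg1 i
  refine ⟨hspan ▸ Submodule.fg_span (Set.finite_range g), fun n => ?_⟩
  apply le_antisymm
  · intro x hx
    obtain ⟨a, ha, rfl⟩ := hrepr n x hx
    exact sum_mem (fun i _ => Submodule.smul_mem_smul (ha i) (hg1 i))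
  · have hpow : ∀ m : ℕ, J ^ m • Nn 0 ≤ Nn m := by
      intro m
      induction m with
      | zero => simp
      | succ m ih =>
        rw [pow_succ', mul_smul]
        exact (Submodule.smul_mono le_rfl ih).trans (hJN m)
    simpa [Nn] using hpow n

end main

end Groth.Agent.Lib.Helper22.FiltComplete
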