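import Mathlib

/-!
# Generators avoiding finitely many proper submodules (helper22)

For a finite module `N` over a local ring `R₀` with infinite residue field, and a rule assigning to
every finite set of elements of `N` a finite set of proper submodules, there are minimal generators
`x₁, …, x_t` of `N` such that `x_i` avoids the submodules attached to `{x₁, …, x_{i-1}}`.
-/

set_option autoImplicit false

open IsLocalRing

namespace Groth.Agent.Lib.Helper22.FilterReg

variable {R₀ : Type*} [CommRing R₀] [IsLocalRing R₀] {N : Type*} [AddCommGroup N] [Module R₀ N]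

noncomputable instance instFieldK : Field (R₀ ⧸ maximalIdeal R₀) := Ideal.Quotient.field _

variable (R₀ N) in
/-- `N / 𝔪 N`. -/
abbrev V := N ⧸ (maximalIdeal R₀ • (⊤ : Submodule R₀ N))

lemma mk_smul (c : R₀) (v : V R₀ N) :
    (Ideal.Quotient.mk (maximalIdeal R₀) c) • v = c • v := by
  obtain ⟨y, rfl⟩ := Submodule.Quotient.mk_surjective _ v
  rfl

/-- the image of a submodule in `N / 𝔪 N`, as a subspace over the residue field. -/
def W (L : Submodule R₀ N) : Submodule (R₀ ⧸ maximalIdeal R₀) (V R₀ N) where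
  carrier := (L.map (Submodule.mkQ (maximalIdeal R₀ • (⊤ : Submodule R₀ N))) : Set (V R₀ N))
  add_mem' := add_mem
  zero_mem' := zero_mem _
  smul_mem' := by
    intro c x hx
    obtain ⟨c', rfl⟩ := Ideal.Quotient.mk_surjective c
    rw [mk_smul]
    exact Submodule.smul_mem _ c' hx

lemma mem_W {L : Submodule R₀ N} {v : V R₀ N} :
    v ∈ W L ↔ v ∈ L.map (Submodule.mkQ (maximalIdeal R₀ • (⊤ : Submodule R₀ N))) := Iff.rfl

lemma mk_mem_W {L : Submodule R₀ N} {x : N} (hx : x ∈ L) :
    (Submodule.Quotient.mk x : V R₀ N) ∈ W L :=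
  mem_W.2 (Submodule.mem_map_of_mem hx)

lemma W_eq_top [Module.Finite R₀ N] {L : Submodule R₀ N} (h : W L = ⊤) : L = ⊤ := by
  rw [← IsLocalRing.map_mkQ_eq_top]
  rw [eq_top_iff]
  intro v _
  have : v ∈ W L := by rw [h]; trivial
  exact mem_W.1 this

lemma span_range_eq_top [Module.Finite R₀ N] {ι : Type*} (x : ι → N)
    (h : Submodule.span (R₀ ⧸ maximalIdeal R₀)
      (Set.range fun j => (Submodule.Quotient.mk (x j) : V R₀ N)) = ⊤) :
    Submodule.span R₀ (Set.range x) = ⊤ := by
  apply W_eq_top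
  rw [eq_top_iff, ← h, Submodule.span_le]
  rintro _ ⟨j, rfl⟩
  exact mk_mem_W (Submodule.subset_span ⟨j, rfl⟩)

lemma span_image_eq_top (S : Set N) (hS : Submodule.span R₀ S = ⊤) :
    Submodule.span (R₀ ⧸ maximalIdeal R₀)
      ((fun x => (Submodule.Quotient.mk x : V R₀ N)) '' S) = ⊤ := by
  rw [eq_top_iff]
  rintro v -
  obtain ⟨y, rfl⟩ := Submodule.Quotient.mk_surjective _ v
  have hy : y ∈ Submodule.span R₀ S := by rw [hS]; trivial
  induction hy using Submodule.span_induction with
  | mem x hx => exact Submodule.subset_span ⟨x, hx, rfl⟩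
  | zero => exact zero_mem _
  | add x y _ _ hx hy => exact add_mem hx hy
  | smul c x _ hx =>
    have : (Submodule.Quotient.mk (c • x) : V R₀ N) =
        (Ideal.Quotient.mk (maximalIdeal R₀) c) • (Submodule.Quotient.mk x : V R₀ N) := rfl
    rw [this]
    exact Submodule.smul_mem _ _ hx

instance [Module.Finite R₀ N] : Module.Finite (R₀ ⧸ maximalIdeal R₀) (V R₀ N) := by
  classical
  obtain ⟨s, hs⟩ := (Module.finite_def (R := R₀) (M := N)).1 inferInstance
  refine ⟨⟨s.image (fun x => (Submodule.Quotient.mk x : V R₀ N)), ?_⟩⟩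
  rw [Finset.coe_image]
  exact span_image_eq_top _ hs

theorem finrank_eq_spanFinrank [Module.Finite R₀ N] :
    Module.finrank (R₀ ⧸ maximalIdeal R₀) (V R₀ N) = (⊤ : Submodule R₀ N).spanFinrank := by
  classical
  apply le_antisymm
  · obtain ⟨s, hs1, hs2⟩ := Submodule.FG.exists_span_finset_card_eq_spanFinrank
      (Module.Finite.fg_top (R := R₀) (M := N))
    rw [← hs1]
    have h1 : Submodule.span (R₀ ⧸ maximalIdeal R₀)
        ((s.image (fun x => (Submodule.Quotient.mk x : V R₀ N)) : Finset (V R₀ N)) : Set (V R₀ N))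
        = ⊤ := by
      rw [Finset.coe_image]
      exact span_image_eq_top _ hs2
    have h2 : Module.finrank (R₀ ⧸ maximalIdeal R₀) (Submodule.span (R₀ ⧸ maximalIdeal R₀)
        ((s.image (fun x => (Submodule.Quotient.mk x : V R₀ N)) : Finset (V R₀ N)) :
          Set (V R₀ N))) ≤ _ := finrank_span_finset_le_card _
    rw [h1, finrank_top] at h2
    exact h2.trans Finset.card_image_le
  · let b := Module.finBasis (R₀ ⧸ maximalIdeal R₀) (V R₀ N)
    choose x hx using fun j => Submodule.Quotient.mk_surjective _ (b j)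
    have h1 : Submodule.span R₀ (Set.range x) = ⊤ := by
      apply span_range_eq_top
      have : (fun j => (Submodule.Quotient.mk (x j) : V R₀ N)) = b := funext hx
      rw [this, b.span_eq]
    calc (⊤ : Submodule R₀ N).spanFinrank = (Submodule.span R₀ (Set.range x)).spanFinrank := by
          rw [h1]
      _ ≤ (Set.range x).ncard := Submodule.spanFinrank_span_le_ncard_of_finite (Set.finite_range x)
      _ ≤ _ := by
        have := Set.ncard_image_le (f := x) (s := Set.univ) Set.finite_univ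
        rw [Set.image_univ] at this
        refine this.trans ?_
        simp [Set.ncard_univ]


theorem exists_avoid [Module.Finite R₀ N] (hinf : Infinite (R₀ ⧸ maximalIdeal R₀))
    (𝓛 : Finset (Submodule R₀ N)) (h𝓛 : ∀ L ∈ 𝓛, L ≠ ⊤)
    (W₀ : Submodule (R₀ ⧸ maximalIdeal R₀) (V R₀ N)) (hW₀ : W₀ ≠ ⊤) :
    ∃ x : N, (Submodule.Quotient.mk x : V R₀ N) ∉ W₀ ∧ ∀ L ∈ 𝓛, x ∉ L := by
  classical
  let s : Finset (Subspace (R₀ ⧸ maximalIdeal R₀) (V R₀ N)) := insert W₀ (𝓛.image W)
  have hs : ⊤ ∉ s := by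
    intro h
    rcases Finset.mem_insert.1 h with h | h
    · exact hW₀ h.symm
    · obtain ⟨L, hL, hLW⟩ := Finset.mem_image.1 h
      exact h𝓛 L hL (W_eq_top hLW)
  have hne := Subspace.biUnion_ne_univ_of_top_notMem hs
  obtain ⟨v, hv⟩ := (Set.ne_univ_iff_exists_notMem _).1 hne
  obtain ⟨x, rfl⟩ := Submodule.Quotient.mk_surjective _ v
  simp only [Set.mem_iUnion, not_exists] at hv
  refine ⟨x, fun h => hv W₀ (Finset.mem_insert_self _ _) h, fun L hL hx => ?_⟩
  exact hv (W L) (Finset.mem_insert_of_mem (Finset.mem_image_of_mem _ hL)) (mk_mem_W hx)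

theorem exists_seq [Module.Finite R₀ N] (hinf : Infinite (R₀ ⧸ maximalIdeal R₀))
    (𝓛 : Set N → Set (Submodule R₀ N)) (hfin : ∀ S, S.Finite → (𝓛 S).Finite)
    (hproper : ∀ S, ∀ L ∈ 𝓛 S, L ≠ ⊤) (i : ℕ)
    (hi : i ≤ Module.finrank (R₀ ⧸ maximalIdeal R₀) (V R₀ N)) :
    ∃ x : Fin i → N,
      LinearIndependent (R₀ ⧸ maximalIdeal R₀)
        (fun j => (Submodule.Quotient.mk (x j) : V R₀ N)) ∧
      ∀ j, ∀ L ∈ 𝓛 (x '' {l | l < j}), x j ∉ L := by
  classical
  induction i with
  | zero => exact ⟨Fin.elim0, linearIndependent_empty_type, fun j => j.elim0⟩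
  | succ i ih =>
    obtain ⟨x, hx1, hx2⟩ := ih (Nat.le_of_succ_le hi)
    let W₀ := Submodule.span (R₀ ⧸ maximalIdeal R₀)
      (Set.range fun j => (Submodule.Quotient.mk (x j) : V R₀ N))
    have hW₀ : W₀ ≠ ⊤ := by
      intro h
      have h1 := finrank_span_eq_card hx1
      rw [show Submodule.span (R₀ ⧸ maximalIdeal R₀)
        (Set.range fun j => (Submodule.Quotient.mk (x j) : V R₀ N)) = ⊤ from h, finrank_top,
        Fintype.card_fin] at h1
      have h2 : Module.finrank (R₀ ⧸ maximalIdeal R₀) (V R₀ N) = i := h1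
      omega
    have hfinS : (𝓛 (Set.range x)).Finite := hfin _ (Set.finite_range x)
    obtain ⟨y, hy1, hy2⟩ := exists_avoid hinf hfinS.toFinset
      (fun L hL => hproper _ L (hfinS.mem_toFinset.1 hL)) W₀ hW₀
    refine ⟨Fin.snoc x y, ?_, ?_⟩
    · have : (fun j => (Submodule.Quotient.mk ((Fin.snoc x y : Fin (i + 1) → N) j) : V R₀ N)) =
          Fin.snoc (fun j => (Submodule.Quotient.mk (x j) : V R₀ N))
            (Submodule.Quotient.mk y) := by
        funext j
        refine Fin.lastCases ?_ (fun j' => ?_) j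
        · simp
        · simp
      rw [this, linearIndependent_finSnoc]
      exact ⟨hx1, hy1⟩
    · intro j
      refine Fin.lastCases ?_ (fun j' => ?_) j
      · have hset : (Fin.snoc x y : Fin (i + 1) → N) '' {l | l < Fin.last i} = Set.range x := by
          ext z
          simp only [Set.mem_image, Set.mem_ofPred_eq, Set.mem_range]
          constructor
          · rintro ⟨l, hl, rfl⟩
            obtain ⟨l', rfl⟩ := Fin.exists_castSucc_eq.2 hl.ne
            exact ⟨l', by simp⟩
          · rintro ⟨l', rfl⟩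
            exact ⟨Fin.castSucc l', Fin.castSucc_lt_last l', by simp⟩
        rw [hset, Fin.snoc_last]
        intro L hL
        exact hy2 L (hfinS.mem_toFinset.2 hL)
      · have hset : (Fin.snoc x y : Fin (i + 1) → N) '' {l | l < Fin.castSucc j'} =
            x '' {l | l < j'} := by
          ext z
          simp only [Set.mem_image, Set.mem_ofPred_eq]
          constructor
          · rintro ⟨l, hl, rfl⟩
            have hne : l ≠ Fin.last i := (hl.trans (Fin.castSucc_lt_last j')).ne
            obtain ⟨l', rfl⟩ := Fin.exists_castSucc_eq.2 hne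
            exact ⟨l', Fin.castSucc_lt_castSucc_iff.1 hl, by simp⟩
          · rintro ⟨l', hl', rfl⟩
            exact ⟨Fin.castSucc l', Fin.castSucc_lt_castSucc_iff.2 hl', by simp⟩
        rw [hset, Fin.snoc_castSucc]
        exact hx2 j'

/-- **minimal generators avoiding prescribed proper submodules.** -/
theorem exists_generators [Module.Finite R₀ N] (hinf : Infinite (R₀ ⧸ maximalIdeal R₀))
    (𝓛 : Set N → Set (Submodule R₀ N)) (hfin : ∀ S, S.Finite → (𝓛 S).Finite)
    (hproper : ∀ S, ∀ L ∈ 𝓛 S, L ≠ ⊤) :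
    ∃ x : Fin (⊤ : Submodule R₀ N).spanFinrank → N,
      Submodule.span R₀ (Set.range x) = ⊤ ∧ ∀ j, ∀ L ∈ 𝓛 (x '' {l | l < j}), x j ∉ L := by
  obtain ⟨x, hx1, hx2⟩ := exists_seq hinf 𝓛 hfin hproper (⊤ : Submodule R₀ N).spanFinrank
    finrank_eq_spanFinrank.ge
  refine ⟨x, ?_, hx2⟩
  apply span_range_eq_top
  exact hx1.span_eq_top_of_card_eq_finrank' (by rw [Fintype.card_fin, finrank_eq_spanFinrank])

end Groth.Agent.Lib.Helper22.FilterReg
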