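import Mathlib

/-!
# Helper22: a finite morphism to an irreducible scheme of the same dimension is surjective
-/

set_option autoImplicit false
universe u

open CategoryTheory CategoryTheory.Limits AlgebraicGeometry TopologicalSpace

namespace Groth.Agent.Lib.Helper22.FinSurj

/-- there are no nontrivial specializations inside a fibre of a locally quasi-finite morphism. -/
theorem eq_of_mem_closure_of_map_eq {X Y : Scheme.{u}} (π : X ⟶ Y) [LocallyQuasiFinite π]
    {x η : X} (hx : x ∈ closure ({η} : Set X)) (h : π x = π η) : x = η := by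
  have hd := (π.isDiscrete_preimage_singleton (π η)).to_subtype
  have hxS : x ∈ π ⁻¹' {π η} := h
  have hηS : η ∈ π ⁻¹' {π η} := rfl
  have ho : IsOpen ({⟨x, hxS⟩} : Set (π ⁻¹' {π η})) := isOpen_discrete _
  obtain ⟨U, hU, hUe⟩ := isOpen_induced_iff.mp ho
  have hxU : x ∈ U := by
    have : (⟨x, hxS⟩ : π ⁻¹' {π η}) ∈ Subtype.val ⁻¹' U := by rw [hUe]; rfl
    exact this
  obtain ⟨z, hzU, hz⟩ := mem_closure_iff.mp hx U hU hxU
  rw [Set.mem_singleton_iff] at hz
  subst hz
  have : (⟨z, hηS⟩ : π ⁻¹' {π z}) ∈ Subtype.val ⁻¹' U := hzU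
  rw [hUe, Set.mem_singleton_iff] at this
  exact (congrArg Subtype.val this).symm

/-- image of an irreducible closed subset under a closed map. -/
def imgIC {X Y : Scheme.{u}} (π : X ⟶ Y) (hc : IsClosedMap π) (Z : IrreducibleCloseds X) :
    IrreducibleCloseds Y :=
  ⟨π '' (Z : Set X), Z.isIrreducible.image π π.continuous.continuousOn, hc _ Z.isClosed⟩

theorem imgIC_strictMono {X Y : Scheme.{u}} (π : X ⟶ Y) [LocallyQuasiFinite π]
    (hc : IsClosedMap π) : StrictMono (imgIC π hc) := by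
  intro Z₁ Z₂ h
  have hle : (Z₁ : Set X) ⊆ Z₂ := le_of_lt h
  refine lt_of_le_of_ne (Set.image_mono hle) ?_
  intro heq
  have heq' : π '' (Z₁ : Set X) = π '' (Z₂ : Set X) := congrArg (fun W : IrreducibleCloseds Y => (W : Set Y)) heq
  obtain ⟨η, hη⟩ := QuasiSober.sober Z₂.isIrreducible Z₂.isClosed
  have hηZ : η ∈ (Z₂ : Set X) := hη.mem
  have : π η ∈ π '' (Z₁ : Set X) := by rw [heq']; exact ⟨η, hηZ, rfl⟩
  obtain ⟨x, hx, hxe⟩ := this
  have hx2 : x ∈ closure ({η} : Set X) := by rw [hη.def]; exact hle hx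
  have := eq_of_mem_closure_of_map_eq π hx2 hxe
  subst this
  have : (Z₂ : Set X) ⊆ Z₁ := by
    rw [← hη.def]
    exact (IsClosed.closure_subset_iff Z₁.isClosed).mpr (Set.singleton_subset_iff.mpr hx)
  exact absurd (le_antisymm hle this) (ne_of_lt h)

theorem surjective_of_dim_eq {X Y : Scheme.{u}} (π : X ⟶ Y) [LocallyQuasiFinite π]
    (hc : IsClosedMap π) [IrreducibleSpace Y] (d : ℕ)
    (hX : topologicalKrullDim X = d) (hY : topologicalKrullDim Y = d) :
    Function.Surjective π := by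
  by_contra hns
  obtain ⟨y₀, hy₀⟩ : ∃ y₀, y₀ ∉ Set.range π := by
    by_contra h
    push Not at h
    exact hns h
  obtain ⟨c, hc1⟩ := Order.le_krullDim_iff.mp (le_of_eq hX.symm)
  let c' := c.map (imgIC π hc) (imgIC_strictMono π hc)
  let top : IrreducibleCloseds Y := ⟨Set.univ, IrreducibleSpace.isIrreducible_univ Y, isClosed_univ⟩
  have hlt : c'.last < top := by
    refine lt_of_le_of_ne (Set.subset_univ _) ?_
    intro heq
    have h1 : ((c'.last : IrreducibleCloseds Y) : Set Y) = Set.univ :=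
      congrArg (fun W : IrreducibleCloseds Y => (W : Set Y)) heq
    have h2 : y₀ ∈ ((c'.last : IrreducibleCloseds Y) : Set Y) := by rw [h1]; trivial
    obtain ⟨x, _, hx⟩ := h2
    exact hy₀ ⟨x, hx⟩
  let c'' := c'.snoc top hlt
  have h3 : (c''.length : WithBot ℕ∞) ≤ topologicalKrullDim Y :=
    Order.LTSeries.length_le_krullDim c''
  have h4 : c''.length = d + 1 := by
    simp [c'', c', hc1]
  rw [hY, h4] at h3
  have : d + 1 ≤ d := by exact_mod_cast h3
  omega

end Groth.Agent.Lib.Helper22.FinSurj
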