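import Mathlib
import Groth.Agent.Lib.Helper3.VACore
import Groth.Agent.Lib.Helper3.QProj
import Groth.Agent.Lib.Helper6.ProjSpaceGamma
import Groth.Agent.Lib.Helper22.PnConstE
import Groth.Agent.Lib.Helper22.FinSurjA
import Groth.Agent.S10829

/-!
# Helper22: finite surjective projections `X ⟶ P^d_k` for closed `X ⊆ P^n_k` of dimension `d`
-/

set_option autoImplicit false
set_option linter.style.haveILetI false
universe u

open CategoryTheory CategoryTheory.Limits AlgebraicGeometry TopologicalSpace MvPolynomial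

namespace Groth.Agent.Lib.Helper22.FinSurj

open Groth.Agent.Lib.Helper3 Groth.Agent.Lib.Helper22.PnConst
open Groth.Agent.Lib.Helper3.SecCoord Groth.Agent.Lib.Helper3.ProjPullGen
  Groth.Agent.Lib.Helper3.TwistProj Groth.Agent.Lib.Helper3.VACore

theorem exists_finite_surjective (k : Type u) [Field k] [Infinite k] (Z : Scheme.{u}) (n : ℕ)
    (ι : Z ⟶ Proj (CohB1.polyGrading n k)) [IsClosedImmersion ι] (d : ℕ)
    (hd : topologicalKrullDim Z = d) :
    ∃ π : Z ⟶ Proj (CohB1.polyGrading d k),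
      π ≫ toSpec' d k = ι ≫ toSpec' n k ∧ IsFinite π ∧ Function.Surjective π ∧
      Nonempty ((Scheme.Modules.pullback π).obj
          (Twist.twist (CohB1.polyGrading d k) ((1 : ℕ) : ℤ)) ≅
        (Scheme.Modules.pullback ι).obj (Twist.twist (CohB1.polyGrading n k) ((1 : ℕ) : ℤ))) := by
  classical
  haveI := noetherianSpace_proj k n
  haveI : NoetherianSpace Z := ι.isEmbedding.isInducing.noetherianSpace
  have hchain : ChainLt (Set.univ : Set Z) (d + 1) := by
    intro c _
    have h1 : (c.length : WithBot ℕ∞) ≤ topologicalKrullDim Z :=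
      Order.LTSeries.length_le_krullDim c
    rw [hd] at h1
    have h3 : c.length ≤ d := by exact_mod_cast h1
    omega
  obtain ⟨ℓ, hℓ, hcut⟩ := exists_cut k n ι (d + 1) Set.univ isClosed_univ hchain
  -- the sections
  let L : Z.Modules := (Scheme.Modules.pullback ι).obj
    (Twist.twist (CohB1.polyGrading n k) ((1 : ℕ) : ℤ))
  let s : Fin (d + 1) → Γ(L, ⊤) := fun i =>
    gpull ι (Twist.twist (CohB1.polyGrading n k) ((1 : ℕ) : ℤ))
      (gsec (⟨ℓ i, hℓ i⟩ : CohB1.polyGrading n k 1))
  have hloc : ∀ i, locus L (s i) = ι ⁻¹ᵁ Proj.basicOpen (CohB1.polyGrading n k) (ℓ i) := fun i =>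
    ProjUniq.locus_gpull_gsec ι (hasUnitFrac_projSpace k n) (⟨ℓ i, hℓ i⟩ : CohB1.polyGrading n k 1)
  have hcov : ∀ x : Z, ∃ i, x ∈ locus L (s i) := by
    intro x
    obtain ⟨i, hi⟩ := hcut x trivial
    refine ⟨i, ?_⟩
    rw [hloc i]
    exact hi
  have hex : ∃ (π : Z ⟶ Proj (CohB1.polyGrading d k)) (_ : π ≫ toSpec' d k = ι ≫ toSpec' n k)
      (τ : (Scheme.Modules.pullback π).obj (Twist.twist (CohB1.polyGrading d k) ((1 : ℕ) : ℤ)) ≅ L),
      ∀ i, τ.hom.app ⊤ (gpull π (Twist.twist (CohB1.polyGrading d k) ((1 : ℕ) : ℤ))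
        (gsec (⟨MvPolynomial.X i, MvPolynomial.isHomogeneous_X k i⟩ :
          CohB1.polyGrading d k 1))) = s i :=
    exists_hom_projSpace d (ι ≫ toSpec' n k) L s hcov
  obtain ⟨π, hπ, τ, hτ⟩ := hex
  have hfin : IsFinite π := by
    haveI : IsProper (toSpec' n k) := Groth.Agent.Lib.Helper3.QProj.isProper_toSpec k n
    haveI : IsProper (toSpec' d k) := Groth.Agent.Lib.Helper3.QProj.isProper_toSpec k d
    haveI : IsProper (π ≫ toSpec' d k) := by
      have : π ≫ toSpec' d k = ι ≫ toSpec' n k := hπ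
      rw [this]
      infer_instance
    haveI : IsProper π := IsProper.of_comp π (toSpec' d k)
    haveI : IsAffineHom π := by
      apply isAffineHom_of_forall_exists_isAffineOpen
      intro y
      obtain ⟨i, hi⟩ : ∃ i : Fin (d + 1),
          (X i : MvPolynomial (Fin (d + 1)) k) ∉ (y : Proj (CohB1.polyGrading d k)).asHomogeneousIdeal := by
        by_contra hcon
        push Not at hcon
        apply (y : Proj (CohB1.polyGrading d k)).not_irrelevant_le
        show (HomogeneousIdeal.irrelevant (CohB1.polyGrading d k)).toIdeal ≤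
          (y : Proj (CohB1.polyGrading d k)).asHomogeneousIdeal.toIdeal
        refine (Groth.Agent.Lib.Helper6.ProjSpaceGamma.irrelevant_le d k).trans ?_
        rw [Ideal.span_le]
        rintro _ ⟨i, rfl⟩
        exact hcon i
      refine ⟨Proj.basicOpen (CohB1.polyGrading d k) (X i), hi,
        Proj.isAffineOpen_basicOpen _ (X i) (isHomogeneous_X k i) one_pos, ?_⟩
      have h1 := preimage_basicOpen_eq_locus π (hasUnitFrac_projSpace k d) τ
        (isHomogeneous_X k i) (hτ i)
      rw [h1, hloc i]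
      exact (Proj.isAffineOpen_basicOpen _ (ℓ i) (hℓ i) one_pos).preimage ι
    exact IsFinite.iff_isProper_and_isAffineHom.mpr ⟨inferInstance, inferInstance⟩
  refine ⟨π, hπ, hfin, ?_, ⟨τ⟩⟩
  have hc : IsClosedMap π := π.isClosedMap
  exact surjective_of_dim_eq π hc d hd (Groth.Agent.S10829.result k d)

end Groth.Agent.Lib.Helper22.FinSurj
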