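import Mathlib
import Groth.Prelude.Def_Flat
import Groth.Agent.Lib.Helper12.DimFT2
import Groth.Agent.Lib.Helper22.EtaleDim4
import Groth.Agent.Lib.Helper22.EtaleDim5
import Groth.Agent.Lib.Helper22.SmoothRelDim

/-!
# Smoothness over a field in terms of the rank of the fibre of `Ω` (helper22)

* `tensorCongr` : `K ⊗[S] M ≃ K ⊗[T] N` from `T ⊗[S] M ≃ N`.
* `finrank_tensor_field` : `dim_K K ⊗ M` only depends on the kernel of `B → K`.
* `finrank_le_of_gen`, `exists_gen_of_finrank_le` : a finite module is generated near `q` by `d`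
  elements iff `dim κ(q) ⊗ M ≤ d`.
* `isSmoothAt_of_finrank_le`, `localDim_eq_finrank_of_isSmoothAt` : S2063.
-/

set_option linter.style.haveILetI false
set_option autoImplicit false

namespace Groth.Agent.Lib.Helper22.SmoothRank

universe u

open TensorProduct

section general

variable {S T K M N : Type*} [CommRing S] [CommRing T] [Algebra S T] [CommRing K] [Algebra S K]
  [Algebra T K] [IsScalarTower S T K] [AddCommGroup M] [Module S M] [AddCommGroup N] [Module T N]

/-- base change of an identification `T ⊗[S] M ≃ N` to a `T`-algebra `K`. -/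
noncomputable def tensorCongr (e : T ⊗[S] M ≃ₗ[T] N) : K ⊗[S] M ≃ₗ[K] K ⊗[T] N :=
  (AlgebraTensorModule.cancelBaseChange S T K K M).symm ≪≫ₗ
    AlgebraTensorModule.congr (LinearEquiv.refl K K) e

theorem tensorCongr_tmul (e : T ⊗[S] M ≃ₗ[T] N) (a : K) (m : M) :
    tensorCongr (K := K) e (a ⊗ₜ m) = a ⊗ₜ e (1 ⊗ₜ m) := rfl

end general

/-- `dim_K (K ⊗ M)` only depends on the kernel of `B → K`. -/
theorem finrank_tensor_field {B : Type u} [CommRing B] (M : Type u) [AddCommGroup M] [Module B M]
    (q : Ideal B) [q.IsPrime] (K : Type u) [Field K] [Algebra B K]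
    (hK : ∀ b, algebraMap B K b = 0 ↔ b ∈ q) :
    Module.finrank K (K ⊗[B] M) = Module.finrank q.ResidueField (q.ResidueField ⊗[B] M) := by
  let φ : q.ResidueField →+* K := Ideal.ResidueField.lift q (algebraMap B K)
    (fun b hb => (hK b).mpr hb)
    (fun b hb => by
      show IsUnit (algebraMap B K b)
      exact isUnit_iff_ne_zero.mpr (fun h => hb ((hK b).mp h)))
  letI : Algebra q.ResidueField K := φ.toAlgebra
  haveI : IsScalarTower B q.ResidueField K := IsScalarTower.of_algebraMap_eq (fun b => by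
    show algebraMap B K b = φ (algebraMap B q.ResidueField b)
    rw [Ideal.ResidueField.lift_algebraMap])
  have e : K ⊗[q.ResidueField] (q.ResidueField ⊗[B] M) ≃ₗ[K] K ⊗[B] M :=
    AlgebraTensorModule.cancelBaseChange B q.ResidueField K K M
  rw [← e.finrank_eq, Module.finrank_baseChange]

/-- choosing a spanning family of prescribed size inside a spanning set. -/
theorem exists_fin_span (K V : Type*) [Field K] [AddCommGroup V] [Module K V] [Module.Finite K V]
    (s : Set V) (hs : Submodule.span K s = ⊤) (hne : s.Nonempty) (n : ℕ)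
    (h : Module.finrank K V ≤ n) :
    ∃ f : Fin n → V, (∀ i, f i ∈ s) ∧ Submodule.span K (Set.range f) = ⊤ := by
  haveI : Module.Finite K (Submodule.span K s) := by rw [hs]; infer_instance
  obtain ⟨f, hf_mem, hf_span, -⟩ := Submodule.exists_fun_fin_finrank_span_eq K s
  have hn : Module.finrank K (Submodule.span K s) ≤ n := by rw [hs, finrank_top]; exact h
  obtain ⟨v0, hv0⟩ := hne
  refine ⟨fun i => if hi : (i : ℕ) < Module.finrank K (Submodule.span K s) then f ⟨i, hi⟩ else v0,
    ?_, ?_⟩
  · intro i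
    dsimp only
    split_ifs with hi
    exacts [hf_mem _, hv0]
  · rw [eq_top_iff]
    refine le_trans (le_of_eq (hs.symm.trans hf_span.symm)) ?_
    apply Submodule.span_mono
    rintro _ ⟨i, rfl⟩
    exact ⟨⟨i, lt_of_lt_of_le i.2 hn⟩, by simp [i.2]⟩

theorem finrank_le_of_gen {B : Type u} [CommRing B] (M : Type u) [AddCommGroup M] [Module B M]
    (q : Ideal B) [q.IsPrime] (d : ℕ) (t : B) (ht : t ∉ q) (m : Fin d → M)
    (h : ∀ y : M, t • y ∈ Submodule.span B (Set.range m)) :
    Module.finrank q.ResidueField (q.ResidueField ⊗[B] M) ≤ d := by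
  set K := q.ResidueField
  have key : ∀ z ∈ Submodule.span B (Set.range m),
      (1 : K) ⊗ₜ[B] z ∈ Submodule.span K (Set.range fun i => (1 : K) ⊗ₜ[B] m i) := by
    intro z hz
    induction hz using Submodule.span_induction with
    | mem z hz => obtain ⟨i, rfl⟩ := hz; exact Submodule.subset_span ⟨i, rfl⟩
    | zero => rw [TensorProduct.tmul_zero]; exact zero_mem _
    | add a b _ _ ha hb => rw [TensorProduct.tmul_add]; exact add_mem ha hb
    | smul c a _ ha =>
      rw [TensorProduct.tmul_smul, ← algebraMap_smul K c]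
      exact Submodule.smul_mem _ _ ha
  have hu : algebraMap B K t ≠ 0 := fun h0 => ht (Ideal.algebraMap_residueField_eq_zero.mp h0)
  have hspan : Submodule.span K (Set.range fun i => (1 : K) ⊗ₜ[B] m i) = ⊤ := by
    rw [eq_top_iff]
    rintro v -
    induction v using TensorProduct.induction_on with
    | zero => exact zero_mem _
    | add x y hx hy => exact add_mem hx hy
    | tmul a y =>
      have h2 : (1 : K) ⊗ₜ[B] y = (algebraMap B K t)⁻¹ • ((1 : K) ⊗ₜ[B] (t • y)) := by
        rw [TensorProduct.tmul_smul, ← algebraMap_smul K t, smul_smul, inv_mul_cancel₀ hu,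
          one_smul]
      have h3 : a ⊗ₜ[B] y = a • ((1 : K) ⊗ₜ[B] y) := by
        rw [TensorProduct.smul_tmul', smul_eq_mul, mul_one]
      rw [h3, h2]
      exact Submodule.smul_mem _ _ (Submodule.smul_mem _ _ (key _ (h y)))
  have := finrank_range_le_card (R := K) (fun i => (1 : K) ⊗ₜ[B] m i)
  rw [Set.finrank, hspan, finrank_top, Fintype.card_fin] at this
  exact this

theorem span_one_tmul (B K M : Type*) [CommRing B] [CommRing K] [Algebra B K] [AddCommGroup M]
    [Module B M] (s : Set M) (hs : Submodule.span B s = ⊤) :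
    Submodule.span K ((fun y : M => (1 : K) ⊗ₜ[B] y) '' s) = ⊤ := by
  have : Submodule.span K (TensorProduct.mk B K M 1 '' s) = ⊤ := by
    rw [← Submodule.baseChange_span, hs, Submodule.baseChange_top]
  exact this

theorem exists_gen_of_finrank_le {B : Type u} [CommRing B] (M : Type u) [AddCommGroup M]
    [Module B M] [Module.Finite B M] (q : Ideal B) [q.IsPrime] (d : ℕ)
    (h : Module.finrank q.ResidueField (q.ResidueField ⊗[B] M) ≤ d) :
    ∃ t : B, t ∉ q ∧ ∃ m : Fin d → M, ∀ y : M, t • y ∈ Submodule.span B (Set.range m) := by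
  set K := q.ResidueField
  have hs : Submodule.span K (Set.range fun y : M => (1 : K) ⊗ₜ[B] y) = ⊤ := by
    have := span_one_tmul B K M Set.univ Submodule.span_univ
    rwa [Set.image_univ] at this
  obtain ⟨f, hf_mem, hf_span⟩ := exists_fin_span K (K ⊗[B] M) _ hs ⟨_, ⟨0, rfl⟩⟩ d h
  choose m hm using hf_mem
  let N : Submodule B M := Submodule.span B (Set.range m)
  have hmN : ∀ i, m i ∈ N := fun i => Submodule.subset_span ⟨i, rfl⟩
  let L : K ⊗[B] M →ₗ[K] K ⊗[B] (M ⧸ N) := LinearMap.baseChange K N.mkQ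
  have hL : ∀ v : K ⊗[B] M, L v = 0 := by
    intro v
    have hv : v ∈ Submodule.span K (Set.range f) := by rw [hf_span]; trivial
    induction hv using Submodule.span_induction with
    | mem v hv =>
      obtain ⟨i, rfl⟩ := hv
      rw [← hm i]
      show (1 : K) ⊗ₜ[B] (N.mkQ (m i)) = 0
      rw [Submodule.mkQ_apply, (Submodule.Quotient.mk_eq_zero N).mpr (hmN i),
        TensorProduct.tmul_zero]
    | zero => exact map_zero _
    | add a b _ _ ha hb => rw [map_add, ha, hb, add_zero]
    | smul c a _ ha => rw [map_smul, ha, smul_zero]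
  have h0 : ∀ v : K ⊗[B] (M ⧸ N), v = 0 := by
    intro v
    induction v using TensorProduct.induction_on with
    | zero => rfl
    | add x y hx hy => rw [hx, hy, add_zero]
    | tmul a y' =>
      obtain ⟨y, rfl⟩ := N.mkQ_surjective y'
      exact hL (a ⊗ₜ[B] y)
  have hsupp : (⟨q, inferInstance⟩ : PrimeSpectrum B) ∉ Module.support B (M ⧸ N) := by
    rw [Module.mem_support_iff_nontrivial_residueField_tensorProduct]
    exact not_nontrivial_iff_subsingleton.mpr ⟨fun a b => (h0 a).trans (h0 b).symm⟩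
  rw [Module.mem_support_iff_of_finite] at hsupp
  obtain ⟨t, htann, htq⟩ := SetLike.not_le_iff_exists.mp hsupp
  refine ⟨t, htq, m, fun y => ?_⟩
  have := Module.mem_annihilator.mp htann (N.mkQ y)
  rw [← map_smul, Submodule.mkQ_apply, Submodule.Quotient.mk_eq_zero] at this
  exact this

section field

open Groth.Agent.Lib.Helper22 Groth.Agent.Lib.Helper12

theorem span_one_tmul_D (k S : Type*) [CommRing k] [CommRing S] [Algebra k S] (K : Type*)
    [CommRing K] [Algebra S K] :
    Submodule.span K (Set.range fun s : S => (1 : K) ⊗ₜ[S] KaehlerDifferential.D k S s) = ⊤ := by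
  have := span_one_tmul S K Ω[S⁄k] (Set.range (KaehlerDifferential.D k S))
    (KaehlerDifferential.span_range_derivation k S)
  rw [← Set.range_comp] at this
  exact this

/-- **S2063 (⟸)**: over a field, `dim Ω ⊗ κ(q) ≤ n ≤ local dimension` implies smooth at `q`. -/
theorem isSmoothAt_of_finrank_le (k S : Type u) [Field k] [CommRing S] [Algebra k S]
    [Algebra.FiniteType k S] (q : Ideal S) [hq : q.IsPrime] (n : ℕ)
    (hfin : Module.finrank q.ResidueField (q.ResidueField ⊗[S] Ω[S⁄k]) ≤ n)
    (hn : (n : WithBot ℕ∞) ≤ FlatMor.localDim (PrimeSpectrum S) ⟨q, hq⟩) :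
    Algebra.IsSmoothAt k q := by
  set K := q.ResidueField
  obtain ⟨f, hf_mem, hf_span⟩ := exists_fin_span K (K ⊗[S] Ω[S⁄k]) _ (span_one_tmul_D k S K)
    ⟨_, ⟨0, rfl⟩⟩ n hfin
  choose g hg using hf_mem
  letI algP : Algebra (MvPolynomial (Fin n) k) S := (MvPolynomial.aeval g).toRingHom.toAlgebra
  haveI : IsScalarTower k (MvPolynomial (Fin n) k) S :=
    IsScalarTower.of_algebraMap_eq (fun x => ((MvPolynomial.aeval g).commutes x).symm)
  have hX : ∀ i, algebraMap (MvPolynomial (Fin n) k) S (MvPolynomial.X i) = g i :=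
    fun i => MvPolynomial.aeval_X g i
  haveI : Algebra.FiniteType (MvPolynomial (Fin n) k) S :=
    Algebra.FiniteType.of_restrictScalars_finiteType k (MvPolynomial (Fin n) k) S
  let Sq := Localization.AtPrime q
  haveI : Algebra.FormallyEtale S Sq := Algebra.FormallyEtale.of_isLocalization q.primeCompl
  let e : K ⊗[S] Ω[S⁄k] ≃ₗ[K] K ⊗[Sq] Ω[Sq⁄k] :=
    tensorCongr (K := K) (KaehlerDifferential.tensorKaehlerEquivOfFormallyEtale k S Sq)
  have he : ∀ s : S, e ((1 : K) ⊗ₜ[S] KaehlerDifferential.D k S s) =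
      (1 : K) ⊗ₜ[Sq] KaehlerDifferential.D k Sq (algebraMap S Sq s) := by
    intro s
    show (1 : K) ⊗ₜ[Sq] (KaehlerDifferential.tensorKaehlerEquivOfFormallyEtale k S Sq
      ((1 : Sq) ⊗ₜ[S] KaehlerDifferential.D k S s)) = _
    rw [KaehlerDifferential.tensorKaehlerEquivOfFormallyEtale_apply,
      KaehlerDifferential.mapBaseChange_tmul, one_smul, KaehlerDifferential.map_D]
  have h2 : Submodule.span K (Set.range fun i : Fin n => (1 : K) ⊗ₜ[Sq]
      KaehlerDifferential.D k Sq
        (algebraMap (MvPolynomial (Fin n) k) Sq (MvPolynomial.X i))) = ⊤ := by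
    have h3 := congrArg (Submodule.map e.toLinearMap) hf_span
    rw [Submodule.map_top, LinearMap.range_eq_top.mpr e.surjective, Submodule.map_span,
      ← Set.range_comp] at h3
    rw [← h3]
    congr 2
    funext i
    show _ = e (f i)
    rw [← hg i, he, IsScalarTower.algebraMap_apply (MvPolynomial (Fin n) k) S Sq, hX]
  haveI : Algebra.IsUnramifiedAt (MvPolynomial (Fin n) k) q := by
    show Algebra.FormallyUnramified (MvPolynomial (Fin n) k) Sq
    rw [← EtaleDim.span_eq_top_iff_formallyUnramified k (Fin n) Sq]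
    rw [← IsLocalRing.map_tensorProduct_mk_eq_top, Submodule.map_span,
      ← Submodule.restrictScalars_span Sq K Ideal.Quotient.mk_surjective,
      Submodule.restrictScalars_eq_top_iff, ← Set.range_comp]
    exact h2
  have hE : Algebra.IsEtaleAt (MvPolynomial (Fin n) k) q :=
    EtaleDim.isEtaleAt_of_unramified k n S q hn
  show Algebra.FormallySmooth k Sq
  haveI : Algebra.FormallyEtale (MvPolynomial (Fin n) k) Sq := hE
  exact Algebra.FormallySmooth.comp k (MvPolynomial (Fin n) k) Sq

/-- **S2063 (⟹)**: over a field, at a smooth point the local dimension is `dim Ω ⊗ κ(q)`. -/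
theorem localDim_eq_finrank_of_isSmoothAt (k S : Type u) [Field k] [CommRing S] [Algebra k S]
    [Algebra.FiniteType k S] (q : Ideal S) [hq : q.IsPrime] [Algebra.IsSmoothAt k q] :
    FlatMor.localDim (PrimeSpectrum S) ⟨q, hq⟩ =
      ((Module.finrank q.ResidueField (q.ResidueField ⊗[S] Ω[S⁄k]) : ℕ) : WithBot ℕ∞) := by
  haveI : Algebra.FinitePresentation k S := Algebra.FinitePresentation.of_finiteType.mp inferInstance
  obtain ⟨f, hfq, hss⟩ := Algebra.IsSmoothAt.exists_notMem_isStandardSmooth k q
  let T := Localization.Away f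
  obtain ⟨n, hn⟩ : ∃ n, Algebra.IsStandardSmoothOfRelativeDimension n k T := by
    obtain ⟨ι, σ, h1, h2, ⟨P⟩⟩ := hss
    exact ⟨P.dimension, ⟨ι, σ, h1, h2, P, rfl⟩⟩
  haveI := hn
  have hdisj : Disjoint ((Submonoid.powers f : Submonoid S) : Set S) (q : Set S) := by
    rw [Set.disjoint_left]
    rintro _ ⟨m, rfl⟩ hm
    exact hfq (hq.mem_of_pow_mem m hm)
  let Q : Ideal T := q.map (algebraMap S T)
  haveI hQ : Q.IsPrime :=
    IsLocalization.isPrime_of_isPrime_disjoint (Submonoid.powers f) T q hq hdisj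
  have hQc : Q.comap (algebraMap S T) = q :=
    IsLocalization.under_map_of_isPrime_disjoint (Submonoid.powers f) T hq hdisj
  have h1 := SmoothRelDim.height_add_coheight_of_isStandardSmooth k n T ⟨Q, hQ⟩
  have h2 := DimFT2.localDim_primeSpectrum k T ⟨Q, hQ⟩
  have h3 : FlatMor.localDim (PrimeSpectrum T) ⟨Q, hQ⟩ =
      FlatMor.localDim (PrimeSpectrum S) ⟨q, hq⟩ := by
    have := EtaleDim.localDim_eq_of_isOpenEmbedding (PrimeSpectrum.comap (algebraMap S T))
      (PrimeSpectrum.localization_away_isOpenEmbedding T f) ⟨Q, hQ⟩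
    rw [this]
    congr 1
    exact PrimeSpectrum.ext hQc
  set K := q.ResidueField
  have hu : IsUnit (algebraMap S K f) :=
    isUnit_iff_ne_zero.mpr (fun h0 => hfq (Ideal.algebraMap_residueField_eq_zero.mp h0))
  letI algTK : Algebra T K := (IsLocalization.Away.lift f hu).toAlgebra
  haveI : IsScalarTower S T K :=
    IsScalarTower.of_algebraMap_eq (fun s => (IsLocalization.Away.lift_eq f hu s).symm)
  haveI : Algebra.FormallyEtale S T :=
    Algebra.FormallyEtale.of_isLocalization (Submonoid.powers f)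
  let e : K ⊗[S] Ω[S⁄k] ≃ₗ[K] K ⊗[T] Ω[T⁄k] :=
    tensorCongr (K := K) (KaehlerDifferential.tensorKaehlerEquivOfFormallyEtale k S T)
  haveI : Algebra.IsStandardSmooth k T := hss
  haveI : Nontrivial T :=
    ⟨⟨0, 1, fun h01 => hQ.ne_top ((Ideal.eq_top_iff_one _).mpr (h01 ▸ Ideal.zero_mem _))⟩⟩
  have hrank : Module.finrank T Ω[T⁄k] = n :=
    Module.finrank_eq_of_rank_eq
      (Algebra.IsStandardSmoothOfRelativeDimension.rank_kaehlerDifferential n)
  have hfr : Module.finrank K (K ⊗[S] Ω[S⁄k]) = n := by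
    rw [e.finrank_eq, Module.finrank_baseChange, hrank]
  rw [hfr, ← h3, h2, h1]
  rfl

end field

end Groth.Agent.Lib.Helper22.SmoothRank
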