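import Mathlib
import Groth.Prelude.Def_Flat
import Groth.Agent.Lib.Helper22.SmoothRank
import Groth.Agent.Lib.Helper8.SmoothFiber

/-!
# Relative version: flat finitely presented algebras (helper22)

`isSmoothAt_iff_finrank_le` : for `A → B` finitely presented, flat at `q`, with the fibre through
`q` of local dimension `d` at `q`: `B` is smooth over `A` at `q` iff `dim Ω_{B/A} ⊗ κ(q) ≤ d`.
-/

set_option linter.style.haveILetI false
set_option autoImplicit false

namespace Groth.Agent.Lib.Helper22.SmoothRank

universe u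

open TensorProduct

attribute [local instance] Algebra.TensorProduct.rightAlgebra

theorem isSmoothAt_iff_finrank_le (A B : Type u) [CommRing A] [CommRing B] [Algebra A B]
    [Algebra.FinitePresentation A B] (p : Ideal A) [p.IsPrime]
    (Q : Ideal (p.Fiber B)) [hQ : Q.IsPrime]
    [Module.Flat A (Localization.AtPrime (Q.comap Algebra.TensorProduct.includeRight))] (d : ℕ)
    (hdim : FlatMor.localDim (PrimeSpectrum (p.Fiber B)) ⟨Q, hQ⟩ = (d : WithBot ℕ∞)) :
    Algebra.IsSmoothAt A (Q.comap Algebra.TensorProduct.includeRight) ↔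
      Module.finrank (Q.comap Algebra.TensorProduct.includeRight).ResidueField
        ((Q.comap Algebra.TensorProduct.includeRight).ResidueField ⊗[B] Ω[B⁄A]) ≤ d := by
  haveI : IsScalarTower B (p.Fiber B) Q.ResidueField := inferInstance
  have hK : ∀ b, algebraMap B Q.ResidueField b = 0 ↔
      b ∈ Q.comap Algebra.TensorProduct.includeRight := by
    intro b
    rw [IsScalarTower.algebraMap_apply B (p.Fiber B) Q.ResidueField,
      Ideal.algebraMap_residueField_eq_zero]
    rfl
  have h1 := finrank_tensor_field Ω[B⁄A] (Q.comap Algebra.TensorProduct.includeRight)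
    Q.ResidueField hK
  let e0 : (p.Fiber B) ⊗[B] Ω[B⁄A] ≃ₗ[p.Fiber B] Ω[p.Fiber B⁄p.ResidueField] :=
    KaehlerDifferential.tensorKaehlerEquiv A p.ResidueField B (p.Fiber B)
  let e : Q.ResidueField ⊗[B] Ω[B⁄A] ≃ₗ[Q.ResidueField]
      Q.ResidueField ⊗[p.Fiber B] Ω[p.Fiber B⁄p.ResidueField] :=
    tensorCongr (K := Q.ResidueField) e0
  have h2 : Module.finrank Q.ResidueField
      (Q.ResidueField ⊗[p.Fiber B] Ω[p.Fiber B⁄p.ResidueField]) =
      Module.finrank (Q.comap Algebra.TensorProduct.includeRight).ResidueField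
        ((Q.comap Algebra.TensorProduct.includeRight).ResidueField ⊗[B] Ω[B⁄A]) := by
    rw [← e.finrank_eq, h1]
  rw [← h2]
  haveI : Algebra.FiniteType p.ResidueField (p.Fiber B) := inferInstance
  constructor
  · intro h
    haveI : Algebra.IsSmoothAt A (Q.comap Algebra.TensorProduct.includeRight) := h
    haveI : Q.LiesOver (Q.comap Algebra.TensorProduct.includeRight) := ⟨rfl⟩
    haveI : Algebra.IsSmoothAt p.ResidueField Q :=
      Groth.Agent.Lib.Helper8.SmoothFiber.isSmoothAt_baseChange (R := A) (T := p.ResidueField)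
        (A := B) (B := p.Fiber B) (Q.comap Algebra.TensorProduct.includeRight) Q
    have := localDim_eq_finrank_of_isSmoothAt p.ResidueField (p.Fiber B) Q
    rw [hdim] at this
    exact_mod_cast this.ge
  · intro h
    haveI : Algebra.IsSmoothAt p.ResidueField Q :=
      isSmoothAt_of_finrank_le p.ResidueField (p.Fiber B) Q d h hdim.ge
    exact Groth.Agent.Lib.Helper8.SmoothFiber.isSmoothAt_of_fiber A B p Q

end Groth.Agent.Lib.Helper22.SmoothRank
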