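import Mathlib
import Groth.Agent.S5005
import Groth.Agent.Lib.Helper1.DerFin
import Groth.Agent.Lib.Helper1.DerSmooth
import Groth.Agent.Lib.Helper17.FittSheaf
import Groth.Agent.Lib.Helper18.FittLib4
import Groth.Agent.Lib.Helper12.ChevalleyCor
import Groth.Agent.Lib.Helper12.Equidim
import Groth.Agent.Lib.Helper24.FibreLocDim
import Groth.Agent.Lib.Helper22.SmoothRank2

/-!
# The `d`-th Fitting ideal of `Ω_{X/S}` cuts out the non-smooth locus (helper22)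

`mem_support_fitt_iff` : for `f` flat, locally of finite presentation, quasi-separated, and `x` a
point at which the fibre has local dimension `d`: `x ∈ V(Fit_d Ω_{X/S})` iff `f` is not smooth
at `x`.
-/

set_option linter.style.haveILetI false
set_option autoImplicit false
set_option maxHeartbeats 400000

universe u

open CategoryTheory AlgebraicGeometry TopologicalSpace TensorProduct

namespace Groth.Agent.Lib.Helper22.SmoothRank

open Groth.Agent.Lib.Helper1 Groth.Agent.Lib.Helper12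

/-- variant of `isSmoothAt_iff_finrank_le` with the prime of `B` as a variable. -/
theorem isSmoothAt_iff_finrank_le' (A B : Type u) [CommRing A] [CommRing B] [Algebra A B]
    [Algebra.FinitePresentation A B] (p : Ideal A) [p.IsPrime]
    (Q : Ideal (p.Fiber B)) [hQ : Q.IsPrime] (q : Ideal B) [hq : q.IsPrime]
    (hQq : Q.comap (Algebra.TensorProduct.includeRight : B →ₐ[A] p.Fiber B) = q)
    [Module.Flat A (Localization.AtPrime q)] (d : ℕ)
    (hdim : FlatMor.localDim (PrimeSpectrum (p.Fiber B)) ⟨Q, hQ⟩ = (d : WithBot ℕ∞)) :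
    Algebra.IsSmoothAt A q ↔
      Module.finrank q.ResidueField (q.ResidueField ⊗[B] Ω[B⁄A]) ≤ d := by
  subst hQq
  exact isSmoothAt_iff_finrank_le A B p Q d hdim

theorem mem_support_fitt_iff {X S : Scheme.{u}} (f : X ⟶ S) [Flat f]
    [LocallyOfFinitePresentation f] [QuasiSeparated f] (d : ℕ) (x : X)
    (hdim : FlatMor.fibreDimAt f x = (d : WithBot ℕ∞)) :
    x ∈ (Fitt.sheafIdeal (Omega.sheaf f) d).support ↔ x ∉ f.smoothLocus := by
  have hd := Groth.Agent.S5005.result f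
  haveI : (Omega.sheaf f).IsQuasicoherent := DerSmooth.isQuasicoherent f _ hd
  haveI : (Omega.sheaf f).IsFiniteType := DerFin.isFT f _ hd
  obtain ⟨_, ⟨V₀, hV₀, rfl⟩, hxV₀, -⟩ :=
    S.isBasis_affineOpens.exists_subset_of_mem_open (Set.mem_univ (f x)) isOpen_univ
  obtain ⟨_, ⟨U₀, hU₀, rfl⟩, hxU₀, hUV⟩ :=
    X.isBasis_affineOpens.exists_subset_of_mem_open hxV₀ (V₀.2.preimage f.continuous)
  letI alg : Algebra Γ(S, V₀) Γ(X, U₀) := (f.appLE V₀ U₀ hUV).hom.toAlgebra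
  haveI : Algebra.FinitePresentation Γ(S, V₀) Γ(X, U₀) := f.finitePresentation_appLE hV₀ hU₀ hUV
  haveI hfin : Module.Finite Γ(X, U₀) Γ(Omega.sheaf f, U₀) :=
    DerFin.finite_sections f _ hU₀ hV₀ hUV hd
  haveI hflat : Module.Flat Γ(S, V₀) Γ(X, U₀) := f.flat_appLE hV₀ hU₀ hUV
  obtain ⟨qx, hqx⟩ : ∃ qx : PrimeSpectrum Γ(X, U₀), qx = hU₀.primeIdealOf ⟨x, hxU₀⟩ := ⟨_, rfl⟩
  rw [Groth.Agent.Lib.Helper17.FittSheaf.mem_support_iff (Omega.sheaf f) d hU₀ x hxU₀,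
    Scheme.Hom.mem_smoothLocus, formallySmooth_stalkMap_iff V₀ hV₀ U₀ hU₀ hUV hxU₀, ← hqx,
    ← not_iff_not, not_not, Groth.Agent.Lib.Helper18.FittLib.not_fitt_le_prime_iff]
  -- fibre data
  have hdimq : TopFibreDim.topFibreDim (PrimeSpectrum.comap (algebraMap Γ(S, V₀) Γ(X, U₀))) qx =
      (d : WithBot ℕ∞) := by
    have := ChevalleyCor.fibreDimAt_fromSpec f hU₀ hV₀ hUV (hU₀.primeIdealOf ⟨x, hxU₀⟩)
    rw [hU₀.fromSpec_primeIdealOf] at this
    rw [hqx, ← hdim]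
    exact this.symm
  rw [Groth.Agent.Lib.Helper24.FibreLocDim.topFibreDim_eq] at hdimq
  have hQq := congrArg PrimeSpectrum.asIdeal (Chevalley.comap_includeRight_apply
    (PrimeSpectrum.comap (algebraMap Γ(S, V₀) Γ(X, U₀)) qx) qx rfl)
  haveI : Module.Flat Γ(S, V₀) (Localization.AtPrime qx.asIdeal) :=
    Module.Flat.trans Γ(S, V₀) Γ(X, U₀) (Localization.AtPrime qx.asIdeal)
  have key := isSmoothAt_iff_finrank_le' Γ(S, V₀) Γ(X, U₀)
    (PrimeSpectrum.comap (algebraMap Γ(S, V₀) Γ(X, U₀)) qx).asIdeal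
    (PrimeSpectrum.preimageHomeomorphFiber Γ(S, V₀) Γ(X, U₀)
      (PrimeSpectrum.comap (algebraMap Γ(S, V₀) Γ(X, U₀)) qx) ⟨qx, rfl⟩).asIdeal qx.asIdeal hQq d hdimq
  show _ ↔ Algebra.IsSmoothAt Γ(S, V₀) qx.asIdeal
  rw [key]
  -- transport along `Ω[B⁄A] ≃ Γ(Ω, U₀)`
  let τ : Ω[Γ(X, U₀)⁄Γ(S, V₀)] ≃ₗ[Γ(X, U₀)] Γ(Omega.sheaf f, U₀) :=
    DerFin.sectEquiv f _ hU₀ hV₀ hUV hd
  let τ' : qx.asIdeal.ResidueField ⊗[Γ(X, U₀)] Ω[Γ(X, U₀)⁄Γ(S, V₀)] ≃ₗ[qx.asIdeal.ResidueField]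
      qx.asIdeal.ResidueField ⊗[Γ(X, U₀)] Γ(Omega.sheaf f, U₀) :=
    TensorProduct.AlgebraTensorModule.congr (LinearEquiv.refl _ _) τ
  rw [τ'.finrank_eq]
  constructor
  · rintro ⟨t, ht, m, hm⟩
    exact finrank_le_of_gen Γ(Omega.sheaf f, U₀) qx.asIdeal d t ht m hm
  · intro h
    exact exists_gen_of_finrank_le Γ(Omega.sheaf f, U₀) qx.asIdeal d h

end Groth.Agent.Lib.Helper22.SmoothRank
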