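import Mathlib
import Groth.Agent.Lib.Helper22.SmoothRank3
import Groth.Agent.Lib.Helper6.StdSmoothNhd

/-!
# Fitting ideals of `Ω_{X/S}` and fibre ranks (helper22)

* `not_mem_support_fitt_iff`: for `f` locally of finite presentation and quasi-separated,
  `x ∉ V(Fit_d Ω_{X/S})` iff `dim_{κ(x)} κ(x) ⊗ Ω[B⁄A] ≤ d` on any affine chart.
* `isStandardSmoothOfRelativeDimension_mvPolynomial`: polynomial rings are standard smooth.
* `exists_surj_stdSmooth`: variant of helper6's `StdSmoothNhd.main` with `≤`.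
-/

set_option linter.style.haveILetI false
set_option autoImplicit false
set_option maxHeartbeats 400000

universe u

open CategoryTheory AlgebraicGeometry TopologicalSpace TensorProduct

namespace Groth.Agent.Lib.Helper22.FittRank

open Groth.Agent.Lib.Helper1 Groth.Agent.Lib.Helper22.SmoothRank

theorem not_mem_support_fitt_iff {X S : Scheme.{u}} (f : X ⟶ S)
    [LocallyOfFinitePresentation f] [QuasiSeparated f] (d : ℕ) (x : X)
    {U₀ : X.Opens} (hU₀ : IsAffineOpen U₀) {V₀ : S.Opens} (hV₀ : IsAffineOpen V₀)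
    (hUV : U₀ ≤ f ⁻¹ᵁ V₀) (hxU₀ : x ∈ U₀) :
    letI : Algebra Γ(S, V₀) Γ(X, U₀) := (f.appLE V₀ U₀ hUV).hom.toAlgebra
    x ∉ (Fitt.sheafIdeal (Omega.sheaf f) d).support ↔
      Module.finrank (hU₀.primeIdealOf ⟨x, hxU₀⟩).asIdeal.ResidueField
        ((hU₀.primeIdealOf ⟨x, hxU₀⟩).asIdeal.ResidueField ⊗[Γ(X, U₀)]
          Ω[Γ(X, U₀)⁄Γ(S, V₀)]) ≤ d := by
  have hd := Groth.Agent.S5005.result f
  haveI : (Omega.sheaf f).IsQuasicoherent := DerSmooth.isQuasicoherent f _ hd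
  haveI : (Omega.sheaf f).IsFiniteType := DerFin.isFT f _ hd
  letI alg : Algebra Γ(S, V₀) Γ(X, U₀) := (f.appLE V₀ U₀ hUV).hom.toAlgebra
  haveI : Algebra.FinitePresentation Γ(S, V₀) Γ(X, U₀) := f.finitePresentation_appLE hV₀ hU₀ hUV
  haveI hfin : Module.Finite Γ(X, U₀) Γ(Omega.sheaf f, U₀) :=
    DerFin.finite_sections f _ hU₀ hV₀ hUV hd
  obtain ⟨qx, hqx⟩ : ∃ qx : PrimeSpectrum Γ(X, U₀), qx = hU₀.primeIdealOf ⟨x, hxU₀⟩ := ⟨_, rfl⟩
  rw [Groth.Agent.Lib.Helper17.FittSheaf.mem_support_iff (Omega.sheaf f) d hU₀ x hxU₀, ← hqx,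
    Groth.Agent.Lib.Helper18.FittLib.not_fitt_le_prime_iff]
  let τ : Ω[Γ(X, U₀)⁄Γ(S, V₀)] ≃ₗ[Γ(X, U₀)] Γ(Omega.sheaf f, U₀) :=
    DerFin.sectEquiv f _ hU₀ hV₀ hUV hd
  let τ' : qx.asIdeal.ResidueField ⊗[Γ(X, U₀)] Ω[Γ(X, U₀)⁄Γ(S, V₀)] ≃ₗ[qx.asIdeal.ResidueField]
      qx.asIdeal.ResidueField ⊗[Γ(X, U₀)] Γ(Omega.sheaf f, U₀) :=
    TensorProduct.AlgebraTensorModule.congr (LinearEquiv.refl _ _) τ
  rw [τ'.finrank_eq]
  constructor
  · rintro ⟨t, ht, m, hm⟩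
    exact finrank_le_of_gen Γ(Omega.sheaf f, U₀) qx.asIdeal d t ht m hm
  · intro h
    exact exists_gen_of_finrank_le Γ(Omega.sheaf f, U₀) qx.asIdeal d h

/-- polynomial rings are standard smooth of relative dimension the number of variables. -/
theorem isStandardSmoothOfRelativeDimension_mvPolynomial (R : Type u) [CommRing R] (n : ℕ) :
    Algebra.IsStandardSmoothOfRelativeDimension n R (MvPolynomial (Fin n) R) := by
  classical
  let v : Fin 0 → MvPolynomial (Fin n) R := Fin.elim0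
  let a : Fin 0 → Fin n := Fin.elim0
  have ha : Function.Injective a := fun i => Fin.elim0 i
  let P₀ : Algebra.PreSubmersivePresentation R
      (MvPolynomial (Fin n) R ⧸ Ideal.span (Set.range v)) (Fin n) (Fin 0) :=
    Algebra.PreSubmersivePresentation.naive (v := v) a ha
  let P : Algebra.SubmersivePresentation R
      (MvPolynomial (Fin n) R ⧸ Ideal.span (Set.range v)) (Fin n) (Fin 0) :=
    { toPreSubmersivePresentation := P₀
      jacobian_isUnit := by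
        rw [Algebra.PreSubmersivePresentation.jacobian_eq_jacobiMatrix_det,
          Matrix.det_isEmpty, map_one]
        exact isUnit_one }
  have hdim : P.dimension = n := by
    show Nat.card (Fin n) - Nat.card (Fin 0) = n
    simp
  haveI := P.isStandardSmoothOfRelativeDimension hdim
  have hbot : Ideal.span (Set.range v) = ⊥ := by
    rw [Set.range_eq_empty, Ideal.span_empty]
  let e : (MvPolynomial (Fin n) R ⧸ Ideal.span (Set.range v)) ≃ₐ[R] MvPolynomial (Fin n) R :=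
    (Ideal.quotientEquivAlgOfEq R hbot).trans (AlgEquiv.quotientBot R _)
  exact Algebra.IsStandardSmoothOfRelativeDimension.of_algEquiv n e

theorem exists_surj_stdSmooth (A B : Type u) [CommRing A] [CommRing B] [Algebra A B]
    [Algebra.FiniteType A B] (q : Ideal B) [q.IsPrime] (p : ℕ)
    (hr : Module.finrank q.ResidueField (q.ResidueField ⊗[B] Ω[B⁄A]) ≤ p) :
    ∃ g : B, g ∉ q ∧ ∃ (D : Type u) (_ : CommRing D) (_ : Algebra A D),
      Algebra.IsStandardSmoothOfRelativeDimension p A D ∧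
        ∃ φ : D →ₐ[A] Localization.Away g, Function.Surjective φ := by
  obtain ⟨r, hrr⟩ : ∃ r, Module.finrank q.ResidueField (q.ResidueField ⊗[B] Ω[B⁄A]) = r :=
    ⟨_, rfl⟩
  rw [hrr] at hr
  obtain ⟨g, hg, D, _, _, hD, φ, hφ⟩ := Groth.Agent.Lib.Helper6.StdSmoothNhd.main A B q r hrr
  refine ⟨g, hg, MvPolynomial (Fin (p - r)) D, inferInstance, inferInstance, ?_, ?_⟩
  · haveI := hD
    haveI := isStandardSmoothOfRelativeDimension_mvPolynomial D (p - r)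
    have h := Algebra.IsStandardSmoothOfRelativeDimension.trans (n := r) (m := p - r) A D
      (MvPolynomial (Fin (p - r)) D)
    have hp : p - r + r = p := by omega
    rwa [hp] at h
  · letI : Algebra D (Localization.Away g) := φ.toRingHom.toAlgebra
    haveI : IsScalarTower A D (Localization.Away g) :=
      IsScalarTower.of_algebraMap_eq (fun a => (φ.commutes a).symm)
    refine ⟨(MvPolynomial.aeval (R := D) (fun _ => (0 : Localization.Away g))).restrictScalars A,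
      ?_⟩
    intro b
    obtain ⟨d, rfl⟩ := hφ b
    refine ⟨MvPolynomial.C d, ?_⟩
    show MvPolynomial.aeval (R := D) (fun _ => (0 : Localization.Away g)) (MvPolynomial.C d) = φ d
    rw [MvPolynomial.aeval_C]
    rfl


theorem mem_basicOpen_iff_notMem_primeIdealOf {X : Scheme.{u}} {U : X.Opens} (hU : IsAffineOpen U)
    (x : U) (a : Γ(X, U)) : (x : X) ∈ X.basicOpen a ↔ a ∉ (hU.primeIdealOf x).asIdeal := by
  have h1 : hU.fromSpec (hU.primeIdealOf x) = (x : X) := hU.fromSpec_primeIdealOf x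
  have h2 := hU.fromSpec_preimage_basicOpen a
  have h3 : hU.primeIdealOf x ∈ hU.fromSpec ⁻¹ᵁ X.basicOpen a ↔
      hU.primeIdealOf x ∈ PrimeSpectrum.basicOpen a := by rw [h2]; exact Iff.rfl
  rw [← h1]
  exact h3

/-- **S16253 (⟹)** -/
theorem exists_closedImmersion_of_notMem {X Y : Scheme.{u}} (f : X ⟶ Y)
    [LocallyOfFinitePresentation f] [QuasiSeparated f] (p : ℕ) (x : X)
    (hx : x ∉ (Fitt.sheafIdeal (Omega.sheaf f) p).support) :
    ∃ (U : X.Opens) (U' : Scheme.{u}) (i : (U : Scheme.{u}) ⟶ U') (g : U' ⟶ Y),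
      x ∈ U ∧ IsClosedImmersion i ∧ SmoothOfRelativeDimension p g ∧ i ≫ g = U.ι ≫ f := by
  obtain ⟨_, ⟨V₀, hV₀, rfl⟩, hxV₀, -⟩ :=
    Y.isBasis_affineOpens.exists_subset_of_mem_open (Set.mem_univ (f x)) isOpen_univ
  obtain ⟨_, ⟨U₀, hU₀, rfl⟩, hxU₀, hUV⟩ :=
    X.isBasis_affineOpens.exists_subset_of_mem_open hxV₀ (V₀.2.preimage f.continuous)
  letI alg : Algebra Γ(Y, V₀) Γ(X, U₀) := (f.appLE V₀ U₀ hUV).hom.toAlgebra
  haveI : Algebra.FinitePresentation Γ(Y, V₀) Γ(X, U₀) := f.finitePresentation_appLE hV₀ hU₀ hUV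
  have hfr := (not_mem_support_fitt_iff f p x hU₀ hV₀ hUV hxU₀).mp hx
  obtain ⟨g, hg, D, _, _, hD, φ, hφ⟩ := exists_surj_stdSmooth Γ(Y, V₀) Γ(X, U₀)
    (hU₀.primeIdealOf ⟨x, hxU₀⟩).asIdeal p hfr
  have hU : IsAffineOpen (X.basicOpen g) := hU₀.basicOpen g
  have hxU : x ∈ X.basicOpen g :=
    (mem_basicOpen_iff_notMem_primeIdealOf hU₀ ⟨x, hxU₀⟩ g).mpr hg
  haveI : IsLocalization.Away g Γ(X, X.basicOpen g) := hU₀.isLocalization_basicOpen g
  let e : Localization.Away g ≃ₐ[Γ(X, U₀)] Γ(X, X.basicOpen g) :=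
    IsLocalization.algEquiv (Submonoid.powers g) _ _
  let ψ : D →+* Γ(X, X.basicOpen g) := (e : Localization.Away g →+* Γ(X, X.basicOpen g)).comp
    (φ : D →+* Localization.Away g)
  have hψ : Function.Surjective ψ := e.surjective.comp hφ
  have hle : X.basicOpen g ≤ f ⁻¹ᵁ V₀ := le_trans (X.basicOpen_le g) hUV
  have hcomp : CommRingCat.ofHom (algebraMap Γ(Y, V₀) D) ≫ CommRingCat.ofHom ψ =
      f.appLE V₀ (X.basicOpen g) hle := by
    ext a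
    show e (φ (algebraMap Γ(Y, V₀) D a)) = _
    rw [φ.commutes, IsScalarTower.algebraMap_apply Γ(Y, V₀) Γ(X, U₀) (Localization.Away g),
      e.commutes]
    show (X.presheaf.map (homOfLE (X.basicOpen_le g)).op).hom ((f.appLE V₀ U₀ hUV).hom a) = _
    rw [← CommRingCat.comp_apply, Scheme.Hom.appLE_map]
  refine ⟨X.basicOpen g, Spec (CommRingCat.of D),
    hU.isoSpec.hom ≫ Spec.map (CommRingCat.ofHom ψ),
    Spec.map (CommRingCat.ofHom (algebraMap Γ(Y, V₀) D)) ≫ hV₀.fromSpec, hxU, ?_, ?_, ?_⟩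
  · haveI : IsClosedImmersion (Spec.map (CommRingCat.ofHom ψ)) :=
      IsClosedImmersion.spec_of_surjective _ hψ
    infer_instance
  · haveI : SmoothOfRelativeDimension p
        (Spec.map (CommRingCat.ofHom (algebraMap Γ(Y, V₀) D))) := by
      rw [HasRingHomProperty.Spec_iff (P := @SmoothOfRelativeDimension p)]
      exact RingHom.locally_of RingHom.isStandardSmoothOfRelativeDimension_respectsIso _
        ((RingHom.isStandardSmoothOfRelativeDimension_algebraMap p).mpr hD)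
    exact inferInstanceAs (SmoothOfRelativeDimension (p + 0) _)
  · rw [Category.assoc, ← Category.assoc (Spec.map _), ← Spec.map_comp, hcomp,
      IsAffineOpen.SpecMap_appLE_fromSpec f hV₀ hU hle, ← Category.assoc,
      IsAffineOpen.isoSpec_hom_fromSpec]


/-- **S16253 (⟸)** -/
theorem notMem_of_closedImmersion {X Y : Scheme.{u}} (f : X ⟶ Y)
    [LocallyOfFinitePresentation f] [QuasiSeparated f] (p : ℕ) (x : X)
    (U : X.Opens) (U' : Scheme.{u}) (i : (U : Scheme.{u}) ⟶ U') (g : U' ⟶ Y)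
    (hxU : x ∈ U) [IsClosedImmersion i] [SmoothOfRelativeDimension p g]
    (comm : i ≫ g = U.ι ≫ f) :
    x ∉ (Fitt.sheafIdeal (Omega.sheaf f) p).support := by
  classical
  obtain ⟨V₀, hV₀, W, hW, hzW, e, hstd⟩ :=
    SmoothOfRelativeDimension.exists_isStandardSmoothOfRelativeDimension (n := p) (f := g)
      (i ⟨x, hxU⟩)
  have hW' : IsAffineOpen (i ⁻¹ᵁ W) := hW.preimage i
  have hU₀ : IsAffineOpen (U.ι ''ᵁ (i ⁻¹ᵁ W)) := hW'.image_of_isOpenImmersion U.ι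
  have hxU₀ : x ∈ U.ι ''ᵁ (i ⁻¹ᵁ W) := ⟨⟨x, hxU⟩, hzW, rfl⟩
  have hfg : ∀ w : (U : Scheme.{u}), f (U.ι w) = g (i w) := by
    intro w
    rw [← Scheme.Hom.comp_apply, ← comm, Scheme.Hom.comp_apply]
  have hUV : U.ι ''ᵁ (i ⁻¹ᵁ W) ≤ f ⁻¹ᵁ V₀ := by
    rintro _ ⟨w, hw, rfl⟩
    show f (U.ι w) ∈ V₀
    rw [hfg w]
    exact e hw
  rw [not_mem_support_fitt_iff f p x hU₀ hV₀ hUV hxU₀]
  obtain ⟨qx, hqx⟩ : ∃ qx : PrimeSpectrum Γ(X, U.ι ''ᵁ (i ⁻¹ᵁ W)),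
    qx = hU₀.primeIdealOf ⟨x, hxU₀⟩ := ⟨_, rfl⟩
  rw [← hqx]
  letI algAB : Algebra Γ(Y, V₀) Γ(X, U.ι ''ᵁ (i ⁻¹ᵁ W)) := (f.appLE V₀ _ hUV).hom.toAlgebra
  letI algAP : Algebra Γ(Y, V₀) Γ(U', W) := (g.appLE V₀ W e).hom.toAlgebra
  let ρ : Γ(U', W) →+* Γ(X, U.ι ''ᵁ (i ⁻¹ᵁ W)) := (i.app W).hom
  have hρ : Function.Surjective ρ := Scheme.Hom.app_surjective i W hW
  letI algPB : Algebra Γ(U', W) Γ(X, U.ι ''ᵁ (i ⁻¹ᵁ W)) := ρ.toAlgebra
  have hcompat : f.appLE V₀ (U.ι ''ᵁ (i ⁻¹ᵁ W)) hUV = g.appLE V₀ W e ≫ i.app W := by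
    have key : ∀ (φ ψ : (U : Scheme.{u}) ⟶ Y) (h : φ = ψ) (h₁ : i ⁻¹ᵁ W ≤ φ ⁻¹ᵁ V₀)
        (h₂ : i ⁻¹ᵁ W ≤ ψ ⁻¹ᵁ V₀), φ.appLE V₀ (i ⁻¹ᵁ W) h₁ = ψ.appLE V₀ (i ⁻¹ᵁ W) h₂ := by
      intro φ ψ h h₁ h₂; subst h; rfl
    have e₂ : i ⁻¹ᵁ W ≤ U.ι ⁻¹ᵁ (U.ι ''ᵁ (i ⁻¹ᵁ W)) := fun w hw => ⟨w, hw, rfl⟩
    have h1 := Scheme.Hom.appLE_comp_appLE i g V₀ W (i ⁻¹ᵁ W) e le_rfl
    have h2 := Scheme.Hom.appLE_comp_appLE U.ι f V₀ (U.ι ''ᵁ (i ⁻¹ᵁ W)) (i ⁻¹ᵁ W) hUV e₂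
    rw [Scheme.Hom.appLE_eq_app] at h1
    rw [h1, key _ _ comm _ (e₂.trans ((Opens.map U.ι.base).map (homOfLE hUV)).le), ← h2,
      Scheme.Opens.ι_appLE]
    have hid : X.presheaf.map (homOfLE (x := U.ι ''ᵁ (i ⁻¹ᵁ W)) (y := U.ι ''ᵁ (i ⁻¹ᵁ W))
        (Set.image_subset_iff.mpr e₂)).op = 𝟙 _ := X.presheaf.map_id _
    rw [hid]
    exact (Category.comp_id _).symm
  haveI : IsScalarTower Γ(Y, V₀) Γ(U', W) Γ(X, U.ι ''ᵁ (i ⁻¹ᵁ W)) :=
    IsScalarTower.of_algebraMap_eq (fun a => by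
      show (f.appLE V₀ _ hUV).hom a = ρ ((g.appLE V₀ W e).hom a)
      rw [hcompat]; rfl)
  haveI hstd' : Algebra.IsStandardSmoothOfRelativeDimension p Γ(Y, V₀) Γ(U', W) := hstd
  haveI : Algebra.IsStandardSmooth Γ(Y, V₀) Γ(U', W) :=
    Algebra.IsStandardSmoothOfRelativeDimension.isStandardSmooth p
  haveI : Nontrivial Γ(X, U.ι ''ᵁ (i ⁻¹ᵁ W)) := qx.nontrivial
  haveI : Nontrivial Γ(U', W) := ρ.domain_nontrivial
  have hrank : Module.rank Γ(U', W) Ω[Γ(U', W)⁄Γ(Y, V₀)] = p :=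
    Algebra.IsStandardSmoothOfRelativeDimension.rank_kaehlerDifferential p
  have hfinrank : Module.finrank Γ(U', W) Ω[Γ(U', W)⁄Γ(Y, V₀)] = p :=
    Module.finrank_eq_of_rank_eq hrank
  let b : Module.Basis (Fin p) Γ(U', W) Ω[Γ(U', W)⁄Γ(Y, V₀)] :=
    Module.finBasisOfFinrankEq _ _ hfinrank
  let m : Fin p → Ω[Γ(X, U.ι ''ᵁ (i ⁻¹ᵁ W))⁄Γ(Y, V₀)] := fun j =>
    KaehlerDifferential.map Γ(Y, V₀) Γ(Y, V₀) Γ(U', W) Γ(X, U.ι ''ᵁ (i ⁻¹ᵁ W)) (b j)
  refine finrank_le_of_gen _ qx.asIdeal p 1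
    (fun h => qx.2.ne_top ((Ideal.eq_top_iff_one _).mpr h)) m ?_
  intro y
  rw [one_smul]
  obtain ⟨ω, rfl⟩ := KaehlerDifferential.map_surjective_of_surjective Γ(Y, V₀) Γ(Y, V₀) Γ(U', W)
    Γ(X, U.ι ''ᵁ (i ⁻¹ᵁ W)) hρ y
  have hω : ω ∈ Submodule.span Γ(U', W) (Set.range b) := by rw [b.span_eq]; trivial
  induction hω using Submodule.span_induction with
  | mem z hz => obtain ⟨j, rfl⟩ := hz; exact Submodule.subset_span ⟨j, rfl⟩
  | zero => rw [map_zero]; exact zero_mem _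
  | add a b' _ _ ha hb => rw [map_add]; exact add_mem ha hb
  | smul c a _ ha =>
    rw [map_smul, ← algebraMap_smul Γ(X, U.ι ''ᵁ (i ⁻¹ᵁ W)) c]
    exact Submodule.smul_mem _ _ ha

end Groth.Agent.Lib.Helper22.FittRank
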