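import Mathlib
import Groth.Agent.Lib.Helper26.NilNak

/-!
Algebraic core of "a closed subscheme of a flat closed subscheme with the same closed fibre is
everything" (for helper18's S12329).
-/

set_option autoImplicit false
universe u

namespace Groth.Agent.Lib.Helper22.FlatOverAlg

open Groth.Agent.Lib.Helper26

theorem ker_le_of_flat_of_nilpotent {A R N : Type u} [CommRing A] [CommRing R] [CommRing N]
    (a1 : A →+* R) (π : R →+* N) (hπ : Function.Surjective π) (hfl : (π.comp a1).Flat)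
    (𝔪 : Ideal A) (h𝔪 : IsNilpotent 𝔪) (J : Ideal R) (hJ : J ≤ RingHom.ker π)
    (hle : RingHom.ker π ≤ J ⊔ 𝔪.map a1) : RingHom.ker π ≤ J := by
  letI : Algebra A R := a1.toAlgebra
  letI : Algebra A N := (π.comp a1).toAlgebra
  haveI : Module.Flat A N := hfl
  let πA : R →ₐ[A] N := { π with commutes' := fun _ => rfl }
  let φ' : R ⧸ J →ₐ[A] N := Ideal.Quotient.liftₐ J πA (fun r hr => hJ hr)
  let φ : R ⧸ J →ₗ[A] N := φ'.toLinearMap
  have hφ : ∀ r : R, φ (Ideal.Quotient.mk J r) = π r := fun r => rfl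
  have hbij := NilNak.bijective_of_flat_of_nilpotent 𝔪 h𝔪 φ ?_ ?_
  · intro r hr
    have h1 : φ (Ideal.Quotient.mk J r) = φ 0 := by
      rw [hφ, map_zero]; exact hr
    have h2 := hbij.1 h1
    exact Ideal.Quotient.eq_zero_iff_mem.1 h2
  · intro y _
    obtain ⟨r, rfl⟩ := hπ y
    exact Submodule.mem_sup_left ⟨Ideal.Quotient.mk J r, hφ r⟩
  · intro z hz
    obtain ⟨r, rfl⟩ := Ideal.Quotient.mk_surjective z
    have hr : r ∈ RingHom.ker π := by
      rw [RingHom.mem_ker, ← hφ]; exact hz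
    obtain ⟨j, hj, n, hn, rfl⟩ := Submodule.mem_sup.1 (hle hr)
    rw [map_add, Ideal.Quotient.eq_zero_iff_mem.2 hj, zero_add]
    have hn' : n ∈ 𝔪 • (⊤ : Submodule A R) := by
      rw [Ideal.smul_top_eq_map]; exact hn
    have h3 : (Ideal.Quotient.mkₐ A J).toLinearMap n ∈
        (𝔪 • (⊤ : Submodule A R)).map (Ideal.Quotient.mkₐ A J).toLinearMap :=
      Submodule.mem_map_of_mem hn'
    rw [Submodule.map_smul''] at h3
    exact Submodule.smul_mono le_rfl le_top h3

end Groth.Agent.Lib.Helper22.FlatOverAlg
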