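import Mathlib
import Groth.Prelude.Def_ArtFun6
import Groth.Agent.Lib.Helper18.HullW
import Groth.Agent.Lib.Helper22.FlatOverAlg

/-!
(E2 for helper18's S12329) A closed subscheme of an `A`-flat closed subscheme of `X ×_k Spec A`
with the same closed fibre is everything.
-/

set_option autoImplicit false
universe u
open CategoryTheory CategoryTheory.Limits AlgebraicGeometry
open ArtFun ArtFun.Art

namespace Groth.Agent.Lib.Helper22.FlatOverEq

/-- For a closed immersion `c`, an ideal sheaf containing `ker c` is the pushforward of its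
pullback. -/
theorem map_comap_of_ker_le {X Y : Scheme.{u}} (c : X ⟶ Y) [IsClosedImmersion c]
    (K : Y.IdealSheafData) (hK : c.ker ≤ K) : (K.comap c).map c = K := by
  have hle : c.ker ≤ K.subschemeι.ker := by
    rw [Scheme.IdealSheafData.ker_subschemeι]; exact hK
  let l : K.subscheme ⟶ X := IsClosedImmersion.lift c K.subschemeι hle
  have hl : l ≫ c = K.subschemeι := IsClosedImmersion.lift_fac _ _ _
  haveI hiso : IsIso (pullback.snd c K.subschemeι) := by
    refine ⟨pullback.lift l (𝟙 _) (by rw [hl, Category.id_comp]), ?_, ?_⟩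
    · apply pullback.hom_ext
      · rw [Category.assoc, pullback.lift_fst, Category.id_comp, ← cancel_mono c, Category.assoc,
          hl, pullback.condition]
      · rw [Category.assoc, pullback.lift_snd, Category.comp_id, Category.id_comp]
    · rw [pullback.lift_snd]
  unfold Scheme.IdealSheafData.map
  rw [← Scheme.IdealSheafData.comapIso_hom_fst, Category.assoc, Scheme.Hom.ker_comp_of_isIso,
    pullback.condition, Scheme.Hom.ker_comp_of_isIso, Scheme.IdealSheafData.ker_subschemeι]

variable {k : Type u} [Field k] {X : Scheme.{u}} (x : X ⟶ specPt k)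

instance isClosedImmersion_XAincl (A : Art k k) : IsClosedImmersion (XAincl x A) := by
  haveI : IsClosedImmersion (specRes A) :=
    IsClosedImmersion.spec_of_surjective _ A.res_surjective
  exact MorphismProperty.of_isPullback (P := @IsClosedImmersion) (isPullback_XAincl x A).flip
    inferInstance

lemma isNilpotent_ker_res (A : Art k k) : IsNilpotent (RingHom.ker A.res.toRingHom) := by
  obtain ⟨n, hn⟩ := Groth.Agent.Lib.Helper18.DefLam.isNilpotent_max A
  refine ⟨n, ?_⟩
  have hle : RingHom.ker A.res.toRingHom ≤ IsLocalRing.maximalIdeal A :=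
    IsLocalRing.le_maximalIdeal (RingHom.ker_ne_top _)
  exact le_bot_iff.mp ((Ideal.pow_right_mono hle n).trans hn.le)

/-- sections of `ker (XAincl)` over an affine open are generated by the maximal ideal of `A`. -/
lemma ker_XAincl_ideal (A : Art k k) (U : (XA x A).affineOpens) :
    (XAincl x A).ker.ideal U = (RingHom.ker A.res.toRingHom).map
      ((Scheme.ΓSpecIso (CommRingCat.of A)).inv ≫ (XApr x A).appLE ⊤ U.1 le_top).hom := by
  have hP := Groth.Agent.Lib.Helper18.HullR.sect' (CommRingCat.ofHom A.res.toRingHom)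
    (isPullback_XAincl x A) U.2 ((XAincl x A) ⁻¹ᵁ U.1) rfl
  have h2 := Groth.Agent.Lib.Helper18.HullB.surj_ker_of_isPushout A.res.toRingHom A.res_surjective
    ((Scheme.ΓSpecIso (CommRingCat.of A)).inv ≫ (XApr x A).appLE ⊤ U.1 le_top).hom
    ((Scheme.ΓSpecIso (CommRingCat.of k)).inv ≫ x.appLE ⊤ ((XAincl x A) ⁻¹ᵁ U.1) le_top).hom
    ((XAincl x A).appLE U.1 ((XAincl x A) ⁻¹ᵁ U.1) le_rfl).hom hP
  rw [Scheme.Hom.ker_apply, Scheme.Hom.app_eq_appLE]
  exact h2.2

theorem eq_of_le_of_flatOver {A : Art k k}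
    (J I : (XA x A).IdealSheafData) (hJI : J ≤ I) (hfl : FlatOver X x A I)
    (hfib : J.comap (XAincl x A) = I.comap (XAincl x A)) : J = I := by
  refine le_antisymm hJI ?_
  -- step 1: `I ≤ J ⊔ ker c`
  have hK : (XAincl x A).ker ≤ J ⊔ (XAincl x A).ker := le_sup_right
  have h1 : I ≤ J ⊔ (XAincl x A).ker := by
    have hc : (J ⊔ (XAincl x A).ker).comap (XAincl x A) = J.comap (XAincl x A) := by
      rw [Scheme.IdealSheafData.comap_sup]
      have h0 : (XAincl x A).ker.comap (XAincl x A) ≤ ⊥ := by
        rw [← Scheme.IdealSheafData.le_map_iff_comap_le, Scheme.IdealSheafData.map_bot]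
      rw [le_bot_iff.mp h0, sup_bot_eq]
    calc I ≤ (I.comap (XAincl x A)).map (XAincl x A) := Scheme.IdealSheafData.le_map_comap _ _
      _ = ((J ⊔ (XAincl x A).ker).comap (XAincl x A)).map (XAincl x A) := by rw [hc, hfib]
      _ = J ⊔ (XAincl x A).ker := map_comap_of_ker_le _ _ hK
  -- step 2: affine-locally
  rw [Scheme.IdealSheafData.le_def]
  intro U
  haveI : Flat (I.subschemeι ≫ XApr x A) := hfl
  have hV : IsAffineOpen (I.subschemeι ⁻¹ᵁ U.1) := U.2.preimage I.subschemeι
  have hflat := Groth.Agent.Lib.Helper18.HullR.flat_alg (I.subschemeι ≫ XApr x A) hV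
  have hcomp : (Scheme.ΓSpecIso (CommRingCat.of A)).inv ≫
      (I.subschemeι ≫ XApr x A).appLE ⊤ (I.subschemeι ⁻¹ᵁ U.1) le_top =
      ((Scheme.ΓSpecIso (CommRingCat.of A)).inv ≫ (XApr x A).appLE ⊤ U.1 le_top) ≫
        I.subschemeι.app U.1 := by
    rw [Scheme.Hom.app_eq_appLE, Category.assoc, Scheme.Hom.appLE_comp_appLE]
  rw [hcomp] at hflat
  have hker : RingHom.ker (I.subschemeι.app U.1).hom = I.ideal U := I.ker_subschemeι_app U
  have key := Groth.Agent.Lib.Helper22.FlatOverAlg.ker_le_of_flat_of_nilpotent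
    ((Scheme.ΓSpecIso (CommRingCat.of A)).inv ≫ (XApr x A).appLE ⊤ U.1 le_top).hom
    (I.subschemeι.app U.1).hom (I.subschemeι_app_surjective U) hflat
    (RingHom.ker A.res.toRingHom) (isNilpotent_ker_res A) (J.ideal U)
    (by rw [hker]; exact (Scheme.IdealSheafData.le_def.mp hJI) U)
    (by
      rw [hker, ← ker_XAincl_ideal x A U]
      exact (Scheme.IdealSheafData.le_def.mp h1) U)
  rw [hker] at key
  exact key

end Groth.Agent.Lib.Helper22.FlatOverEq
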