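import Mathlib

/-!
# Helper22: finite morphisms with free direct image of the structure sheaf (part A)

An abstract pushout criterion for commutative rings from "coordinates", and the
coordinate maps attached to an isomorphism `f_* O_F ≅ ∐_J O_P`.
-/

set_option autoImplicit false
universe u

open CategoryTheory CategoryTheory.Limits AlgebraicGeometry TensorProduct

namespace Groth.Agent.Lib.Helper22.FreeFin

theorem isPushout_of_coords {k R A B : Type u} [CommRing k] [CommRing R] [CommRing A] [CommRing B]
    (φ : k →+* R) (ψ : k →+* A) (σ : R →+* B) (τ : A →+* B) (hc : σ.comp φ = τ.comp ψ)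
    {J : Type*} [Fintype J] (a : J → A) (bA : J → A → k) (bB : J → B → R)
    (hadd : ∀ j x y, bB j (x + y) = bB j x + bB j y)
    (hsmul : ∀ j r x, bB j (σ r * x) = r * bB j x)
    (H1 : ∀ x : A, x = ∑ j, ψ (bA j x) * a j)
    (H2 : ∀ x : B, x = ∑ j, σ (bB j x) * τ (a j))
    (H3 : ∀ j (x : A), bB j (τ x) = φ (bA j x)) :
    IsPushout (CommRingCat.ofHom φ) (CommRingCat.ofHom ψ) (CommRingCat.ofHom σ)
      (CommRingCat.ofHom τ) := by
  letI : Algebra k R := φ.toAlgebra
  letI : Algebra k A := ψ.toAlgebra
  letI : Algebra R B := σ.toAlgebra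
  letI : Algebra A B := τ.toAlgebra
  letI : Algebra k B := (σ.comp φ).toAlgebra
  haveI : IsScalarTower k R B := IsScalarTower.of_algebraMap_eq' rfl
  haveI : IsScalarTower k A B := IsScalarTower.of_algebraMap_eq' hc
  have hzero : ∀ j, bB j 0 = 0 := by
    intro j
    have := hadd j 0 0
    rw [add_zero] at this
    exact left_eq_add.mp this
  haveI : Algebra.IsPushout k R A B := by
    constructor
    show Function.Bijective _
    set L := TensorProduct.lift (((Algebra.linearMap R <| Module.End R (A →ₗ[k] B)).flip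
      (IsScalarTower.toAlgHom k A B).toLinearMap).restrictScalars k) with hL
    have hLt : ∀ r x, L (r ⊗ₜ x) = σ r * τ x := by
      intro r x
      simp only [hL, TensorProduct.lift.tmul]
      simp [Algebra.smul_def]
      rfl
    let Ψ : B → R ⊗[k] A := fun x => ∑ j, bB j x ⊗ₜ[k] a j
    have hΨL : ∀ t, Ψ (L t) = t := by
      intro t
      induction t using TensorProduct.induction_on with
      | zero => simp [Ψ, hzero]
      | tmul r x =>
        rw [hLt]
        simp only [Ψ]
        simp_rw [hsmul, H3]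
        have key : ∀ j, (r * φ (bA j x)) ⊗ₜ[k] a j = r ⊗ₜ[k] (ψ (bA j x) * a j) := by
          intro j
          have e1 : r * φ (bA j x) = (bA j x) • r := by
            rw [Algebra.smul_def, mul_comm]; rfl
          have e2 : ψ (bA j x) * a j = (bA j x) • a j := by
            rw [Algebra.smul_def]; rfl
          rw [e1, e2, TensorProduct.smul_tmul]
        simp_rw [key, ← TensorProduct.tmul_sum]
        rw [← H1 x]
      | add t u ht hu =>
        rw [map_add]
        simp only [Ψ] at ht hu ⊢
        simp_rw [hadd, TensorProduct.add_tmul, Finset.sum_add_distrib, ht, hu]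
    refine ⟨Function.LeftInverse.injective hΨL, fun x => ⟨Ψ x, ?_⟩⟩
    simp only [Ψ, map_sum, hLt]
    exact (H2 x).symm
  exact CommRingCat.isPushout_of_isPushout k R A B

section Coords

/-- the structure sheaf as a module over itself. -/
noncomputable abbrev unitM (X : Scheme.{u}) : X.Modules := SheafOfModules.unit X.ringCatSheaf

variable {F P : Scheme.{u}} (f : F ⟶ P) {J : Type u} [Fintype J] [DecidableEq J]
  (e : (Scheme.Modules.pushforward f).obj (unitM F) ≅ ∐ fun _ : J => unitM P)

/-- the `j`-th inclusion `O_P ⟶ f_* O_F`. -/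
noncomputable def al (j : J) : unitM P ⟶ (Scheme.Modules.pushforward f).obj (unitM F) :=
  Sigma.ι (fun _ : J => unitM P) j ≫ e.inv

/-- the `j`-th projection `f_* O_F ⟶ O_P`. -/
noncomputable def be (j : J) : (Scheme.Modules.pushforward f).obj (unitM F) ⟶ unitM P :=
  e.hom ≫ Sigma.desc (fun i => if i = j then 𝟙 (unitM P) else 0)

theorem al_be (i j : J) : al f e i ≫ be f e j = if i = j then 𝟙 (unitM P) else 0 := by
  unfold al be
  rw [Category.assoc, Iso.inv_hom_id_assoc, Sigma.ι_desc]

theorem sum_be_al : ∑ j, be f e j ≫ al f e j = 𝟙 _ := by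
  have h : ∑ j, Sigma.desc (fun i => if i = j then 𝟙 (unitM P) else 0) ≫
      Sigma.ι (fun _ : J => unitM P) j = 𝟙 _ := by
    apply Sigma.hom_ext
    intro i
    rw [Preadditive.comp_sum]
    simp only [Sigma.ι_desc_assoc, Category.comp_id]
    rw [Finset.sum_eq_single i]
    · simp
    · intro j _ hj
      rw [if_neg (Ne.symm hj)]
      simp
    · intro hi
      exact absurd (Finset.mem_univ i) hi
  calc ∑ j, be f e j ≫ al f e j
      = e.hom ≫ (∑ j, Sigma.desc (fun i => if i = j then 𝟙 (unitM P) else 0) ≫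
        Sigma.ι (fun _ : J => unitM P) j) ≫ e.inv := by
        rw [Preadditive.sum_comp, Preadditive.comp_sum]
        refine Finset.sum_congr rfl fun j _ => ?_
        simp only [al, be, Category.assoc]
    _ = 𝟙 _ := by rw [h, Category.id_comp, Iso.hom_inv_id]

noncomputable def a (j : J) (U : P.Opens) : Γ(F, f ⁻¹ᵁ U) := (al f e j).app U (1 : Γ(P, U))
noncomputable def b (j : J) (U : P.Opens) (x : Γ(F, f ⁻¹ᵁ U)) : Γ(P, U) := (be f e j).app U x

theorem b_add (j : J) (U : P.Opens) (x y : Γ(F, f ⁻¹ᵁ U)) :
    b f e j U (x + y) = b f e j U x + b f e j U y :=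
  map_add ((be f e j).app U).hom x y

theorem b_smul (j : J) (U : P.Opens) (r : Γ(P, U)) (x : Γ(F, f ⁻¹ᵁ U)) :
    b f e j U (f.app U r * x) = r * b f e j U x :=
  (be f e j).app_smul r x

theorem a_smul (j : J) (U : P.Opens) (r : Γ(P, U)) :
    (al f e j).app U r = f.app U r * a f e j U := by
  have := (al f e j).app_smul (U := U) r (1 : Γ(P, U))
  have h1 : (al f e j).app U (r * (1 : Γ(P, U))) =
      f.app U r * a f e j U := this
  rwa [mul_one] at h1


theorem b_a (i j : J) (U : P.Opens) : b f e i U (a f e j U) = if j = i then 1 else 0 := by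
  have h := al_be f e j i
  have h2 : (al f e j ≫ be f e i).app U (1 : Γ(P, U)) = b f e i U (a f e j U) := rfl
  rw [← h2, h]
  split_ifs
  · rfl
  · rfl

theorem sum_app_apply {X : Scheme.{u}} {M N : X.Modules} {I : Type*} (s : Finset I)
    (φ : I → (M ⟶ N)) (U : X.Opens) (x : Γ(M, U)) :
    (∑ j ∈ s, φ j).app U x = ∑ j ∈ s, (φ j).app U x := by
  classical
  induction s using Finset.induction_on with
  | empty => simp
  | insert i s hi ih =>
    rw [Finset.sum_insert hi, Finset.sum_insert hi, Scheme.Modules.Hom.add_app, ← ih]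
    rfl

theorem sum_a_b (U : P.Opens) (x : Γ(F, f ⁻¹ᵁ U)) :
    x = ∑ j, f.app U (b f e j U x) * a f e j U := by
  have h := sum_be_al f e
  have h2 : (∑ j, be f e j ≫ al f e j).app U x = x := by rw [h]; rfl
  refine h2.symm.trans ((sum_app_apply Finset.univ (fun j => be f e j ≫ al f e j) U x).trans ?_)
  refine Finset.sum_congr rfl fun j _ => ?_
  exact a_smul f e j U (b f e j U x)


theorem app_nat {X : Scheme.{u}} {M N : X.Modules} (φ : M ⟶ N) {A B : X.Opens} (hAB : A ≤ B)
    (x : Γ(M, B)) :
    N.presheaf.map (homOfLE hAB).op (φ.app B x) = φ.app A (M.presheaf.map (homOfLE hAB).op x) := by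
  have := φ.mapPresheaf.naturality (homOfLE hAB).op
  simp only [Scheme.Modules.mapPresheaf_app] at this
  exact congr($this x).symm

theorem a_res (j : J) {U V : P.Opens} (h : U ≤ V) :
    F.presheaf.map (homOfLE (f.preimage_mono h)).op (a f e j V) = a f e j U := by
  have h1 := app_nat (al f e j) h (1 : Γ(P, V))
  have h2 : (unitM P).presheaf.map (homOfLE h).op (1 : Γ(P, V)) = (1 : Γ(P, U)) :=
    map_one (P.presheaf.map (homOfLE h).op).hom
  rw [h2] at h1
  exact h1

theorem b_res (j : J) {U V : P.Opens} (h : U ≤ V) (x : Γ(F, f ⁻¹ᵁ V)) :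
    P.presheaf.map (homOfLE h).op (b f e j V x) =
      b f e j U (F.presheaf.map (homOfLE (f.preimage_mono h)).op x) :=
  app_nat (be f e j) h x


include e in
theorem isPushout_sections {k : Type u} [CommRing k] (κ : k →+* Γ(P, ⊤))
    (hκ : Function.Surjective κ) (U : P.Opens) :
    IsPushout (CommRingCat.ofHom κ ≫ P.presheaf.map (homOfLE (le_top : U ≤ ⊤)).op)
      (CommRingCat.ofHom κ ≫ f.appTop) (f.app U)
      (F.presheaf.map (homOfLE (le_top : f ⁻¹ᵁ U ≤ ⊤)).op) := by
  have hnat : P.presheaf.map (homOfLE (le_top : U ≤ ⊤)).op ≫ f.app U =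
      f.appTop ≫ F.presheaf.map (homOfLE (le_top : f ⁻¹ᵁ U ≤ ⊤)).op :=
    f.naturality (homOfLE (le_top : U ≤ ⊤)).op
  have key := isPushout_of_coords
    ((P.presheaf.map (homOfLE (le_top : U ≤ ⊤)).op).hom.comp κ) (f.appTop.hom.comp κ)
    (f.app U).hom (F.presheaf.map (homOfLE (le_top : f ⁻¹ᵁ U ≤ ⊤)).op).hom
    (by
      ext c
      exact congr($hnat (κ c)))
    (fun j => a f e j ⊤) (fun j x => Classical.choose (hκ (b f e j ⊤ x))) (fun j => b f e j U)
    (fun j x y => b_add f e j U x y) (fun j r x => b_smul f e j U r x)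
    (fun x => by
      have h := sum_a_b f e ⊤ x
      refine h.trans (Finset.sum_congr rfl fun j _ => ?_)
      have hc := Classical.choose_spec (hκ (b f e j ⊤ x))
      simp only [RingHom.comp_apply]
      rw [hc]
      rfl)
    (fun x => by
      have h := sum_a_b f e U x
      refine h.trans (Finset.sum_congr rfl fun j _ => ?_)
      rw [← a_res f e j (le_top : U ≤ ⊤)]
      rfl)
    (fun j x => by
      have hc := Classical.choose_spec (hκ (b f e j ⊤ x))
      simp only [RingHom.comp_apply]
      rw [hc]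
      exact (b_res f e j (le_top : U ≤ ⊤) x).symm)
  exact key


end Coords

end Groth.Agent.Lib.Helper22.FreeFin
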