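import Mathlib
import Groth.Agent.Lib.Helper22.FreeFinA

/-!
# Helper22: finite morphisms with free direct image of the structure sheaf (part B)

If `f : F ⟶ P` is affine, `f_* O_F ≅ ∐_J O_P`, and `k → Γ(P, O_P)` is surjective, then
`F = Spec Γ(F, O_F) ×_k P`.
-/

set_option autoImplicit false
universe u

open CategoryTheory CategoryTheory.Limits AlgebraicGeometry TensorProduct

namespace Groth.Agent.Lib.Helper22.FreeFin

theorem isPullback_of_isPushout_appTop {W X Y Z : Scheme.{u}} [IsAffine W] [IsAffine X]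
    [IsAffine Y] [IsAffine Z] (fst : W ⟶ X) (snd : W ⟶ Y) (f : X ⟶ Z) (g : Y ⟶ Z)
    (h : IsPushout f.appTop g.appTop fst.appTop snd.appTop) : IsPullback fst snd f g := by
  have := isPullback_SpecMap_of_isPushout _ _ _ _ h
  refine IsPullback.of_iso this W.isoSpec.symm X.isoSpec.symm Y.isoSpec.symm Z.isoSpec.symm
    ?_ ?_ ?_ ?_
  all_goals simp [Scheme.isoSpec_inv_naturality]

section Main

variable {F P : Scheme.{u}} (f : F ⟶ P) {J : Type u} [Fintype J] [DecidableEq J]
  (e : (Scheme.Modules.pushforward f).obj (unitM F) ≅ ∐ fun _ : J => unitM P)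
  {k : Type u} [CommRing k] (p : P ⟶ Spec (CommRingCat.of k))

/-- the structure map `k → Γ(F, O_F)`. -/
noncomputable def cA : CommRingCat.of k ⟶ Γ(F, ⊤) :=
  (Scheme.ΓSpecIso (CommRingCat.of k)).inv ≫ p.appTop ≫ f.appTop

include e in
theorem isPullback_restrict [IsAffineHom f]
    (hp : Function.Surjective ((Scheme.ΓSpecIso (CommRingCat.of k)).inv ≫ p.appTop).hom)
    (U : P.Opens) (hU : IsAffineOpen U) :
    IsPullback (f ∣_ U) ((f ⁻¹ᵁ U).ι ≫ F.toSpecΓ) (U.ι ≫ p) (Spec.map (cA f p)) := by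
  haveI : IsAffine U.toScheme := hU
  haveI : IsAffine (f ⁻¹ᵁ U).toScheme := hU.preimage f
  apply isPullback_of_isPushout_appTop
  have h0 := isPushout_sections f e ((Scheme.ΓSpecIso (CommRingCat.of k)).inv ≫ p.appTop).hom hp U
  refine h0.of_iso (Scheme.ΓSpecIso (CommRingCat.of k)).symm U.topIso.symm
    (Scheme.ΓSpecIso Γ(F, ⊤)).symm (f ⁻¹ᵁ U).topIso.symm ?_ ?_ ?_ ?_
  · simp only [CommRingCat.ofHom_hom, Iso.symm_hom, Category.assoc, Scheme.Hom.comp_appTop,
      Scheme.Opens.ι_appTop, Scheme.Opens.topIso_inv]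
    refine congrArg (fun t => (Scheme.ΓSpecIso (CommRingCat.of k)).inv ≫ p.appTop ≫ t) ?_
    exact (P.presheaf.map_comp _ _).symm.trans (congrArg P.presheaf.map (Subsingleton.elim _ _))
  · simp only [CommRingCat.ofHom_hom, Iso.symm_hom, Category.assoc]
    rw [← Scheme.ΓSpecIso_inv_naturality]
    simp [cA]
  · simp only [Iso.symm_hom, morphismRestrict_appTop, Scheme.Opens.topIso_inv]
    refine Eq.trans ?_ (Scheme.Hom.naturality_assoc f _ _).symm
    refine congrArg (fun t => f.app U ≫ t) ?_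
    exact (congrArg F.presheaf.map (Subsingleton.elim _ _)).trans (F.presheaf.map_comp _ _)
  · simp only [Iso.symm_hom, Scheme.Hom.comp_appTop, Scheme.toSpecΓ_appTop,
      Scheme.Opens.ι_appTop, Scheme.Opens.topIso_inv]
    refine ((F.presheaf.map_comp _ _).symm.trans ?_).trans (Iso.inv_hom_id_assoc _ _).symm
    exact congrArg F.presheaf.map (Subsingleton.elim _ _)

include e in
theorem isPullback_main [IsAffineHom f]
    (hp : Function.Surjective ((Scheme.ΓSpecIso (CommRingCat.of k)).inv ≫ p.appTop).hom) :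
    IsPullback f F.toSpecΓ p (Spec.map (cA f p)) := by
  refine Scheme.isPullback_of_openCover f F.toSpecΓ p (Spec.map (cA f p))
    (P.openCoverOfIsOpenCover (fun U : P.affineOpens => U.1) (iSup_affineOpens_eq_top P)) ?_
  intro U
  have h := isPullback_restrict f e p hp U.1 U.2
  refine h.of_iso (pullbackRestrictIsoRestrict f U.1).symm (Iso.refl _) (Iso.refl _) (Iso.refl _)
    ?_ ?_ ?_ ?_
  · simp only [Iso.refl_hom, Iso.symm_hom, Scheme.Cover.pullbackHom, morphismRestrict]
    exact Category.comp_id _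
  · simp only [Iso.refl_hom, Iso.symm_hom, Category.comp_id]
    rw [← pullbackRestrictIsoRestrict_inv_fst_assoc]
    rfl
  · exact (Category.comp_id _).trans (Category.id_comp _).symm
  · simp

end Main

/-- If `F = A ×_S P` and `s` is a section of `p : P ⟶ S`, then `F ≅ F_s ×_S P` over `P`. -/
theorem nonempty_over_iso {C : Type*} [Category C] [HasPullbacks C] {F P S A : C} (f : F ⟶ P)
    (t : F ⟶ A) (p : P ⟶ S) (c : A ⟶ S) (h : IsPullback f t p c) (s : S ⟶ P) (hs : s ≫ p = 𝟙 S) :
    Nonempty (Over.mk f ≅ Over.mk (pullback.snd (pullback.snd f s) p)) := by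
  have h1 : IsPullback (pullback.fst f s) (pullback.snd f s) f s := IsPullback.of_hasPullback f s
  have h2 := h1.paste_horiz h.flip
  rw [hs] at h2
  haveI : IsIso (pullback.fst f s ≫ t) := h2.isIso_fst_of_isIso
  let θ := asIso (pullback.fst f s ≫ t)
  have hθ : θ.hom ≫ c = pullback.snd f s := by
    have := h2.w
    simpa [θ] using this
  have h3 : IsPullback f (t ≫ θ.inv) p (pullback.snd f s) := by
    refine h.of_iso (Iso.refl F) (Iso.refl P) θ.symm (Iso.refl S) ?_ ?_ ?_ ?_
    · simp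
    · simp
    · simp
    · rw [Iso.symm_hom, Iso.refl_hom, Category.comp_id, ← hθ, Iso.inv_hom_id_assoc]
  have h4 := h3.flip
  exact ⟨Over.isoMk h4.isoPullback (by simp)⟩

end Groth.Agent.Lib.Helper22.FreeFin
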