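import Mathlib
import Groth.Agent.Lib.Helper26.GenFreeNil

/-!
# Free stratification of a flat finitely presented module (EGA IV 8.9.5 / 11.3-type statement)

For a flat f.p. module over a f.p. algebra, the base admits a finite stratification
`D(f_{i+1}) ∩ V(f_1, …, f_i)` over which the module is free.  Via helper14's model modules
(Noetherian approximation of flatness), helper26's generic freeness over a base with a unique
minimal prime, and Noetherian induction.
-/

set_option autoImplicit false
universe u
open TensorProduct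

attribute [local instance] MvPolynomial.algebraMvPolynomial

namespace Groth.Agent.Lib.Helper22.FreeStrat

open Groth.Agent.Lib.Helper14.FlatStage Groth.Agent.Lib.Helper26.GenFreeNil

section
variable {R₀ : Type u} [CommRing R₀] {n b e : ℕ} (L : Fin e → Fm n b R₀)

/-- the model module is free over `C_f / I C_f` -/
def FreeOver (C : Type u) [CommRing C] [Algebra R₀ C] (I : Ideal C) (f : C) : Prop :=
  Module.Free (Localization.Away f ⧸ I.map (algebraMap C (Localization.Away f)))
    (Mm L (Localization.Away f ⧸ I.map (algebraMap C (Localization.Away f))))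

theorem free_of_freeOver {C : Type u} [CommRing C] [Algebra R₀ C] {I : Ideal C} {f : C}
    (h : FreeOver L C I f) {D : Type u} [CommRing D] [Algebra R₀ D] (φ : C →ₐ[R₀] D)
    (hI : ∀ x ∈ I, φ x = 0) (hf : IsUnit (φ f)) : Module.Free D (Mm L D) := by
  have hu : ∀ y : Submonoid.powers f, IsUnit (φ (y : C)) := by
    rintro ⟨y, k, rfl⟩
    rw [map_pow]
    exact hf.pow k
  let ψ₁ : Localization.Away f →ₐ[R₀] D := IsLocalization.liftAlgHom hu
  have hψ₁ : ∀ x : C, ψ₁ (algebraMap C (Localization.Away f) x) = φ x := by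
    intro x
    rw [IsLocalization.liftAlgHom_apply]
    exact IsLocalization.lift_eq _ x
  have hker : ∀ a ∈ I.map (algebraMap C (Localization.Away f)), ψ₁ a = 0 := by
    have hle : I.map (algebraMap C (Localization.Away f)) ≤ RingHom.ker (ψ₁ : _ →+* D) := by
      rw [Ideal.map_le_iff_le_comap]
      intro x hx
      rw [Ideal.mem_comap, RingHom.mem_ker]
      exact (hψ₁ x).trans (hI x hx)
    intro a ha
    exact hle ha
  let ψ : (Localization.Away f ⧸ I.map (algebraMap C (Localization.Away f))) →ₐ[R₀] D :=
    Ideal.Quotient.liftₐ _ ψ₁ hker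
  exact free_of_algHom L ψ h

theorem freeOver_congr {C : Type u} [CommRing C] [Algebra R₀ C] {I I' : Ideal C} {f f' : C}
    (hI : I = I') (hf : f = f') (h : FreeOver L C I f) : FreeOver L C I' f' := by
  subst hI; subst hf; exact h

variable [IsNoetherianRing R₀]

theorem exists_freeOver (C : Type u) [CommRing C] [Algebra R₀ C] [IsNoetherianRing C]
    (hflat : Module.Flat C (Mm L C)) (J : Ideal C) (hJ : J ≠ ⊤) :
    ∃ f : C, f ∉ J ∧ FreeOver L C J f := by
  classical
  haveI : Nontrivial (C ⧸ J) := Ideal.Quotient.nontrivial_iff.2 hJ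
  obtain ⟨⟨p, hp⟩⟩ := Ideal.nonempty_minimalPrimes (bot_ne_top : (⊥ : Ideal (C ⧸ J)) ≠ ⊤)
  haveI hpp : p.IsPrime := Ideal.minimalPrimes_isPrime hp
  have hfin : (minimalPrimes (C ⧸ J)).Finite := minimalPrimes.finite_of_isNoetherianRing (C ⧸ J)
  obtain ⟨g, hgp, hgq⟩ : ∃ g : C ⧸ J, g ∉ p ∧ ∀ q ∈ minimalPrimes (C ⧸ J), q ≠ p → g ∈ q := by
    let s : Finset (Ideal (C ⧸ J)) := hfin.toFinset.erase p
    by_contra hcon
    push Not at hcon
    have hle : s.inf id ≤ p := by
      intro g hg
      by_contra hgp
      obtain ⟨q, hq, hqp, hgq⟩ := hcon g hgp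
      apply hgq
      have hqs : q ∈ s := by
        simp only [s, Finset.mem_erase, Set.Finite.mem_toFinset]
        exact ⟨hqp, hq⟩
      exact (Finset.inf_le hqs : s.inf id ≤ id q) hg
    obtain ⟨q, hqs, hqp⟩ := (Ideal.IsPrime.inf_le' hpp).1 hle
    simp only [s, Finset.mem_erase, Set.Finite.mem_toFinset] at hqs
    have h2 : p ≤ q := hp.2 ⟨Ideal.minimalPrimes_isPrime hqs.2, bot_le⟩ hqp
    exact hqs.1 (le_antisymm hqp h2)
  -- the localisation
  have hdisj : Disjoint (Submonoid.powers g : Set (C ⧸ J)) (p : Set (C ⧸ J)) := by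
    rw [Set.disjoint_left]
    rintro x ⟨k, rfl⟩ hx
    exact hgp (hpp.mem_of_pow_mem k hx)
  haveI hp'prime : (p.map (algebraMap (C ⧸ J) (Localization.Away g))).IsPrime :=
    IsLocalization.isPrime_of_isPrime_disjoint (Submonoid.powers g) (Localization.Away g) p hpp hdisj
  have hcomap : Ideal.under (C ⧸ J) (p.map (algebraMap (C ⧸ J) (Localization.Away g))) = p :=
    IsLocalization.under_map_of_isPrime_disjoint (Submonoid.powers g) (Localization.Away g) hpp hdisj
  have hmin : minimalPrimes (Localization.Away g) =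
      {p.map (algebraMap (C ⧸ J) (Localization.Away g))} := by
    have h1 := IsLocalization.minimalPrimes_map (Submonoid.powers g) (Localization.Away g)
      (⊥ : Ideal (C ⧸ J))
    rw [Ideal.map_bot] at h1
    ext q'
    rw [Set.mem_singleton_iff]
    change q' ∈ (⊥ : Ideal (Localization.Away g)).minimalPrimes ↔ _
    rw [h1, Set.mem_preimage]
    constructor
    · intro hq
      have hqprime : (Ideal.under (C ⧸ J) q').IsPrime := Ideal.minimalPrimes_isPrime hq
      have hgq' : g ∉ Ideal.under (C ⧸ J) q' := by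
        intro hg
        have hu : IsUnit (algebraMap (C ⧸ J) (Localization.Away g) g) :=
          IsLocalization.Away.algebraMap_isUnit g
        have htop : q' = ⊤ := Ideal.eq_top_of_isUnit_mem _ hg hu
        apply hqprime.ne_top
        rw [htop]
        rfl
      have heq : Ideal.under (C ⧸ J) q' = p := by
        by_contra hne
        exact hgq' (hgq _ hq hne)
      rw [← IsLocalization.map_under (Submonoid.powers g) (Localization.Away g) q', heq]
    · rintro rfl
      rw [hcomap]
      exact hp
  -- flatness over the localisation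
  let φ₀ : C →ₐ[R₀] Localization.Away g :=
    (IsScalarTower.toAlgHom R₀ (C ⧸ J) (Localization.Away g)).comp (Ideal.Quotient.mkₐ R₀ J)
  haveI hfl' : Module.Flat (Localization.Away g) (Mm L (Localization.Away g)) :=
    flat_of_algHom L φ₀ hflat
  have hflat' : Module.Flat
      (Localization.AtPrime (p.map (algebraMap (C ⧸ J) (Localization.Away g))))
      (LocalizedModule (p.map (algebraMap (C ⧸ J) (Localization.Away g))).primeCompl
        (Mm L (Localization.Away g))) :=
    Module.Flat.localizedModule _
  obtain ⟨t, htp, hfree⟩ := main_aux L (p.map (algebraMap (C ⧸ J) (Localization.Away g))) hmin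
    (Mm L (Localization.Away g)) (LinearEquiv.refl _ _) hflat'
  haveI := hfree
  have hfree' : Module.Free (Localization.Away t) (Mm L (Localization.Away t)) :=
    Module.Free.of_equiv (locEquiv L (Submonoid.powers t)
      (LinearEquiv.refl (Localization.Away g) (Mm L (Localization.Away g))))
  -- lifts
  obtain ⟨⟨t₀, ⟨_, k, rfl⟩⟩, ht₀⟩ := IsLocalization.surj (Submonoid.powers g) t
  obtain ⟨g', hg'⟩ := Ideal.Quotient.mk_surjective g
  obtain ⟨t₀', ht₀'⟩ := Ideal.Quotient.mk_surjective t₀
  have hgu : IsUnit (algebraMap (C ⧸ J) (Localization.Away g) g) :=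
    IsLocalization.Away.algebraMap_isUnit g
  refine ⟨g' * t₀', ?_, ?_⟩
  · intro hf
    have h0 : g * t₀ = 0 := by
      rw [← hg', ← ht₀', ← map_mul]
      exact Ideal.Quotient.eq_zero_iff_mem.2 hf
    have h1 : algebraMap (C ⧸ J) (Localization.Away g) t₀ = 0 := by
      have h2 : algebraMap (C ⧸ J) (Localization.Away g) g *
          algebraMap (C ⧸ J) (Localization.Away g) t₀ = 0 := by
        rw [← map_mul, h0, map_zero]
      exact (hgu.mul_right_eq_zero).1 h2
    have h3 : t * algebraMap (C ⧸ J) (Localization.Away g) (g ^ k) = 0 := by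
      rw [ht₀]; exact h1
    have h4 : t = 0 := by
      rw [map_pow] at h3
      exact ((hgu.pow k).mul_left_eq_zero).1 h3
    apply htp
    rw [h4]
    exact zero_mem _
  · -- the algebra map to `C_f / J C_f`
    have hfu : IsUnit (algebraMap C (Localization.Away (g' * t₀')) (g' * t₀')) :=
      IsLocalization.Away.algebraMap_isUnit (g' * t₀')
    let χc : C →ₐ[R₀] (Localization.Away (g' * t₀') ⧸
        J.map (algebraMap C (Localization.Away (g' * t₀')))) :=
      (Ideal.Quotient.mkₐ R₀ _).comp (IsScalarTower.toAlgHom R₀ C (Localization.Away (g' * t₀')))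
    have hχcJ : ∀ a ∈ J, χc a = 0 := by
      intro a ha
      exact Ideal.Quotient.eq_zero_iff_mem.2 (Ideal.mem_map_of_mem _ ha)
    have hχcu : IsUnit (χc (g' * t₀')) := hfu.map (Ideal.Quotient.mk _)
    let χ₀ : (C ⧸ J) →ₐ[R₀] (Localization.Away (g' * t₀') ⧸
        J.map (algebraMap C (Localization.Away (g' * t₀')))) :=
      Ideal.Quotient.liftₐ J χc hχcJ
    have hχ₀ : ∀ x : C, χ₀ (Ideal.Quotient.mk J x) = χc x := fun x => rfl
    have hχ₀g : IsUnit (χ₀ g) := by
      rw [← hg', hχ₀]
      rw [map_mul] at hχcu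
      exact isUnit_of_mul_isUnit_left hχcu
    have hχ₀t : IsUnit (χ₀ t₀) := by
      rw [← ht₀', hχ₀]
      rw [map_mul] at hχcu
      exact isUnit_of_mul_isUnit_right hχcu
    have hu₁ : ∀ y : Submonoid.powers g, IsUnit (χ₀ (y : C ⧸ J)) := by
      rintro ⟨y, j, rfl⟩
      rw [map_pow]
      exact hχ₀g.pow j
    let χ₁ : Localization.Away g →ₐ[R₀] (Localization.Away (g' * t₀') ⧸
        J.map (algebraMap C (Localization.Away (g' * t₀')))) := IsLocalization.liftAlgHom hu₁
    have hχ₁ : ∀ x : C ⧸ J, χ₁ (algebraMap (C ⧸ J) (Localization.Away g) x) = χ₀ x := by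
      intro x
      rw [IsLocalization.liftAlgHom_apply]
      exact IsLocalization.lift_eq _ x
    have hχ₁t : IsUnit (χ₁ t) := by
      have h5 : χ₁ t * χ₁ (algebraMap (C ⧸ J) (Localization.Away g) (g ^ k)) = χ₀ t₀ := by
        rw [← map_mul, ht₀, hχ₁]
      rw [← h5] at hχ₀t
      exact isUnit_of_mul_isUnit_left hχ₀t
    have hu₂ : ∀ y : Submonoid.powers t, IsUnit (χ₁ (y : Localization.Away g)) := by
      rintro ⟨y, j, rfl⟩
      rw [map_pow]
      exact hχ₁t.pow j
    let χ₂ : Localization.Away t →ₐ[R₀] (Localization.Away (g' * t₀') ⧸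
        J.map (algebraMap C (Localization.Away (g' * t₀')))) := IsLocalization.liftAlgHom hu₂
    exact free_of_algHom L χ₂ hfree'

theorem exists_list (C : Type u) [CommRing C] [Algebra R₀ C] [IsNoetherianRing C]
    (hflat : Module.Flat C (Mm L C)) (J : Ideal C) :
    ∃ l : List C, J ⊔ Ideal.span {a | a ∈ l} = ⊤ ∧
      ∀ (i : ℕ) (hi : i < l.length),
        FreeOver L C (J ⊔ Ideal.span {a | a ∈ l.take i}) l[i] := by
  induction J using IsNoetherian.induction with
  | _ J IH =>
  by_cases hJ : J = ⊤
  · refine ⟨[], by rw [hJ, top_sup_eq], fun i hi => absurd hi (by simp)⟩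
  · obtain ⟨f, hfJ, hfree⟩ := exists_freeOver L C hflat J hJ
    have hlt : J < J ⊔ Ideal.span {f} := by
      refine lt_of_le_of_ne le_sup_left (fun h => hfJ ?_)
      rw [h]
      exact Ideal.mem_sup_right (Ideal.subset_span rfl)
    obtain ⟨l', hl', hfr'⟩ := IH (J ⊔ Ideal.span {f}) hlt
    refine ⟨f :: l', ?_, ?_⟩
    · have hset : {a | a ∈ f :: l'} = insert f {a | a ∈ l'} := by
        ext a; simp
      rw [hset, Ideal.span_insert, ← sup_assoc]
      exact hl'
    · intro i hi
      cases i with
      | zero =>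
        have h0 : J = J ⊔ Ideal.span {a | a ∈ (f :: l').take 0} := by simp
        exact freeOver_congr L h0 rfl hfree
      | succ i =>
        have hi' : i < l'.length := by simpa using hi
        have h1 : (J ⊔ Ideal.span {f}) ⊔ Ideal.span {a | a ∈ l'.take i} =
            J ⊔ Ideal.span {a | a ∈ (f :: l').take (i + 1)} := by
          have hset : {a | a ∈ (f :: l').take (i + 1)} = insert f {a | a ∈ l'.take i} := by
            ext a; simp
          rw [hset, Ideal.span_insert, sup_assoc]
        exact freeOver_congr L h1 rfl (hfr' i hi')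

end

theorem free_tensor_of_freeOver {A : Type u} [CommRing A] {R₀ : Subalgebra ℤ A}
    (C : Subalgebra R₀ A) {n b e : ℕ} (L : Fin e → Fm n b R₀) {I : Ideal C} {f : C}
    (h : FreeOver L C I f) (a : A) (IA : Ideal A) (ha : a = (f : A))
    (hIA : ∀ x ∈ I, (x : A) ∈ IA)
    (M : Type u) [AddCommGroup M] [Module A M] (iso : M ≃ₗ[A] Mm L A) :
    Module.Free (Localization.Away a ⧸ IA.map (algebraMap A (Localization.Away a)))
      ((Localization.Away a ⧸ IA.map (algebraMap A (Localization.Away a))) ⊗[A] M) := by
  subst ha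
  have hD : Module.Free (Localization.Away (f : A) ⧸
      IA.map (algebraMap A (Localization.Away (f : A))))
      (Mm L (Localization.Away (f : A) ⧸ IA.map (algebraMap A (Localization.Away (f : A))))) := by
    refine free_of_freeOver L h
      ((IsScalarTower.toAlgHom R₀ A (Localization.Away (f : A) ⧸
        IA.map (algebraMap A (Localization.Away (f : A))))).comp C.val) ?_ ?_
    · intro x hx
      exact Ideal.Quotient.eq_zero_iff_mem.2 (Ideal.mem_map_of_mem _ (hIA x hx))
    · have hu : IsUnit (algebraMap A (Localization.Away (f : A)) (f : A)) :=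
        IsLocalization.Away.algebraMap_isUnit _
      exact hu.map (Ideal.Quotient.mk (IA.map (algebraMap A (Localization.Away (f : A)))))
  have := hD
  exact Module.Free.of_equiv
    ((TensorProduct.AlgebraTensorModule.congr (LinearEquiv.refl _ _) iso) ≪≫ₗ
      (isBaseChange_mapM L A _).equiv).symm

theorem main {A B : Type u} [CommRing A] [CommRing B] [Algebra A B]
    [Algebra.FinitePresentation A B] (M : Type u) [AddCommGroup M] [Module B M] [Module A M]
    [IsScalarTower A B M] [Module.FinitePresentation B M] [Module.Flat A M] :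
    ∃ l : List A, Ideal.span {a | a ∈ l} = ⊤ ∧
      ∀ (i : ℕ) (hi : i < l.length),
        Module.Free (Localization.Away l[i] ⧸
            (Ideal.span {a | a ∈ l.take i}).map (algebraMap A (Localization.Away l[i])))
          ((Localization.Away l[i] ⧸
            (Ideal.span {a | a ∈ l.take i}).map (algebraMap A (Localization.Away l[i]))) ⊗[A] M) := by
  obtain ⟨n, b, e, R₀, hR₀, L, ⟨iso⟩⟩ := exists_model A B M
  haveI : Algebra.FiniteType ℤ R₀ := (Subalgebra.fg_iff_finiteType R₀).1 hR₀
  haveI : IsNoetherianRing R₀ := Algebra.FiniteType.isNoetherianRing ℤ R₀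
  have hflatA : Module.Flat A (Mm L A) := Module.Flat.of_linearEquiv iso.symm
  obtain ⟨C, hC, hCflat⟩ := exists_fg_flat L A hflatA
  haveI : Algebra.FiniteType R₀ C := (Subalgebra.fg_iff_finiteType C).1 hC
  haveI : IsNoetherianRing C := Algebra.FiniteType.isNoetherianRing R₀ C
  obtain ⟨lC, hspan, hfree⟩ := exists_list L C hCflat ⊥
  rw [bot_sup_eq] at hspan
  refine ⟨lC.map C.val, ?_, ?_⟩
  · have hset : {a | a ∈ lC.map C.val} = (C.val : C →+* A) '' {a | a ∈ lC} := by
      ext a
      simp only [List.mem_map, Set.mem_setOf_eq, Set.mem_image]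
      rfl
    rw [hset, ← Ideal.map_span, hspan, Ideal.map_top]
  · intro i hi
    have hi' : i < lC.length := by simpa using hi
    have hget : (lC.map C.val)[i] = C.val lC[i] := List.getElem_map _
    refine free_tensor_of_freeOver C L (hfree i hi') _ _ hget ?_ M iso
    intro x hx
    rw [bot_sup_eq] at hx
    have hset : {a | a ∈ (lC.map C.val).take i} =
        (C.val : C →+* A) '' {a | a ∈ lC.take i} := by
      ext a
      simp only [← List.map_take, List.mem_map, Set.mem_setOf_eq, Set.mem_image]
      rfl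
    rw [hset, ← Ideal.map_span]
    exact Ideal.mem_map_of_mem _ hx

end Groth.Agent.Lib.Helper22.FreeStrat
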