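import Mathlib

/-!
# Unramified locus at the scheme level (helper22)

* `formallyUnramified_stalkMap_iff`: the stalk map at `x` is formally unramified iff the prime of `x`
  in an affine chart lies in `Algebra.unramifiedLocus`.
* `exists_formallyUnramified_of_stalk`: `f` locally of finite type with formally unramified stalk
  map at `x` ⇒ affine charts `V ∋ x`, `U ⊇ f(V)` with `Γ(Y,U) → Γ(X,V)` formally unramified.
* `formallyUnramified_ι_comp_of_appLE`: ring-level formally unramified chart ⇒ `V.ι ≫ f` formally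
  unramified.
* `exists_formallyUnramified_nhd`: combination of the two.
-/

set_option autoImplicit false
universe u

open AlgebraicGeometry CategoryTheory

namespace Groth.Agent.Lib.Helper22.GenEtale

variable {X Y : Scheme.{u}}

lemma formallyUnramified_stalkMap_iff {f : X ⟶ Y} {x : X} (U : Y.Opens)
    (hU : IsAffineOpen U) (V : X.Opens) (hV : IsAffineOpen V) (hVU : V ≤ f ⁻¹ᵁ U)
    (hx : x ∈ V) :
    letI := (f.appLE U V hVU).hom.toAlgebra
    (f.stalkMap x).hom.FormallyUnramified ↔
      hV.primeIdealOf ⟨x, hx⟩ ∈ Algebra.unramifiedLocus Γ(Y, U) Γ(X, V) := by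
  let := (f.appLE U V hVU).hom.toAlgebra
  let p := (hU.primeIdealOf ⟨f x, hVU hx⟩).asIdeal
  let q := (hV.primeIdealOf ⟨x, hx⟩).asIdeal
  have : q.LiesOver p :=
    ⟨congr($(IsAffineOpen.comap_primeIdealOf_appLE U hU V hV hVU hx).1).symm⟩
  let := Localization.AtPrime.algebraOfLiesOver p q
  trans Algebra.FormallyUnramified (Localization.AtPrime p) (Localization.AtPrime q)
  · rw [← RingHom.formallyUnramified_algebraMap]
    exact RingHom.FormallyUnramified.respectsIso.arrow_mk_iso_iff
      (IsAffineOpen.arrowStalkMapIso f U hU V hV hVU hx)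
  · constructor
    · intro h
      exact Algebra.FormallyUnramified.comp Γ(Y, U) (Localization.AtPrime p)
        (Localization.AtPrime q)
    · intro h
      have h' : Algebra.FormallyUnramified Γ(Y, U) (Localization.AtPrime q) := h
      exact Algebra.FormallyUnramified.of_restrictScalars Γ(Y, U) _ _

lemma exists_formallyUnramified_of_stalk (f : X ⟶ Y) [LocallyOfFiniteType f]
    (x : X) (H : (f.stalkMap x).hom.FormallyUnramified) :
    ∃ (U : Y.Opens) (_ : IsAffineOpen U) (V : X.Opens) (_ : IsAffineOpen V) (hVU : V ≤ f ⁻¹ᵁ U),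
      x ∈ V ∧ (f.appLE U V hVU).hom.FormallyUnramified := by
  obtain ⟨_, ⟨U, hU₀, rfl⟩, hxU, -⟩ :=
    Y.isBasis_affineOpens.exists_subset_of_mem_open (Set.mem_univ (f x)) isOpen_univ
  obtain ⟨_, ⟨V, hV₀, rfl⟩, hxV, hVU₀⟩ :=
    X.isBasis_affineOpens.exists_subset_of_mem_open hxU (U.2.preimage f.continuous)
  have hU : IsAffineOpen U := hU₀
  have hV : IsAffineOpen V := hV₀
  have hVU : V ≤ f ⁻¹ᵁ U := hVU₀
  have := f.finiteType_appLE hU hV hVU
  algebraize [(f.appLE U V hVU).hom]
  have hq : hV.primeIdealOf ⟨x, hxV⟩ ∈ Algebra.unramifiedLocus Γ(Y, U) Γ(X, V) :=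
    (formallyUnramified_stalkMap_iff U hU V hV hVU hxV).mp H
  have hopen : IsOpen (Algebra.unramifiedLocus Γ(Y, U) Γ(X, V)) :=
    Algebra.isOpen_unramifiedLocus
  obtain ⟨_, ⟨_, ⟨r, rfl⟩, rfl⟩, hrx, hr⟩ :=
    PrimeSpectrum.isBasis_basic_opens.exists_subset_of_mem_open hq hopen
  rw [Algebra.basicOpen_subset_unramifiedLocus_iff] at hr
  refine ⟨_, hU, _, hV.basicOpen r, (X.basicOpen_le r).trans hVU, ?_, ?_⟩
  · have h1 : hV.fromSpec (hV.primeIdealOf ⟨x, hxV⟩) = x := hV.fromSpec_primeIdealOf ⟨x, hxV⟩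
    have h2 := hV.fromSpec_preimage_basicOpen r
    have h3 : hV.primeIdealOf ⟨x, hxV⟩ ∈ hV.fromSpec ⁻¹ᵁ X.basicOpen r := by
      rw [h2]; exact hrx
    rw [← h1]
    exact h3
  · have := hV.isLocalization_basicOpen r
    rw [← RingHom.formallyUnramified_algebraMap] at hr
    convert!
      RingHom.FormallyUnramified.respectsIso.1 _
        (IsLocalization.algEquiv (.powers r) _ Γ(X, X.basicOpen r)).toRingEquiv hr
    ext
    dsimp
    simp only [IsScalarTower.algebraMap_apply Γ(Y, U) Γ(X, V) (Localization _)]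
    simp only [RingHom.algebraMap_toAlgebra]
    rename_i a
    have hc := (IsLocalization.algEquiv (Submonoid.powers r) (Localization.Away r)
      Γ(X, X.basicOpen r)).commutes ((f.appLE U V hVU).hom a)
    refine Eq.trans ?_ hc.symm
    show _ = (X.presheaf.map (homOfLE (X.basicOpen_le r)).op).hom ((f.appLE U V hVU).hom a)
    rw [← CommRingCat.comp_apply, Scheme.Hom.appLE_map]

lemma formallyUnramified_ι_comp_of_appLE (f : X ⟶ Y) {U : Y.Opens} (hU : IsAffineOpen U)
    {V : X.Opens} (hV : IsAffineOpen V) (hVU : V ≤ f ⁻¹ᵁ U)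
    (H : (f.appLE U V hVU).hom.FormallyUnramified) :
    FormallyUnramified (V.ι ≫ f) := by
  have : IsAffine _ := hU
  have : IsAffine _ := hV
  have h1 : FormallyUnramified (f.resLE U V hVU) := by
    rw [HasRingHomProperty.iff_of_isAffine (P := @FormallyUnramified)]
    exact (RingHom.FormallyUnramified.respectsIso.arrow_mk_iso_iff
      (arrowResLEAppIso f U V hVU)).mpr H
  rw [← Scheme.Hom.resLE_comp_ι f hVU]
  haveI : FormallyUnramified U.ι := inferInstance
  exact MorphismProperty.comp_mem _ _ _ h1 this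

/-- If `f` is locally of finite type and the stalk map at `x` is formally unramified, then `f` is
formally unramified on an (affine) open neighbourhood of `x`. -/
lemma exists_formallyUnramified_nhd (f : X ⟶ Y) [LocallyOfFiniteType f]
    (x : X) (H : (f.stalkMap x).hom.FormallyUnramified) :
    ∃ V : X.Opens, x ∈ V ∧ FormallyUnramified (V.ι ≫ f) := by
  obtain ⟨U, hU, V, hV, hVU, hxV, h⟩ := exists_formallyUnramified_of_stalk f x H
  exact ⟨V, hxV, formallyUnramified_ι_comp_of_appLE f hU hV hVU h⟩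

end Groth.Agent.Lib.Helper22.GenEtale
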