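import Mathlib

/-! Helper lemmas on localisations of modules at powers of an element (helper22, for S9663). -/

namespace Groth.Agent.Lib.Helper22.Glue

variable {R : Type*} [CommRing R] {N N' : Type*} [AddCommGroup N] [AddCommGroup N']
  [Module R N] [Module R N']

lemma exists_pow_smul_eq (a : R) (φ : N →ₗ[R] N') [IsLocalizedModule (Submonoid.powers a) φ]
    (y : N') : ∃ n : ℕ, ∃ x : N, a ^ n • y = φ x := by
  obtain ⟨⟨x, ⟨s, ⟨n, rfl⟩⟩⟩, hx⟩ := IsLocalizedModule.surj (Submonoid.powers a) φ y
  exact ⟨n, x, hx⟩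

lemma exists_pow_smul_eq_zero (a : R) (φ : N →ₗ[R] N') [IsLocalizedModule (Submonoid.powers a) φ]
    {x : N} (h : φ x = 0) : ∃ n : ℕ, a ^ n • x = 0 := by
  obtain ⟨⟨s, ⟨n, rfl⟩⟩, hs⟩ := (IsLocalizedModule.eq_zero_iff (Submonoid.powers a) φ).1 h
  exact ⟨n, hs⟩

lemma eq_of_pow_smul (a : R) (φ : N →ₗ[R] N') [IsLocalizedModule (Submonoid.powers a) φ]
    {y y' : N'} (n : ℕ) (h : a ^ n • y = a ^ n • y') : y = y' := by
  have := IsLocalizedModule.smul_injective φ (⟨a ^ n, n, rfl⟩ : Submonoid.powers a)
  apply this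
  exact h

lemma eq_zero_of_pow_smul (a : R) (φ : N →ₗ[R] N') [IsLocalizedModule (Submonoid.powers a) φ]
    {y : N'} (n : ℕ) (h : a ^ n • y = 0) : y = 0 := by
  apply eq_of_pow_smul a φ n
  rw [h, smul_zero]

lemma isUnit_pow_of_isUnit {a : R} (h : IsUnit (algebraMap R (Module.End R N) a)) (n : ℕ) :
    IsUnit (algebraMap R (Module.End R N) (a ^ n)) := by
  rw [map_pow]; exact h.pow n

/-- If `a` acts invertibly on `N`, scalar multiplication by `a^n` is injective. -/
lemma smul_pow_injective {a : R} (h : IsUnit (algebraMap R (Module.End R N) a)) (n : ℕ) :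
    Function.Injective (fun x : N => a ^ n • x) := by
  have h' := isUnit_pow_of_isUnit h n
  have := ((Module.End.isUnit_iff _).1 h').1
  intro x y hxy
  apply this
  simpa only [Module.algebraMap_end_apply] using hxy

/-- If `a` acts invertibly on `N`, scalar multiplication by `a^n` is surjective. -/
lemma smul_pow_surjective {a : R} (h : IsUnit (algebraMap R (Module.End R N) a)) (n : ℕ) :
    Function.Surjective (fun x : N => a ^ n • x) := by
  have h' := isUnit_pow_of_isUnit h n
  have := ((Module.End.isUnit_iff _).1 h').2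
  intro y
  obtain ⟨x, hx⟩ := this y
  exact ⟨x, by simpa only [Module.algebraMap_end_apply] using hx⟩

/-- A localisation at powers of `a` of a module on which `a` already acts invertibly is
bijective. -/
lemma bijective_of_isUnit {a : R} (h : IsUnit (algebraMap R (Module.End R N) a))
    (φ : N →ₗ[R] N') [IsLocalizedModule (Submonoid.powers a) φ] : Function.Bijective φ := by
  constructor
  · rw [injective_iff_map_eq_zero]
    intro x hx
    obtain ⟨n, hn⟩ := exists_pow_smul_eq_zero a φ hx
    apply smul_pow_injective h n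
    simpa using hn
  · intro y
    obtain ⟨n, x, hx⟩ := exists_pow_smul_eq a φ y
    obtain ⟨x', hx'⟩ := smul_pow_surjective h n x
    refine ⟨x', ?_⟩
    apply eq_of_pow_smul a φ n
    rw [hx, ← hx']
    simp

end Groth.Agent.Lib.Helper22.Glue
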