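import Mathlib
import Groth.Agent.Lib.Helper22.GrDim

/-!
# Gluing Cohen–Macaulay graded quotients at the irrelevant ideal
-/

set_option autoImplicit false

namespace Groth.Agent.Lib.Helper22.GrDim

open DirectSum Groth.Agent.Lib.Helper22.CMG

universe u v

variable {K : Type u} [Field K] {A : Type v} [CommRing A] [Algebra K A] [IsNoetherianRing A]
  (𝒜 : ℕ → Submodule K A) [GradedAlgebra 𝒜]

lemma map_irrelevant_isPrime [Nontrivial A] (h0 : ∀ a ∈ 𝒜 0, ∃ c : K, algebraMap K A c = a)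
    (𝔞 : Ideal A) (h𝔞 : 𝔞.IsHomogeneous 𝒜) (hne : 𝔞 ≠ ⊤) :
    ((HomogeneousIdeal.irrelevant 𝒜).toIdeal.map (Ideal.Quotient.mk 𝔞)).IsPrime := by
  haveI := (irrelevant_isMaximal 𝒜 h0).isPrime
  apply Ideal.map_isPrime_of_surjective Ideal.Quotient.mk_surjective
  rw [Ideal.mk_ker]
  exact le_irrelevant 𝒜 h0 𝔞 h𝔞 hne

lemma comap_map_irrelevant (h0 : ∀ a ∈ 𝒜 0, ∃ c : K, algebraMap K A c = a)
    (𝔞 : Ideal A) (h𝔞 : 𝔞.IsHomogeneous 𝒜) (hne : 𝔞 ≠ ⊤) :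
    (HomogeneousIdeal.irrelevant 𝒜).toIdeal =
      ((HomogeneousIdeal.irrelevant 𝒜).toIdeal.map (Ideal.Quotient.mk 𝔞)).comap
        (Ideal.Quotient.mk 𝔞) := by
  rw [Ideal.comap_map_of_surjective _ Ideal.Quotient.mk_surjective, ← RingHom.ker_eq_comap_bot,
    Ideal.mk_ker, sup_eq_left.mpr (le_irrelevant 𝒜 h0 𝔞 h𝔞 hne)]

/-- the local data at the irrelevant ideal of a Cohen–Macaulay graded quotient. -/
theorem cmAt_dimAt_irrelevant [Nontrivial A] (h0 : ∀ a ∈ 𝒜 0, ∃ c : K, algebraMap K A c = a)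
    (𝔞 : Ideal A) (h𝔞 : 𝔞.IsHomogeneous 𝒜) (d : ℕ)
    (hcm : LocCoh.IsCohenMacaulayRing (A ⧸ 𝔞)) (hdim : ringKrullDim (A ⧸ 𝔞) = (d : WithBot ℕ∞)) :
    haveI := (irrelevant_isMaximal 𝒜 h0).isPrime
    CMat 𝔞 (HomogeneousIdeal.irrelevant 𝒜).toIdeal ∧
      dimAt 𝔞 (HomogeneousIdeal.irrelevant 𝒜).toIdeal = d := by
  haveI := (irrelevant_isMaximal 𝒜 h0).isPrime
  have hne : 𝔞 ≠ ⊤ := by
    intro h
    haveI : Subsingleton (A ⧸ 𝔞) := Ideal.Quotient.subsingleton_iff.mpr h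
    rw [ringKrullDim_eq_bot_of_subsingleton] at hdim
    exact WithBot.bot_ne_coe hdim
  haveI hq := map_irrelevant_isPrime 𝒜 h0 𝔞 h𝔞 hne
  have hP := comap_map_irrelevant 𝒜 h0 𝔞 h𝔞 hne
  haveI := hcm.isCohenMacaulayLocalRing_localization
    ((HomogeneousIdeal.irrelevant 𝒜).toIdeal.map (Ideal.Quotient.mk 𝔞))
  refine ⟨cmAt_of_isCMLocalRing 𝔞 _ _ hP, ?_⟩
  rw [dimAt_eq_height 𝔞 _ _ hP, height_map_irrelevant 𝒜 h0 𝔞 h𝔞 hne, hdim]

/-- gluing at the irrelevant ideal. -/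
theorem cm_inf_at_irrelevant (h0 : ∀ a ∈ 𝒜 0, ∃ c : K, algebraMap K A c = a) (I J : Ideal A)
    (hI : I.IsHomogeneous 𝒜) (hJ : J.IsHomogeneous 𝒜) (e : ℕ) (he : 1 ≤ e)
    (hIcm : LocCoh.IsCohenMacaulayRing (A ⧸ I)) (hJcm : LocCoh.IsCohenMacaulayRing (A ⧸ J))
    (hIJcm : LocCoh.IsCohenMacaulayRing (A ⧸ (I ⊔ J)))
    (hIdim : ringKrullDim (A ⧸ I) = (e : WithBot ℕ∞))
    (hJdim : ringKrullDim (A ⧸ J) = (e : WithBot ℕ∞))
    (hIJdim : ringKrullDim (A ⧸ (I ⊔ J)) = ((e - 1 : ℕ) : WithBot ℕ∞))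
    [hm : ((HomogeneousIdeal.irrelevant 𝒜).toIdeal.map (Ideal.Quotient.mk (I ⊓ J))).IsPrime] :
    LocCoh.IsCohenMacaulayLocalRing (Localization.AtPrime
        ((HomogeneousIdeal.irrelevant 𝒜).toIdeal.map (Ideal.Quotient.mk (I ⊓ J)))) ∧
      ringKrullDim (Localization.AtPrime
        ((HomogeneousIdeal.irrelevant 𝒜).toIdeal.map (Ideal.Quotient.mk (I ⊓ J)))) =
          (e : WithBot ℕ∞) := by
  haveI : Nontrivial A := by
    by_contra hA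
    rw [not_nontrivial_iff_subsingleton] at hA
    haveI : Subsingleton (A ⧸ I) := Function.Surjective.subsingleton Ideal.Quotient.mk_surjective
    rw [ringKrullDim_eq_bot_of_subsingleton] at hIdim
    exact WithBot.bot_ne_coe hIdim
  haveI hPp := (irrelevant_isMaximal 𝒜 h0).isPrime
  set P := (HomogeneousIdeal.irrelevant 𝒜).toIdeal with hPdef
  obtain ⟨hcI, hdI⟩ := cmAt_dimAt_irrelevant 𝒜 h0 I hI e hIcm hIdim
  obtain ⟨hcJ, hdJ⟩ := cmAt_dimAt_irrelevant 𝒜 h0 J hJ e hJcm hJdim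
  obtain ⟨hcIJ, hdIJ⟩ := cmAt_dimAt_irrelevant 𝒜 h0 (I ⊔ J) (hI.sup hJ) (e - 1) hIJcm hIJdim
  have hIJhom : (I ⊓ J).IsHomogeneous 𝒜 := hI.inf hJ
  have hne : I ⊓ J ≠ ⊤ := by
    intro h
    have : I = ⊤ := top_le_iff.mp (h ▸ inf_le_left)
    haveI : Subsingleton (A ⧸ I) := Ideal.Quotient.subsingleton_iff.mpr this
    rw [ringKrullDim_eq_bot_of_subsingleton] at hIdim
    exact WithBot.bot_ne_coe hIdim
  have hP := comap_map_irrelevant 𝒜 h0 (I ⊓ J) hIJhom hne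
  have hmap : (I ⊓ J).map (algebraMap A (Localization.AtPrime P)) =
      I.map (algebraMap A (Localization.AtPrime P)) ⊓
        J.map (algebraMap A (Localization.AtPrime P)) :=
    IsLocalization.map_inf P.primeCompl (Localization.AtPrime P) I J
  unfold CMat at hcI hcJ hcIJ
  unfold dimAt at hdI hdJ hdIJ
  rw [Ideal.map_sup] at hcIJ hdIJ
  have key := cm_inf_of_cm _ _ e hcI hdI hcJ hdJ hcIJ (by
    rw [hdIJ]
    have : e - 1 + 1 = e := by omega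
    exact_mod_cast this)
  rw [← hmap] at key
  have hle : I ⊓ J ≤ P := le_irrelevant 𝒜 h0 _ hIJhom hne
  constructor
  · have h1 := key.1
    rw [cmModule_quotient_iff _ _ (map_ne_top_of_le (I ⊓ J) P hle)] at h1
    exact isCMLocalRing_of_ringEquiv (locQuotEquiv (I ⊓ J) _ P hP)
  · rw [IsLocalization.AtPrime.ringKrullDim_eq_height
      ((HomogeneousIdeal.irrelevant 𝒜).toIdeal.map (Ideal.Quotient.mk (I ⊓ J))),
      ← dimAt_eq_height (I ⊓ J) _ P hP]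
    exact key.2

end Groth.Agent.Lib.Helper22.GrDim
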