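import Mathlib

/-!
# `R[1/s] ≃ R_(s)[T, T⁻¹]` for a homogeneous element `s` of degree one, and Nagata's criterion
-/

set_option autoImplicit false

universe u v

open LaurentPolynomial

namespace Groth.Agent.Lib.Helper22.GrAway

variable {K : Type u} [CommRing K] {R : Type v} [CommRing R] [Algebra K R]
  (𝒜 : ℕ → Submodule K R) [GradedAlgebra 𝒜] {s : R} (hs : s ∈ 𝒜 1)

/-- the fraction `a / s ^ i` for `a` of degree `i`. -/
noncomputable def mkA (i : ℕ) (a : R) (ha : a ∈ 𝒜 i) : HomogeneousLocalization.Away 𝒜 s :=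
  HomogeneousLocalization.Away.mk 𝒜 hs i a (by rwa [smul_eq_mul, mul_one])

lemma val_mkA (i : ℕ) (a : R) (ha : a ∈ 𝒜 i) :
    (mkA 𝒜 hs i a ha).val = Localization.mk a ⟨s ^ i, pow_mem (Submonoid.mem_powers s) i⟩ := rfl

lemma mkA_add (i : ℕ) (a b : R) (ha : a ∈ 𝒜 i) (hb : b ∈ 𝒜 i) :
    mkA 𝒜 hs i (a + b) (add_mem ha hb) = mkA 𝒜 hs i a ha + mkA 𝒜 hs i b hb := by
  apply HomogeneousLocalization.val_injective
  rw [HomogeneousLocalization.val_add, val_mkA, val_mkA, val_mkA, Localization.add_mk_self]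

lemma mkA_zero (i : ℕ) : mkA 𝒜 hs i 0 (zero_mem _) = 0 := by
  apply HomogeneousLocalization.val_injective
  rw [HomogeneousLocalization.val_zero, val_mkA, Localization.mk_zero]

lemma mkA_one : mkA 𝒜 hs 0 1 SetLike.GradedOne.one_mem = 1 := by
  apply HomogeneousLocalization.val_injective
  rw [HomogeneousLocalization.val_one, val_mkA]
  have : (⟨s ^ 0, pow_mem (Submonoid.mem_powers s) 0⟩ : Submonoid.powers s) = 1 := Subtype.ext (pow_zero s)
  rw [this, Localization.mk_one]

lemma mkA_mul (i j : ℕ) (a b : R) (ha : a ∈ 𝒜 i) (hb : b ∈ 𝒜 j) :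
    mkA 𝒜 hs (i + j) (a * b) (SetLike.GradedMul.mul_mem ha hb) =
      mkA 𝒜 hs i a ha * mkA 𝒜 hs j b hb := by
  apply HomogeneousLocalization.val_injective
  rw [HomogeneousLocalization.val_mul, val_mkA, val_mkA, val_mkA, Localization.mk_mul]
  congr 1
  exact Subtype.ext (pow_add s i j)

lemma mkA_self : mkA 𝒜 hs 1 s hs = 1 := by
  apply HomogeneousLocalization.val_injective
  rw [HomogeneousLocalization.val_one, val_mkA]
  have : (⟨s ^ 1, pow_mem (Submonoid.mem_powers s) 1⟩ : Submonoid.powers s) = ⟨s, Submonoid.mem_powers s⟩ :=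
    Subtype.ext (pow_one s)
  rw [this]
  exact Localization.mk_self (⟨s, Submonoid.mem_powers s⟩ : Submonoid.powers s)

/-- the homogeneous pieces of the homogenization map. -/
noncomputable def fpiece (i : ℕ) :
    𝒜 i →+ (HomogeneousLocalization.Away 𝒜 s)[T;T⁻¹] where
  toFun a := C (mkA 𝒜 hs i a.1 a.2) * T (i : ℤ)
  map_zero' := by
    show C (mkA 𝒜 hs i 0 _) * T (i : ℤ) = 0
    rw [mkA_zero, map_zero, zero_mul]
  map_add' a b := by
    show C (mkA 𝒜 hs i (a.1 + b.1) _) * T (i : ℤ) = _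
    rw [mkA_add 𝒜 hs i a.1 b.1 a.2 b.2, map_add, add_mul]

/-- the homogenization map `r = Σ rᵢ ↦ Σ (rᵢ / sⁱ) Tⁱ`. -/
noncomputable def lamR : R →+* (HomogeneousLocalization.Away 𝒜 s)[T;T⁻¹] :=
  (DirectSum.toSemiring (fpiece 𝒜 hs)
    (by
      show C (mkA 𝒜 hs 0 1 _) * T ((0 : ℕ) : ℤ) = 1
      rw [mkA_one, map_one, one_mul, Nat.cast_zero, T_zero])
    (by
      intro i j ai aj
      show C (mkA 𝒜 hs (i + j) (ai.1 * aj.1) _) * T ((i + j : ℕ) : ℤ) =
        (C (mkA 𝒜 hs i ai.1 ai.2) * T (i : ℤ)) * (C (mkA 𝒜 hs j aj.1 aj.2) * T (j : ℤ))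
      rw [mkA_mul 𝒜 hs i j ai.1 aj.1 ai.2 aj.2, map_mul, Nat.cast_add, T_add]
      ring)).comp (DirectSum.decomposeRingEquiv 𝒜).toRingHom

lemma lamR_of_mem (i : ℕ) (a : R) (ha : a ∈ 𝒜 i) :
    lamR 𝒜 hs a = C (mkA 𝒜 hs i a ha) * T (i : ℤ) := by
  unfold lamR
  rw [RingHom.comp_apply]
  show DirectSum.toSemiring (fpiece 𝒜 hs) _ _ (DirectSum.decompose 𝒜 a) = _
  rw [DirectSum.decompose_of_mem 𝒜 ha, DirectSum.toSemiring_of]
  rfl

lemma lamR_s : lamR 𝒜 hs s = T 1 := by
  rw [lamR_of_mem 𝒜 hs 1 s hs, mkA_self, map_one, one_mul, Nat.cast_one]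

/-- the homogenization map on the localization. -/
noncomputable def lam : Localization.Away s →+* (HomogeneousLocalization.Away 𝒜 s)[T;T⁻¹] :=
  IsLocalization.Away.lift (S := Localization.Away s)
    (P := (HomogeneousLocalization.Away 𝒜 s)[T;T⁻¹]) s (g := lamR 𝒜 hs) (by
      rw [lamR_s]
      exact isUnit_T 1)

lemma lam_algebraMap (r : R) : lam 𝒜 hs (algebraMap R (Localization.Away s) r) = lamR 𝒜 hs r := by
  unfold lam
  rw [IsLocalization.Away.lift_eq]

/-- `s` as a unit of the localization. -/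
noncomputable def sUnit : (Localization.Away s)ˣ :=
  (IsLocalization.map_units (Localization.Away s)
    (⟨s, Submonoid.mem_powers s⟩ : Submonoid.powers s)).unit

lemma sUnit_val : ((sUnit (s := s) : (Localization.Away s)ˣ) : Localization.Away s) =
    algebraMap R (Localization.Away s) s := rfl

/-- the dehomogenization map. -/
noncomputable def mu : (HomogeneousLocalization.Away 𝒜 s)[T;T⁻¹] →+* Localization.Away s :=
  LaurentPolynomial.eval₂ (algebraMap (HomogeneousLocalization.Away 𝒜 s) (Localization.Away s))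
    sUnit

lemma mk_eq_mul_pow (i : ℕ) (a : R) :
    (Localization.mk a ⟨s ^ i, pow_mem (Submonoid.mem_powers s) i⟩ : Localization.Away s) *
      (algebraMap R (Localization.Away s) s) ^ i = algebraMap R (Localization.Away s) a := by
  rw [← map_pow, ← Localization.mk_one_eq_algebraMap, ← Localization.mk_one_eq_algebraMap,
    Localization.mk_mul, Localization.mk_eq_mk_iff, Localization.r_iff_exists]
  exact ⟨1, by simp [mul_comm]⟩

theorem mu_lamR (r : R) : mu 𝒜 (lamR 𝒜 hs r) = algebraMap R (Localization.Away s) r := by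
  induction r using DirectSum.Decomposition.inductionOn 𝒜 with
  | zero => rw [map_zero, map_zero, map_zero]
  | homogeneous a =>
    rename_i i
    rw [lamR_of_mem 𝒜 hs i a.1 a.2]
    unfold mu
    rw [LaurentPolynomial.eval₂_C_mul_T_n, HomogeneousLocalization.algebraMap_apply, val_mkA,
      sUnit_val]
    exact mk_eq_mul_pow i a.1
  | add a b ha hb => rw [map_add, map_add, ha, hb, map_add]

theorem mu_lam (x : Localization.Away s) : mu 𝒜 (lam 𝒜 hs x) = x := by
  have h : (mu 𝒜).comp (lam 𝒜 hs) = RingHom.id (Localization.Away s) := by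
    apply IsLocalization.ringHom_ext (Submonoid.powers s)
    ext r
    simp only [RingHom.comp_apply, RingHom.id_apply]
    rw [lam_algebraMap, mu_lamR]
  exact congrArg (fun ψ => ψ x) h

lemma unitT_zpow (B : Type*) [CommRing B] (n : ℤ) :
    (((isUnit_T (R := B) 1).unit ^ n : (B[T;T⁻¹])ˣ) : B[T;T⁻¹]) = T n := by
  induction n using Int.induction_on with
  | zero => rw [zpow_zero, Units.val_one, T_zero]
  | succ k ih =>
    rw [zpow_add_one, Units.val_mul, ih, IsUnit.unit_spec, ← T_add]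
  | pred k ih =>
    have hinv : (((isUnit_T (R := B) 1).unit⁻¹ : (B[T;T⁻¹])ˣ) : B[T;T⁻¹]) = T (-1) := by
      apply Units.inv_eq_of_mul_eq_one_right
      rw [IsUnit.unit_spec, ← T_add]
      simp
    rw [zpow_sub_one, Units.val_mul, ih, hinv, ← T_add]
    rfl

lemma lam_sUnit_zpow (n : ℤ) :
    lam 𝒜 hs ((sUnit (s := s) ^ n : (Localization.Away s)ˣ) : Localization.Away s) = T n := by
  have h1 : lam 𝒜 hs (algebraMap R (Localization.Away s) s) = T 1 := by
    rw [lam_algebraMap, lamR_s]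
  have hu : Units.map (lam 𝒜 hs : Localization.Away s →* _) sUnit =
      (isUnit_T (R := HomogeneousLocalization.Away 𝒜 s) 1).unit := by
    apply Units.ext
    rw [Units.coe_map, IsUnit.unit_spec]
    exact h1
  have h2 : lam 𝒜 hs ((sUnit (s := s) ^ n : (Localization.Away s)ˣ) : Localization.Away s) =
      ((Units.map (lam 𝒜 hs : Localization.Away s →* _) sUnit ^ n :
        ((HomogeneousLocalization.Away 𝒜 s)[T;T⁻¹])ˣ) : _) := by
    rw [← map_zpow, Units.coe_map]
    rfl
  rw [h2, hu, unitT_zpow]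

theorem lam_mu (p : (HomogeneousLocalization.Away 𝒜 s)[T;T⁻¹]) : lam 𝒜 hs (mu 𝒜 p) = p := by
  induction p using LaurentPolynomial.induction_on' with
  | add p q hp hq => rw [map_add, map_add, hp, hq]
  | C_mul_T n b =>
    unfold mu
    rw [LaurentPolynomial.eval₂_C_mul_T, map_mul, lam_sUnit_zpow]
    congr 1
    obtain ⟨k, a, ha, rfl⟩ := HomogeneousLocalization.Away.mk_surjective 𝒜 hs b
    have ha' : a ∈ 𝒜 k := by rwa [smul_eq_mul, mul_one] at ha
    rw [HomogeneousLocalization.algebraMap_apply, HomogeneousLocalization.Away.val_mk]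
    have h3 := mk_eq_mul_pow (s := s) k a
    have h4 := congrArg (lam 𝒜 hs) h3
    rw [map_mul, map_pow, lam_algebraMap, lam_algebraMap, lamR_s, lamR_of_mem 𝒜 hs k a ha',
      T_pow, mul_one] at h4
    have h5 : ∀ x y : (HomogeneousLocalization.Away 𝒜 s)[T;T⁻¹], x * T (k : ℤ) = y * T (k : ℤ) →
        x = y := by
      intro x y hxy
      have := congrArg (· * T (-(k : ℤ))) hxy
      simp only [mul_assoc, ← T_add] at this
      simpa using this
    exact h5 _ _ h4

/-- `R[1/s] ≃ R_(s)[T, T⁻¹]`. -/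
noncomputable def awayEquiv :
    Localization.Away s ≃+* (HomogeneousLocalization.Away 𝒜 s)[T;T⁻¹] :=
  RingEquiv.ofRingHom (lam 𝒜 hs) (mu 𝒜)
    (RingHom.ext (lam_mu 𝒜 hs)) (RingHom.ext (mu_lam 𝒜 hs))

include hs in
/-- **Nagata's criterion** for graded domains: unique factorization lifts from the homogeneous
localization at a prime element of degree one. -/
theorem ufd_of_away [IsDomain R] [IsNoetherianRing R] (hp : Prime s)
    (h : UniqueFactorizationMonoid (HomogeneousLocalization.Away 𝒜 s)) :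
    UniqueFactorizationMonoid R := by
  rw [UniqueFactorizationMonoid.iff_localizationAway_of_prime hp]
  haveI : IsDomain (Localization.Away s) :=
    IsLocalization.isDomain_localization (powers_le_nonZeroDivisors_of_noZeroDivisors hp.ne_zero)
  haveI : IsDomain (HomogeneousLocalization.Away 𝒜 s) :=
    Function.Injective.isDomain
      (algebraMap (HomogeneousLocalization.Away 𝒜 s) (Localization.Away s))
      (HomogeneousLocalization.val_injective _)
  haveI : UniqueFactorizationMonoid (Polynomial (HomogeneousLocalization.Away 𝒜 s)) :=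
    inferInstance
  haveI : UniqueFactorizationMonoid (HomogeneousLocalization.Away 𝒜 s)[T;T⁻¹] :=
    UniqueFactorizationMonoid.of_isLocalization
      (Submonoid.powers (Polynomial.X : Polynomial (HomogeneousLocalization.Away 𝒜 s))) _
  exact MulEquiv.uniqueFactorizationMonoid (awayEquiv 𝒜 hs).symm.toMulEquiv inferInstance

end Groth.Agent.Lib.Helper22.GrAway
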