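import Mathlib
import Groth.Agent.Lib.Helper22.GrassBigCell
import Groth.Agent.Lib.Helper22.GrassDehom

/-!
# Standard bitableaux basis of determinantal rings (via Schubert standard monomial theory)
-/

namespace Groth.Agent.Lib.Helper22.Grass

open W4bk4grassmannian MvPolynomial

universe u

section

variable {K : Type u} [Field K] [Infinite K] {m n : ℕ}

/-- index type of standard bitableaux with minors of size `< t`. -/
abbrev BT (m n t : ℕ) : Type := Σ k : ℕ, {c : Fin k → MinorIdx m n //
  (∀ i, (c i).1 + 1 ≤ t - 1) ∧ ∀ i j, i < j → MinorGE (c i) (c j)}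

lemma PhiM_ne_iota (hdn : n < n + m) (M : MinorIdx m n) : PhiM M ≠ iotaIdx hdn := by
  intro h
  obtain ⟨j, hj⟩ := PhiM_last_ge M
  rw [h] at hj
  simp only [iotaIdx] at hj
  have := j.isLt
  omega

/-- the chain associated with a standard bitableau. -/
noncomputable def toE (hdn : n < n + m) (t : ℕ) (ht : 1 ≤ t) (htm : t ≤ m + 1) (c : BT m n t) :
    ChR hdn (wIdx m n t ht htm) :=
  ⟨⟨c.1, fun i => PhiM (c.2.1 (Fin.rev i)), by
      intro a b hab
      rcases eq_or_lt_of_le hab with h | h
      · rw [h]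
      · exact (PhiM_le_iff _ _).2 (c.2.2.2 _ _ (Fin.rev_lt_rev.2 h)), ⟨0, fun k =>
        (PhiM_le_wIdx_iff t ht htm _).2 (c.2.2.1 _)⟩⟩,
    fun k => PhiM_ne_iota hdn _⟩

lemma toE_injective (hdn : n < n + m) (t : ℕ) (ht : 1 ≤ t) (htm : t ≤ m + 1) :
    Function.Injective (toE hdn t ht htm) := by
  rintro ⟨k, c, hc⟩ ⟨k', c', hc'⟩ h
  have h1 := congrArg Subtype.val h
  simp only [toE] at h1
  have hk : k = k' := congrArg Sigma.fst h1
  subst hk
  have h2 := eq_of_heq (Sigma.mk.inj h1).2
  have h3 := congrArg Subtype.val h2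
  simp only at h3
  have : c = c' := by
    funext i
    have := congrFun h3 (Fin.rev i)
    simp only [Fin.rev_rev] at this
    exact PhiM_injective this
  subst this
  rfl

lemma toE_surjective (hn : 0 < n) (hdn : n < n + m) (t : ℕ) (ht : 1 ≤ t) (htm : t ≤ m + 1) :
    Function.Surjective (toE hdn t ht htm) := by
  rintro ⟨⟨k, c', hanti, ⟨i0, hle⟩⟩, hne⟩
  have hex : ∀ j : Fin k, ∃ M : MinorIdx m n, PhiM M = c' j := by
    intro j
    refine exists_PhiM_eq (c' j) ⟨⟨n - 1, by omega⟩, ?_⟩
    exact last_ge_of_ne_iota hdn (c' j) (hne j) ⟨n - 1, by omega⟩ (by simp; omega)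
  choose Mf hMf using hex
  refine ⟨⟨k, fun i => Mf (Fin.rev i), ?_, ?_⟩, ?_⟩
  · intro i
    rw [← PhiM_le_wIdx_iff t ht htm, hMf]
    exact hle _
  · intro i j hij
    rw [← PhiM_le_iff, hMf, hMf]
    exact hanti (Fin.rev_le_rev.2 hij.le)
  · apply Subtype.ext
    simp only [toE]
    refine Sigma.ext rfl (heq_of_eq (Subtype.ext ?_))
    funext i
    simp only [Fin.rev_rev]
    exact hMf i

/-- the sign relating the product of minors to the image of the standard monomial. -/
noncomputable def signBT {t : ℕ} (c : BT m n t) : Kˣ :=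
  (-1 : Kˣ) ^ (∑ i, invCount n (n + m) (tupM (c.2.1 i)))

lemma minorOf_eq (M : MinorIdx m n) :
    minorOf K M = (-1 : MvPolynomial (Fin m × Fin n) K) ^ invCount n (n + m) (tupM M) *
      Θc K m n (X (PhiM M)) := by
  have h1 : Θc K m n (coord K n (n + m) (tupM M)) = minorOf K M :=
    Θc_coord_tupFG M.2.1.1 M.2.2.1 M.2.2.2.injective
  rw [← h1]
  unfold coord
  rw [dif_pos (card_image_tupM M), map_mul, map_pow, map_neg, map_one]
  rfl

lemma prod_minorOf_eq {t : ℕ} (hdn : n < n + m) (ht : 1 ≤ t) (htm : t ≤ m + 1) (c : BT m n t) :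
    (∏ i, minorOf K (c.2.1 i)) = ((signBT c : Kˣ) : K) •
      Θc K m n (chainMon K (toE hdn t ht htm c).1.2.1) := by
  have h1 : chainMon K (toE hdn t ht htm c).1.2.1 = ∏ i, X (PhiM (c.2.1 i)) := by
    unfold chainMon
    simp only [toE]
    exact Equiv.prod_comp Fin.revPerm (fun i => (X (PhiM (c.2.1 i)) : PlRing K n (n + m)))
  rw [h1, map_prod]
  simp_rw [minorOf_eq]
  rw [Finset.prod_mul_distrib, Finset.prod_pow_eq_pow_sum, Algebra.smul_def]
  congr 1
  simp [signBT]

end

section Main

variable (K : Type u) [Field K] [Infinite K] {m n : ℕ}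

theorem bitableaux_basis (hm : 0 < m) (hn : 0 < n) (t : ℕ) (ht : 1 ≤ t) (htm : t ≤ m + 1) :
    LinearIndependent K (fun c : BT m n t =>
        Ideal.Quotient.mk (CAlgX.minorIdeal (genMatrix K m n) t)
          (Finset.univ.prod fun i => minorOf K (c.2.1 i))) ∧
      Submodule.span K (Set.range fun c : BT m n t =>
        Ideal.Quotient.mk (CAlgX.minorIdeal (genMatrix K m n) t)
          (Finset.univ.prod fun i => minorOf K (c.2.1 i))) = ⊤ := by
  classical
  have hdn : n < n + m := by omega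
  set w := wIdx m n t ht htm with hw
  set It := CAlgX.minorIdeal (genMatrix K m n) t with hIt
  have hIJ : Qw K hdn w ≤ It.comap (Θc K m n) := fun f hf => Θc_mem_minorIdeal hm hn t ht htm f hf
  let Θbar : (PlRing K n (n + m) ⧸ Qw K hdn w) →ₐ[K] (MvPolynomial (Fin m × Fin n) K ⧸ It) :=
    Ideal.quotientMapₐ It (Θc K m n) hIJ
  have hΘbar : ∀ f, Θbar (Ideal.Quotient.mk _ f) = Ideal.Quotient.mk It (Θc K m n f) :=
    fun f => rfl
  have hinj : Function.Injective Θbar := by
    rw [injective_iff_map_eq_zero]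
    intro a ha
    obtain ⟨f, rfl⟩ := Ideal.Quotient.mk_surjective a
    rw [hΘbar, Ideal.Quotient.eq_zero_iff_mem] at ha
    rw [Ideal.Quotient.eq_zero_iff_mem]
    exact mem_Qw_of_Θc_mem hm t ht htm f ha
  have hsurj : Function.Surjective Θbar := by
    intro y
    obtain ⟨g, rfl⟩ := Ideal.Quotient.mk_surjective y
    obtain ⟨f, rfl⟩ := Θc_surjective (K := K) (m := m) (n := n) g
    exact ⟨Ideal.Quotient.mk _ f, hΘbar f⟩
  -- the family G
  set G : ChR hdn w → (MvPolynomial (Fin m × Fin n) K ⧸ It) := fun e =>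
    Ideal.Quotient.mk It (Θc K m n (chainMon K e.1.2.1)) with hG
  have hGeq : G = Θbar.toLinearMap ∘ (fun e : ChR hdn w =>
      Ideal.Quotient.mk (Qw K hdn w) (chainMon K e.1.2.1)) := by
    funext e
    rfl
  have hGli : LinearIndependent K G := by
    rw [hGeq]
    refine (linearIndependent_dehom K hn hdn w).map' _ ?_
    exact LinearMap.ker_eq_bot.2 hinj
  have hGspan : Submodule.span K (Set.range G) = ⊤ := by
    rw [hGeq, Set.range_comp, ← Submodule.map_span, span_dehom K hdn w, Submodule.map_top]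
    exact LinearMap.range_eq_top.2 hsurj
  -- the family F
  have hF : (fun c : BT m n t => Ideal.Quotient.mk It
      (Finset.univ.prod fun i => minorOf K (c.2.1 i))) =
      (fun c : BT m n t => signBT (K := K) c) • (G ∘ toE hdn t ht htm) := by
    funext c
    rw [prod_minorOf_eq hdn ht htm c]
    simp only [Pi.smul_apply', Function.comp_apply, hG]
    rfl
  refine ⟨?_, ?_⟩
  · rw [hF]
    exact (hGli.comp _ (toE_injective hdn t ht htm)).units_smul _
  · rw [eq_top_iff, ← hGspan, Submodule.span_le]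
    rintro _ ⟨e, rfl⟩
    obtain ⟨c, rfl⟩ := toE_surjective hn hdn t ht htm e
    have h1 : G (toE hdn t ht htm c) = ((signBT (K := K) c)⁻¹ : Kˣ) •
        (fun c : BT m n t => Ideal.Quotient.mk It
          (Finset.univ.prod fun i => minorOf K (c.2.1 i))) c := by
      rw [hF]
      simp only [Pi.smul_apply', Function.comp_apply, inv_smul_smul]
    rw [h1]
    exact Submodule.smul_mem _ _ (Submodule.subset_span ⟨c, rfl⟩)

end Main

end Groth.Agent.Lib.Helper22.Grass
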