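import Mathlib
import Groth.Agent.Lib.Helper22.GrassPrime

/-!
# The first fundamental theorem of invariant theory for `SL_d`
-/

namespace Groth.Agent.Lib.Helper22.Grass

open W4bk4grassmannian MvPolynomial

universe u

section Saturation

variable {K : Type u} [Field K] {d n : ℕ}

lemma coeff_mul_of_LT {Δ g : MatRing K d n} {μ₀ : Fin n × Fin d →₀ ℕ} (hΔ : LT Δ μ₀) (W : ℕ)
    (hg : ∀ ν, W < wt ν → coeff ν g = 0) (ν : Fin n × Fin d →₀ ℕ) (hν : wt μ₀ + W ≤ wt ν) :
    coeff ν (Δ * g) = if μ₀ ≤ ν then coeff (ν - μ₀) g else 0 := by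
  classical
  rw [MvPolynomial.coeff_mul]
  have key : ∀ x ∈ Finset.HasAntidiagonal.antidiagonal ν,
      coeff x.1 Δ * coeff x.2 g = if x.1 = μ₀ then coeff x.2 g else 0 := by
    intro x hx
    rw [Finset.HasAntidiagonal.mem_antidiagonal] at hx
    have hw : wt x.1 + wt x.2 = wt ν := by rw [← map_add, hx]
    by_cases h2 : W < wt x.2
    · rw [hg _ h2, mul_zero]
      split_ifs <;> rfl
    · have h1 : wt μ₀ ≤ wt x.1 := by omega
      rw [hΔ x.1 h1]
      by_cases e : μ₀ = x.1
      · rw [if_pos e, if_pos e.symm, one_mul]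
      · rw [if_neg e, if_neg (fun h => e h.symm), zero_mul]
  rw [Finset.sum_congr rfl key]
  by_cases hle : μ₀ ≤ ν
  · rw [if_pos hle, Finset.sum_eq_single (μ₀, ν - μ₀)]
    · rw [if_pos rfl]
    · intro x hx hne
      rw [Finset.HasAntidiagonal.mem_antidiagonal] at hx
      rw [if_neg]
      intro h1
      apply hne
      apply Prod.ext h1
      simp only
      rw [← hx, h1, add_tsub_cancel_left]
    · intro h
      exfalso
      apply h
      rw [Finset.HasAntidiagonal.mem_antidiagonal]
      exact add_tsub_cancel_of_le hle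
  · rw [if_neg hle]
    refine Finset.sum_eq_zero (fun x hx => ?_)
    rw [Finset.HasAntidiagonal.mem_antidiagonal] at hx
    rw [if_neg]
    intro h1
    apply hle
    rw [← hx, h1]
    exact le_self_add

/-- coefficients of a combination of polynomials with distinct leading monomials. -/
lemma coeff_sum_of_LT {ι : Type*} (p : ι → MatRing K d n) (δ : ι → (Fin n × Fin d →₀ ℕ))
    (hLT : ∀ i, LT (p i) (δ i)) (a : ι →₀ K) (ν : Fin n × Fin d →₀ ℕ)
    (hν : ∀ i ∈ a.support, wt (δ i) ≤ wt ν) :
    coeff ν (a.sum fun i c => c • p i) = ∑ i ∈ a.support, a i * (if δ i = ν then 1 else 0) := by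
  unfold Finsupp.sum
  rw [MvPolynomial.coeff_sum]
  refine Finset.sum_congr rfl (fun i hi => ?_)
  rw [MvPolynomial.coeff_smul, hLT i ν (hν i hi), smul_eq_mul]

/-- **saturation**: if multiplication by `Δ` permutes a family with distinct leading monomials
compatibly, then the span of the family is `Δ`-saturated. -/
theorem saturation {ι : Type*} (p : ι → MatRing K d n) (δ : ι → (Fin n × Fin d →₀ ℕ))
    (hδ : Function.Injective δ) (hLT : ∀ i, LT (p i) (δ i))
    (Δ : MatRing K d n) (μ₀ : Fin n × Fin d →₀ ℕ) (hΔ : LT Δ μ₀) (σ : ι → ι)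
    (hσp : ∀ i, Δ * p i = p (σ i)) (hσδ : ∀ i, δ (σ i) = δ i + μ₀)
    (hdiv : ∀ j, μ₀ ≤ δ j → ∃ i, σ i = j) :
    ∀ (W : ℕ) (g : MatRing K d n), (∀ ν, W ≤ wt ν → coeff ν g = 0) →
      Δ * g ∈ Submodule.span K (Set.range p) → g ∈ Submodule.span K (Set.range p) := by
  classical
  intro W
  induction W with
  | zero =>
    intro g hg _
    have : g = 0 := by
      ext ν
      rw [hg ν (Nat.zero_le _), MvPolynomial.coeff_zero]
    rw [this]
    exact Submodule.zero_mem _
  | succ W ih =>
    intro g hg hmem
    have hg' : ∀ ν, W < wt ν → coeff ν g = 0 := fun ν h => hg ν h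
    obtain ⟨a, ha⟩ := Finsupp.mem_span_range_iff_exists_finsupp.1 hmem
    -- all leading weights are bounded
    have hbound : ∀ i ∈ a.support, wt (δ i) ≤ wt μ₀ + W := by
      by_contra hcon
      push Not at hcon
      obtain ⟨i₁, hi₁, hi₁W⟩ := hcon
      obtain ⟨i₀, hi₀, hmax⟩ := Finset.exists_max_image a.support (fun i => wt (δ i)) ⟨i₁, hi₁⟩
      have hi₀W : wt μ₀ + W < wt (δ i₀) := lt_of_lt_of_le hi₁W (hmax i₁ hi₁)
      have h1 := coeff_sum_of_LT p δ hLT a (δ i₀) hmax
      rw [ha, coeff_mul_of_LT hΔ W hg' (δ i₀) hi₀W.le] at h1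
      have h2 : ∑ i ∈ a.support, a i * (if δ i = δ i₀ then 1 else 0) = a i₀ := by
        rw [Finset.sum_eq_single i₀]
        · rw [if_pos rfl, mul_one]
        · intro i _ hne
          rw [if_neg (fun h => hne (hδ h)), mul_zero]
        · intro h
          exact absurd hi₀ h
      rw [h2] at h1
      have h3 : a i₀ ≠ 0 := Finsupp.mem_support_iff.1 hi₀
      apply h3
      rw [← h1]
      split_ifs with hle
      · apply hg'
        have : wt (δ i₀ - μ₀) + wt μ₀ = wt (δ i₀) := by
          rw [← map_add, tsub_add_cancel_of_le hle]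
        omega
      · rfl
    -- coefficients at high weight
    have hcoeff : ∀ ν, wt μ₀ + W ≤ wt ν →
        (if μ₀ ≤ ν then coeff (ν - μ₀) g else 0) =
          ∑ i ∈ a.support, a i * (if δ i = ν then 1 else 0) := by
      intro ν hν
      rw [← coeff_mul_of_LT hΔ W hg' ν hν, ← ha]
      exact coeff_sum_of_LT p δ hLT a ν (fun i hi => le_trans (hbound i hi) hν)
    set T := a.support.filter (fun i => wt μ₀ + W ≤ wt (δ i)) with hT
    have hTdiv : ∀ i ∈ T, ∃ j, σ j = i := by
      intro i hi
      rw [hT, Finset.mem_filter] at hi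
      apply hdiv
      by_contra hle
      have h1 := hcoeff (δ i) hi.2
      rw [if_neg hle] at h1
      have h2 : ∑ i' ∈ a.support, a i' * (if δ i' = δ i then 1 else 0) = a i := by
        rw [Finset.sum_eq_single i]
        · rw [if_pos rfl, mul_one]
        · intro i' _ hne
          rw [if_neg (fun h => hne (hδ h)), mul_zero]
        · intro h
          exact absurd hi.1 h
      rw [h2] at h1
      exact (Finsupp.mem_support_iff.1 hi.1) h1.symm
    -- choose preimages
    have hex : ∀ i : ι, ∃ j, i ∈ T → σ j = i := by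
      intro i
      by_cases hi : i ∈ T
      · obtain ⟨j, hj⟩ := hTdiv i hi
        exact ⟨j, fun _ => hj⟩
      · exact ⟨i, fun h => absurd h hi⟩
    choose jf hjf using hex
    set g' := g - ∑ i ∈ T, a i • p (jf i) with hg'def
    have hsub : ∑ i ∈ T, a i • p (jf i) ∈ Submodule.span K (Set.range p) :=
      Submodule.sum_mem _ (fun i _ => Submodule.smul_mem _ _ (Submodule.subset_span ⟨_, rfl⟩))
    have hg'mem : Δ * g' ∈ Submodule.span K (Set.range p) := by
      rw [hg'def, mul_sub]
      refine Submodule.sub_mem _ hmem ?_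
      rw [Finset.mul_sum]
      refine Submodule.sum_mem _ (fun i hi => ?_)
      rw [mul_smul_comm, hσp, hjf i hi]
      exact Submodule.smul_mem _ _ (Submodule.subset_span ⟨_, rfl⟩)
    have hg'below : ∀ ν, W ≤ wt ν → coeff ν g' = 0 := by
      intro ν hν
      rw [hg'def, MvPolynomial.coeff_sub, MvPolynomial.coeff_sum, sub_eq_zero]
      have h1 := hcoeff (ν + μ₀) (by rw [map_add]; omega)
      rw [if_pos le_add_self, add_tsub_cancel_right] at h1
      rw [h1]
      have h2 : ∑ i ∈ a.support, a i * (if δ i = ν + μ₀ then 1 else 0) =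
          ∑ i ∈ T, a i * (if δ i = ν + μ₀ then 1 else 0) := by
        rw [hT, Finset.sum_filter]
        refine Finset.sum_congr rfl (fun i _ => ?_)
        by_cases h : wt μ₀ + W ≤ wt (δ i)
        · rw [if_pos h]
        · rw [if_neg h, if_neg, mul_zero]
          intro h'
          apply h
          rw [h', map_add]
          omega
      rw [h2]
      refine Finset.sum_congr rfl (fun i hi => ?_)
      have hδi : δ i = δ (jf i) + μ₀ := by rw [← hσδ, hjf i hi]
      have hwi : wt (δ (jf i)) = W := by
        have h3 := (Finset.mem_filter.1 (hT ▸ hi))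
        have h4 := hbound i h3.1
        have h5 := h3.2
        rw [hδi, map_add] at h4 h5
        omega
      rw [MvPolynomial.coeff_smul, hLT (jf i) ν (by omega), smul_eq_mul, hδi]
      congr 1
      by_cases e : δ (jf i) = ν
      · rw [if_pos e, if_pos (by rw [e])]
      · rw [if_neg e, if_neg (fun h => e (add_right_cancel h))]
    have := ih g' hg'below hg'mem
    have hgeq : g = g' + ∑ i ∈ T, a i • p (jf i) := by rw [hg'def]; ring
    rw [hgeq]
    exact Submodule.add_mem _ this hsub

end Saturation

section Std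

variable (K : Type u) [Field K] {d n : ℕ}

/-- the generic `n × d` matrix. -/
noncomputable def genX (d n : ℕ) : Matrix (Fin n) (Fin d) (MatRing K d n) :=
  Matrix.of fun i j => X (i, j)

lemma minor_eq_det (a : Fin d → Fin n) :
    minor K d n a = ((genX K d n).submatrix a id).det := rfl

lemma pluckerMap_eq_evalL : pluckerMap K d n = evalL (K := K) (genX K d n) := rfl

/-- the minor of the generic matrix on rows `θ` has the diagonal monomial as its monomial of
largest weight. -/
lemma LT_minor_full (θ : Idx d n) : LT (minor K d n θ.1) (diag θ) := by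
  classical
  intro ν hν
  unfold minor
  rw [Matrix.det_apply, MvPolynomial.coeff_sum]
  rw [Finset.sum_eq_single (1 : Equiv.Perm (Fin d))]
  · rw [Equiv.Perm.sign_one, one_smul]
    have : ∏ i, (Matrix.of fun s t : Fin d => (X (θ.1 s, t) : MatRing K d n))
        ((1 : Equiv.Perm (Fin d)) i) i = monomial (diag θ) 1 := by
      unfold diag
      rw [← prod_X_eq_monomial]
      rfl
    rw [this, MvPolynomial.coeff_monomial]
  · intro σ _ hσ
    have hterm : ∏ i, (Matrix.of fun s t : Fin d => (X (θ.1 s, t) : MatRing K d n)) (σ i) i =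
        monomial (∑ t, Finsupp.single (θ.1 (σ t), t) 1) 1 := by
      rw [← prod_X_eq_monomial]
      rfl
    have hlt : wt (∑ t, Finsupp.single (θ.1 (σ t), t) 1) < wt (diag θ) := by
      unfold diag
      rw [wt_sum_single, wt_sum_single]
      exact sum_perm_mul_lt (fun t => (θ.1 t).val) (fun a b hab => Fin.lt_def.1 (θ.2 hab)) σ hσ
    have hne : ∑ t, Finsupp.single (θ.1 (σ t), t) 1 ≠ ν := by
      intro hh
      rw [hh] at hlt
      omega
    rw [hterm]
    rcases Int.units_eq_one_or (Equiv.Perm.sign σ) with hs | hs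
    · rw [hs, one_smul, MvPolynomial.coeff_monomial, if_neg hne]
    · rw [hs, Units.neg_smul, one_smul, MvPolynomial.coeff_neg, MvPolynomial.coeff_monomial,
        if_neg hne, neg_zero]
  · intro h1
    exact absurd (Finset.mem_univ _) h1

/-- all chains. -/
abbrev SC (d n : ℕ) : Type := Σ m : ℕ, {c : Fin m → Idx d n // Antitone c}

/-- the standard monomial in the minors. -/
noncomputable def pSC (c : SC d n) : MatRing K d n := ∏ k, minor K d n (c.2.1 k).1

lemma pluckerMap_chainMon {m : ℕ} (c : Fin m → Idx d n) :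
    pluckerMap K d n (chainMon K c) = ∏ k, minor K d n (c k).1 := by
  unfold chainMon pluckerMap
  rw [map_prod]
  simp only [aeval_X]

lemma LT_pSC (c : SC d n) : LT (pSC K c) (delta c.2.1) :=
  LT.prod Finset.univ _ _ (fun k _ => LT_minor_full K (c.2.1 k))

variable {K}

lemma delta_SC_injective (hd : 0 < d) : Function.Injective (fun c : SC d n => delta c.2.1) := by
  rintro ⟨m, c, hc⟩ ⟨m', c', hc'⟩ h
  simp only at h
  have hm : m = m' := by
    have h1 := delta_degree c
    have h2 := delta_degree c'
    rw [h, h2] at h1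
    exact (Nat.eq_of_mul_eq_mul_right hd h1).symm
  subst hm
  have := delta_inj c c' hc hc' h
  subst this
  rfl

/-- appending the bottom element. -/
def snocSC (hdn : d < n) (c : SC d n) : SC d n :=
  ⟨c.1 + 1, Fin.snoc c.2.1 (iotaIdx hdn), by
    intro a b hab
    induction b using Fin.lastCases with
    | last =>
      rw [Fin.snoc_last]
      exact iotaIdx_le hdn _
    | cast b =>
      induction a using Fin.lastCases with
      | last =>
        exfalso
        have h1 := Fin.le_def.1 hab
        simp only [Fin.val_last, Fin.val_castSucc] at h1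
        have := b.isLt
        omega
      | cast a =>
        rw [Fin.snoc_castSucc, Fin.snoc_castSucc]
        exact c.2.2 (Fin.castSucc_le_castSucc_iff.1 hab)⟩

variable (K)

lemma pSC_snocSC (hdn : d < n) (c : SC d n) :
    minor K d n (iotaIdx hdn).1 * pSC K c = pSC K (snocSC hdn c) := by
  unfold pSC
  show _ = ∏ k : Fin (c.1 + 1), minor K d n
    ((Fin.snoc c.2.1 (iotaIdx hdn) : Fin (c.1 + 1) → Idx d n) k).1
  rw [Fin.prod_univ_castSucc]
  simp only [Fin.snoc_castSucc, Fin.snoc_last]
  rw [mul_comm]

variable {K}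

lemma delta_snocSC (hdn : d < n) (c : SC d n) :
    delta (snocSC hdn c).2.1 = delta c.2.1 + diag (iotaIdx hdn) := by
  unfold delta
  show ∑ k : Fin (c.1 + 1), diag ((Fin.snoc c.2.1 (iotaIdx hdn) : Fin (c.1 + 1) → Idx d n) k) = _
  rw [Fin.sum_univ_castSucc]
  simp only [Fin.snoc_castSucc, Fin.snoc_last]

lemma diag_apply_self (θ : Idx d n) (t : Fin d) : diag θ (θ.1 t, t) = 1 := by
  classical
  have h1 : diag θ = delta (fun _ : Fin 1 => θ) := by
    unfold delta
    rw [Fin.sum_univ_one]
  rw [h1, delta_apply]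
  simp

lemma exists_snocSC_of_le (hd : 0 < d) (hdn : d < n) (c : SC d n)
    (h : diag (iotaIdx hdn) ≤ delta c.2.1) : ∃ c', snocSC hdn c' = c := by
  classical
  obtain ⟨m, c, hc⟩ := c
  simp only at h
  have hex : ∀ t : Fin d, ∃ k, (c k).1 t = (iotaIdx hdn).1 t := by
    intro t
    have h1 := h ((iotaIdx hdn).1 t, t)
    rw [diag_apply_self, delta_apply] at h1
    obtain ⟨k, hk⟩ := Finset.card_pos.1 h1
    exact ⟨k, (Finset.mem_filter.1 hk).2⟩
  cases m with
  | zero =>
    obtain ⟨k, -⟩ := hex ⟨0, hd⟩
    exact k.elim0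
  | succ m' =>
    have hlast : c (Fin.last m') = iotaIdx hdn := by
      apply le_antisymm _ (iotaIdx_le hdn _)
      intro t
      obtain ⟨k, hk⟩ := hex t
      rw [← hk]
      exact hc (Fin.le_last k) t
    refine ⟨⟨m', Fin.init c, fun a b hab => hc (Fin.castSucc_le_castSucc_iff.2 hab)⟩, ?_⟩
    unfold snocSC
    simp only
    refine Sigma.ext rfl (heq_of_eq (Subtype.ext ?_))
    simp only
    rw [← hlast]
    exact Fin.snoc_init_self c

/-- the span of the standard monomials is the range of the Plücker map. -/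
theorem mem_span_pSC_iff (f : MatRing K d n) :
    f ∈ Submodule.span K (Set.range (pSC K (d := d) (n := n))) ↔
      f ∈ (pluckerMap K d n).range := by
  constructor
  · intro hf
    refine Submodule.span_le (p := Subalgebra.toSubmodule (pluckerMap K d n).range) |>.2 ?_ hf
    rintro _ ⟨c, rfl⟩
    exact ⟨chainMon K c.2.1, pluckerMap_chainMon K c.2.1⟩
  · rintro ⟨F, rfl⟩
    have h1 : InT K F := InT_all F
    unfold InT stdSpan at h1
    have hker : ∀ a ∈ plIdealTop (d := d) (n := n) K, pluckerMap K d n a = 0 := by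
      intro a ha
      have := plIdealTop_le_ker (K := K) (M := genX K d n) ha
      exact this
    set lift := Ideal.Quotient.liftₐ (plIdealTop (d := d) (n := n) K) (pluckerMap K d n) hker
      with hlift
    have h2 := Submodule.apply_mem_span_image_of_mem_span lift.toLinearMap h1
    have h3 : lift.toLinearMap (Ideal.Quotient.mk _ F) = pluckerMap K d n F := by
      show lift (Ideal.Quotient.mk _ F) = _
      rw [hlift, Ideal.Quotient.liftₐ_apply]
      rfl
    rw [h3] at h2
    refine Submodule.span_mono ?_ h2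
    rintro _ ⟨_, ⟨c, rfl⟩, rfl⟩
    refine ⟨c, ?_⟩
    show _ = lift (Ideal.Quotient.mk _ _)
    rw [hlift, Ideal.Quotient.liftₐ_apply]
    exact (pluckerMap_chainMon K c.2.1).symm

/-- the subalgebra of the minors is saturated with respect to the bottom minor. -/
theorem saturated_minor (hd : 0 < d) (hdn : d < n) (g : MatRing K d n)
    (h : minor K d n (iotaIdx hdn).1 * g ∈ (pluckerMap K d n).range) :
    g ∈ (pluckerMap K d n).range := by
  rw [← mem_span_pSC_iff] at h ⊢
  classical
  obtain ⟨W, hW⟩ : ∃ W : ℕ, ∀ ν, W ≤ wt ν → coeff ν g = 0 := by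
    refine ⟨g.support.sup (fun ν => wt ν) + 1, fun ν hν => ?_⟩
    by_contra hne
    have := Finset.le_sup (f := fun ν => wt ν) (MvPolynomial.mem_support_iff.2 hne)
    omega
  exact saturation (pSC K) (fun c => delta c.2.1) (delta_SC_injective hd) (LT_pSC K)
    (minor K d n (iotaIdx hdn).1) (diag (iotaIdx hdn)) (LT_minor_full K _) (snocSC hdn)
    (pSC_snocSC K hdn) (delta_snocSC hdn) (exists_snocSC_of_le hd hdn) W g hW h

end Std

section Invariance

variable (K : Type u) [Field K] {d n : ℕ}

/-- a matrix acting on points of the space of `n × d` matrices. -/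
def ptMul (a : Fin n × Fin d → K) (g : Matrix (Fin d) (Fin d) K) : Fin n × Fin d → K :=
  fun p => ∑ k, a (p.1, k) * g k p.2

variable {K}

lemma eval_rightTranslate (g : Matrix.SpecialLinearGroup (Fin d) K) (a : Fin n × Fin d → K)
    (f : MatRing K d n) :
    MvPolynomial.eval a (rightTranslate K d n g f) = MvPolynomial.eval (ptMul K a g.1) f := by
  have : (MvPolynomial.eval a).comp (rightTranslate K d n g).toRingHom =
      MvPolynomial.eval (ptMul K a g.1) := by
    apply MvPolynomial.ringHom_ext
    · intro r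
      simp [rightTranslate]
    · intro p
      simp [rightTranslate, ptMul]
  exact congrArg (fun φ : MatRing K d n →+* K => φ f) this

lemma rightTranslate_minor (g : Matrix.SpecialLinearGroup (Fin d) K) (a : Fin d → Fin n) :
    rightTranslate K d n g (minor K d n a) = minor K d n a := by
  unfold minor
  rw [AlgHom.map_det]
  have : (rightTranslate K d n g).mapMatrix
      (Matrix.of fun s t : Fin d => (X (a s, t) : MatRing K d n)) =
      (Matrix.of fun s t : Fin d => (X (a s, t) : MatRing K d n)) *
        (g.1.map (C : K →+* MatRing K d n)) := by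
    ext s t
    simp [rightTranslate, Matrix.mul_apply]
  rw [this, Matrix.det_mul]
  have h2 : (g.1.map (C : K →+* MatRing K d n)).det = 1 := by
    have := (RingHom.map_det (C : K →+* MatRing K d n) g.1).symm
    rw [RingHom.mapMatrix_apply] at this
    rw [this, g.2, map_one]
  rw [h2, mul_one]

lemma rightTranslate_of_mem_range (g : Matrix.SpecialLinearGroup (Fin d) K) (f : MatRing K d n)
    (hf : f ∈ (pluckerMap K d n).range) : rightTranslate K d n g f = f := by
  obtain ⟨F, rfl⟩ := hf
  have : (rightTranslate K d n g).comp (pluckerMap K d n) = pluckerMap K d n := by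
    apply MvPolynomial.algHom_ext
    intro θ
    rw [AlgHom.comp_apply]
    unfold pluckerMap
    rw [aeval_X]
    exact rightTranslate_minor g θ.1
  exact congrArg (fun φ : PlRing K d n →ₐ[K] MatRing K d n => φ F) this

lemma minor_mem_range (a : Fin d → Fin n) : minor K d n a ∈ (pluckerMap K d n).range := by
  refine ⟨coord K d n a, ?_⟩
  show evalL (K := K) (genX K d n) (coord K d n a) = _
  rw [evalL_coord]
  rfl

variable (K)

/-- the top block of the generic matrix. -/
noncomputable abbrev genT (hdn : d < n) : Matrix (Fin d) (Fin d) (MatRing K d n) :=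
  (genX K d n).submatrix (iotaIdx hdn).1 id

/-- the matrix `𝕏 · adj(𝕋)`. -/
noncomputable def genY (hdn : d < n) : Matrix (Fin n) (Fin d) (MatRing K d n) :=
  genX K d n * (genT K hdn).adjugate

variable {K}

lemma sum_mul_adjugate {R : Type*} [CommRing R] (A : Matrix (Fin d) (Fin d) R) (b : Fin d → R)
    (j : Fin d) : ∑ k, b k * A.adjugate k j = (A.updateRow j b).det := by
  rw [← Matrix.cramer_transpose_apply, Matrix.cramer_eq_adjugate_mulVec, ← Matrix.adjugate_transpose]
  rw [Matrix.mulVec, dotProduct]
  refine Finset.sum_congr rfl (fun k _ => ?_)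
  rw [Matrix.transpose_apply, mul_comm]

lemma genY_apply (hdn : d < n) (i : Fin n) (j : Fin d) :
    genY K hdn i j = minor K d n (Function.update (iotaIdx hdn).1 j i) := by
  unfold genY
  rw [Matrix.mul_apply, sum_mul_adjugate, minor_eq_det]
  congr 1
  ext s t
  by_cases h : s = j
  · subst h
    simp [Matrix.updateRow_self, genX]
  · simp [Matrix.updateRow_ne h, Function.update_of_ne h, genX]

lemma genY_mem_range (hdn : d < n) (i : Fin n) (j : Fin d) :
    genY K hdn i j ∈ (pluckerMap K d n).range := by
  rw [genY_apply]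
  exact minor_mem_range _

/-- the matrix of a point. -/
def Amat (a : Fin n × Fin d → K) : Matrix (Fin n) (Fin d) K := Matrix.of fun i j => a (i, j)

lemma eval_minor_iota (hdn : d < n) (a : Fin n × Fin d → K) :
    MvPolynomial.eval a (minor K d n (iotaIdx hdn).1) =
      ((Amat a).submatrix (iotaIdx hdn).1 id).det := by
  rw [minor_eq_det, RingHom.map_det]
  congr 1
  ext s t
  simp [genX, Amat]

lemma eval_genY (hdn : d < n) (a : Fin n × Fin d → K) (i : Fin n) (j : Fin d) :
    MvPolynomial.eval a (genY K hdn i j) =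
      (Amat a * ((Amat a).submatrix (iotaIdx hdn).1 id).adjugate) i j := by
  unfold genY
  rw [Matrix.mul_apply, Matrix.mul_apply, map_sum]
  refine Finset.sum_congr rfl (fun k _ => ?_)
  rw [map_mul]
  congr 1
  · simp [genX, Amat]
  · have h1 := RingHom.map_adjugate (MvPolynomial.eval a) (genT K hdn)
    have h2 : (MvPolynomial.eval a).mapMatrix (genT K hdn) =
        (Amat a).submatrix (iotaIdx hdn).1 id := by
      ext s t
      simp [genX, Amat]
    rw [h2] at h1
    rw [← h1]
    rfl

/-- the generic element of `SL_d` bringing a point with nonzero bottom minor to normal form. -/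
noncomputable def normSL (hd : 0 < d) (T : Matrix (Fin d) (Fin d) K) (hT : T.det ≠ 0) :
    Matrix.SpecialLinearGroup (Fin d) K :=
  ⟨T⁻¹ * Matrix.diagonal (fun j : Fin d => if j = ⟨0, hd⟩ then T.det else 1), by
    rw [Matrix.det_mul, Matrix.det_nonsing_inv, Matrix.det_diagonal, Finset.prod_ite_eq']
    simp only [Finset.mem_univ, if_true]
    rw [Ring.inverse_eq_inv', inv_mul_cancel₀ hT]⟩

lemma ptMul_normSL (hd : 0 < d) (hdn : d < n) (a : Fin n × Fin d → K)
    (hT : ((Amat a).submatrix (iotaIdx hdn).1 id).det ≠ 0) (p : Fin n × Fin d) :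
    ptMul K a (normSL hd _ hT).1 p = MvPolynomial.eval a (genY K hdn p.1 p.2) *
      (if p.2 = ⟨0, hd⟩ then 1 else (((Amat a).submatrix (iotaIdx hdn).1 id).det)⁻¹) := by
  set T := (Amat a).submatrix (iotaIdx hdn).1 id with hTdef
  have h1 : ptMul K a (normSL hd _ hT).1 p =
      (Amat a * (T⁻¹ * Matrix.diagonal (fun j : Fin d => if j = ⟨0, hd⟩ then T.det else 1)))
        p.1 p.2 := by
    unfold ptMul
    rw [Matrix.mul_apply]
    rfl
  rw [h1, ← Matrix.mul_assoc, Matrix.mul_diagonal, eval_genY, Matrix.inv_def,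
    Ring.inverse_eq_inv', Matrix.mul_smul, Matrix.smul_apply, smul_eq_mul]
  by_cases hp : p.2 = ⟨0, hd⟩
  · rw [if_pos hp, if_pos hp, mul_one]
    field_simp
    rfl
  · rw [if_neg hp, if_neg hp, mul_one, mul_comm]

end Invariance

section FFT

variable {K : Type u} [Field K] [Infinite K] {d n : ℕ}

/-- the column-degree of a monomial outside the first column. -/
def eDeg (hd : 0 < d) (α : Fin n × Fin d →₀ ℕ) : ℕ :=
  ∑ p ∈ Finset.univ.filter (fun p : Fin n × Fin d => p.2 ≠ ⟨0, hd⟩), α p

lemma eDeg_le (hd : 0 < d) (f : MatRing K d n) (α : Fin n × Fin d →₀ ℕ) (hα : α ∈ f.support) :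
    eDeg hd α ≤ f.totalDegree := by
  refine le_trans ?_ (MvPolynomial.le_totalDegree hα)
  rw [Finsupp.sum_fintype _ _ (fun _ => rfl)]
  unfold eDeg
  exact Finset.sum_le_sum_of_subset (Finset.filter_subset _ _)

theorem exists_pow_mul_mem_range (hd : 0 < d) (hdn : d < n) (f : MatRing K d n)
    (hf : ∀ g : Matrix.SpecialLinearGroup (Fin d) K, rightTranslate K d n g f = f) :
    minor K d n (iotaIdx hdn).1 ^ f.totalDegree * f ∈ (pluckerMap K d n).range := by
  classical
  set Δ := minor K d n (iotaIdx hdn).1 with hΔ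
  set N := f.totalDegree with hN
  set P : MatRing K d n := ∑ α ∈ f.support, C (coeff α f) *
    (∏ p : Fin n × Fin d, genY K hdn p.1 p.2 ^ α p) * Δ ^ (N - eDeg hd α) with hP
  have hPmem : P ∈ (pluckerMap K d n).range := by
    refine Subalgebra.sum_mem _ (fun α _ => ?_)
    refine Subalgebra.mul_mem _ (Subalgebra.mul_mem _ ?_ ?_) ?_
    · exact Subalgebra.algebraMap_mem _ _
    · exact Subalgebra.prod_mem _ (fun p _ => Subalgebra.pow_mem _ (genY_mem_range hdn _ _) _)
    · exact Subalgebra.pow_mem _ (minor_mem_range _) _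
  have hΔne : Δ ≠ 0 := by
    intro h
    have h1 := LT_minor_full K (iotaIdx hdn) (diag (iotaIdx hdn)) le_rfl
    rw [← hΔ, h, MvPolynomial.coeff_zero, if_pos rfl] at h1
    exact zero_ne_one h1
  have hid : Δ ^ (N + 1) * f = Δ * P := by
    apply MvPolynomial.funext
    intro a
    rw [map_mul, map_mul, map_pow]
    set Ta := (Amat a).submatrix (iotaIdx hdn).1 id with hTa
    have hΔa : MvPolynomial.eval a Δ = Ta.det := eval_minor_iota hdn a
    rw [hΔa]
    by_cases hT : Ta.det = 0
    · rw [hT, zero_pow (Nat.succ_ne_zero N), zero_mul, zero_mul]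
    · have h1 : MvPolynomial.eval a f =
          MvPolynomial.eval (ptMul K a (normSL hd Ta hT).1) f := by
        rw [← eval_rightTranslate, hf]
      rw [h1, MvPolynomial.eval_eq', hP, map_sum, Finset.mul_sum, Finset.mul_sum]
      refine Finset.sum_congr rfl (fun α hα => ?_)
      rw [map_mul, map_mul, MvPolynomial.eval_C, map_pow, hΔa, map_prod]
      have h2 : ∏ p : Fin n × Fin d, ptMul K a (normSL hd Ta hT).1 p ^ α p =
          (∏ p : Fin n × Fin d, MvPolynomial.eval a (genY K hdn p.1 p.2) ^ α p) *
            (Ta.det⁻¹) ^ eDeg hd α := by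
        have h3 : ∀ p : Fin n × Fin d, ptMul K a (normSL hd Ta hT).1 p ^ α p =
            MvPolynomial.eval a (genY K hdn p.1 p.2) ^ α p *
              (if p.2 ≠ ⟨0, hd⟩ then (Ta.det⁻¹) ^ α p else 1) := by
          intro p
          rw [ptMul_normSL hd hdn a hT p, mul_pow]
          congr 1
          by_cases hp : p.2 = ⟨0, hd⟩
          · rw [if_pos hp, if_neg (not_not.2 hp), one_pow]
          · rw [if_neg hp, if_pos hp]
        rw [Finset.prod_congr rfl (fun p _ => h3 p), Finset.prod_mul_distrib]
        congr 1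
        rw [← Finset.prod_filter, Finset.prod_pow_eq_pow_sum]
        rfl
      rw [h2]
      simp only [map_pow]
      have he := eDeg_le hd f α hα
      have h4 : Ta.det ^ (N - eDeg hd α) = Ta.det ^ N * (Ta.det⁻¹) ^ eDeg hd α := by
        rw [pow_sub₀ _ hT he, inv_pow]
      rw [h4, pow_succ]
      ring
  have h5 : Δ * (Δ ^ N * f - P) = 0 := by
    rw [mul_sub, ← hid]
    ring
  rcases mul_eq_zero.1 h5 with h | h
  · exact absurd h hΔne
  · rw [sub_eq_zero.1 h]
    exact hPmem

/-- **First fundamental theorem** for `SL_d`. -/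
theorem fft_SL (hd : 0 < d) (hdn : d < n) (f : MatRing K d n) :
    (∀ g : Matrix.SpecialLinearGroup (Fin d) K, rightTranslate K d n g f = f) ↔
      f ∈ Algebra.adjoin K (Set.range fun θ : Idx d n => minor K d n θ.1) := by
  have hadj : Algebra.adjoin K (Set.range fun θ : Idx d n => minor K d n θ.1) =
      (pluckerMap K d n).range := by
    unfold pluckerMap
    exact Algebra.adjoin_range_eq_range_aeval K _
  rw [hadj]
  constructor
  · intro hf
    have h1 := exists_pow_mul_mem_range hd hdn f hf
    have h2 : ∀ N : ℕ, minor K d n (iotaIdx hdn).1 ^ N * f ∈ (pluckerMap K d n).range →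
        f ∈ (pluckerMap K d n).range := by
      intro N
      induction N with
      | zero =>
        intro h
        rwa [pow_zero, one_mul] at h
      | succ N ih =>
        intro h
        apply ih
        apply saturated_minor hd hdn
        rw [← mul_assoc, ← pow_succ']
        exact h
    exact h2 _ h1
  · intro hf g
    exact rightTranslate_of_mem_range g f hf

end FFT

end Groth.Agent.Lib.Helper22.Grass
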