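import Mathlib
import Groth.Agent.Lib.Helper22.GrassBitableaux

/-!
# The second fundamental theorem of invariant theory for `GL_n`
-/

namespace Groth.Agent.Lib.Helper22.Grass

open W4bk4grassmannian MvPolynomial

universe u

section MrevZ

variable {L : Type*} [CommRing L] {m n : ℕ}

/-- the matrix `[c I_n ; Z^rev]`. -/
def MrevZ (c : L) (Z : Matrix (Fin m) (Fin n) L) : Matrix (Fin (n + m)) (Fin n) L :=
  Matrix.of fun i j => if h : i.val < n then (if i.val = j.val then c else 0)
    else Z ⟨m - 1 - (i.val - n), by have := i.isLt; omega⟩ j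

lemma MrevZ_low (c : L) (Z : Matrix (Fin m) (Fin n) L) (i : Fin (n + m)) (h : i.val < n)
    (j : Fin n) : MrevZ c Z i j = if i.val = j.val then c else 0 := by
  unfold MrevZ
  rw [Matrix.of_apply, dif_pos h]

lemma MrevZ_high (c : L) (Z : Matrix (Fin m) (Fin n) L) (i : Fin (n + m)) (h : n ≤ i.val)
    (j : Fin n) : MrevZ c Z i j = Z ⟨m - 1 - (i.val - n), by have := i.isLt; omega⟩ j := by
  unfold MrevZ
  rw [Matrix.of_apply, dif_neg (by omega)]

/-- the minors of `[c I ; Z^rev]` on the tuples `tupFG f g`. -/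
theorem det_MrevZ_tupFG (c : L) (Z : Matrix (Fin m) (Fin n) L) {t : ℕ} (f : Fin t → Fin m)
    (g : Fin t → Fin n) (hg : Function.Injective g) :
    ((MrevZ c Z).submatrix (tupFG f g) id).det = c ^ (n - t) * (Z.submatrix f g).det := by
  classical
  set N : Matrix (Fin n) (Fin n) L := (MrevZ c Z).submatrix (tupFG f g) id with hNdef
  have hN1 : ∀ k j, N (g k) j = Z (f k) j := by
    intro k j
    have h1 := tupFG_apply_g f hg k
    rw [hNdef, Matrix.submatrix_apply, id, MrevZ_high _ _ _ (by omega)]
    congr 1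
    apply Fin.ext
    simp only [h1]
    have := (f k).isLt
    omega
  have hN2 : ∀ i, (¬ ∃ k, g k = i) → ∀ j, N i j = if i = j then c else 0 := by
    intro i hi j
    have h1 := tupFG_apply_not f g i hi
    rw [hNdef, Matrix.submatrix_apply, id, MrevZ_low _ _ _ (by rw [h1]; exact i.isLt), h1]
    simp only [Fin.ext_iff]
  let e' : Fin t ≃ {i // ∃ k, g k = i} :=
    Equiv.ofBijective (fun k => ⟨g k, k, rfl⟩)
      ⟨fun a b h => hg (Subtype.mk.inj h), fun ⟨i, k, hk⟩ => ⟨k, Subtype.ext hk⟩⟩
  rw [Matrix.twoBlockTriangular_det N (fun i => ∃ k, g k = i)]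
  · have hb2 : Matrix.toSquareBlockProp N (fun i => ¬ ∃ k, g k = i) = c • 1 := by
      refine Matrix.ext fun ⟨i, hi⟩ ⟨j, hj⟩ => ?_
      simp only [Matrix.toSquareBlockProp, Matrix.toBlock_apply, hN2 i hi j, Matrix.smul_apply,
        Matrix.one_apply, Subtype.mk.injEq, smul_eq_mul, mul_ite, mul_one, mul_zero]
    have hcard : Fintype.card {i // ¬ ∃ k, g k = i} = n - t := by
      rw [Fintype.card_subtype_compl, Fintype.card_fin, ← Fintype.card_congr e', Fintype.card_fin]
    rw [hb2, Matrix.det_smul, Matrix.det_one, mul_one, hcard, mul_comm]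
    congr 1
    rw [← Matrix.det_submatrix_equiv_self e' (Matrix.toSquareBlockProp N _)]
    congr 1
    refine Matrix.ext fun k l => ?_
    simp only [Matrix.submatrix_apply, Matrix.toSquareBlockProp, Matrix.toBlock_apply]
    exact hN1 k (g l)
  · intro i hi j hj
    rw [hN2 i hi j, if_neg]
    rintro rfl
    exact hi hj

end MrevZ

section Blocks

variable {L : Type*} [CommRing L] {m n : ℕ}

/-- the top `n × n` block. -/
def topB (M : Matrix (Fin (n + m)) (Fin n) L) : Matrix (Fin n) (Fin n) L :=
  Matrix.of fun i j => M ⟨i.val, by have := i.isLt; omega⟩ j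

/-- the bottom `m × n` block with reversed rows. -/
def botB (M : Matrix (Fin (n + m)) (Fin n) L) : Matrix (Fin m) (Fin n) L :=
  Matrix.of fun i j => M ⟨n + (m - 1 - i.val), by have := i.isLt; omega⟩ j

lemma mul_adjugate_topB (M : Matrix (Fin (n + m)) (Fin n) L) :
    M * (topB M).adjugate = MrevZ (topB M).det (botB M * (topB M).adjugate) := by
  ext i j
  by_cases h : i.val < n
  · rw [MrevZ_low _ _ _ h]
    have h1 : (M * (topB M).adjugate) i j = (topB M * (topB M).adjugate) ⟨i.val, h⟩ j := by
      rw [Matrix.mul_apply, Matrix.mul_apply]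
      rfl
    rw [h1, Matrix.mul_adjugate, Matrix.smul_apply, Matrix.one_apply, smul_eq_mul]
    by_cases hij : i.val = j.val
    · rw [if_pos hij, if_pos (Fin.ext hij), mul_one]
    · rw [if_neg hij, if_neg (fun h' => hij (congrArg Fin.val h')), mul_zero]
  · rw [MrevZ_high _ _ _ (by omega)]
    rw [Matrix.mul_apply, Matrix.mul_apply]
    refine Finset.sum_congr rfl (fun k _ => ?_)
    congr 1
    simp only [botB, Matrix.of_apply]
    congr 1
    apply Fin.ext
    simp only
    have := i.isLt
    omega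

lemma det_submatrix_tupFG_mul (M : Matrix (Fin (n + m)) (Fin n) L) {t : ℕ} (f : Fin t → Fin m)
    (g : Fin t → Fin n) (hg : Function.Injective g) :
    (M.submatrix (tupFG f g) id).det * (topB M).det ^ (n - 1) =
      (topB M).det ^ (n - t) * ((botB M * (topB M).adjugate).submatrix f g).det := by
  rw [← det_MrevZ_tupFG _ _ f g hg, ← mul_adjugate_topB]
  have h1 : (M * (topB M).adjugate).submatrix (tupFG f g) id =
      M.submatrix (tupFG f g) id * (topB M).adjugate := by
    ext i j
    rw [Matrix.submatrix_apply, Matrix.mul_apply, Matrix.mul_apply]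
    rfl
  rw [h1, Matrix.det_mul, Matrix.det_adjugate, Fintype.card_fin]

end Blocks

section Sums

variable {L : Type*} [CommRing L]

lemma sum_fin_dite (r s : ℕ) (hsr : s ≤ r) (G : Fin s → L) :
    (∑ k : Fin r, if h : k.val < s then G ⟨k.val, h⟩ else 0) = ∑ k, G k := by
  let F' : ℕ → L := fun k => if h : k < s then G ⟨k, h⟩ else 0
  calc (∑ k : Fin r, if h : k.val < s then G ⟨k.val, h⟩ else 0)
      = ∑ k : Fin r, F' k.val := rfl
    _ = ∑ k ∈ Finset.range r, F' k := (Finset.sum_range _).symm
    _ = ∑ k ∈ Finset.range s, F' k :=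
        (Finset.sum_subset (Finset.range_subset_range.2 hsr) (fun k _ hk =>
          dif_neg (by simpa using hk))).symm
    _ = ∑ k : Fin s, F' k.val := Finset.sum_range _
    _ = ∑ k, G k := Finset.sum_congr rfl (fun k _ => dif_pos k.isLt)

lemma sum_fin_tail (n s : ℕ) (hsn : s ≤ n) (Φ : Fin n → L)
    (hΦ : ∀ c : Fin n, c.val < n - s → Φ c = 0) :
    (∑ k : Fin s, Φ ⟨n - s + k.val, by have := k.isLt; omega⟩) = ∑ c, Φ c := by
  have hns : n - s + s = n := by omega
  rw [← (finCongr hns).sum_comp Φ, Fin.sum_univ_add]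
  have h0 : (∑ i : Fin (n - s), Φ ((finCongr hns) (Fin.castAdd s i))) = 0 :=
    Finset.sum_eq_zero (fun a _ => hΦ _ (by simp))
  rw [h0, zero_add]
  refine Finset.sum_congr rfl (fun k _ => ?_)
  congr 1

end Sums

section Generic

variable (K : Type u) [Field K] [Infinite K] (m n : ℕ)

/-- the generic matrix of the Schubert variety attached to the determinantal variety. -/
noncomputable abbrev Msh (t : ℕ) (ht : 1 ≤ t) (htm : t ≤ m + 1) :
    Matrix (Fin (n + m)) (Fin n) (MatRing K n (n + m)) :=
  shapeM K (wIdx m n t ht htm)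

/-- the matrix `Z' = B · adj(T)`. -/
noncomputable abbrev Zsh (t : ℕ) (ht : 1 ≤ t) (htm : t ≤ m + 1) :
    Matrix (Fin m) (Fin n) (MatRing K n (n + m)) :=
  botB (Msh K m n t ht htm) * (topB (Msh K m n t ht htm)).adjugate

variable {m n}

lemma botB_Msh_eq_zero (t : ℕ) (ht : 1 ≤ t) (htm : t ≤ m + 1) (i : Fin m) (j : Fin n)
    (hj : j.val + t ≤ n) : botB (Msh K m n t ht htm) i j = 0 := by
  simp only [botB, Matrix.of_apply, shapeM]
  rw [if_neg]
  intro hle
  have := Fin.le_def.1 hle
  simp only [wIdx, dif_pos hj] at this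
  omega

lemma topB_eq_submatrix {L : Type*} [CommRing L] (hdn : n < n + m)
    (M : Matrix (Fin (n + m)) (Fin n) L) : topB M = M.submatrix (iotaIdx hdn).1 id := by
  ext i j
  rfl

lemma det_topB_Msh (hdn : n < n + m) (t : ℕ) (ht : 1 ≤ t) (htm : t ≤ m + 1) :
    (topB (Msh K m n t ht htm)).det = evalL (K := K) (Msh K m n t ht htm) (X (iotaIdx hdn)) := by
  rw [evalL_X, topB_eq_submatrix hdn]

lemma det_topB_Msh_ne_zero (hn : 0 < n) (hdn : n < n + m) (t : ℕ) (ht : 1 ≤ t) (htm : t ≤ m + 1) :
    (topB (Msh K m n t ht htm)).det ≠ 0 := by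
  rw [det_topB_Msh K hdn, ← Ebar_mk]
  intro h
  have h0 := (injective_iff_map_eq_zero (Ebar K (wIdx m n t ht htm))).1
    (Ebar_injective K hn _) _ h
  exact X_notMem_schubertVanishing _ _ (iotaIdx_le hdn _) (Ideal.Quotient.eq_zero_iff_mem.1 h0)

/-- the specialization of the pair of generic matrices. -/
noncomputable def ρmap (r t : ℕ) (ht : 1 ≤ t) (htm : t ≤ m + 1) (htn : t ≤ n + 1) :
    PairRing K r m n →ₐ[K] MatRing K n (n + m) :=
  aeval (Sum.elim
    (fun p : Fin m × Fin r => if h : p.2.val < t - 1 then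
        botB (Msh K m n t ht htm) p.1 ⟨n - (t - 1) + p.2.val, by omega⟩ else 0)
    (fun p : Fin r × Fin n => if h : p.1.val < t - 1 then
        (topB (Msh K m n t ht htm)).adjugate ⟨n - (t - 1) + p.1.val, by omega⟩ p.2 else 0))

lemma ρmap_pairing_X (r t : ℕ) (ht : 1 ≤ t) (htm : t ≤ m + 1) (htn : t ≤ n + 1)
    (htr : t - 1 ≤ r) (p : Fin m × Fin n) :
    ρmap K r t ht htm htn (pairingMap K r m n (X p)) = Zsh K m n t ht htm p.1 p.2 := by
  unfold pairingMap ρmap
  rw [aeval_X, map_sum]
  simp only [map_mul, aeval_X, Sum.elim_inl, Sum.elim_inr]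
  set G : Fin (t - 1) → MatRing K n (n + m) := fun k' =>
    botB (Msh K m n t ht htm) p.1 ⟨n - (t - 1) + k'.val, by omega⟩ *
      (topB (Msh K m n t ht htm)).adjugate ⟨n - (t - 1) + k'.val, by omega⟩ p.2 with hG
  have h1 : ∀ k : Fin r,
      (if h : k.val < t - 1 then
        botB (Msh K m n t ht htm) p.1 ⟨n - (t - 1) + k.val, by omega⟩ else 0) *
      (if h : k.val < t - 1 then
        (topB (Msh K m n t ht htm)).adjugate ⟨n - (t - 1) + k.val, by omega⟩ p.2 else 0) =
      if h : k.val < t - 1 then G ⟨k.val, h⟩ else 0 := by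
    intro k
    by_cases h : k.val < t - 1
    · rw [dif_pos h, dif_pos h, dif_pos h]
    · rw [dif_neg h, dif_neg h, zero_mul, dif_neg h]
  rw [Finset.sum_congr rfl (fun k _ => h1 k), sum_fin_dite r (t - 1) htr G]
  have h2 := sum_fin_tail n (t - 1) (by omega)
    (fun c : Fin n => botB (Msh K m n t ht htm) p.1 c * (topB (Msh K m n t ht htm)).adjugate c p.2)
    (fun c hc => by
      rw [botB_Msh_eq_zero K t ht htm p.1 c (by omega), zero_mul])
  show (∑ k, G k) = (botB (Msh K m n t ht htm) * (topB (Msh K m n t ht htm)).adjugate) p.1 p.2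
  rw [Matrix.mul_apply]
  exact h2

lemma ρmap_comp_pairing (r t : ℕ) (ht : 1 ≤ t) (htm : t ≤ m + 1) (htn : t ≤ n + 1)
    (htr : t - 1 ≤ r) :
    (ρmap K r t ht htm htn).comp (pairingMap K r m n) =
      aeval (fun p : Fin m × Fin n => Zsh K m n t ht htm p.1 p.2) := by
  apply MvPolynomial.algHom_ext
  intro p
  rw [AlgHom.comp_apply, ρmap_pairing_X K r t ht htm htn htr, aeval_X]

lemma ρmap_pairing_minorOf (r t : ℕ) (ht : 1 ≤ t) (htm : t ≤ m + 1) (htn : t ≤ n + 1)
    (htr : t - 1 ≤ r) (Mi : MinorIdx m n) :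
    ρmap K r t ht htm htn (pairingMap K r m n (minorOf K Mi)) =
      ((Zsh K m n t ht htm).submatrix Mi.2.1.1 Mi.2.2.1).det := by
  rw [← AlgHom.comp_apply, ρmap_comp_pairing K r t ht htm htn htr]
  unfold minorOf
  rw [AlgHom.map_det]
  congr 1
  ext i j
  simp only [AlgHom.mapMatrix_apply, Matrix.map_apply, Matrix.submatrix_apply, genMatrix,
    Matrix.of_apply, aeval_X]

/-- minors of `Z'` in terms of the Plücker coordinates of the generic matrix. -/
lemma det_Zsh_submatrix (hn : 0 < n) (hdn : n < n + m) (t : ℕ) (ht : 1 ≤ t) (htm : t ≤ m + 1)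
    (Mi : MinorIdx m n) :
    ((Zsh K m n t ht htm).submatrix Mi.2.1.1 Mi.2.2.1).det =
      (-1) ^ invCount n (n + m) (tupM Mi) * (topB (Msh K m n t ht htm)).det ^ Mi.1 *
        evalL (K := K) (Msh K m n t ht htm) (X (PhiM Mi)) := by
  have hΔ := det_topB_Msh_ne_zero K hn hdn t ht htm
  have h1 := det_submatrix_tupFG_mul (Msh K m n t ht htm) Mi.2.1.1 Mi.2.2.1 Mi.2.2.2.injective
  have hs := size_le Mi
  have h2 : evalL (K := K) (Msh K m n t ht htm) (coord K n (n + m) (tupM Mi)) =
      ((Msh K m n t ht htm).submatrix (tupM Mi) id).det := evalL_coord _ _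
  have h3 : evalL (K := K) (Msh K m n t ht htm) (coord K n (n + m) (tupM Mi)) =
      (-1) ^ invCount n (n + m) (tupM Mi) * evalL (K := K) (Msh K m n t ht htm) (X (PhiM Mi)) := by
    unfold coord
    rw [dif_pos (card_image_tupM Mi), map_mul, map_pow, map_neg, map_one]
    rfl
  have hpow : (topB (Msh K m n t ht htm)).det ^ (n - 1) =
      (topB (Msh K m n t ht htm)).det ^ (n - (Mi.1 + 1)) * (topB (Msh K m n t ht htm)).det ^ Mi.1 := by
    rw [← pow_add]
    congr 1
    omega
  have h4 : (topB (Msh K m n t ht htm)).det ^ (n - (Mi.1 + 1)) *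
      ((Zsh K m n t ht htm).submatrix Mi.2.1.1 Mi.2.2.1).det =
      (topB (Msh K m n t ht htm)).det ^ (n - (Mi.1 + 1)) *
      ((-1) ^ invCount n (n + m) (tupM Mi) * (topB (Msh K m n t ht htm)).det ^ Mi.1 *
        evalL (K := K) (Msh K m n t ht htm) (X (PhiM Mi))) := by
    rw [← h1, hpow]
    have : ((Msh K m n t ht htm).submatrix (tupFG Mi.2.1.1 Mi.2.2.1) id).det =
        (-1) ^ invCount n (n + m) (tupM Mi) * evalL (K := K) (Msh K m n t ht htm) (X (PhiM Mi)) := by
      rw [← h3, h2]
      rfl
    rw [this]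
    ring
  exact mul_left_cancel₀ (pow_ne_zero _ hΔ) h4

end Generic

section Indep

variable (K : Type u) [Field K] [Infinite K] {m n : ℕ}

lemma chainMon_toE (hdn : n < n + m) (t : ℕ) (ht : 1 ≤ t) (htm : t ≤ m + 1) (c : BT m n t) :
    chainMon K (toE hdn t ht htm c).1.2.1 = ∏ i, X (PhiM (c.2.1 i)) := by
  unfold chainMon
  simp only [toE]
  exact Equiv.prod_comp Fin.revPerm (fun i => (X (PhiM (c.2.1 i)) : PlRing K n (n + m)))

lemma chainMon_iterate_snocι {d N : ℕ} (hdn : d < N) {w : Idx d N} (c : Ch w) (k : ℕ) :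
    chainMon K ((snocι hdn)^[k] c).2.1 = chainMon K c.2.1 * X (iotaIdx hdn) ^ k := by
  induction k with
  | zero => simp
  | succ k ih =>
    rw [Function.iterate_succ_apply', chainMon_snocι, ih, pow_succ, mul_assoc]

lemma iterate_snocι_inj {d N : ℕ} (hdn : d < N) {w : Idx d N} :
    ∀ (k k' : ℕ) (e e' : ChR hdn w), (snocι hdn)^[k] e.1 = (snocι hdn)^[k'] e'.1 → e = e' := by
  intro k
  induction k with
  | zero =>
    intro k' e e' h
    cases k' with
    | zero => exact Subtype.ext h
    | succ j =>
      exfalso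
      rw [Function.iterate_zero_apply, Function.iterate_succ_apply'] at h
      exact free_notMem_range hdn e ⟨_, h.symm⟩
  | succ k ih =>
    intro k' e e' h
    cases k' with
    | zero =>
      exfalso
      rw [Function.iterate_zero_apply, Function.iterate_succ_apply'] at h
      exact free_notMem_range hdn e' ⟨_, h⟩
    | succ j =>
      rw [Function.iterate_succ_apply', Function.iterate_succ_apply'] at h
      exact ih j e e' (snocι_injective hdn h)

/-- the exponent of `X_ι`. -/
def expBT {t : ℕ} (c : BT m n t) : ℕ := ∑ i, (c.2.1 i).1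

/-- the chain of a bitableau padded with copies of `ι`. -/
noncomputable def Ech (hdn : n < n + m) (t : ℕ) (ht : 1 ≤ t) (htm : t ≤ m + 1) (c : BT m n t) :
    Ch (wIdx m n t ht htm) :=
  (snocι hdn)^[expBT c] (toE hdn t ht htm c).1

lemma Ech_injective (hdn : n < n + m) (t : ℕ) (ht : 1 ≤ t) (htm : t ≤ m + 1) :
    Function.Injective (Ech hdn t ht htm) := by
  intro c c' h
  exact toE_injective hdn t ht htm (iterate_snocι_inj hdn _ _ _ _ h)

lemma ρmap_pairing_prod (hn : 0 < n) (hdn : n < n + m) (r t : ℕ) (ht : 1 ≤ t) (htm : t ≤ m + 1)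
    (htn : t ≤ n + 1) (htr : t - 1 ≤ r) (c : BT m n t) :
    ρmap K r t ht htm htn (pairingMap K r m n (∏ i, minorOf K (c.2.1 i))) =
      ((signBT c : Kˣ) : K) •
        Ebar K (wIdx m n t ht htm) (bCh K _ (Ech hdn t ht htm c)) := by
  unfold bCh
  rw [Ebar_mk]
  unfold Ech
  rw [chainMon_iterate_snocι, chainMon_toE, map_mul, map_pow, map_prod, map_prod, map_prod,
    ← det_topB_Msh K hdn]
  simp_rw [ρmap_pairing_minorOf K r t ht htm htn htr, det_Zsh_submatrix K hn hdn t ht htm]
  rw [Finset.prod_mul_distrib, Finset.prod_mul_distrib, Finset.prod_pow_eq_pow_sum,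
    Finset.prod_pow_eq_pow_sum, Algebra.smul_def]
  have hs : algebraMap K (MatRing K n (n + m)) ((signBT c : Kˣ) : K) =
      (-1) ^ ∑ i, invCount n (n + m) (tupM (c.2.1 i)) := by
    simp [signBT]
  rw [hs]
  unfold expBT
  ring

theorem linearIndependent_pairing (hn : 0 < n) (hdn : n < n + m) (r t : ℕ) (ht : 1 ≤ t)
    (htm : t ≤ m + 1) (htn : t ≤ n + 1) (htr : t - 1 ≤ r) :
    LinearIndependent K (fun c : BT m n t =>
      pairingMap K r m n (∏ i, minorOf K (c.2.1 i))) := by
  set w := wIdx m n t ht htm with hw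
  have h1 : LinearIndependent K (fun c : BT m n t =>
      (Ebar K w).toLinearMap (basisCh K hn w (Ech hdn t ht htm c))) :=
    ((basisCh K hn w).linearIndependent.comp _ (Ech_injective hdn t ht htm)).map'
      (Ebar K w).toLinearMap (LinearMap.ker_eq_bot.2 (Ebar_injective K hn w))
  have h2 := h1.units_smul (fun c : BT m n t => signBT (K := K) c)
  have h3 : (fun c : BT m n t => signBT (K := K) c) • (fun c : BT m n t =>
      (Ebar K w).toLinearMap (basisCh K hn w (Ech hdn t ht htm c))) =
      (ρmap K r t ht htm htn).toLinearMap ∘ (fun c : BT m n t =>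
        pairingMap K r m n (∏ i, minorOf K (c.2.1 i))) := by
    funext c
    simp only [Pi.smul_apply', Function.comp_apply, AlgHom.toLinearMap_apply]
    rw [ρmap_pairing_prod K hn hdn r t ht htm htn htr c, basisCh_apply]
    rfl
  rw [h3] at h2
  exact LinearIndependent.of_comp _ h2

end Indep

section Main

lemma det_mul_eq_zero_of_lt {R : Type*} [CommRing R] {r : ℕ} (A : Matrix (Fin (r + 1)) (Fin r) R)
    (B : Matrix (Fin r) (Fin (r + 1)) R) : (A * B).det = 0 := by
  set A' : Matrix (Fin (r + 1)) (Fin (r + 1)) R :=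
    Matrix.of fun i j => if h : j.val < r then A i ⟨j.val, h⟩ else 0 with hA'
  set B' : Matrix (Fin (r + 1)) (Fin (r + 1)) R :=
    Matrix.of fun i j => if h : i.val < r then B ⟨i.val, h⟩ j else 0 with hB'
  have hAB : A * B = A' * B' := by
    ext i j
    rw [Matrix.mul_apply, Matrix.mul_apply]
    have h1 : ∀ k : Fin (r + 1), A' i k * B' k j =
        if h : k.val < r then (fun k' : Fin r => A i k' * B k' j) ⟨k.val, h⟩ else 0 := by
      intro k
      simp only [hA', hB', Matrix.of_apply]
      by_cases h : k.val < r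
      · rw [dif_pos h, dif_pos h, dif_pos h]
      · rw [dif_neg h, dif_neg h, zero_mul, dif_neg h]
    rw [Finset.sum_congr rfl (fun k _ => h1 k),
      sum_fin_dite (r + 1) r (Nat.le_succ r) (fun k' : Fin r => A i k' * B k' j)]
  rw [hAB, Matrix.det_mul]
  have : A'.det = 0 := by
    refine Matrix.det_eq_zero_of_column_eq_zero (Fin.last r) (fun i => ?_)
    simp only [hA', Matrix.of_apply, Fin.val_last, lt_self_iff_false, dite_false]
  rw [this, zero_mul]

lemma minorIdeal_eq_bot_of_lt {R : Type u} [CommRing R] {m n t : ℕ} (A : Matrix (Fin m) (Fin n) R)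
    (h : m < t ∨ n < t) : CAlgX.minorIdeal A t = ⊥ := by
  unfold CAlgX.minorIdeal
  rw [Ideal.span_eq_bot]
  rintro _ ⟨⟨f, g⟩, rfl⟩
  simp only
  rcases h with h | h
  · have hf : ¬ Function.Injective f := by
      intro hf
      have := Fintype.card_le_of_injective f hf
      simp at this
      omega
    rw [Function.Injective] at hf
    push Not at hf
    obtain ⟨i, j, hij, hne⟩ := hf
    exact Matrix.det_zero_of_row_eq hne (by ext k; simp [hij])
  · have hg : ¬ Function.Injective g := by
      intro hg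
      have := Fintype.card_le_of_injective g hg
      simp at this
      omega
    rw [Function.Injective] at hg
    push Not at hg
    obtain ⟨i, j, hij, hne⟩ := hg
    exact Matrix.det_zero_of_column_eq hne (by intro k; simp [hij])

variable (K : Type u) [Field K] [Infinite K]

lemma pairing_minor_eq_zero (r m n : ℕ) (f : Fin (r + 1) → Fin m) (g : Fin (r + 1) → Fin n) :
    pairingMap K r m n (((genMatrix K m n).submatrix f g).det) = 0 := by
  rw [AlgHom.map_det]
  have : (pairingMap K r m n).mapMatrix ((genMatrix K m n).submatrix f g) =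
      (Matrix.of fun (i : Fin (r + 1)) (k : Fin r) =>
        (X (Sum.inl (f i, k)) : PairRing K r m n)) *
      (Matrix.of fun (k : Fin r) (j : Fin (r + 1)) =>
        (X (Sum.inr (k, g j)) : PairRing K r m n)) := by
    ext i j
    simp only [AlgHom.mapMatrix_apply, Matrix.map_apply, Matrix.submatrix_apply, genMatrix,
      Matrix.of_apply, Matrix.mul_apply, pairingMap, aeval_X]
  rw [this]
  exact det_mul_eq_zero_of_lt _ _

/-- **Second fundamental theorem** for `GL_r`. -/
theorem ker_pairingMap (r m n : ℕ) :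
    RingHom.ker (pairingMap K r m n).toRingHom =
      CAlgX.minorIdeal (genMatrix K m n) (r + 1) := by
  classical
  have hle : CAlgX.minorIdeal (genMatrix K m n) (r + 1) ≤
      RingHom.ker (pairingMap K r m n).toRingHom := by
    unfold CAlgX.minorIdeal
    rw [Ideal.span_le]
    rintro _ ⟨⟨f, g⟩, rfl⟩
    exact pairing_minor_eq_zero K r m n f g
  refine le_antisymm ?_ hle
  intro f hf
  have hf0 : pairingMap K r m n f = 0 := hf
  by_cases hmn : 0 < m ∧ 0 < n
  · obtain ⟨hm, hn⟩ := hmn
    have hdn : n < n + m := by omega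
    set t := min r (min m n) + 1 with ht_def
    have ht : 1 ≤ t := by omega
    have htm : t ≤ m + 1 := by
      have := min_le_right r (min m n)
      have := min_le_left m n
      omega
    have htn : t ≤ n + 1 := by
      have := min_le_right r (min m n)
      have := min_le_right m n
      omega
    have htr : t - 1 ≤ r := by
      have := min_le_left r (min m n)
      omega
    have hIt : CAlgX.minorIdeal (genMatrix K m n) t ≤
        CAlgX.minorIdeal (genMatrix K m n) (r + 1) := by
      by_cases hr : r ≤ min m n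
      · have : t = r + 1 := by rw [ht_def, min_eq_left hr]
        rw [this]
      · have : t = min m n + 1 := by rw [ht_def, min_eq_right (by omega)]
        rw [minorIdeal_eq_bot_of_lt _ (by
          rcases le_total m n with h | h
          · left; rw [this, min_eq_left h]; omega
          · right; rw [this, min_eq_right h]; omega)]
        exact bot_le
    have hspan := (bitableaux_basis K hm hn t ht htm).2
    have hmem : Ideal.Quotient.mk (CAlgX.minorIdeal (genMatrix K m n) t) f ∈
        Submodule.span K (Set.range fun c : BT m n t =>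
          Ideal.Quotient.mk (CAlgX.minorIdeal (genMatrix K m n) t)
            (Finset.univ.prod fun i => minorOf K (c.2.1 i))) := by
      rw [hspan]
      exact Submodule.mem_top
    obtain ⟨a, ha⟩ := Finsupp.mem_span_range_iff_exists_finsupp.1 hmem
    set g : MvPolynomial (Fin m × Fin n) K :=
      a.sum fun c x => x • ∏ i, minorOf K (c.2.1 i) with hg
    have hgf : f - g ∈ CAlgX.minorIdeal (genMatrix K m n) t := by
      rw [← Ideal.Quotient.eq_zero_iff_mem, map_sub, sub_eq_zero, ← ha, hg]
      unfold Finsupp.sum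
      rw [map_sum]
      refine Finset.sum_congr rfl (fun c _ => ?_)
      exact (map_smul (Ideal.Quotient.mkₐ K (CAlgX.minorIdeal (genMatrix K m n) t)) (a c) _).symm
    have hfg0 : pairingMap K r m n (f - g) = 0 := hle (hIt hgf)
    have hg0 : pairingMap K r m n g = 0 := by
      rw [map_sub, hf0, zero_sub, neg_eq_zero] at hfg0
      exact hfg0
    have hli := linearIndependent_pairing K hn hdn r t ht htm htn htr
    rw [linearIndependent_iff] at hli
    have ha0 : a = 0 := by
      apply hli
      rw [Finsupp.linearCombination_apply, ← hg0, hg]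
      unfold Finsupp.sum
      rw [map_sum]
      refine Finset.sum_congr rfl (fun c _ => ?_)
      exact (map_smul (pairingMap K r m n) (a c) _).symm
    have hgz : g = 0 := by
      rw [hg, ha0]
      exact Finsupp.sum_zero_index
    rw [hgz, sub_zero] at hgf
    exact hIt hgf
  · haveI : IsEmpty (Fin m × Fin n) := by
      rw [isEmpty_prod]
      rcases Nat.eq_zero_or_pos m with h | h
      · left; subst h; infer_instance
      · right
        have : n = 0 := by
          by_contra hn
          exact hmn ⟨h, Nat.pos_of_ne_zero hn⟩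
        subst this; infer_instance
    have hC := MvPolynomial.eq_C_of_isEmpty f
    rw [hC] at hf0
    rw [MvPolynomial.algHom_C, MvPolynomial.algebraMap_eq] at hf0
    have : coeff 0 f = 0 := MvPolynomial.C_injective _ _ (by rw [hf0, map_zero])
    rw [hC, this, map_zero]
    exact Ideal.zero_mem _

end Main

end Groth.Agent.Lib.Helper22.Grass
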