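import Mathlib
import Groth.Agent.Lib.Helper22.Dehom
import Groth.Agent.Lib.Helper22.GrassSFT

/-!
# The first fundamental theorem of invariant theory for `GL_n`
-/

set_option autoImplicit false

namespace Groth.Agent.Lib.Helper22.Grass

open W4bk4grassmannian MvPolynomial

universe u

section Points

variable {K : Type u} [Field K] {n m q : ℕ}

/-- the variables of the pair ring. -/
abbrev VP (n m q : ℕ) : Type := (Fin m × Fin n) ⊕ (Fin n × Fin q)

/-- the first matrix of a point. -/
def Umat (a : VP n m q → K) : Matrix (Fin m) (Fin n) K := Matrix.of fun i k => a (Sum.inl (i, k))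

/-- the second matrix of a point. -/
def Wmat (a : VP n m q → K) : Matrix (Fin n) (Fin q) K := Matrix.of fun k j => a (Sum.inr (k, j))

/-- the point of a pair of matrices. -/
def ptOf (U : Matrix (Fin m) (Fin n) K) (W : Matrix (Fin n) (Fin q) K) : VP n m q → K :=
  Sum.elim (fun p => U p.1 p.2) (fun p => W p.1 p.2)

lemma eval_glTranslate (A : GL (Fin n) K) (a : VP n m q → K) (f : PairRing K n m q) :
    MvPolynomial.eval a (glTranslate K n m q A f) =
      MvPolynomial.eval (ptOf (Umat a * ((A⁻¹ : GL (Fin n) K) : Matrix (Fin n) (Fin n) K))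
        ((A : Matrix (Fin n) (Fin n) K) * Wmat a)) f := by
  have h : (MvPolynomial.eval a).comp (glTranslate K n m q A).toRingHom =
      MvPolynomial.eval (ptOf (Umat a * ((A⁻¹ : GL (Fin n) K) : Matrix (Fin n) (Fin n) K))
        ((A : Matrix (Fin n) (Fin n) K) * Wmat a)) := by
    apply MvPolynomial.ringHom_ext
    · intro c
      simp [glTranslate]
    · rintro (⟨i, k⟩ | ⟨k, j⟩)
      · simp only [RingHom.comp_apply, AlgHom.toRingHom_eq_coe, RingHom.coe_coe, glTranslate,
          MvPolynomial.aeval_X, Sum.elim_inl, map_sum, map_mul, MvPolynomial.eval_X,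
          MvPolynomial.eval_C, ptOf, Matrix.mul_apply, Umat, Matrix.of_apply]
      · simp only [RingHom.comp_apply, AlgHom.toRingHom_eq_coe, RingHom.coe_coe, glTranslate,
          MvPolynomial.aeval_X, Sum.elim_inr, map_sum, map_mul, MvPolynomial.eval_X,
          MvPolynomial.eval_C, ptOf, Matrix.mul_apply, Wmat, Matrix.of_apply]
  exact congrArg (fun ψ => ψ f) h

lemma eval_pairingMap (a : VP n m q → K) (g : MvPolynomial (Fin m × Fin q) K) :
    MvPolynomial.eval a (pairingMap K n m q g) =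
      MvPolynomial.eval (fun p : Fin m × Fin q => (Umat a * Wmat a) p.1 p.2) g := by
  have h : (MvPolynomial.eval a).comp (pairingMap K n m q).toRingHom =
      MvPolynomial.eval (fun p : Fin m × Fin q => (Umat a * Wmat a) p.1 p.2) := by
    apply MvPolynomial.ringHom_ext
    · intro c
      simp [pairingMap]
    · rintro ⟨i, j⟩
      simp only [RingHom.comp_apply, AlgHom.toRingHom_eq_coe, RingHom.coe_coe, pairingMap,
        MvPolynomial.aeval_X, map_sum, map_mul, MvPolynomial.eval_X, Matrix.mul_apply, Umat, Wmat,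
        Matrix.of_apply]
  exact congrArg (fun ψ => ψ g) h

lemma Umat_ptOf (U : Matrix (Fin m) (Fin n) K) (W : Matrix (Fin n) (Fin q) K) :
    Umat (ptOf U W) = U := rfl

lemma Wmat_ptOf (U : Matrix (Fin m) (Fin n) K) (W : Matrix (Fin n) (Fin q) K) :
    Wmat (ptOf U W) = W := rfl

lemma ptOf_Umat_Wmat (a : VP n m q → K) : ptOf (Umat a) (Wmat a) = a := by
  funext v
  rcases v with ⟨i, k⟩ | ⟨k, j⟩ <;> rfl

/-- the elements of the range of the pairing map are invariant. -/
theorem glTranslate_pairingMap [Infinite K] (A : GL (Fin n) K) (g : MvPolynomial (Fin m × Fin q) K) :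
    glTranslate K n m q A (pairingMap K n m q g) = pairingMap K n m q g := by
  apply MvPolynomial.funext
  intro a
  rw [eval_glTranslate, eval_pairingMap, eval_pairingMap, Umat_ptOf, Wmat_ptOf]
  have : Umat a * ((A⁻¹ : GL (Fin n) K) : Matrix (Fin n) (Fin n) K) *
      ((A : Matrix (Fin n) (Fin n) K) * Wmat a) = Umat a * Wmat a := by
    rw [Matrix.mul_assoc, ← Matrix.mul_assoc _ (A : Matrix (Fin n) (Fin n) K)]
    have h1 : ((A⁻¹ : GL (Fin n) K) : Matrix (Fin n) (Fin n) K) * (A : Matrix (Fin n) (Fin n) K) =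
        1 := by
      rw [← Units.val_mul, inv_mul_cancel, Units.val_one]
    rw [h1, Matrix.one_mul]
  rw [this]

end Points

section NormalForm

variable {K : Type u} [Field K] {n M Q : ℕ}

/-- the chosen `n × n` block of the generic matrix. -/
noncomputable def Z11 (ρ : Fin n → Fin M) (γ : Fin n → Fin Q) :
    Matrix (Fin n) (Fin n) (MvPolynomial (Fin M × Fin Q) K) :=
  (genMatrix K M Q).submatrix ρ γ

/-- the matrix `Z_{*,γ} adj(Z_{ρ,γ})`. -/
noncomputable def Utilde (ρ : Fin n → Fin M) (γ : Fin n → Fin Q) :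
    Matrix (Fin M) (Fin n) (MvPolynomial (Fin M × Fin Q) K) :=
  Matrix.of fun i k => ∑ l, (genMatrix K M Q) i (γ l) * (Z11 ρ γ).adjugate l k

/-- the substitution `U ↦ Z_{*,γ} adj(Z_{ρ,γ})`, `W ↦ Z_{ρ,*}`. -/
noncomputable def substGL (ρ : Fin n → Fin M) (γ : Fin n → Fin Q) :
    VP n M Q → MvPolynomial (Fin M × Fin Q) K :=
  Sum.elim (fun p => Utilde ρ γ p.1 p.2) (fun p => (genMatrix K M Q) (ρ p.1) p.2)

/-- the degree of a monomial in the variables of `U`. -/
def degU (μ : VP n M Q →₀ ℕ) : ℕ := ∑ p : Fin M × Fin n, μ (Sum.inl p)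

lemma degU_le (f : PairRing K n M Q) (μ : VP n M Q →₀ ℕ) (hμ : μ ∈ f.support) :
    degU μ ≤ f.totalDegree := by
  refine le_trans ?_ (MvPolynomial.le_totalDegree hμ)
  rw [Finsupp.sum_fintype _ _ (fun _ => rfl), Fintype.sum_sum_type]
  unfold degU
  exact Nat.le_add_right _ _

/-- the candidate preimage of `δ ^ N * f`. -/
noncomputable def Pf (ρ : Fin n → Fin M) (γ : Fin n → Fin Q) (f : PairRing K n M Q) :
    MvPolynomial (Fin M × Fin Q) K :=
  ∑ μ ∈ f.support, C (coeff μ f) * (∏ v : VP n M Q, substGL ρ γ v ^ μ v) *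
    (Z11 ρ γ).det ^ (f.totalDegree - degU μ)

lemma map_eval_genMatrix (z : Fin M × Fin Q → K) :
    (genMatrix K M Q).map (MvPolynomial.eval z) = Matrix.of fun i j => z (i, j) := by
  ext i j
  simp [genMatrix]

lemma map_eval_Z11 (ρ : Fin n → Fin M) (γ : Fin n → Fin Q) (z : Fin M × Fin Q → K) :
    (Z11 (K := K) ρ γ).map (MvPolynomial.eval z) =
      (Matrix.of fun i j => z (i, j)).submatrix ρ γ := by
  unfold Z11
  rw [← Matrix.submatrix_map, map_eval_genMatrix]

lemma eval_det_Z11 (ρ : Fin n → Fin M) (γ : Fin n → Fin Q) (z : Fin M × Fin Q → K) :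
    MvPolynomial.eval z ((Z11 (K := K) ρ γ).det) =
      ((Matrix.of fun i j => z (i, j)).submatrix ρ γ).det := by
  rw [RingHom.map_det, RingHom.mapMatrix_apply, map_eval_Z11]

lemma eval_Utilde (ρ : Fin n → Fin M) (γ : Fin n → Fin Q) (z : Fin M × Fin Q → K)
    (i : Fin M) (k : Fin n) :
    MvPolynomial.eval z (Utilde (K := K) ρ γ i k) =
      ((Matrix.of fun i j => z (i, j)).submatrix id γ *
        ((Matrix.of fun i j => z (i, j)).submatrix ρ γ).adjugate) i k := by
  have h2 : (Z11 (K := K) ρ γ).adjugate.map (MvPolynomial.eval z) =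
      ((Matrix.of fun i j => z (i, j)).submatrix ρ γ).adjugate := by
    rw [← map_eval_Z11, ← RingHom.mapMatrix_apply, ← RingHom.mapMatrix_apply,
      RingHom.map_adjugate]
  unfold Utilde
  rw [Matrix.of_apply, Matrix.mul_apply, map_sum]
  refine Finset.sum_congr rfl (fun l _ => ?_)
  rw [map_mul, ← h2]
  simp [genMatrix]

/-- the polynomial `det U_ρ`. -/
noncomputable def u₁ (ρ : Fin n → Fin M) : PairRing K n M Q :=
  (Matrix.of fun i k : Fin n => (X (Sum.inl (ρ i, k)) : PairRing K n M Q)).det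

lemma eval_u₁ (ρ : Fin n → Fin M) (a : VP n M Q → K) :
    MvPolynomial.eval a (u₁ (K := K) (Q := Q) ρ) = ((Umat a).submatrix ρ id).det := by
  unfold u₁
  rw [RingHom.map_det]
  congr 1
  ext i k
  simp [Umat]

lemma u₁_ne_zero (ρ : Fin n → Fin M) (hρ : Function.Injective ρ) :
    u₁ (K := K) (Q := Q) ρ ≠ 0 := by
  classical
  intro h
  have h1 := eval_u₁ (K := K) (Q := Q) ρ
    (ptOf (Matrix.of fun i k => if i = ρ k then 1 else 0) 0)
  rw [h, map_zero, Umat_ptOf] at h1
  have h2 : (Matrix.of fun (i : Fin M) (k : Fin n) => if i = ρ k then (1 : K) else 0).submatrix ρ id =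
      1 := by
    ext i k
    simp only [Matrix.submatrix_apply, Matrix.of_apply, id, Matrix.one_apply]
    by_cases hik : i = k
    · rw [if_pos (by rw [hik]), if_pos hik]
    · rw [if_neg (fun h => hik (hρ h)), if_neg hik]
  rw [h2, Matrix.det_one] at h1
  exact zero_ne_one h1

theorem normal_form [Infinite K] (ρ : Fin n → Fin M) (γ : Fin n → Fin Q)
    (hρ : Function.Injective ρ)
    (f : PairRing K n M Q) (hf : ∀ A : GL (Fin n) K, glTranslate K n M Q A f = f) :
    pairingMap K n M Q ((Z11 ρ γ).det) ^ f.totalDegree * f =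
      pairingMap K n M Q (Pf ρ γ f) := by
  classical
  set N := f.totalDegree with hN
  have hid : u₁ (K := K) (Q := Q) ρ * (pairingMap K n M Q ((Z11 ρ γ).det) ^ N * f) =
      u₁ (K := K) (Q := Q) ρ * pairingMap K n M Q (Pf ρ γ f) := by
    apply MvPolynomial.funext
    intro a
    rw [map_mul, map_mul (MvPolynomial.eval a) (u₁ ρ), eval_u₁]
    set U := Umat a with hU
    set W := Wmat a with hW
    set U₁ := U.submatrix ρ id with hU₁
    set W₁ := W.submatrix id γ with hW₁
    by_cases hdet : U₁.det = 0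
    · rw [hdet, zero_mul, zero_mul]
    congr 1
    set z : Fin M × Fin Q → K := fun p => (U * W) p.1 p.2 with hz
    have hzmat : (Matrix.of fun i j => z (i, j)) = U * W := by
      ext i j
      rfl
    have h3 : (U * W).submatrix id γ = U * W₁ := by
      ext i j
      simp [Matrix.mul_apply, hW₁]
    have h4 : (U * W).submatrix ρ γ = U₁ * W₁ := by
      ext i j
      simp [Matrix.mul_apply, hW₁, hU₁]
    have hΔ : MvPolynomial.eval z ((Z11 (K := K) ρ γ).det) = U₁.det * W₁.det := by
      rw [eval_det_Z11, hzmat, h4, Matrix.det_mul]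
    set δa := U₁.det * W₁.det with hδa
    have hadj : U₁.adjugate = U₁.det • U₁⁻¹ := by
      rw [Matrix.inv_def, Ring.inverse_eq_inv', smul_smul, mul_inv_cancel₀ hdet, one_smul]
    let A : GL (Fin n) K := Matrix.GeneralLinearGroup.mkOfDetNeZero U₁ hdet
    have hA : (A : Matrix (Fin n) (Fin n) K) = U₁ := rfl
    have hAinv : ((A⁻¹ : GL (Fin n) K) : Matrix (Fin n) (Fin n) K) = U₁⁻¹ := by
      rw [Matrix.coe_units_inv, hA]
    set pt := ptOf (U * U₁⁻¹) (U₁ * W) with hpt
    have hfa : MvPolynomial.eval a f = MvPolynomial.eval pt f := by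
      conv_lhs => rw [← hf A]
      rw [eval_glTranslate, hAinv, hA]
    have hsubl : ∀ p : Fin M × Fin n, MvPolynomial.eval z (substGL (K := K) ρ γ (Sum.inl p)) =
        δa * pt (Sum.inl p) := by
      rintro ⟨i, k⟩
      simp only [substGL, Sum.elim_inl]
      rw [eval_Utilde, hzmat, h3, h4, Matrix.adjugate_mul_distrib, Matrix.mul_assoc,
        ← Matrix.mul_assoc W₁, Matrix.mul_adjugate, Matrix.smul_mul, Matrix.one_mul,
        Matrix.mul_smul, hadj, Matrix.mul_smul, smul_smul]
      show (W₁.det * U₁.det) • (U * U₁⁻¹) i k = δa * (U * U₁⁻¹) i k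
      rw [smul_eq_mul, hδa, mul_comm W₁.det]
    have hsubr : ∀ p : Fin n × Fin Q, MvPolynomial.eval z (substGL (K := K) ρ γ (Sum.inr p)) =
        pt (Sum.inr p) := by
      rintro ⟨k, j⟩
      simp only [substGL, Sum.elim_inr, genMatrix, Matrix.of_apply, MvPolynomial.eval_X]
      show (U * W) (ρ k) j = (U₁ * W) k j
      simp [Matrix.mul_apply, hU₁]
    rw [map_mul, map_pow, eval_pairingMap, eval_pairingMap]
    show MvPolynomial.eval z _ ^ N * _ = MvPolynomial.eval z _
    rw [hΔ, hfa, MvPolynomial.eval_eq', Pf, map_sum, Finset.mul_sum]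
    refine Finset.sum_congr rfl (fun μ hμ => ?_)
    rw [map_mul, map_mul, MvPolynomial.eval_C, map_pow, hΔ, map_prod]
    have h5 : ∏ v : VP n M Q, MvPolynomial.eval z (substGL (K := K) ρ γ v ^ μ v) =
        δa ^ degU μ * ∏ v : VP n M Q, pt v ^ μ v := by
      rw [Fintype.prod_sum_type, Fintype.prod_sum_type]
      simp_rw [map_pow, hsubl, hsubr, mul_pow]
      rw [Finset.prod_mul_distrib, Finset.prod_pow_eq_pow_sum, mul_assoc]
      rfl
    rw [h5]
    have hle := degU_le f μ hμ
    have h6 : δa ^ N = δa ^ degU μ * δa ^ (N - degU μ) := by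
      rw [← pow_add, Nat.add_sub_cancel' hle]
    rw [h6]
    ring
  exact mul_left_cancel₀ (u₁_ne_zero ρ hρ) hid

end NormalForm

end Groth.Agent.Lib.Helper22.Grass
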