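import Mathlib

/-!
# Rank factorization of matrices all of whose minors of a given size vanish
-/

set_option autoImplicit false

namespace Groth.Agent.Lib.Helper22.RankFactor

open Module Matrix

variable {K : Type*} [Field K] {M Q n : ℕ}

lemma exists_indep_of_le {V : Type*} [AddCommGroup V] [Module K V] [Module.Finite K V]
    (s : Set V) (k : ℕ)
    (hk : k ≤ finrank K (Submodule.span K s)) :
    ∃ c : Fin k → V, (∀ i, c i ∈ s) ∧ LinearIndependent K c := by
  obtain ⟨c, hc, -, hli⟩ := Submodule.exists_fun_fin_finrank_span_eq K s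
  exact ⟨c ∘ Fin.castLE hk, fun i => hc _, hli.comp _ (Fin.castLE_injective hk)⟩

/-- a matrix all of whose `(n+1)`-minors vanish has rank at most `n`. -/
theorem rank_le_of_minors (z : Matrix (Fin M) (Fin Q) K)
    (h : ∀ (f : Fin (n + 1) → Fin M) (g : Fin (n + 1) → Fin Q), (z.submatrix f g).det = 0) :
    z.rank ≤ n := by
  by_contra hlt
  rw [not_le, Matrix.rank_eq_finrank_span_cols] at hlt
  -- choose independent columns
  obtain ⟨c, hc, hli⟩ := exists_indep_of_le (K := K) (Set.range z.col) (n + 1) hlt
  choose g hg using hc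
  have hcol : LinearIndependent K (fun i : Fin (n + 1) => z.col (g i)) := by
    have h1 : (fun i : Fin (n + 1) => z.col (g i)) = c := by
      funext i
      exact hg _
    rw [h1]
    exact hli
  set z₁ : Matrix (Fin M) (Fin (n + 1)) K := z.submatrix id g with hz₁
  have hz₁col : LinearIndependent K z₁.col := hcol
  have hrank : z₁.rank = n + 1 := by
    rw [← Matrix.rank_transpose]
    have : LinearIndependent K z₁ᵀ.row := by
      rw [Matrix.row_transpose]
      exact hz₁col
    rw [this.rank_matrix, Fintype.card_fin]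
  -- choose independent rows
  rw [Matrix.rank_eq_finrank_span_row] at hrank
  obtain ⟨r, hr, hri⟩ := exists_indep_of_le (K := K) (Set.range z₁.row) (n + 1) hrank.ge
  choose f hf using hr
  have hrow : LinearIndependent K (z₁.submatrix f id).row := by
    have h1 : (z₁.submatrix f id).row = r := by
      funext i
      rw [← hf i]
      rfl
    rw [h1]
    exact hri
  rw [Matrix.linearIndependent_rows_iff_isUnit, Matrix.isUnit_iff_isUnit_det] at hrow
  have h2 : z₁.submatrix f id = z.submatrix f g := by
    ext i j
    rfl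
  rw [h2, h f g] at hrow
  exact not_isUnit_zero hrow

/-- rank factorization with a prescribed inner dimension. -/
theorem exists_factor_of_rank_le (z : Matrix (Fin M) (Fin Q) K) (h : z.rank ≤ n) :
    ∃ (U : Matrix (Fin M) (Fin n) K) (W : Matrix (Fin n) (Fin Q) K), z = U * W := by
  set V := LinearMap.range z.mulVecLin with hVdef
  have hV : finrank K V ≤ finrank K (Fin n → K) := by
    rw [Module.finrank_fin_fun]
    exact h
  obtain ⟨ι, hι⟩ := finrank_le_iff_exists_linearMap.1 hV
  obtain ⟨p, hp⟩ := ι.exists_leftInverse_of_injective (LinearMap.ker_eq_bot.2 hι)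
  refine ⟨LinearMap.toMatrix' (V.subtype ∘ₗ p),
    LinearMap.toMatrix' (ι ∘ₗ z.mulVecLin.rangeRestrict), ?_⟩
  rw [← LinearMap.toMatrix'_comp]
  have h1 : (V.subtype ∘ₗ p) ∘ₗ (ι ∘ₗ z.mulVecLin.rangeRestrict) = z.mulVecLin := by
    apply LinearMap.ext
    intro x
    have h2 := LinearMap.congr_fun hp (z.mulVecLin.rangeRestrict x)
    simp only [LinearMap.comp_apply, LinearMap.id_apply] at h2
    simp only [LinearMap.comp_apply, h2]
    rfl
  rw [h1, ← Matrix.toLin'_apply', LinearMap.toMatrix'_toLin']

/-- a matrix all of whose `(n+1)`-minors vanish is a product through `K ^ n`. -/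
theorem exists_factor_of_minors (z : Matrix (Fin M) (Fin Q) K)
    (h : ∀ (f : Fin (n + 1) → Fin M) (g : Fin (n + 1) → Fin Q), (z.submatrix f g).det = 0) :
    ∃ (U : Matrix (Fin M) (Fin n) K) (W : Matrix (Fin n) (Fin Q) K), z = U * W :=
  exists_factor_of_rank_le z (rank_le_of_minors z h)

end Groth.Agent.Lib.Helper22.RankFactor
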