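import Mathlib
import Groth.Agent.Lib.Helper22.GrassGL
import Groth.Agent.Lib.Helper22.GrassDet
import Groth.Agent.Lib.Helper22.GrassNormal
import Groth.Agent.Lib.Helper22.GrassBitableaux
import Groth.Agent.Lib.Helper22.RankFactor

/-!
# The first fundamental theorem for `GL_n`: saturation
-/

set_option autoImplicit false

namespace Groth.Agent.Lib.Helper22.Grass

open W4bk4grassmannian MvPolynomial

universe u

section Radical

variable {K : Type u} [Field K] [Infinite K] {M Q : ℕ}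

/-- `J(w) + (X_w) + (X_ι - 1)` is radical. -/
theorem isRadical_c (hQ : 0 < Q) (hM : 0 < M) (w : Idx Q (Q + M)) :
    ((schubertVanishing K Q (Q + M) w ⊔ Ideal.span {X w}) ⊔
      Ideal.span {X (iotaIdx (show Q < Q + M by omega)) - 1}).IsRadical := by
  have hdn : Q < Q + M := by omega
  set G : Set (PlRing K Q (Q + M)) :=
    ({f | ∃ (i j : Idx Q (Q + M)) (r : Fin Q), IsPivot i j r ∧ f = shuffleRel K i j r} ∪
      {f | ∃ φ : Idx Q (Q + M), ¬ φ ≤ w ∧ f = X φ}) ∪ {X w} with hGdef
  have hspan : Ideal.span G = schubertVanishing K Q (Q + M) w ⊔ Ideal.span {X w} := by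
    rw [hGdef, Ideal.span_union, ← plIdeal_eq_schubertVanishing hQ w]
    rfl
  have hG : ∀ f ∈ G, ∃ k, f.IsHomogeneous k := by
    rintro f (hf | hf)
    · exact gens_homogeneous w f hf
    · rw [Set.mem_singleton_iff] at hf
      rw [hf]
      exact ⟨1, MvPolynomial.isHomogeneous_X K w⟩
  have hrad : (Ideal.span G).IsRadical := by
    rw [hspan]
    exact isRadical_sup_span_X hQ hdn w
  have := Dehom.isRadical_cI (G := G) (iotaIdx hdn) hG hrad
  unfold Dehom.cI at this
  rw [hspan] at this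
  exact this

/-- the ideal of `t`-minors together with the minor corresponding to `w_t` is radical. -/
theorem isRadical_minorIdeal_sup (hM : 0 < M) (hQ : 0 < Q) (t : ℕ) (ht : 1 ≤ t) (htm : t ≤ M + 1) :
    (CAlgX.minorIdeal (genMatrix K M Q) t ⊔
      Ideal.span {Θc K M Q (X (wIdx M Q t ht htm))}).IsRadical := by
  have hdn : Q < Q + M := by omega
  set w := wIdx M Q t ht htm with hw
  set 𝔞 := CAlgX.minorIdeal (genMatrix K M Q) t ⊔ Ideal.span {Θc K M Q (X w)} with h𝔞
  set 𝔠 := (schubertVanishing K Q (Q + M) w ⊔ Ideal.span {X w}) ⊔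
      Ideal.span {X (iotaIdx hdn) - 1} with h𝔠
  have hQw : Qw K hdn w ≤ 𝔠 := by
    unfold Qw
    exact sup_le (le_sup_left.trans le_sup_left) le_sup_right
  have hA : ∀ f, Θc K M Q f ∈ 𝔞 → f ∈ 𝔠 := by
    intro f hf
    rw [h𝔞, Submodule.mem_sup] at hf
    obtain ⟨a, ha, b, hb, hab⟩ := hf
    rw [Ideal.mem_span_singleton'] at hb
    obtain ⟨c, rfl⟩ := hb
    obtain ⟨c', rfl⟩ := Θc_surjective (K := K) (m := M) (n := Q) c
    have h1 : Θc K M Q (f - c' * X w) = a := by
      rw [map_sub, map_mul, ← hab]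
      ring
    have h2 : f - c' * X w ∈ Qw K hdn w := by
      apply mem_Qw_of_Θc_mem hM t ht htm
      rw [h1]
      exact ha
    have h3 : f = (f - c' * X w) + c' * X w := by ring
    rw [h3]
    refine Ideal.add_mem _ (hQw h2) ?_
    exact Ideal.mul_mem_left _ _
      (Ideal.mem_sup_left (Ideal.mem_sup_right (Ideal.subset_span rfl)))
  have hB : ∀ f, f ∈ 𝔠 → Θc K M Q f ∈ 𝔞 := by
    have hle : 𝔠 ≤ 𝔞.comap (Θc K M Q).toRingHom := by
      refine sup_le (sup_le ?_ ?_) ?_
      · intro f hf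
        exact Ideal.mem_sup_left (Θc_mem_minorIdeal hM hQ t ht htm f (Ideal.mem_sup_left hf))
      · rw [Ideal.span_le, Set.singleton_subset_iff]
        exact Ideal.mem_sup_right (Ideal.subset_span rfl)
      · intro f hf
        exact Ideal.mem_sup_left (Θc_mem_minorIdeal hM hQ t ht htm f (Ideal.mem_sup_right hf))
    intro f hf
    exact hle hf
  intro g hg
  obtain ⟨k, hk⟩ := hg
  obtain ⟨f, rfl⟩ := Θc_surjective (K := K) (m := M) (n := Q) g
  rw [← map_pow] at hk
  exact hB f (isRadical_c hQ hM w ⟨k, hA _ hk⟩)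

end Radical

section Corner

variable {M Q : ℕ}

/-- the top-left minor of size `r + 1`. -/
def cornerIdx (r : ℕ) (hM : r + 1 ≤ M) (hQ : r + 1 ≤ Q) : MinorIdx M Q :=
  ⟨r, (⟨Fin.castLE hM, Fin.strictMono_castLE hM⟩, ⟨Fin.castLE hQ, Fin.strictMono_castLE hQ⟩)⟩

lemma idx_val_ge {d N : ℕ} (θ : Idx d N) (j : Fin d) : j.val ≤ (θ.1 j).val := by
  have := idx_gap θ j.val ⟨0, lt_of_le_of_lt (Nat.zero_le _) j.isLt⟩ j (by simp)
  omega

theorem PhiM_cornerIdx (r : ℕ) (hM : r + 1 ≤ M) (hQ : r + 1 ≤ Q) :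
    PhiM (cornerIdx r hM hQ) = wIdx M Q (r + 2) (by omega) (by omega) := by
  apply le_antisymm
  · rw [PhiM_le_wIdx_iff]
    show r + 1 ≤ r + 2 - 1
    omega
  · have hex : ∃ j, Q ≤ ((wIdx M Q (r + 2) (by omega) (by omega)).1 j).val := by
      refine ⟨⟨Q - 1, by omega⟩, ?_⟩
      unfold wIdx
      simp only
      rw [dif_neg (by omega)]
      simp only
      omega
    obtain ⟨M', hM'⟩ := exists_PhiM_eq _ hex
    rw [← hM', PhiM_le_iff]
    have hsize : M'.1 + 1 ≤ r + 2 - 1 := by
      rw [← PhiM_le_wIdx_iff (r + 2) (by omega) (by omega) M', hM']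
    have hfst : (cornerIdx r hM hQ).1 = r := rfl
    refine ⟨by omega, fun j j' hjj' => ?_⟩
    constructor
    · rw [Fin.le_def]
      show (j'.val : ℕ) ≤ _
      rw [← hjj']
      exact idx_val_ge M'.2.1 j
    · rw [Fin.le_def]
      show (j'.val : ℕ) ≤ _
      rw [← hjj']
      exact idx_val_ge M'.2.2 j

end Corner

section Saturation

variable {K : Type u} [Field K] {M Q : ℕ}

lemma eval_minor (z : Fin M × Fin Q → K) {t : ℕ} (f : Fin t → Fin M) (g : Fin t → Fin Q) :
    MvPolynomial.eval z (((genMatrix K M Q).submatrix f g).det) =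
      ((Matrix.of fun i j => z (i, j)).submatrix f g).det := by
  rw [RingHom.map_det, RingHom.mapMatrix_apply, ← Matrix.submatrix_map, map_eval_genMatrix]

theorem pairing_corner_ne_zero (r : ℕ) (hM : r + 1 ≤ M) (hQ : r + 1 ≤ Q) :
    pairingMap K (r + 1) M Q ((Z11 (Fin.castLE hM) (Fin.castLE hQ)).det) ≠ 0 := by
  classical
  intro h0
  set U : Matrix (Fin M) (Fin (r + 1)) K :=
    Matrix.of fun i k => if i = Fin.castLE hM k then 1 else 0 with hU
  set W : Matrix (Fin (r + 1)) (Fin Q) K :=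
    Matrix.of fun k j => if j = Fin.castLE hQ k then 1 else 0 with hW
  have h1 := eval_pairingMap (ptOf U W) ((Z11 (K := K) (Fin.castLE hM) (Fin.castLE hQ)).det)
  rw [h0, map_zero, Umat_ptOf, Wmat_ptOf, eval_det_Z11] at h1
  have h2 : (Matrix.of fun i j => (U * W) i j).submatrix (Fin.castLE hM) (Fin.castLE hQ) = 1 := by
    ext i j
    simp only [Matrix.submatrix_apply, Matrix.of_apply, Matrix.mul_apply, hU, hW,
      Matrix.one_apply]
    simp only [(Fin.castLE_injective hM).eq_iff, (Fin.castLE_injective hQ).eq_iff]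
    by_cases hij : i = j
    · rw [if_pos hij, Finset.sum_eq_single i]
      · rw [if_pos rfl, if_pos hij.symm, mul_one]
      · intro b _ hb
        rw [if_neg (Ne.symm hb), zero_mul]
      · intro hi
        exact absurd (Finset.mem_univ i) hi
    · rw [if_neg hij]
      refine Finset.sum_eq_zero (fun k _ => ?_)
      by_cases hik : i = k
      · rw [if_pos hik, if_neg (fun hjk => hij (hik.trans hjk.symm)), mul_zero]
      · rw [if_neg hik, zero_mul]
  have h3 : (fun i j => (U * W) i j) = fun i j => (fun p : Fin M × Fin Q => (U * W) p.1 p.2) (i, j) :=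
    rfl
  rw [← h3, h2, Matrix.det_one] at h1
  exact zero_ne_one h1

variable [IsAlgClosed K]

theorem saturation (r : ℕ) (hM : r + 1 ≤ M) (hQ : r + 1 ≤ Q)
    (G : MvPolynomial (Fin M × Fin Q) K) (h : PairRing K (r + 1) M Q)
    (hG : pairingMap K (r + 1) M Q G =
      pairingMap K (r + 1) M Q ((Z11 (Fin.castLE hM) (Fin.castLE hQ)).det) * h) :
    h ∈ (pairingMap K (r + 1) M Q).range := by
  set Δ := (Z11 (K := K) (Fin.castLE hM) (Fin.castLE hQ)).det with hΔ
  have hM0 : 0 < M := by omega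
  have hQ0 : 0 < Q := by omega
  set w := wIdx M Q (r + 2) (by omega) (by omega) with hw
  obtain ⟨e, hΔeq⟩ : ∃ e : ℕ, Δ = (-1) ^ e * Θc K M Q (X w) := by
    have := minorOf_eq (K := K) (cornerIdx r hM hQ)
    rw [PhiM_cornerIdx] at this
    exact ⟨_, this⟩
  set 𝔞 := CAlgX.minorIdeal (genMatrix K M Q) (r + 2) ⊔ Ideal.span {Θc K M Q (X w)} with h𝔞
  have hrad : 𝔞.IsRadical := isRadical_minorIdeal_sup hM0 hQ0 (r + 2) (by omega) (by omega)
  have hΔmem : Δ ∈ 𝔞 := by
    rw [hΔeq]
    exact Ideal.mem_sup_right (Ideal.mul_mem_left _ _ (Ideal.subset_span rfl))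
  have hGmem : G ∈ 𝔞 := by
    rw [← hrad.radical, ← MvPolynomial.vanishingIdeal_zeroLocus_eq_radical (K := K),
      MvPolynomial.mem_vanishingIdeal_iff]
    intro z hz
    rw [MvPolynomial.mem_zeroLocus_iff] at hz
    have hmin : ∀ (f : Fin (r + 1 + 1) → Fin M) (g : Fin (r + 1 + 1) → Fin Q),
        ((Matrix.of fun i j => z (i, j)).submatrix f g).det = 0 := by
      intro f g
      rw [← eval_minor]
      have := hz _ (Ideal.mem_sup_left (Ideal.subset_span ⟨(f, g), rfl⟩))
      rwa [MvPolynomial.aeval_eq_eval] at this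
    obtain ⟨U, W, hUW⟩ := RankFactor.exists_factor_of_minors _ hmin
    have hz2 : z = fun p => (Umat (ptOf U W) * Wmat (ptOf U W)) p.1 p.2 := by
      funext ⟨i, j⟩
      rw [Umat_ptOf, Wmat_ptOf, ← hUW]
      rfl
    have h0 := hz Δ hΔmem
    rw [MvPolynomial.aeval_eq_eval] at h0 ⊢
    have h1 : MvPolynomial.eval z G = MvPolynomial.eval (ptOf U W) (pairingMap K (r + 1) M Q G) := by
      rw [eval_pairingMap, ← hz2]
    rw [h1, hG, map_mul, eval_pairingMap, ← hz2, h0, zero_mul]
  rw [h𝔞, Submodule.mem_sup] at hGmem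
  obtain ⟨i, hi, b, hb, hib⟩ := hGmem
  rw [Ideal.mem_span_singleton'] at hb
  obtain ⟨c, rfl⟩ := hb
  have hker : pairingMap K (r + 1) M Q i = 0 := by
    have : i ∈ RingHom.ker (pairingMap K (r + 1) M Q).toRingHom := by
      rw [ker_pairingMap]
      exact hi
    exact this
  have hΘ : Θc K M Q (X w) = (-1) ^ e * Δ := by
    rw [hΔeq, ← mul_assoc, ← pow_add, ← two_mul, pow_mul, neg_one_sq, one_pow, one_mul]
  refine ⟨c * (-1) ^ e, ?_⟩
  have h1 : pairingMap K (r + 1) M Q Δ * h =
      pairingMap K (r + 1) M Q Δ * pairingMap K (r + 1) M Q (c * (-1) ^ e) := by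
    rw [← hG, ← hib, map_add, hker, zero_add, hΘ, ← map_mul]
    congr 1
    ring
  exact (mul_left_cancel₀ (pairing_corner_ne_zero r hM hQ) h1).symm

/-- the first fundamental theorem when the matrices are large enough. -/
theorem fft_big (r : ℕ) (hM : r + 1 ≤ M) (hQ : r + 1 ≤ Q) (f : PairRing K (r + 1) M Q)
    (hf : ∀ A : GL (Fin (r + 1)) K, glTranslate K (r + 1) M Q A f = f) :
    f ∈ (pairingMap K (r + 1) M Q).range := by
  have key : ∀ (N : ℕ) (P : MvPolynomial (Fin M × Fin Q) K),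
      pairingMap K (r + 1) M Q ((Z11 (Fin.castLE hM) (Fin.castLE hQ)).det) ^ N * f =
        pairingMap K (r + 1) M Q P → f ∈ (pairingMap K (r + 1) M Q).range := by
    intro N
    induction N with
    | zero =>
      intro P hP
      rw [pow_zero, one_mul] at hP
      exact ⟨P, hP.symm⟩
    | succ N ih =>
      intro P hP
      obtain ⟨P', hP'⟩ := saturation r hM hQ P
        (pairingMap K (r + 1) M Q ((Z11 (Fin.castLE hM) (Fin.castLE hQ)).det) ^ N * f) (by
          rw [← hP, pow_succ]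
          ring)
      exact ih P' hP'.symm
  exact key _ _ (normal_form _ _ (Fin.castLE_injective hM) f hf)

end Saturation

end Groth.Agent.Lib.Helper22.Grass
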