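import Mathlib
import Groth.Agent.Lib.Helper22.GrassGL2

/-!
# The first fundamental theorem for `GL_n`: reduction to large matrices
-/

set_option autoImplicit false

namespace Groth.Agent.Lib.Helper22.Grass

open W4bk4grassmannian MvPolynomial

universe u

section Reduction

variable {K : Type u} [Field K] {n m q : ℕ}

/-- embedding of the variables. -/
def embV (n m q : ℕ) : VP n m q → VP n (m + n) (q + n) :=
  Sum.elim (fun p => Sum.inl (Fin.castAdd n p.1, p.2)) (fun p => Sum.inr (p.1, Fin.castAdd n p.2))

/-- enlarging the matrices. -/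
noncomputable def embP : PairRing K n m q →ₐ[K] PairRing K n (m + n) (q + n) :=
  MvPolynomial.rename (embV n m q)

/-- setting the new variables to zero. -/
noncomputable def retP : PairRing K n (m + n) (q + n) →ₐ[K] PairRing K n m q :=
  MvPolynomial.aeval (Sum.elim
    (fun p : Fin (m + n) × Fin n =>
      if h : p.1.val < m then (X (Sum.inl (⟨p.1.val, h⟩, p.2)) : PairRing K n m q) else 0)
    (fun p : Fin n × Fin (q + n) =>
      if h : p.2.val < q then (X (Sum.inr (p.1, ⟨p.2.val, h⟩)) : PairRing K n m q) else 0))

lemma retP_embP (f : PairRing K n m q) : retP (embP f) = f := by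
  have h : (retP (K := K) (n := n) (m := m) (q := q)).comp embP = AlgHom.id K _ := by
    apply MvPolynomial.algHom_ext
    rintro (⟨i, k⟩ | ⟨k, j⟩)
    · simp only [AlgHom.comp_apply, embP, rename_X, embV, Sum.elim_inl, retP, aeval_X,
        AlgHom.id_apply, Fin.val_castAdd]
      rw [dif_pos i.isLt]
    · simp only [AlgHom.comp_apply, embP, rename_X, embV, Sum.elim_inr, retP, aeval_X,
        AlgHom.id_apply, Fin.val_castAdd]
      rw [dif_pos j.isLt]
  exact congrArg (fun φ : PairRing K n m q →ₐ[K] PairRing K n m q => φ f) h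

/-- setting the new variables of the product matrix to zero. -/
noncomputable def retY : MvPolynomial (Fin (m + n) × Fin (q + n)) K →ₐ[K]
    MvPolynomial (Fin m × Fin q) K :=
  MvPolynomial.aeval (fun p : Fin (m + n) × Fin (q + n) =>
    if h : p.1.val < m ∧ p.2.val < q then
      (X (⟨p.1.val, h.1⟩, ⟨p.2.val, h.2⟩) : MvPolynomial (Fin m × Fin q) K) else 0)

lemma retP_pairingMap (g : MvPolynomial (Fin (m + n) × Fin (q + n)) K) :
    retP (pairingMap K n (m + n) (q + n) g) = pairingMap K n m q (retY g) := by
  have h : (retP (K := K) (n := n) (m := m) (q := q)).comp (pairingMap K n (m + n) (q + n)) =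
      (pairingMap K n m q).comp retY := by
    apply MvPolynomial.algHom_ext
    rintro ⟨i, j⟩
    simp only [AlgHom.comp_apply, pairingMap, aeval_X, map_sum, map_mul, retP, Sum.elim_inl,
      Sum.elim_inr, retY]
    by_cases hi : i.val < m
    · by_cases hj : j.val < q
      · rw [dif_pos ⟨hi, hj⟩, aeval_X]
        refine Finset.sum_congr rfl (fun k _ => ?_)
        rw [dif_pos hi, dif_pos hj]
      · rw [dif_neg (fun h => hj h.2), map_zero]
        refine Finset.sum_eq_zero (fun k _ => ?_)
        rw [dif_neg hj, mul_zero]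
    · rw [dif_neg (fun h => hi h.1), map_zero]
      refine Finset.sum_eq_zero (fun k _ => ?_)
      rw [dif_neg hi, zero_mul]
  exact congrArg
    (fun φ : MvPolynomial (Fin (m + n) × Fin (q + n)) K →ₐ[K] PairRing K n m q => φ g) h

lemma embP_glTranslate (A : GL (Fin n) K) (f : PairRing K n m q) :
    embP (glTranslate K n m q A f) = glTranslate K n (m + n) (q + n) A (embP f) := by
  have h : (embP (K := K) (n := n) (m := m) (q := q)).comp (glTranslate K n m q A) =
      (glTranslate K n (m + n) (q + n) A).comp embP := by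
    apply MvPolynomial.algHom_ext
    rintro (⟨i, k⟩ | ⟨k, j⟩)
    · simp only [AlgHom.comp_apply, glTranslate, aeval_X, Sum.elim_inl, map_sum, map_mul, embP,
        rename_X, rename_C, embV]
    · simp only [AlgHom.comp_apply, glTranslate, aeval_X, Sum.elim_inr, map_sum, map_mul, embP,
        rename_X, rename_C, embV]
  exact congrArg
    (fun φ : PairRing K n m q →ₐ[K] PairRing K n (m + n) (q + n) => φ f) h

/-- the first fundamental theorem of invariant theory for `GL_n`. -/
theorem fft [IsAlgClosed K] (n m q : ℕ) (f : PairRing K n m q)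
    (hf : ∀ A : GL (Fin n) K, glTranslate K n m q A f = f) :
    f ∈ (pairingMap K n m q).range := by
  rcases n with _ | r
  · haveI : IsEmpty (VP 0 m q) := by
      refine ⟨fun v => ?_⟩
      rcases v with ⟨i, k⟩ | ⟨k, j⟩
      · exact k.elim0
      · exact k.elim0
    refine ⟨C (coeff 0 f), ?_⟩
    conv_rhs => rw [MvPolynomial.eq_C_of_isEmpty f]
    exact (pairingMap K 0 m q).commutes _
  · have h1 : ∀ A : GL (Fin (r + 1)) K,
        glTranslate K (r + 1) (m + (r + 1)) (q + (r + 1)) A (embP f) = embP f := fun A => by
      rw [← embP_glTranslate, hf]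
    obtain ⟨g, hg⟩ := fft_big r (by omega) (by omega) (embP f) h1
    refine ⟨retY g, ?_⟩
    have hg' : pairingMap K (r + 1) (m + (r + 1)) (q + (r + 1)) g = embP f := hg
    show pairingMap K (r + 1) m q (retY g) = f
    rw [← retP_pairingMap, hg', retP_embP]

end Reduction

end Groth.Agent.Lib.Helper22.Grass
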