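import Mathlib
import Groth.Agent.Lib.Helper22.GrassASL

/-!
# The Hibi ring of `H(w)`: standard monomial basis, and the toric degeneration
-/

namespace Groth.Agent.Lib.Helper22.Grass

open W4bk4grassmannian MvPolynomial

universe u

section General

lemma prod_X_update_update {K : Type*} [CommRing K] {σ : Type*} {m : ℕ} (c : Fin m → σ)
    (p q : Fin m) (hpq : p ≠ q) (a b : σ) :
    ∏ l, (X (Function.update (Function.update c p a) q b l) : MvPolynomial σ K) =
      X a * X b * ∏ l ∈ (Finset.univ.erase q).erase p, (X (c l) : MvPolynomial σ K) := by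
  rw [← Finset.mul_prod_erase Finset.univ _ (Finset.mem_univ q),
    ← Finset.mul_prod_erase (Finset.univ.erase q) _
      (Finset.mem_erase.2 ⟨hpq, Finset.mem_univ p⟩)]
  rw [Function.update_self, Function.update_of_ne hpq, Function.update_self]
  have : ∀ l ∈ (Finset.univ.erase q).erase p,
      (X (Function.update (Function.update c p a) q b l) : MvPolynomial σ K) = X (c l) := by
    intro l hl
    have h1 : l ≠ p := (Finset.mem_erase.1 hl).1
    have h2 : l ≠ q := (Finset.mem_erase.1 (Finset.mem_erase.1 hl).2).1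
    rw [Function.update_of_ne h2, Function.update_of_ne h1]
  rw [Finset.prod_congr rfl this]
  ring

lemma prod_X_eq_mul {K : Type*} [CommRing K] {σ : Type*} {m : ℕ} (c : Fin m → σ)
    (p q : Fin m) (hpq : p ≠ q) :
    ∏ l, (X (c l) : MvPolynomial σ K) =
      X (c p) * X (c q) * ∏ l ∈ (Finset.univ.erase q).erase p, (X (c l) : MvPolynomial σ K) := by
  rw [← prod_X_update_update c p q hpq, Function.update_eq_self, Function.update_eq_self]

lemma prod_monomial {A : Type*} [CommRing A] {ι : Type*} (s : Finset ι) (n : ι → ℕ) (x : ι → A) :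
    ∏ k ∈ s, Polynomial.monomial (n k) (x k) = Polynomial.monomial (∑ k ∈ s, n k) (∏ k ∈ s, x k) := by
  classical
  induction s using Finset.induction_on with
  | empty => simp
  | insert a s ha ih =>
    rw [Finset.prod_insert ha, Finset.sum_insert ha, Finset.prod_insert ha, ih,
      Polynomial.monomial_mul_monomial]

end General

section Lattice

variable {d n : ℕ}

lemma diag_sup_add_diag_inf (a b : Idx d n) :
    diag (W4bk4grassmannian.sup a b) + diag (W4bk4grassmannian.inf a b) = diag a + diag b := by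
  unfold diag
  rw [← Finset.sum_add_distrib, ← Finset.sum_add_distrib]
  refine Finset.sum_congr rfl (fun t _ => ?_)
  show Finsupp.single (max (a.1 t) (b.1 t), t) 1 + Finsupp.single (min (a.1 t) (b.1 t), t) 1 = _
  rcases le_total (a.1 t) (b.1 t) with h | h
  · rw [max_eq_right h, min_eq_left h, add_comm]
  · rw [max_eq_left h, min_eq_right h]

lemma isum_sup_gt (a b : Idx d n) (h : ¬ b ≤ a) :
    isum a.1 < isum (W4bk4grassmannian.sup a b).1 := by
  have hex : ∃ t, a.1 t < b.1 t := by
    by_contra hne
    push Not at hne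
    exact h hne
  obtain ⟨t, ht⟩ := hex
  unfold isum
  refine Finset.sum_lt_sum (fun s _ => ?_) ⟨t, Finset.mem_univ _, ?_⟩
  · exact Fin.le_def.1 (le_max_left (a.1 s) (b.1 s))
  · show (a.1 t).val < (max (a.1 t) (b.1 t)).val
    rw [max_eq_right ht.le]
    exact Fin.lt_def.1 ht

end Lattice

section HibiBasis

variable (K : Type u) [Field K] {d n : ℕ} (w : Idx d n)

/-- the Hibi ring of `H(w)`. -/
abbrev HibiRing : Type u := MvPolynomial (Below w) K ⧸ hibiIdeal K w

/-- the lift of a chain below `w` to the variables of `H(w)`. -/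
def liftCh {w : Idx d n} (c : Ch w) : Fin c.1 → Below w := fun k => ⟨c.2.1 k, c.le k⟩

/-- the monomial of a chain in the variables of `H(w)`. -/
noncomputable def monB (c : Ch w) : MvPolynomial (Below w) K := ∏ k, X (liftCh c k)

/-- the class of a standard monomial in the Hibi ring. -/
noncomputable def βH (c : Ch w) : HibiRing K w := Ideal.Quotient.mk _ (monB K w c)

/-- the toric map `x_θ ↦` diagonal monomial of `θ`. -/
noncomputable def toric : MvPolynomial (Below w) K →ₐ[K] MatRing K d n :=
  MvPolynomial.aeval fun θ : Below w => monomial (diag θ.1) (1 : K)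

lemma toric_monB (c : Ch w) : toric K w (monB K w c) = monomial (delta c.2.1) 1 := by
  unfold monB toric delta
  rw [map_prod, MvPolynomial.monomial_sum_one]
  refine Finset.prod_congr rfl (fun k _ => ?_)
  rw [MvPolynomial.aeval_X]
  rfl

lemma hibiIdeal_le_ker_toric : hibiIdeal K w ≤ RingHom.ker (toric K w) := by
  unfold hibiIdeal
  rw [Ideal.span_le]
  rintro f ⟨a, b, rfl⟩
  rw [SetLike.mem_coe, RingHom.mem_ker]
  unfold toric
  rw [map_sub, map_mul, map_mul, MvPolynomial.aeval_X, MvPolynomial.aeval_X,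
    MvPolynomial.aeval_X, MvPolynomial.aeval_X, MvPolynomial.monomial_mul,
    MvPolynomial.monomial_mul]
  have : diag (Below.sup a b).1 + diag (Below.inf a b).1 = diag a.1 + diag b.1 :=
    diag_sup_add_diag_inf a.1 b.1
  rw [this, sub_self]

/-- the toric map on the Hibi ring. -/
noncomputable def toricBar : HibiRing K w →ₐ[K] MatRing K d n :=
  Ideal.Quotient.liftₐ (hibiIdeal K w) (toric K w)
    (fun f hf => hibiIdeal_le_ker_toric K w hf)

theorem linearIndependent_βH (hd : 0 < d) : LinearIndependent K (βH K w) := by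
  have h1 : LinearIndependent K (fun c : Ch w => (monomial (delta c.2.1) (1 : K) : MatRing K d n)) := by
    have := (MvPolynomial.basisMonomials (Fin n × Fin d) K).linearIndependent.comp
      (fun c : Ch w => delta c.2.1) (fun c c' h => ChU_ext hd c c' h)
    rw [MvPolynomial.coe_basisMonomials] at this
    exact this
  refine LinearIndependent.of_comp (toricBar K w).toLinearMap ?_
  have h2 : ((toricBar K w).toLinearMap ∘ βH K w) =
      fun c : Ch w => (monomial (delta c.2.1) (1 : K) : MatRing K d n) := by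
    funext c
    show toricBar K w (βH K w c) = _
    unfold toricBar βH
    rw [Ideal.Quotient.liftₐ_apply]
    exact toric_monB K w c
  rw [h2]
  exact h1

variable {K w}

/-- **Straightening in the Hibi ring**: every monomial is a standard monomial. -/
theorem mk_prod_mem_range_βH {m : ℕ} (c : Fin m → Below w) :
    Ideal.Quotient.mk (hibiIdeal K w) (∏ k, X (c k)) ∈ Set.range (βH K w) := by
  classical
  have hs : WellFounded (fun a b : Below w => isum b.1.1 < isum a.1.1) := by
    have : IsTrans (Below w) (fun a b : Below w => isum b.1.1 < isum a.1.1) :=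
      ⟨fun a b c h1 h2 => lt_trans h2 h1⟩
    have : Std.Irrefl (fun a b : Below w => isum b.1.1 < isum a.1.1) :=
      ⟨fun a h => lt_irrefl _ h⟩
    exact Finite.wellFounded_of_trans_of_irrefl _
  have wf := Pi.Lex.wellFounded (ι := Fin m) (· < ·) (fun _ => hs)
  refine wf.induction (C := fun c => Ideal.Quotient.mk (hibiIdeal K w) (∏ k, X (c k)) ∈
    Set.range (βH K w)) c ?_
  intro c ih
  by_cases hanti : Antitone c
  · refine ⟨⟨m, fun k => (c k).1, fun a b hab => hanti hab, 0, fun k => (c k).2⟩, ?_⟩
    rfl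
  · obtain _ | m' := m
    · exact absurd (fun a => a.elim0) hanti
    rw [Fin.antitone_iff_succ_le] at hanti
    push Not at hanti
    obtain ⟨k, hk⟩ := hanti
    set i := c k.castSucc with hi
    set j := c k.succ with hj
    have hkne : k.castSucc ≠ k.succ := (Fin.castSucc_lt_succ (i := k)).ne
    set c' := Function.update (Function.update c k.castSucc (Below.sup i j)) k.succ
      (Below.inf i j) with hc'
    have hlex : Pi.Lex (· < ·) (fun {_} (a b : Below w) => isum b.1.1 < isum a.1.1) c' c := by
      refine ⟨k.castSucc, fun l hl => ?_, ?_⟩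
      · have h1 : l ≠ k.castSucc := hl.ne
        have h2 : l ≠ k.succ := (lt_trans hl Fin.castSucc_lt_succ).ne
        rw [hc', Function.update_of_ne h2, Function.update_of_ne h1]
      · show isum (c k.castSucc).1.1 < isum (c' k.castSucc).1.1
        rw [hc', Function.update_of_ne hkne, Function.update_self]
        exact isum_sup_gt i.1 j.1 hk
    have heq : Ideal.Quotient.mk (hibiIdeal K w) (∏ l, X (c l)) =
        Ideal.Quotient.mk (hibiIdeal K w) (∏ l, X (c' l)) := by
      rw [prod_X_eq_mul c _ _ hkne, hc', prod_X_update_update c _ _ hkne, map_mul, map_mul (Ideal.Quotient.mk _) (X (Below.sup i j) * X (Below.inf i j))]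
      congr 1
      rw [Ideal.Quotient.eq]
      exact Ideal.subset_span ⟨i, j, rfl⟩
    rw [heq]
    exact ih c' hlex

lemma exists_prod_X {σ : Type*} (s : σ →₀ ℕ) (a : K) :
    ∃ (b : K) (m : ℕ) (c : Fin m → σ), monomial s a = C b * ∏ k, (X (c k) : MvPolynomial σ K) := by
  refine MvPolynomial.induction_on_monomial
    (motive := fun p => ∃ (b : K) (m : ℕ) (c : Fin m → σ), p = C b * ∏ k, X (c k)) ?_ ?_ s a
  · intro a
    exact ⟨a, 0, Fin.elim0, by simp⟩
  · rintro p θ ⟨b, m, c, rfl⟩
    refine ⟨b, m + 1, Fin.snoc c θ, ?_⟩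
    rw [Fin.prod_univ_castSucc]
    simp only [Fin.snoc_castSucc, Fin.snoc_last]
    ring

theorem span_βH : ⊤ ≤ Submodule.span K (Set.range (βH K w)) := by
  intro x _
  obtain ⟨f, rfl⟩ := Ideal.Quotient.mk_surjective x
  induction f using MvPolynomial.induction_on' with
  | monomial s a =>
    obtain ⟨b, m, c, h⟩ := exists_prod_X (K := K) s a
    rw [h, MvPolynomial.C_mul']
    have : Ideal.Quotient.mk (hibiIdeal K w) (b • ∏ k, X (c k)) =
        b • Ideal.Quotient.mk (hibiIdeal K w) (∏ k, X (c k)) :=
      map_smul (Ideal.Quotient.mkₐ K (hibiIdeal K w)) _ _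
    rw [this]
    exact Submodule.smul_mem _ _ (Submodule.subset_span (mk_prod_mem_range_βH c))
  | add p q hp hq =>
    rw [map_add]
    exact Submodule.add_mem _ (hp trivial) (hq trivial)

variable (K w)

/-- the standard monomial basis of the Hibi ring. -/
noncomputable def basisH (hd : 0 < d) : Module.Basis (Ch w) K (HibiRing K w) :=
  Module.Basis.mk (linearIndependent_βH K w hd) span_βH

lemma basisH_apply (hd : 0 < d) (c : Ch w) : basisH K w hd c = βH K w c := by
  rw [basisH, Module.Basis.mk_apply]

end HibiBasis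

section HibiDegen

variable {K : Type u} [Field K] [Infinite K] {d n : ℕ} (hd : 0 < d) (w : Idx d n)

open Groth.Agent.Lib.Helper22.Rees

lemma mem_FilH_of_LT (x : Aw K w) (μ : Fin n × Fin d →₀ ℕ) (h : LT (Ebar K w x) μ) :
    x ∈ Fil (basisCh K hd w) (ωH w) (wt μ) := by
  classical
  rw [mem_FilH_iff]
  intro ν hν
  rw [h ν hν.le, if_neg]
  intro h'
  rw [h'] at hν
  exact lt_irrefl _ hν

lemma LT_Ebar_X (θ : Idx d n) (hθ : θ ≤ w) :
    LT (Ebar K w (Ideal.Quotient.mk _ (X θ))) (diag θ) := by
  rw [Ebar_mk, evalL_X]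
  exact LT_minor w θ hθ

/-- a monomial `z t^N` of the Rees algebra is divisible by `t` if the evaluation of `z` has no
monomials of weight `≥ N`. -/
lemma mk_monomial_eq_zero_of_coeff (z : Aw K w) (N : ℕ)
    (hz : ∀ ν, N ≤ wt ν → coeff ν (Ebar K w z) = 0)
    (hmem : Polynomial.monomial N z ∈ rees (mult_H (K := K) hd w)) :
    Ideal.Quotient.mk (I0 (mult_H (K := K) hd w)) ⟨Polynomial.monomial N z, hmem⟩ = 0 := by
  obtain _ | k := N
  · have h0 : z = 0 := by
      have := (repr_weight_lt_iff hd w z 0).2 hz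
      have hr : (basisCh K hd w).repr z = 0 := by
        ext e
        by_contra he
        exact absurd (this e he) (Nat.not_lt_zero _)
      exact (basisCh K hd w).repr.map_eq_zero_iff.1 hr
    have : (⟨Polynomial.monomial 0 z, hmem⟩ : rees (mult_H (K := K) hd w)) = 0 := by
      apply Subtype.ext
      simp [h0]
    rw [this, map_zero]
  · have hk : z ∈ Fil (basisCh K hd w) (ωH w) k :=
      (mem_FilH_iff hd w z k).2 (fun ν hν => hz ν hν)
    exact mk_monomial_succ_eq_zero (mult_H (K := K) hd w) hk

/-- the image of the variable `x_θ` in the Rees algebra. -/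
noncomputable def genH (θ : Below w) : rees (mult_H (K := K) hd w) :=
  ⟨Polynomial.monomial (wt (diag θ.1)) (Ideal.Quotient.mk _ (X θ.1)),
    monomial_mem_rees _ (mem_FilH_of_LT hd w _ _ (LT_Ebar_X w θ.1 θ.2))⟩

/-- the map from the polynomial ring on `H(w)` to the special fibre. -/
noncomputable def ψH : MvPolynomial (Below w) K →ₐ[K]
    (rees (mult_H (K := K) hd w) ⧸ I0 (mult_H (K := K) hd w)) :=
  MvPolynomial.aeval fun θ => Ideal.Quotient.mk _ (genH hd w θ)

lemma ψH_monB (c : Ch w) : ψH hd w (monB K w c) = eBar (mult_H (K := K) hd w) c := by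
  unfold ψH monB eBar
  rw [map_prod]
  simp only [MvPolynomial.aeval_X]
  rw [← map_prod]
  congr 1
  apply Subtype.ext
  rw [SubmonoidClass.coe_finset_prod]
  unfold genH eR
  simp only
  rw [prod_monomial]
  congr 1
  · unfold ωH delta
    rw [map_sum]
    rfl
  · rw [basisCh_apply]
    unfold bCh chainMon
    rw [map_prod]
    rfl

lemma hibiIdeal_le_ker_ψH : hibiIdeal K w ≤ RingHom.ker (ψH hd w) := by
  classical
  unfold hibiIdeal
  rw [Ideal.span_le]
  rintro f ⟨a, b, rfl⟩
  rw [SetLike.mem_coe, RingHom.mem_ker]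
  set z : Aw K w := Ideal.Quotient.mk _ (X a.1 * X b.1 -
    X (W4bk4grassmannian.sup a.1 b.1) * X (W4bk4grassmannian.inf a.1 b.1)) with hz
  set N := wt (diag a.1 + diag b.1) with hN
  have hwt : wt (diag (Below.sup a b).1) + wt (diag (Below.inf a b).1) = N := by
    rw [← map_add]
    exact congrArg wt (diag_sup_add_diag_inf a.1 b.1)
  have hwt' : wt (diag a.1) + wt (diag b.1) = N := (map_add wt _ _).symm
  have hz' : z = Ideal.Quotient.mk _ (X a.1) * Ideal.Quotient.mk _ (X b.1) -
      Ideal.Quotient.mk _ (X (W4bk4grassmannian.sup a.1 b.1)) *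
        Ideal.Quotient.mk _ (X (W4bk4grassmannian.inf a.1 b.1)) := by
    rw [hz, map_sub, map_mul, map_mul]
  have hval : ((genH hd w a * genH hd w b - genH hd w (Below.sup a b) * genH hd w (Below.inf a b) :
      rees (mult_H (K := K) hd w)) : Polynomial (Aw K w)) = Polynomial.monomial N z := by
    rw [AddSubgroupClass.coe_sub, MulMemClass.coe_mul, MulMemClass.coe_mul]
    unfold genH
    simp only
    rw [Polynomial.monomial_mul_monomial, Polynomial.monomial_mul_monomial, hwt, hwt',
      ← map_sub, hz']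
    rfl
  have hmem : Polynomial.monomial N z ∈ rees (mult_H (K := K) hd w) := by
    rw [← hval]
    exact SetLike.coe_mem _
  have hcoeff : ∀ ν, N ≤ wt ν → coeff ν (Ebar K w z) = 0 := by
    intro ν hν
    rw [hz', map_sub, map_mul, map_mul, MvPolynomial.coeff_sub]
    have h1 := (LT_Ebar_X (K := K) w a.1 a.2).mul (LT_Ebar_X (K := K) w b.1 b.2)
    have h2 := (LT_Ebar_X (K := K) w (W4bk4grassmannian.sup a.1 b.1) (Below.sup a b).2).mul
      (LT_Ebar_X (K := K) w (W4bk4grassmannian.inf a.1 b.1) (Below.inf a b).2)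
    rw [diag_sup_add_diag_inf a.1 b.1] at h2
    rw [h1 ν hν, h2 ν hν, sub_self]
  have := mk_monomial_eq_zero_of_coeff hd w z N hcoeff hmem
  unfold ψH
  rw [map_sub, map_mul, map_mul]
  simp only [MvPolynomial.aeval_X]
  rw [← map_mul, ← map_mul, ← map_sub]
  rw [← this]
  congr 1
  exact Subtype.ext hval

/-- the induced map on the Hibi ring. -/
noncomputable def ψHbar : HibiRing K w →ₐ[K]
    (rees (mult_H (K := K) hd w) ⧸ I0 (mult_H (K := K) hd w)) :=
  Ideal.Quotient.liftₐ (hibiIdeal K w) (ψH hd w) (fun f hf => hibiIdeal_le_ker_ψH hd w hf)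

theorem ψHbar_bijective : Function.Bijective (ψHbar (K := K) hd w) := by
  refine bijective_of_basis (mult_H (K := K) hd w) (basisH K w hd) (ψHbar hd w) (fun c => ?_)
  rw [basisH_apply]
  unfold ψHbar βH
  rw [Ideal.Quotient.liftₐ_apply]
  exact ψH_monB hd w c

include hd in
/-- **Toric degeneration of the cone over a Schubert variety to the Hibi ring.** -/
theorem exists_hibi_family :
    ∃ (R : Type u) (_ : CommRing R) (_ : Algebra K R) (_ : Algebra (Polynomial K) R)
      (_ : IsScalarTower K (Polynomial K) R),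
      Module.Free (Polynomial K) R ∧
      Nonempty ((R ⧸ Ideal.span {algebraMap (Polynomial K) R Polynomial.X}) ≃ₐ[K]
        (MvPolynomial (Below w) K ⧸ hibiIdeal K w)) ∧
      ∀ c : K, c ≠ 0 →
        Nonempty ((R ⧸ Ideal.span {algebraMap (Polynomial K) R (Polynomial.X - Polynomial.C c)}) ≃ₐ[K]
          (PlRing K d n ⧸ schubertVanishing K d n w)) := by
  refine ⟨↥(rees (mult_H (K := K) hd w)), inferInstance, inferInstance,
    Rees.instAlgebraPoly (mult_H (K := K) hd w), Rees.instIsScalarTower (mult_H (K := K) hd w),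
    ?_, ?_, ?_⟩
  · exact free_rees (mult_H (K := K) hd w)
  · exact ⟨(AlgEquiv.ofBijective (ψHbar (K := K) hd w) (ψHbar_bijective hd w)).symm⟩
  · intro c hc
    exact ⟨fibreEquiv (mult_H (K := K) hd w) c hc⟩

end HibiDegen

end Groth.Agent.Lib.Helper22.Grass
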