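import Mathlib
import Groth.Agent.Lib.Helper22.GrassCoord

/-!
# The Plücker quadrics cut out the Grassmannian set-theoretically
-/

set_option autoImplicit false

namespace Groth.Agent.Lib.Helper22.Grass

open W4bk4grassmannian MvPolynomial

universe u

section Vanish

variable {K : Type u} [CommRing K] {e n : ℕ}

/-- the quadrics vanish at the minors of a matrix. -/
theorem evalL_quadric (A : Matrix (Fin n) (Fin (e + 1)) K) (i' : Idx e n) (j' : Idx (e + 2) n) :
    evalL (K := K) A (quadric K i' j') = 0 := by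
  unfold quadric
  rw [map_sum]
  simp_rw [map_mul, map_pow, map_neg, map_one, evalL_coord]
  have h1 : ∀ r : Fin n, (A.submatrix (Fin.snoc i'.1 r : Fin (e + 1) → Fin n) id).det =
      ∑ c : Fin (e + 1), (-1) ^ (e + c.val) * A r c * (A.submatrix i'.1 c.succAbove).det := by
    intro r
    rw [Matrix.det_succ_row _ (Fin.last e)]
    refine Finset.sum_congr rfl (fun c _ => ?_)
    have h2 : (A.submatrix (Fin.snoc i'.1 r : Fin (e + 1) → Fin n) id).submatrix
        (Fin.last e).succAbove c.succAbove = A.submatrix i'.1 c.succAbove := by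
      ext x y
      simp only [Matrix.submatrix_apply, id, Fin.succAbove_last, Fin.snoc_castSucc]
    rw [h2]
    simp only [Matrix.submatrix_apply, id, Fin.snoc_last, Fin.val_last]
  have h3 : ∀ c : Fin (e + 1), ∑ h : Fin (e + 2), (-1) ^ h.val * A (j'.1 h) c *
      (A.submatrix (j'.1 ∘ h.succAbove) id).det = 0 := by
    intro c
    set N : Matrix (Fin (e + 2)) (Fin (e + 2)) K :=
      Matrix.of fun h k => Fin.cases (A (j'.1 h) c) (fun k' => A (j'.1 h) k') k with hN
    have hdet : N.det = 0 := by
      refine Matrix.det_zero_of_column_eq (Fin.succ_ne_zero c).symm (fun h => ?_)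
      simp [hN]
    rw [Matrix.det_succ_column_zero] at hdet
    rw [← hdet]
    refine Finset.sum_congr rfl (fun h _ => ?_)
    have h4 : N.submatrix h.succAbove Fin.succ = A.submatrix (j'.1 ∘ h.succAbove) id := by
      ext x y
      simp [hN]
    rw [h4]
    simp [hN]
  simp_rw [h1, Finset.mul_sum, Finset.sum_mul]
  rw [Finset.sum_comm]
  refine Finset.sum_eq_zero (fun c _ => ?_)
  have h5 : ∀ h : Fin (e + 2), (-1 : K) ^ (h.val + 1) * ((-1) ^ (e + c.val) * A (j'.1 h) c *
      (A.submatrix i'.1 c.succAbove).det) * (A.submatrix (j'.1 ∘ h.succAbove) id).det =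
      ((-1) ^ (e + c.val + 1) * (A.submatrix i'.1 c.succAbove).det) *
        ((-1) ^ h.val * A (j'.1 h) c * (A.submatrix (j'.1 ∘ h.succAbove) id).det) := by
    intro h
    ring
  simp_rw [h5]
  rw [← Finset.mul_sum, h3 c, mul_zero]

end Vanish

section Unique

variable {K : Type u} [Field K] {d n : ℕ}

/-- the set of rows of an index. -/
def im (θ : Idx d n) : Finset (Fin n) := Finset.univ.image θ.1

lemma card_im (θ : Idx d n) : (im θ).card = d := by
  unfold im
  rw [Finset.card_image_of_injective _ θ.2.injective, Finset.card_univ, Fintype.card_fin]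

lemma idx_eq_of_im_eq {θ ψ : Idx d n} (h : im θ = im ψ) : θ = ψ := by
  apply Subtype.ext
  have h1 := Finset.orderEmbOfFin_unique (card_im θ) (f := θ.1)
    (fun x => Finset.mem_image_of_mem _ (Finset.mem_univ x)) θ.2
  have h2 := Finset.orderEmbOfFin_unique (card_im θ) (f := ψ.1)
    (fun x => h ▸ Finset.mem_image_of_mem _ (Finset.mem_univ x)) ψ.2
  rw [h1, h2]

lemma im_sortIdx (a : Fin d → Fin n) (h : (Finset.univ.image a).card = d) :
    im (sortIdx d n a h) = Finset.univ.image a := by
  unfold im sortIdx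
  exact Finset.image_orderEmbOfFin_univ _ h

/-- the signed value of a point at a tuple. -/
noncomputable def cv (q : Idx d n → K) (a : Fin d → Fin n) : K :=
  MvPolynomial.eval q (coord K d n a)

lemma cv_eq (q : Idx d n → K) (a : Fin d → Fin n) (θ : Idx d n)
    (h : Finset.univ.image a = im θ) : cv q a = (-1) ^ invCount d n a * q θ := by
  have hcard : (Finset.univ.image a).card = d := by rw [h, card_im]
  unfold cv coord
  rw [dif_pos hcard, map_mul, map_pow, map_neg, map_one, MvPolynomial.eval_X]
  have : sortIdx d n a hcard = θ := idx_eq_of_im_eq (by rw [im_sortIdx, h])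
  rw [this]

lemma cv_congr (q p : Idx d n → K) (a : Fin d → Fin n)
    (h : ∀ ψ : Idx d n, im ψ = Finset.univ.image a → q ψ = p ψ) : cv q a = cv p a := by
  by_cases hcard : (Finset.univ.image a).card = d
  · rw [cv_eq q a (sortIdx d n a hcard) (im_sortIdx a hcard).symm,
      cv_eq p a (sortIdx d n a hcard) (im_sortIdx a hcard).symm, h _ (im_sortIdx a hcard)]
  · unfold cv coord
    rw [dif_neg hcard, map_zero, map_zero]

end Unique

section Unique2

variable {K : Type u} [Field K] {e n : ℕ}

lemma image_snoc (f : Fin e → Fin n) (x : Fin n) :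
    Finset.univ.image (Fin.snoc f x : Fin (e + 1) → Fin n) = insert x (Finset.univ.image f) := by
  ext y
  simp only [Finset.mem_image, Finset.mem_univ, true_and, Finset.mem_insert]
  constructor
  · rintro ⟨t, rfl⟩
    induction t using Fin.lastCases with
    | last =>
      left
      rw [Fin.snoc_last]
    | cast t =>
      right
      exact ⟨t, by rw [Fin.snoc_castSucc]⟩
  · rintro (rfl | ⟨t, rfl⟩)
    · exact ⟨Fin.last e, by rw [Fin.snoc_last]⟩
    · exact ⟨t.castSucc, by rw [Fin.snoc_castSucc]⟩

lemma image_comp_succAbove {m : ℕ} (f : Fin (m + 1) → Fin n) (hf : Function.Injective f)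
    (u : Fin (m + 1)) :
    Finset.univ.image (f ∘ u.succAbove) = (Finset.univ.image f).erase (f u) := by
  rw [← Finset.image_image, Fin.image_succAbove_univ, ← Finset.image_erase hf,
    Finset.compl_singleton]

theorem eq_of_quadrics (q p : Idx (e + 1) n → K)
    (hq : ∀ (i' : Idx e n) (j' : Idx (e + 2) n), MvPolynomial.eval q (quadric K i' j') = 0)
    (hp : ∀ (i' : Idx e n) (j' : Idx (e + 2) n), MvPolynomial.eval p (quadric K i' j') = 0)
    (θ₀ : Idx (e + 1) n) (h0 : q θ₀ ≠ 0)
    (h1 : ∀ θ : Idx (e + 1) n, (im θ \ im θ₀).card ≤ 1 → q θ = p θ) : q = p := by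
  classical
  have key : ∀ k : ℕ, ∀ θ : Idx (e + 1) n, (im θ \ im θ₀).card ≤ k → q θ = p θ := by
    intro k
    induction k with
    | zero =>
      intro θ hθ
      exact h1 θ (by omega)
    | succ k ih =>
      intro θ hθ
      by_cases hk : (im θ \ im θ₀).card ≤ k
      · exact ih θ hk
      by_cases hk1 : k = 0
      · exact h1 θ (by omega)
      have hcard : (im θ \ im θ₀).card = k + 1 := by omega
      obtain ⟨r, hr⟩ : (im θ \ im θ₀).Nonempty := Finset.card_pos.1 (by omega)
      have hr' := Finset.mem_sdiff.1 hr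
      obtain ⟨u, -, hu⟩ := Finset.mem_image.1 hr'.1
      set i' : Idx e n := ⟨θ.1 ∘ u.succAbove, θ.2.comp (Fin.strictMono_succAbove u)⟩ with hi'
      have hS : (insert r (im θ₀)).card = e + 2 := by
        rw [Finset.card_insert_of_notMem hr'.2, card_im]
      set j' : Idx (e + 2) n := ⟨(insert r (im θ₀)).orderEmbOfFin hS,
        ((insert r (im θ₀)).orderEmbOfFin hS).strictMono⟩ with hj'
      have himj : im j' = insert r (im θ₀) := Finset.image_orderEmbOfFin_univ _ hS
      have himi : im i' = (im θ).erase r := by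
        unfold im
        rw [hi']
        simp only
        rw [image_comp_succAbove _ θ.2.injective, hu]
      obtain ⟨h₀, -, hh₀⟩ := Finset.mem_image.1
        (himj ▸ Finset.mem_insert_self r _ : r ∈ im j')
      set T : (Idx (e + 1) n → K) → Fin (e + 2) → K := fun x h =>
        (-1) ^ (h.val + 1) * cv x (Fin.snoc i'.1 (j'.1 h)) * cv x (j'.1 ∘ h.succAbove) with hTdef
      have hsum : ∀ x : Idx (e + 1) n → K,
          MvPolynomial.eval x (quadric K i' j') = ∑ h, T x h := by
        intro x
        unfold quadric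
        rw [map_sum]
        refine Finset.sum_congr rfl (fun h _ => ?_)
        rw [map_mul, map_mul, map_pow, map_neg, map_one]
        rfl
      have hT : ∀ h, h ≠ h₀ → T q h = T p h := by
        intro h hne
        have hs : j'.1 h ∈ im θ₀ := by
          have h2 : j'.1 h ∈ im j' := Finset.mem_image_of_mem _ (Finset.mem_univ h)
          rw [himj, Finset.mem_insert] at h2
          rcases h2 with h2 | h2
          · exact absurd (j'.2.injective (h2.trans hh₀.symm)) hne
          · exact h2
        simp only [hTdef]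
        congr 1
        · congr 1
          apply cv_congr
          intro ψ hψ
          apply ih
          rw [hψ, image_snoc]
          have h3 : Finset.univ.image i'.1 = (im θ).erase r := himi
          rw [h3, Finset.insert_sdiff_of_mem _ hs]
          have h4 : (im θ).erase r \ im θ₀ = (im θ \ im θ₀).erase r := by
            ext y
            simp only [Finset.mem_sdiff, Finset.mem_erase]
            tauto
          rw [h4, Finset.card_erase_of_mem hr, hcard]
          omega
        · apply cv_congr
          intro ψ hψ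
          apply ih
          rw [hψ, image_comp_succAbove _ j'.2.injective]
          have h3 : Finset.univ.image j'.1 = insert r (im θ₀) := himj
          rw [h3]
          have h4 : (insert r (im θ₀)).erase (j'.1 h) \ im θ₀ ⊆ {r} := by
            intro y hy
            simp only [Finset.mem_sdiff, Finset.mem_erase, Finset.mem_insert] at hy
            rw [Finset.mem_singleton]
            tauto
          refine (Finset.card_le_card h4).trans ?_
          rw [Finset.card_singleton]
          omega
      have hT0 : T q h₀ = T p h₀ := by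
        have e1 := hsum q
        rw [hq] at e1
        have e2 := hsum p
        rw [hp] at e2
        rw [← Finset.add_sum_erase _ _ (Finset.mem_univ h₀)] at e1 e2
        have h5 : ∑ h ∈ Finset.univ.erase h₀, T q h = ∑ h ∈ Finset.univ.erase h₀, T p h :=
          Finset.sum_congr rfl (fun h hh => hT h (Finset.ne_of_mem_erase hh))
        rw [h5] at e1
        exact add_right_cancel (e1.symm.trans e2)
      simp only [hTdef] at hT0
      have ha : Finset.univ.image (Fin.snoc i'.1 (j'.1 h₀) : Fin (e + 1) → Fin n) = im θ := by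
        rw [image_snoc, hh₀]
        have h3 : Finset.univ.image i'.1 = (im θ).erase r := himi
        rw [h3, Finset.insert_erase hr'.1]
      have hb : Finset.univ.image (j'.1 ∘ h₀.succAbove) = im θ₀ := by
        rw [image_comp_succAbove _ j'.2.injective, hh₀]
        have h3 : Finset.univ.image j'.1 = insert r (im θ₀) := himj
        rw [h3, Finset.erase_insert hr'.2]
      rw [cv_eq q _ θ ha, cv_eq p _ θ ha, cv_eq q _ θ₀ hb, cv_eq p _ θ₀ hb] at hT0
      have h00 : q θ₀ = p θ₀ := h1 θ₀ (by simp)
      rw [← h00] at hT0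
      have hunit : ∀ m : ℕ, ((-1 : K)) ^ m ≠ 0 := fun m =>
        pow_ne_zero _ (neg_ne_zero.2 one_ne_zero)
      have h6 := mul_right_cancel₀ (mul_ne_zero (hunit _) h0) hT0
      exact mul_left_cancel₀ (hunit _) (mul_left_cancel₀ (hunit _) h6)
  funext θ
  exact key _ θ le_rfl

end Unique2

section Construct

variable {K : Type u} [Field K] {e n : ℕ}

lemma invCount_of_strictMono {d : ℕ} (θ : Idx d n) : invCount d n θ.1 = 0 := by
  unfold invCount
  rw [Finset.card_eq_zero, Finset.filter_eq_empty_iff]
  intro p _ hp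
  exact absurd (θ.2 hp.1) (not_lt.2 hp.2.le)

lemma cv_update_eq_zero {d : ℕ} (q : Idx d n → K) (θ₀ : Idx d n) (s t : Fin d) (hst : s ≠ t) :
    cv q (Function.update θ₀.1 t (θ₀.1 s)) = 0 := by
  unfold cv coord
  rw [dif_neg, map_zero]
  intro hcard
  have hinj := injective_of_card_image hcard
  have h1 : Function.update θ₀.1 t (θ₀.1 s) t = Function.update θ₀.1 t (θ₀.1 s) s := by
    rw [Function.update_self, Function.update_of_ne hst]
  exact hst (hinj h1).symm

lemma cv_update_self {d : ℕ} (q : Idx d n → K) (θ₀ : Idx d n) (t : Fin d) :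
    cv q (Function.update θ₀.1 t (θ₀.1 t)) = q θ₀ := by
  rw [Function.update_eq_self, cv_eq q θ₀.1 θ₀ rfl, invCount_of_strictMono, pow_zero, one_mul]

/-- the normalized matrix of a point. -/
noncomputable def A1 {d : ℕ} (q : Idx d n → K) (θ₀ : Idx d n) : Matrix (Fin n) (Fin d) K :=
  Matrix.of fun r t => cv q (Function.update θ₀.1 t r) / q θ₀

lemma A1_row {d : ℕ} (q : Idx d n → K) (θ₀ : Idx d n) (h0 : q θ₀ ≠ 0) (s t : Fin d) :
    A1 q θ₀ (θ₀.1 s) t = (1 : Matrix (Fin d) (Fin d) K) s t := by
  unfold A1
  rw [Matrix.of_apply, Matrix.one_apply]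
  by_cases hst : s = t
  · rw [if_pos hst, hst, cv_update_self, div_self h0]
  · rw [if_neg hst, cv_update_eq_zero q θ₀ s t hst, zero_div]

lemma det_A1_update {d : ℕ} (q : Idx d n → K) (θ₀ : Idx d n) (h0 : q θ₀ ≠ 0) (t : Fin d)
    (r : Fin n) :
    ((A1 q θ₀).submatrix (Function.update θ₀.1 t r) id).det = A1 q θ₀ r t := by
  have h1 : (A1 q θ₀).submatrix (Function.update θ₀.1 t r) id =
      (1 : Matrix (Fin d) (Fin d) K).updateRow t (A1 q θ₀ r) := by
    ext x y
    by_cases hx : x = t
    · subst hx
      rw [Matrix.submatrix_apply, Function.update_self, Matrix.updateRow_self, id]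
    · rw [Matrix.submatrix_apply, Function.update_of_ne hx, Matrix.updateRow_ne hx, id,
        A1_row q θ₀ h0]
  rw [h1, ← Matrix.cramer_transpose_apply, Matrix.transpose_one, Matrix.cramer_one]
  rfl

/-- the matrix of a point. -/
noncomputable def A2 (q : Idx (e + 1) n → K) (θ₀ : Idx (e + 1) n) :
    Matrix (Fin n) (Fin (e + 1)) K :=
  Matrix.of fun r t => A1 q θ₀ r t * (if t = 0 then q θ₀ else 1)

lemma det_A2 (q : Idx (e + 1) n → K) (θ₀ : Idx (e + 1) n) (a : Fin (e + 1) → Fin n) :
    ((A2 q θ₀).submatrix a id).det = ((A1 q θ₀).submatrix a id).det * q θ₀ := by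
  have h1 : (A2 q θ₀).submatrix a id = (A1 q θ₀).submatrix a id *
      Matrix.diagonal (fun t : Fin (e + 1) => if t = 0 then q θ₀ else 1) := by
    ext x y
    rw [Matrix.mul_diagonal]
    rfl
  rw [h1, Matrix.det_mul, Matrix.det_diagonal, Fin.prod_univ_succ, if_pos rfl]
  have h2 : ∏ i : Fin e, (if i.succ = 0 then q θ₀ else 1) = 1 := by
    refine Finset.prod_eq_one (fun i _ => ?_)
    rw [if_neg (Fin.succ_ne_zero i)]
  rw [h2, mul_one]

lemma det_A2_update (q : Idx (e + 1) n → K) (θ₀ : Idx (e + 1) n) (h0 : q θ₀ ≠ 0)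
    (t : Fin (e + 1)) (r : Fin n) :
    ((A2 q θ₀).submatrix (Function.update θ₀.1 t r) id).det =
      cv q (Function.update θ₀.1 t r) := by
  rw [det_A2, det_A1_update q θ₀ h0]
  unfold A1
  rw [Matrix.of_apply, div_mul_cancel₀ _ h0]

lemma image_update {d : ℕ} (f : Fin d → Fin n) (hf : Function.Injective f) (t : Fin d)
    (r : Fin n) :
    Finset.univ.image (Function.update f t r) = insert r ((Finset.univ.image f).erase (f t)) := by
  ext y
  simp only [Finset.mem_image, Finset.mem_univ, true_and, Finset.mem_insert, Finset.mem_erase]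
  constructor
  · rintro ⟨s, rfl⟩
    by_cases hs : s = t
    · left
      rw [hs, Function.update_self]
    · right
      rw [Function.update_of_ne hs]
      exact ⟨fun h => hs (hf h), s, rfl⟩
  · rintro (rfl | ⟨hne, s, rfl⟩)
    · exact ⟨t, Function.update_self _ _ _⟩
    · have hs : s ≠ t := fun h => hne (by rw [h])
      exact ⟨s, Function.update_of_ne hs _ _⟩

lemma exists_update_of_dist_le_one (θ θ₀ : Idx (e + 1) n) (h : (im θ \ im θ₀).card ≤ 1) :
    ∃ (t : Fin (e + 1)) (r : Fin n), Finset.univ.image (Function.update θ₀.1 t r) = im θ := by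
  classical
  have hcomm : (im θ \ im θ₀).card = (im θ₀ \ im θ).card :=
    Finset.card_sdiff_comm (by rw [card_im, card_im])
  by_cases h0 : (im θ \ im θ₀).card = 0
  · refine ⟨0, θ₀.1 0, ?_⟩
    rw [Function.update_eq_self]
    rw [Finset.card_eq_zero, Finset.sdiff_eq_empty_iff_subset] at h0
    exact (Finset.eq_of_subset_of_card_le h0 (by rw [card_im, card_im])).symm
  · have h1 : (im θ \ im θ₀).card = 1 := by omega
    obtain ⟨r, hr⟩ := Finset.card_eq_one.1 h1
    obtain ⟨x, hx⟩ := Finset.card_eq_one.1 (hcomm ▸ h1)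
    have hxmem : x ∈ im θ₀ \ im θ := by
      rw [hx]
      exact Finset.mem_singleton_self x
    rw [Finset.mem_sdiff] at hxmem
    obtain ⟨t, -, ht⟩ := Finset.mem_image.1 hxmem.1
    refine ⟨t, r, ?_⟩
    rw [image_update _ θ₀.2.injective, ht]
    have hrmem : r ∈ im θ \ im θ₀ := by
      rw [hr]
      exact Finset.mem_singleton_self r
    rw [Finset.mem_sdiff] at hrmem
    ext y
    rw [Finset.mem_insert, Finset.mem_erase]
    constructor
    · rintro (rfl | ⟨hyx, hy⟩)
      · exact hrmem.1
      · by_contra hyθ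
        have : y ∈ im θ₀ \ im θ := Finset.mem_sdiff.2 ⟨hy, hyθ⟩
        rw [hx, Finset.mem_singleton] at this
        exact hyx this
    · intro hy
      by_cases hy0 : y ∈ im θ₀
      · right
        refine ⟨?_, hy0⟩
        rintro rfl
        exact hxmem.2 hy
      · left
        have : y ∈ im θ \ im θ₀ := Finset.mem_sdiff.2 ⟨hy, hy0⟩
        rw [hr, Finset.mem_singleton] at this
        exact this

theorem exists_matrix_of_quadrics (q : Idx (e + 1) n → K) (hq0 : q ≠ 0)
    (hq : ∀ (i' : Idx e n) (j' : Idx (e + 2) n), MvPolynomial.eval q (quadric K i' j') = 0) :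
    ∃ A : Matrix (Fin n) (Fin (e + 1)) K,
      ∀ θ : Idx (e + 1) n, q θ = (A.submatrix θ.1 id).det := by
  obtain ⟨θ₀, h0⟩ : ∃ θ₀, q θ₀ ≠ 0 := by
    by_contra h
    push Not at h
    exact hq0 (funext h)
  set A := A2 q θ₀ with hA
  set p : Idx (e + 1) n → K := fun θ => (A.submatrix θ.1 id).det with hp
  have hev : ∀ f : PlRing K (e + 1) n, evalL (K := K) A f = MvPolynomial.eval p f := fun f => rfl
  have hpq : ∀ (i' : Idx e n) (j' : Idx (e + 2) n),
      MvPolynomial.eval p (quadric K i' j') = 0 := fun i' j' => by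
    rw [← hev]
    exact evalL_quadric A i' j'
  have hcv : ∀ a : Fin (e + 1) → Fin n, cv p a = (A.submatrix a id).det := fun a => by
    unfold cv
    rw [← hev, evalL_coord]
  have hunit : ∀ m : ℕ, ((-1 : K)) ^ m ≠ 0 := fun m =>
    pow_ne_zero _ (neg_ne_zero.2 one_ne_zero)
  have h1 : ∀ θ : Idx (e + 1) n, (im θ \ im θ₀).card ≤ 1 → q θ = p θ := by
    intro θ hθ
    obtain ⟨t, r, htr⟩ := exists_update_of_dist_le_one θ θ₀ hθ
    have e1 := cv_eq q _ θ htr
    have e2 := cv_eq p _ θ htr
    rw [hcv, hA, det_A2_update q θ₀ h0, e1] at e2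
    exact mul_left_cancel₀ (hunit _) e2
  exact ⟨A, fun θ => congrFun (eq_of_quadrics q p hq hpq θ₀ h0 h1) θ⟩

end Construct

end Groth.Agent.Lib.Helper22.Grass
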