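import Mathlib
import Groth.Agent.Lib.Helper22.GrassHibi

/-!
# Degeneration of a Schubert cone to the Stanley–Reisner ring of `H(w)`
-/

namespace Groth.Agent.Lib.Helper22.Grass

open W4bk4grassmannian MvPolynomial

universe u

section Sorting

variable {d n : ℕ}

lemma isum_mono {a b : Idx d n} (h : a ≤ b) : isum a.1 ≤ isum b.1 :=
  Finset.sum_le_sum (fun t _ => Fin.le_def.1 (h t))

lemma eq_of_le_of_isum_eq {a b : Idx d n} (h : a ≤ b) (hs : isum a.1 = isum b.1) : a = b := by
  have := (Finset.sum_eq_sum_iff_of_le (s := Finset.univ)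
    (f := fun t => (a.1 t).val) (g := fun t => (b.1 t).val)
    (fun t _ => Fin.le_def.1 (h t))).1 hs
  apply Subtype.ext
  funext t
  exact Fin.ext (this t (Finset.mem_univ t))

/-- a sequence with pairwise comparable entries can be rearranged into a chain. -/
lemma exists_perm_antitone {m : ℕ} (c : Fin m → Idx d n)
    (hcomp : ∀ k l, c k ≤ c l ∨ c l ≤ c k) :
    ∃ σ : Equiv.Perm (Fin m), Antitone (c ∘ σ) := by
  set f : Fin m → ℕ := fun k => isum (c k).1 with hf
  have hmono := Tuple.monotone_sort f
  refine ⟨Fin.revPerm.trans (Tuple.sort f), ?_⟩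
  intro k l hkl
  have h1 : Fin.rev l ≤ Fin.rev k := Fin.rev_le_rev.2 hkl
  have h2 : f (Tuple.sort f (Fin.rev l)) ≤ f (Tuple.sort f (Fin.rev k)) := hmono h1
  show c (Tuple.sort f (Fin.rev l)) ≤ c (Tuple.sort f (Fin.rev k))
  rcases hcomp (Tuple.sort f (Fin.rev l)) (Tuple.sort f (Fin.rev k)) with h | h
  · exact h
  · have h3 := isum_mono h
    have h4 : isum (c (Tuple.sort f (Fin.rev k))).1 = isum (c (Tuple.sort f (Fin.rev l))).1 :=
      le_antisymm h3 h2
    rw [eq_of_le_of_isum_eq h h4]

end Sorting

section Weights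

variable {d n : ℕ}

lemma isum_le (θ : Idx d n) : isum θ.1 ≤ d * n := by
  unfold isum
  calc ∑ t, (θ.1 t).val ≤ ∑ _t : Fin d, n := Finset.sum_le_sum (fun t _ => (θ.1 t).isLt.le)
    _ = d * n := by simp

/-- a strictly supermodular function on `I(d,n)`. -/
def εS (θ : Idx d n) : ℕ := (d * n - isum θ.1) * isum θ.1

lemma εS_add_sq (θ : Idx d n) : εS θ + isum θ.1 * isum θ.1 = d * n * isum θ.1 := by
  unfold εS
  have := isum_le θ
  rw [← Nat.add_mul, Nat.sub_add_cancel this]

lemma εS_le (θ : Idx d n) : εS θ ≤ d * n * (d * n) := by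
  unfold εS
  exact Nat.mul_le_mul (Nat.sub_le _ _) (isum_le θ)

lemma isum_sup_add_inf (a b : Idx d n) :
    isum (W4bk4grassmannian.sup a b).1 + isum (W4bk4grassmannian.inf a b).1 =
      isum a.1 + isum b.1 := by
  unfold isum
  rw [← Finset.sum_add_distrib, ← Finset.sum_add_distrib]
  refine Finset.sum_congr rfl (fun t _ => ?_)
  show (max (a.1 t) (b.1 t)).val + (min (a.1 t) (b.1 t)).val = _
  rcases le_total (a.1 t) (b.1 t) with h | h
  · rw [max_eq_right h, min_eq_left h, add_comm]
  · rw [max_eq_left h, min_eq_right h]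

lemma sup_comm' (a b : Idx d n) : W4bk4grassmannian.sup a b = W4bk4grassmannian.sup b a := by
  apply Subtype.ext
  funext t
  exact max_comm _ _

lemma εS_sup_inf_lt (a b : Idx d n) (h1 : ¬ a ≤ b) (h2 : ¬ b ≤ a) :
    εS (W4bk4grassmannian.sup a b) + εS (W4bk4grassmannian.inf a b) < εS a + εS b := by
  have e1 := εS_add_sq (W4bk4grassmannian.sup a b)
  have e2 := εS_add_sq (W4bk4grassmannian.inf a b)
  have e3 := εS_add_sq a
  have e4 := εS_add_sq b
  have hs := isum_sup_add_inf a b
  have g1 := isum_sup_gt a b h2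
  have g2 := isum_sup_gt b a h1
  rw [← sup_comm' a b] at g2
  set A := isum (W4bk4grassmannian.sup a b).1
  set B := isum (W4bk4grassmannian.inf a b).1
  set T := isum a.1
  set F := isum b.1
  have key : T * T + F * F < A * A + B * B := by
    zify at g1 g2 hs ⊢
    have hB : (B : ℤ) = T + F - A := by linarith
    rw [hB]
    nlinarith [mul_pos (sub_pos.2 g1) (sub_pos.2 g2)]
  have lin : d * n * A + d * n * B = d * n * T + d * n * F := by
    rw [← mul_add, hs, mul_add]
  linarith

/-- the scaling factor making the toric weight dominate `εS`. -/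
def N₀ (d n : ℕ) : ℕ := 2 * (d * n * (d * n)) + 1

/-- the weight of a Plücker coordinate for the Stanley–Reisner degeneration. -/
noncomputable def ωS₁ (θ : Idx d n) : ℕ := N₀ d n * wt (diag θ) + εS θ

/-- the weight of a sequence. -/
noncomputable def seqW {m : ℕ} (c : Fin m → Idx d n) : ℕ := ∑ k, ωS₁ (c k)

lemma ωS₁_sup_inf_lt (a b : Idx d n) (h1 : ¬ a ≤ b) (h2 : ¬ b ≤ a) :
    ωS₁ (W4bk4grassmannian.sup a b) + ωS₁ (W4bk4grassmannian.inf a b) < ωS₁ a + ωS₁ b := by
  unfold ωS₁
  have h := εS_sup_inf_lt a b h1 h2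
  have hw : wt (diag (W4bk4grassmannian.sup a b)) + wt (diag (W4bk4grassmannian.inf a b)) =
      wt (diag a) + wt (diag b) := by
    rw [← map_add, ← map_add, diag_sup_add_diag_inf]
  have : N₀ d n * wt (diag (W4bk4grassmannian.sup a b)) +
      N₀ d n * wt (diag (W4bk4grassmannian.inf a b)) =
        N₀ d n * wt (diag a) + N₀ d n * wt (diag b) := by
    rw [← mul_add, hw, mul_add]
  linarith

lemma ωS₁_pair_lt (α β a b : Idx d n)
    (h : wt (diag α + diag β) < wt (diag a + diag b)) :
    ωS₁ α + ωS₁ β < ωS₁ a + ωS₁ b := by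
  unfold ωS₁
  rw [map_add, map_add] at h
  have h1 := εS_le α
  have h2 := εS_le β
  have h3 : N₀ d n * (wt (diag α) + wt (diag β) + 1) ≤ N₀ d n * (wt (diag a) + wt (diag b)) :=
    Nat.mul_le_mul_left _ h
  have h4 : N₀ d n = 2 * (d * n * (d * n)) + 1 := rfl
  nlinarith

lemma seqW_update_update {m : ℕ} (c : Fin m → Idx d n) (p q : Fin m) (hpq : p ≠ q)
    (a b : Idx d n) :
    seqW (Function.update (Function.update c p a) q b) + (ωS₁ (c p) + ωS₁ (c q)) =
      seqW c + (ωS₁ a + ωS₁ b) := by
  unfold seqW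
  rw [← Finset.add_sum_erase Finset.univ _ (Finset.mem_univ q),
    ← Finset.add_sum_erase (Finset.univ.erase q) _
      (Finset.mem_erase.2 ⟨hpq, Finset.mem_univ p⟩),
    ← Finset.add_sum_erase Finset.univ (fun k => ωS₁ (c k)) (Finset.mem_univ q),
    ← Finset.add_sum_erase (Finset.univ.erase q) (fun k => ωS₁ (c k))
      (Finset.mem_erase.2 ⟨hpq, Finset.mem_univ p⟩)]
  rw [Function.update_self, Function.update_of_ne hpq, Function.update_self]
  have : ∀ l ∈ (Finset.univ.erase q).erase p,
      ωS₁ (Function.update (Function.update c p a) q b l) = ωS₁ (c l) := by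
    intro l hl
    have h1 : l ≠ p := (Finset.mem_erase.1 hl).1
    have h2 : l ≠ q := (Finset.mem_erase.1 (Finset.mem_erase.1 hl).2).1
    rw [Function.update_of_ne h2, Function.update_of_ne h1]
  rw [Finset.sum_congr rfl this]
  ring

end Weights

section SRFil

variable {K : Type u} [Field K] [Infinite K] {d n : ℕ} (hd : 0 < d) (w : Idx d n)

open Groth.Agent.Lib.Helper22.Rees

/-- the weight of a standard monomial for the Stanley–Reisner degeneration. -/
noncomputable def ωS (c : Ch w) : ℕ := seqW c.2.1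

lemma sup_le_w {τ φ : Idx d n} (hτ : τ ≤ w) (hφ : φ ≤ w) : W4bk4grassmannian.sup τ φ ≤ w :=
  fun t => max_le (hτ t) (hφ t)

lemma inf_le_w {τ φ : Idx d n} (hτ : τ ≤ w) : W4bk4grassmannian.inf τ φ ≤ w :=
  fun t => le_trans (min_le_left _ _) (hτ t)

include hd in
/-- the straightening relation of a pair, with control on weights and lengths. -/
lemma pair_relation (τ φ : Idx d n) (hτ : τ ≤ w) (hφ : φ ≤ w) :
    ∃ (T : Finset (Ch w)) (a : Ch w → K),
      (∀ e ∈ T, e.1 = 2 ∧ wt (delta e.2.1) < wt (diag τ + diag φ)) ∧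
      Ideal.Quotient.mk (schubertVanishing K d n w) (X τ * X φ) =
        Ideal.Quotient.mk _ (X (W4bk4grassmannian.sup τ φ) * X (W4bk4grassmannian.inf τ φ)) +
          ∑ e ∈ T, a e • bCh K w e := by
  classical
  set z : Aw K w := Ideal.Quotient.mk _ (X τ) * Ideal.Quotient.mk _ (X φ) -
      Ideal.Quotient.mk _ (X (W4bk4grassmannian.sup τ φ)) *
        Ideal.Quotient.mk _ (X (W4bk4grassmannian.inf τ φ)) with hz
  have hcoeff : ∀ ν, wt (diag τ + diag φ) ≤ wt ν → coeff ν (Ebar K w z) = 0 := by
    intro ν hν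
    rw [hz, map_sub, map_mul, map_mul, MvPolynomial.coeff_sub]
    have h1 := (LT_Ebar_X (K := K) w τ hτ).mul (LT_Ebar_X (K := K) w φ hφ)
    have h2 := (LT_Ebar_X (K := K) w (W4bk4grassmannian.sup τ φ) (sup_le_w w hτ hφ)).mul
      (LT_Ebar_X (K := K) w (W4bk4grassmannian.inf τ φ) (inf_le_w w hτ))
    rw [diag_sup_add_diag_inf τ φ] at h2
    rw [h1 ν hν, h2 ν hν, sub_self]
  have hhom : (Ebar K w z).IsHomogeneous (2 * d) := by
    rw [hz, map_sub, map_mul, map_mul]
    have hX : ∀ θ : Idx d n, (Ebar K w (Ideal.Quotient.mk _ (X θ))).IsHomogeneous d := by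
      intro θ
      rw [Ebar_mk, evalL_X]
      exact isHomogeneous_minor w θ
    rw [two_mul]
    exact ((hX τ).mul (hX φ)).sub ((hX _).mul (hX _))
  refine ⟨((basisCh K hd w).repr z).support, fun e => (basisCh K hd w).repr z e, ?_, ?_⟩
  · intro e he
    have he' := Finsupp.mem_support_iff.1 he
    exact ⟨repr_length_eq hd w z 2 hhom e he', (repr_weight_lt_iff hd w z _).2 hcoeff e he'⟩
  · have hzsum : z = ∑ e ∈ ((basisCh K hd w).repr z).support,
        (basisCh K hd w).repr z e • bCh K w e := by
      conv_lhs => rw [← (basisCh K hd w).linearCombination_repr z]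
      rw [Finsupp.linearCombination_apply, Finsupp.sum]
      refine Finset.sum_congr rfl (fun e _ => ?_)
      rw [basisCh_apply]
    rw [← hzsum, hz, map_mul, map_mul]
    ring

lemma chainMon_comp_perm {m : ℕ} (c : Fin m → Idx d n) (σ : Equiv.Perm (Fin m)) :
    chainMon K (c ∘ σ) = chainMon K c := by
  unfold chainMon
  exact Equiv.prod_comp σ (fun k => (X (c k) : PlRing K d n))

lemma seqW_comp_perm {m : ℕ} (c : Fin m → Idx d n) (σ : Equiv.Perm (Fin m)) :
    seqW (c ∘ σ) = seqW c := by
  unfold seqW
  exact Equiv.sum_comp σ (fun k => ωS₁ (c k))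

/-- **Weighted straightening**: every monomial lies in the step of the weight filtration given by
its weight, and one step lower if two of its factors are incomparable. -/
theorem seq_mem_FilS : ∀ (M : ℕ) {m : ℕ} (c : Fin m → Idx d n), (∀ k, c k ≤ w) → seqW c = M →
    (Ideal.Quotient.mk (schubertVanishing K d n w) (chainMon K c) ∈
        Fil (basisCh K hd w) (ωS w) M ∧
      ((∃ k l, ¬ c k ≤ c l ∧ ¬ c l ≤ c k) → ∃ M', M = M' + 1 ∧
        Ideal.Quotient.mk (schubertVanishing K d n w) (chainMon K c) ∈
          Fil (basisCh K hd w) (ωS w) M')) := by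
  intro M
  induction M using Nat.strong_induction_on with
  | _ M ih =>
    intro m c hcw hM
    by_cases hinc : ∃ k l, ¬ c k ≤ c l ∧ ¬ c l ≤ c k
    · -- an incomparable pair
      obtain ⟨k, l, hkl1, hkl2⟩ := hinc
      have hne : k ≠ l := by
        intro h
        rw [h] at hkl1
        exact hkl1 le_rfl
      obtain ⟨T, a, hT, hrel⟩ := pair_relation (K := K) hd w (c k) (c l) (hcw k) (hcw l)
      set rest := ∏ l' ∈ (Finset.univ.erase l).erase k, (X (c l') : PlRing K d n) with hrest
      have hc : chainMon K c = X (c k) * X (c l) * rest := chainMon_eq_mul c k l hne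
      -- the join-meet term
      set c₁ := Function.update (Function.update c k (W4bk4grassmannian.sup (c k) (c l))) l
        (W4bk4grassmannian.inf (c k) (c l)) with hc₁
      have hc₁w : ∀ k', c₁ k' ≤ w := by
        intro k'
        rw [hc₁]
        by_cases h1 : k' = l
        · rw [h1, Function.update_self]; exact inf_le_w w (hcw k)
        · rw [Function.update_of_ne h1]
          by_cases h2 : k' = k
          · rw [h2, Function.update_self]; exact sup_le_w w (hcw k) (hcw l)
          · rw [Function.update_of_ne h2]; exact hcw k'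
      have hW₁ : seqW c₁ < M := by
        have := seqW_update_update c k l hne (W4bk4grassmannian.sup (c k) (c l))
          (W4bk4grassmannian.inf (c k) (c l))
        have h2 := ωS₁_sup_inf_lt (c k) (c l) hkl1 hkl2
        rw [← hc₁] at this
        rw [← hM]
        omega
      have hMpos : ∃ M', M = M' + 1 := ⟨M - 1, by omega⟩
      obtain ⟨M', hM'⟩ := hMpos
      have hmem₁ : Ideal.Quotient.mk (schubertVanishing K d n w) (chainMon K c₁) ∈
          Fil (basisCh K hd w) (ωS w) M' :=
        Fil_mono _ _ (by omega) (ih (seqW c₁) hW₁ c₁ hc₁w rfl).1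
      have hc₁mon : chainMon K c₁ = X (W4bk4grassmannian.sup (c k) (c l)) *
          X (W4bk4grassmannian.inf (c k) (c l)) * rest := chainMon_update_update c k l hne _ _
      -- the other terms
      have hmemT : ∀ e ∈ T, bCh K w e * Ideal.Quotient.mk (schubertVanishing K d n w) rest ∈
          Fil (basisCh K hd w) (ωS w) M' := by
        intro e he
        obtain ⟨hlen, hwt⟩ := hT e he
        obtain ⟨me, ec, hec⟩ := e
        simp only at hlen
        subst hlen
        simp only at hwt
        set cₑ := Function.update (Function.update c k (ec 0)) l (ec 1) with hcₑ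
        have hecw : ∀ j, ec j ≤ w := fun j => Ch.le (w := w) ⟨2, ec, hec⟩ j
        have hcₑw : ∀ k', cₑ k' ≤ w := by
          intro k'
          rw [hcₑ]
          by_cases h1 : k' = l
          · rw [h1, Function.update_self]; exact hecw 1
          · rw [Function.update_of_ne h1]
            by_cases h2 : k' = k
            · rw [h2, Function.update_self]; exact hecw 0
            · rw [Function.update_of_ne h2]; exact hcw k'
        have hdelta : delta ec = diag (ec 0) + diag (ec 1) := by
          unfold delta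
          rw [Fin.sum_univ_two]
        have hWₑ : seqW cₑ < M := by
          have h1 := seqW_update_update c k l hne (ec 0) (ec 1)
          have h2 := ωS₁_pair_lt (ec 0) (ec 1) (c k) (c l) (by rw [← hdelta]; exact hwt)
          rw [← hcₑ] at h1
          rw [← hM]
          omega
        have hmon : chainMon K cₑ = X (ec 0) * X (ec 1) * rest :=
          chainMon_update_update c k l hne _ _
        have hbe : bCh K w ⟨2, ec, hec⟩ =
            Ideal.Quotient.mk (schubertVanishing K d n w) (X (ec 0) * X (ec 1)) := by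
          unfold bCh chainMon
          rw [Fin.prod_univ_two]
        rw [hbe, ← map_mul, ← hmon]
        exact Fil_mono _ _ (by omega) (ih (seqW cₑ) hWₑ cₑ hcₑw rfl).1
      have hall : Ideal.Quotient.mk (schubertVanishing K d n w) (chainMon K c) ∈
          Fil (basisCh K hd w) (ωS w) M' := by
        rw [hc, map_mul, hrel, add_mul, Finset.sum_mul, ← map_mul, ← hc₁mon]
        refine Submodule.add_mem _ hmem₁ (Submodule.sum_mem _ (fun e he => ?_))
        rw [smul_mul_assoc]
        exact Submodule.smul_mem _ _ (hmemT e he)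
      exact ⟨Fil_mono _ _ (by omega) hall, fun _ => ⟨M', hM', hall⟩⟩
    · -- all entries comparable: sort
      push Not at hinc
      have hcomp : ∀ k l, c k ≤ c l ∨ c l ≤ c k := by
        intro k l
        by_cases h : c k ≤ c l
        · exact Or.inl h
        · exact Or.inr (hinc k l h)
      obtain ⟨σ, hσ⟩ := exists_perm_antitone c hcomp
      set e : Ch w := ⟨m, c ∘ σ, hσ, 0, fun k => hcw (σ k)⟩ with he
      have h1 : Ideal.Quotient.mk (schubertVanishing K d n w) (chainMon K c) =
          basisCh K hd w e := by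
        rw [basisCh_apply]
        unfold bCh
        rw [he]
        simp only
        rw [chainMon_comp_perm]
      have h2 : ωS w e = M := by
        unfold ωS
        rw [he]
        simp only
        rw [seqW_comp_perm, hM]
      refine ⟨?_, fun ⟨k, l, h1', h2'⟩ => absurd (hinc k l h1') h2'⟩
      rw [h1]
      exact basis_mem_Fil _ _ e (le_of_eq h2)

theorem mult_S : Mult (basisCh K hd w) (ωS w) := by
  constructor
  · have := (seq_mem_FilS (K := K) hd w 0 (m := 0) Fin.elim0 (fun k => k.elim0)
      (by simp [seqW])).1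
    simpa [chainMon] using this
  · intro e e'
    have hw : ∀ k, Fin.append e.2.1 e'.2.1 k ≤ w := by
      intro k
      refine Fin.addCases (fun i => ?_) (fun i => ?_) k
      · rw [Fin.append_left]; exact e.le i
      · rw [Fin.append_right]; exact e'.le i
    have hW : seqW (Fin.append e.2.1 e'.2.1) = ωS w e + ωS w e' := by
      unfold ωS seqW
      rw [Fin.sum_univ_add]
      simp only [Fin.append_left, Fin.append_right]
    have hmon : chainMon K (Fin.append e.2.1 e'.2.1) = chainMon K e.2.1 * chainMon K e'.2.1 := by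
      unfold chainMon
      rw [Fin.prod_univ_add]
      simp only [Fin.append_left, Fin.append_right]
    have := (seq_mem_FilS (K := K) hd w _ _ hw hW).1
    rw [hmon, map_mul] at this
    rw [basisCh_apply, basisCh_apply]
    exact this

end SRFil

section SRBasis

variable (K : Type u) [Field K] {d n : ℕ} (w : Idx d n)

/-- the Stanley–Reisner ring of `H(w)`. -/
abbrev SRRing : Type u := MvPolynomial (Below w) K ⧸ srIdeal K w

/-- the class of a standard monomial in the Stanley–Reisner ring. -/
noncomputable def βS (c : Ch w) : SRRing K w := Ideal.Quotient.mk _ (monB K w c)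

/-- the exponent vector of the monomial of a chain. -/
noncomputable def cntB (c : Ch w) : Below w →₀ ℕ := ∑ k, Finsupp.single (liftCh c k) 1

lemma monB_eq_monomial (c : Ch w) : monB K w c = monomial (cntB w c) 1 := by
  unfold monB cntB
  rw [MvPolynomial.monomial_sum_one]
  rfl

include K in
lemma cntB_injective (hd : 0 < d) : Function.Injective (cntB w) := by
  intro c c' h
  have h1 : monB K w c = monB K w c' := by rw [monB_eq_monomial, monB_eq_monomial, h]
  have h2 := congrArg (toric K w) h1
  rw [toric_monB, toric_monB] at h2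
  exact ChU_ext hd c c' (MvPolynomial.monomial_left_injective (one_ne_zero) h2)

lemma linearIndependent_monB (hd : 0 < d) : LinearIndependent K (monB K w) := by
  have := (MvPolynomial.basisMonomials (Below w) K).linearIndependent.comp
    (cntB w) (cntB_injective K w hd)
  rw [MvPolynomial.coe_basisMonomials] at this
  have h2 : monB K w = (fun s => monomial s (1 : K)) ∘ cntB w := by
    funext c
    exact monB_eq_monomial K w c
  rw [h2]
  exact this

lemma exists_of_cntB_pos (c : Ch w) (a : Below w) (h : 1 ≤ cntB w c a) :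
    ∃ k, liftCh c k = a := by
  classical
  by_contra hne
  push Not at hne
  unfold cntB at h
  rw [Finsupp.finsetSum_apply] at h
  have : ∑ k, (Finsupp.single (liftCh c k) 1 : Below w →₀ ℕ) a = 0 :=
    Finset.sum_eq_zero (fun k _ => by rw [Finsupp.single_apply, if_neg (hne k)])
  omega

lemma srIdeal_eq_span_monomial :
    srIdeal K w = Ideal.span ((fun s => monomial s (1 : K)) ''
      {s : Below w →₀ ℕ | ∃ a b : Below w, ¬ a ≤ b ∧ ¬ b ≤ a ∧
        s = Finsupp.single a 1 + Finsupp.single b 1}) := by
  unfold srIdeal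
  congr 1
  ext f
  constructor
  · rintro ⟨a, b, h1, h2, rfl⟩
    refine ⟨_, ⟨a, b, h1, h2, rfl⟩, ?_⟩
    simp only [MvPolynomial.X, MvPolynomial.monomial_mul, mul_one]
  · rintro ⟨s, ⟨a, b, h1, h2, rfl⟩, rfl⟩
    refine ⟨a, b, h1, h2, ?_⟩
    simp only [MvPolynomial.X, MvPolynomial.monomial_mul, mul_one]

theorem linearIndependent_βS (hd : 0 < d) : LinearIndependent K (βS K w) := by
  classical
  rw [linearIndependent_iff']
  intro s g hsum
  set F : MvPolynomial (Below w) K := ∑ c ∈ s, g c • monB K w c with hF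
  have hFmem : F ∈ srIdeal K w := by
    rw [← Ideal.Quotient.eq_zero_iff_mem, hF, map_sum, ← hsum]
    refine Finset.sum_congr rfl (fun c _ => ?_)
    exact map_smul (Ideal.Quotient.mkₐ K (srIdeal K w)) _ _
  have hF0 : F = 0 := by
    rw [srIdeal_eq_span_monomial, MvPolynomial.mem_ideal_span_monomial_image] at hFmem
    by_contra hne
    obtain ⟨ν, hν⟩ := MvPolynomial.support_nonempty.2 hne |>.exists_mem
    obtain ⟨s₀, ⟨a, b, hab1, hab2, rfl⟩, hle⟩ := hFmem ν hν
    -- ν = cntB c for some c
    have hcoeff : coeff ν F ≠ 0 := MvPolynomial.mem_support_iff.1 hν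
    rw [hF, MvPolynomial.coeff_sum] at hcoeff
    obtain ⟨c, _, hc⟩ := Finset.exists_ne_zero_of_sum_ne_zero hcoeff
    rw [MvPolynomial.coeff_smul, monB_eq_monomial, MvPolynomial.coeff_monomial] at hc
    have hcν : cntB w c = ν := by
      by_contra h
      rw [if_neg h, smul_zero] at hc
      exact hc rfl
    rw [← hcν] at hle
    have hane : a ≠ b := fun h => hab1 (h ▸ le_rfl)
    have ha : 1 ≤ cntB w c a := by
      have := hle a
      simp only [Finsupp.coe_add, Pi.add_apply, Finsupp.single_eq_same] at this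
      omega
    have hb : 1 ≤ cntB w c b := by
      have := hle b
      simp only [Finsupp.coe_add, Pi.add_apply, Finsupp.single_eq_same] at this
      omega
    obtain ⟨k, hk⟩ := exists_of_cntB_pos w c a ha
    obtain ⟨l, hl⟩ := exists_of_cntB_pos w c b hb
    rcases le_total k l with h | h
    · have : c.2.1 l ≤ c.2.1 k := c.2.2.1 h
      apply hab2
      rw [← hk, ← hl]
      exact this
    · have : c.2.1 k ≤ c.2.1 l := c.2.2.1 h
      apply hab1
      rw [← hk, ← hl]
      exact this
  exact (linearIndependent_iff'.1 (linearIndependent_monB K w hd)) s g hF0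

variable {K w}

theorem mk_prod_mem_span_βS {m : ℕ} (c : Fin m → Below w) :
    Ideal.Quotient.mk (srIdeal K w) (∏ k, X (c k)) ∈ Submodule.span K (Set.range (βS K w)) := by
  by_cases hinc : ∃ k l, ¬ c k ≤ c l ∧ ¬ c l ≤ c k
  · obtain ⟨k, l, h1, h2⟩ := hinc
    have hne : k ≠ l := by
      intro h
      rw [h] at h1
      exact h1 le_rfl
    have : (∏ k, (X (c k) : MvPolynomial (Below w) K)) ∈ srIdeal K w := by
      rw [prod_X_eq_mul c k l hne]
      exact Ideal.mul_mem_right _ _ (Ideal.subset_span ⟨c k, c l, h1, h2, rfl⟩)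
    rw [Ideal.Quotient.eq_zero_iff_mem.2 this]
    exact Submodule.zero_mem _
  · push Not at hinc
    have hcomp : ∀ k l, (c k).1 ≤ (c l).1 ∨ (c l).1 ≤ (c k).1 := by
      intro k l
      by_cases h : c k ≤ c l
      · exact Or.inl h
      · exact Or.inr (hinc k l h)
    obtain ⟨σ, hσ⟩ := exists_perm_antitone (fun k => (c k).1) hcomp
    refine Submodule.subset_span ⟨⟨m, (fun k => (c k).1) ∘ σ, hσ, 0, fun k => (c (σ k)).2⟩, ?_⟩
    unfold βS monB
    congr 1
    exact Equiv.prod_comp σ (fun k => (X (c k) : MvPolynomial (Below w) K))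

theorem span_βS : ⊤ ≤ Submodule.span K (Set.range (βS K w)) := by
  intro x _
  obtain ⟨f, rfl⟩ := Ideal.Quotient.mk_surjective x
  induction f using MvPolynomial.induction_on' with
  | monomial s a =>
    obtain ⟨b, m, c, h⟩ := exists_prod_X (K := K) s a
    rw [h, MvPolynomial.C_mul']
    have : Ideal.Quotient.mk (srIdeal K w) (b • ∏ k, X (c k)) =
        b • Ideal.Quotient.mk (srIdeal K w) (∏ k, X (c k)) :=
      map_smul (Ideal.Quotient.mkₐ K (srIdeal K w)) _ _
    rw [this]
    exact Submodule.smul_mem _ _ (mk_prod_mem_span_βS c)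
  | add p q hp hq =>
    rw [map_add]
    exact Submodule.add_mem _ (hp trivial) (hq trivial)

variable (K w)

/-- the standard monomial basis of the Stanley–Reisner ring. -/
noncomputable def basisS (hd : 0 < d) : Module.Basis (Ch w) K (SRRing K w) :=
  Module.Basis.mk (linearIndependent_βS K w hd) span_βS

lemma basisS_apply (hd : 0 < d) (c : Ch w) : basisS K w hd c = βS K w c := by
  rw [basisS, Module.Basis.mk_apply]

end SRBasis

section SRDegen

variable {K : Type u} [Field K] [Infinite K] {d n : ℕ} (hd : 0 < d) (w : Idx d n)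

open Groth.Agent.Lib.Helper22.Rees

lemma mk_X_mem_FilS (θ : Idx d n) (hθ : θ ≤ w) :
    Ideal.Quotient.mk (schubertVanishing K d n w) (X θ) ∈
      Fil (basisCh K hd w) (ωS w) (ωS₁ θ) := by
  have := (seq_mem_FilS (K := K) hd w (ωS₁ θ) (m := 1) (fun _ => θ) (fun _ => hθ)
    (by simp [seqW])).1
  simpa [chainMon] using this

lemma mk_X_mul_X_mem_FilS (a b : Idx d n) (ha : a ≤ w) (hb : b ≤ w)
    (h1 : ¬ a ≤ b) (h2 : ¬ b ≤ a) :
    ∃ M', ωS₁ a + ωS₁ b = M' + 1 ∧
      Ideal.Quotient.mk (schubertVanishing K d n w) (X a * X b) ∈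
        Fil (basisCh K hd w) (ωS w) M' := by
  have hw : ∀ k, (![a, b] : Fin 2 → Idx d n) k ≤ w := by
    intro k
    fin_cases k
    · exact ha
    · exact hb
  have hW : seqW (![a, b] : Fin 2 → Idx d n) = ωS₁ a + ωS₁ b := by
    unfold seqW
    rw [Fin.sum_univ_two]
    rfl
  have hmon : chainMon K (![a, b] : Fin 2 → Idx d n) = X a * X b := by
    unfold chainMon
    rw [Fin.prod_univ_two]
    rfl
  obtain ⟨M', hM', hmem⟩ := (seq_mem_FilS (K := K) hd w _ _ hw hW).2 ⟨0, 1, h1, h2⟩
  rw [hmon] at hmem
  exact ⟨M', hM', hmem⟩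

/-- the image of the variable `x_θ` in the Rees algebra. -/
noncomputable def genS (θ : Below w) : rees (mult_S (K := K) hd w) :=
  ⟨Polynomial.monomial (ωS₁ θ.1) (Ideal.Quotient.mk _ (X θ.1)),
    monomial_mem_rees _ (mk_X_mem_FilS hd w θ.1 θ.2)⟩

/-- the map from the polynomial ring on `H(w)` to the special fibre. -/
noncomputable def ψS : MvPolynomial (Below w) K →ₐ[K]
    (rees (mult_S (K := K) hd w) ⧸ I0 (mult_S (K := K) hd w)) :=
  MvPolynomial.aeval fun θ => Ideal.Quotient.mk _ (genS hd w θ)

lemma ψS_monB (c : Ch w) : ψS hd w (monB K w c) = eBar (mult_S (K := K) hd w) c := by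
  unfold ψS monB eBar
  rw [map_prod]
  simp only [MvPolynomial.aeval_X]
  rw [← map_prod]
  congr 1
  apply Subtype.ext
  rw [SubmonoidClass.coe_finset_prod]
  unfold genS eR
  simp only
  rw [prod_monomial]
  congr 1
  rw [basisCh_apply]
  unfold bCh chainMon
  rw [map_prod]
  rfl

lemma srIdeal_le_ker_ψS : srIdeal K w ≤ RingHom.ker (ψS hd w) := by
  unfold srIdeal
  rw [Ideal.span_le]
  rintro f ⟨a, b, h1, h2, rfl⟩
  rw [SetLike.mem_coe, RingHom.mem_ker]
  obtain ⟨M', hM', hmem⟩ := mk_X_mul_X_mem_FilS (K := K) hd w a.1 b.1 a.2 b.2 h1 h2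
  have h0 := mk_monomial_succ_eq_zero (mult_S (K := K) hd w) hmem
  unfold ψS
  rw [map_mul]
  simp only [MvPolynomial.aeval_X]
  rw [← map_mul, ← h0]
  congr 1
  apply Subtype.ext
  rw [MulMemClass.coe_mul]
  unfold genS
  simp only
  have e : Ideal.Quotient.mk (schubertVanishing K d n w) (X a.1 * X b.1) =
      Ideal.Quotient.mk _ (X a.1) * Ideal.Quotient.mk _ (X b.1) := map_mul _ _ _
  rw [Polynomial.monomial_mul_monomial, hM', e]

/-- the induced map on the Stanley–Reisner ring. -/
noncomputable def ψSbar : SRRing K w →ₐ[K]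
    (rees (mult_S (K := K) hd w) ⧸ I0 (mult_S (K := K) hd w)) :=
  Ideal.Quotient.liftₐ (srIdeal K w) (ψS hd w) (fun f hf => srIdeal_le_ker_ψS hd w hf)

theorem ψSbar_bijective : Function.Bijective (ψSbar (K := K) hd w) := by
  refine bijective_of_basis (mult_S (K := K) hd w) (basisS K w hd) (ψSbar hd w) (fun c => ?_)
  rw [basisS_apply]
  unfold ψSbar βS
  rw [Ideal.Quotient.liftₐ_apply]
  exact ψS_monB hd w c

include hd in
/-- **Degeneration of the cone over a Schubert variety to the Stanley–Reisner ring.** -/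
theorem exists_sr_family :
    ∃ (R : Type u) (_ : CommRing R) (_ : Algebra K R) (_ : Algebra (Polynomial K) R)
      (_ : IsScalarTower K (Polynomial K) R),
      Module.Free (Polynomial K) R ∧
      Nonempty ((R ⧸ Ideal.span {algebraMap (Polynomial K) R Polynomial.X}) ≃ₐ[K]
        (MvPolynomial (Below w) K ⧸ srIdeal K w)) ∧
      ∀ c : K, c ≠ 0 →
        Nonempty ((R ⧸ Ideal.span {algebraMap (Polynomial K) R (Polynomial.X - Polynomial.C c)}) ≃ₐ[K]
          (PlRing K d n ⧸ schubertVanishing K d n w)) := by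
  refine ⟨↥(rees (mult_S (K := K) hd w)), inferInstance, inferInstance,
    Rees.instAlgebraPoly (mult_S (K := K) hd w), Rees.instIsScalarTower (mult_S (K := K) hd w),
    ?_, ?_, ?_⟩
  · exact free_rees (mult_S (K := K) hd w)
  · exact ⟨(AlgEquiv.ofBijective (ψSbar (K := K) hd w) (ψSbar_bijective hd w)).symm⟩
  · intro c hc
    exact ⟨fibreEquiv (mult_S (K := K) hd w) c hc⟩

end SRDegen

end Groth.Agent.Lib.Helper22.Grass
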