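import Mathlib
import Groth.Agent.Lib.Helper22.GrassSR
import Groth.Agent.Lib.Helper22.GrassCell

/-!
# The shape of the straightening relation of a skew pair
-/

set_option autoImplicit false

namespace Groth.Agent.Lib.Helper22.Grass

open W4bk4grassmannian MvPolynomial

universe u

section Content

variable {d n : ℕ}

/-- the row weight of a matrix variable. -/
noncomputable def rowW : Fin n × Fin d → (Fin n →₀ ℕ) := fun p => Finsupp.single p.1 1

/-- the content of an index. -/
noncomputable def cont (θ : Idx d n) : Fin n →₀ ℕ := ∑ t, Finsupp.single (θ.1 t) 1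

/-- the counting function of an index. -/
def cntLe (θ : Idx d n) (x : Fin n) : ℕ := (Finset.univ.filter fun t => θ.1 t ≤ x).card

lemma cont_apply (θ : Idx d n) (y : Fin n) :
    cont θ y = (Finset.univ.filter fun t => θ.1 t = y).card := by
  classical
  unfold cont
  rw [Finsupp.finsetSum_apply, Finset.card_filter]
  refine Finset.sum_congr rfl (fun t _ => ?_)
  rw [Finsupp.single_apply]

lemma cntLe_eq_sum_cont (θ : Idx d n) (x : Fin n) :
    cntLe θ x = ∑ y ∈ Finset.univ.filter (fun y : Fin n => y ≤ x), cont θ y := by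
  classical
  unfold cntLe
  simp_rw [cont_apply, Finset.card_filter]
  rw [Finset.sum_comm]
  refine Finset.sum_congr rfl (fun t _ => ?_)
  rw [Finset.sum_filter]
  by_cases h : θ.1 t ≤ x
  · rw [if_pos h, Finset.sum_eq_single (θ.1 t)]
    · rw [if_pos h, if_pos rfl]
    · intro b _ hb
      split_ifs with h1 h2
      · exact absurd h2.symm hb
      · rfl
      · rfl
    · intro h'
      exact absurd (Finset.mem_univ _) h'
  · rw [if_neg h]
    symm
    refine Finset.sum_eq_zero (fun y _ => ?_)
    split_ifs with h1 h2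
    · exact absurd (h2 ▸ h1) h
    · rfl
    · rfl

lemma cntLe_anti {θ θ' : Idx d n} (h : θ ≤ θ') (x : Fin n) : cntLe θ' x ≤ cntLe θ x := by
  unfold cntLe
  refine Finset.card_le_card (fun t ht => ?_)
  rw [Finset.mem_filter] at ht ⊢
  exact ⟨ht.1, le_trans (h t) ht.2⟩

lemma le_of_cntLe_le {β m : Idx d n} (h : ∀ x, cntLe m x ≤ cntLe β x) : β ≤ m := by
  classical
  intro t
  by_contra hlt
  push Not at hlt
  have h1 : t.val + 1 ≤ cntLe m (m.1 t) := by
    unfold cntLe
    have hsub : Finset.univ.filter (fun s : Fin d => s ≤ t) ⊆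
        Finset.univ.filter (fun s => m.1 s ≤ m.1 t) := by
      intro s hs
      rw [Finset.mem_filter] at hs ⊢
      exact ⟨hs.1, m.2.monotone hs.2⟩
    refine le_trans ?_ (Finset.card_le_card hsub)
    have : Finset.univ.filter (fun s : Fin d => s ≤ t) = Finset.Iic t := by
      ext s
      simp
    rw [this, Fin.card_Iic]
  have h2 : cntLe β (m.1 t) ≤ t.val := by
    unfold cntLe
    have hsub : Finset.univ.filter (fun s => β.1 s ≤ m.1 t) ⊆
        Finset.univ.filter (fun s : Fin d => s < t) := by
      intro s hs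
      rw [Finset.mem_filter] at hs ⊢
      refine ⟨hs.1, ?_⟩
      by_contra hge
      push Not at hge
      exact absurd (lt_of_lt_of_le hlt (β.2.monotone hge)) (not_lt.2 hs.2)
    refine le_trans (Finset.card_le_card hsub) ?_
    have : Finset.univ.filter (fun s : Fin d => s < t) = Finset.Iio t := by
      ext s
      simp
    rw [this, Fin.card_Iio]
  have := h (m.1 t)
  omega

lemma cont_sup_add_inf (a b : Idx d n) :
    cont (W4bk4grassmannian.sup a b) + cont (W4bk4grassmannian.inf a b) = cont a + cont b := by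
  unfold cont
  rw [← Finset.sum_add_distrib, ← Finset.sum_add_distrib]
  refine Finset.sum_congr rfl (fun t _ => ?_)
  show Finsupp.single (max (a.1 t) (b.1 t)) 1 + Finsupp.single (min (a.1 t) (b.1 t)) 1 = _
  rcases le_total (a.1 t) (b.1 t) with h | h
  · rw [max_eq_right h, min_eq_left h, add_comm]
  · rw [max_eq_left h, min_eq_right h]

/-- the combinatorial core: with equal contents, domination of the top entry forces the bottom
entry to be dominated. -/
lemma le_of_cont_eq {α β M m : Idx d n} (hc : cont α + cont β = cont M + cont m) (hα : M ≤ α) :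
    β ≤ m := by
  apply le_of_cntLe_le
  intro x
  have h1 : cntLe α x + cntLe β x = cntLe M x + cntLe m x := by
    simp_rw [cntLe_eq_sum_cont]
    rw [← Finset.sum_add_distrib, ← Finset.sum_add_distrib]
    refine Finset.sum_congr rfl (fun y _ => ?_)
    have := congrArg (fun f : Fin n →₀ ℕ => f y) hc
    simpa using this
  have h2 := cntLe_anti hα x
  omega

lemma ge_of_cont_eq {α β M m : Idx d n} (hc : cont α + cont β = cont M + cont m) (hβ : β ≤ m) :
    M ≤ α := by
  have h1 : ∀ x, cntLe α x + cntLe β x = cntLe M x + cntLe m x := by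
    intro x
    simp_rw [cntLe_eq_sum_cont]
    rw [← Finset.sum_add_distrib, ← Finset.sum_add_distrib]
    refine Finset.sum_congr rfl (fun y _ => ?_)
    have := congrArg (fun f : Fin n →₀ ℕ => f y) hc
    simpa using this
  have h2 : ∀ x, cntLe α x ≤ cntLe M x := by
    intro x
    have := cntLe_anti hβ x
    have := h1 x
    omega
  exact le_of_cntLe_le h2

end Content

section WH

variable {K : Type u} [Field K] [Infinite K] {d n : ℕ}

lemma isWH_minor (w θ : Idx d n) :
    MvPolynomial.IsWeightedHomogeneous (rowW (d := d) (n := n))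
      (((shapeM K w).submatrix θ.1 id).det) (cont θ) := by
  rw [Matrix.det_apply]
  refine MvPolynomial.IsWeightedHomogeneous.sum _ _ _ (fun σ _ => ?_)
  have hprod : MvPolynomial.IsWeightedHomogeneous (rowW (d := d) (n := n))
      (∏ i, (shapeM K w).submatrix θ.1 id (σ i) i) (cont θ) := by
    have := MvPolynomial.IsWeightedHomogeneous.prod (w := rowW (d := d) (n := n))
      (Finset.univ : Finset (Fin d))
      (fun i => (shapeM K w).submatrix θ.1 id (σ i) i)
      (fun i => Finsupp.single (θ.1 (σ i)) 1) (fun i _ => by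
        simp only [shapeM, Matrix.submatrix_apply, Matrix.of_apply, id]
        split_ifs
        · exact MvPolynomial.isWeightedHomogeneous_X _ _ _
        · exact MvPolynomial.isWeightedHomogeneous_zero _ _ _)
    have hsum : ∑ i, Finsupp.single (θ.1 (σ i)) 1 = cont θ :=
      Equiv.sum_comp σ (fun i => (Finsupp.single (θ.1 i) 1 : Fin n →₀ ℕ))
    rw [hsum] at this
    exact this
  rcases Int.units_eq_one_or (Equiv.Perm.sign σ) with hs | hs
  · rw [hs, one_smul]; exact hprod
  · rw [hs, Units.neg_smul, one_smul]; exact hprod.neg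

/-- the content of a chain. -/
noncomputable def contC {w : Idx d n} (c : Ch w) : Fin n →₀ ℕ := ∑ k, cont (c.2.1 k)

lemma isWH_Ebar_bCh (w : Idx d n) (c : Ch w) :
    MvPolynomial.IsWeightedHomogeneous (rowW (d := d) (n := n)) (Ebar K w (bCh K w c))
      (contC c) := by
  unfold bCh
  rw [Ebar_mk, evalL_chainMon]
  exact MvPolynomial.IsWeightedHomogeneous.prod (Finset.univ : Finset (Fin c.1))
    (fun k => ((shapeM K w).submatrix (c.2.1 k).1 id).det) (fun k => cont (c.2.1 k))
    (fun k _ => isWH_minor w (c.2.1 k))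

lemma isWH_Ebar_X (w θ : Idx d n) :
    MvPolynomial.IsWeightedHomogeneous (rowW (d := d) (n := n))
      (Ebar K w (Ideal.Quotient.mk _ (X θ))) (cont θ) := by
  rw [Ebar_mk, evalL_X]
  exact isWH_minor w θ

/-- the straightening relation of a pair, with the terms of the right content only. -/
lemma pair_relation_cont (hd : 0 < d) (w τ φ : Idx d n) (hτ : τ ≤ w) (hφ : φ ≤ w) :
    ∃ (T : Finset (Ch w)) (a : Ch w → K),
      (∀ e ∈ T, e.1 = 2 ∧ wt (delta e.2.1) < wt (diag τ + diag φ) ∧
        contC e = cont τ + cont φ ∧ a e ≠ 0) ∧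
      Ideal.Quotient.mk (schubertVanishing K d n w) (X τ * X φ) =
        Ideal.Quotient.mk _ (X (W4bk4grassmannian.sup τ φ) * X (W4bk4grassmannian.inf τ φ)) +
          ∑ e ∈ T, a e • bCh K w e := by
  classical
  obtain ⟨T, a, hT, hrel⟩ := pair_relation (K := K) hd w τ φ hτ hφ
  set c₀ := cont τ + cont φ with hc₀
  refine ⟨T.filter (fun e => contC e = c₀ ∧ a e ≠ 0), a, ?_, ?_⟩
  · intro e he
    rw [Finset.mem_filter] at he
    exact ⟨(hT e he.1).1, (hT e he.1).2, he.2.1, he.2.2⟩
  · apply Ebar_injective K hd w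
    set L : MatRing K d n := Ebar K w (Ideal.Quotient.mk _ (X τ * X φ)) -
      Ebar K w (Ideal.Quotient.mk _
        (X (W4bk4grassmannian.sup τ φ) * X (W4bk4grassmannian.inf τ φ))) with hL
    have hLwh : MvPolynomial.IsWeightedHomogeneous (rowW (d := d) (n := n)) L c₀ := by
      rw [hL, map_mul, map_mul, map_mul, map_mul]
      refine ((isWH_Ebar_X w τ).mul (isWH_Ebar_X w φ)).sub ?_
      rw [← cont_sup_add_inf τ φ]
      exact (isWH_Ebar_X w _).mul (isWH_Ebar_X w _)
    have hLsum : L = ∑ e ∈ T, a e • Ebar K w (bCh K w e) := by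
      rw [hL, hrel, map_add, add_sub_cancel_left, map_sum]
      refine Finset.sum_congr rfl (fun e _ => ?_)
      rw [map_smul]
    have hcomp : MvPolynomial.weightedHomogeneousComponent (rowW (d := d) (n := n)) c₀ L = L :=
      hLwh.weightedHomogeneousComponent_same
    have hcomp2 : MvPolynomial.weightedHomogeneousComponent (rowW (d := d) (n := n)) c₀ L =
        ∑ e ∈ T.filter (fun e => contC e = c₀ ∧ a e ≠ 0), a e • Ebar K w (bCh K w e) := by
      rw [hLsum, map_sum, Finset.sum_filter]
      refine Finset.sum_congr rfl (fun e _ => ?_)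
      rw [map_smul]
      by_cases h1 : contC e = c₀
      · by_cases h2 : a e = 0
        · rw [if_neg (fun h => h.2 h2), h2, zero_smul]
        · rw [if_pos ⟨h1, h2⟩]
          congr 1
          have := isWH_Ebar_bCh (K := K) w e
          rw [h1] at this
          exact this.weightedHomogeneousComponent_same
      · rw [if_neg (fun h => h1 h.1)]
        rw [(isWH_Ebar_bCh (K := K) w e).weightedHomogeneousComponent_ne c₀ (Ne.symm h1),
          smul_zero]
    rw [map_add, map_sum]
    have : Ebar K w (Ideal.Quotient.mk _ (X τ * X φ)) =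
        Ebar K w (Ideal.Quotient.mk _
          (X (W4bk4grassmannian.sup τ φ) * X (W4bk4grassmannian.inf τ φ))) + L := by
      rw [hL]; ring
    rw [this, ← hcomp, hcomp2]
    congr 1
    refine Finset.sum_congr rfl (fun e _ => ?_)
    rw [map_smul]

end WH

section Shape

variable {K : Type u} [Field K] [Infinite K] {d n : ℕ}

/-- a chain below `w` all of whose entries are below `α` is a chain below `α`. -/
def restrictCh {w α : Idx d n} (e : Ch w) (h : ∀ k, e.2.1 k ≤ α) : Ch α :=
  ⟨e.1, e.2.1, e.2.2.1, ⟨0, h⟩⟩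

lemma restrictCh_injective {w α : Idx d n} :
    Function.Injective (fun e : {e : Ch w // ∀ k, e.2.1 k ≤ α} => restrictCh e.1 e.2) := by
  rintro ⟨⟨m, c, hc⟩, h⟩ ⟨⟨m', c', hc'⟩, h'⟩ heq
  simp only [restrictCh] at heq
  have hm : m = m' := congrArg Sigma.fst heq
  subst hm
  have hcc : c = c' := by
    have := eq_of_heq (Sigma.mk.inj heq).2
    exact congrArg Subtype.val this
  subst hcc
  rfl

/-- **Schubert restriction**: in a relation among standard monomials, restricting to `X(α)`
kills the coefficients of the chains below `α` as soon as the left side vanishes on `X(α)`. -/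
lemma coeff_eq_zero_of_mem (hd : 0 < d) (w α : Idx d n) (hα : α ≤ w) (T : Finset (Ch w))
    (a : Ch w → K) (Y : PlRing K d n)
    (hrel : Ideal.Quotient.mk (schubertVanishing K d n w) Y = ∑ e ∈ T, a e • bCh K w e)
    (hY : Y ∈ schubertVanishing K d n α) (e : Ch w) (he : e ∈ T) (hle : ∀ k, e.2.1 k ≤ α) :
    a e = 0 := by
  classical
  have hJ : schubertVanishing K d n w ≤ schubertVanishing K d n α := schubertVanishing_anti hα
  have h1 := congrArg (Ideal.Quotient.factorₐ K hJ) hrel
  rw [map_sum] at h1
  have h2 : (Ideal.Quotient.factorₐ K hJ) (Ideal.Quotient.mk _ Y) = 0 := by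
    show Ideal.Quotient.factor hJ (Ideal.Quotient.mk _ Y) = 0
    rw [Ideal.Quotient.factor_mk]
    exact Ideal.Quotient.eq_zero_iff_mem.2 hY
  rw [h2] at h1
  have h3 : ∀ e ∈ T, (Ideal.Quotient.factorₐ K hJ) (a e • bCh K w e) =
      a e • Ideal.Quotient.mk (schubertVanishing K d n α) (chainMon K e.2.1) := by
    intro e _
    rw [map_smul]
    rfl
  rw [Finset.sum_congr rfl h3] at h1
  have h4 : ∑ e ∈ T, a e • Ideal.Quotient.mk (schubertVanishing K d n α) (chainMon K e.2.1) =
      ∑ e ∈ T.filter (fun e => ∀ k, e.2.1 k ≤ α),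
        a e • Ideal.Quotient.mk (schubertVanishing K d n α) (chainMon K e.2.1) := by
    rw [Finset.sum_filter]
    refine Finset.sum_congr rfl (fun e _ => ?_)
    split_ifs with h
    · rfl
    · push Not at h
      obtain ⟨k, hk⟩ := h
      rw [Ideal.Quotient.eq_zero_iff_mem.2
        (chainMon_mem_of_X_mem _ e.2.1 k (X_mem_schubertVanishing α _ hk)), smul_zero]
  rw [h4, ← Finset.sum_subtype_eq_sum_filter] at h1
  have hLI : LinearIndependent K
      (fun e : {e : Ch w // ∀ k, e.2.1 k ≤ α} => bCh K α (restrictCh e.1 e.2)) :=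
    (linearIndependent_bCh K hd α).comp _ restrictCh_injective
  rw [linearIndependent_iff'] at hLI
  exact hLI (T.subtype (fun e => ∀ k, e.2.1 k ≤ α)) (fun e => a e.1) h1.symm ⟨e, hle⟩
    (Finset.mem_subtype.2 he)

/-- the shape of a single term. -/
lemma shape_single (w τ φ : Idx d n) (e : Ch w) (he2 : e.1 = 2)
    (hwt : wt (delta e.2.1) < wt (diag τ + diag φ)) (hcont : contC e = cont τ + cont φ)
    (hS : ∀ α : Idx d n, α ≤ w → (∀ k, e.2.1 k ≤ α) → τ ≤ α ∧ φ ≤ α) :
    ∃ α β : Idx d n, β ≤ α ∧ W4bk4grassmannian.sup τ φ < α ∧ β < W4bk4grassmannian.inf τ φ ∧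
      chainMon K e.2.1 = X α * X β := by
  obtain ⟨m', c, hc, i, hi⟩ := e
  simp only at he2
  subst he2
  simp only at hwt hS
  have hcont' : cont (c 0) + cont (c 1) = cont τ + cont φ := by
    rw [← hcont]
    unfold contC
    simp only
    rw [Fin.sum_univ_two]
  have hβα : c 1 ≤ c 0 := hc (by simp)
  have hle : ∀ k, c k ≤ c 0 := by
    intro k
    exact hc (Fin.zero_le k)
  have hα := hS (c 0) (hi 0) hle
  have hM : W4bk4grassmannian.sup τ φ ≤ c 0 := fun t => max_le (hα.1 t) (hα.2 t)
  have hc2 : cont (c 0) + cont (c 1) =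
      cont (W4bk4grassmannian.sup τ φ) + cont (W4bk4grassmannian.inf τ φ) := by
    rw [hcont', cont_sup_add_inf]
  have hm : c 1 ≤ W4bk4grassmannian.inf τ φ := le_of_cont_eq hc2 hM
  have hdelta : delta c = diag (c 0) + diag (c 1) := by
    unfold delta
    rw [Fin.sum_univ_two]
  have hne : ¬ (c 0 = W4bk4grassmannian.sup τ φ ∧ c 1 = W4bk4grassmannian.inf τ φ) := by
    rintro ⟨h0, h1⟩
    rw [hdelta, h0, h1, diag_sup_add_diag_inf] at hwt
    exact lt_irrefl _ hwt
  refine ⟨c 0, c 1, hβα, lt_of_le_of_ne hM (fun h => ?_), lt_of_le_of_ne hm (fun h => ?_), ?_⟩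
  · -- `c 0 = sup`: then `c 1 = inf`
    apply hne
    refine ⟨h.symm, le_antisymm hm ?_⟩
    exact le_of_cont_eq hc2.symm (le_of_eq h.symm)
  · apply hne
    refine ⟨le_antisymm ?_ hM, h⟩
    exact ge_of_cont_eq hc2.symm (le_of_eq h.symm)
  · unfold chainMon
    rw [Fin.prod_univ_two]

/-- **the shape of the straightening relation** of a skew pair on a Schubert variety. -/
theorem straightening_shape (hd : 0 < d) (w τ φ : Idx d n) (hτ : τ ≤ w) (hφ : φ ≤ w) :
    ∃ g ∈ Submodule.span K {f : PlRing K d n | ∃ α β : Idx d n,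
        β ≤ α ∧ W4bk4grassmannian.sup τ φ < α ∧ β < W4bk4grassmannian.inf τ φ ∧
          f = MvPolynomial.X α * MvPolynomial.X β},
      MvPolynomial.X τ * MvPolynomial.X φ -
          MvPolynomial.X (W4bk4grassmannian.sup τ φ) * MvPolynomial.X (W4bk4grassmannian.inf τ φ) -
            g ∈ schubertVanishing K d n w := by
  classical
  obtain ⟨T, a, hT, hrel⟩ := pair_relation_cont (K := K) hd w τ φ hτ hφ
  set Y : PlRing K d n := X τ * X φ -
    X (W4bk4grassmannian.sup τ φ) * X (W4bk4grassmannian.inf τ φ) with hY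
  have hrel' : Ideal.Quotient.mk (schubertVanishing K d n w) Y = ∑ e ∈ T, a e • bCh K w e := by
    rw [hY, map_sub, hrel, add_sub_cancel_left]
  refine ⟨∑ e ∈ T, a e • chainMon K e.2.1, ?_, ?_⟩
  · refine Submodule.sum_mem _ (fun e he => Submodule.smul_mem _ _ (Submodule.subset_span ?_))
    obtain ⟨he2, hwt, hcont, hae⟩ := hT e he
    have hS : ∀ α : Idx d n, α ≤ w → (∀ k, e.2.1 k ≤ α) → τ ≤ α ∧ φ ≤ α := by
      intro α hα hle
      constructor
      · by_contra hτα
        apply hae
        refine coeff_eq_zero_of_mem hd w α hα T a Y hrel' ?_ e he hle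
        rw [hY]
        refine Ideal.sub_mem _ (Ideal.mul_mem_right _ _ (X_mem_schubertVanishing α τ hτα))
          (Ideal.mul_mem_right _ _ (X_mem_schubertVanishing α _ (fun h => hτα ?_)))
        have : τ ≤ W4bk4grassmannian.sup τ φ := fun t => le_max_left _ _
        exact le_trans this h
      · by_contra hφα
        apply hae
        refine coeff_eq_zero_of_mem hd w α hα T a Y hrel' ?_ e he hle
        rw [hY]
        refine Ideal.sub_mem _ (Ideal.mul_mem_left _ _ (X_mem_schubertVanishing α φ hφα))
          (Ideal.mul_mem_right _ _ (X_mem_schubertVanishing α _ (fun h => hφα ?_)))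
        have : φ ≤ W4bk4grassmannian.sup τ φ := fun t => le_max_right _ _
        exact le_trans this h
    obtain ⟨α, β, h1, h2, h3, h4⟩ := shape_single (K := K) w τ φ e he2 hwt hcont hS
    exact ⟨α, β, h1, h2, h3, h4⟩
  · rw [← Ideal.Quotient.eq_zero_iff_mem, map_sub, hrel', map_sum, sub_eq_zero]
    refine Finset.sum_congr rfl (fun e _ => ?_)
    show _ = Ideal.Quotient.mkₐ K _ (a e • chainMon K e.2.1)
    rw [map_smul]
    rfl

end Shape

section Top

variable {K : Type u} [Field K] [Infinite K] {d n : ℕ}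

lemma strictMono_add_le (θ : Idx d n) :
    ∀ (k : ℕ) (t : Fin d), t.val + k = d - 1 → (θ.1 t).val + k ≤ n - 1 := by
  intro k
  induction k with
  | zero =>
    intro t _
    have := (θ.1 t).isLt
    omega
  | succ k ih =>
    intro t ht
    have ht1 : t.val + 1 < d := by omega
    have h1 := ih ⟨t.val + 1, ht1⟩ (by simp only; omega)
    have h2 : θ.1 t < θ.1 ⟨t.val + 1, ht1⟩ := θ.2 (by rw [Fin.lt_def]; simp)
    rw [Fin.lt_def] at h2
    omega

/-- the top index. -/
def topIdx (hdn : d < n) : Idx d n :=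
  ⟨fun t => ⟨n - d + t.val, by have := t.isLt; omega⟩, fun a b hab => by
    rw [Fin.lt_def] at hab ⊢
    simp only
    omega⟩

lemma le_topIdx (hdn : d < n) (θ : Idx d n) : θ ≤ topIdx hdn := by
  intro t
  rw [Fin.le_def]
  have := strictMono_add_le θ (d - 1 - t.val) t (by have := t.isLt; omega)
  have := t.isLt
  show (θ.1 t).val ≤ n - d + t.val
  omega

lemma schubertVanishing_topIdx (hdn : d < n) :
    schubertVanishing K d n (topIdx hdn) = vanishing K d n := by
  apply le_antisymm
  · unfold schubertVanishing vanishing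
    refine le_iInf (fun A => ?_)
    exact iInf_le_of_le A (iInf_le _ (fun φ hφ => absurd (le_topIdx hdn φ) hφ))
  · exact vanishing_le_schubertVanishing _

theorem straightening_shape_vanishing (hd : 0 < d) (hdn : d < n) (τ φ : Idx d n) :
    ∃ g ∈ Submodule.span K {f : PlRing K d n | ∃ α β : Idx d n,
        β ≤ α ∧ W4bk4grassmannian.sup τ φ < α ∧ β < W4bk4grassmannian.inf τ φ ∧
          f = MvPolynomial.X α * MvPolynomial.X β},
      MvPolynomial.X τ * MvPolynomial.X φ -
          MvPolynomial.X (W4bk4grassmannian.sup τ φ) * MvPolynomial.X (W4bk4grassmannian.inf τ φ) -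
            g ∈ vanishing K d n := by
  rw [← schubertVanishing_topIdx (K := K) hdn]
  exact straightening_shape hd (topIdx hdn) τ φ (le_topIdx hdn τ) (le_topIdx hdn φ)

end Top

end Groth.Agent.Lib.Helper22.Grass
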