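import Mathlib
import Groth.Agent.Lib.Helper22.GrassNormal
import Groth.Agent.Lib.Helper22.GrassDivisors

/-!
# Factoriality of the cones over Schubert varieties
-/

namespace Groth.Agent.Lib.Helper22.Grass

open W4bk4grassmannian MvPolynomial

universe u

variable {K : Type u} [Field K] [Infinite K] {d n : ℕ}

theorem ufm_Ax (hd : 0 < d) (τ : Idx d n) : UniqueFactorizationMonoid (Ax K τ) :=
  (cellEquiv K hd τ).symm.toMulEquiv.uniqueFactorizationMonoid inferInstance

theorem irreducible_xτ (hd : 0 < d) (τ : Idx d n) : Irreducible (xτ K τ) := by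
  have hirr : Irreducible (X none : Pc K τ) := (MvPolynomial.X_prime).irreducible
  constructor
  · intro hu
    have := hu.map (φc K τ)
    rw [φc_xτ K hd] at this
    exact hirr.not_isUnit this
  · intro a b hab
    have h1 : (X none : Pc K τ) = φc K τ a * φc K τ b := by
      rw [← map_mul, ← hab, φc_xτ K hd]
    have key : ∀ c : Aw K τ, IsUnit (φc K τ c) → IsUnit c := by
      intro c hc
      obtain ⟨r, hr, hcr⟩ := MvPolynomial.isUnit_iff_eq_C_of_isReduced.1 hc
      have : c = algebraMap K (Aw K τ) r := by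
        apply φc_injective K hd τ
        rw [hcr, AlgHom.commutes]
        rfl
      rw [this]
      exact hr.map (algebraMap K (Aw K τ))
    rcases hirr.isUnit_or_isUnit h1 with h | h
    · exact Or.inl (key a h)
    · exact Or.inr (key b h)

/-- **(1) ⇔ (2)** -/
theorem ufm_iff_prime_xτ (hd : 0 < d) (τ : Idx d n) :
    UniqueFactorizationMonoid (Aw K τ) ↔ Prime (xτ K τ) := by
  haveI := isDomain_Aw K hd τ
  constructor
  · intro h
    exact UniqueFactorizationMonoid.irreducible_iff_prime.1 (irreducible_xτ hd τ)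
  · intro hp
    exact (UniqueFactorizationMonoid.iff_localizationAway_of_prime hp).2 (ufm_Ax hd τ)

lemma prime_xτ_iff (τ : Idx d n) :
    Prime (xτ K τ) ↔ (schubertVanishing K d n τ ⊔ Ideal.span {(X τ : PlRing K d n)}).IsPrime := by
  have hmap : Ideal.span {xτ K τ} =
      (Ideal.span {(X τ : PlRing K d n)}).map (Ideal.Quotient.mk (schubertVanishing K d n τ)) := by
    rw [Ideal.map_span, Set.image_singleton]
    rfl
  have hcomap : (Ideal.span {xτ K τ}).comap (Ideal.Quotient.mk (schubertVanishing K d n τ)) =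
      schubertVanishing K d n τ ⊔ Ideal.span {(X τ : PlRing K d n)} := by
    rw [hmap, Ideal.comap_map_of_surjective _ Ideal.Quotient.mk_surjective,
      ← RingHom.ker_eq_comap_bot, Ideal.mk_ker, sup_comm]
  rw [← Ideal.span_singleton_prime (xτ_ne_zero K τ), ← hcomap]
  constructor
  · intro h
    exact Ideal.comap_isPrime _ _
  · intro h
    have := Ideal.map_isPrime_of_surjective (f := Ideal.Quotient.mk (schubertVanishing K d n τ))
      Ideal.Quotient.mk_surjective (I := (Ideal.span {xτ K τ}).comap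
        (Ideal.Quotient.mk (schubertVanishing K d n τ)))
      (by
        rw [Ideal.mk_ker, hcomap]
        exact le_sup_left)
    rwa [Ideal.map_comap_of_surjective _ Ideal.Quotient.mk_surjective] at this

/-- **(2) ⇔ (3)** -/
theorem prime_xτ_iff_subsingleton (hd : 0 < d) (hdn : d < n) (τ : Idx d n) :
    Prime (xτ K τ) ↔ (divisors τ).Subsingleton := by
  rw [prime_xτ_iff]
  constructor
  · intro hp φ₁ h₁ φ₂ h₂
    by_contra hne
    have hτ : ∃ φ : Idx d n, φ < τ := ⟨φ₁, h₁.1⟩
    rw [sup_span_X_eq_iInf hd τ hτ] at hp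
    have hincomp : ∀ φ ψ : Idx d n, φ ∈ divisors τ → ψ ∈ divisors τ → φ ≠ ψ → ¬ φ ≤ ψ := by
      intro φ ψ hφ hψ hne' hle
      have := codeg_lt_of_lt (lt_of_le_of_ne hle hne')
      have := hφ.2
      have := hψ.2
      omega
    have hmem : (X φ₁ * X φ₂ : PlRing K d n) ∈ ⨅ φ ∈ divisors τ, schubertVanishing K d n φ := by
      simp only [Ideal.mem_iInf]
      intro φ hφ
      by_cases h1 : φ₁ = φ
      · refine Ideal.mul_mem_left _ _ (X_mem_schubertVanishing φ φ₂ ?_)
        rw [← h1]
        exact hincomp φ₂ φ₁ h₂ h₁ (Ne.symm hne)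
      · exact Ideal.mul_mem_right _ _ (X_mem_schubertVanishing φ φ₁ (hincomp φ₁ φ h₁ hφ h1))
    rcases hp.mem_or_mem hmem with h | h
    · simp only [Ideal.mem_iInf] at h
      exact X_notMem_schubertVanishing φ₁ φ₁ le_rfl (h φ₁ h₁)
    · simp only [Ideal.mem_iInf] at h
      exact X_notMem_schubertVanishing φ₂ φ₂ le_rfl (h φ₂ h₂)
  · intro hsub
    by_cases hτ : ∃ φ : Idx d n, φ < τ
    · rw [sup_span_X_eq_iInf hd τ hτ]
      obtain ⟨φ₀, hφ₀⟩ := hτ
      obtain ⟨ψ, hψ, -⟩ := Groth.Agent.S11268.result d n φ₀ τ hφ₀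
      have hset : divisors τ = {ψ} := by
        ext φ
        constructor
        · intro hφ
          exact hsub hφ hψ
        · intro hφ
          rw [Set.mem_singleton_iff.1 hφ]
          exact hψ
      rw [hset]
      simp only [Set.mem_singleton_iff, iInf_iInf_eq_left]
      exact schubertVanishing_isPrime K hd ψ
    · have hτι : τ = iotaIdx hdn := by
        by_contra hne
        exact hτ ⟨iotaIdx hdn, lt_of_le_of_ne (iotaIdx_le hdn τ) (Ne.symm hne)⟩
      rw [hτι, ker_ER_eq hd hdn]
      exact RingHom.ker_isPrime _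

end Groth.Agent.Lib.Helper22.Grass
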