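import Mathlib
import Groth.Agent.Lib.Helper29.IdCompDim
import Groth.Agent.Lib.Helper29.RegUnitSmooth
import Groth.Agent.Lib.Helper25.GrpRegSmooth
import Groth.Agent.Lib.Helper12.SchemeDimFT
import Groth.Agent.Lib.Helper12.BaseChange
import Groth.Agent.Lib.Helper28.GenFibreTop
import Groth.Agent.Lib.Helper26.RegularSch

/-!
# Dimension of a group scheme over a field at the unit point, and smoothness (helper22)

* `isMaximal_primeIdealOf_of_section`: a rational point gives a maximal ideal in any affine chart.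
* `dim_eq_ringKrullDim_stalk`: `dim G = dim O_{G,e}` for `G` l.f.t. group scheme over a field.
* `smooth_of_unit_mem_smoothLocus`, `smooth_of_isRegularLocalRing_unit`.
-/

set_option autoImplicit false
set_option maxHeartbeats 1600000
set_option linter.style.haveILetI false
universe u

open CategoryTheory CategoryTheory.Limits MonoidalCategory CartesianMonoidalCategory MonObj
  AlgebraicGeometry

namespace Groth.Agent.Lib.Helper22.GrpSmoothDim

open Groth.Agent.Lib.Helper12

theorem appLE_top_eq_id {X : Scheme.{u}} (g : X ⟶ X) (hg : g = 𝟙 X) (e : (⊤ : X.Opens) ≤ g ⁻¹ᵁ ⊤) :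
    g.appLE ⊤ ⊤ e = 𝟙 _ := by
  subst hg
  simp [Scheme.Hom.appLE]

/-- a point in the image of a section of `X → Spec k` gives a maximal ideal in any affine chart. -/
theorem isMaximal_primeIdealOf_of_section (k : Type u) [Field k] {X : Scheme.{u}}
    (f : X ⟶ Spec (CommRingCat.of k)) (s : Spec (CommRingCat.of k) ⟶ X) (hs : s ≫ f = 𝟙 _)
    (pt : ↥(Spec (CommRingCat.of k))) {U : X.Opens} (hU : IsAffineOpen U) (hx : s pt ∈ U) :
    (hU.primeIdealOf ⟨s pt, hx⟩).asIdeal.IsMaximal := by
  haveI : Subsingleton ↥(Spec (CommRingCat.of k)) :=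
    inferInstanceAs (Subsingleton (PrimeSpectrum k))
  have hle : (⊤ : (Spec (CommRingCat.of k)).Opens) ≤ s ⁻¹ᵁ U := by
    intro y _
    have : y = pt := Subsingleton.elim _ _
    subst this
    exact hx
  have hfield : IsField Γ(Spec (CommRingCat.of k), ⊤) :=
    MulEquiv.isField (Field.toIsField k)
      (Scheme.ΓSpecIso (CommRingCat.of k)).commRingCatIsoToRingEquiv.toMulEquiv
  letI : Field Γ(Spec (CommRingCat.of k), ⊤) := hfield.toField
  have htop : IsAffineOpen (⊤ : (Spec (CommRingCat.of k)).Opens) := isAffineOpen_top _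
  have h1 := Groth.Agent.Lib.Helper28.GenFibreTop.primeIdealOf_comap s hU htop hle pt trivial
  rw [h1]
  have hle2 : U ≤ f ⁻¹ᵁ ⊤ := fun _ _ => trivial
  have hcomp : f.appLE ⊤ U hle2 ≫ s.appLE U ⊤ hle = 𝟙 _ := by
    rw [Scheme.Hom.appLE_comp_appLE]
    exact appLE_top_eq_id _ hs _
  have hsurj : Function.Surjective (s.appLE U ⊤ hle).hom := by
    intro a
    refine ⟨(f.appLE ⊤ U hle2).hom a, ?_⟩
    have := congrArg (fun φ => φ.hom a) hcomp
    simpa using this
  haveI : (htop.primeIdealOf ⟨pt, trivial⟩).asIdeal.IsMaximal := by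
    have hb : (htop.primeIdealOf ⟨pt, trivial⟩).asIdeal = ⊥ :=
      Ideal.eq_bot_of_prime _
    rw [hb]
    exact Ideal.bot_isMaximal
  exact Ideal.comap_isMaximal_of_surjective _ hsurj

section Grp

variable (k : Type u) [Field k] (G : Over (Spec (CommRingCat.of k))) [GrpObj G]
  [LocallyOfFiniteType G.hom]

/-- `dim G = dim O_{G,e}`. -/
theorem dim_eq_ringKrullDim_stalk (pt : ↥(Spec (CommRingCat.of k))) :
    topologicalKrullDim G.left = ringKrullDim (G.left.presheaf.stalk ((η[G]).left pt)) := by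
  haveI : Subsingleton ↥(Spec (CommRingCat.of k)) :=
    inferInstanceAs (Subsingleton (PrimeSpectrum k))
  have hs : (η[G]).left ≫ G.hom = 𝟙 _ := Over.w η[G]
  rw [Groth.Agent.Lib.Helper29.IdCompDim.dim_eq_fibreDimAt k G ((η[G]).left pt),
    Groth.Agent.Lib.Helper14.HomogDim.fibreDimAt_eq_localDim_of_subsingleton G.hom]
  obtain ⟨_, ⟨U, hU, rfl⟩, hxU, -⟩ :=
    G.left.isBasis_affineOpens.exists_subset_of_mem_open (Set.mem_univ ((η[G]).left pt))
      isOpen_univ
  rw [SchemeDimFT.localDim_eq_primeSpectrum hU ⟨(η[G]).left pt, hxU⟩]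
  have hfield : IsField Γ(Spec (CommRingCat.of k), ⊤) :=
    MulEquiv.isField (Field.toIsField k)
      (Scheme.ΓSpecIso (CommRingCat.of k)).commRingCatIsoToRingEquiv.toMulEquiv
  letI : Field Γ(Spec (CommRingCat.of k), ⊤) := hfield.toField
  have hle2 : U ≤ G.hom ⁻¹ᵁ ⊤ := fun _ _ => trivial
  letI : Algebra Γ(Spec (CommRingCat.of k), ⊤) Γ(G.left, U) :=
    (G.hom.appLE ⊤ U hle2).hom.toAlgebra
  haveI : Algebra.FiniteType Γ(Spec (CommRingCat.of k), ⊤) Γ(G.left, U) :=
    G.hom.finiteType_appLE (isAffineOpen_top _) hU hle2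
  rw [DimFT2.localDim_primeSpectrum Γ(Spec (CommRingCat.of k), ⊤) Γ(G.left, U)]
  have hmax : (hU.primeIdealOf ⟨(η[G]).left pt, hxU⟩).asIdeal.IsMaximal :=
    isMaximal_primeIdealOf_of_section k G.hom (η[G]).left hs pt hU hxU
  have h2 : Order.coheight (hU.primeIdealOf ⟨(η[G]).left pt, hxU⟩) = 0 :=
    Order.coheight_eq_zero.mpr (PrimeSpectrum.isMax_iff.mpr hmax)
  rw [h2, add_zero, BaseChange.ringKrullDim_stalk_eq_height U hU ⟨(η[G]).left pt, hxU⟩]

/-- homogeneity: a group scheme l.f.t. over a field with one smooth point is smooth. -/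
theorem smooth_of_mem_smoothLocus (x : G.left) (hx : x ∈ G.hom.smoothLocus) : Smooth G.hom := by
  haveI : Subsingleton ↥(Spec (CommRingCat.of k)) :=
    inferInstanceAs (Subsingleton (PrimeSpectrum k))
  haveI : LocallyOfFinitePresentation G.hom := inferInstance
  haveI : Flat G.hom := inferInstance
  rw [← Scheme.Hom.smoothLocus_eq_top_iff]
  ext y
  simp only [TopologicalSpace.Opens.coe_top, Set.mem_univ, iff_true]
  exact Groth.Agent.Lib.Helper29.RegUnitSmooth.smoothLocus_homog G x y (Subsingleton.elim _ _) hx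

/-- regular at the unit point implies smooth. -/
theorem smooth_of_isRegularLocalRing_unit (pt : ↥(Spec (CommRingCat.of k)))
    (hreg : IsRegularLocalRing (G.left.presheaf.stalk ((η[G]).left pt))) : Smooth G.hom := by
  have hs : (η[G]).left ≫ G.hom = 𝟙 _ := Over.w η[G]
  exact smooth_of_mem_smoothLocus k G _
    (Groth.Agent.Lib.Helper25.GrpRegSmooth.mem_smoothLocus_of_section G.hom (η[G]).left hs pt hreg)

/-- smooth on a neighbourhood of some point implies smooth. -/
theorem smooth_of_smooth_nhd (x : G.left) (U : G.left.Opens) (hxU : x ∈ U)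
    (hU : Smooth (U.ι ≫ G.hom)) : Smooth G.hom := by
  refine smooth_of_mem_smoothLocus k G x ?_
  have h1 : (U.ι ≫ G.hom).smoothLocus = ⊤ := Scheme.Hom.smoothLocus_eq_top _
  have h2 : (⟨x, hxU⟩ : U) ∈ U.ι ⁻¹ᵁ G.hom.smoothLocus := by
    rw [Scheme.Hom.preimage_smoothLocus_eq, h1]
    trivial
  exact h2

end Grp

end Groth.Agent.Lib.Helper22.GrpSmoothDim
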