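import Mathlib
import Groth.Agent.Lib.Helper22.GrpSmoothDim
import Groth.Agent.Lib.Helper14.StalkTensor
import Groth.Agent.Lib.Helper14.GeomRedLocus
import Groth.Agent.Lib.Helper8.SmoothLocusBC

/-!
# A group scheme l.f.t. over a field with one geometrically reduced local ring is smooth (helper22)
-/

set_option autoImplicit false
set_option maxHeartbeats 1600000
set_option linter.style.haveILetI false
universe u

open CategoryTheory CategoryTheory.Limits MonoidalCategory CartesianMonoidalCategory MonObj
  AlgebraicGeometry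
open scoped TensorProduct

namespace Groth.Agent.Lib.Helper22.GrpSmoothDim

theorem fromSpecStalk_comp_eq {R : CommRingCat.{u}} {X : Scheme.{u}} (f : X ⟶ Spec R) (x : X) :
    X.fromSpecStalk x ≫ f =
      Spec.map ((Scheme.ΓSpecIso R).inv ≫ f.appTop ≫ X.presheaf.germ ⊤ x trivial) := by
  rw [Spec.map_comp, Spec.map_comp, ← Scheme.fromSpecStalk_toSpecΓ]
  simp only [Category.assoc]
  rw [← Scheme.toSpecΓ_naturality_assoc, toSpecΓ_SpecMap_ΓSpecIso_inv, Category.comp_id]

/-- a scheme locally of finite type over a perfect field with a reduced local ring has a smooth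
point. -/
theorem exists_mem_smoothLocus_of_isReduced_stalk (K : Type u) [Field K] [PerfectField K]
    {X : Scheme.{u}} (f : X ⟶ Spec (CommRingCat.of K)) [LocallyOfFiniteType f] (y : X)
    (hy : _root_.IsReduced (X.presheaf.stalk y)) : ∃ z : X, z ∈ f.smoothLocus := by
  haveI : IsLocallyNoetherian X := LocallyOfFiniteType.isLocallyNoetherian f
  let V : X.Opens := ⟨{y : X | _root_.IsReduced (X.presheaf.stalk y)},
    Groth.Agent.Lib.Helper14.GeomRedLocus.isOpen_setOf_isReduced_stalk X⟩
  haveI : ∀ v : V.toScheme, _root_.IsReduced (V.toScheme.presheaf.stalk v) := by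
    intro v
    have h1 : _root_.IsReduced (X.presheaf.stalk (V.ι v)) := v.2
    have hinj : Function.Injective (inv (V.ι.stalkMap v)).hom :=
      ((ConcreteCategory.isIso_iff_bijective _).mp inferInstance).1
    exact isReduced_of_injective _ hinj
  haveI : IsReduced V.toScheme := isReduced_of_isReduced_stalk _
  haveI : LocallyOfFinitePresentation f := inferInstance
  have hd := Scheme.Hom.dense_smoothLocus_of_perfectField (V.ι ≫ f)
  haveI : Nonempty V.toScheme := ⟨⟨y, hy⟩⟩
  obtain ⟨v, hv⟩ := hd.nonempty
  refine ⟨V.ι v, ?_⟩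
  have hv' : v ∈ V.ι ⁻¹ᵁ f.smoothLocus := by
    rw [Scheme.Hom.preimage_smoothLocus_eq]
    exact hv
  exact hv'

/-- **geometric reducedness at one point implies smoothness** for group schemes locally of finite
type over a field. -/
theorem smooth_of_isReduced_tensor (k : Type u) [Field k] (G : Over (Spec (CommRingCat.of k)))
    [GrpObj G] [LocallyOfFiniteType G.hom] (x : G.left) (K : Type u) [Field K] [Algebra k K]
    [PerfectField K] [Algebra k (G.left.presheaf.stalk x)]
    (hc : G.left.fromSpecStalk x ≫ G.hom =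
      Spec.map (CommRingCat.ofHom (algebraMap k (G.left.presheaf.stalk x))))
    (hred : _root_.IsReduced (K ⊗[k] (G.left.presheaf.stalk x))) : Smooth G.hom := by
  haveI : Subsingleton ↥(Spec (CommRingCat.of k)) :=
    inferInstanceAs (Subsingleton (PrimeSpectrum k))
  obtain ⟨g, hg⟩ : ∃ g : Spec (CommRingCat.of K) ⟶ Spec (CommRingCat.of k),
    g = Spec.map (CommRingCat.ofHom (algebraMap k K)) := ⟨_, rfl⟩
  obtain ⟨y, hy, -⟩ := Scheme.Pullback.exists_preimage_pullback (f := G.hom)
    (g := Spec.map (CommRingCat.ofHom (algebraMap k K))) x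
    (IsLocalRing.closedPoint K : PrimeSpectrum K) (Subsingleton.elim _ _)
  obtain ⟨Q, hQ, -, ⟨e⟩⟩ := Groth.Agent.Lib.Helper14.StalkTensor.exists_prime_stalk_equiv G.hom K x
    hc y hy
  haveI : _root_.IsReduced ((G.left.presheaf.stalk x) ⊗[k] K) :=
    isReduced_of_injective (Algebra.TensorProduct.comm k (G.left.presheaf.stalk x) K).toRingEquiv
      (Algebra.TensorProduct.comm k (G.left.presheaf.stalk x) K).toRingEquiv.injective
  have hyred : _root_.IsReduced ((pullback G.hom
      (Spec.map (CommRingCat.ofHom (algebraMap k K)))).presheaf.stalk y) :=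
    isReduced_of_injective e e.injective
  haveI : LocallyOfFinitePresentation G.hom := inferInstance
  haveI : Flat G.hom := inferInstance
  obtain ⟨z, hz⟩ := exists_mem_smoothLocus_of_isReduced_stalk K
    (pullback.snd G.hom (Spec.map (CommRingCat.ofHom (algebraMap k K)))) y hyred
  have h1 := (Groth.Agent.Lib.Helper8.SmoothLocusBC.mem_smoothLocus_iff_of_isPullback G.hom
    (Spec.map (CommRingCat.ofHom (algebraMap k K)))
    (pullback.snd G.hom (Spec.map (CommRingCat.ofHom (algebraMap k K))))
    (pullback.fst G.hom (Spec.map (CommRingCat.ofHom (algebraMap k K))))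
    (IsPullback.of_hasPullback _ _) (Or.inl inferInstance) z).mp hz
  exact smooth_of_mem_smoothLocus k G _ h1

end Groth.Agent.Lib.Helper22.GrpSmoothDim
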