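/-
Helper22 library: associated primes of `H¹` of the naive cotangent complex of a local complete
intersection algebra; for a flat lci algebra over a Noetherian ring they are generic points of
fibres.
-/
import Mathlib
import Groth.Prelude.Def_LCI2
import Groth.Agent.Lib.Helper4.GorLCI
import Groth.Agent.Lib.Helper14.CMFieldBC
import Groth.Agent.Lib.Helper14.CMFibres5
import Groth.Agent.Lib.Helper10.KoszulLow
import Groth.Agent.Lib.Helper1.H1Loc
import Groth.Agent.Lib.Helper22.Liaison1

set_option autoImplicit false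
universe u
open TensorProduct

namespace Groth.Agent.Lib.Helper22.H1Ass

/-- an associated prime of a finite free module is an associated prime of the ring. -/
theorem ass_self_of_ass_pi {R : Type u} [CommRing R] [IsNoetherianRing R] {c : ℕ} {𝔭 : Ideal R}
    (h : 𝔭 ∈ associatedPrimes R (Fin c → R)) : 𝔭 ∈ associatedPrimes R R := by
  rw [AssociatedPrimes.mem_iff, isAssociatedPrime_iff] at h ⊢
  obtain ⟨hp, z, hz⟩ := h
  refine ⟨hp, ?_⟩
  have hcolon : ∀ r : R, r ∈ 𝔭 ↔ ∀ k, r * z k = 0 := by
    intro r
    rw [hz, Submodule.mem_colon_singleton, Submodule.mem_bot]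
    constructor
    · intro h0 k
      have := congrFun h0 k
      simpa using this
    · intro h0
      funext k
      simpa using h0 k
  have hle : (Finset.univ : Finset (Fin c)).inf
      (fun k => (⊥ : Submodule R R).colon {z k}) ≤ 𝔭 := by
    intro r hr
    rw [hcolon]
    intro k
    have h1 : r ∈ (⊥ : Submodule R R).colon {z k} :=
      (Finset.inf_le (f := fun k => (⊥ : Submodule R R).colon {z k}) (Finset.mem_univ k)) hr
    rw [Submodule.mem_colon_singleton, Submodule.mem_bot] at h1
    simpa using h1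
  obtain ⟨k, -, hk⟩ := (Ideal.IsPrime.inf_le' hp).mp hle
  refine ⟨z k, le_antisymm ?_ hk⟩
  intro r hr
  rw [Submodule.mem_colon_singleton, Submodule.mem_bot]
  simpa using (hcolon r).mp hr k

/-- for an extension whose kernel is generated by an `H₁`-regular family, the conormal module is
free on the classes of the generators. -/
theorem exists_pi_equiv_cotangent {A B : Type u} [CommRing A] [CommRing B] [Algebra A B]
    (E : Algebra.Extension.{u} A B) {c : ℕ} (l : Fin c → E.Ring) (hl : CAlgX.IsH1Regular l)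
    (hker : E.ker = Ideal.span (Set.range l)) :
    Nonempty ((Fin c → B) ≃ₗ[B] E.Cotangent) := by
  classical
  have hmem : ∀ i, l i ∈ E.ker := fun i => hker ▸ Ideal.subset_span ⟨i, rfl⟩
  have hsum : ∀ t : Fin c → E.Ring, ∑ i, t i * l i ∈ E.ker := fun t =>
    E.ker.sum_mem fun i _ => E.ker.mul_mem_left _ (hmem i)
  have key : ∀ t : Fin c → E.Ring,
      Fintype.linearCombination B
        (fun i => Algebra.Extension.Cotangent.mk (P := E) ⟨l i, hmem i⟩)
        (fun i => algebraMap E.Ring B (t i)) =
      Algebra.Extension.Cotangent.mk ⟨∑ i, t i * l i, hsum t⟩ := by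
    intro t
    rw [Fintype.linearCombination_apply]
    have h1 : (⟨∑ i, t i * l i, hsum t⟩ : E.ker) = ∑ i, t i • (⟨l i, hmem i⟩ : E.ker) := by
      apply Subtype.ext
      rw [AddSubmonoidClass.coe_finset_sum]
      rfl
    rw [h1, map_sum]
    refine Finset.sum_congr rfl fun i _ => ?_
    rw [map_smul, algebraMap_smul]
  refine ⟨LinearEquiv.ofBijective (Fintype.linearCombination B
    (fun i => Algebra.Extension.Cotangent.mk (P := E) ⟨l i, hmem i⟩)) ⟨?_, ?_⟩⟩
  · rw [injective_iff_map_eq_zero]
    intro b hb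
    have hsurj := E.algebraMap_surjective
    choose t ht using fun i => hsurj (b i)
    have hb' : b = fun i => algebraMap E.Ring B (t i) := funext fun i => (ht i).symm
    rw [hb', key, Algebra.Extension.Cotangent.mk_eq_zero_iff] at hb
    have h2 : ∑ i, t i * l i ∈ Ideal.span (Set.range l) ^ 2 := by
      rw [← hker]; exact hb
    funext k
    have h3 := Groth.Agent.Lib.Helper1.H1Loc.coeff_mem_of_sum_mem_sq l hl t h2 k
    rw [← hker] at h3
    rw [hb']
    exact h3
  · intro x
    obtain ⟨⟨y, hy⟩, rfl⟩ := Algebra.Extension.Cotangent.mk_surjective x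
    have hy' : y ∈ Ideal.span (Set.range l) := hker ▸ hy
    obtain ⟨t, ht⟩ := Ideal.mem_span_range_iff_exists_fun.mp hy'
    refine ⟨fun i => algebraMap E.Ring B (t i), ?_⟩
    rw [key]
    congr 1
    exact Subtype.ext ht

/-- abstract step: for a formally smooth extension with kernel generated by an `H₁`-regular
family, associated primes of `H¹(NL)` are associated primes of the ring. -/
theorem ass_self_of_ass_h1_ext {A B : Type u} [CommRing A] [CommRing B] [Algebra A B]
    [IsNoetherianRing B] (E : Algebra.Extension.{u} A B) [Algebra.FormallySmooth A E.Ring]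
    {c : ℕ} (l : Fin c → E.Ring) (hl : CAlgX.IsH1Regular l)
    (hker : E.ker = Ideal.span (Set.range l)) (𝔮 : Ideal B)
    (h1 : 𝔮 ∈ associatedPrimes B (Algebra.H1Cotangent A B)) : 𝔮 ∈ associatedPrimes B B := by
  obtain ⟨e⟩ := exists_pi_equiv_cotangent E l hl hker
  have h2 := IsAssociatedPrime.map_of_injective
    (f := E.equivH1CotangentOfFormallySmooth.symm.toLinearMap) h1 (LinearEquiv.injective _)
  have h3 := IsAssociatedPrime.map_of_injective (f := E.h1Cotangentι) h2
    E.h1Cotangentι_injective
  have h4 := IsAssociatedPrime.map_of_injective (f := e.symm.toLinearMap) h3 e.symm.injective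
  exact ass_self_of_ass_pi h4

/-- **Associated primes of `H¹(NL)` of an lci algebra are associated primes of the algebra.** -/
theorem ass_self_of_ass_h1 {A P : Type u} [CommRing A] [CommRing P] [Algebra A P]
    [IsNoetherianRing P] {n : ℕ} (f : MvPolynomial (Fin n) A →ₐ[A] P)
    (hf : Function.Surjective f) (hK : LCI.IsKoszulRegularIdeal (RingHom.ker f.toRingHom))
    (𝔔 : Ideal P) (h𝔔 : 𝔔 ∈ associatedPrimes P (Algebra.H1Cotangent A P)) :
    𝔔 ∈ associatedPrimes P P := by
  classical
  haveI h𝔔p : 𝔔.IsPrime := h𝔔.isPrime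
  haveI : (𝔔.comap f.toRingHom).IsPrime := Ideal.IsPrime.comap _
  have hI : RingHom.ker f.toRingHom ≤ 𝔔.comap f.toRingHom := by
    intro x hx
    rw [Ideal.mem_comap, RingHom.mem_ker.mp hx]
    exact 𝔔.zero_mem
  obtain ⟨g, hg, l, hl, hspan⟩ := hK ⟨𝔔.comap f.toRingHom, inferInstance⟩ hI
  have hfg : f g ∉ 𝔔 := fun h => hg (Ideal.mem_comap.mpr h)
  haveI : IsNoetherianRing (Localization.Away (f g)) :=
    IsLocalization.isNoetherianRing (Submonoid.powers (f g)) _ inferInstance
  have hsurj : Function.Surjective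
      (IsLocalization.Away.mapₐ (Localization.Away g) (Localization.Away (f g)) f g) :=
    IsLocalization.Away.mapₐ_surjective_of_surjective g hf
  haveI hfs : Algebra.FormallySmooth A (Localization.Away g) := by
    haveI : Algebra.FormallySmooth (MvPolynomial (Fin n) A) (Localization.Away g) :=
      Algebra.FormallySmooth.of_isLocalization (Submonoid.powers g)
    exact Algebra.FormallySmooth.comp A (MvPolynomial (Fin n) A) (Localization.Away g)
  obtain ⟨E, hE⟩ : ∃ E : Algebra.Extension.{u} A (Localization.Away (f g)),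
      E = Algebra.Extension.ofSurjective
        (IsLocalization.Away.mapₐ (Localization.Away g) (Localization.Away (f g)) f g) hsurj :=
    ⟨_, rfl⟩
  have hT : Submonoid.map f.toRingHom (Submonoid.powers g) = Submonoid.powers (f g) := by
    rw [Submonoid.map_powers]; rfl
  have hker0 := IsLocalization.ker_map (S := Localization.Away g) (Localization.Away (f g))
    f.toRingHom hT
  subst hE
  haveI : Algebra.FormallySmooth A (Algebra.Extension.ofSurjective
      (IsLocalization.Away.mapₐ (Localization.Away g) (Localization.Away (f g)) f g) hsurj).Ring :=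
    hfs
  have hkerE : (Algebra.Extension.ofSurjective
      (IsLocalization.Away.mapₐ (Localization.Away g) (Localization.Away (f g)) f g) hsurj).ker =
      Ideal.span (Set.range l.get) := by
    have h2 : (Algebra.Extension.ofSurjective
        (IsLocalization.Away.mapₐ (Localization.Away g) (Localization.Away (f g)) f g) hsurj).ker =
        (RingHom.ker f.toRingHom).map
          (algebraMap (MvPolynomial (Fin n) A) (Localization.Away g)) := by
      rw [← hker0]
      ext x
      rfl
    rw [h2, hspan]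
    congr 1
    ext x
    simp only [Set.mem_setOf_eq, Set.mem_range]
    exact List.mem_iff_get
  have hH1 : CAlgX.IsH1Regular l.get := fun a ha =>
    H10KL.h1_of_isZero_homology (Localization.Away g) l (hl (-1) (by norm_num)) a ha
  have hdisj : Disjoint (Submonoid.powers (f g) : Set P) (𝔔 : Set P) := by
    rw [Set.disjoint_left]
    rintro x ⟨k, rfl⟩ hx
    exact hfg (h𝔔p.mem_of_pow_mem k hx)
  haveI h𝔮p : (𝔔.map (algebraMap P (Localization.Away (f g)))).IsPrime :=
    IsLocalization.isPrime_of_isPrime_disjoint (Submonoid.powers (f g)) _ 𝔔 h𝔔p hdisj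
  have hcomap : (𝔔.map (algebraMap P (Localization.Away (f g)))).comap
      (algebraMap P (Localization.Away (f g))) = 𝔔 :=
    IsLocalization.under_map_of_isPrime_disjoint (Submonoid.powers (f g)) _ h𝔔p hdisj
  have h1 : 𝔔.map (algebraMap P (Localization.Away (f g))) ∈
      associatedPrimes (Localization.Away (f g)) (Algebra.H1Cotangent A (Localization.Away (f g))) := by
    refine Module.associatedPrimes.mem_associatedPrimes_of_comap_mem_associatedPrimes_of_isLocalizedModule
      (Submonoid.powers (f g)) (Algebra.H1Cotangent.map A A P (Localization.Away (f g))) _ ?_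
    rw [hcomap]
    exact h𝔔
  have h5 := ass_self_of_ass_h1_ext (Algebra.Extension.ofSurjective
      (IsLocalization.Away.mapₐ (Localization.Away g) (Localization.Away (f g)) f g) hsurj)
    (l := l.get) hH1 hkerE _ h1
  have h6 := Module.associatedPrimes.comap_mem_associatedPrimes_of_mem_associatedPrimes_of_isLocalizedModule_of_fg
    (Submonoid.powers (f g)) (Algebra.linearMap P (Localization.Away (f g)))
    (𝔔.map (algebraMap P (Localization.Away (f g)))) h5
    ((isNoetherianRing_iff_ideal_fg P).mp inferInstance _)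
  rwa [hcomap] at h6

/-- over a flat algebra with Cohen–Macaulay fibres, an associated prime of the algebra is a
generic point of its fibre. -/
theorem eq_of_le_of_ass {A P : Type u} [CommRing A] [CommRing P] [Algebra A P]
    [IsNoetherianRing A] [IsNoetherianRing P] [Module.Flat A P]
    (hcm : ∀ (p : Ideal A) [p.IsPrime], LocCoh.IsCohenMacaulayRing (p.Fiber P))
    (𝔔 : Ideal P) [𝔔.IsPrime] (h𝔔 : 𝔔 ∈ associatedPrimes P P)
    (𝔔' : Ideal P) [𝔔'.IsPrime] (hle : 𝔔' ≤ 𝔔)
    (hc : 𝔔'.comap (algebraMap A P) = 𝔔.comap (algebraMap A P)) : 𝔔' = 𝔔 := by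
  haveI : IsNoetherianRing (Localization.AtPrime 𝔔) :=
    IsLocalization.isNoetherianRing 𝔔.primeCompl _ inferInstance
  have hm : IsLocalRing.maximalIdeal (Localization.AtPrime 𝔔) ∈
      associatedPrimes (Localization.AtPrime 𝔔) (Localization.AtPrime 𝔔) := by
    refine Module.associatedPrimes.mem_associatedPrimes_of_comap_mem_associatedPrimes_of_isLocalizedModule
      𝔔.primeCompl (Algebra.linearMap P (Localization.AtPrime 𝔔)) _ ?_
    have h0 := Localization.AtPrime.under_maximalIdeal (I := 𝔔)
    change (IsLocalRing.maximalIdeal (Localization.AtPrime 𝔔)).comap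
      (algebraMap P (Localization.AtPrime 𝔔)) ∈ _
    change (IsLocalRing.maximalIdeal (Localization.AtPrime 𝔔)).comap
      (algebraMap P (Localization.AtPrime 𝔔)) = 𝔔 at h0
    rw [h0]
    exact h𝔔
  have hd0 : LocCoh.depth (Localization.AtPrime 𝔔) (Localization.AtPrime 𝔔) = 0 :=
    Groth.Agent.Lib.Helper4.depth_eq_zero_iff_maximalIdeal_mem_associatedPrimes.mpr hm
  haveI : (𝔔.comap (algebraMap A P)).IsPrime := Ideal.IsPrime.comap _
  haveI : (𝔔'.comap (algebraMap A P)).IsPrime := Ideal.IsPrime.comap _
  obtain ⟨c, -, hht, hdep⟩ :=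
    Groth.Agent.Lib.Helper14.CMFieldBC.local_formulas_of_cm_fibre A P 𝔔 (hcm _)
  obtain ⟨c', -, hht', -⟩ :=
    Groth.Agent.Lib.Helper14.CMFieldBC.local_formulas_of_cm_fibre A P 𝔔' (hcm _)
  rw [hd0] at hdep
  have hc0 : c = 0 := (add_eq_zero.mp hdep.symm).2
  rw [hc0, add_zero] at hht
  by_contra hne
  have hlt : 𝔔' < 𝔔 := lt_of_le_of_ne hle hne
  have h1 := Ideal.height_add_one_le_of_lt_of_isPrime hlt
  rw [hht, hht', hc] at h1
  have hfin : (𝔔.comap (algebraMap A P)).height ≠ ⊤ := Ideal.height_ne_top_of_isPrime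
  have h2 : (𝔔.comap (algebraMap A P)).height + 1 ≤ (𝔔.comap (algebraMap A P)).height :=
    le_trans (add_le_add_left le_self_add 1) h1
  exact lt_irrefl _ ((ENat.add_one_le_iff hfin).mp h2)

/-- fibres of a flat lci algebra are Cohen–Macaulay. -/
theorem cm_fiber_of_flat_lci {A P : Type u} [CommRing A] [CommRing P] [Algebra A P]
    [Module.Flat A P] {n : ℕ} (f : MvPolynomial (Fin n) A →ₐ[A] P)
    (hf : Function.Surjective f) (hK : LCI.IsKoszulRegularIdeal (RingHom.ker f.toRingHom))
    (p : Ideal A) [p.IsPrime] : LocCoh.IsCohenMacaulayRing (p.Fiber P) := by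
  haveI hG : LocCoh.IsGorensteinRing (P ⊗[A] p.ResidueField) :=
    Groth.Agent.Lib.Helper4.GorLCI.gorRing_tensor_of_flat_lci A n P f p.ResidueField hf hK
  haveI hC : LocCoh.IsCohenMacaulayRing (P ⊗[A] p.ResidueField) :=
    Groth.Agent.Lib.Helper22.Liaison.cm_of_gorenstein
  exact Groth.Agent.Lib.Helper14.CMFibres.isCohenMacaulayRing_of_ringEquiv
    (Algebra.TensorProduct.comm A P p.ResidueField).toRingEquiv

/-- **`H¹(NL_{P/A}) = 0` for a flat lci algebra over a Noetherian ring with generically smooth
fibres.** -/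
theorem main {A P : Type u} [CommRing A] [CommRing P] [Algebra A P] [IsNoetherianRing A]
    [Module.Flat A P] (hlci : LCI.IsLCI A P)
    (hgs : ∀ 𝔓 : PrimeSpectrum P,
      (∀ 𝔔 : PrimeSpectrum P, 𝔔 ≤ 𝔓 →
          𝔔.asIdeal.comap (algebraMap A P) = 𝔓.asIdeal.comap (algebraMap A P) → 𝔔 = 𝔓) →
        𝔓 ∈ Algebra.smoothLocus A P) :
    Subsingleton (Algebra.H1Cotangent A P) := by
  obtain ⟨hft, n, f, hf, hK⟩ := hlci
  haveI := hft
  haveI : IsNoetherianRing P := Algebra.FiniteType.isNoetherianRing A P
  by_contra hne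
  rw [not_subsingleton_iff_nontrivial] at hne
  obtain ⟨𝔔, h𝔔⟩ := associatedPrimes.nonempty P (Algebra.H1Cotangent A P)
  haveI h𝔔p : 𝔔.IsPrime := h𝔔.isPrime
  have h1 : 𝔔 ∈ associatedPrimes P P := ass_self_of_ass_h1 f hf hK 𝔔 h𝔔
  have h2 : (⟨𝔔, h𝔔p⟩ : PrimeSpectrum P) ∈ Algebra.smoothLocus A P := by
    apply hgs
    intro 𝔔' hle hc
    apply PrimeSpectrum.ext
    exact eq_of_le_of_ass (fun p _ => cm_fiber_of_flat_lci f hf hK p) 𝔔 h1 𝔔'.asIdeal hle hc
  rw [Algebra.smoothLocus_eq_compl_support_inter] at h2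
  apply h2.1
  rw [Module.mem_support_iff_exists_annihilator]
  rw [AssociatedPrimes.mem_iff, isAssociatedPrime_iff] at h𝔔
  obtain ⟨-, x, hx⟩ := h𝔔
  refine ⟨x, ?_⟩
  intro r hr
  show r ∈ 𝔔
  rw [hx, Submodule.mem_colon_singleton, Submodule.mem_bot]
  exact (Submodule.mem_annihilator_span_singleton x r).mp hr

end Groth.Agent.Lib.Helper22.H1Ass
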