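import Mathlib
import Groth.Prelude.Def_W4c2conddiscmodels

/-!
# Hirzebruch–Jung continued fractions: backward continuants and the Wronskian identity
-/

set_option autoImplicit false

namespace Groth.Agent.Lib.Helper22.HJ

open HJFrac

/-- Backward continuants: `cfun l b k = K(b_{l-k+1}, …, b_l)`. -/
def cfun (l : ℕ) (b : ℕ → ℤ) : ℕ → ℤ
  | 0 => 0
  | 1 => 1
  | (k + 2) => b (l - k) * cfun l b (k + 1) - cfun l b k

@[simp] lemma cfun_zero (l : ℕ) (b : ℕ → ℤ) : cfun l b 0 = 0 := by rw [cfun]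
@[simp] lemma cfun_one (l : ℕ) (b : ℕ → ℤ) : cfun l b 1 = 1 := by rw [cfun]
lemma cfun_succ_succ (l : ℕ) (b : ℕ → ℤ) (k : ℕ) :
    cfun l b (k + 2) = b (l - k) * cfun l b (k + 1) - cfun l b k := by rw [cfun]

variable (l : ℕ) (b : ℕ → ℤ) (hb : ∀ i, 1 ≤ i → i ≤ l → 2 ≤ b i)

include hb in
lemma cfun_lt (k : ℕ) (hk : k ≤ l) : 0 ≤ cfun l b k ∧ cfun l b k < cfun l b (k + 1) := by
  induction k with
  | zero => simp
  | succ k ih =>
    obtain ⟨h0, h1⟩ := ih (by omega)
    refine ⟨by omega, ?_⟩
    rw [cfun_succ_succ]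
    have hbk : 2 ≤ b (l - k) := hb _ (by omega) (by omega)
    nlinarith

include hb in
lemma cfun_pos (k : ℕ) (hk : k ≤ l) : 0 < cfun l b (k + 1) := by
  have := cfun_lt l b hb k hk
  omega

lemma cfun_coprime (k : ℕ) : IsCoprime (cfun l b (k + 1)) (cfun l b k) := by
  induction k with
  | zero => simp [isCoprime_one_left]
  | succ k ih =>
    rw [cfun_succ_succ]
    have : b (l - k) * cfun l b (k + 1) - cfun l b k =
        -(cfun l b k) + b (l - k) * cfun l b (k + 1) := by ring
    rw [this]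
    exact (IsCoprime.add_mul_right_left ih.symm.neg_left _)

/-- The tail of length `k` of the list `[b_1, …, b_l]`. -/
def tail (k : ℕ) : List ℤ := (List.range k).map fun i => b (l - k + 1 + i)

lemma tail_succ (k : ℕ) (hk : k + 1 ≤ l) : tail l b (k + 1) = b (l - k) :: tail l b k := by
  unfold tail
  rw [List.range_succ_eq_map, List.map_cons, List.map_map]
  congr 1
  · congr 1; omega
  · apply List.map_congr_left
    intro i _
    simp only [Function.comp]
    congr 1; omega

include hb in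
lemma hjVal_tail (k : ℕ) (hk : k ≤ l) :
    hjVal (tail l b k) = (cfun l b (k + 1) : ℚ) / (cfun l b k : ℚ) := by
  induction k with
  | zero => simp [tail, hjVal]
  | succ k ih =>
    rw [tail_succ l b k hk, hjVal, ih (by omega), inv_div, cfun_succ_succ]
    have hpos : (0 : ℚ) < cfun l b (k + 1) := by
      exact_mod_cast cfun_pos l b hb k (by omega)
    field_simp
    push_cast
    ring

lemma tail_full : tail l b l = (List.range l).map fun i => b (i + 1) := by
  unfold tail
  apply List.map_congr_left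
  intro i _
  congr 1; omega

include hb in
/-- If `n / r = [b_1, …, b_l]` in lowest terms then `n` and `r` are the continuants. -/
lemma eq_cfun_of_hjVal (hl : 1 ≤ l) (n r : ℕ) (hr : 0 < r) (hcop : Nat.Coprime r n)
    (hhj : (n : ℚ) / r = hjVal ((List.range l).map fun i => b (i + 1))) :
    cfun l b (l + 1) = n ∧ cfun l b l = r := by
  rw [← tail_full, hjVal_tail l b hb l le_rfl] at hhj
  have hq : 0 < cfun l b l := by
    obtain ⟨l', rfl⟩ : ∃ l', l = l' + 1 := ⟨l - 1, by omega⟩
    exact cfun_pos (l' + 1) b hb l' (by omega)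
  have hp : 0 < cfun l b (l + 1) := cfun_pos l b hb l le_rfl
  have hq' : (cfun l b l : ℚ) ≠ 0 := by exact_mod_cast hq.ne'
  have hr' : (r : ℚ) ≠ 0 := by exact_mod_cast hr.ne'
  rw [div_eq_div_iff hr' hq'] at hhj
  have hcross : (n : ℤ) * cfun l b l = cfun l b (l + 1) * r := by exact_mod_cast hhj
  have hcopZ : IsCoprime (n : ℤ) (r : ℤ) := by
    rw [Int.isCoprime_iff_gcd_eq_one, Int.gcd_natCast_natCast]
    exact hcop.symm
  have h1 : (n : ℤ) ∣ cfun l b (l + 1) :=
    hcopZ.dvd_of_dvd_mul_right (Dvd.intro _ hcross)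
  have h2 : cfun l b (l + 1) ∣ (n : ℤ) :=
    (cfun_coprime l b l).dvd_of_dvd_mul_right (Dvd.intro _ hcross.symm)
  have hn0 : (0 : ℤ) ≤ n := Int.natCast_nonneg n
  have heq : cfun l b (l + 1) = n := Int.dvd_antisymm hp.le hn0 h2 h1
  refine ⟨heq, ?_⟩
  rw [heq] at hcross
  have hn : (n : ℤ) ≠ 0 := by rw [← heq]; exact hp.ne'
  exact mul_left_cancel₀ hn hcross

/-- The Wronskian identity for a solution `μ` of the tridiagonal system (indexed from the end). -/
lemma wronskian' (μ : ℕ → ℤ)
    (hsys : ∀ i, 1 ≤ i → i ≤ l → b i * μ i = μ (i - 1) + μ (i + 1)) (j : ℕ) (hj : j ≤ l) :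
    cfun l b (j + 1) * μ (l - j + 1) - cfun l b j * μ (l - j) = μ (l + 1) := by
  induction j with
  | zero => simp
  | succ j ih =>
    have ih' := ih (by omega)
    have h1 := hsys (l - j) (by omega) (by omega)
    have e1 : l - j - 1 = l - (j + 1) := by omega
    have e2 : l - (j + 1) + 1 = l - j := by omega
    rw [cfun_succ_succ, e2]
    rw [e1] at h1
    have : (b (l - j) * cfun l b (j + 1) - cfun l b j) * μ (l - j) -
        cfun l b (j + 1) * μ (l - (j + 1)) =
        cfun l b (j + 1) * (b (l - j) * μ (l - j)) - cfun l b j * μ (l - j) -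
        cfun l b (j + 1) * μ (l - (j + 1)) := by ring
    rw [this, h1, ← ih']
    ring

/-- The Wronskian identity for a solution `μ` of the tridiagonal system. -/
lemma wronskian (μ : ℕ → ℤ)
    (hsys : ∀ i, 1 ≤ i → i ≤ l → b i * μ i = μ (i - 1) + μ (i + 1)) (i : ℕ) (hi : i ≤ l) :
    cfun l b (l + 1 - i) * μ (i + 1) - cfun l b (l - i) * μ i = μ (l + 1) := by
  have := wronskian' l b μ hsys (l - i) (by omega)
  have e1 : l - i + 1 = l + 1 - i := by omega
  have e2 : l - (l - i) = i := by omega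
  rw [e1, e2] at this
  exact this

end Groth.Agent.Lib.Helper22.HJ
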