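import Mathlib
import Groth.Prelude.Def_KZero
import Groth.Agent.Lib.Helper22.HS4

/-!
# Hilbert–Serre: the class in the Grothendieck group of finite modules is additive
-/

set_option autoImplicit false
open CategoryTheory

universe u

namespace Groth.Agent.Lib.Helper22.HS

theorem isAdditive_K0 (A : Type u) [CommRing A] :
    IsAdditive (A := A) (fun X _ _ =>
      KZero.clSub (fun X : ModuleCat.{u} A => Module.Finite A X) (ModuleCat.of A X)) := by
  intro X Y Z _ _ _ _ _ _ hX hY hZ f g hf hg hfg
  let P : ObjectProperty (ModuleCat.{u} A) := fun M => Module.Finite A M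
  let Sc : ShortComplex (ModuleCat.{u} A) :=
    ShortComplex.moduleCatMk f g (by ext x; exact hfg.apply_apply_eq_zero x)
  have hS : Sc.ShortExact := ModuleCat.shortComplex_shortExact Sc hfg hf hg
  change KZero.clSub P (ModuleCat.of A Y) =
    KZero.clSub P (ModuleCat.of A X) + KZero.clSub P (ModuleCat.of A Z)
  unfold KZero.clSub
  rw [dif_pos (show P (ModuleCat.of A Y) from hY), dif_pos (show P (ModuleCat.of A X) from hX),
    dif_pos (show P (ModuleCat.of A Z) from hZ)]
  rw [← QuotientAddGroup.mk_add, QuotientAddGroup.eq]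
  have hmem : FreeAbelianGroup.of (⟨ModuleCat.of A Y, hY⟩ : Subtype P) -
      FreeAbelianGroup.of (⟨ModuleCat.of A X, hX⟩ : Subtype P) -
      FreeAbelianGroup.of (⟨ModuleCat.of A Z, hZ⟩ : Subtype P) ∈ KZero.relSub P :=
    AddSubgroup.subset_closure ⟨Sc, hX, hY, hZ, hS, rfl⟩
  have := (KZero.relSub P).neg_mem hmem
  convert this using 1
  abel

end Groth.Agent.Lib.Helper22.HS
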