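import Mathlib
import Groth.Agent.Lib.Helper22.HS5

/-!
# Hilbert functions of quotients of polynomial rings over a field: degree bound
-/

set_option autoImplicit false
open DirectSum

universe u

namespace Groth.Agent.Lib.Helper22.HS

attribute [local instance] MvPolynomial.gradedAlgebra

theorem isAdditive_finrank (k : Type u) [Field k] :
    IsAdditive (A := k) (G := ℤ) (fun X _ _ => (Module.finrank k X : ℤ)) := by
  intro X Y Z _ _ _ _ _ _ _ _ _ f g hf hg hfg
  change ((Module.finrank k Y : ℕ) : ℤ) = (Module.finrank k X : ℤ) + (Module.finrank k Z : ℤ)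
  have h1 := LinearMap.finrank_range_add_finrank_ker g
  rw [LinearMap.range_eq_top.2 hg, finrank_top, (LinearMap.exact_iff.1 hfg),
    LinearMap.finrank_range_of_inj hf] at h1
  omega

variable {k : Type u} [Field k] (d : ℕ)

instance finite_homogeneousSubmodule (n : ℕ) :
    Module.Finite k ↥(MvPolynomial.homogeneousSubmodule (Fin d) k n) :=
  Module.Finite.iff_fg.2 (MvPolynomial.homogeneousSubmodule_fg (Fin d) k n)

/-- the Hilbert function of the quotient by a homogeneous ideal, as a difference of dimensions. -/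
noncomputable def hf (I : Ideal (MvPolynomial (Fin d) k)) (n : ℕ) : ℤ :=
  (Module.finrank k ↥(MvPolynomial.homogeneousSubmodule (Fin d) k n) : ℤ) -
    (Module.finrank k ↥(I.restrictScalars k ⊓ MvPolynomial.homogeneousSubmodule (Fin d) k n) : ℤ)

lemma finrank_quotGr (I : Ideal (MvPolynomial (Fin d) k)) (n : ℕ) :
    (Module.finrank k ↥(quotGr (MvPolynomial.homogeneousSubmodule (Fin d) k) I n) : ℤ) =
      hf d I n := by
  set 𝒜 := MvPolynomial.homogeneousSubmodule (Fin d) k with h𝒜
  set π : ↥(𝒜 n) →ₗ[k] ↥(quotGr 𝒜 I n) :=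
    ((Submodule.mkQ I).restrictScalars k).submoduleMap (𝒜 n) with hπ
  have hsurj : Function.Surjective π := LinearMap.submoduleMap_surjective _ _
  have h1 := LinearMap.finrank_range_add_finrank_ker π
  rw [LinearMap.range_eq_top.2 hsurj, finrank_top] at h1
  have hker : LinearMap.ker π = (I.restrictScalars k ⊓ 𝒜 n).comap (𝒜 n).subtype := by
    ext y
    rw [LinearMap.mem_ker, Submodule.mem_comap, Submodule.mem_inf]
    constructor
    · intro hy
      have hy' : Submodule.mkQ I (y : MvPolynomial (Fin d) k) = 0 := congrArg Subtype.val hy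
      rw [Submodule.mkQ_apply, Submodule.Quotient.mk_eq_zero] at hy'
      exact ⟨hy', y.2⟩
    · rintro ⟨hy, _⟩
      apply Subtype.ext
      change Submodule.mkQ I (y : MvPolynomial (Fin d) k) = 0
      rw [Submodule.mkQ_apply, Submodule.Quotient.mk_eq_zero]
      exact hy
  have h2 : Module.finrank k ↥(LinearMap.ker π) =
      Module.finrank k ↥(I.restrictScalars k ⊓ 𝒜 n) := by
    rw [hker]
    exact LinearEquiv.finrank_eq (Submodule.comapSubtypeEquivOfLe inf_le_right)
  unfold hf
  rw [← h𝒜, ← h2]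
  omega

/-- **degree bound for the Hilbert function of a proper quotient.** -/
theorem evPoly_hf (e : ℕ) (hd : d = e + 1)
    (I : HomogeneousIdeal (MvPolynomial.homogeneousSubmodule (Fin d) k)) (hI : I ≠ ⊥) :
    EvPoly e (hf d I.toIdeal) := by
  classical
  set 𝒜 := MvPolynomial.homogeneousSubmodule (Fin d) k with h𝒜
  have hx := stdGen_mvPolynomial k d
  have hlam := isAdditive_finrank k
  have hb : EvPoly d (fun n => (Module.finrank k ↥(𝒜 n) : ℤ)) :=
    evPoly hx hlam (MvPolynomial (Fin d) k) 𝒜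
  have hP : IsHomog 𝒜 I.toIdeal := fun n m hm => I.isHomogeneous n hm
  letI := quotGrDecomposition 𝒜 I.toIdeal hP
  have hq : EvPoly d (fun n => (Module.finrank k ↥(quotGr 𝒜 I.toIdeal n) : ℤ)) :=
    evPoly hx hlam (MvPolynomial (Fin d) k ⧸ I.toIdeal) (quotGr 𝒜 I.toIdeal)
  have hq' : EvPoly (e + 1) (hf d I.toIdeal) := by
    have : (fun n => (Module.finrank k ↥(quotGr 𝒜 I.toIdeal n) : ℤ)) = hf d I.toIdeal :=
      funext fun n => finrank_quotGr d I.toIdeal n
    rw [← this]
    exact hq.cast hd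
  -- a nonzero homogeneous element of `I`
  obtain ⟨g, m, hgI, hgm, hg0⟩ : ∃ (g : MvPolynomial (Fin d) k) (m : ℕ),
      g ∈ I.toIdeal ∧ g ∈ 𝒜 m ∧ g ≠ 0 := by
    have : I.toIdeal ≠ ⊥ := by
      intro h
      apply hI
      exact HomogeneousIdeal.toIdeal_injective (by rw [h]; rfl)
    obtain ⟨s, hs, hs0⟩ := Submodule.exists_mem_ne_zero_of_ne_bot this
    have : ∃ m, (decompose 𝒜 s m : MvPolynomial (Fin d) k) ≠ 0 := by
      by_contra hcon
      push Not at hcon
      apply hs0
      rw [← DirectSum.sum_support_decompose 𝒜 s]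
      exact Finset.sum_eq_zero fun i _ => hcon i
    obtain ⟨m, hm⟩ := this
    exact ⟨_, m, I.isHomogeneous m hs, SetLike.coe_mem _, hm⟩
  refine hq'.of_bounds ((hb.cast hd).sub_shift m) m fun n hn => ?_
  constructor
  · rw [← finrank_quotGr]
    exact Int.natCast_nonneg _
  · unfold hf
    have hle : Module.finrank k ↥(𝒜 (n - m)) ≤
        Module.finrank k ↥(I.toIdeal.restrictScalars k ⊓ 𝒜 n) := by
      let φ : ↥(𝒜 (n - m)) →ₗ[k] ↥(I.toIdeal.restrictScalars k ⊓ 𝒜 n) :=
        LinearMap.codRestrict _ ((LinearMap.mulLeft k g).comp (𝒜 (n - m)).subtype) (by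
          intro p
          refine ⟨I.toIdeal.mul_mem_right _ hgI, ?_⟩
          have := SetLike.GradedMul.mul_mem hgm p.2
          rwa [Nat.add_sub_cancel' hn] at this)
      refine LinearMap.finrank_le_finrank_of_injective (f := φ) ?_
      intro p q hpq
      have h1 : g * (p : MvPolynomial (Fin d) k) = g * (q : MvPolynomial (Fin d) k) :=
        congrArg Subtype.val hpq
      exact Subtype.ext (mul_left_cancel₀ hg0 h1)
    change (Module.finrank k ↥(𝒜 n) : ℤ) -
      (Module.finrank k ↥(I.toIdeal.restrictScalars k ⊓ 𝒜 n) : ℤ) ≤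
      (Module.finrank k ↥(𝒜 n) : ℤ) - (Module.finrank k ↥(𝒜 (n - m)) : ℤ)
    omega

end Groth.Agent.Lib.Helper22.HS
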