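import Mathlib
import Groth.Agent.Lib.Helper22.GrNN4
import Groth.Agent.Lib.Helper22.HS8

/-!
# Hilbert function bounds for a graded algebra finite over a polynomial subalgebra (helper22)
-/

set_option autoImplicit false

universe u

open DirectSum

namespace Groth.Agent.Lib.Helper22.HilbDim

open Groth.Agent.Lib.Helper22.GrNN

variable {k : Type u} [Field k] {A : Type u} [CommRing A] [Algebra k A]
variable (𝒬 : ℕ → Submodule k A) [GradedAlgebra 𝒬]

/-- monomials in homogeneous elements of degree `D`. -/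
lemma prod_pow_mem {r D : ℕ} (x : Fin r → A) (hx : ∀ i, x i ∈ 𝒬 D) (α : Fin r →₀ ℕ) :
    (α.prod fun i e => x i ^ e) ∈ 𝒬 (α.degree * D) := by
  classical
  rw [Finsupp.prod]
  have h := SetLike.prod_pow_mem_graded 𝒬 (fun _ => D) x (F := α.support) (fun i => α i)
    (fun i _ => hx i)
  have h2 : ∑ i ∈ α.support, α i • D = α.degree * D := by
    rw [Finsupp.degree_apply, Finset.sum_mul]
    simp [smul_eq_mul]
  rwa [h2] at h

/-- the monomial `x^α`. -/
noncomputable def mon {r : ℕ} (x : Fin r → A) (α : Fin r →₀ ℕ) : A :=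
  MvPolynomial.aeval x (MvPolynomial.monomial α (1 : k))

lemma mon_mem {r D : ℕ} (x : Fin r → A) (hx : ∀ i, x i ∈ 𝒬 D) (α : Fin r →₀ ℕ) :
    mon (k := k) x α ∈ 𝒬 (α.degree * D) := by
  unfold mon
  rw [MvPolynomial.aeval_monomial, map_one, one_mul]
  exact prod_pow_mem 𝒬 x hx α

lemma aeval_monomial_eq {r : ℕ} (x : Fin r → A) (α : Fin r →₀ ℕ) (c : k) :
    MvPolynomial.aeval x (MvPolynomial.monomial α c) = c • mon (k := k) x α := by
  unfold mon
  rw [← map_smul, MvPolynomial.smul_monomial, smul_eq_mul, mul_one]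

/-- evaluation of homogeneous polynomials at homogeneous elements. -/
lemma aeval_mem {r D : ℕ} (x : Fin r → A) (hx : ∀ i, x i ∈ 𝒬 D) {j : ℕ}
    {p : MvPolynomial (Fin r) k} (hp : p ∈ MvPolynomial.homogeneousSubmodule (Fin r) k j) :
    MvPolynomial.aeval x p ∈ 𝒬 (j * D) := by
  classical
  rw [MvPolynomial.mem_homogeneousSubmodule] at hp
  rw [p.as_sum, map_sum]
  refine Submodule.sum_mem _ fun α hα => ?_
  rw [aeval_monomial_eq]
  refine Submodule.smul_mem _ _ ?_
  have hdeg : α.degree = j := by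
    have := hp (MvPolynomial.mem_support_iff.1 hα)
    rw [Finsupp.degree_eq_weight_one]
    exact this
  rw [← hdeg]
  exact mon_mem 𝒬 x hx α

/-- **spanning sets in each degree**, for a graded algebra finite over the subalgebra generated
by homogeneous elements of degree `D`. -/
theorem exists_span_bound {r D : ℕ} (hD : 0 < D) (x : Fin r → A) (hx : ∀ i, x i ∈ 𝒬 D)
    [Module.Finite (Algebra.adjoin k (Set.range x)) A] :
    ∃ (G' : Finset A) (dg : A → ℕ), ∀ m : ℕ, ∃ T : Finset A,
      𝒬 m ≤ Submodule.span k (T : Set A) ∧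
      T.card ≤ ∑ h ∈ G', ((Finset.univ : Finset (Fin r)).finsuppAntidiag ((m - dg h) / D)).card := by
  classical
  set B := Algebra.adjoin k (Set.range x) with hB
  obtain ⟨G, hG⟩ := (Module.finite_def (R := B) (M := A)).1 inferInstance
  set G' : Finset A := G.biUnion (fun g => ((decompose 𝒬 g).support).image
    (fun i => (decompose 𝒬 g i : A))) with hG'
  have hG'hom : ∀ h ∈ G', ∃ m : ℕ, h ∈ 𝒬 m := by
    intro f hf
    rw [hG', Finset.mem_biUnion] at hf
    obtain ⟨g, -, hf⟩ := hf
    rw [Finset.mem_image] at hf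
    obtain ⟨i, -, rfl⟩ := hf
    exact ⟨i, SetLike.coe_mem _⟩
  obtain ⟨dg, hdg⟩ : ∃ dg : A → ℕ, ∀ h ∈ G', h ∈ 𝒬 (dg h) := by
    refine ⟨fun h => if hh : h ∈ G' then (hG'hom h hh).choose else 0, fun h hh => ?_⟩
    simp only [dif_pos hh]
    exact (hG'hom h hh).choose_spec
  refine ⟨G', dg, fun m => ?_⟩
  set W : Submodule k A :=
    Submodule.span k {a | ∃ α : Fin r →₀ ℕ, ∃ h ∈ G', a = mon (k := k) x α * h} with hW
  have c1 : ∀ h ∈ G', ∀ p : MvPolynomial (Fin r) k, MvPolynomial.aeval x p * h ∈ W := by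
    intro h hh p
    induction p using MvPolynomial.induction_on' with
    | monomial α c =>
      rw [aeval_monomial_eq, smul_mul_assoc]
      exact Submodule.smul_mem _ _ (Submodule.subset_span ⟨α, h, hh, rfl⟩)
    | add p q hp hq =>
      rw [map_add, add_mul]
      exact Submodule.add_mem _ hp hq
  have c2 : ∀ g ∈ G, ∀ p : MvPolynomial (Fin r) k, MvPolynomial.aeval x p * g ∈ W := by
    intro g hg p
    have hgs : g = ∑ i ∈ (decompose 𝒬 g).support, (decompose 𝒬 g i : A) :=
      (DirectSum.sum_support_decompose 𝒬 g).symm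
    rw [hgs, Finset.mul_sum]
    refine Submodule.sum_mem _ fun i hi => c1 _ ?_ p
    rw [hG', Finset.mem_biUnion]
    exact ⟨g, hg, Finset.mem_image.2 ⟨i, hi, rfl⟩⟩
  have c3 : ∀ a : A, a ∈ W := by
    intro a
    have ha : a ∈ Submodule.span B (G : Set A) := by rw [hG]; trivial
    obtain ⟨c, -, rfl⟩ := Submodule.mem_span_finset.1 ha
    refine Submodule.sum_mem _ fun g hg => ?_
    obtain ⟨p, hp⟩ : ∃ p, MvPolynomial.aeval x p = (c g : A) := by
      have : (c g : A) ∈ Algebra.adjoin k (Set.range x) := (c g).2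
      rw [Algebra.adjoin_range_eq_range_aeval] at this
      exact this
    have : c g • g = MvPolynomial.aeval x p * g := by rw [hp]; rfl
    rw [this]
    exact c2 g hg p
  set T : Finset A := G'.biUnion (fun h =>
    ((Finset.univ : Finset (Fin r)).finsuppAntidiag ((m - dg h) / D)).image
      (fun α => mon (k := k) x α * h)) with hT
  refine ⟨T, ?_, ?_⟩
  · have c4 : W ≤ (Submodule.span k (T : Set A)).comap (projL 𝒬 m) := by
      rw [hW, Submodule.span_le]
      rintro _ ⟨α, h, hh, rfl⟩
      rw [SetLike.mem_coe, Submodule.mem_comap]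
      have hmem : mon (k := k) x α * h ∈ 𝒬 (α.degree * D + dg h) :=
        SetLike.mul_mem_graded (mon_mem 𝒬 x hx α) (hdg h hh)
      by_cases hm : α.degree * D + dg h = m
      · rw [projL_of_mem 𝒬 (hm ▸ hmem)]
        apply Submodule.subset_span
        rw [hT, Finset.mem_coe, Finset.mem_biUnion]
        refine ⟨h, hh, Finset.mem_image.2 ⟨α, ?_, rfl⟩⟩
        rw [Finset.mem_finsuppAntidiag]
        refine ⟨?_, Finset.subset_univ _⟩
        rw [← Finsupp.degree_eq_sum, ← hm, Nat.add_sub_cancel, Nat.mul_div_cancel _ hD]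
      · rw [projL_of_mem_ne 𝒬 hmem hm]
        exact Submodule.zero_mem _
    intro a ha
    have := c4 (c3 a)
    rw [Submodule.mem_comap, projL_of_mem 𝒬 ha] at this
    exact this
  · refine le_trans Finset.card_biUnion_le ?_
    exact Finset.sum_le_sum fun h _ => Finset.card_image_le

/-- **upper bound for the Hilbert function.** -/
theorem finrank_le {r' D : ℕ} (hD : 0 < D) (x : Fin (r' + 1) → A) (hx : ∀ i, x i ∈ 𝒬 D)
    [Module.Finite (Algebra.adjoin k (Set.range x)) A] :
    ∃ t : ℕ, ∀ m : ℕ, Module.finrank k ↥(𝒬 m) ≤ t * (m + r').choose r' := by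
  classical
  obtain ⟨G', dg, h⟩ := exists_span_bound 𝒬 hD x hx
  refine ⟨G'.card, fun m => ?_⟩
  obtain ⟨T, hT, hcard⟩ := h m
  have h1 : Module.finrank k ↥(𝒬 m) ≤ Module.finrank k ↥(Submodule.span k (T : Set A)) :=
    Submodule.finrank_mono hT
  have h2 := finrank_span_finset_le_card (R := k) T
  refine h1.trans (h2.trans (hcard.trans ?_))
  rw [← smul_eq_mul, ← Finset.sum_const]
  refine Finset.sum_le_sum fun h _ => ?_
  rw [Finset.card_finsuppAntidiag_nat_eq_choose, Finset.card_univ, Fintype.card_fin]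
  have he : (m - dg h) / D ≤ m := (Nat.div_le_self _ _).trans (Nat.sub_le _ _)
  generalize (m - dg h) / D = e at he ⊢
  rw [show r' + 1 + e - 1 = r' + e by omega, ← Nat.choose_symm_add]
  exact Nat.choose_le_choose r' (by omega)

/-- a graded algebra that is finite-dimensional vanishes in high degrees. -/
theorem eq_bot_of_finite [Module.Finite k A] : ∃ N : ℕ, ∀ m : ℕ, N ≤ m → 𝒬 m = ⊥ := by
  classical
  obtain ⟨F, hF⟩ := (Module.finite_def (R := k) (M := A)).1 inferInstance
  refine ⟨F.sup (fun f => (decompose 𝒬 f).support.sup id) + 1, fun m hm => ?_⟩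
  rw [eq_bot_iff]
  intro a ha
  have c4 : Submodule.span k (F : Set A) ≤ LinearMap.ker (projL 𝒬 m) := by
    rw [Submodule.span_le]
    intro f hf
    rw [SetLike.mem_coe, LinearMap.mem_ker, projL_apply]
    by_contra hne
    have hms : m ∈ (decompose 𝒬 f).support := by
      rw [DFinsupp.mem_support_toFun]
      intro h
      exact hne (by rw [h]; rfl)
    have h1 : m ≤ (decompose 𝒬 f).support.sup id := Finset.le_sup (f := id) hms
    have h2 : (decompose 𝒬 f).support.sup id ≤
        F.sup (fun f => (decompose 𝒬 f).support.sup id) :=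
      Finset.le_sup (f := fun f => (decompose 𝒬 f).support.sup id) hf
    omega
  have := c4 (by rw [hF]; trivial : a ∈ Submodule.span k (F : Set A))
  rw [LinearMap.mem_ker, projL_of_mem 𝒬 ha] at this
  rw [this]
  exact Submodule.zero_mem _

lemma finrank_supported' {r : ℕ} (s : Finset (Fin r →₀ ℕ)) :
    Module.finrank k (AddMonoidAlgebra.supported k k (s : Set (Fin r →₀ ℕ))) = s.card := by
  rw [LinearEquiv.finrank_eq (AddMonoidAlgebra.supportedEquivFinsupp (s : Set (Fin r →₀ ℕ)))]
  rw [Module.finrank_finsupp_self]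
  simp

/-- **lower bound for the Hilbert function.** -/
theorem choose_le_finrank {r' D : ℕ} (x : Fin (r' + 1) → A) (hx : ∀ i, x i ∈ 𝒬 D)
    (hxa : AlgebraicIndependent k x) (j : ℕ) [Module.Finite k ↥(𝒬 (j * D))] :
    (j + r').choose r' ≤ Module.finrank k ↥(𝒬 (j * D)) := by
  classical
  set φ : ↥(MvPolynomial.homogeneousSubmodule (Fin (r' + 1)) k j) →ₗ[k] ↥(𝒬 (j * D)) :=
    LinearMap.codRestrict _ ((MvPolynomial.aeval x).toLinearMap.comp (Submodule.subtype _))
      (fun p => aeval_mem 𝒬 x hx p.2) with hφ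
  have hinj : Function.Injective φ := by
    intro p q hpq
    have := congrArg Subtype.val hpq
    simp only [hφ, LinearMap.codRestrict_apply, LinearMap.comp_apply, Submodule.subtype_apply,
      AlgHom.toLinearMap_apply] at this
    exact Subtype.ext ((algebraicIndependent_iff_injective_aeval.1 hxa) this)
  have h1 := LinearMap.finrank_le_finrank_of_injective hinj
  have h2 : Module.finrank k ↥(MvPolynomial.homogeneousSubmodule (Fin (r' + 1)) k j) =
      (j + r').choose r' := by
    rw [MvPolynomial.homogeneousSubmodule_eq_finsupp_supported]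
    have : {d : Fin (r' + 1) →₀ ℕ | d.degree = j} =
        ((Finset.univ : Finset (Fin (r' + 1))).finsuppAntidiag j : Set _) := by
      ext d
      simp [Finset.mem_finsuppAntidiag, Finsupp.degree_eq_sum]
    rw [this, finrank_supported', Finset.card_finsuppAntidiag_nat_eq_choose]
    simp only [Finset.card_univ, Fintype.card_fin]
    rw [show r' + 1 + j - 1 = r' + j by omega, ← Nat.choose_symm_add, add_comm]
  omega

end Groth.Agent.Lib.Helper22.HilbDim
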