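import Mathlib

/-!
# Homogeneous prime avoidance in an `ℕ`-graded commutative ring
-/

set_option autoImplicit false
set_option linter.style.haveILetI false
set_option linter.unusedSectionVars false

namespace Groth.Agent.Lib.Helper22.HomAvoid

variable {A : Type*} [CommRing A] {σ : Type*} [SetLike σ A] [AddSubgroupClass σ A]
  (𝒜 : ℕ → σ) [GradedRing 𝒜]

/-- A homogeneous ideal not contained in an ideal `P` contains a homogeneous element outside
`P`. -/
lemma exists_homogeneous_notMem {K P : Ideal A} (hK : K.IsHomogeneous 𝒜) (hKP : ¬ K ≤ P) :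
    ∃ (e : ℕ) (g : A), g ∈ 𝒜 e ∧ g ∈ K ∧ g ∉ P := by
  classical
  obtain ⟨a, haK, haP⟩ := SetLike.not_le_iff_exists.1 hKP
  have hex : ∃ i, ((DirectSum.decompose 𝒜 a) i : A) ∉ P := by
    by_contra hcon
    push_neg at hcon
    apply haP
    rw [← DirectSum.sum_support_decompose 𝒜 a]
    exact Ideal.sum_mem _ fun i _ => hcon i
  obtain ⟨i, hi⟩ := hex
  exact ⟨i, _, SetLike.coe_mem _, hK i haK, hi⟩

lemma isHomogeneous_finset_inf (s : Finset (Ideal A)) (hs : ∀ Q ∈ s, Q.IsHomogeneous 𝒜) :
    (s.inf id).IsHomogeneous 𝒜 := by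
  rw [Finset.inf_eq_iInf]
  exact Ideal.IsHomogeneous.iInf₂ fun Q hQ => hs Q hQ

/-- **Homogeneous prime avoidance**: a homogeneous ideal `J` not contained in any of finitely many
relevant homogeneous primes contains a homogeneous element of positive degree outside all of
them. -/
theorem exists_homogeneous_notMem_of_finset (J : Ideal A) (hJ : J.IsHomogeneous 𝒜)
    (s : Finset (Ideal A))
    (hs : ∀ P ∈ s, P.IsPrime ∧ P.IsHomogeneous 𝒜 ∧ ¬ J ≤ P ∧
      ¬ (HomogeneousIdeal.irrelevant 𝒜).toIdeal ≤ P) :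
    ∃ (d : ℕ) (h : A), 0 < d ∧ h ∈ 𝒜 d ∧ h ∈ J ∧ ∀ P ∈ s, h ∉ P := by
  classical
  induction s using Finset.strongInduction with
  | H s ih =>
    by_cases hemp : s = ∅
    · subst hemp
      exact ⟨1, 0, one_pos, zero_mem _, J.zero_mem, by simp⟩
    by_cases hincl : ∃ Q ∈ s, ∃ P ∈ s, Q ≠ P ∧ Q ≤ P
    · obtain ⟨Q, hQ, P, hP, hne, hle⟩ := hincl
      obtain ⟨d, h, hd, hhd, hhJ, hav⟩ := ih (s.erase Q) (Finset.erase_ssubset hQ)
        (fun P hP => hs P (Finset.mem_of_mem_erase hP))
      refine ⟨d, h, hd, hhd, hhJ, fun P' hP' => ?_⟩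
      by_cases hP'Q : P' = Q
      · subst hP'Q
        exact fun hmem => hav P (Finset.mem_erase.2 ⟨hne.symm, hP⟩) (hle hmem)
      · exact hav P' (Finset.mem_erase.2 ⟨hP'Q, hP'⟩)
    · push_neg at hincl
      obtain ⟨P, hP⟩ := Finset.nonempty_iff_ne_empty.2 hemp
      obtain ⟨d, h, hd, hhd, hhJ, hav⟩ := ih (s.erase P) (Finset.erase_ssubset hP)
        (fun P' hP' => hs P' (Finset.mem_of_mem_erase hP'))
      by_cases hhP : h ∉ P
      · refine ⟨d, h, hd, hhd, hhJ, fun P' hP' => ?_⟩
        by_cases e : P' = P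
        · subst e; exact hhP
        · exact hav P' (Finset.mem_erase.2 ⟨e, hP'⟩)
      · rw [not_not] at hhP
        obtain ⟨hPp, hPh, hJP, hirrP⟩ := hs P hP
        have hKhom : (J ⊓ (HomogeneousIdeal.irrelevant 𝒜).toIdeal ⊓
            (s.erase P).inf id).IsHomogeneous 𝒜 :=
          (hJ.inf (HomogeneousIdeal.irrelevant 𝒜).isHomogeneous).inf
            (isHomogeneous_finset_inf 𝒜 _ fun Q hQ => (hs Q (Finset.mem_of_mem_erase hQ)).2.1)
        have hKP : ¬ (J ⊓ (HomogeneousIdeal.irrelevant 𝒜).toIdeal ⊓ (s.erase P).inf id) ≤ P := by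
          intro hle
          rcases hPp.inf_le.1 hle with h1 | h1
          · rcases hPp.inf_le.1 h1 with h2 | h2
            · exact hJP h2
            · exact hirrP h2
          · obtain ⟨Q, hQ, hQP⟩ := hPp.inf_le'.1 h1
            exact hincl Q (Finset.mem_of_mem_erase hQ) P hP (Finset.ne_of_mem_erase hQ) hQP
        obtain ⟨e, g, hge, hgK, hgP⟩ := exists_homogeneous_notMem 𝒜 hKhom hKP
        have hgJ : g ∈ J := hgK.1.1
        have hgirr : g ∈ (HomogeneousIdeal.irrelevant 𝒜).toIdeal := hgK.1.2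
        have hgQ : ∀ Q ∈ s.erase P, g ∈ Q := fun Q hQ =>
          (Finset.inf_le hQ : (s.erase P).inf id ≤ id Q) hgK.2
        have he : 0 < e := by
          rcases Nat.eq_zero_or_pos e with h0 | h0
          · exfalso
            subst h0
            have h1 : GradedRing.proj 𝒜 0 g = 0 :=
              (HomogeneousIdeal.mem_irrelevant_iff 𝒜 g).1 hgirr
            rw [GradedRing.proj_apply, DirectSum.decompose_of_mem_same 𝒜 hge] at h1
            exact hgP (h1 ▸ P.zero_mem)
          · exact h0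
        refine ⟨d * e, h ^ e + g ^ d, Nat.mul_pos hd he, ?_, ?_, ?_⟩
        · apply add_mem
          · have h1 := SetLike.pow_mem_graded e hhd
            rwa [smul_eq_mul, mul_comm] at h1
          · have h1 := SetLike.pow_mem_graded d hge
            rwa [smul_eq_mul] at h1
        · exact J.add_mem (Ideal.pow_mem_of_mem _ hhJ e he) (Ideal.pow_mem_of_mem _ hgJ d hd)
        · intro P' hP' hmem
          by_cases e' : P' = P
          · subst e'
            have h1 : h ^ e ∈ P' := Ideal.pow_mem_of_mem _ hhP e he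
            have h2 : g ^ d ∈ P' := (Ideal.add_mem_iff_right _ h1).1 hmem
            exact hgP (hPp.mem_of_pow_mem d h2)
          · have hP'e : P' ∈ s.erase P := Finset.mem_erase.2 ⟨e', hP'⟩
            have hP'p : P'.IsPrime := (hs P' hP').1
            have h1 : g ^ d ∈ P' := Ideal.pow_mem_of_mem _ (hgQ P' hP'e) d hd
            have h2 : h ^ e ∈ P' := (Ideal.add_mem_iff_left _ h1).1 hmem
            exact hav P' hP'e (hP'p.mem_of_pow_mem e h2)

end Groth.Agent.Lib.Helper22.HomAvoid
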