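import Mathlib
import Groth.Prelude.Def_RefHull
import Groth.Agent.Lib.Helper22.FTGen

/-!
# Helper22: the stalk of the sheaf Hom out of a finite type module injects into Hom of stalks
-/

set_option autoImplicit false
universe u

open CategoryTheory CategoryTheory.Limits AlgebraicGeometry TopologicalSpace Opposite

namespace Groth.Agent.Lib.Helper22.HomShStalk

variable {X : Scheme.{u}}

/-- finitely many neighbourhood conditions, each downward closed, hold on a common neighbourhood -/
theorem exists_common_nhd {ι : Type u} [Finite ι] (x : X) (P : ι → X.Opens → Prop)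
    (hmono : ∀ i (W W' : X.Opens), W' ≤ W → P i W → P i W')
    (h : ∀ i, ∃ W : X.Opens, x ∈ W ∧ P i W) :
    ∃ W : X.Opens, x ∈ W ∧ ∀ i, P i W := by
  classical
  haveI := Fintype.ofFinite ι
  choose W hxW hW using h
  refine ⟨Finset.univ.inf W, ?_, fun i => hmono i (W i) _ (Finset.inf_le (Finset.mem_univ i)) (hW i)⟩
  have : ∀ s : Finset ι, x ∈ s.inf W := by
    intro s
    induction s using Finset.induction_on with
    | empty => simp
    | insert a s _ ih =>
      rw [Finset.inf_insert]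
      exact ⟨hxW a, ih⟩
  exact this _

theorem evalStalk_injective (F G : X.Modules) (hF : CohB1.IsFT F) (x : X) :
    Function.Injective (RefHull.evalStalk F G x) := by
  haveI : F.IsFiniteType := hF
  rw [injective_iff_map_eq_zero]
  intro θ hθ
  obtain ⟨U, hxU, g, rfl⟩ := TopCat.Presheaf.exists_germ_eq (RefHull.homSh F G).presheaf θ
  rw [RefHull.evalStalk_germ] at hθ
  obtain ⟨V, hxV, ι, hfin, m, hgen⟩ := FTGen.exists_local_generators F x
  -- for each generator a neighbourhood on which `g` kills it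
  have hloc : ∀ i : ι, ∃ W : X.Opens, x ∈ W ∧
      (W ≤ V ⊓ U ∧ ∀ (y : X) (hy : y ∈ W) (hyU : y ∈ U) (hyV : y ∈ V),
        g.1 ⟨y, hyU⟩ (F.presheaf.germ V y hyV (m i)) = 0) := by
    intro i
    obtain ⟨W, hxW, j, n, hn⟩ := RefHull.isLocSect_of_mem g (V ⊓ U) (homOfLE inf_le_right)
      (F.presheaf.map (homOfLE (inf_le_left : V ⊓ U ≤ V)).op (m i)) ⟨x, hxV, hxU⟩
    have h0 : G.presheaf.germ W x hxW n = 0 := by
      have := hn ⟨x, hxW⟩
      rw [TopCat.Presheaf.germ_res_apply] at this
      rw [← this]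
      have e : g.1 ⟨x, hxU⟩ = 0 := hθ
      exact congrArg (fun φ => φ (F.presheaf.germ V x hxV (m i))) e
    obtain ⟨W', hxW', i', i'', hres⟩ := TopCat.Presheaf.germ_eq G.presheaf x hxW hxW n 0 (by
      rw [h0, map_zero])
    refine ⟨W', hxW', i'.le.trans j.le, ?_⟩
    intro y hy hyU hyV
    have := hn ⟨y, i'.le hy⟩
    rw [TopCat.Presheaf.germ_res_apply] at this
    refine this.trans ?_
    rw [← TopCat.Presheaf.germ_res_apply G.presheaf i' y hy n, hres, map_zero, map_zero]
  obtain ⟨W, hxW, hW⟩ := exists_common_nhd x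
    (fun i W => W ≤ V ⊓ U ∧ ∀ (y : X) (hy : y ∈ W) (hyU : y ∈ U) (hyV : y ∈ V),
        g.1 ⟨y, hyU⟩ (F.presheaf.germ V y hyV (m i)) = 0)
    (fun i W W' hle h => ⟨hle.trans h.1, fun y hy hyU hyV => h.2 y (hle hy) hyU hyV⟩) hloc
  rcases isEmpty_or_nonempty ι with hι | ⟨⟨i₀⟩⟩
  · -- no generators: the stalk of `F` at `x` is zero, use `V ⊓ U`
    have hz : ∀ (y : X) (hyU : y ∈ U) (hyV : y ∈ V), g.1 ⟨y, hyU⟩ = 0 := by
      intro y hyU hyV
      apply LinearMap.ext_on (hgen y hyV)
      rintro _ ⟨i, -⟩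
      exact (hι.false i).elim
    rw [← TopCat.Presheaf.germ_res_apply (RefHull.homSh F G).presheaf
      (homOfLE (inf_le_right : V ⊓ U ≤ U)) x ⟨hxV, hxU⟩ g]
    have : (RefHull.homSh F G).presheaf.map (homOfLE (inf_le_right : V ⊓ U ≤ U)).op g = 0 := by
      apply Subtype.ext
      funext y
      exact hz y.1 y.2.2 y.2.1
    rw [this, map_zero]
  · have hWU : W ≤ U := (hW i₀).1.trans inf_le_right
    have hWV : W ≤ V := (hW i₀).1.trans inf_le_left
    rw [← TopCat.Presheaf.germ_res_apply (RefHull.homSh F G).presheaf (homOfLE hWU) x hxW g]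
    have : (RefHull.homSh F G).presheaf.map (homOfLE hWU).op g = 0 := by
      apply Subtype.ext
      funext y
      change g.1 ⟨y.1, hWU y.2⟩ = 0
      apply LinearMap.ext_on (hgen y.1 (hWV y.2))
      rintro _ ⟨i, rfl⟩
      exact (hW i).2 y.1 y.2 (hWU y.2) (hWV y.2)
    rw [this, map_zero]

end Groth.Agent.Lib.Helper22.HomShStalk
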