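import Mathlib
import Groth.Agent.Lib.Helper22.HS4

/-!
# The quotient of an `ℕ`-graded algebra by a homogeneous ideal is a graded algebra (helper22)
-/

set_option autoImplicit false
set_option linter.unusedSectionVars false
set_option warn.classDefReducibility false

universe u

namespace Groth.Agent.Lib.Helper22.HS

variable {A : Type u} [CommRing A] {S : Type u} [CommRing S] [Algebra A S]
  (𝒜 : ℕ → Submodule A S) [GradedAlgebra 𝒜] (I : Ideal S)

/-- the graded algebra structure on the quotient by a homogeneous ideal. -/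
noncomputable def quotGradedAlgebra (hI : I.IsHomogeneous 𝒜) :
    GradedAlgebra (quotGr 𝒜 I : ℕ → Submodule A (S ⧸ I)) :=
  letI dec : DirectSum.Decomposition (quotGr 𝒜 I) :=
    quotGrDecomposition 𝒜 I (fun j _ ha => hI j ha)
  { one_mem := ⟨1, SetLike.GradedOne.one_mem, rfl⟩
    mul_mem := by
      rintro i j _ _ ⟨a, ha, rfl⟩ ⟨b, hb, rfl⟩
      exact ⟨a * b, SetLike.mul_mem_graded ha hb, rfl⟩
    toDecomposition := dec }

lemma mk_mem_quotGr {i : ℕ} {a : S} (ha : a ∈ 𝒜 i) :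
    Ideal.Quotient.mk I a ∈ (quotGr 𝒜 I : ℕ → Submodule A (S ⧸ I)) i := ⟨a, ha, rfl⟩

lemma exists_of_mem_quotGr {i : ℕ} {q : S ⧸ I}
    (hq : q ∈ (quotGr 𝒜 I : ℕ → Submodule A (S ⧸ I)) i) :
    ∃ a ∈ 𝒜 i, Ideal.Quotient.mk I a = q := hq

end Groth.Agent.Lib.Helper22.HS
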