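import Mathlib
import Groth.Agent.Lib.Helper22.QuotGrAlg
import Groth.Agent.Lib.Helper22.GradedAway

/-!
# A finite type algebra as the degree-zero localisation of a standard graded algebra (helper22)
-/

set_option autoImplicit false
set_option linter.unusedSectionVars false

universe u

open MvPolynomial

namespace Groth.Agent.Lib.Helper22.Homog

attribute [local instance] MvPolynomial.gradedAlgebra

variable {R R' : Type u} [CommRing R] [CommRing R'] [Algebra R R'] {n : ℕ} (x : Fin n → R')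

/-- evaluation at `(1, x₁, …, xₙ)`. -/
noncomputable def ev : MvPolynomial (Option (Fin n)) R →ₐ[R] R' :=
  aeval (fun o : Option (Fin n) => o.elim 1 x)

lemma ev_X_none : ev (R := R) x (X none) = 1 := by
  unfold ev
  rw [aeval_X]
  rfl

lemma ev_X_some (i : Fin n) : ev (R := R) x (X (some i)) = x i := by
  unfold ev
  rw [aeval_X]
  rfl

/-- the homogeneous ideal of relations in positive degrees. -/
noncomputable def K : Ideal (MvPolynomial (Option (Fin n)) R) :=
  Ideal.span {p | ∃ d : ℕ, 0 < d ∧ p ∈ homogeneousSubmodule (Option (Fin n)) R d ∧ ev x p = 0}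

lemma K_le_ker : K (R := R) x ≤ RingHom.ker (ev (R := R) x).toRingHom := by
  unfold K
  rw [Ideal.span_le]
  rintro p ⟨d, -, -, hp⟩
  exact hp

lemma constantCoeff_of_mem_K {p : MvPolynomial (Option (Fin n)) R} (hp : p ∈ K (R := R) x) :
    constantCoeff p = 0 := by
  have : K (R := R) x ≤ RingHom.ker (constantCoeff (R := R) (σ := Option (Fin n))) := by
    unfold K
    rw [Ideal.span_le]
    rintro p ⟨d, hd, hp, -⟩
    rw [SetLike.mem_coe, RingHom.mem_ker, constantCoeff_eq]
    rw [mem_homogeneousSubmodule] at hp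
    refine hp.coeff_eq_zero ?_
    simp only [map_zero]
    omega
  exact this hp

lemma K_isHomogeneous :
    (K (R := R) x).IsHomogeneous (homogeneousSubmodule (Option (Fin n)) R) := by
  unfold K
  refine Ideal.homogeneous_span _ _ ?_
  rintro p ⟨d, -, hp, -⟩
  exact ⟨d, hp⟩

lemma mem_K_of_homogeneous {p : MvPolynomial (Option (Fin n)) R} {d : ℕ} (hd : 0 < d)
    (hp : p ∈ homogeneousSubmodule (Option (Fin n)) R d) (h0 : ev x p = 0) : p ∈ K (R := R) x :=
  Ideal.subset_span ⟨d, hd, hp, h0⟩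

/-- **the graded algebra with degree-zero localisation `R'`.** -/
theorem exists_graded
    (hx : Function.Surjective (aeval x : MvPolynomial (Fin n) R →ₐ[R] R')) :
    ∃ (S : Type u) (_ : CommRing S) (_ : Algebra R S) (𝒜 : ℕ → Submodule R S)
      (_ : GradedAlgebra 𝒜) (f : S) (_ : f ∈ 𝒜 1) (s : Finset S)
      (e : HomogeneousLocalization.Away 𝒜 f ≃+* R'),
      Function.Injective (algebraMap R S) ∧ (∀ y ∈ 𝒜 0, y ∈ Set.range (algebraMap R S)) ∧
      (↑s ⊆ (𝒜 1 : Set S)) ∧ Algebra.adjoin R (s : Set S) = ⊤ ∧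
      ∀ r : R, (e.symm (algebraMap R R' r)).val =
        algebraMap S (Localization.Away f) (algebraMap R S r) := by
  classical
  set 𝒢 := homogeneousSubmodule (Option (Fin n)) R with h𝒢
  set 𝒜 : ℕ → Submodule R (MvPolynomial (Option (Fin n)) R ⧸ K (R := R) x) :=
    HS.quotGr 𝒢 (K (R := R) x) with h𝒜
  letI inst : GradedAlgebra 𝒜 := HS.quotGradedAlgebra 𝒢 (K (R := R) x) (K_isHomogeneous x)
  set mk := Ideal.Quotient.mk (K (R := R) x) with hmk
  set f : MvPolynomial (Option (Fin n)) R ⧸ K (R := R) x := mk (X none) with hf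
  have hf1 : f ∈ 𝒜 1 := HS.mk_mem_quotGr 𝒢 _ (isHomogeneous_X R none)
  set εS : (MvPolynomial (Option (Fin n)) R ⧸ K (R := R) x) →+* R' :=
    Ideal.Quotient.lift (K (R := R) x) (ev (R := R) x).toRingHom (fun p hp => K_le_ker x hp)
    with hεS
  have hεSmk : ∀ p, εS (mk p) = ev x p := fun p => rfl
  have hεSf : εS f = 1 := by rw [hf, hεSmk, ev_X_none]
  have halg : ∀ r : R, algebraMap R (MvPolynomial (Option (Fin n)) R ⧸ K (R := R) x) r =
      mk (C r) := fun r => rfl
  have hevC : ∀ r : R, ev (R := R) x (C r) = algebraMap R R' r := fun r => by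
    unfold ev
    rw [aeval_C]
  set εL : Localization.Away f →+* R' :=
    IsLocalization.Away.lift f (g := εS) (by rw [hεSf]; exact isUnit_one) with hεL
  set e₀ : HomogeneousLocalization.Away 𝒜 f →+* R' :=
    εL.comp (algebraMap (HomogeneousLocalization.Away 𝒜 f) (Localization.Away f)) with he₀
  have he₀mk : ∀ (i : ℕ) (a : MvPolynomial (Option (Fin n)) R ⧸ K (R := R) x) (ha : a ∈ 𝒜 i),
      e₀ (GrAway.mkA 𝒜 hf1 i a ha) = εS a := by
    intro i a ha
    rw [he₀, RingHom.comp_apply, HomogeneousLocalization.algebraMap_apply, GrAway.val_mkA]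
    have hεLalg : ∀ b, εL (algebraMap _ (Localization.Away f) b) = εS b := fun b =>
      IsLocalization.Away.lift_eq f _ b
    have h1 := congrArg εL (GrAway.mk_eq_mul_pow (s := f) i a)
    rw [map_mul, map_pow, hεLalg, hεLalg, hεSf, one_pow, mul_one] at h1
    exact h1
  have hinj : Function.Injective e₀ := by
    rw [injective_iff_map_eq_zero]
    intro z hz
    obtain ⟨i, a, ha, rfl⟩ := HomogeneousLocalization.Away.mk_surjective 𝒜 hf1 z
    have ha' : a ∈ 𝒜 i := by simpa using ha
    have hz' : εS a = 0 := by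
      rw [← he₀mk i a ha']
      exact hz
    obtain ⟨p, hp, rfl⟩ := HS.exists_of_mem_quotGr 𝒢 _ ha'
    have hpK : p * X none ∈ K (R := R) x := by
      refine mem_K_of_homogeneous x (d := i + 1) (Nat.succ_pos i) ?_ ?_
      · exact (mem_homogeneousSubmodule _ _).2
          (((mem_homogeneousSubmodule _ _).1 hp).mul (isHomogeneous_X R none))
      · rw [map_mul, ev_X_none, mul_one]
        exact hz'
    apply HomogeneousLocalization.val_injective
    rw [HomogeneousLocalization.Away.val_mk, HomogeneousLocalization.val_zero,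
      Localization.mk_eq_mk', IsLocalization.mk'_eq_zero_iff]
    refine ⟨⟨f, Submonoid.mem_powers f⟩, ?_⟩
    show f * mk p = 0
    rw [hf, ← map_mul, Ideal.Quotient.eq_zero_iff_mem, mul_comm]
    exact hpK
  have hsurj : Function.Surjective e₀ := by
    intro r'
    obtain ⟨q, rfl⟩ := hx r'
    induction q using MvPolynomial.induction_on with
    | C r =>
      refine ⟨GrAway.mkA 𝒜 hf1 0 (mk (C r)) (HS.mk_mem_quotGr 𝒢 _ (isHomogeneous_C _ r)), ?_⟩
      rw [he₀mk, hεSmk, hevC, aeval_C]
    | add p q hp hq =>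
      obtain ⟨a, ha⟩ := hp
      obtain ⟨b, hb⟩ := hq
      exact ⟨a + b, by rw [map_add, ha, hb, map_add]⟩
    | mul_X p i hp =>
      obtain ⟨a, ha⟩ := hp
      refine ⟨a * GrAway.mkA 𝒜 hf1 1 (mk (X (some i)))
        (HS.mk_mem_quotGr 𝒢 _ (isHomogeneous_X R (some i))), ?_⟩
      rw [map_mul, ha, he₀mk, hεSmk, ev_X_some, map_mul, aeval_X]
  refine ⟨MvPolynomial (Option (Fin n)) R ⧸ K (R := R) x, inferInstance, inferInstance, 𝒜, inst,
    f, hf1, Finset.univ.image (fun o : Option (Fin n) => mk (X o)),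
    RingEquiv.ofBijective e₀ ⟨hinj, hsurj⟩, ?_, ?_, ?_, ?_, ?_⟩
  · intro r₁ r₂ h
    rw [halg, halg, ← sub_eq_zero, ← map_sub, ← map_sub, Ideal.Quotient.eq_zero_iff_mem] at h
    have := constantCoeff_of_mem_K x h
    rw [constantCoeff_C] at this
    exact sub_eq_zero.1 this
  · intro y hy
    obtain ⟨p, hp, rfl⟩ := HS.exists_of_mem_quotGr 𝒢 _ hy
    rw [h𝒢, homogeneousSubmodule_zero, Submodule.mem_one] at hp
    obtain ⟨c, rfl⟩ := hp
    exact ⟨c, rfl⟩
  · intro y hy
    rw [Finset.coe_image, Finset.coe_univ, Set.image_univ] at hy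
    obtain ⟨o, rfl⟩ := hy
    exact HS.mk_mem_quotGr 𝒢 _ (isHomogeneous_X R o)
  · have h1 : ((Finset.univ.image (fun o : Option (Fin n) => mk (X o)) : Finset _) : Set _) =
        (Ideal.Quotient.mkₐ R (K (R := R) x)) '' (Set.range X) := by
      rw [Finset.coe_image, Finset.coe_univ, Set.image_univ, ← Set.range_comp]
      rfl
    rw [h1, ← AlgHom.map_adjoin, MvPolynomial.adjoin_range_X, Algebra.map_top,
      AlgHom.range_eq_top]
    exact Ideal.Quotient.mkₐ_surjective R _
  · intro r
    have hmem : algebraMap R (MvPolynomial (Option (Fin n)) R ⧸ K (R := R) x) r ∈ 𝒜 0 := by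
      rw [halg]
      exact HS.mk_mem_quotGr 𝒢 _ (isHomogeneous_C _ r)
    have h1 : (RingEquiv.ofBijective e₀ ⟨hinj, hsurj⟩) (GrAway.mkA 𝒜 hf1 0 _ hmem) =
        algebraMap R R' r := by
      show e₀ _ = _
      rw [he₀mk, halg, hεSmk, hevC]
    rw [← h1, RingEquiv.symm_apply_apply, GrAway.val_mkA]
    have h2 : (⟨f ^ 0, pow_mem (Submonoid.mem_powers f) 0⟩ : Submonoid.powers f) = 1 :=
      Subtype.ext (pow_zero f)
    rw [h2, Localization.mk_one_eq_algebraMap]

end Groth.Agent.Lib.Helper22.Homog
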