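import Mathlib
import Groth.Agent.Lib.Helper22.SegreDim1
import Groth.Agent.Lib.Helper12.DimFT
import Groth.Agent.Lib.Helper9.GeomLib

/-!
# Hopf's lemma on 1-generic bilinear maps (helper22)

If `k` is algebraically closed and `c : k^r × k^s → k^w` is bilinear with `c a b ≠ 0` for
`a, b ≠ 0`, then `r + s ≤ w + 1`.  Proof: the `w` coordinate forms cut out the vertex in the Segre
cone `Spec k[xᵢ yⱼ]`, which has dimension `r + s - 1`; apply Krull's height theorem.
-/

set_option autoImplicit false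

universe u

open MvPolynomial

namespace Groth.Agent.Lib.Helper22.Hopf1

open Groth.Agent.Lib.Helper22.SegreDim

variable {k : Type u} [Field k] {r s : ℕ}

/-- the generators `xᵢ yⱼ` as elements of the Segre algebra. -/
noncomputable def g (i : Fin r) (j : Fin s) : segreSub k r s := ⟨gen k r s (i, j), gen_mem _⟩

lemma g_mul_g (i i' : Fin r) (j j' : Fin s) :
    (g i j : segreSub k r s) * g i' j' = g i j' * g i' j := by
  apply Subtype.ext
  simp only [g, gen, MulMemClass.mk_mul_mk]
  ring

/-- the augmentation (evaluation at the vertex). -/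
noncomputable def eps : segreSub k r s →ₐ[k] k :=
  (MvPolynomial.aeval (fun _ => (0 : k))).comp (segreSub k r s).val

lemma eps_g (i : Fin r) (j : Fin s) : eps (g i j : segreSub k r s) = 0 := by
  simp [eps, g, gen]

lemma algHom_eq_eps (χ : segreSub k r s →ₐ[k] k) (h : ∀ i j, χ (g i j) = 0) : χ = eps := by
  apply AlgHom.ext
  rintro ⟨t, ht⟩
  induction ht using Algebra.adjoin_induction with
  | mem x hx =>
    obtain ⟨p, rfl⟩ := hx
    exact (h p.1 p.2).trans (eps_g p.1 p.2).symm
  | algebraMap c =>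
    show χ (algebraMap k (segreSub k r s) c) = eps (algebraMap k (segreSub k r s) c)
    rw [AlgHom.commutes, AlgHom.commutes]
  | add x y hx hy ihx ihy =>
    show χ (⟨x, hx⟩ + ⟨y, hy⟩) = eps (⟨x, hx⟩ + ⟨y, hy⟩)
    rw [map_add, map_add, ihx, ihy]
  | mul x y hx hy ihx ihy =>
    show χ (⟨x, hx⟩ * ⟨y, hy⟩) = eps (⟨x, hx⟩ * ⟨y, hy⟩)
    rw [map_mul, map_mul, ihx, ihy]

theorem core [IsAlgClosed k] (hr : 0 < r) (hs : 0 < s) (w : ℕ) (c : Fin r → Fin s → Fin w → k)
    (hc : ∀ (a : Fin r → k) (b : Fin s → k), a ≠ 0 → b ≠ 0 →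
      ∃ l, ∑ i, ∑ j, c i j l * a i * b j ≠ 0) :
    r + s ≤ w + 1 := by
  classical
  let T := segreSub k r s
  let B : Fin w → T := fun l => ∑ i, ∑ j, c i j l • g i j
  let Jid : Ideal T := Ideal.span ((Finset.univ.image B : Finset T) : Set T)
  let m0 : Ideal T := RingHom.ker (eps : T →ₐ[k] k)
  have hsurj : Function.Surjective (eps : T →ₐ[k] k) := fun x =>
    ⟨algebraMap k T x, by rw [AlgHom.commutes]; rfl⟩
  haveI hm0 : m0.IsMaximal := RingHom.ker_isMaximal_of_surjective _ hsurj
  have hJm : Jid ≤ m0 := by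
    rw [Ideal.span_le]
    intro x hx
    simp only [Finset.coe_image, Finset.coe_univ, Set.image_univ, Set.mem_range] at hx
    obtain ⟨l, rfl⟩ := hx
    show eps (B l) = 0
    simp only [B, map_sum, map_smul, eps_g, smul_zero, Finset.sum_const_zero]
  have key : ∀ P : Ideal T, P.IsPrime → Jid ≤ P → P = m0 := by
    intro P hP hJP
    by_contra hne
    have hnle : ¬ m0 ≤ P := fun h => hne (hm0.eq_of_le hP.ne_top h).symm
    obtain ⟨y, hy0, hyP⟩ := Set.not_subset.1 hnle
    haveI : IsDomain (T ⧸ P) := Ideal.Quotient.isDomain P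
    obtain ⟨φ, hφ⟩ := Groth.Agent.Lib.Helper9.GeomLib.exists_algHom_ne_zero (k := k) (T ⧸ P)
      (Ideal.Quotient.mk P y) (by rwa [Ne, Ideal.Quotient.eq_zero_iff_mem])
    let χ : T →ₐ[k] k := φ.comp (Ideal.Quotient.mkₐ k P)
    have hχJ : ∀ l, χ (B l) = 0 := by
      intro l
      have : B l ∈ P := hJP (Ideal.subset_span (by simp))
      show φ (Ideal.Quotient.mk P (B l)) = 0
      rw [Ideal.Quotient.eq_zero_iff_mem.2 this, map_zero]
    have hz : ∀ i j, χ (g i j) = 0 := by
      by_contra hcon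
      push Not at hcon
      obtain ⟨i0, j0, h00⟩ := hcon
      obtain ⟨l, hl⟩ := hc (fun i => χ (g i j0)) (fun j => χ (g i0 j))
        (fun h => h00 (congrFun h i0)) (fun h => h00 (congrFun h j0))
      apply hl
      have hrel : ∀ i j, χ (g i j0) * χ (g i0 j) = χ (g i j) * χ (g i0 j0) := by
        intro i j
        rw [← map_mul, ← map_mul, g_mul_g]
      calc ∑ i, ∑ j, c i j l * χ (g i j0) * χ (g i0 j)
          = ∑ i, ∑ j, c i j l * χ (g i j) * χ (g i0 j0) := by
            refine Finset.sum_congr rfl fun i _ => Finset.sum_congr rfl fun j _ => ?_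
            rw [mul_assoc, hrel, ← mul_assoc]
        _ = χ (B l) * χ (g i0 j0) := by
            simp only [B, map_sum, map_smul, smul_eq_mul, Finset.sum_mul]
        _ = 0 := by rw [hχJ, zero_mul]
    have hχ := algHom_eq_eps χ hz
    apply hφ
    have h1 : χ y = 0 := by rw [hχ]; exact hy0
    exact h1
  obtain ⟨P, hPmin, hPle⟩ := Ideal.exists_minimalPrimes_le hJm
  have hPm : P = m0 := key P hPmin.1.1 hPmin.1.2
  rw [hPm] at hPmin
  haveI : IsNoetherianRing T := Algebra.FiniteType.isNoetherianRing k T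
  have h1 : m0.height ≤ (Finset.univ.image B).card :=
    Ideal.height_le_card_of_mem_minimalPrimes_span_finset hPmin
  have h2 : m0.height = ((r + s - 1 : ℕ) : ℕ∞) :=
    Groth.Agent.Lib.Helper12.DimFT.height_eq_of_isMaximal k T (r + s - 1)
      (ringKrullDim_segreSub hr hs) m0
  rw [h2] at h1
  have h3 : (Finset.univ.image B).card ≤ w := by
    have := Finset.card_image_le (s := (Finset.univ : Finset (Fin w))) (f := B)
    simpa using this
  have h4 : r + s - 1 ≤ w := by
    have : ((r + s - 1 : ℕ) : ℕ∞) ≤ (w : ℕ∞) := h1.trans (by exact_mod_cast h3)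
    exact_mod_cast this
  omega

end Groth.Agent.Lib.Helper22.Hopf1
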