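import Mathlib
import Groth.Prelude.Def_CohB1
import Groth.Agent.Lib.Helper3.GrTransport

/-!
# A hyperplane of projective space is a projective space: the algebra (helper22)

For a nonzero linear form `l` in `n + 2` variables, a graded surjection
`k[x_0, …, x_{n+1}] → k[y_0, …, y_n]` with kernel `(l)`.
-/

set_option autoImplicit false
set_option linter.style.haveILetI false
set_option linter.unusedSectionVars false
universe u
open MvPolynomial
open scoped HomogeneousIdeal

namespace Groth.Agent.Lib.Helper22.HypIso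

section Alg

variable (k : Type u) [Field k] (n : ℕ) (i₀ : Fin (n + 2)) (a : Fin (n + 2) → k)

/-- The image of `x_{i₀}`. -/
noncomputable def L0 : MvPolynomial (Fin (n + 1)) k :=
  -(C (a i₀)⁻¹ * ∑ m : Fin (n + 1), C (a (i₀.succAbove m)) * X m)

/-- The images of the variables. -/
noncomputable def Lform : Fin (n + 2) → MvPolynomial (Fin (n + 1)) k :=
  Fin.insertNth i₀ (L0 k n i₀ a) (fun m => X m)

theorem Lform_same : Lform k n i₀ a i₀ = L0 k n i₀ a := Fin.insertNth_apply_same _ _ _

theorem Lform_succAbove (m : Fin (n + 1)) : Lform k n i₀ a (i₀.succAbove m) = X m :=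
  Fin.insertNth_apply_succAbove _ _ _ _

theorem L0_isHomogeneous : (L0 k n i₀ a).IsHomogeneous 1 := by
  unfold L0
  apply IsHomogeneous.neg
  have h1 : (∑ m : Fin (n + 1), C (a (i₀.succAbove m)) * X m :
      MvPolynomial (Fin (n + 1)) k).IsHomogeneous 1 :=
    IsHomogeneous.sum _ _ _ (fun m _ => isHomogeneous_C_mul_X _ m)
  have h2 := (isHomogeneous_C (Fin (n + 1)) ((a i₀)⁻¹)).mul h1
  rwa [zero_add] at h2

theorem Lform_isHomogeneous (i : Fin (n + 2)) : (Lform k n i₀ a i).IsHomogeneous 1 := by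
  rcases Fin.eq_self_or_eq_succAbove i₀ i with h | ⟨m, h⟩
  · rw [h, Lform_same]
    exact L0_isHomogeneous k n i₀ a
  · rw [h, Lform_succAbove]
    exact isHomogeneous_X k m

/-- The surjection `k[x] → k[y]`. -/
noncomputable def psi : MvPolynomial (Fin (n + 2)) k →ₐ[k] MvPolynomial (Fin (n + 1)) k :=
  aeval (Lform k n i₀ a)

/-- Its section `k[y] → k[x]`. -/
noncomputable def rho : MvPolynomial (Fin (n + 1)) k →ₐ[k] MvPolynomial (Fin (n + 2)) k :=
  aeval (fun m => X (i₀.succAbove m))

theorem psi_X_same : psi k n i₀ a (X i₀) = L0 k n i₀ a := by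
  rw [psi, aeval_X, Lform_same]

theorem psi_X_succAbove (m : Fin (n + 1)) : psi k n i₀ a (X (i₀.succAbove m)) = X m := by
  rw [psi, aeval_X, Lform_succAbove]

theorem psi_rho (q : MvPolynomial (Fin (n + 1)) k) : psi k n i₀ a (rho k n i₀ q) = q := by
  have h : (psi k n i₀ a).comp (rho k n i₀) = AlgHom.id k _ := by
    apply MvPolynomial.algHom_ext
    intro m
    rw [AlgHom.comp_apply, rho, aeval_X, psi_X_succAbove, AlgHom.id_apply]
  exact congrArg (fun f : MvPolynomial (Fin (n + 1)) k →ₐ[k] MvPolynomial (Fin (n + 1)) k => f q) h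

/-- The linear form with coefficients `a`. -/
noncomputable def lin : MvPolynomial (Fin (n + 2)) k := ∑ i, C (a i) * X i

theorem lin_eq : lin k n a = C (a i₀) * X i₀ +
    ∑ m : Fin (n + 1), C (a (i₀.succAbove m)) * X (i₀.succAbove m) := by
  rw [lin, Fin.sum_univ_succAbove _ i₀]

theorem psi_lin (h0 : a i₀ ≠ 0) : psi k n i₀ a (lin k n a) = 0 := by
  rw [lin_eq k n i₀ a, map_add, map_mul, map_sum, psi_X_same]
  simp only [map_mul, psi_X_succAbove]
  have hC : ∀ c : k, psi k n i₀ a (C c) = C c := fun c => by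
    rw [psi]; exact aeval_C _ c
  simp only [hC]
  unfold L0
  rw [mul_neg, ← mul_assoc, ← C_mul, mul_inv_cancel₀ h0, C_1, one_mul, neg_add_cancel]

theorem X_sub_mem (h0 : a i₀ ≠ 0) (i : Fin (n + 2)) :
    X i - rho k n i₀ (psi k n i₀ a (X i)) ∈ Ideal.span {lin k n a} := by
  rcases Fin.eq_self_or_eq_succAbove i₀ i with h | ⟨m, h⟩
  · rw [h, psi_X_same]
    have h1 : X i₀ - rho k n i₀ (L0 k n i₀ a) = C (a i₀)⁻¹ * lin k n a := by
      unfold L0
      rw [map_neg, map_mul, map_sum, lin_eq k n i₀ a]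
      have hC : ∀ c : k, rho k n i₀ (C c) = C c := fun c => by
        rw [rho]; exact aeval_C _ c
      have hX : ∀ m : Fin (n + 1), rho k n i₀ (X m) = X (i₀.succAbove m) := fun m => by
        rw [rho, aeval_X]
      simp only [map_mul, hC, hX]
      rw [mul_add, ← mul_assoc, ← C_mul, inv_mul_cancel₀ h0, C_1, one_mul]
      ring
    rw [h1]
    exact Ideal.mul_mem_left _ _ (Ideal.mem_span_singleton_self _)
  · rw [h, psi_X_succAbove, rho, aeval_X, sub_self]
    exact zero_mem _

theorem sub_mem (h0 : a i₀ ≠ 0) (p : MvPolynomial (Fin (n + 2)) k) :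
    p - rho k n i₀ (psi k n i₀ a p) ∈ Ideal.span {lin k n a} := by
  induction p using MvPolynomial.induction_on with
  | C c =>
    have h1 : rho k n i₀ (psi k n i₀ a (C c)) = C c := by
      rw [psi, aeval_C, rho]
      exact aeval_C _ c
    rw [h1, sub_self]
    exact zero_mem _
  | add p q hp hq =>
    have : p + q - rho k n i₀ (psi k n i₀ a (p + q)) =
        (p - rho k n i₀ (psi k n i₀ a p)) + (q - rho k n i₀ (psi k n i₀ a q)) := by
      rw [map_add, map_add]; ring
    rw [this]
    exact add_mem hp hq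
  | mul_X p i hp =>
    have : p * X i - rho k n i₀ (psi k n i₀ a (p * X i)) =
        (p - rho k n i₀ (psi k n i₀ a p)) * X i +
          rho k n i₀ (psi k n i₀ a p) * (X i - rho k n i₀ (psi k n i₀ a (X i))) := by
      rw [map_mul, map_mul]; ring
    rw [this]
    exact add_mem (Ideal.mul_mem_right _ _ hp) (Ideal.mul_mem_left _ _ (X_sub_mem k n i₀ a h0 i))

theorem mem_span_of_psi_eq_zero (h0 : a i₀ ≠ 0) (p : MvPolynomial (Fin (n + 2)) k)
    (hp : psi k n i₀ a p = 0) : p ∈ Ideal.span {lin k n a} := by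
  have h := sub_mem k n i₀ a h0 p
  rwa [hp, map_zero, sub_zero] at h

/-- The graded version of `psi`. -/
noncomputable def psiG : CohB1.polyGrading (n + 1) k →+*ᵍ CohB1.polyGrading n k where
  toRingHom := (psi k n i₀ a).toRingHom
  map_mem := fun {d p} hp => by
    have h1 : (aeval (Lform k n i₀ a) p).IsHomogeneous (1 * d) :=
      IsHomogeneous.aeval hp _ (Lform_isHomogeneous k n i₀ a)
    rw [one_mul] at h1
    exact h1

theorem psiG_apply (p : MvPolynomial (Fin (n + 2)) k) : psiG k n i₀ a p = psi k n i₀ a p := rfl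

theorem psiG_surj (d : ℕ) (b : MvPolynomial (Fin (n + 1)) k) (hb : b ∈ CohB1.polyGrading n k d) :
    ∃ p ∈ CohB1.polyGrading (n + 1) k d, psiG k n i₀ a p = b := by
  refine ⟨rho k n i₀ b, ?_, psi_rho k n i₀ a b⟩
  have hb' : b.IsHomogeneous d := hb
  have h1 : (aeval (fun m => (X (i₀.succAbove m) : MvPolynomial (Fin (n + 2)) k)) b).IsHomogeneous
      (1 * d) := IsHomogeneous.aeval hb' _ (fun m => isHomogeneous_X k _)
  rw [one_mul] at h1
  exact h1

theorem psiG_irr : (CohB1.polyGrading n k)₊ ≤ ((CohB1.polyGrading (n + 1) k)₊).map (psiG k n i₀ a) :=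
  Groth.Agent.Lib.Helper3.GrTransport.irrelevant_le_of_surj _ (psiG_surj k n i₀ a)

/-- Homogeneous elements of the kernel are homogeneous multiples of `l`. -/
theorem exists_mul_of_psi_eq_zero (h0 : a i₀ ≠ 0) (d : ℕ) (p : MvPolynomial (Fin (n + 2)) k)
    (hp : p ∈ CohB1.polyGrading (n + 1) k (d + 1)) (hp0 : psi k n i₀ a p = 0) :
    ∃ b ∈ CohB1.polyGrading (n + 1) k d, p = lin k n a * b := by
  classical
  have h1 := mem_span_of_psi_eq_zero k n i₀ a h0 p hp0
  rw [Ideal.mem_span_singleton'] at h1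
  obtain ⟨b', hb'⟩ := h1
  have hl : lin k n a ∈ CohB1.polyGrading (n + 1) k 1 :=
    Submodule.sum_mem _ (fun i _ => isHomogeneous_C_mul_X (a i) i)
  refine ⟨DirectSum.decompose (CohB1.polyGrading (n + 1) k) b' d, SetLike.coe_mem _, ?_⟩
  have h2 := DirectSum.coe_decompose_mul_of_left_mem_of_le
    (𝒜 := CohB1.polyGrading (n + 1) k) (b := b') (n := d + 1) hl (Nat.le_add_left 1 d)
  rw [Nat.add_sub_cancel, mul_comm, hb', DirectSum.decompose_of_mem_same _ hp] at h2
  exact h2

end Alg

end Groth.Agent.Lib.Helper22.HypIso
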