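import Mathlib
import Groth.Agent.Lib.Helper22.BertiniHypB
import Groth.Agent.Lib.Helper22.HypIsoA
import Groth.Agent.Lib.Helper3.ProjMapFn

/-!
# A hyperplane of projective space is a projective space: the closed immersion (helper22)
-/

set_option autoImplicit false
set_option linter.style.haveILetI false
set_option linter.unusedSectionVars false
universe u
open CategoryTheory CategoryTheory.Limits AlgebraicGeometry TopologicalSpace MvPolynomial
open HomogeneousLocalization
open scoped HomogeneousIdeal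

namespace Groth.Agent.Lib.Helper22.HypIso

open Groth.Agent.Lib.Helper3 Groth.Agent.Lib.Helper3.QCSec Groth.Agent.Lib.Helper3.InvGen
  Groth.Agent.Lib.Helper3.TwistBasic Groth.Agent.Lib.Helper3.ProjFrac
  Groth.Agent.Lib.Helper3.ProjMapFn
open Groth.Agent.Lib.Helper22.BertiniPn Groth.Agent.Lib.Helper22.BertiniHyp
open Groth.Agent.Lib.Helper6.ProjSpaceGamma (hX)

section Imm

variable (k : Type u) [Field k] (n : ℕ) (i₀ : Fin (n + 2)) (a : Fin (n + 2) → k)

/-- The closed immersion `P^n → P^{n+1}` onto the hyperplane `∑ a_i x_i = 0`. -/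
noncomputable def jj : Proj (CohB1.polyGrading n k) ⟶ Proj (CohB1.polyGrading (n + 1) k) :=
  Proj.map (psiG k n i₀ a) (psiG_irr k n i₀ a)

instance isClosedImmersion_jj : IsClosedImmersion (jj k n i₀ a) :=
  isClosedImmersion_map (psiG k n i₀ a) (psiG_irr k n i₀ a)
    (f := fun i : ULift.{u} (Fin (n + 2)) => (X i.down : MvPolynomial (Fin (n + 2)) k))
    (fun i => hX (n + 1) k i.down)
    (fun x => by
      obtain ⟨i, hi⟩ := exists_chart_mem (n := n + 1) (k := k) x
      exact ⟨⟨i⟩, hi⟩)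
    (psiG_surj k n i₀ a)

theorem good_lin (i : Fin (n + 2)) (l : CohB1.polyGrading (n + 1) k 1) :
    Good (VV (n + 1) k i) (l : MvPolynomial (Fin (n + 2)) k) (X i ^ 1) :=
  good_of_mem l.2 (pow_mem_of_mem_one (hX (n + 1) k i) 1) (fun x => notMem_pow x.2 1)

theorem cc_eq_fn (i : Fin (n + 2)) (l : CohB1.polyGrading (n + 1) k 1) :
    cc (n + 1) k i l = fn (VV (n + 1) k i) (l : MvPolynomial (Fin (n + 2)) k) (X i ^ 1) := by
  apply fval_ext
  intro x
  rw [fval_fn (good_lin k n i l)]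
  rfl

theorem linForm_coe : ((linForm (n := n + 1) a : CohB1.polyGrading (n + 1) k 1) :
    MvPolynomial (Fin (n + 2)) k) = lin k n a := rfl

theorem app_cc (h0 : a i₀ ≠ 0) (i : Fin (n + 2)) :
    ((jj k n i₀ a).app (VV (n + 1) k i)).hom (cc (n + 1) k i (linForm a)) = 0 := by
  rw [cc_eq_fn]
  have h1 := app_fn (psiG k n i₀ a) (psiG_irr k n i₀ a) (good_lin k n i (linForm a))
  have h2 := good_map (psiG k n i₀ a) (psiG_irr k n i₀ a) (good_lin k n i (linForm a))
  rw [linForm_coe, psiG_apply, psi_lin k n i₀ a h0] at h1 h2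
  exact h1.trans (fn_zero h2)

theorem mem_span_of_app_eq_zero (h0 : a i₀ ≠ 0) (i : Fin (n + 2))
    (c : Γ(Proj (CohB1.polyGrading (n + 1) k), VV (n + 1) k i))
    (hc : ((jj k n i₀ a).app (VV (n + 1) k i)).hom c = 0) :
    c ∈ Ideal.span {cc (n + 1) k i (linForm a)} := by
  obtain ⟨m, p, hp, hcp⟩ := GrGen.exists_fn_eq (hX (n + 1) k i) c
  have hcp' : c = fn (VV (n + 1) k i) p (X i ^ m) := hcp
  rw [hcp'] at hc ⊢
  have hG : ∀ {m' : ℕ} {p' : MvPolynomial (Fin (n + 2)) k}, p' ∈ CohB1.polyGrading (n + 1) k m' →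
      Good (VV (n + 1) k i) p' (X i ^ m') :=
    fun hp' => good_of_mem hp' (pow_mem_of_mem_one (hX (n + 1) k i) _) (fun x => notMem_pow x.2 _)
  have h1 := app_fn (psiG k n i₀ a) (psiG_irr k n i₀ a) (hG hp)
  have h2 : fn (Proj.basicOpen (CohB1.polyGrading n k) (psiG k n i₀ a (X i)))
      (psiG k n i₀ a p) (psiG k n i₀ a (X i) ^ m) = 0 := by
    rw [← map_pow]
    exact h1.symm.trans hc
  obtain ⟨N, hN⟩ := (fn_eq_zero_iff ((psiG k n i₀ a).map_mem (hX (n + 1) k i))
    ((psiG k n i₀ a).map_mem hp)).mp h2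
  have h3 : psi k n i₀ a (X i ^ (N + 1) * p) = 0 := by
    have : psiG k n i₀ a (X i ^ (N + 1) * p) = 0 := by
      rw [map_mul, map_pow, pow_succ', mul_assoc]
      exact (congrArg (fun t => psiG k n i₀ a (X i) * t) hN).trans (mul_zero _)
    exact this
  have h4 : X i ^ (N + 1) * p ∈ CohB1.polyGrading (n + 1) k (N + m + 1) := by
    have := SetLike.mul_mem_graded (pow_mem_of_mem_one (hX (n + 1) k i) (N + 1)) hp
    have e : N + 1 + m = N + m + 1 := by omega
    rwa [e] at this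
  obtain ⟨b, hb, hpb⟩ := exists_mul_of_psi_eq_zero k n i₀ a h0 (N + m) _ h4 h3
  have hl : lin k n a ∈ CohB1.polyGrading (n + 1) k 1 := (linForm (n := n + 1) a).2
  have h5 : fn (VV (n + 1) k i) p (X i ^ m) =
      fn (VV (n + 1) k i) (lin k n a * b) (X i ^ 1 * X i ^ (N + m)) := by
    apply fn_eq (hG hp)
    · exact (good_lin k n i (linForm a)).mul (hG hb)
    · rw [← hpb]
      ring
  have h6 : fn (VV (n + 1) k i) (lin k n a * b) (X i ^ 1 * X i ^ (N + m)) =
      cc (n + 1) k i (linForm a) * fn (VV (n + 1) k i) b (X i ^ (N + m)) := by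
    rw [cc_eq_fn]
    exact (fn_mul (good_lin k n i (linForm a)) (hG hb)).symm
  rw [h5, h6]
  exact Ideal.mul_mem_right _ _ (Ideal.mem_span_singleton_self _)

theorem ker_jj (h0 : a i₀ ≠ 0) :
    (jj k n i₀ a).ker = PicF2.zeroScheme (Twist.twist (CohB1.polyGrading (n + 1) k) 1)
      (sl (n + 1) k (linForm a)) := by
  apply Scheme.IdealSheafData.ext_of_iSup_eq_top
    (fun i : Fin (n + 2) => (⟨VV (n + 1) k i, isAffineOpen_VV i⟩ :
      (Proj (CohB1.polyGrading (n + 1) k)).affineOpens))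
  · rw [eq_top_iff]
    rintro x -
    obtain ⟨i, hi⟩ := exists_chart_mem (n := n + 1) (k := k) x
    exact Opens.mem_iSup.mpr ⟨i, hi⟩
  · intro i
    rw [Scheme.Hom.ker_apply, zeroScheme_ideal_VV]
    apply le_antisymm
    · intro c hc
      exact mem_span_of_app_eq_zero k n i₀ a h0 i c (RingHom.mem_ker.mp hc)
    · rw [Ideal.span_singleton_le_iff_mem, RingHom.mem_ker]
      exact app_cc k n i₀ a h0 i

end Imm

end Groth.Agent.Lib.Helper22.HypIso
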