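import Mathlib
import Groth.Prelude.Def_Twist2
import Groth.Agent.Lib.Helper3.TwistBasic
import Groth.Agent.Lib.Helper3.PbTensor
import Groth.Agent.Lib.Helper3.CounitGG

/-!
# Functoriality of `Twist.twist` along `Proj.map`, and `j^* O(1) ≅ O(1)` (helper22)

Adapted from the prelude's `GrTwist.comap`.
-/

set_option autoImplicit false
set_option linter.style.haveILetI false
set_option linter.unusedSectionVars false
universe u
open CategoryTheory CategoryTheory.Limits AlgebraicGeometry TopologicalSpace Opposite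
open scoped HomogeneousIdeal

noncomputable section

namespace Groth.Agent.Lib.Helper22.HypIso

open Twist

section comap

variable {R A B : Type u} [CommRing R] [CommRing A] [Algebra R A] {𝒜 : ℕ → Submodule R A}
  [GradedAlgebra 𝒜] [CommRing B] [Algebra R B] {ℬ : ℕ → Submodule R B} [GradedAlgebra ℬ]
variable (ψ : 𝒜 →+*ᵍ ℬ) (hψ : ℬ₊ ≤ (𝒜₊).map ψ)

/-- For a point `y` of `Proj ℬ` lying over `x = ψ⁻¹ y`, the induced homomorphism of localizations. -/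
def locMap (y : ProjectiveSpectrum ℬ) : Loc 𝒜 (ProjectiveSpectrum.comap ψ hψ y) →+* Loc ℬ y :=
  Localization.localRingHom _ _ ψ.toRingHom rfl

@[simp] theorem locMap_mk (y : ProjectiveSpectrum ℬ) (a : A)
    (s : (ProjectiveSpectrum.comap ψ hψ y).asHomogeneousIdeal.toIdeal.primeCompl) :
    locMap ψ hψ y (Localization.mk a s) = Localization.mk (ψ a) ⟨ψ (s : A), s.2⟩ := by
  rw [Localization.mk_eq_mk', Localization.mk_eq_mk']
  exact Localization.localRingHom_mk' _ _ _ _ a s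

theorem locMap_mem (n : ℤ) (y : ProjectiveSpectrum ℬ) {q : Loc 𝒜 (ProjectiveSpectrum.comap ψ hψ y)}
    (hq : q ∈ twistAt 𝒜 n (ProjectiveSpectrum.comap ψ hψ y)) : locMap ψ hψ y q ∈ twistAt ℬ n y := by
  induction hq using Submodule.span_induction with
  | mem q h =>
    obtain ⟨i, j, a, s, hs, hij, rfl⟩ := h
    rw [locMap_mk]
    exact Submodule.subset_span ⟨i, j, ⟨ψ (a : A), ψ.map_mem a.2⟩, ⟨ψ (s : A), ψ.map_mem s.2⟩, hs, hij, rfl⟩
  | zero => rw [map_zero]; exact zero_mem _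
  | add q q' _ _ h h' => rw [map_add]; exact add_mem h h'
  | smul c q _ h =>
    rw [Algebra.smul_def, map_mul, HomogeneousLocalization.algebraMap_apply]
    have : locMap ψ hψ y c.val =
        (HomogeneousLocalization.localRingHom ψ _ y.asHomogeneousIdeal.toIdeal rfl c).val := by
      rw [HomogeneousLocalization.val_localRingHom]; rfl
    rw [this, ← HomogeneousLocalization.algebraMap_apply, ← Algebra.smul_def]
    exact Submodule.smul_mem _ _ h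

variable (n : ℤ) (U : Opens (ProjectiveSpectrum.top 𝒜)) (V : Opens (ProjectiveSpectrum.top ℬ))
  (hUV : V.1 ⊆ ProjectiveSpectrum.comap ψ hψ ⁻¹' U.1)

/-- The comap of a dependent function into the degree-`n` fractions. -/
def comapFun (s : ∀ x : U, twistAt 𝒜 n x.1) (y : V) : twistAt ℬ n y.1 :=
  ⟨locMap ψ hψ y.1 (s ⟨ProjectiveSpectrum.comap ψ hψ y.1, hUV y.2⟩).1,
    locMap_mem ψ hψ n y.1 (s ⟨ProjectiveSpectrum.comap ψ hψ y.1, hUV y.2⟩).2⟩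

theorem isLocFracN_comapFun (s : ∀ x : U, twistAt 𝒜 n x.1) (hs : (isLocFracN 𝒜 n).pred s) :
    (isLocFracN ℬ n).pred (comapFun ψ hψ n U V hUV s) := by
  rintro ⟨y, hyV⟩
  rcases hs ⟨ProjectiveSpectrum.comap ψ hψ y, hUV hyV⟩ with ⟨W, m, iWU, i, j, a, b, hb, hij, h_frac⟩
  refine ⟨W.comap (ProjectiveSpectrum.comap ψ hψ) ⊓ V, ⟨m, hyV⟩, Opens.infLERight _ _, i, j,
    ⟨ψ (a : A), ψ.map_mem a.2⟩, ⟨ψ (b : A), ψ.map_mem b.2⟩, fun z => hb ⟨_, z.2.1⟩, ?_, fun z => ?_⟩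
  · rcases hij with hij | h
    · exact Or.inl hij
    · exact Or.inr (show ψ (a : A) = 0 by rw [h, map_zero])
  · exact (congrArg (locMap ψ hψ z.1) (h_frac ⟨_, z.2.1⟩)).trans (locMap_mk ψ hψ _ _ _)

@[simp] theorem comapFun_coe (s : ∀ x : U, twistAt 𝒜 n x.1) (y : V) :
    ((comapFun ψ hψ n U V hUV s y : twistAt ℬ n y.1) : Loc ℬ y.1) =
      locMap ψ hψ y.1 (s ⟨ProjectiveSpectrum.comap ψ hψ y.1, hUV y.2⟩).1 := rfl

/-- The comap on sections over `U ⊇ ψ(V)`, as an additive map. -/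
def comapApp : sectN (𝒜 := 𝒜) n (op U) →+ sectN (𝒜 := ℬ) n (op V) where
  toFun s := ⟨comapFun ψ hψ n U V hUV s.1, isLocFracN_comapFun ψ hψ n U V hUV s.1 s.2⟩
  map_zero' := by
    refine Subtype.ext (funext fun y => Subtype.ext ?_)
    rw [comapFun_coe]
    simp only [ZeroMemClass.coe_zero, Pi.zero_apply, map_zero]
  map_add' s t := by
    refine Subtype.ext (funext fun y => Subtype.ext ?_)
    rw [comapFun_coe]
    simp only [AddMemClass.coe_add, Pi.add_apply, map_add, comapFun_coe]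

@[simp] theorem comapApp_apply_coe (s : sectN (𝒜 := 𝒜) n (op U)) (y : V) :
    (((comapApp ψ hψ n U V hUV s : sectN (𝒜 := ℬ) n (op V)).1 y : twistAt ℬ n y.1) : Loc ℬ y.1) =
      locMap ψ hψ y.1 (s.1 ⟨ProjectiveSpectrum.comap ψ hψ y.1, hUV y.2⟩).1 := rfl

theorem comapStructureSheaf_apply (r : O (𝒜 := 𝒜) (op U)) (y : V) :
    (Proj.comapStructureSheaf ψ hψ U V hUV r).1 y =
      HomogeneousLocalization.localRingHom ψ _ _ rfl (r.1 ⟨ProjectiveSpectrum.comap ψ hψ y.1, hUV y.2⟩) := rfl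

theorem comapApp_smul (r : O (𝒜 := 𝒜) (op U)) (s : sectN (𝒜 := 𝒜) n (op U)) :
    comapApp ψ hψ n U V hUV (r • s) =
      (Proj.comapStructureSheaf ψ hψ U V hUV r) • comapApp ψ hψ n U V hUV s := by
  refine Subtype.ext (funext fun y => Subtype.ext ?_)
  have h1 : ∀ x : U, (((r • s : sectN (𝒜 := 𝒜) n (op U)).1 x : twistAt 𝒜 n x.1) : Loc 𝒜 x.1) =
      (r.1 x).val * (s.1 x : Loc 𝒜 x.1) := fun x => coe_smul_val n x.1 (r.1 x) (s.1 x)
  have h2 : ∀ y : V, (((Proj.comapStructureSheaf ψ hψ U V hUV r • comapApp ψ hψ n U V hUV s :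
      sectN (𝒜 := ℬ) n (op V)).1 y : twistAt ℬ n y.1) : Loc ℬ y.1) =
      ((Proj.comapStructureSheaf ψ hψ U V hUV r).1 y).val * ((comapApp ψ hψ n U V hUV s).1 y : Loc ℬ y.1) :=
    fun y => coe_smul_val n y.1 _ _
  refine (congrArg (locMap ψ hψ y.1) (h1 ⟨_, hUV y.2⟩)).trans ?_
  refine (map_mul _ _ _).trans ?_
  refine Eq.trans ?_ (h2 y).symm
  rw [comapStructureSheaf_apply, HomogeneousLocalization.val_localRingHom]
  rfl

/-- The canonical map `O_{Proj 𝒜}(n) ⟶ (Proj.map ψ)_* O_{Proj ℬ}(n)`, `a / f ↦ ψ a / ψ f`. -/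
def comap : twist 𝒜 n ⟶ (Scheme.Modules.pushforward (Proj.map ψ hψ)).obj (twist ℬ n) :=
  ⟨PresheafOfModules.homMk
    { app := fun U => AddCommGrpCat.ofHom (comapApp ψ hψ n U.unop (Proj.map ψ hψ ⁻¹ᵁ U.unop) Set.Subset.rfl)
      naturality := fun _ _ _ => rfl }
    fun U r s => comapApp_smul ψ hψ n U.unop _ Set.Subset.rfl r s⟩

theorem comap_app_val (U : (Proj 𝒜).Opens) (s : sectN (𝒜 := 𝒜) n (op U))
    (y : (Proj.map ψ hψ ⁻¹ᵁ U : (Proj ℬ).Opens)) :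
    ((((comap ψ hψ n).app U) s : sectN (𝒜 := ℬ) n _).1 y : Loc ℬ y.1) =
      locMap ψ hψ y.1 (s.1 ⟨ProjectiveSpectrum.comap ψ hψ y.1, y.2⟩).1 := rfl

end comap

section Pull

open Groth.Agent.Lib.Helper3 Groth.Agent.Lib.Helper3.QCSec Groth.Agent.Lib.Helper3.InvGen
  Groth.Agent.Lib.Helper3.TwistBasic
open Scheme.Modules

variable {R A B : Type u} [CommRing R] [CommRing A] [Algebra R A] {𝒜 : ℕ → Submodule R A}
  [GradedAlgebra 𝒜] [CommRing B] [Algebra R B] {ℬ : ℕ → Submodule R B} [GradedAlgebra ℬ]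
variable (ψ : 𝒜 →+*ᵍ ℬ) (hψ : ℬ₊ ≤ (𝒜₊).map ψ)

theorem comap_frac (n : ℤ) (U : (Proj 𝒜).Opens) {i j : ℕ} (a : 𝒜 i) (b : 𝒜 j)
    (hb : ∀ x : U, b.1 ∉ x.1.asHomogeneousIdeal) (hn : (i : ℤ) = j + n) :
    (comap ψ hψ n).app U (frac U a b hb n hn) =
      frac (Proj.map ψ hψ ⁻¹ᵁ U) (⟨ψ a.1, ψ.map_mem a.2⟩ : ℬ i) (⟨ψ b.1, ψ.map_mem b.2⟩ : ℬ j)
        (fun y => hb ⟨(Proj.map ψ hψ).base y.1, y.2⟩) n hn := by
  apply val_ext
  intro y
  rw [val_frac]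
  refine (comap_app_val ψ hψ n U _ y).trans ?_
  exact locMap_mk ψ hψ y.1 a.1 ⟨b.1, hb ⟨(Proj.map ψ hψ).base y.1, y.2⟩⟩

variable {ι : Type u} {f : ι → A} (hf : ∀ i, f i ∈ 𝒜 1)
  (hcov : ∀ x : Proj 𝒜, ∃ i, x ∈ Proj.basicOpen 𝒜 (f i))

include hf hcov in
/-- `(Proj.map ψ)^* O(1) ≅ O(1)` when `Proj 𝒜` is covered by the `D₊(f_i)`, `deg f_i = 1`. -/
theorem nonempty_pullback_iso :
    Nonempty ((Scheme.Modules.pullback (Proj.map ψ hψ)).obj (twist 𝒜 1) ≅ twist ℬ 1) := by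
  let θs : (Scheme.Modules.pullback (Proj.map ψ hψ)).obj (twist 𝒜 1) ⟶ twist ℬ 1 :=
    (Scheme.Modules.pullback (Proj.map ψ hψ)).map (comap ψ hψ 1) ≫
      (pullbackPushforwardAdjunction (Proj.map ψ hψ)).counit.app (twist ℬ 1)
  have key : ∀ (V : (Proj 𝒜).Opens) (e : Γ(twist 𝒜 1, V)),
      θs.app (Proj.map ψ hψ ⁻¹ᵁ V) (PbBasic.pull (Proj.map ψ hψ) (twist 𝒜 1) V e) =
        (comap ψ hψ 1).app V e := by
    intro V e
    change ((pullbackPushforwardAdjunction (Proj.map ψ hψ)).counit.app (twist ℬ 1)).app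
      (Proj.map ψ hψ ⁻¹ᵁ V)
      (((Scheme.Modules.pullback (Proj.map ψ hψ)).map (comap ψ hψ 1)).app (Proj.map ψ hψ ⁻¹ᵁ V)
        (PbBasic.pull (Proj.map ψ hψ) (twist 𝒜 1) V e)) = _
    rw [PbBasic.pull_app]
    exact CounitGG.counit_pull (Proj.map ψ hψ) (twist ℬ 1) V _
  haveI : IsIso θs := by
    apply PbTensor.isIso_of_isGen_cover
    intro y
    obtain ⟨i, hi⟩ := hcov ((Proj.map ψ hψ).base y)
    have h1 : ∀ x : Proj.basicOpen 𝒜 (f i),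
        ((⟨1, SetLike.GradedOne.one_mem⟩ : 𝒜 0) : A) ∉ x.1.asHomogeneousIdeal :=
      fun x h => x.1.isPrime.ne_top ((Ideal.eq_top_iff_one _).mpr h)
    have hfi : ∀ x : Proj.basicOpen 𝒜 (f i),
        ((⟨f i, hf i⟩ : 𝒜 1) : A) ∉ x.1.asHomogeneousIdeal :=
      fun x => (Proj.mem_basicOpen 𝒜 (f i) x.1).mp x.2
    have hg := isGen_frac (Proj.basicOpen 𝒜 (f i)) (⟨f i, hf i⟩ : 𝒜 1)
      (⟨1, SetLike.GradedOne.one_mem⟩ : 𝒜 0) hfi h1 1 (by simp)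
    refine ⟨Proj.map ψ hψ ⁻¹ᵁ Proj.basicOpen 𝒜 (f i),
      PbBasic.pull (Proj.map ψ hψ) (twist 𝒜 1) _ _, hi, PbBasic.isGen_pull _ hg, ?_⟩
    rw [key, comap_frac]
    exact isGen_frac (Proj.map ψ hψ ⁻¹ᵁ Proj.basicOpen 𝒜 (f i))
      (⟨ψ (f i), ψ.map_mem (hf i)⟩ : ℬ 1)
      (⟨ψ (1 : A), ψ.map_mem SetLike.GradedOne.one_mem⟩ : ℬ 0)
      (fun y => hfi ⟨(Proj.map ψ hψ).base y.1, y.2⟩)
      (fun y => h1 ⟨(Proj.map ψ hψ).base y.1, y.2⟩) 1 (by simp)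
  exact ⟨asIso θs⟩

end Pull

end Groth.Agent.Lib.Helper22.HypIso
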