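import Mathlib
import Groth.Agent.Lib.Helper22.HypIsoB
import Groth.Agent.Lib.Helper22.HypIsoC
import Groth.Agent.Lib.Helper7.PnGamma

/-!
# A hyperplane of projective space is a projective space (helper22)
-/

set_option autoImplicit false
set_option linter.style.haveILetI false
set_option linter.unusedSectionVars false
universe u
open CategoryTheory CategoryTheory.Limits AlgebraicGeometry TopologicalSpace MvPolynomial
open scoped HomogeneousIdeal

namespace Groth.Agent.Lib.Helper22.HypIso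

open Groth.Agent.Lib.Helper3 Groth.Agent.Lib.Helper3.QCSec Groth.Agent.Lib.Helper3.InvGen
  Groth.Agent.Lib.Helper3.TwistBasic Groth.Agent.Lib.Helper7.TwProj
open Groth.Agent.Lib.Helper22.BertiniPn Groth.Agent.Lib.Helper22.BertiniHyp
open Groth.Agent.Lib.Helper6.ProjSpaceGamma (hX)

theorem exists_iso_of_ker_eq {X Y : Scheme.{u}} (f : X ⟶ Y) [IsClosedImmersion f]
    (I : Y.IdealSheafData) (h : f.ker = I) :
    ∃ φ : X ≅ I.subscheme, φ.hom ≫ I.subschemeι = f := by
  subst h
  exact ⟨asIso f.toImage, f.toImage_imageι⟩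

theorem unit_hom_ext {X : Scheme.{u}} {M : X.Modules} {s s' : Coh.structureModule X ⟶ M}
    (h : sec s ⊤ = sec s' ⊤) : s = s' := by
  apply M.unitHomEquiv.injective
  apply Subtype.ext
  funext U
  change sec s U.unop = sec s' U.unop
  rw [← res_sec s (le_top : U.unop ≤ ⊤), ← res_sec s' (le_top : U.unop ≤ ⊤), h]

section Main

variable (k : Type u) [Field k] (n : ℕ)

theorem exists_linForm
    (s : Coh.structureModule (Proj (CohB1.polyGrading (n + 1) k)) ⟶
      Twist.twist (CohB1.polyGrading (n + 1) k) 1) :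
    ∃ a : Fin (n + 2) → k, s = sl (n + 1) k (linForm a) := by
  obtain ⟨p, hp⟩ := Groth.Agent.Lib.Helper7.PnGamma.PhiHom_surjective (n + 1) k 1 (sec s ⊤)
  refine ⟨fun i => coeff (Finsupp.single i 1) p.1, ?_⟩
  have hl : linForm (n := n + 1) (fun i => coeff (Finsupp.single i 1) p.1) = p :=
    Subtype.ext (linear_eq_sum (n + 1) k p.1 p.2).symm
  rw [hl]
  apply unit_hom_ext
  rw [sec_sl, ← hp]
  rfl

theorem sl_eq_zero (l : CohB1.polyGrading (n + 1) k 1) (hl : l = 0) : sl (n + 1) k l = 0 := by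
  apply unit_hom_ext
  rw [sec_sl, hl]
  have h0 : sec (0 : Coh.structureModule (Proj (CohB1.polyGrading (n + 1) k)) ⟶
      Twist.twist (CohB1.polyGrading (n + 1) k) 1) ⊤ = 0 := rfl
  rw [h0]
  apply val_ext
  intro x
  exact Localization.mk_zero _

theorem main
    (s : Coh.structureModule (Proj (CohB1.polyGrading (n + 1) k)) ⟶
      Twist.twist (CohB1.polyGrading (n + 1) k) 1) (hs : s ≠ 0) :
    ∃ φ : Proj (CohB1.polyGrading n k) ≅
        (PicF2.zeroScheme (Twist.twist (CohB1.polyGrading (n + 1) k) 1) s).subscheme,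
      Nonempty ((Scheme.Modules.pullback (φ.hom ≫
        (PicF2.zeroScheme (Twist.twist (CohB1.polyGrading (n + 1) k) 1) s).subschemeι)).obj
          (Twist.twist (CohB1.polyGrading (n + 1) k) 1) ≅
        Twist.twist (CohB1.polyGrading n k) 1) := by
  obtain ⟨a, rfl⟩ := exists_linForm k n s
  have ha : ∃ i₀, a i₀ ≠ 0 := by
    by_contra hcon
    push Not at hcon
    apply hs
    apply sl_eq_zero
    apply Subtype.ext
    show ∑ i, C (a i) * X i = (0 : MvPolynomial (Fin (n + 2)) k)
    simp [hcon]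
  obtain ⟨i₀, h0⟩ := ha
  obtain ⟨φ, hφ⟩ := exists_iso_of_ker_eq (jj k n i₀ a) _ (ker_jj k n i₀ a h0)
  refine ⟨φ, ?_⟩
  rw [hφ]
  exact nonempty_pullback_iso (psiG k n i₀ a) (psiG_irr k n i₀ a)
    (f := fun i : ULift.{u} (Fin (n + 2)) => (X i.down : MvPolynomial (Fin (n + 2)) k))
    (fun i => hX (n + 1) k i.down)
    (fun x => by
      obtain ⟨i, hi⟩ := exists_chart_mem (n := n + 1) (k := k) x
      exact ⟨⟨i⟩, hi⟩)

end Main

end Groth.Agent.Lib.Helper22.HypIso
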