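import Mathlib

/-!
# Differentials of a hypersurface quotient after base change to a field
-/

set_option linter.style.haveILetI false

namespace Groth.Agent.Lib.Helper22.HypSm

open TensorProduct KaehlerDifferential

section L1

variable (A : Type*) {P S K : Type*} [CommRing A] [CommRing P] [CommRing S] [Field K]
  [Algebra A P] [Algebra P S] [Algebra A S] [IsScalarTower A P S] [Algebra S K]

/-- the kernel of `S ⊗[P] Ω[P/A] → Ω[S/A]` for `S = P/(x)` is generated by `1 ⊗ dx`. -/
theorem mapBaseChange_eq_zero_iff (h₁ : Function.Surjective (algebraMap P S)) (x : P)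
    (hker : RingHom.ker (algebraMap P S) = Ideal.span {x}) (y : S ⊗[P] Ω[P⁄A]) :
    KaehlerDifferential.mapBaseChange A P S y = 0 ↔
      y ∈ LinearMap.range (LinearMap.toSpanSingleton S (S ⊗[P] Ω[P⁄A])
        ((1 : S) ⊗ₜ[P] D A P x)) := by
  have hx : x ∈ RingHom.ker (algebraMap P S) := by
    rw [hker]; exact Ideal.subset_span rfl
  have hcomp : ∀ b : P, (1 : S) ⊗ₜ[P] D A P (b * x) =
      algebraMap P S b • ((1 : S) ⊗ₜ[P] D A P x) := by
    intro b
    have hx0 : (x • (1 : S)) = 0 := by
      rw [Algebra.smul_def, mul_one]; exact hx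
    rw [Derivation.leibniz, tmul_add, tmul_smul, ← smul_tmul x, hx0, zero_tmul, add_zero,
      algebraMap_smul]
  rw [(KaehlerDifferential.exact_kerCotangentToTensor_mapBaseChange A P S h₁) y]
  constructor
  · rintro ⟨c, rfl⟩
    obtain ⟨⟨z, hz⟩, rfl⟩ := Ideal.toCotangent_surjective _ c
    rw [KaehlerDifferential.kerCotangentToTensor_toCotangent]
    have hz' := hz
    rw [hker, Ideal.mem_span_singleton'] at hz'
    obtain ⟨b, rfl⟩ := hz'
    exact ⟨algebraMap P S b, by rw [LinearMap.toSpanSingleton_apply, hcomp]⟩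
  · rintro ⟨s, rfl⟩
    obtain ⟨b, rfl⟩ := h₁ s
    have hbx : b * x ∈ RingHom.ker (algebraMap P S) := Ideal.mul_mem_left _ _ hx
    refine ⟨Ideal.toCotangent _ ⟨b * x, hbx⟩, ?_⟩
    rw [KaehlerDifferential.kerCotangentToTensor_toCotangent, LinearMap.toSpanSingleton_apply,
      hcomp]

/-- dimension count for `K ⊗ Ω[S/A]`, `S = P/(x)`. -/
theorem le_finrank_iff (h₁ : Function.Surjective (algebraMap P S)) (x : P)
    (hker : RingHom.ker (algebraMap P S) = Ideal.span {x}) (n : ℕ)
    [Module.Finite K (K ⊗[S] (S ⊗[P] Ω[P⁄A]))]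
    (hn : Module.finrank K (K ⊗[S] (S ⊗[P] Ω[P⁄A])) = n) :
    n ≤ Module.finrank K (K ⊗[S] Ω[S⁄A]) ↔
      (1 : K) ⊗ₜ[S] ((1 : S) ⊗ₜ[P] D A P x) = 0 := by
  set N := S ⊗[P] Ω[P⁄A]
  set v : N := (1 : S) ⊗ₜ[P] D A P x with hv
  set g := KaehlerDifferential.mapBaseChange A P S
  set f := LinearMap.toSpanSingleton S N v
  have hex : Function.Exact f g := fun y => mapBaseChange_eq_zero_iff A h₁ x hker y
  have hgs : Function.Surjective g := KaehlerDifferential.mapBaseChange_surjective A P S h₁
  have hex' := lTensor_exact K hex hgs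
  set G : K ⊗[S] N →ₗ[K] K ⊗[S] Ω[S⁄A] := g.baseChange K with hG
  have hGs : Function.Surjective G := by
    rw [hG, LinearMap.baseChange_eq_ltensor]
    exact LinearMap.lTensor_surjective K hgs
  -- kernel of `G` is the span of `1 ⊗ v`
  have hkerG : LinearMap.ker G = Submodule.span K {(1 : K) ⊗ₜ[S] v} := by
    apply le_antisymm
    · have hrange : ∀ w : K ⊗[S] S, (f.lTensor K) w ∈ Submodule.span K {(1 : K) ⊗ₜ[S] v} := by
        intro w
        induction w using TensorProduct.induction_on with
        | zero => rw [map_zero]; exact zero_mem _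
        | tmul a s =>
          rw [LinearMap.lTensor_tmul, LinearMap.toSpanSingleton_apply, tmul_smul]
          have : s • (a ⊗ₜ[S] v) = (a * algebraMap S K s) • ((1 : K) ⊗ₜ[S] v) := by
            rw [smul_tmul', smul_tmul', smul_eq_mul, mul_one, Algebra.smul_def, mul_comm]
          rw [this]
          exact Submodule.smul_mem _ _ (Submodule.subset_span rfl)
        | add a b ha hb => rw [map_add]; exact add_mem ha hb
      intro z hz
      have hz' : (g.lTensor K) z = 0 := by
        rw [← LinearMap.baseChange_eq_ltensor]; exact hz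
      obtain ⟨w, rfl⟩ := (hex' z).mp hz'
      exact hrange w
    · rw [Submodule.span_le, Set.singleton_subset_iff]
      change G ((1 : K) ⊗ₜ[S] v) = 0
      rw [hG, LinearMap.baseChange_tmul]
      have : g v = 0 := (hex v).mpr ⟨1, by rw [LinearMap.toSpanSingleton_apply, one_smul]⟩
      rw [this, tmul_zero]
  have hrn := LinearMap.finrank_range_add_finrank_ker G
  rw [LinearMap.range_eq_top.mpr hGs, finrank_top, hn, hkerG] at hrn
  constructor
  · intro hle
    have h0 : Module.finrank K (Submodule.span K {(1 : K) ⊗ₜ[S] v}) = 0 := by omega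
    by_contra hne
    rw [finrank_span_singleton hne] at h0
    exact one_ne_zero h0
  · intro h0
    rw [h0] at hrn
    have : Module.finrank K (Submodule.span K {(0 : K ⊗[S] N)}) = 0 := by
      rw [Submodule.span_singleton_eq_bot.mpr rfl]; exact finrank_bot K _
    omega

end L1

end Groth.Agent.Lib.Helper22.HypSm
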