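import Mathlib

/-!
# Jacobian criterion for a principal kernel, after base change to a field
-/

set_option linter.style.haveILetI false

namespace Groth.Agent.Lib.Helper22.HypSm

open TensorProduct KaehlerDifferential

section L2

variable (A : Type*) {P S K : Type*} [CommRing A] [CommRing P] [CommRing S] [Field K]
  [Algebra A P] [Algebra P S] [Algebra P K] [Algebra S K] [IsScalarTower P S K]

/-- for `S = P/(x)` with `x` regular, the base-changed cotangent complex map
`K ⊗ (x) → K ⊗ Ω[P/A]` is injective iff `1 ⊗ dx ≠ 0`. -/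
theorem injective_cotangentComplexBaseChange_iff (x : P) (hreg : IsSMulRegular P x)
    (hker : RingHom.ker (algebraMap P S) = Ideal.span {x}) :
    Function.Injective (KaehlerDifferential.cotangentComplexBaseChange A S P K) ↔
      (1 : K) ⊗ₜ[P] D A P x ≠ 0 := by
  have hx : x ∈ RingHom.ker (algebraMap P S) := by
    rw [hker]; exact Ideal.subset_span rfl
  set xh : RingHom.ker (algebraMap P S) := ⟨x, hx⟩ with hxh
  set u : K ⊗[P] RingHom.ker (algebraMap P S) := (1 : K) ⊗ₜ[P] xh with hu
  have hspan : ∀ z : K ⊗[P] RingHom.ker (algebraMap P S), ∃ c : K, z = c • u := by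
    intro z
    induction z using TensorProduct.induction_on with
    | zero => exact ⟨0, by rw [zero_smul]⟩
    | tmul a y =>
      obtain ⟨y, hy⟩ := y
      have hy' := hy
      rw [hker, Ideal.mem_span_singleton'] at hy'
      obtain ⟨b, rfl⟩ := hy'
      refine ⟨a * algebraMap P K b, ?_⟩
      have h1 : (⟨b * x, hy⟩ : RingHom.ker (algebraMap P S)) = b • xh := by
        apply Subtype.ext
        simp [hxh]
      rw [h1, tmul_smul, hu, smul_tmul', smul_tmul', smul_eq_mul, mul_one, Algebra.smul_def,
        mul_comm]
    | add a b ha hb =>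
      obtain ⟨c₁, rfl⟩ := ha
      obtain ⟨c₂, rfl⟩ := hb
      exact ⟨c₁ + c₂, by rw [add_smul]⟩
  have hφu : KaehlerDifferential.cotangentComplexBaseChange A S P K u =
      (1 : K) ⊗ₜ[P] D A P x := by
    rw [hu, KaehlerDifferential.cotangentComplexBaseChange_tmul, one_smul]
    rfl
  -- `u ≠ 0`
  have hu0 : u ≠ 0 := by
    let e0 : P →ₗ[P] RingHom.ker (algebraMap P S) := LinearMap.toSpanSingleton P _ xh
    have he0inj : Function.Injective e0 := by
      rw [injective_iff_map_eq_zero]
      intro b hb
      have h1 : b * x = 0 := by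
        have := congrArg Subtype.val hb
        simpa [e0, hxh] using this
      have h2 : x • b = x • (0 : P) := by rw [smul_eq_mul, smul_zero, mul_comm]; exact h1
      exact hreg h2
    have he0surj : Function.Surjective e0 := by
      rintro ⟨y, hy⟩
      have hy' := hy
      rw [hker, Ideal.mem_span_singleton'] at hy'
      obtain ⟨b, rfl⟩ := hy'
      refine ⟨b, ?_⟩
      apply Subtype.ext
      simp [e0, hxh]
    let e : P ≃ₗ[P] RingHom.ker (algebraMap P S) := LinearEquiv.ofBijective e0 ⟨he0inj, he0surj⟩
    have he1 : e.symm xh = 1 := by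
      rw [LinearEquiv.symm_apply_eq]
      change xh = e0 1
      simp [e0]
    intro h0
    have h1 : (e.symm.toLinearMap.lTensor K) u = 0 := by rw [h0, map_zero]
    rw [hu, LinearMap.lTensor_tmul, LinearEquiv.coe_coe, he1] at h1
    have h2 := congrArg (TensorProduct.rid P K) h1
    rw [TensorProduct.rid_tmul, one_smul, map_zero] at h2
    exact one_ne_zero h2
  constructor
  · intro hinj h0
    rw [← hφu] at h0
    exact hu0 (hinj (by rw [h0, map_zero]))
  · intro hne
    rw [injective_iff_map_eq_zero]
    intro z hz
    obtain ⟨c, rfl⟩ := hspan z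
    rw [map_smul, hφu] at hz
    rcases smul_eq_zero.mp hz with hc | hc
    · rw [hc, zero_smul]
    · exact absurd hc hne

end L2

end Groth.Agent.Lib.Helper22.HypSm
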