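import Mathlib

/-!
# Localizing a principal quotient presentation at a prime
-/

set_option linter.style.haveILetI false

namespace Groth.Agent.Lib.Helper22.HypSm

open TensorProduct

variable {B R : Type*} [CommRing B] [CommRing R] [Algebra B R]
  (p : Ideal R) [p.IsPrime]

/-- `B_q → R_p` is surjective when `B → R` is. -/
theorem localRingHom_surjective (hsurj : Function.Surjective (algebraMap B R)) :
    Function.Surjective (Localization.localRingHom (p.under B) p (algebraMap B R) rfl) := by
  intro z
  obtain ⟨r, s, rfl⟩ := IsLocalization.exists_mk'_eq p.primeCompl z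
  obtain ⟨b, rfl⟩ := hsurj r
  obtain ⟨b', hb'⟩ := hsurj (s : R)
  have hb'q : b' ∈ (p.under B).primeCompl := by
    intro hmem
    have : algebraMap B R b' ∈ p := hmem
    rw [hb'] at this
    exact s.2 this
  refine ⟨IsLocalization.mk' _ b ⟨b', hb'q⟩, ?_⟩
  rw [Localization.localRingHom_mk']
  congr 1
  exact Subtype.ext hb'

/-- the kernel of `B_q → R_p` is generated by the image of `g` when `ker (B → R) = (g)`. -/
theorem ker_localRingHom (hsurj : Function.Surjective (algebraMap B R)) (g : B)
    (hker : RingHom.ker (algebraMap B R) = Ideal.span {g}) :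
    RingHom.ker (Localization.localRingHom (p.under B) p (algebraMap B R) rfl) =
      Ideal.span {algebraMap B (Localization.AtPrime (p.under B)) g} := by
  apply le_antisymm
  · intro x hx
    obtain ⟨b, s, rfl⟩ := IsLocalization.exists_mk'_eq (p.under B).primeCompl x
    rw [RingHom.mem_ker, Localization.localRingHom_mk', IsLocalization.mk'_eq_zero_iff] at hx
    obtain ⟨t, ht⟩ := hx
    have htp : (t : R) ∉ p := t.2
    have h1 : (t : R) * algebraMap B R b = 0 := ht
    obtain ⟨t', ht'⟩ := hsurj (t : R)
    have ht'q : t' ∈ (p.under B).primeCompl := by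
      intro hmem
      have : algebraMap B R t' ∈ p := hmem
      rw [ht'] at this
      exact htp this
    have h2 : t' * b ∈ RingHom.ker (algebraMap B R) := by
      rw [RingHom.mem_ker, map_mul, ht']; exact h1
    rw [hker, Ideal.mem_span_singleton'] at h2
    obtain ⟨c, hc⟩ := h2
    rw [Ideal.mem_span_singleton']
    refine ⟨IsLocalization.mk' _ c (s * ⟨t', ht'q⟩), ?_⟩
    rw [mul_comm, IsLocalization.mul_mk'_eq_mk'_of_mul, mul_comm g c, hc, mul_comm t' b]
    exact IsLocalization.mk'_cancel b s ⟨t', ht'q⟩
  · rw [Ideal.span_le, Set.singleton_subset_iff]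
    change _ ∈ RingHom.ker _
    rw [RingHom.mem_ker, Localization.localRingHom_to_map]
    have : g ∈ RingHom.ker (algebraMap B R) := by rw [hker]; exact Ideal.subset_span rfl
    rw [RingHom.mem_ker.mp this, map_zero]

end Groth.Agent.Lib.Helper22.HypSm
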