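import Mathlib
import Groth.Agent.Lib.Helper22.HypSm2
import Groth.Agent.Lib.Helper22.HypSm3

/-!
# Smoothness of a hypersurface in a smooth algebra at a prime
-/

set_option linter.style.haveILetI false

namespace Groth.Agent.Lib.Helper22.HypSm

open TensorProduct KaehlerDifferential IsLocalRing

universe u

variable (A B R : Type u) [CommRing A] [CommRing B] [CommRing R]
  [Algebra A B] [Algebra B R] [Algebra A R] [IsScalarTower A B R] [Algebra.Smooth A B]

attribute [local instance] Module.free_of_flat_of_isLocalRing in
/-- Jacobian criterion: `R = B/(g)` is smooth over `A` at `p` iff `dg ≠ 0` in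
`κ(p) ⊗ Ω[B_q/A]`. -/
theorem isSmoothAt_iff (g : B) (hg : IsSMulRegular B g)
    (hsurj : Function.Surjective (algebraMap B R))
    (hker : RingHom.ker (algebraMap B R) = Ideal.span {g}) (p : Ideal R) [p.IsPrime] :
    letI := Localization.AtPrime.algebraOfLiesOver (p.under B) p
    Algebra.IsSmoothAt A p ↔
      (1 : ResidueField (Localization.AtPrime p)) ⊗ₜ[Localization.AtPrime (p.under B)]
        D A (Localization.AtPrime (p.under B))
          (algebraMap B (Localization.AtPrime (p.under B)) g) ≠ 0 := by
  letI := Localization.AtPrime.algebraOfLiesOver (p.under B) p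
  haveI : Algebra.FormallySmooth A B := inferInstance
  haveI : Algebra.FormallyEtale B (Localization.AtPrime (p.under B)) :=
    .of_isLocalization (p.under B).primeCompl
  haveI : Algebra.FormallySmooth A (Localization.AtPrime (p.under B)) :=
    .comp A B (Localization.AtPrime (p.under B))
  haveI : Algebra.EssFiniteType A (Localization.AtPrime (p.under B)) :=
    .comp A B (Localization.AtPrime (p.under B))
  haveI : Module.Finite (Localization.AtPrime (p.under B))
    (Ω[Localization.AtPrime (p.under B)⁄A]) := inferInstance
  haveI : Module.Projective (Localization.AtPrime (p.under B))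
    (Ω[Localization.AtPrime (p.under B)⁄A]) := inferInstance
  haveI : Module.Free (Localization.AtPrime (p.under B))
    (Ω[Localization.AtPrime (p.under B)⁄A]) := inferInstance
  have h₁ : Function.Surjective (algebraMap (Localization.AtPrime (p.under B))
      (Localization.AtPrime p)) := localRingHom_surjective p hsurj
  have hk : RingHom.ker (algebraMap (Localization.AtPrime (p.under B))
      (Localization.AtPrime p)) =
      Ideal.span {algebraMap B (Localization.AtPrime (p.under B)) g} :=
    ker_localRingHom p hsurj g hker
  have h₂ : (RingHom.ker (algebraMap (Localization.AtPrime (p.under B))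
      (Localization.AtPrime p))).FG := by
    rw [hk]; exact Submodule.fg_span_singleton _
  have hreg : IsSMulRegular (Localization.AtPrime (p.under B))
      (algebraMap B (Localization.AtPrime (p.under B)) g) := IsSMulRegular.of_flat hg
  change Algebra.FormallySmooth A (Localization.AtPrime p) ↔ _
  rw [Algebra.FormallySmooth.iff_injective_cotangentComplexBaseChange_residueField
    (Localization.AtPrime (p.under B)) h₁ h₂]
  exact injective_cotangentComplexBaseChange_iff A _ hreg hk

end Groth.Agent.Lib.Helper22.HypSm
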