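import Mathlib
import Groth.Agent.Lib.Helper6.ExtBC

/-!
# The annihilator of an exterior power and fibre dimensions
-/

set_option linter.style.haveILetI false

namespace Groth.Agent.Lib.Helper22.HypSm

open TensorProduct

universe u

/-- `Ann (Λ^n M) ⊆ p` iff the fibre of `M` at `p` has dimension at least `n`. -/
theorem annihilator_exteriorPower_le_iff (R : Type u) [CommRing R] (M : Type u) [AddCommGroup M]
    [Module R M] [Module.Finite R M] (n : ℕ) (p : PrimeSpectrum R) :
    (⋀[R]^n M).annihilator ≤ p.asIdeal ↔
      n ≤ Module.finrank p.asIdeal.ResidueField (p.asIdeal.ResidueField ⊗[R] M) := by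
  have h1 : (⋀[R]^n M).annihilator = Module.annihilator R ↥(⋀[R]^n M) := rfl
  rw [h1, ← Module.mem_support_iff_of_finite,
    Module.mem_support_iff_nontrivial_residueField_tensorProduct]
  have hκ : IsBaseChange p.asIdeal.ResidueField
      (TensorProduct.mk R p.asIdeal.ResidueField M 1) :=
    TensorProduct.isBaseChange R M p.asIdeal.ResidueField
  have hbc := Groth.Agent.Lib.Helper6.ExtBC.isBaseChange_extMap hκ n
  have e := hbc.equiv
  rw [e.toEquiv.nontrivial_congr, ← Module.finrank_pos_iff_of_free (R := p.asIdeal.ResidueField),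
    exteriorPower.finrank_eq, Nat.pos_iff_ne_zero, ne_eq, Nat.choose_eq_zero_iff, not_lt]

end Groth.Agent.Lib.Helper22.HypSm
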