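import Mathlib
import Groth.Agent.Lib.Helper22.HypSm1
import Groth.Agent.Lib.Helper22.HypSm4
import Groth.Agent.Lib.Helper22.HypSm5

/-!
# Non-smooth locus of a hypersurface in a smooth algebra
-/

set_option linter.style.haveILetI false

namespace Groth.Agent.Lib.Helper22.HypSm

open TensorProduct KaehlerDifferential IsLocalRing

universe u

variable (A B R : Type u) [CommRing A] [CommRing B] [CommRing R]
  [Algebra A B] [Algebra B R] [Algebra A R] [IsScalarTower A B R]

/-- transporting the vanishing of `dg` between the two models of the fibre of `Ω[B/A]`. -/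
theorem tmul_D_eq_zero_iff (g : B) (p : Ideal R) [p.IsPrime] :
    letI := Localization.AtPrime.algebraOfLiesOver (p.under B) p
    (1 : ResidueField (Localization.AtPrime p)) ⊗ₜ[Localization.AtPrime (p.under B)]
        D A (Localization.AtPrime (p.under B))
          (algebraMap B (Localization.AtPrime (p.under B)) g) = 0 ↔
      (1 : p.ResidueField) ⊗ₜ[R] ((1 : R) ⊗ₜ[B] D A B g) = 0 := by
  letI := Localization.AtPrime.algebraOfLiesOver (p.under B) p
  haveI : Algebra.FormallyEtale B (Localization.AtPrime (p.under B)) :=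
    .of_isLocalization (p.under B).primeCompl
  let e₁ := AlgebraTensorModule.cancelBaseChange B R p.ResidueField p.ResidueField (Ω[B⁄A])
  let e₂ := AlgebraTensorModule.cancelBaseChange B (Localization.AtPrime (p.under B))
    p.ResidueField p.ResidueField (Ω[B⁄A])
  let e₃ := KaehlerDifferential.tensorKaehlerEquivOfFormallyEtale A B
    (Localization.AtPrime (p.under B))
  let e₄ := TensorProduct.congr
    (LinearEquiv.refl (Localization.AtPrime (p.under B)) p.ResidueField) e₃
  have h1 : e₁ ((1 : p.ResidueField) ⊗ₜ[R] ((1 : R) ⊗ₜ[B] D A B g)) =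
      (1 : p.ResidueField) ⊗ₜ[B] D A B g := by
    rw [AlgebraTensorModule.cancelBaseChange_tmul, one_smul]
  have h2 : e₂.symm ((1 : p.ResidueField) ⊗ₜ[B] D A B g) =
      (1 : p.ResidueField) ⊗ₜ[Localization.AtPrime (p.under B)]
        ((1 : Localization.AtPrime (p.under B)) ⊗ₜ[B] D A B g) := by
    rw [AlgebraTensorModule.cancelBaseChange_symm_tmul]
  have h3 : e₄ ((1 : p.ResidueField) ⊗ₜ[Localization.AtPrime (p.under B)]
        ((1 : Localization.AtPrime (p.under B)) ⊗ₜ[B] D A B g)) =
      (1 : p.ResidueField) ⊗ₜ[Localization.AtPrime (p.under B)]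
        D A (Localization.AtPrime (p.under B))
          (algebraMap B (Localization.AtPrime (p.under B)) g) := by
    rw [TensorProduct.congr_tmul, LinearEquiv.refl_apply]
    congr 1
    exact ((LinearEquiv.symm_apply_eq e₃).mp
      (KaehlerDifferential.tensorKaehlerEquivOfFormallyEtale_symm_D_algebraMap A B
        (Localization.AtPrime (p.under B)) g)).symm
  rw [← e₁.map_eq_zero_iff, h1, ← e₂.symm.map_eq_zero_iff, h2, ← e₄.map_eq_zero_iff, h3]

end Groth.Agent.Lib.Helper22.HypSm
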