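import Mathlib
import Groth.Prelude.Def_W4c5stacksedinertiaGpd

/-!
# The inertia operators on the space of finite groups: averaged form
-/

set_option autoImplicit false

namespace Groth.Agent.Lib.Helper22.Inertia

open W4c5stacksedinertia

universe u v

section Basic

noncomputable def ofEquiv (G : Type u) [Group G] [Finite G] : (FinGrp.of G).carrier ≃* G :=
  (Nat.equivFinOfCardPos (α := G) Nat.card_pos.ne').symm.mulEquiv

theorem idx_of_eq {G : Type u} {H : Type v} [Group G] [Finite G] [Group H] [Finite H]
    (e : G ≃* H) : Idx.of G = Idx.of H := by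
  unfold Idx.of
  apply Quotient.sound
  exact ⟨((ofEquiv G).trans e).trans (ofEquiv H).symm⟩

theorem cl_congr {G : Type u} {H : Type v} [Group G] [Finite G] [Group H] [Finite H]
    (e : G ≃* H) : cl G = cl H := by
  unfold cl
  rw [idx_of_eq e]

noncomputable def repEquiv (G : Type u) [Group G] [Finite G] : (Idx.of G).rep ≃* G := by
  have h : Nonempty ((Quotient.out (s := FinGrp.setoid)
      (Quotient.mk FinGrp.setoid (FinGrp.of G))).carrier ≃* (FinGrp.of G).carrier) :=
    Quotient.mk_out (s := FinGrp.setoid) (FinGrp.of G)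
  exact (Classical.choice h).trans (ofEquiv G)

theorem idx_of_rep (i : Idx) : Idx.of i.rep = i := by
  have h1 : Idx.of i.rep = Quotient.mk FinGrp.setoid (Quotient.out (s := FinGrp.setoid) i) := by
    unfold Idx.of
    apply Quotient.sound
    exact ⟨ofEquiv _⟩
  rw [h1]
  exact Quotient.out_eq i

theorem cl_rep (i : Idx) : cl i.rep = Finsupp.single i 1 := by
  unfold cl
  rw [idx_of_rep]

/-- an isomorphism of groups induces an isomorphism of centralizers. -/
noncomputable def centralizerEquiv {G : Type u} {H : Type v} [Group G] [Group H] (φ : G ≃* H)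
    (S : Set G) : Subgroup.centralizer S ≃* Subgroup.centralizer (φ '' S) where
  toFun x := ⟨φ x.1, by
    rw [Subgroup.mem_centralizer_iff]
    rintro _ ⟨y, hy, rfl⟩
    rw [← map_mul, ← map_mul, Subgroup.mem_centralizer_iff.1 x.2 y hy]⟩
  invFun y := ⟨φ.symm y.1, by
    rw [Subgroup.mem_centralizer_iff]
    intro z hz
    apply φ.injective
    rw [map_mul, map_mul, MulEquiv.apply_symm_apply]
    exact Subgroup.mem_centralizer_iff.1 y.2 (φ z) ⟨z, hz, rfl⟩⟩
  left_inv x := Subtype.ext (φ.symm_apply_apply x.1)
  right_inv y := Subtype.ext (φ.apply_symm_apply y.1)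
  map_mul' x y := Subtype.ext (map_mul φ x.1 y.1)

end Basic

section Phi

variable (G : Type u) [Group G] [Finite G]

/-- the weighted class of the centralizer of a set. -/
noncomputable def termS (S : Set G) : K :=
  ((Nat.card (Subgroup.centralizer S) : ℚ) / (Nat.card G : ℚ)) • cl (Subgroup.centralizer S)

variable {G} in
/-- tuples of pairwise distinct, pairwise commuting elements. -/
def IsCT {r : ℕ} (s : Fin r → G) : Prop := Function.Injective s ∧ ∀ i j, Commute (s i) (s j)

open Classical in
/-- the averaged form of the inertia operator on the class of `G`. -/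
noncomputable def phi (r : ℕ) : K :=
  ∑ᶠ s : Fin r → G, if IsCT s then termS G (Set.range s) else 0

end Phi

section Invariance

variable {G : Type u} {H : Type v} [Group G] [Finite G] [Group H] [Finite H]

theorem termS_image (φ : G ≃* H) (S : Set G) : termS H (φ '' S) = termS G S := by
  unfold termS
  rw [← cl_congr (centralizerEquiv φ S), ← Nat.card_congr (centralizerEquiv φ S).toEquiv,
    Nat.card_congr φ.toEquiv]

theorem isCT_comp (φ : G ≃* H) {r : ℕ} (s : Fin r → G) : IsCT (φ ∘ s) ↔ IsCT s := by
  unfold IsCT
  constructor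
  · rintro ⟨h1, h2⟩
    refine ⟨fun a b hab => h1 (by simp only [Function.comp_apply, hab]), fun i j => ?_⟩
    have := h2 i j
    simp only [Function.comp_apply] at this
    exact φ.injective (by rw [map_mul, map_mul]; exact this)
  · rintro ⟨h1, h2⟩
    refine ⟨φ.injective.comp h1, fun i j => ?_⟩
    simp only [Function.comp_apply]
    show φ (s i) * φ (s j) = φ (s j) * φ (s i)
    rw [← map_mul, ← map_mul, (h2 i j).eq]

open Classical in
theorem phi_congr (φ : G ≃* H) (r : ℕ) : phi G r = phi H r := by
  unfold phi
  let E : (Fin r → G) ≃ (Fin r → H) := Equiv.piCongrRight (fun _ => φ.toEquiv)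
  rw [← finsum_comp_equiv E]
  refine finsum_congr (fun s => ?_)
  have h1 : (E s : Fin r → H) = φ ∘ s := rfl
  rw [h1]
  by_cases hs : IsCT s
  · rw [if_pos hs, if_pos ((isCT_comp φ s).2 hs), Set.range_comp, termS_image]
  · rw [if_neg hs, if_neg (fun h => hs ((isCT_comp φ s).1 h))]

end Invariance

end Groth.Agent.Lib.Helper22.Inertia
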