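import Mathlib
import Groth.Agent.Lib.Helper22.Inertia1

/-!
# The inertia operators: orbit sums equal averaged sums
-/

set_option autoImplicit false

namespace Groth.Agent.Lib.Helper22.Inertia

open W4c5stacksedinertia

universe u

section Orbit

variable (G : Type u) [Group G] (r : ℕ)

/-- conjugation of commuting tuples. -/
def conjCT (g : G) (s : CommTuple G r) : CommTuple G r :=
  ⟨fun i => g * s.1 i * g⁻¹, by
    intro a b hab
    apply s.2.1
    simpa using hab, by
    intro i j
    show g * s.1 i * g⁻¹ * (g * s.1 j * g⁻¹) = g * s.1 j * g⁻¹ * (g * s.1 i * g⁻¹)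
    have := (s.2.2 i j).eq
    calc g * s.1 i * g⁻¹ * (g * s.1 j * g⁻¹) = g * (s.1 i * s.1 j) * g⁻¹ := by group
      _ = g * (s.1 j * s.1 i) * g⁻¹ := by rw [this]
      _ = _ := by group⟩

instance instMulActionCT : MulAction G (CommTuple G r) where
  smul g s := conjCT G r g s
  one_smul s := by
    apply Subtype.ext
    funext i
    show 1 * s.1 i * 1⁻¹ = s.1 i
    group
  mul_smul g h s := by
    apply Subtype.ext
    funext i
    show g * h * s.1 i * (g * h)⁻¹ = g * (h * s.1 i * h⁻¹) * g⁻¹
    group

variable {G r}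

lemma smul_val (g : G) (s : CommTuple G r) (i : Fin r) : (g • s).1 i = g * s.1 i * g⁻¹ := rfl

lemma setoid_iff (s t : CommTuple G r) :
    (CommTuple.setoid G r).r s t ↔ t ∈ MulAction.orbit G s := by
  constructor
  · rintro ⟨g, hg⟩
    exact ⟨g, Subtype.ext (funext hg)⟩
  · rintro ⟨g, hg⟩
    exact ⟨g, fun i => by rw [← hg]; rfl⟩

lemma stabilizer_eq (s : CommTuple G r) :
    MulAction.stabilizer G s = Subgroup.centralizer (Set.range s.1) := by
  ext g
  rw [MulAction.mem_stabilizer_iff, Subgroup.mem_centralizer_iff]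
  constructor
  · rintro h _ ⟨i, rfl⟩
    have := congrArg (fun t : CommTuple G r => t.1 i) h
    simp only [smul_val] at this
    calc s.1 i * g = g * s.1 i * g⁻¹ * g := by rw [this]
      _ = g * s.1 i := by group
  · intro h
    apply Subtype.ext
    funext i
    rw [smul_val, ← h (s.1 i) ⟨i, rfl⟩]
    group

/-- the class of the centralizer is constant on orbits. -/
lemma cl_centralizer_smul [Finite G] (g : G) (s : CommTuple G r) :
    cl (Subgroup.centralizer (Set.range (g • s).1)) =
      cl (Subgroup.centralizer (Set.range s.1)) := by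
  have h1 : Set.range (g • s).1 = (MulAut.conj g) '' Set.range s.1 := by
    ext x
    constructor
    · rintro ⟨i, rfl⟩
      exact ⟨s.1 i, ⟨i, rfl⟩, rfl⟩
    · rintro ⟨_, ⟨i, rfl⟩, rfl⟩
      exact ⟨i, rfl⟩
  rw [h1]
  exact (cl_congr (centralizerEquiv (MulAut.conj g) (Set.range s.1))).symm

end Orbit

section LemmaA

variable (G : Type u) [Group G] [Finite G] (r : ℕ)

open Classical in
/-- the sum over orbit representatives equals the averaged sum. -/
theorem sum_out_eq (F : CommTuple G r → K)
    (hF : ∀ (g : G) (s : CommTuple G r), F (g • s) = F s) :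
    (∑ᶠ O : CommTuple.Orbit G r, F (Quotient.out (s := CommTuple.setoid G r) O)) =
      ∑ᶠ s : CommTuple G r,
        ((Nat.card (Subgroup.centralizer (Set.range s.1)) : ℚ) / (Nat.card G : ℚ)) • F s := by
  letI : Fintype G := Fintype.ofFinite G
  letI : Fintype (CommTuple G r) := by
    unfold CommTuple
    infer_instance
  letI : Fintype (CommTuple.Orbit G r) := by
    unfold CommTuple.Orbit
    infer_instance
  rw [finsum_eq_sum_of_fintype, finsum_eq_sum_of_fintype]
  rw [← Finset.sum_fiberwise Finset.univ
    (fun s : CommTuple G r => (Quotient.mk (CommTuple.setoid G r) s : CommTuple.Orbit G r))]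
  refine Finset.sum_congr rfl (fun O _ => ?_)
  symm
  set s₀ := Quotient.out (s := CommTuple.setoid G r) O with hs₀
  set fib := Finset.univ.filter (fun s : CommTuple G r =>
    Quotient.mk (CommTuple.setoid G r) s = O) with hfib
  have hmem : ∀ s, s ∈ fib ↔ s ∈ MulAction.orbit G s₀ := by
    intro s
    rw [hfib, Finset.mem_filter]
    simp only [Finset.mem_univ, true_and]
    rw [← setoid_iff, ← Quotient.out_eq (s := CommTuple.setoid G r) O]
    constructor
    · intro h
      exact Setoid.symm' _ (Quotient.exact h)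
    · intro h
      exact Quotient.sound (Setoid.symm' _ h)
  have hs₀mem : s₀ ∈ fib := (hmem s₀).2 (MulAction.mem_orbit_self s₀)
  have hcard : Nat.card (MulAction.orbit G s₀) = fib.card := by
    rw [← Nat.card_eq_finsetCard fib]
    apply Nat.card_congr
    exact (Equiv.subtypeEquivRight (fun s => (hmem s).symm))
  have hFs : ∀ s ∈ fib, F s = F s₀ := by
    intro s hs
    obtain ⟨g, rfl⟩ := (hmem s).1 hs
    exact hF g s₀
  have hw : ∀ s ∈ fib, ((Nat.card (Subgroup.centralizer (Set.range s.1)) : ℚ) /
      (Nat.card G : ℚ)) = 1 / (fib.card : ℚ) := by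
    intro s hs
    have horb : MulAction.orbit G s = MulAction.orbit G s₀ :=
      MulAction.orbit_eq_iff.2 ((hmem s).1 hs)
    have h1 : Nat.card (MulAction.orbit G s) * Nat.card (MulAction.stabilizer G s) =
        Nat.card G := by
      rw [← Nat.card_prod]
      exact Nat.card_congr (MulAction.orbitProdStabilizerEquivGroup G s)
    rw [horb, hcard, stabilizer_eq] at h1
    have hpos : (0 : ℚ) < fib.card := by
      exact_mod_cast Finset.card_pos.2 ⟨s₀, hs₀mem⟩
    have hG : (0 : ℚ) < Nat.card G := by
      exact_mod_cast Nat.card_pos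
    rw [div_eq_div_iff hG.ne' hpos.ne', one_mul]
    exact_mod_cast (by rw [mul_comm]; exact h1)
  calc ∑ s ∈ fib, ((Nat.card (Subgroup.centralizer (Set.range s.1)) : ℚ) / (Nat.card G : ℚ)) • F s
      = ∑ s ∈ fib, (1 / (fib.card : ℚ)) • F s₀ :=
        Finset.sum_congr rfl (fun s hs => by rw [hw s hs, hFs s hs])
    _ = F s₀ := by
        rw [Finset.sum_const, ← Nat.cast_smul_eq_nsmul ℚ, smul_smul]
        have hpos : (fib.card : ℚ) ≠ 0 := by
          exact_mod_cast (Finset.card_pos.2 ⟨s₀, hs₀mem⟩).ne'
        rw [mul_one_div_cancel hpos, one_smul]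

open Classical in
theorem inertiaROf_eq_phi : inertiaROf r G = phi G r := by
  unfold inertiaROf
  rw [sum_out_eq G r (fun s => cl (Subgroup.centralizer (Set.range s.1)))
    (fun g s => cl_centralizer_smul g s)]
  unfold phi
  letI : Fintype G := Fintype.ofFinite G
  letI : Fintype (CommTuple G r) := by
    unfold CommTuple
    infer_instance
  rw [finsum_eq_sum_of_fintype, finsum_eq_sum_of_fintype, ← Finset.sum_filter]
  have h1 : ∀ s : Fin r → G, s ∈ Finset.univ.filter (fun s : Fin r → G => IsCT s) ↔
      (Function.Injective s ∧ ∀ i j, Commute (s i) (s j)) := by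
    intro s
    simp [IsCT]
  exact (Finset.sum_subtype (Finset.univ.filter (fun s : Fin r → G => IsCT s)) h1
    (fun s => termS G (Set.range s))).symm

end LemmaA

end Groth.Agent.Lib.Helper22.Inertia
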