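import Mathlib
import Groth.Agent.Lib.Helper22.Inertia2

/-!
# The inertia operators: the recursion `I ∘ I_r = I_{r+1} + r I_r`
-/

set_option autoImplicit false

namespace Groth.Agent.Lib.Helper22.Inertia

open W4c5stacksedinertia

universe u

section OnClasses

variable (G : Type u) [Group G] [Finite G]

theorem inertiaR_cl (r : ℕ) : inertiaR r (cl G) = phi G r := by
  unfold cl inertiaR
  rw [Finsupp.linearCombination_single, one_smul, inertiaROf_eq_phi]
  exact phi_congr (repEquiv G) r

/-- the centralizer of an element of a centralizer. -/
noncomputable def centralizerCentralizerEquiv (S : Set G) (h : Subgroup.centralizer S) :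
    Subgroup.centralizer ({h} : Set (Subgroup.centralizer S)) ≃*
      Subgroup.centralizer (insert (h : G) S) where
  toFun x := ⟨((x : Subgroup.centralizer S) : G), by
    rw [Subgroup.mem_centralizer_iff]
    intro y hy
    rcases hy with rfl | hy
    · have := Subgroup.mem_centralizer_iff.1 x.2 h rfl
      exact congrArg Subtype.val this
    · exact Subgroup.mem_centralizer_iff.1 x.1.2 y hy⟩
  invFun z := ⟨⟨z.1, by
      rw [Subgroup.mem_centralizer_iff]
      intro y hy
      exact Subgroup.mem_centralizer_iff.1 z.2 y (Set.mem_insert_of_mem _ hy)⟩, by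
    rw [Subgroup.mem_centralizer_iff]
    intro y hy
    rw [Set.mem_singleton_iff] at hy
    subst hy
    apply Subtype.ext
    exact Subgroup.mem_centralizer_iff.1 z.2 (y : G) (Set.mem_insert _ _)⟩
  left_inv x := rfl
  right_inv z := rfl
  map_mul' x y := rfl

open Classical in
/-- the one-step formula on a weighted class. -/
theorem inertia_termS (S : Set G) :
    inertia (termS G S) =
      ∑ᶠ h : G, if h ∈ Subgroup.centralizer S then termS G (insert h S) else 0 := by
  set H := Subgroup.centralizer S with hH
  have h1 : inertia (cl H) = ∑ᶠ h : H, termS H ({h} : Set H) := by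
    show inertiaR 1 (cl H) = _
    rw [inertiaR_cl]
    unfold phi
    rw [← finsum_comp_equiv (Equiv.funUnique (Fin 1) H).symm]
    refine finsum_congr (fun h => ?_)
    have hct : IsCT ((Equiv.funUnique (Fin 1) H).symm h) := by
      refine ⟨fun a b _ => Subsingleton.elim a b, fun i j => ?_⟩
      have hi : i = j := Subsingleton.elim i j
      rw [hi]
      exact Commute.refl _
    rw [if_pos hct]
    congr 1
    ext x
    simp only [Set.mem_range, Set.mem_singleton_iff]
    constructor
    · rintro ⟨i, rfl⟩
      rfl
    · rintro rfl
      exact ⟨0, rfl⟩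
  have h2 : ∀ h : H, ((Nat.card H : ℚ) / (Nat.card G : ℚ)) • termS H ({h} : Set H) =
      termS G (insert (h : G) S) := by
    intro h
    unfold termS
    rw [smul_smul, cl_congr (centralizerCentralizerEquiv G S h),
      Nat.card_congr (centralizerCentralizerEquiv G S h).toEquiv]
    congr 1
    have hHpos : (Nat.card H : ℚ) ≠ 0 := by
      exact_mod_cast (Nat.card_pos (α := H)).ne'
    field_simp
  have h3 : termS G S = ((Nat.card H : ℚ) / (Nat.card G : ℚ)) • cl H := rfl
  rw [h3, map_smul, h1, smul_finsum' _ (Set.toFinite _)]
  simp_rw [h2]
  rw [finsum_subtype_eq_finsum_cond (f := fun h : G => termS G (insert h S)) (fun h => h ∈ H)]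
  refine finsum_congr (fun h => ?_)
  rw [finsum_eq_if]

variable {G}

theorem isCT_snoc {r : ℕ} (s : Fin r → G) (h : G) :
    IsCT (Fin.snoc s h : Fin (r + 1) → G) ↔
      IsCT s ∧ h ∈ Subgroup.centralizer (Set.range s) ∧ h ∉ Set.range s := by
  unfold IsCT
  constructor
  · rintro ⟨hinj, hcomm⟩
    refine ⟨⟨?_, ?_⟩, ?_, ?_⟩
    · intro a b hab
      have := hinj (a₁ := a.castSucc) (a₂ := b.castSucc) (by
        rw [Fin.snoc_castSucc, Fin.snoc_castSucc]
        exact hab)
      exact Fin.castSucc_injective _ this
    · intro i j
      have := hcomm i.castSucc j.castSucc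
      rwa [Fin.snoc_castSucc, Fin.snoc_castSucc] at this
    · rw [Subgroup.mem_centralizer_iff]
      rintro _ ⟨i, rfl⟩
      have := hcomm i.castSucc (Fin.last r)
      rw [Fin.snoc_castSucc, Fin.snoc_last] at this
      exact this.eq
    · rintro ⟨i, hi⟩
      have := hinj (a₁ := i.castSucc) (a₂ := Fin.last r) (by
        rw [Fin.snoc_castSucc, Fin.snoc_last]
        exact hi)
      exact (Fin.castSucc_lt_last i).ne this
  · rintro ⟨⟨hinj, hcomm⟩, hcen, hnot⟩
    rw [Subgroup.mem_centralizer_iff] at hcen
    refine ⟨?_, ?_⟩
    · intro a b hab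
      induction a using Fin.lastCases with
      | last =>
        induction b using Fin.lastCases with
        | last => rfl
        | cast b =>
          rw [Fin.snoc_last, Fin.snoc_castSucc] at hab
          exact absurd ⟨b, hab.symm⟩ hnot
      | cast a =>
        induction b using Fin.lastCases with
        | last =>
          rw [Fin.snoc_last, Fin.snoc_castSucc] at hab
          exact absurd ⟨a, hab⟩ hnot
        | cast b =>
          rw [Fin.snoc_castSucc, Fin.snoc_castSucc] at hab
          rw [hinj hab]
    · intro a b
      induction a using Fin.lastCases with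
      | last =>
        induction b using Fin.lastCases with
        | last => exact Commute.refl _
        | cast b =>
          rw [Fin.snoc_last, Fin.snoc_castSucc]
          exact (hcen (s b) ⟨b, rfl⟩).symm
      | cast a =>
        induction b using Fin.lastCases with
        | last =>
          rw [Fin.snoc_last, Fin.snoc_castSucc]
          exact hcen (s a) ⟨a, rfl⟩
        | cast b =>
          rw [Fin.snoc_castSucc, Fin.snoc_castSucc]
          exact hcomm a b

end OnClasses

end Groth.Agent.Lib.Helper22.Inertia
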