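import Mathlib
import Groth.Agent.Lib.Helper22.Inertia3

/-!
# The inertia operators: the recursion on `K`
-/

set_option autoImplicit false

namespace Groth.Agent.Lib.Helper22.Inertia

open W4c5stacksedinertia

universe u

section Recursion

variable (G : Type u) [Group G] [Finite G]

open Classical in
theorem inertia_phi (r : ℕ) :
    inertia (phi G r) = phi G (r + 1) + (r : ℚ) • phi G r := by
  letI : Fintype G := Fintype.ofFinite G
  unfold phi
  rw [finsum_eq_sum_of_fintype, finsum_eq_sum_of_fintype, map_sum]
  -- reindex the sum over `(r+1)`-tuples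
  have h1 : (∑ t : Fin (r + 1) → G, if IsCT t then termS G (Set.range t) else 0) =
      ∑ s : Fin r → G, ∑ h : G,
        if IsCT s ∧ h ∈ Subgroup.centralizer (Set.range s) ∧ h ∉ Set.range s then
          termS G (insert h (Set.range s)) else 0 := by
    rw [← Equiv.sum_comp (Fin.snocEquiv (fun _ : Fin (r + 1) => G)), Fintype.sum_prod_type,
      Finset.sum_comm]
    refine Finset.sum_congr rfl (fun s _ => Finset.sum_congr rfl (fun h _ => ?_))
    have h2 : (Fin.snocEquiv (fun _ : Fin (r + 1) => G)) (h, s) = (Fin.snoc s h : Fin (r + 1) → G) :=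
      rfl
    rw [h2, Fin.range_snoc]
    by_cases hc : IsCT (Fin.snoc s h : Fin (r + 1) → G)
    · rw [if_pos hc, if_pos ((isCT_snoc s h).1 hc)]
    · rw [if_neg hc, if_neg (fun h' => hc ((isCT_snoc s h).2 h'))]
  rw [h1, Finset.smul_sum, ← Finset.sum_add_distrib]
  refine Finset.sum_congr rfl (fun s _ => ?_)
  by_cases hs : IsCT s
  · rw [if_pos hs, inertia_termS, finsum_eq_sum_of_fintype]
    -- split according to `h ∈ range s`
    have h3 : ∀ h : G, (if h ∈ Subgroup.centralizer (Set.range s) then
        termS G (insert h (Set.range s)) else 0) =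
        (if IsCT s ∧ h ∈ Subgroup.centralizer (Set.range s) ∧ h ∉ Set.range s then
          termS G (insert h (Set.range s)) else 0) +
        (if h ∈ Set.range s then termS G (Set.range s) else 0) := by
      intro h
      by_cases hr : h ∈ Set.range s
      · have hcen : h ∈ Subgroup.centralizer (Set.range s) := by
          rw [Subgroup.mem_centralizer_iff]
          rintro _ ⟨i, rfl⟩
          obtain ⟨j, rfl⟩ := hr
          exact (hs.2 i j).eq
        rw [if_pos hcen, if_neg (fun h' => h'.2.2 hr), if_pos hr, zero_add,
          Set.insert_eq_of_mem hr]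
      · rw [if_neg hr, add_zero]
        by_cases hcen : h ∈ Subgroup.centralizer (Set.range s)
        · rw [if_pos hcen, if_pos ⟨hs, hcen, hr⟩]
        · rw [if_neg hcen, if_neg (fun h' => hcen h'.2.1)]
    simp_rw [h3]
    rw [Finset.sum_add_distrib]
    congr 1
    rw [← Finset.sum_filter, Finset.sum_const]
    have hcard : (Finset.univ.filter (fun h : G => h ∈ Set.range s)).card = r := by
      have : Finset.univ.filter (fun h : G => h ∈ Set.range s) = Finset.univ.image s := by
        ext h
        simp
      rw [this, Finset.card_image_of_injective _ hs.1, Finset.card_univ, Fintype.card_fin]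
    rw [hcard, Nat.cast_smul_eq_nsmul]
  · rw [if_neg hs, map_zero, smul_zero, add_zero]
    symm
    refine Finset.sum_eq_zero (fun h _ => ?_)
    rw [if_neg (fun h' => hs h'.1)]

end Recursion

section Operators

/-- `I ∘ I_r = I_{r+1} + r I_r`. -/
theorem inertia_comp_inertiaR (r : ℕ) (v : K) :
    inertia (inertiaR r v) = inertiaR (r + 1) v + (r : ℚ) • inertiaR r v := by
  have h : inertia ∘ₗ inertiaR r = inertiaR (r + 1) + (r : ℚ) • inertiaR r := by
    apply Finsupp.lhom_ext
    intro i c
    have h1 : (Finsupp.single i c : K) = c • cl i.rep := by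
      rw [cl_rep, Finsupp.smul_single, smul_eq_mul, mul_one]
    simp only [LinearMap.comp_apply, LinearMap.add_apply, LinearMap.smul_apply]
    rw [h1, map_smul, map_smul, map_smul, inertiaR_cl, inertiaR_cl, inertia_phi]
    rw [smul_add, smul_comm]
  exact LinearMap.congr_fun h v

/-- `I_0` is the identity. -/
theorem inertiaR_zero (v : K) : inertiaR 0 v = v := by
  classical
  have h : inertiaR 0 = LinearMap.id := by
    apply Finsupp.lhom_ext
    intro i c
    have h1 : (Finsupp.single i c : K) = c • cl i.rep := by
      rw [cl_rep, Finsupp.smul_single, smul_eq_mul, mul_one]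
    rw [LinearMap.id_apply, h1, map_smul, inertiaR_cl]
    congr 1
    unfold phi
    rw [finsum_unique]
    have hct : IsCT (default : Fin 0 → i.rep) := ⟨fun a => a.elim0, fun a => a.elim0⟩
    rw [if_pos hct]
    have hrange : Set.range (default : Fin 0 → i.rep) = ∅ := Set.range_eq_empty _
    rw [hrange]
    unfold termS
    have htop : Subgroup.centralizer (∅ : Set i.rep) = ⊤ := by
      rw [Subgroup.centralizer_eq_top_iff_subset]
      exact Set.empty_subset _
    rw [cl_congr ((MulEquiv.subgroupCongr htop).trans Subgroup.topEquiv),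
      Nat.card_congr ((MulEquiv.subgroupCongr htop).trans Subgroup.topEquiv).toEquiv]
    have hpos : (Nat.card i.rep : ℚ) ≠ 0 := by
      exact_mod_cast (Nat.card_pos (α := i.rep)).ne'
    rw [div_self hpos, one_smul]
  rw [h, LinearMap.id_apply]

end Operators

end Groth.Agent.Lib.Helper22.Inertia
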