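import Mathlib
import Groth.Agent.Lib.Helper22.Inertia4

/-!
# The inertia operators: eigenvalues and the centre filtration
-/

set_option autoImplicit false

namespace Groth.Agent.Lib.Helper22.Inertia

open W4c5stacksedinertia

universe u

section Eigen

/-- on an eigenvector of the inertia operator, `I_r` acts by the falling factorial. -/
theorem inertiaR_of_eigen (k : ℕ) (v : K) (hv : inertia v = (k : ℚ) • v) (r : ℕ) :
    inertiaR r v = ((Nat.descFactorial k r : ℕ) : ℚ) • v := by
  induction r with
  | zero => rw [inertiaR_zero, Nat.descFactorial_zero, Nat.cast_one, one_smul]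
  | succ r ih =>
    have h1 := inertia_comp_inertiaR r v
    rw [ih, map_smul, hv] at h1
    have h2 : inertiaR (r + 1) v = ((Nat.descFactorial k r : ℕ) : ℚ) • (k : ℚ) • v -
        (r : ℚ) • ((Nat.descFactorial k r : ℕ) : ℚ) • v := by
      rw [h1]
      abel
    rw [h2, smul_smul, smul_smul, ← sub_smul]
    congr 1
    rw [Nat.descFactorial_succ]
    by_cases hkr : r ≤ k
    · push_cast [Nat.cast_sub hkr]
      ring
    · have h0 : Nat.descFactorial k r = 0 := Nat.descFactorial_of_lt (by omega)
      rw [h0]
      simp

end Eigen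

section Centre

variable (G : Type u) [Group G] [Finite G]

theorem centerCard_of : (Idx.of G).centerCard = Nat.card (Subgroup.center G) := by
  unfold Idx.centerCard
  exact Nat.card_congr (Subgroup.centerCongr (repEquiv G)).toEquiv

theorem card_of : (Idx.of G).card = Nat.card G := by
  unfold Idx.card
  exact Nat.card_congr (repEquiv G).toEquiv

theorem cl_mem_Kge (k : ℕ) (h : k ≤ Nat.card (Subgroup.center G)) : cl G ∈ Kge k := by
  unfold cl Kge
  apply Finsupp.single_mem_supported
  show k ≤ (Idx.of G).centerCard
  rw [centerCard_of]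
  exact h

variable {G}

/-- a tuple is central. -/
def IsCentral {r : ℕ} (s : Fin r → G) : Prop := ∀ i, s i ∈ Subgroup.center G

theorem termS_of_isCentral {r : ℕ} (s : Fin r → G) (hs : IsCentral s) :
    termS G (Set.range s) = cl G := by
  unfold termS
  have htop : Subgroup.centralizer (Set.range s) = ⊤ := by
    rw [Subgroup.centralizer_eq_top_iff_subset]
    rintro _ ⟨i, rfl⟩
    exact hs i
  rw [cl_congr ((MulEquiv.subgroupCongr htop).trans Subgroup.topEquiv),
    Nat.card_congr ((MulEquiv.subgroupCongr htop).trans Subgroup.topEquiv).toEquiv]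
  have hpos : (Nat.card G : ℚ) ≠ 0 := by
    exact_mod_cast (Nat.card_pos (α := G)).ne'
  rw [div_self hpos, one_smul]

theorem isCT_of_isCentral {r : ℕ} (s : Fin r → G) (hinj : Function.Injective s)
    (hs : IsCentral s) : IsCT s :=
  ⟨hinj, fun i j => (Subgroup.mem_center_iff.1 (hs j) (s i))⟩

/-- the centre of the centralizer of a non-central commuting tuple is bigger. -/
theorem card_center_lt {r : ℕ} (s : Fin r → G) (hs : IsCT s) (hnc : ¬ IsCentral s) :
    Nat.card (Subgroup.center G) <
      Nat.card (Subgroup.center (Subgroup.centralizer (Set.range s))) := by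
  classical
  set H := Subgroup.centralizer (Set.range s) with hH
  unfold IsCentral at hnc
  push Not at hnc
  obtain ⟨i₀, hi₀⟩ := hnc
  have hmemH : ∀ i, s i ∈ H := by
    intro i
    rw [hH, Subgroup.mem_centralizer_iff]
    rintro _ ⟨j, rfl⟩
    exact (hs.2 j i).eq
  let f : Subgroup.center G → Subgroup.center H := fun z =>
    ⟨⟨z.1, by
      rw [hH, Subgroup.mem_centralizer_iff]
      intro y _
      exact (Subgroup.mem_center_iff.1 z.2 y)⟩, by
      rw [Subgroup.mem_center_iff]
      intro y
      apply Subtype.ext
      exact Subgroup.mem_center_iff.1 z.2 y.1⟩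
  have hf : Function.Injective f := by
    intro a b hab
    apply Subtype.ext
    have := congrArg (fun x : Subgroup.center H => ((x : H) : G)) hab
    exact this
  let b : Subgroup.center H := ⟨⟨s i₀, hmemH i₀⟩, by
    rw [Subgroup.mem_center_iff]
    intro y
    apply Subtype.ext
    show y.1 * s i₀ = s i₀ * y.1
    exact (Subgroup.mem_centralizer_iff.1 y.2 (s i₀) ⟨i₀, rfl⟩).symm⟩
  have hb : b ∉ Set.range f := by
    rintro ⟨z, hz⟩
    have : z.1 = s i₀ := congrArg (fun x : Subgroup.center H => ((x : H) : G)) hz
    exact hi₀ (this ▸ z.2)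
  letI : Fintype (Subgroup.center G) := Fintype.ofFinite _
  letI : Fintype (Subgroup.center H) := Fintype.ofFinite _
  rw [Nat.card_eq_fintype_card, Nat.card_eq_fintype_card]
  exact Fintype.card_lt_of_injective_of_notMem f hf hb

open Classical in
/-- the number of injective central tuples. -/
theorem card_central_tuples [Fintype G] (r : ℕ) :
    (Finset.univ.filter (fun s : Fin r → G => Function.Injective s ∧ IsCentral s)).card =
      Nat.descFactorial (Nat.card (Subgroup.center G)) r := by
  letI : Fintype (Subgroup.center G) := Fintype.ofFinite _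
  rw [Nat.card_eq_fintype_card]
  have h1 := Fintype.card_embedding_eq (α := Fin r) (β := Subgroup.center G)
  rw [Fintype.card_fin] at h1
  rw [← h1, ← Fintype.card_coe]
  apply Fintype.card_congr
  refine
    { toFun := fun s => ⟨fun i => ⟨s.1 i, (Finset.mem_filter.1 s.2).2.2 i⟩, fun a b hab =>
        (Finset.mem_filter.1 s.2).2.1 (congrArg (fun x : Subgroup.center G => (x : G)) hab)⟩
      invFun := fun e => ⟨fun i => (e i : G), Finset.mem_filter.2 ⟨Finset.mem_univ _,
        fun a b hab => e.injective (Subtype.ext hab), fun i => (e i).2⟩⟩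
      left_inv := fun s => rfl
      right_inv := fun e => rfl }

open Classical in
/-- **the diagonal of `I_r` on the centre filtration.** -/
theorem phi_sub_mem_Kge (r : ℕ) :
    phi G r - ((Nat.descFactorial (Nat.card (Subgroup.center G)) r : ℕ) : ℚ) • cl G ∈
      Kge (Nat.card (Subgroup.center G) + 1) := by
  letI : Fintype G := Fintype.ofFinite G
  unfold phi
  rw [finsum_eq_sum_of_fintype]
  have h1 : ∀ s : Fin r → G, (if IsCT s then termS G (Set.range s) else 0) =
      (if Function.Injective s ∧ IsCentral s then cl G else 0) +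
      (if IsCT s ∧ ¬ IsCentral s then termS G (Set.range s) else 0) := by
    intro s
    by_cases hc : IsCentral s
    · by_cases hinj : Function.Injective s
      · rw [if_pos (isCT_of_isCentral s hinj hc), if_pos ⟨hinj, hc⟩, if_neg (fun h => h.2 hc),
          add_zero, termS_of_isCentral s hc]
      · rw [if_neg (fun h : IsCT s => hinj h.1), if_neg (fun h => hinj h.1),
          if_neg (fun h => h.2 hc), add_zero]
    · have e1 : (if Function.Injective s ∧ IsCentral s then cl G else 0) = 0 :=
        if_neg (fun h => hc h.2)
      rw [e1, zero_add]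
      by_cases hs : IsCT s
      · rw [if_pos hs, if_pos ⟨hs, hc⟩]
      · rw [if_neg hs, if_neg (fun h => hs h.1)]
  simp_rw [h1]
  rw [Finset.sum_add_distrib, ← Finset.sum_filter, Finset.sum_const, card_central_tuples,
    Nat.cast_smul_eq_nsmul, add_sub_cancel_left]
  apply Submodule.sum_mem
  intro s _
  by_cases hs : IsCT s ∧ ¬ IsCentral s
  · rw [if_pos hs]
    unfold termS
    apply Submodule.smul_mem
    apply cl_mem_Kge
    exact card_center_lt s hs.1 hs.2
  · rw [if_neg hs]
    exact Submodule.zero_mem _

end Centre

end Groth.Agent.Lib.Helper22.Inertia
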