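import Mathlib
import Groth.Agent.Lib.Helper22.Inertia5
import Groth.Agent.S18020

/-!
# The inertia operators: diagonalisation
-/

set_option autoImplicit false

namespace Groth.Agent.Lib.Helper22.Inertia

open W4c5stacksedinertia

universe u

section Filt

theorem Kge_anti {k l : ℕ} (h : k ≤ l) : Kge l ≤ Kge k := by
  unfold Kge
  apply Finsupp.supported_mono
  intro i hi
  exact le_trans h hi

theorem Kge_one : Kge 1 = ⊤ := by
  unfold Kge
  rw [← Finsupp.supported_univ]
  congr 1
  ext i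
  simp only [Set.mem_setOf_eq, Set.mem_univ, iff_true]
  unfold Idx.centerCard
  exact Nat.card_pos

theorem centerCard_le_card (i : Idx) : i.centerCard ≤ i.card := by
  unfold Idx.centerCard Idx.card
  exact Nat.card_le_card_of_injective _ Subtype.val_injective

theorem Kle_inf_Kge (N : ℕ) : Kle N ⊓ Kge (N + 1) = ⊥ := by
  rw [eq_bot_iff]
  rintro v ⟨h1, h2⟩
  unfold Kle at h1
  unfold Kge at h2
  rw [SetLike.mem_coe, Finsupp.mem_supported] at h1 h2
  rw [Submodule.mem_bot, ← Finsupp.support_eq_empty, Finset.eq_empty_iff_forall_notMem]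
  intro i hi
  have a1 : i.card ≤ N := h1 hi
  have a2 : N + 1 ≤ i.centerCard := h2 hi
  have := centerCard_le_card i
  omega

theorem exists_mem_Kle (v : K) : ∃ N, v ∈ Kle N := by
  refine ⟨v.support.sup Idx.card, ?_⟩
  unfold Kle
  rw [Finsupp.mem_supported]
  intro i hi
  exact Finset.le_sup (f := Idx.card) hi

theorem inertiaR_single_sub_mem_Kge (r : ℕ) (i : Idx) :
    inertiaR r (Finsupp.single i 1) -
      ((Nat.descFactorial i.centerCard r : ℕ) : ℚ) • Finsupp.single i (1 : ℚ) ∈
      Kge (i.centerCard + 1) := by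
  rw [← cl_rep i, inertiaR_cl]
  exact phi_sub_mem_Kge (G := i.rep) r

/-- `I_r` is triangular with respect to the centre filtration. -/
theorem inertiaR_sub_mem_Kge (r k : ℕ) (v : K) (hv : v ∈ Kge k) :
    inertiaR r v - ((Nat.factorial r * Nat.choose k r : ℕ) : ℚ) • v ∈ Kge (k + 1) := by
  set L : K →ₗ[ℚ] K := inertiaR r - ((Nat.factorial r * Nat.choose k r : ℕ) : ℚ) • LinearMap.id
    with hL
  have hLv : ∀ w, L w = inertiaR r w - ((Nat.factorial r * Nat.choose k r : ℕ) : ℚ) • w := by
    intro w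
    rw [hL]
    simp
  rw [← hLv]
  have key : Kge k ≤ (Kge (k + 1)).comap L := by
    conv_lhs => unfold Kge
    rw [Finsupp.supported_eq_span_single, Submodule.span_le]
    rintro _ ⟨i, hi, rfl⟩
    rw [SetLike.mem_coe, Submodule.mem_comap, hLv]
    have hi' : k ≤ i.centerCard := hi
    have h0 := inertiaR_single_sub_mem_Kge r i
    rcases Nat.eq_or_lt_of_le hi' with h | h
    · rw [← h] at h0
      rw [← Nat.descFactorial_eq_factorial_mul_choose]
      exact h0
    · have hs : Finsupp.single i (1 : ℚ) ∈ Kge (k + 1) := by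
        unfold Kge
        exact Finsupp.single_mem_supported _ _ h
      have h1 : inertiaR r (Finsupp.single i 1) -
          ((Nat.descFactorial i.centerCard r : ℕ) : ℚ) • Finsupp.single i (1 : ℚ) ∈
            Kge (k + 1) := Kge_anti (by omega) h0
      have h2 := Submodule.add_mem _ h1
        (Submodule.smul_mem _ ((Nat.descFactorial i.centerCard r : ℕ) : ℚ) hs)
      rw [sub_add_cancel] at h2
      exact Submodule.sub_mem _ h2 (Submodule.smul_mem _ _ hs)
  exact key hv

theorem inertia_sub_mem_Kge (k : ℕ) (v : K) (hv : v ∈ Kge k) :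
    inertia v - (k : ℚ) • v ∈ Kge (k + 1) := by
  have := inertiaR_sub_mem_Kge 1 k v hv
  simpa using this

end Filt

section Diag

/-- the span of the eigenspaces with eigenvalue at least `k`. -/
noncomputable def S (k : ℕ) : Submodule ℚ K :=
  ⨆ n : ℕ, Module.End.eigenspace inertia ((k + n : ℕ) : ℚ)

theorem eigenspace_le_S (k : ℕ) : Module.End.eigenspace inertia (k : ℚ) ≤ S k :=
  le_iSup_of_le 0 (by rw [Nat.add_zero])

theorem S_succ_le (k : ℕ) : S (k + 1) ≤ S k := by
  apply iSup_le
  intro n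
  refine le_iSup_of_le (n + 1) ?_
  rw [show k + (n + 1) = k + 1 + n by omega]

theorem S_anti {k l : ℕ} (h : k ≤ l) : S l ≤ S k := by
  induction h with
  | refl => exact le_rfl
  | step _ ih => exact (S_succ_le _).trans ih

theorem S_zero : S 0 = ⨆ n : ℕ, Module.End.eigenspace inertia (n : ℚ) := by
  unfold S
  simp only [Nat.zero_add]

/-- solving `(I - k) v' = w` on the span of higher eigenspaces. -/
theorem exists_solve (k : ℕ) (w : K) (hw : w ∈ S (k + 1)) :
    ∃ v' ∈ S (k + 1), inertia v' - (k : ℚ) • v' = w := by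
  unfold S at hw
  induction hw using Submodule.iSup_induction' with
  | mem n x hx =>
    rw [Module.End.mem_eigenspace_iff] at hx
    have hne : (((k + 1 + n : ℕ) : ℚ) - (k : ℚ)) ≠ 0 := by
      push_cast
      have : (0 : ℚ) ≤ n := Nat.cast_nonneg n
      linarith
    refine ⟨(((k + 1 + n : ℕ) : ℚ) - (k : ℚ))⁻¹ • x, ?_, ?_⟩
    · apply Submodule.smul_mem
      exact le_iSup_of_le (f := fun n : ℕ => Module.End.eigenspace inertia ((k + 1 + n : ℕ) : ℚ))
        n le_rfl (Module.End.mem_eigenspace_iff.2 hx)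
    · rw [map_smul, hx, smul_comm ((k : ℚ)) , ← smul_sub, ← sub_smul, smul_smul,
        inv_mul_cancel₀ hne, one_smul]
  | zero => exact ⟨0, Submodule.zero_mem _, by simp⟩
  | add x y _ _ hx hy =>
    obtain ⟨a, ha, ha'⟩ := hx
    obtain ⟨b, hb, hb'⟩ := hy
    refine ⟨a + b, Submodule.add_mem _ ha hb, ?_⟩
    rw [map_add, smul_add, ← ha', ← hb']
    abel

theorem mem_S_of_mem (N : ℕ) : ∀ (j k : ℕ), k + j = N + 1 → ∀ v ∈ Kle N ⊓ Kge k, v ∈ S k := by
  intro j
  induction j with
  | zero =>
    intro k hk v hv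
    rw [Nat.add_zero] at hk
    rw [hk, Kle_inf_Kge, Submodule.mem_bot] at hv
    rw [hv]
    exact Submodule.zero_mem _
  | succ j ih =>
    intro k hk v hv
    have hw : inertia v - (k : ℚ) • v ∈ Kle N ⊓ Kge (k + 1) :=
      ⟨Submodule.sub_mem _ (Groth.Agent.S18020.result N v hv.1) (Submodule.smul_mem _ _ hv.1),
        inertia_sub_mem_Kge k v hv.2⟩
    have hw' := ih (k + 1) (by omega) _ hw
    obtain ⟨v', hv', hv''⟩ := exists_solve k _ hw'
    have h1 : v - v' ∈ Module.End.eigenspace inertia (k : ℚ) := by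
      rw [Module.End.mem_eigenspace_iff, map_sub, smul_sub]
      have : inertia v - (k : ℚ) • v = inertia v' - (k : ℚ) • v' := hv''.symm
      rw [sub_eq_sub_iff_add_eq_add] at this ⊢
      rw [this]
      abel
    have h2 : v = (v - v') + v' := by abel
    rw [h2]
    exact Submodule.add_mem _ (eigenspace_le_S k h1) (S_succ_le k hv')

theorem S_one : S 1 = ⊤ := by
  rw [eq_top_iff]
  intro v _
  obtain ⟨N, hN⟩ := exists_mem_Kle v
  by_cases h : 1 ≤ N + 1
  · obtain ⟨j, hj⟩ := Nat.exists_eq_add_of_le h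
    exact mem_S_of_mem N j 1 hj.symm v ⟨hN, by rw [Kge_one]; trivial⟩
  · omega

theorem iSup_eigenspace : (⨆ n : ℕ, Module.End.eigenspace inertia (n : ℚ)) = ⊤ := by
  rw [← S_zero, eq_top_iff, ← S_one]
  exact S_anti (Nat.zero_le 1)

theorem eigenspace_eq_bot (μ : ℚ) (hμ : ∀ n : ℕ, 0 < n → μ ≠ (n : ℚ)) :
    Module.End.eigenspace inertia μ = ⊥ := by
  have h1 := (Module.End.eigenspaces_iSupIndep inertia) μ
  have h2 : (⊤ : Submodule ℚ K) ≤ ⨆ (j : ℚ) (_ : j ≠ μ), Module.End.eigenspace inertia j := by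
    rw [← S_one]
    apply iSup_le
    intro n
    exact le_iSup₂_of_le (((1 + n : ℕ)) : ℚ) (fun h => hμ (1 + n) (by omega) h.symm) le_rfl
  exact disjoint_top.1 (h1.mono_right h2)

end Diag

end Groth.Agent.Lib.Helper22.Inertia
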