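import Mathlib
import Groth.Agent.Lib.Helper22.Inertia6

/-!
# The inertia operators: spectrum
-/

set_option autoImplicit false

namespace Groth.Agent.Lib.Helper22.Inertia

open W4c5stacksedinertia

universe u

theorem cl_mem_Kle (G : Type u) [Group G] [Finite G] : cl G ∈ Kle (Nat.card G) := by
  unfold cl Kle
  apply Finsupp.single_mem_supported
  show (Idx.of G).card ≤ Nat.card G
  rw [card_of]

theorem cl_ne_zero (G : Type u) [Group G] [Finite G] : cl G ≠ 0 := by
  unfold cl
  intro h
  rw [Finsupp.single_eq_zero] at h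
  exact one_ne_zero h

theorem inertia_cl_of_comm (G : Type u) [CommGroup G] [Finite G] :
    inertia (cl G) = (Nat.card G : ℚ) • cl G := by
  have hc : Nat.card (Subgroup.center G) = Nat.card G := by
    have htop : Subgroup.center G = ⊤ := Subgroup.center_eq_top
    exact Nat.card_congr ((MulEquiv.subgroupCongr htop).trans Subgroup.topEquiv).toEquiv
  have h := phi_sub_mem_Kge (G := G) 1
  rw [hc, Nat.descFactorial_one, ← inertiaR_cl] at h
  have h2 : inertiaR 1 (cl G) - (Nat.card G : ℚ) • cl G ∈ Kle (Nat.card G) :=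
    Submodule.sub_mem _ (Groth.Agent.S18020.result _ _ (cl_mem_Kle G))
      (Submodule.smul_mem _ _ (cl_mem_Kle G))
  have h3 : inertiaR 1 (cl G) - (Nat.card G : ℚ) • cl G ∈ Kle (Nat.card G) ⊓
      Kge (Nat.card G + 1) := ⟨h2, h⟩
  rw [Kle_inf_Kge, Submodule.mem_bot, sub_eq_zero] at h3
  exact h3

theorem hasEigenvalue_of_pos (n : ℕ) (hn : 0 < n) :
    Module.End.HasEigenvalue inertia (n : ℚ) := by
  haveI : NeZero n := ⟨hn.ne'⟩
  have h := inertia_cl_of_comm (Multiplicative (ZMod n))
  have hcard : Nat.card (Multiplicative (ZMod n)) = n := by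
    rw [Nat.card_congr Multiplicative.toAdd, Nat.card_zmod]
  rw [hcard] at h
  exact Module.End.hasEigenvalue_of_hasEigenvector
    (x := cl (Multiplicative (ZMod n)))
    ⟨Module.End.mem_eigenspace_iff.2 h, cl_ne_zero _⟩

theorem hasEigenvalue_iff (μ : ℚ) :
    Module.End.HasEigenvalue inertia μ ↔ ∃ n : ℕ, 0 < n ∧ μ = (n : ℚ) := by
  constructor
  · intro h
    by_contra hcon
    push Not at hcon
    exact h (eigenspace_eq_bot μ hcon)
  · rintro ⟨n, hn, rfl⟩
    exact hasEigenvalue_of_pos n hn

end Groth.Agent.Lib.Helper22.Inertia
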