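import Mathlib
import Groth.Agent.Lib.Helper22.Inertia7

/-!
# The inertia operators as polynomials in the inertia operator; kernels
-/

set_option autoImplicit false

namespace Groth.Agent.Lib.Helper22.Inertia

open W4c5stacksedinertia Polynomial

universe u

theorem inertiaR_eq_aeval (r : ℕ) : inertiaR r = aeval inertia (descPochhammer ℚ r) := by
  induction r with
  | zero =>
    rw [descPochhammer_zero, map_one]
    apply LinearMap.ext
    intro v
    rw [inertiaR_zero, Module.End.one_apply]
  | succ r ih =>
    rw [descPochhammer_succ_right, mul_comm, map_mul, map_sub, aeval_X, map_natCast, ← ih]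
    apply LinearMap.ext
    intro v
    rw [Module.End.mul_apply, LinearMap.sub_apply, inertia_comp_inertiaR]
    have : ((r : Module.End ℚ K)) (inertiaR r v) = (r : ℚ) • inertiaR r v := by
      rw [Nat.cast_smul_eq_nsmul ℚ]
      simp
    rw [this, add_sub_cancel_right]

theorem isCoprime_desc (r : ℕ) : IsCoprime (descPochhammer ℚ r) (X - (r : ℚ[X])) := by
  have h1 : (X - (r : ℚ[X])) = X - C (r : ℚ) := by rw [C_eq_natCast]
  rw [h1]
  apply IsCoprime.symm
  rw [(irreducible_X_sub_C (r : ℚ)).coprime_iff_not_dvd, dvd_iff_isRoot, IsRoot.def,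
    descPochhammer_eval_eq_descFactorial, Nat.descFactorial_self]
  exact_mod_cast (Nat.factorial_pos r).ne'

theorem ker_aeval_X_sub (r : ℕ) :
    LinearMap.ker (aeval inertia (X - (r : ℚ[X]))) = Module.End.eigenspace inertia (r : ℚ) := by
  rw [Module.End.eigenspace_def, map_sub, aeval_X, map_natCast]
  congr 2

theorem ker_inertiaR (r : ℕ) :
    LinearMap.ker (inertiaR r) =
      ⨆ k ∈ Finset.range r, Module.End.eigenspace inertia (k : ℚ) := by
  induction r with
  | zero =>
    rw [Finset.range_zero]
    simp only [Finset.notMem_empty, iSup_false, iSup_bot]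
    rw [LinearMap.ker_eq_bot]
    intro a b hab
    rwa [inertiaR_zero, inertiaR_zero] at hab
  | succ r ih =>
    rw [inertiaR_eq_aeval, descPochhammer_succ_right,
      ← sup_ker_aeval_eq_ker_aeval_mul_of_coprime _ (isCoprime_desc r), ← inertiaR_eq_aeval, ih,
      Finset.range_add_one, Finset.iSup_insert, sup_comm, ker_aeval_X_sub]

end Groth.Agent.Lib.Helper22.Inertia
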