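import Mathlib
import Groth.Agent.Lib.Helper22.Inertia8

/-!
# The inertia operators: the eigenprojections
-/

set_option autoImplicit false

namespace Groth.Agent.Lib.Helper22.Inertia

open W4c5stacksedinertia

universe u

section Binom

open Finset

theorem binom_inv_int (n k : ℕ) :
    ∑ r ∈ range (n + 1), ((-1 : ℤ) ^ (r + k) * ((r.choose k : ℤ) * (n.choose r : ℤ))) =
      if n = k then 1 else 0 := by
  by_cases hkn : k ≤ n
  · obtain ⟨m, rfl⟩ := Nat.exists_eq_add_of_le hkn
    rw [show k + m + 1 = k + (m + 1) by omega, sum_range_add]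
    have h1 : ∑ r ∈ range k, ((-1 : ℤ) ^ (r + k) * ((r.choose k : ℤ) * ((k + m).choose r : ℤ))) =
        0 := by
      apply sum_eq_zero
      intro r hr
      rw [Nat.choose_eq_zero_of_lt (mem_range.1 hr)]
      simp
    rw [h1, zero_add]
    have h2 : ∀ j ∈ range (m + 1),
        ((-1 : ℤ) ^ (k + j + k) * (((k + j).choose k : ℤ) * ((k + m).choose (k + j) : ℤ))) =
          ((k + m).choose k : ℤ) * ((-1 : ℤ) ^ j * (m.choose j : ℤ)) := by
      intro j _
      have e1 : (k + m).choose (k + j) * (k + j).choose k =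
          (k + m).choose k * (k + m - k).choose (k + j - k) :=
        Nat.choose_mul (Nat.le_add_right k j)
      rw [Nat.add_sub_cancel_left, Nat.add_sub_cancel_left] at e1
      have e2 : (-1 : ℤ) ^ (k + j + k) = (-1) ^ j := by
        rw [show k + j + k = j + 2 * k by ring, pow_add, pow_mul]
        simp
      rw [e2, mul_comm ((k + j).choose k : ℤ)]
      have e3 : (((k + m).choose (k + j) : ℤ)) * ((k + j).choose k : ℤ) =
          ((k + m).choose k : ℤ) * (m.choose j : ℤ) := by
        exact_mod_cast e1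
      rw [e3]
      ring
    rw [sum_congr rfl h2, ← mul_sum, Int.alternating_sum_range_choose]
    by_cases hm : m = 0
    · subst hm
      simp
    · rw [if_neg hm, if_neg (by omega), mul_zero]
  · rw [if_neg (by omega)]
    apply sum_eq_zero
    intro r hr
    rw [Nat.choose_eq_zero_of_lt (by have := mem_range.1 hr; omega)]
    simp

/-- the coefficients of the eigenprojections. -/
noncomputable def coef (r k : ℕ) : ℚ :=
  ((-1 : ℚ) ^ (r + k)) / (Nat.factorial r : ℚ) * (Nat.choose r k : ℚ)

theorem binom_inv (n k : ℕ) :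
    ∑ r ∈ range (n + 1), coef r k * ((Nat.descFactorial n r : ℕ) : ℚ) =
      if n = k then 1 else 0 := by
  have h := congrArg (fun z : ℤ => (z : ℚ)) (binom_inv_int n k)
  simp only [Int.cast_sum, Int.cast_mul, Int.cast_pow, Int.cast_neg, Int.cast_one,
    Int.cast_natCast, Int.cast_ite, Int.cast_zero] at h
  rw [← h]
  apply sum_congr rfl
  intro r _
  unfold coef
  rw [Nat.descFactorial_eq_factorial_mul_choose]
  have : (Nat.factorial r : ℚ) ≠ 0 := by exact_mod_cast (Nat.factorial_pos r).ne'
  push_cast
  field_simp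

theorem coef_eq_zero {r k : ℕ} (h : r < k) : coef r k = 0 := by
  unfold coef
  rw [Nat.choose_eq_zero_of_lt h]
  simp

end Binom

section Proj

/-- the eigenprojection operators. -/
noncomputable def P (k : ℕ) (v : K) : K := ∑ᶠ r : ℕ, coef r k • inertiaR r v

theorem exists_bound (v : K) : ∃ M, ∀ r, M ≤ r → inertiaR r v = 0 := by
  have hv : v ∈ ⨆ n : ℕ, Module.End.eigenspace inertia (n : ℚ) := by
    rw [iSup_eigenspace]
    trivial
  induction hv using Submodule.iSup_induction' with
  | mem n x hx =>
    refine ⟨n + 1, fun r hr => ?_⟩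
    rw [inertiaR_of_eigen n x (Module.End.mem_eigenspace_iff.1 hx) r,
      Nat.descFactorial_of_lt (by omega), Nat.cast_zero, zero_smul]
  | zero => exact ⟨0, fun r _ => map_zero _⟩
  | add x y _ _ hx hy =>
    obtain ⟨a, ha⟩ := hx
    obtain ⟨b, hb⟩ := hy
    refine ⟨max a b, fun r hr => ?_⟩
    rw [map_add, ha r (le_trans (le_max_left a b) hr), hb r (le_trans (le_max_right a b) hr),
      add_zero]

theorem P_eq_sum (v : K) (M : ℕ) (hM : ∀ r, M ≤ r → inertiaR r v = 0) (k : ℕ) :
    P k v = ∑ r ∈ Finset.range M, coef r k • inertiaR r v := by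
  unfold P
  apply finsum_eq_sum_of_support_subset
  intro r hr
  rw [Function.mem_support] at hr
  rw [Finset.coe_range, Set.mem_Iio]
  by_contra hlt
  apply hr
  rw [hM r (by omega), smul_zero]

theorem P_add (k : ℕ) (x y : K) : P k (x + y) = P k x + P k y := by
  obtain ⟨a, ha⟩ := exists_bound x
  obtain ⟨b, hb⟩ := exists_bound y
  have ha' : ∀ r, max a b ≤ r → inertiaR r x = 0 := fun r hr =>
    ha r (le_trans (le_max_left a b) hr)
  have hb' : ∀ r, max a b ≤ r → inertiaR r y = 0 := fun r hr =>
    hb r (le_trans (le_max_right a b) hr)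
  have hab : ∀ r, max a b ≤ r → inertiaR r (x + y) = 0 := fun r hr => by
    rw [map_add, ha' r hr, hb' r hr, add_zero]
  rw [P_eq_sum _ _ hab, P_eq_sum _ _ ha', P_eq_sum _ _ hb', ← Finset.sum_add_distrib]
  apply Finset.sum_congr rfl
  intro r _
  rw [map_add, smul_add]

theorem P_zero (k : ℕ) : P k 0 = 0 := by
  unfold P
  simp

theorem P_eq_zero_of_bound (v : K) (M : ℕ) (hM : ∀ r, M ≤ r → inertiaR r v = 0) (k : ℕ)
    (hk : M ≤ k) : P k v = 0 := by
  rw [P_eq_sum v M hM]
  apply Finset.sum_eq_zero
  intro r hr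
  rw [coef_eq_zero (by have := Finset.mem_range.1 hr; omega), zero_smul]

theorem P_support_finite (v : K) : (Function.support fun k => P k v).Finite := by
  obtain ⟨M, hM⟩ := exists_bound v
  apply (Finset.range M).finite_toSet.subset
  intro k hk
  rw [Function.mem_support] at hk
  rw [Finset.coe_range, Set.mem_Iio]
  by_contra hlt
  exact hk (P_eq_zero_of_bound v M hM k (by omega))

theorem P_eigen (n k : ℕ) (v : K) (hv : v ∈ Module.End.eigenspace inertia (n : ℚ)) :
    P k v = if n = k then v else 0 := by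
  have hv' := Module.End.mem_eigenspace_iff.1 hv
  have hM : ∀ r, n + 1 ≤ r → inertiaR r v = 0 := fun r hr => by
    rw [inertiaR_of_eigen n v hv' r, Nat.descFactorial_of_lt (by omega), Nat.cast_zero, zero_smul]
  rw [P_eq_sum v (n + 1) hM]
  have h1 : ∀ r ∈ Finset.range (n + 1), coef r k • inertiaR r v =
      (coef r k * ((Nat.descFactorial n r : ℕ) : ℚ)) • v := by
    intro r _
    rw [inertiaR_of_eigen n v hv' r, smul_smul]
  rw [Finset.sum_congr rfl h1, ← Finset.sum_smul, binom_inv]
  split_ifs
  · rw [one_smul]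
  · rw [zero_smul]

theorem P_mem (k : ℕ) (v : K) : P k v ∈ Module.End.eigenspace inertia (k : ℚ) := by
  have hv : v ∈ ⨆ n : ℕ, Module.End.eigenspace inertia (n : ℚ) := by
    rw [iSup_eigenspace]
    trivial
  induction hv using Submodule.iSup_induction' with
  | mem n x hx =>
    rw [P_eigen n k x hx]
    split_ifs with h
    · rw [← h]
      exact hx
    · exact Submodule.zero_mem _
  | zero =>
    rw [P_zero]
    exact Submodule.zero_mem _
  | add x y _ _ hx hy =>
    rw [P_add]
    exact Submodule.add_mem _ hx hy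

theorem sum_P (v : K) : ∑ᶠ k : ℕ, P k v = v := by
  have hv : v ∈ ⨆ n : ℕ, Module.End.eigenspace inertia (n : ℚ) := by
    rw [iSup_eigenspace]
    trivial
  induction hv using Submodule.iSup_induction' with
  | mem n x hx =>
    rw [finsum_eq_single _ n]
    · rw [P_eigen n n x hx, if_pos rfl]
    · intro k hk
      rw [P_eigen n k x hx, if_neg hk.symm]
  | zero =>
    simp only [P_zero]
    exact finsum_zero
  | add x y _ _ hx hy =>
    simp only [P_add]
    rw [finsum_add_distrib (P_support_finite x) (P_support_finite y), hx, hy]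

end Proj

end Groth.Agent.Lib.Helper22.Inertia
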