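import Mathlib

/-! # Nonemptiness of inverse limits of compact Hausdorff spaces over a directed preorder,
in elementary (compatible families) form. (helper22) -/

namespace Groth.Agent.Lib.Helper22.InvLim

universe u v

theorem invlim_nonempty {ι : Type u} [Preorder ι] [IsDirected ι (· ≤ ·)]
    (G : ι → Type v) [∀ i, TopologicalSpace (G i)] [∀ i, CompactSpace (G i)] [∀ i, T2Space (G i)]
    (f : ∀ ⦃i j : ι⦄, i ≤ j → (G j → G i)) (hf : ∀ i j (h : i ≤ j), Continuous (f h))
    (hid : ∀ i (x : G i), f (le_refl i) x = x)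
    (hcomp : ∀ i j k (hij : i ≤ j) (hjk : j ≤ k) (x : G k), f hij (f hjk x) = f (hij.trans hjk) x)
    (S : ∀ i, Set (G i)) (hS : ∀ i, IsClosed (S i)) (hne : ∀ i, (S i).Nonempty)
    (hmap : ∀ i j (h : i ≤ j), ∀ x ∈ S j, f h x ∈ S i) :
    ∃ z : ∀ i, G i, (∀ i j (h : i ≤ j), f h (z j) = z i) ∧ ∀ i, z i ∈ S i := by
  classical
  rcases isEmpty_or_nonempty ι with hι | hι
  · exact ⟨fun i => (hne i).some, fun i => (hι.false i).elim, fun i => (hι.false i).elim⟩
  let D : ι → Set (∀ i, G i) := fun k => {z | z k ∈ S k ∧ ∀ i (h : i ≤ k), z i = f h (z k)}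
  have hmono : ∀ a c, a ≤ c → D c ⊆ D a := by
    rintro a c hac z ⟨hz1, hz2⟩
    refine ⟨?_, fun i h => ?_⟩
    · rw [hz2 a hac]; exact hmap _ _ hac _ hz1
    · rw [hz2 i (h.trans hac), hz2 a hac, hcomp]
  have hdir : Directed (· ⊇ ·) D := by
    intro a b
    obtain ⟨c, hac, hbc⟩ := exists_ge_ge a b
    exact ⟨c, hmono a c hac, hmono b c hbc⟩
  have hne' : ∀ k, (D k).Nonempty := by
    intro k
    obtain ⟨y, hy⟩ := hne k
    refine ⟨fun i => if h : i ≤ k then f h y else (hne i).some, ?_, ?_⟩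
    · show (if h : k ≤ k then f h y else (hne k).some) ∈ S k
      rw [dif_pos (le_refl k), hid]; exact hy
    · intro i h
      show (if h : i ≤ k then f h y else (hne i).some) =
        f h (if h : k ≤ k then f h y else (hne k).some)
      rw [dif_pos (le_refl k), hid, dif_pos h]
  have hcl : ∀ k, IsClosed (D k) := by
    intro k
    have : D k = (fun z => z k) ⁻¹' S k ∩ ⋂ i, ⋂ (h : i ≤ k), {z | z i = f h (z k)} := by
      ext z; simp [D]
    rw [this]
    exact ((hS k).preimage (continuous_apply k)).inter (isClosed_iInter fun i =>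
      isClosed_iInter fun h => isClosed_eq (continuous_apply i)
        ((hf _ _ h).comp (continuous_apply k)))
  obtain ⟨z, hz⟩ := IsCompact.nonempty_iInter_of_directed_nonempty_isCompact_isClosed D hdir hne'
    (fun k => (hcl k).isCompact) hcl
  rw [Set.mem_iInter] at hz
  exact ⟨z, fun i j h => ((hz j).2 i h).symm, fun i => (hz i).1⟩

end Groth.Agent.Lib.Helper22.InvLim
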