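import Mathlib
import Groth.Prelude.Def_CAlgX
import Groth.Agent.Lib.Helper1.H1Loc
import Groth.Agent.Lib.Helper22.SmoothRank

/-!
# Jacobian criterion over a local ring, with ranks (helper22)

`jc_local`: `A → S → T`, `S` formally smooth over `A` with `Ω[S⁄A]` finite free of rank `n`,
`T` local, `S → T` surjective with kernel generated by `c` elements `ρ`, and
`d = dim_K K ⊗ Ω[T⁄A]` (`K` the residue field of `T`). Then `d + c ≤ n` implies `T` formally
smooth over `A`; conversely if `T` is formally smooth over `A` and `ρ` is `H_1`-regular then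
`d + c = n`.
-/

set_option linter.style.haveILetI false
set_option autoImplicit false
set_option maxHeartbeats 400000

universe u

open TensorProduct KaehlerDifferential IsLocalRing

namespace Groth.Agent.Lib.Helper22.JacFitt

open Groth.Agent.Lib.Helper22

section Local

variable (A S T : Type u) [CommRing A] [CommRing S] [CommRing T] [IsLocalRing T]
  [Algebra A S] [Algebra A T] [Algebra S T] [IsScalarTower A S T]
  [Algebra.FormallySmooth A S] [Module.Free S Ω[S⁄A]] [Module.Finite S Ω[S⁄A]]

theorem jc_local (hST : Function.Surjective (algebraMap S T)) {c : ℕ} (ρ : Fin c → S)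
    (hker : RingHom.ker (algebraMap S T) = Ideal.span (Set.range ρ)) (n : ℕ)
    (hn : Module.finrank S Ω[S⁄A] = n) :
    (Module.finrank (ResidueField T) (ResidueField T ⊗[T] Ω[T⁄A]) + c ≤ n →
        Algebra.FormallySmooth A T) ∧
      (Algebra.FormallySmooth A T → CAlgX.IsH1Regular ρ →
        Module.finrank (ResidueField T) (ResidueField T ⊗[T] Ω[T⁄A]) + c = n) := by
  classical
  let E : Algebra.Extension.{u} A T :=
    { Ring := S, σ := Function.surjInv hST, algebraMap_σ := Function.surjInv_eq hST }
  haveI : Algebra.FormallySmooth A E.Ring := ‹Algebra.FormallySmooth A S›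
  haveI : Module.Free E.Ring Ω[E.Ring⁄A] := ‹Module.Free S Ω[S⁄A]›
  haveI : Module.Finite E.Ring Ω[E.Ring⁄A] := ‹Module.Finite S Ω[S⁄A]›
  have hEker : E.ker = Ideal.span (Set.range ρ) := hker
  have hfg : E.ker.FG := by rw [hEker]; exact Submodule.fg_span (Set.finite_range ρ)
  have hiff := Algebra.FormallySmooth.iff_injective_lTensor_residueField E hfg
  haveI : Module.Finite T E.Cotangent := by
    haveI : Module.Finite E.Ring E.ker := .of_fg hfg
    haveI : Module.Finite E.Ring E.Cotangent :=
      .of_surjective _ (Algebra.Extension.Cotangent.mk_surjective (P := E))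
    exact Module.Finite.of_restrictScalars_finite E.Ring _ _
  let L : ResidueField T ⊗[T] E.Cotangent →ₗ[ResidueField T]
      ResidueField T ⊗[T] E.CotangentSpace := E.cotangentComplex.baseChange (ResidueField T)
  let L' : ResidueField T ⊗[T] E.CotangentSpace →ₗ[ResidueField T]
      ResidueField T ⊗[T] Ω[T⁄A] := E.toKaehler.baseChange (ResidueField T)
  have hex : Function.Exact L L' :=
    lTensor_exact (ResidueField T) E.exact_cotangentComplex_toKaehler E.toKaehler_surjective
  have hsurj : Function.Surjective L' :=
    LinearMap.lTensor_surjective (ResidueField T) E.toKaehler_surjective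
  haveI : Nontrivial S := (algebraMap S T).domain_nontrivial
  have hV2 : Module.finrank (ResidueField T) (ResidueField T ⊗[T] E.CotangentSpace) = n := by
    show Module.finrank (ResidueField T) (ResidueField T ⊗[T] (T ⊗[S] Ω[S⁄A])) = n
    rw [Module.finrank_baseChange, Module.finrank_baseChange, hn]
  let mρ : Fin c → E.Cotangent := fun i =>
    Algebra.Extension.Cotangent.mk (P := E) ⟨ρ i, hEker.ge (Ideal.subset_span ⟨i, rfl⟩)⟩
  have hspan : Submodule.span T (Set.range mρ) = ⊤ :=
    Algebra.Extension.Cotangent.span_eq_top_of_span_eq_ker (P := E) ρ hEker.symm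
  have hV1 : Module.finrank (ResidueField T) (ResidueField T ⊗[T] E.Cotangent) ≤ c := by
    have h1 := SmoothRank.span_one_tmul T (ResidueField T) E.Cotangent (Set.range mρ) hspan
    rw [← Set.range_comp] at h1
    have h2 := finrank_range_le_card (R := ResidueField T)
      ((fun y : E.Cotangent => (1 : ResidueField T) ⊗ₜ[T] y) ∘ mρ)
    rw [Set.finrank, h1, finrank_top, Fintype.card_fin] at h2
    exact h2
  have h1 := LinearMap.finrank_range_add_finrank_ker L'
  have h2 := LinearMap.finrank_range_add_finrank_ker L
  have h3 : LinearMap.range L' = ⊤ := LinearMap.range_eq_top.mpr hsurj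
  have h4 : LinearMap.ker L' = LinearMap.range L := hex.linearMap_ker_eq
  rw [h3, finrank_top, hV2, h4] at h1
  constructor
  · intro hle
    rw [hiff]
    have h5 : Module.finrank (ResidueField T) (LinearMap.ker L) = 0 := by omega
    have h6 : LinearMap.ker L = ⊥ := Submodule.finrank_eq_zero.mp h5
    have h7 : Function.Injective L := LinearMap.ker_eq_bot.mp h6
    exact h7
  · intro hsm hreg
    have hinj : Function.Injective L := hiff.mp hsm
    have h5 : LinearMap.ker L = ⊥ := LinearMap.ker_eq_bot.mpr hinj
    rw [h5, finrank_bot, add_zero] at h2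
    have hli : LinearIndependent T mρ := by
      rw [Fintype.linearIndependent_iff]
      intro g hg k
      choose b hb using fun i => hST (g i)
      have hsum : ∑ i, g i • mρ i = Algebra.Extension.Cotangent.mk (P := E)
          (∑ i, b i • (⟨ρ i, hEker.ge (Ideal.subset_span ⟨i, rfl⟩)⟩ : E.ker)) := by
        rw [map_sum]
        refine Finset.sum_congr rfl fun i _ => ?_
        rw [map_smul, ← hb i, algebraMap_smul]
      rw [hsum, Algebra.Extension.Cotangent.mk_eq_zero_iff] at hg
      have hsq : E.ker ^ 2 = Ideal.span (Set.range ρ) ^ 2 := by rw [hEker]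
      replace hg := (SetLike.ext_iff.mp hsq _).mp hg
      have hval : ((∑ i, b i • (⟨ρ i, hEker.ge (Ideal.subset_span ⟨i, rfl⟩)⟩ : E.ker) : E.ker) : S)
          = ∑ i, b i * ρ i := by
        simp only [Submodule.coe_sum, Submodule.coe_smul, smul_eq_mul]
      rw [hval] at hg
      have hbk := Groth.Agent.Lib.Helper1.H1Loc.coeff_mem_of_sum_mem_sq ρ hreg b hg k
      rw [← hb k]
      rw [← hker] at hbk
      exact RingHom.mem_ker.mp hbk
    have hcard : c ≤ Module.finrank (ResidueField T) (ResidueField T ⊗[T] E.Cotangent) := by
      let β : Module.Basis (Fin c) T E.Cotangent := Module.Basis.mk hli hspan.ge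
      haveI : Module.Free T E.Cotangent := Module.Free.of_basis β
      rw [Module.finrank_baseChange, Module.finrank_eq_card_basis β, Fintype.card_fin]
    omega

end Local

end Groth.Agent.Lib.Helper22.JacFitt
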