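import Mathlib
import Groth.Agent.Lib.Helper22.JacFitt
import Groth.Agent.Lib.Helper22.FittRank
import Groth.Agent.Lib.Helper22.RegStalk
import Groth.Agent.Lib.Helper22.SmoothJZ2
import Groth.Agent.Lib.Helper10.KoszulLow

/-!
# Jacobian criterion with Fitting ideals on schemes (helper22)

* `finrank_stalk_residue`: `dim_K K ⊗ Ω[O_{X,x}⁄O_{S,h x}]` computed on an affine chart.
* `main`: **S16256**.
-/

set_option linter.style.haveILetI false
set_option autoImplicit false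
set_option maxHeartbeats 400000

universe u

open CategoryTheory AlgebraicGeometry TopologicalSpace TensorProduct IsLocalRing KaehlerDifferential

namespace Groth.Agent.Lib.Helper22.JacFitt

open Groth.Agent.Lib.Helper1 Groth.Agent.Lib.Helper22.SmoothRank

theorem finrank_stalk_residue {X S : Scheme.{u}} (h : X ⟶ S) {V : S.Opens}
    (hV : IsAffineOpen V) {U : X.Opens} (hU : IsAffineOpen U) (e : U ≤ h ⁻¹ᵁ V) (x : X)
    (hxU : x ∈ U) (q : Ideal Γ(X, U)) [q.IsPrime]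
    (hq : ∀ b : Γ(X, U),
      (X.presheaf.germ U x hxU).hom b ∈ maximalIdeal (X.presheaf.stalk x) ↔ b ∈ q) :
    letI := (h.stalkMap x).hom.toAlgebra
    letI := (h.appLE V U e).hom.toAlgebra
    Module.finrank (ResidueField (X.presheaf.stalk x))
        (ResidueField (X.presheaf.stalk x) ⊗[X.presheaf.stalk x]
          Ω[X.presheaf.stalk x⁄S.presheaf.stalk (h.base x)]) =
      Module.finrank q.ResidueField (q.ResidueField ⊗[Γ(X, U)] Ω[Γ(X, U)⁄Γ(S, V)]) := by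
  letI algAC : Algebra (S.presheaf.stalk (h.base x)) (X.presheaf.stalk x) :=
    (h.stalkMap x).hom.toAlgebra
  letI algRT : Algebra Γ(S, V) Γ(X, U) := (h.appLE V U e).hom.toAlgebra
  letI algTC : Algebra Γ(X, U) (X.presheaf.stalk x) :=
    TopCat.Presheaf.algebra_section_stalk X.presheaf ⟨x, hxU⟩
  letI algRA : Algebra Γ(S, V) (S.presheaf.stalk (h.base x)) :=
    TopCat.Presheaf.algebra_section_stalk S.presheaf ⟨h.base x, e hxU⟩
  letI algRC : Algebra Γ(S, V) (X.presheaf.stalk x) :=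
    ((algebraMap Γ(X, U) (X.presheaf.stalk x)).comp (algebraMap Γ(S, V) Γ(X, U))).toAlgebra
  haveI : IsScalarTower Γ(S, V) Γ(X, U) (X.presheaf.stalk x) :=
    IsScalarTower.of_algebraMap_eq (fun _ => rfl)
  haveI : IsScalarTower Γ(S, V) (S.presheaf.stalk (h.base x)) (X.presheaf.stalk x) := by
    refine IsScalarTower.of_algebraMap_eq (fun a => ?_)
    show (X.presheaf.germ U x hxU).hom ((h.appLE V U e).hom a) =
      (h.stalkMap x).hom ((S.presheaf.germ V (h.base x) (e hxU)).hom a)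
    simp only [Scheme.Hom.germ_stalkMap_apply, Scheme.Hom.appLE, CommRingCat.hom_comp,
      RingHom.coe_comp, Function.comp_apply, X.presheaf.germ_res_apply]
  haveI locX : IsLocalization.AtPrime (X.presheaf.stalk x) (hU.primeIdealOf ⟨x, hxU⟩).asIdeal :=
    hU.isLocalization_stalk ⟨x, hxU⟩
  haveI locS : IsLocalization.AtPrime (S.presheaf.stalk (h.base x))
      (hV.primeIdealOf ⟨h.base x, e hxU⟩).asIdeal :=
    hV.isLocalization_stalk ⟨h.base x, e hxU⟩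
  haveI : Algebra.FormallyEtale Γ(X, U) (X.presheaf.stalk x) :=
    Algebra.FormallyEtale.of_isLocalization (hU.primeIdealOf ⟨x, hxU⟩).asIdeal.primeCompl
  haveI : Algebra.FormallyUnramified Γ(S, V) (S.presheaf.stalk (h.base x)) :=
    Algebra.FormallyUnramified.of_isLocalization
      (hV.primeIdealOf ⟨h.base x, e hxU⟩).asIdeal.primeCompl
  let e₁ : (X.presheaf.stalk x) ⊗[Γ(X, U)] Ω[Γ(X, U)⁄Γ(S, V)] ≃ₗ[X.presheaf.stalk x]
      Ω[X.presheaf.stalk x⁄Γ(S, V)] :=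
    KaehlerDifferential.tensorKaehlerEquivOfFormallyEtale Γ(S, V) Γ(X, U) (X.presheaf.stalk x)
  have hsurj : Function.Surjective (KaehlerDifferential.map Γ(S, V) (S.presheaf.stalk (h.base x))
      (X.presheaf.stalk x) (X.presheaf.stalk x)) :=
    KaehlerDifferential.map_surjective Γ(S, V) (S.presheaf.stalk (h.base x)) (X.presheaf.stalk x)
  have hinj : Function.Injective (KaehlerDifferential.map Γ(S, V) (S.presheaf.stalk (h.base x))
      (X.presheaf.stalk x) (X.presheaf.stalk x)) := by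
    rw [injective_iff_map_eq_zero]
    intro a ha
    have hzero : ∀ b : (X.presheaf.stalk x) ⊗[S.presheaf.stalk (h.base x)]
        Ω[S.presheaf.stalk (h.base x)⁄Γ(S, V)], b = 0 := by
      intro b
      induction b using TensorProduct.induction_on with
      | zero => rfl
      | tmul c d => rw [Subsingleton.elim d 0, TensorProduct.tmul_zero]
      | add c d hc hd => rw [hc, hd, add_zero]
    obtain ⟨b, rfl⟩ := (KaehlerDifferential.exact_mapBaseChange_map Γ(S, V)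
      (S.presheaf.stalk (h.base x)) (X.presheaf.stalk x) a).mp ha
    rw [hzero b, map_zero]
  let e₂ : Ω[X.presheaf.stalk x⁄Γ(S, V)] ≃ₗ[X.presheaf.stalk x]
      Ω[X.presheaf.stalk x⁄S.presheaf.stalk (h.base x)] :=
    LinearEquiv.ofBijective _ ⟨hinj, hsurj⟩
  letI algBK : Algebra Γ(X, U) (ResidueField (X.presheaf.stalk x)) :=
    ((algebraMap (X.presheaf.stalk x) (ResidueField (X.presheaf.stalk x))).comp
      (algebraMap Γ(X, U) (X.presheaf.stalk x))).toAlgebra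
  haveI : IsScalarTower Γ(X, U) (X.presheaf.stalk x) (ResidueField (X.presheaf.stalk x)) :=
    IsScalarTower.of_algebraMap_eq (fun _ => rfl)
  have h1 := (tensorCongr (K := ResidueField (X.presheaf.stalk x)) (e₁.trans e₂)).finrank_eq
  rw [← h1]
  exact finrank_tensor_field Ω[Γ(X, U)⁄Γ(S, V)] q (ResidueField (X.presheaf.stalk x)) (fun b => by
    show residue _ ((X.presheaf.germ U x hxU).hom b) = 0 ↔ b ∈ q
    rw [IsLocalRing.residue_eq_zero_iff]
    exact hq b)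

/-- transport of the rank of differentials along an equality of structure maps. -/
theorem finrank_congr_alg {A B : Type u} [CommRing A] [CommRing B] (φ ψ : A →+* B) (h : φ = ψ)
    (q : Ideal B) [q.IsPrime] :
    (letI := φ.toAlgebra
     Module.finrank q.ResidueField (q.ResidueField ⊗[B] Ω[B⁄A])) =
    (letI := ψ.toAlgebra
     Module.finrank q.ResidueField (q.ResidueField ⊗[B] Ω[B⁄A])) := by
  subst h; rfl


theorem ofList_eq_span_range {R : Type u} [CommRing R] (rs : List R) :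
    Ideal.ofList rs = Ideal.span (Set.range rs.get) := by
  rw [Ideal.ofList]
  congr 1
  ext r
  simp only [Set.mem_ofPred_eq, Set.mem_range]
  exact List.mem_iff_get

/-- **S16256**, in terms of the smooth locus. -/
theorem mem_smoothLocus_iff {Y X : Scheme.{u}} (f : Y ⟶ X) [LocallyOfFinitePresentation f]
    [QuasiSeparated f] (m : ℕ) (y : Y)
    (U : Y.Opens) (P : Scheme.{u}) (i : (U : Scheme.{u}) ⟶ P) (π : P ⟶ X) (c : ℕ) (hyU : y ∈ U)
    (hreg : RegImm.IsRegularImmersionOfCodim RegImm.Kind.koszul c i)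
    (hsm : SmoothOfRelativeDimension (m + c) π) (comm : i ≫ π = U.ι ≫ f) :
    y ∈ f.smoothLocus ↔ y ∉ (Fitt.sheafIdeal (Omega.sheaf f) m).support := by
  classical
  haveI := hreg.1
  haveI : Smooth π := SmoothOfRelativeDimension.smooth (m + c) π
  -- the immersion side
  obtain ⟨⟨W₁, hW₁⟩, hzW₁, hcl, rs, hlen, hrs, hkerW⟩ := hreg.2 ⟨y, hyU⟩
  subst hlen
  haveI := hcl
  have hV₁ : IsAffineOpen (i ⁻¹ᵁ W₁) :=
    RegStalk.isAffineOpen_preimage_of_isClosedImmersion_restrict i hW₁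
  have hsurjW : Function.Surjective (i.app W₁) :=
    RegStalk.app_surjective_of_isClosedImmersion_restrict i hW₁
  have hkerSt := RegStalk.ker_stalkMap_eq_map_ker' i hW₁ hV₁ hsurjW ⟨y, hyU⟩ hzW₁
  have hrs' : LCI.IsKoszulRegularSeq Γ(P, W₁) rs := hrs
  have h1reg : CAlgX.IsH1Regular rs.get := fun a ha =>
    H10KL.h1_of_isZero_homology _ rs (hrs' (-1) (by norm_num)) a ha
  letI algPS : Algebra Γ(P, W₁) (P.presheaf.stalk (i ⟨y, hyU⟩)) :=
    P.presheaf.algebra_section_stalk ⟨i ⟨y, hyU⟩, hzW₁⟩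
  haveI locP := hW₁.isLocalization_stalk ⟨i ⟨y, hyU⟩, hzW₁⟩
  have h1regS := H1Loc.isH1Regular_of_isLocalization
    (hW₁.primeIdealOf ⟨i ⟨y, hyU⟩, hzW₁⟩).asIdeal.primeCompl (P.presheaf.stalk (i ⟨y, hyU⟩))
    rs.get h1reg
  -- the smooth side
  obtain ⟨V₀, hV₀, W₂, hW₂, hzW₂, e₂, hstd⟩ :=
    hsm.exists_isStandardSmoothOfRelativeDimension (i ⟨y, hyU⟩)
  letI algAP : Algebra Γ(X, V₀) Γ(P, W₂) := (π.appLE V₀ W₂ e₂).hom.toAlgebra
  haveI hstd' : Algebra.IsStandardSmoothOfRelativeDimension (m + rs.length) Γ(X, V₀) Γ(P, W₂) :=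
    hstd
  haveI : Algebra.IsStandardSmooth Γ(X, V₀) Γ(P, W₂) :=
    Algebra.IsStandardSmoothOfRelativeDimension.isStandardSmooth (m + rs.length)
  haveI : Nontrivial Γ(P, W₂) := (hW₂.primeIdealOf ⟨_, hzW₂⟩).nontrivial
  have hrank : Module.rank Γ(P, W₂) Ω[Γ(P, W₂)⁄Γ(X, V₀)] = (m + rs.length : ℕ) :=
    Algebra.IsStandardSmoothOfRelativeDimension.rank_kaehlerDifferential (m + rs.length)
  obtain ⟨hfreeS, hfinS, hrankS⟩ := SmoothJZ.stalk_kaehler_of_sections π hV₀ hW₂ e₂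
    (i ⟨y, hyU⟩) hzW₂ (m + rs.length) inferInstance inferInstance
    (Module.finrank_eq_of_rank_eq hrank)
  -- the tower of stalks
  letI algAS : Algebra (X.presheaf.stalk (π (i ⟨y, hyU⟩))) (P.presheaf.stalk (i ⟨y, hyU⟩)) :=
    (π.stalkMap (i ⟨y, hyU⟩)).hom.toAlgebra
  letI algST : Algebra (P.presheaf.stalk (i ⟨y, hyU⟩))
      ((U : Scheme.{u}).presheaf.stalk ⟨y, hyU⟩) := (i.stalkMap ⟨y, hyU⟩).hom.toAlgebra
  letI algAT : Algebra (X.presheaf.stalk (π (i ⟨y, hyU⟩)))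
      ((U : Scheme.{u}).presheaf.stalk ⟨y, hyU⟩) := ((i ≫ π).stalkMap ⟨y, hyU⟩).hom.toAlgebra
  haveI : IsScalarTower (X.presheaf.stalk (π (i ⟨y, hyU⟩))) (P.presheaf.stalk (i ⟨y, hyU⟩))
      ((U : Scheme.{u}).presheaf.stalk ⟨y, hyU⟩) := by
    refine IsScalarTower.of_algebraMap_eq (fun a => ?_)
    show ((i ≫ π).stalkMap ⟨y, hyU⟩).hom a =
      (i.stalkMap ⟨y, hyU⟩).hom ((π.stalkMap (i ⟨y, hyU⟩)).hom a)
    rw [Scheme.Hom.stalkMap_comp]
    rfl
  haveI : Algebra.FormallySmooth (X.presheaf.stalk (π (i ⟨y, hyU⟩)))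
      (P.presheaf.stalk (i ⟨y, hyU⟩)) := by
    have h1 : i ⟨y, hyU⟩ ∈ π.smoothLocus := by
      rw [Scheme.Hom.smoothLocus_eq_top]
      trivial
    exact h1
  haveI := hfreeS
  haveI := hfinS
  have hST : Function.Surjective (algebraMap (P.presheaf.stalk (i ⟨y, hyU⟩))
      ((U : Scheme.{u}).presheaf.stalk ⟨y, hyU⟩)) := i.stalkMap_surjective ⟨y, hyU⟩
  have hkerρ : RingHom.ker (algebraMap (P.presheaf.stalk (i ⟨y, hyU⟩))
      ((U : Scheme.{u}).presheaf.stalk ⟨y, hyU⟩)) =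
      Ideal.span (Set.range fun k =>
        algebraMap Γ(P, W₁) (P.presheaf.stalk (i ⟨y, hyU⟩)) (rs.get k)) := by
    show RingHom.ker (i.stalkMap ⟨y, hyU⟩).hom = _
    rw [hkerSt, hkerW, ofList_eq_span_range, Ideal.map_span, ← Set.range_comp]
    rfl
  obtain ⟨ha, hb⟩ := jc_local (X.presheaf.stalk (π (i ⟨y, hyU⟩)))
    (P.presheaf.stalk (i ⟨y, hyU⟩)) ((U : Scheme.{u}).presheaf.stalk ⟨y, hyU⟩) hST _ hkerρ
    (m + rs.length) hrankS
  -- smoothness at `y`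
  have hsmooth_iff : y ∈ f.smoothLocus ↔
      Algebra.FormallySmooth (X.presheaf.stalk (π (i ⟨y, hyU⟩)))
        ((U : Scheme.{u}).presheaf.stalk ⟨y, hyU⟩) := by
    have h1 : (⟨y, hyU⟩ : (U : Scheme.{u})) ∈ U.ι ⁻¹ᵁ f.smoothLocus ↔ y ∈ f.smoothLocus :=
      Iff.rfl
    rw [← h1, Scheme.Hom.preimage_smoothLocus_eq U.ι f]
    change ((U.ι ≫ f).stalkMap ⟨y, hyU⟩).hom.FormallySmooth ↔ _
    have key : ∀ (φ ψ : (U : Scheme.{u}) ⟶ X) (h : φ = ψ),
        (φ.stalkMap ⟨y, hyU⟩).hom.FormallySmooth ↔ (ψ.stalkMap ⟨y, hyU⟩).hom.FormallySmooth := by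
      intro φ ψ h; subst h; rfl
    rw [key _ _ comm.symm]
    rfl
  -- the chart for the Fitting ideal
  have hyV₀ : (⟨y, hyU⟩ : (U : Scheme.{u})) ∈ (i ≫ π) ⁻¹ᵁ V₀ := e₂ hzW₂
  obtain ⟨_, ⟨W', hW', rfl⟩, hyW', hW'le⟩ :=
    (U : Scheme.{u}).isBasis_affineOpens.exists_subset_of_mem_open hyV₀ ((i ≫ π) ⁻¹ᵁ V₀).2
  have hU₀ : IsAffineOpen (U.ι ''ᵁ W') := hW'.image_of_isOpenImmersion U.ι
  have hyU₀ : y ∈ U.ι ''ᵁ W' := ⟨⟨y, hyU⟩, hyW', rfl⟩
  have hUV : U.ι ''ᵁ W' ≤ f ⁻¹ᵁ V₀ := by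
    rintro _ ⟨w, hw, rfl⟩
    show f (U.ι w) ∈ V₀
    have h1 : f (U.ι w) = π (i w) := by
      rw [← Scheme.Hom.comp_apply, ← comm, Scheme.Hom.comp_apply]
    rw [h1]
    exact hW'le hw
  rw [FittRank.not_mem_support_fitt_iff f m y hU₀ hV₀ hUV hyU₀]
  obtain ⟨q, hq'⟩ : ∃ q : Ideal Γ((U : Scheme.{u}), W'),
    q = (hU₀.primeIdealOf ⟨y, hyU₀⟩).asIdeal := ⟨_, rfl⟩
  haveI hqp : q.IsPrime := by rw [hq']; exact (hU₀.primeIdealOf ⟨y, hyU₀⟩).isPrime
  have hq : ∀ b : Γ((U : Scheme.{u}), W'),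
      ((U : Scheme.{u}).presheaf.germ W' ⟨y, hyU⟩ hyW').hom b ∈
        maximalIdeal ((U : Scheme.{u}).presheaf.stalk ⟨y, hyU⟩) ↔ b ∈ q := by
    intro b
    have h1 := (U : Scheme.{u}).mem_basicOpen b ⟨y, hyU⟩ hyW'
    have h2 : (⟨y, hyU⟩ : (U : Scheme.{u})) ∈ (U : Scheme.{u}).basicOpen b ↔
        y ∈ Y.basicOpen b := Scheme.Opens.mem_basicOpen_toScheme
    have h3 := FittRank.mem_basicOpen_iff_notMem_primeIdealOf hU₀ ⟨y, hyU₀⟩ b
    rw [hq', IsLocalRing.mem_maximalIdeal, mem_nonunits_iff]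
    constructor
    · intro hnu
      by_contra hb
      exact hnu (h1.mp (h2.mpr (h3.mpr hb)))
    · intro hb hu
      exact (h3.mp (h2.mp (h1.mpr hu))) hb
  have hG := finrank_stalk_residue (i ≫ π) hV₀ hW' hW'le ⟨y, hyU⟩ hyW' q hq
  have hmor : (i ≫ π).appLE V₀ W' hW'le = f.appLE V₀ (U.ι ''ᵁ W') hUV := by
    have key : ∀ (φ ψ : (U : Scheme.{u}) ⟶ X) (h : φ = ψ) (h₁ : W' ≤ φ ⁻¹ᵁ V₀)
        (h₂ : W' ≤ ψ ⁻¹ᵁ V₀), φ.appLE V₀ W' h₁ = ψ.appLE V₀ W' h₂ := by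
      intro φ ψ h h₁ h₂; subst h; rfl
    have e₃ : W' ≤ U.ι ⁻¹ᵁ (U.ι ''ᵁ W') := fun w hw => ⟨w, hw, rfl⟩
    have h2 := Scheme.Hom.appLE_comp_appLE U.ι f V₀ (U.ι ''ᵁ W') W' hUV e₃
    rw [key _ _ comm hW'le (e₃.trans ((Opens.map U.ι.base).map (homOfLE hUV)).le), ← h2,
      Scheme.Opens.ι_appLE]
    have hid : Y.presheaf.map (homOfLE (x := U.ι ''ᵁ W') (y := U.ι ''ᵁ W')
        (Set.image_subset_iff.mpr e₃)).op = 𝟙 _ := Y.presheaf.map_id _
    rw [hid]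
    exact Category.comp_id _
  have hcongr := finrank_congr_alg ((i ≫ π).appLE V₀ W' hW'le).hom
    (f.appLE V₀ (U.ι ''ᵁ W') hUV).hom (congrArg CommRingCat.Hom.hom hmor) q
  rw [hcongr] at hG
  subst hq'
  constructor
  · intro hy
    have h5 := hb (hsmooth_iff.mp hy) h1regS
    exact le_of_eq_of_le hG.symm (le_of_eq (Nat.add_right_cancel h5))
  · intro hle
    have hle' := le_of_eq_of_le hG hle
    exact hsmooth_iff.mpr (ha (Nat.add_le_add_right hle' _))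

end Groth.Agent.Lib.Helper22.JacFitt
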