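import Mathlib
import Groth.Prelude.Def_AlgGrp
import Groth.Agent.Lib.Helper25.RegPerfectSmooth
import Groth.Agent.Lib.Helper26.RegularSch
import Groth.Agent.Lib.Helper12.ConsPropBasic
import Groth.Agent.Lib.Helper12.FibreDimConstr
import Groth.Agent.Lib.Helper6.ActionTranslate

/-!
Kleiman transversality, part A: generic smoothness on the target for a smooth source,
translation arguments, smoothness of `G × Y → X`, `(σ, y) ↦ σ · f(y)`.
-/

set_option linter.style.haveILetI false
set_option autoImplicit false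
universe u
open CategoryTheory CategoryTheory.Limits MonoidalCategory CartesianMonoidalCategory MonObj GrpObj
  AlgebraicGeometry

namespace Groth.Agent.Lib.Helper22.Kleiman

open Groth.Agent.Lib.Helper6.ActionTranslate

/-- generic smoothness on the target, for a smooth (not necessarily integral) source:
pointwise form -/
theorem exists_open_forall_mem_smoothLocus (k : Type u) [Field k] [IsAlgClosed k] [CharZero k]
    {X Y : Scheme.{u}} (qX : X ⟶ Spec (CommRingCat.of k)) (qY : Y ⟶ Spec (CommRingCat.of k))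
    [LocallyOfFiniteType qX] [QuasiCompact qX] [Smooth qX]
    [LocallyOfFiniteType qY] [QuasiCompact qY] [IsSeparated qY]
    [IsIntegral Y] (f : X ⟶ Y) (hf : f ≫ qY = qX) :
    ∃ (_ : LocallyOfFinitePresentation f) (V : Y.Opens), (V : Set ↥Y).Nonempty ∧
      ∀ x : X, f x ∈ V → x ∈ f.smoothLocus := by
  subst hf
  haveI : LocallyOfFiniteType f := locallyOfFiniteType_of_comp f qY
  haveI : IsNoetherianRing (CommRingCat.of k) := inferInstanceAs (IsNoetherianRing k)
  haveI : IsLocallyNoetherian Y := LocallyOfFiniteType.isLocallyNoetherian qY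
  haveI : LocallyOfFinitePresentation f := inferInstance
  haveI : IsLocallyNoetherian X := LocallyOfFiniteType.isLocallyNoetherian (f ≫ qY)
  haveI : QuasiCompact f := QuasiCompact.of_comp f qY
  -- every point of the generic fibre is a smooth point of `f`
  have key : ∀ z : X, f z = genericPoint Y → z ∈ f.smoothLocus := by
    intro z hz
    rw [Scheme.Hom.mem_smoothLocus]
    have hK : IsField (Y.presheaf.stalk (f z)) := by
      rw [hz]
      exact Field.toIsField Y.functionField
    letI : Field (Y.presheaf.stalk (f z)) := hK.toField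
    letI alg := (f.stalkMap z).hom.toAlgebra
    change Algebra.FormallySmooth (Y.presheaf.stalk (f z)) (X.presheaf.stalk z)
    haveI : CharZero (Y.presheaf.stalk (f z)) := by
      let φ : k →+* (Y.presheaf.stalk (f z)) :=
        (Y.presheaf.germ ⊤ (f z) trivial).hom.comp
          ((qY.appTop).hom.comp (Scheme.ΓSpecIso (CommRingCat.of k)).inv.hom)
      exact charZero_of_injective_ringHom φ.injective
    haveI : Algebra.EssFiniteType (Y.presheaf.stalk (f z)) (X.presheaf.stalk z) :=
      LocallyOfFiniteType.stalkMap f z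
    have hreg : IsRegularLocalRing (X.presheaf.stalk z) :=
      Groth.Agent.Lib.Helper26.RegularSch.isRegularLocalRing_stalk_of_smooth_field k (f ≫ qY) z
    exact Groth.Agent.Lib.Helper25.RegPerfectSmooth.formallySmooth_of_isRegularLocalRing_of_perfectField
      _ _ hreg
  have hZc : Topology.IsLocallyConstructible ((f.smoothLocus : Set X)ᶜ) :=
    Groth.Agent.Lib.Helper12.FibreDimConstr.isLocallyConstructible_of_isClosed _
      f.smoothLocus.2.isClosed_compl
  have hE : Topology.IsLocallyConstructible (f '' ((f.smoothLocus : Set X)ᶜ))ᶜ :=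
    Groth.Agent.Lib.Helper12.ConstrNhds.isLocallyConstructible_compl (f.isLocallyConstructible_image hZc)
  have hgen : genericPoint Y ∈ (f '' ((f.smoothLocus : Set X)ᶜ))ᶜ := by
    rintro ⟨z, hz, hfz⟩
    exact hz (key z hfz)
  obtain ⟨v, hv⟩ := Groth.Agent.Lib.Helper12.ConsPropBasic.interior_nonempty_of_genericPoint_mem
    _ hE hgen
  let V : Y.Opens := ⟨interior (f '' ((f.smoothLocus : Set X)ᶜ))ᶜ, isOpen_interior⟩
  refine ⟨inferInstance, V, ⟨v, hv⟩, ?_⟩
  intro x hx
  by_contra hxs
  exact (interior_subset hx) ⟨x, hxs, rfl⟩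

/-- if all points over `V` are smooth points then the restriction over `V` is smooth -/
theorem smooth_restrict_of_forall_mem {X Y : Scheme.{u}} (f : X ⟶ Y)
    [LocallyOfFinitePresentation f] (V : Y.Opens)
    (h : ∀ x : X, f x ∈ V → x ∈ f.smoothLocus) : Smooth (f ∣_ V) := by
  haveI : LocallyOfFinitePresentation (f ∣_ V) :=
    IsZariskiLocalAtTarget.restrict (P := @LocallyOfFinitePresentation) inferInstance V
  rw [← Scheme.Hom.smoothLocus_eq_top_iff, ← top_le_iff]
  rintro x -
  rw [Scheme.Hom.mem_smoothLocus]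
  exact (RingHom.FormallySmooth.respectsIso.arrow_mk_iso_iff (morphismRestrictStalkMap f V x)).mpr
    (h x.1 x.2)

set_option backward.defeqAttrib.useBackward true in
set_option backward.isDefEq.respectTransparency false in
/-- A translation argument: `φ` is smooth as soon as every rational point of the source can be
moved by a pair of compatible automorphisms to a smooth point of `φ`. -/
theorem smooth_of_translations' {k : Type u} [Field k] [IsAlgClosed k]
    {P X : Over (Spec (CommRingCat.of k))} [LocallyOfFiniteType P.hom] (φ : P ⟶ X)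
    [LocallyOfFinitePresentation φ.left]
    (H : ∀ p : 𝟙_ (Over (Spec (CommRingCat.of k))) ⟶ P,
      ∃ (α : P ≅ P) (β : X ≅ X) (q : 𝟙_ (Over (Spec (CommRingCat.of k))) ⟶ P),
        q ≫ α.hom = p ∧ α.hom ≫ φ = φ ≫ β.hom ∧
        q.left (IsLocalRing.closedPoint k) ∈ φ.left.smoothLocus) :
    Smooth φ.left := by
  have := LocallyOfFiniteType.jacobsonSpace P.hom
  rw [← Scheme.Hom.smoothLocus_eq_top_iff, ← TopologicalSpace.Opens.coe_eq_univ,
    ← not_ne_iff, ← Set.nonempty_compl]
  intro Hc
  obtain ⟨g1, hg1, hg1c⟩ :=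
    nonempty_inter_closedPoints Hc φ.left.smoothLocus.2.isClosed_compl.isLocallyClosed
  let g1' : 𝟙_ (Over (Spec (CommRingCat.of k))) ⟶ P :=
    Over.homMk _ ((pointEquivClosedPoint P.hom).symm ⟨g1, hg1c⟩).2
  obtain ⟨α, β, q, hα, hαβ, hq⟩ := H g1'
  have hα' : α.hom.left (q.left (IsLocalRing.closedPoint k)) = g1 := by
    simpa [g1', pointEquivClosedPoint] using
      congr(($hα).left (IsLocalRing.closedPoint k))
  have : IsIso α.hom.left := inferInstanceAs (IsIso ((Over.forget _).map α.hom))
  have : IsIso β.hom.left := inferInstanceAs (IsIso ((Over.forget _).map β.hom))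
  have e1 : α.hom.left ⁻¹ᵁ φ.left.smoothLocus = (α.hom.left ≫ φ.left).smoothLocus :=
    Scheme.Hom.preimage_smoothLocus_eq _ _
  have e2 : (α.hom.left ≫ φ.left).smoothLocus = (φ.left ≫ β.hom.left).smoothLocus :=
    smoothLocus_congr (by rw [← Over.comp_left, hαβ, Over.comp_left])
  have e3 := smoothLocus_comp_iso φ.left β.hom.left
  have h1 : q.left (IsLocalRing.closedPoint k) ∈ α.hom.left ⁻¹ᵁ φ.left.smoothLocus := by
    rw [e1, e2, e3]; exact hq
  have h2 : α.hom.left (q.left (IsLocalRing.closedPoint k)) ∈ φ.left.smoothLocus := h1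
  rw [hα'] at h2
  exact hg1 h2

section Cat

variable {S : Scheme.{u}} {G X : Over S} [GrpObj G]

lemma whisker_transl_act (a : AlgGrp.Action G X) (τ : 𝟙_ (Over S) ⟶ G) :
    (transl (mulAction G) τ ▷ X) ≫ a.act = a.act ≫ transl a τ := by
  have e1 : transl (mulAction G) τ = (toUnit G ≫ τ) * 𝟙 G := rfl
  have e2 : (transl (mulAction G) τ ▷ X) ≫ a.act =
      smul a (fst G X ≫ transl (mulAction G) τ) (snd G X) := by
    unfold smul
    rw [← lift_whiskerRight, lift_fst_snd, Category.id_comp]
  have e3 : smul a (fst G X ≫ 𝟙 G) (snd G X) = a.act := by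
    unfold smul
    rw [Category.comp_id, lift_fst_snd, Category.id_comp]
  rw [e2, e1, MonObj.comp_mul, Groth.Agent.Lib.Helper6.ActionTranslate.mul_smul, e3, transl, comp_smul, Category.comp_id,
    comp_toUnit_assoc, comp_toUnit_assoc]

/-- the map `(σ, y) ↦ σ · f(y)` -/
noncomputable def hmap (a : AlgGrp.Action G X) {Y : Over S} (f : Y ⟶ X) : G ⊗ Y ⟶ X :=
  (G ◁ f) ≫ a.act

lemma whisker_transl_hmap (a : AlgGrp.Action G X) {Y : Over S} (f : Y ⟶ X)
    (τ : 𝟙_ (Over S) ⟶ G) :
    (transl (mulAction G) τ ▷ Y) ≫ hmap a f = hmap a f ≫ transl a τ := by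
  unfold hmap
  rw [← Category.assoc, ← whisker_exchange, Category.assoc, whisker_transl_act, Category.assoc]

lemma pt_comp_transl (a : AlgGrp.Action G X) (τ : 𝟙_ (Over S) ⟶ G) (x : 𝟙_ (Over S) ⟶ X) :
    x ≫ transl a τ = lift τ x ≫ a.act := by
  rw [transl, comp_smul, Category.comp_id, comp_toUnit_assoc, toUnit_unit, Category.id_comp]
  rfl

/-- the section `y ↦ (σ, y)` -/
noncomputable def isec (σ : 𝟙_ (Over S) ⟶ G) (Y : Over S) : Y ⟶ G ⊗ Y :=
  lift (toUnit Y ≫ σ) (𝟙 Y)

lemma isec_hmap (a : AlgGrp.Action G X) {Y : Over S} (f : Y ⟶ X) (σ : 𝟙_ (Over S) ⟶ G) :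
    isec σ Y ≫ hmap a f = lift (toUnit Y ≫ σ) f ≫ a.act := by
  unfold isec hmap
  rw [← Category.assoc, lift_whiskerLeft, Category.id_comp]

end Cat

section Geom

variable (k : Type u) [Field k] [IsAlgClosed k]

/-- an integral group scheme of finite type over an algebraically closed field is smooth -/
theorem smooth_grp (G : Over (Spec (CommRingCat.of k))) [GrpObj G]
    [IsIntegral G.left] [LocallyOfFiniteType G.hom] : Smooth G.hom := by
  haveI : IsNoetherianRing (CommRingCat.of k) := inferInstanceAs (IsNoetherianRing k)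
  haveI : LocallyOfFinitePresentation G.hom := inferInstance
  haveI : LocallyOfFinitePresentation (toUnit G).left := (inferInstance :
    LocallyOfFinitePresentation G.hom)
  have hne : ((toUnit G).left.smoothLocus : Set G.left).Nonempty :=
    ⟨genericPoint G.left, Scheme.Hom.genericPoint_mem_smoothLocus_of_perfectField G.hom⟩
  refine smooth_of_translations (toUnit G) hne (fun g0 g1 => ?_)
  refine ⟨translIso (mulAction G) (g1 * g0⁻¹), Iso.refl _, ?_, ?_⟩
  · change g0 ≫ transl (mulAction G) (g1 * g0⁻¹) = g1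
    rw [comp_transl_mulAction, inv_mul_cancel_right]
  · exact toUnit_unique _ _

/-- a homogeneous space (integral, of finite type) over an algebraically closed field is smooth -/
theorem smooth_homog (G X : Over (Spec (CommRingCat.of k))) [GrpObj G] (a : AlgGrp.Action G X)
    [IsIntegral X.left] [LocallyOfFiniteType X.hom]
    (htrans : ∀ x x' : 𝟙_ (Over (Spec (CommRingCat.of k))) ⟶ X,
      ∃ σ : 𝟙_ (Over (Spec (CommRingCat.of k))) ⟶ G, lift σ x ≫ a.act = x') :
    Smooth X.hom := by
  haveI : IsNoetherianRing (CommRingCat.of k) := inferInstanceAs (IsNoetherianRing k)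
  haveI : LocallyOfFinitePresentation X.hom := inferInstance
  haveI : LocallyOfFinitePresentation (toUnit X).left := (inferInstance :
    LocallyOfFinitePresentation X.hom)
  have hne : ((toUnit X).left.smoothLocus : Set X.left).Nonempty :=
    ⟨genericPoint X.left, Scheme.Hom.genericPoint_mem_smoothLocus_of_perfectField X.hom⟩
  refine smooth_of_translations (toUnit X) hne (fun g0 g1 => ?_)
  obtain ⟨τ, hτ⟩ := htrans g0 g1
  refine ⟨translIso a τ, Iso.refl _, ?_, ?_⟩
  · change g0 ≫ transl a τ = g1
    rw [pt_comp_transl, hτ]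
  · exact toUnit_unique _ _

end Geom

section Geom2

variable (k : Type u) [Field k] [IsAlgClosed k] [CharZero k]

set_option backward.defeqAttrib.useBackward true in
set_option backward.isDefEq.respectTransparency false in
/-- `G × Y → X`, `(σ, y) ↦ σ · f(y)` is smooth when `X` is homogeneous and `Y` is smooth -/
theorem smooth_hmap (G X : Over (Spec (CommRingCat.of k))) [GrpObj G] (a : AlgGrp.Action G X)
    [IsIntegral G.left] [LocallyOfFiniteType G.hom] [QuasiCompact G.hom]
    [IsIntegral X.left] [IsSeparated X.hom] [LocallyOfFiniteType X.hom] [QuasiCompact X.hom]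
    (htrans : ∀ x x' : 𝟙_ (Over (Spec (CommRingCat.of k))) ⟶ X,
      ∃ σ : 𝟙_ (Over (Spec (CommRingCat.of k))) ⟶ G, lift σ x ≫ a.act = x')
    (Y : Over (Spec (CommRingCat.of k))) (f : Y ⟶ X) [Smooth Y.hom] [QuasiCompact Y.hom] :
    Smooth (hmap a f).left := by
  haveI : IsNoetherianRing (CommRingCat.of k) := inferInstanceAs (IsNoetherianRing k)
  haveI := smooth_grp k G
  have hPhom : (G ⊗ Y).hom = pullback.fst G.hom Y.hom ≫ G.hom := rfl
  haveI : Smooth (G ⊗ Y).hom := by rw [hPhom]; infer_instance
  haveI : QuasiCompact (G ⊗ Y).hom := by rw [hPhom]; infer_instance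
  haveI : LocallyOfFiniteType (G ⊗ Y).hom := inferInstance
  obtain ⟨hfp, U, hUne, hU⟩ := exists_open_forall_mem_smoothLocus k (G ⊗ Y).hom X.hom
    (hmap a f).left (Over.w _)
  haveI := hfp
  haveI := LocallyOfFiniteType.jacobsonSpace X.hom
  obtain ⟨u, hu, huc⟩ := nonempty_inter_closedPoints hUne U.2.isLocallyClosed
  let u' : 𝟙_ (Over (Spec (CommRingCat.of k))) ⟶ X :=
    Over.homMk _ ((pointEquivClosedPoint X.hom).symm ⟨u, huc⟩).2
  have hu' : u'.left (IsLocalRing.closedPoint k) = u := by
    simp [u', pointEquivClosedPoint]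
  refine smooth_of_translations' (hmap a f) (fun p => ?_)
  obtain ⟨τ, hτ⟩ := htrans u' (p ≫ hmap a f)
  let α : G ⊗ Y ≅ G ⊗ Y := whiskerRightIso (translIso (mulAction G) τ) Y
  have hαβ : α.hom ≫ hmap a f = hmap a f ≫ (translIso a τ).hom := whisker_transl_hmap a f τ
  refine ⟨α, translIso a τ, p ≫ α.inv, ?_, hαβ, ?_⟩
  · rw [Category.assoc, Iso.inv_hom_id, Category.comp_id]
  · apply hU
    have h1 : (p ≫ α.inv) ≫ hmap a f = u' := by
      rw [← cancel_mono (translIso a τ).hom, Category.assoc, ← hαβ, Category.assoc,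
        Iso.inv_hom_id_assoc]
      exact hτ.symm.trans (pt_comp_transl a τ u').symm
    have h2 := congr(($h1).left (IsLocalRing.closedPoint k))
    rw [Over.comp_left] at h2
    have h3 : (hmap a f).left ((p ≫ α.inv).left (IsLocalRing.closedPoint k)) = u :=
      h2.trans hu'
    rw [h3]
    exact hu

end Geom2

end Groth.Agent.Lib.Helper22.Kleiman
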