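import Mathlib
import Groth.Agent.Lib.Helper22.KleimanA
import Groth.Agent.Lib.Helper22.DiagReg
import Groth.Agent.Lib.Helper22.SmoothMono
import Groth.Agent.Lib.Helper12.JacDim

/-!
Kleiman transversality, part B: relative dimensions and the identification of the fibres.
-/

set_option linter.style.haveILetI false
set_option autoImplicit false
universe u
open CategoryTheory CategoryTheory.Limits MonoidalCategory CartesianMonoidalCategory MonObj GrpObj
  AlgebraicGeometry

namespace Groth.Agent.Lib.Helper22.Kleiman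

section RelDim

theorem relDim_eq {A B S : Scheme.{u}} (φ : A ⟶ B) (qB : B ⟶ S) [Smooth φ] (a b : ℕ)
    [SmoothOfRelativeDimension b qB] [SmoothOfRelativeDimension a (φ ≫ qB)] (x : A) :
    ∃ (m : ℕ) (V : B.Opens) (_ : IsAffineOpen V) (W : A.Opens) (_ : IsAffineOpen W)
      (_ : x ∈ W) (e : W ≤ φ ⁻¹ᵁ V),
      (φ.appLE V W e).hom.IsStandardSmoothOfRelativeDimension m ∧ a = m + b := by
  haveI : Smooth qB := SmoothOfRelativeDimension.smooth b qB
  obtain ⟨m, V, hV, W, hW, hxW, e, hss, hdim⟩ := SmoothMono.exists_chart φ x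
  have h1 := SmoothRelDim.fibreDimAt_comp φ qB x
  rw [SmoothRelDim.fibreDimAt_eq a (φ ≫ qB) x, hdim, SmoothRelDim.fibreDimAt_eq b qB (φ x)] at h1
  exact ⟨m, V, hV, W, hW, hxW, e, hss, by exact_mod_cast h1⟩

theorem relDim_le {A B S : Scheme.{u}} (φ : A ⟶ B) (qB : B ⟶ S) [Smooth φ] (a b : ℕ)
    [SmoothOfRelativeDimension b qB] [SmoothOfRelativeDimension a (φ ≫ qB)] (x : A) : b ≤ a := by
  obtain ⟨m, V, hV, W, hW, hxW, e, hss, h⟩ := relDim_eq φ qB a b x
  omega

theorem relDim_sub {A B S : Scheme.{u}} (φ : A ⟶ B) (qB : B ⟶ S) [Smooth φ] (a b : ℕ)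
    [SmoothOfRelativeDimension b qB] [SmoothOfRelativeDimension a (φ ≫ qB)] :
    SmoothOfRelativeDimension (a - b) φ := by
  refine ⟨fun x => ?_⟩
  obtain ⟨m, V, hV, W, hW, hxW, e, hss, h⟩ := relDim_eq φ qB a b x
  have hm : m = a - b := by omega
  subst hm
  exact ⟨V, hV, W, hW, hxW, e, hss⟩

/-- a nonempty scheme smooth of relative dimension `m` over a field has dimension `m` -/
theorem dim_eq_of_smoothOfRelativeDimension (k : Type u) [Field k] {F : Scheme.{u}}
    (p : F ⟶ Spec (CommRingCat.of k)) (m : ℕ) [SmoothOfRelativeDimension m p] [Nonempty F] :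
    topologicalKrullDim F = m := by
  haveI : Smooth p := SmoothOfRelativeDimension.smooth m p
  haveI : LocallyOfFiniteType p := inferInstance
  haveI := LocallyOfFiniteType.jacobsonSpace p
  exact Groth.Agent.Lib.Helper12.JacDim.topologicalKrullDim_eq_of_closedPoints F m
    (fun x hx => DiagReg.ringKrullDim_stalk_of_closed k p m x hx)

/-- a smooth integral scheme over a field is smooth of relative dimension its dimension,
which is finite -/
theorem exists_relDim_of_integral (K : Type u) [Field K] (X : Scheme.{u})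
    (f : X ⟶ Spec (CommRingCat.of K)) [Smooth f] [IsIntegral X] :
    ∃ n : ℕ, topologicalKrullDim X = n ∧ SmoothOfRelativeDimension n f := by
  letI : X.Over (Spec (CommRingCat.of K)) := ⟨f⟩
  haveI : LocallyOfFiniteType (X ↘ Spec (CommRingCat.of K)) :=
    (inferInstance : LocallyOfFiniteType f)
  obtain ⟨m, hm⟩ := Groth.Agent.Lib.Helper12.SchemeDimFT.exists_trdeg_eq K X (genericPoint X)
  have h1 := Groth.Agent.Lib.Helper12.SchemeDimFT.topologicalKrullDim_eq_of_irreducible K X m hm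
  exact ⟨m, h1, DiagReg.smoothOfRelativeDimension_of_integral K X f m h1⟩

end RelDim

section Fibre

/-- the fibre of `W = (G ×_S Y) ×_X Z → G` over a section `σ` is `Y ×_{fσ, X} Z` -/
theorem exists_isPullback_fibre {S GG YY XX ZZ : Scheme.{u}} (gam : GG ⟶ S) (ups : YY ⟶ S)
    (σ : S ⟶ GG) (hσ : σ ≫ gam = 𝟙 S)
    (h : pullback gam ups ⟶ XX) (g : ZZ ⟶ XX) (i : YY ⟶ pullback gam ups)
    (hi1 : i ≫ pullback.fst gam ups = ups ≫ σ) (hi2 : i ≫ pullback.snd gam ups = 𝟙 YY)
    (fσ : YY ⟶ XX) (hfσ : fσ = i ≫ h) :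
    ∃ j : pullback fσ g ⟶ pullback h g,
      IsPullback j (pullback.fst fσ g ≫ ups) (pullback.fst h g ≫ pullback.fst gam ups) σ := by
  have hB : IsPullback i ups (pullback.fst gam ups) σ := by
    have s : IsPullback (i ≫ pullback.snd gam ups) ups ups (σ ≫ gam) := by
      rw [hi2, hσ]; exact IsPullback.id_horiz ups
    exact IsPullback.of_right s hi1 (IsPullback.of_hasPullback gam ups).flip
  subst hfσ
  let j : pullback (i ≫ h) g ⟶ pullback h g :=
    pullback.lift (pullback.fst (i ≫ h) g ≫ i) (pullback.snd (i ≫ h) g)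
      (by rw [Category.assoc, pullback.condition])
  have hj1 : j ≫ pullback.fst h g = pullback.fst (i ≫ h) g ≫ i := pullback.lift_fst _ _ _
  have hj2 : j ≫ pullback.snd h g = pullback.snd (i ≫ h) g := pullback.lift_snd _ _ _
  have hA : IsPullback j (pullback.fst (i ≫ h) g) (pullback.fst h g) i := by
    have s : IsPullback (j ≫ pullback.snd h g) (pullback.fst (i ≫ h) g) g (i ≫ h) := by
      rw [hj2]; exact (IsPullback.of_hasPullback (i ≫ h) g).flip
    exact IsPullback.of_right s hj1 (IsPullback.of_hasPullback h g).flip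
  exact ⟨j, hA.paste_vert hB⟩

/-- a base change of `q` along a morphism landing in `V` has property `P` as soon as `q ∣_ V`
does -/
theorem of_isPullback_restrict (P : MorphismProperty Scheme.{u}) [P.IsStableUnderBaseChange]
    {F W GG S : Scheme.{u}} (j : F ⟶ W) (pF : F ⟶ S) (q : W ⟶ GG) (σ : S ⟶ GG)
    (sq : IsPullback j pF q σ) (V : GG.Opens) (hσV : Set.range σ.base ⊆ (V : Set GG))
    (hq : P (q ∣_ V)) : P pF := by
  let σV : S ⟶ V := IsOpenImmersion.lift V.ι σ (by rw [Scheme.Opens.range_ι]; exact hσV)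
  have hσV' : σV ≫ V.ι = σ := IsOpenImmersion.lift_fac _ _ _
  have s : IsPullback pF j (σV ≫ V.ι) q := by rw [hσV']; exact sq.flip
  have h1 := IsPullback.of_bot' s (isPullback_morphismRestrict q V)
  exact MorphismProperty.of_isPullback h1.flip hq

/-- in the situation of `of_isPullback_restrict`, a point of `F` gives a point of `q ⁻¹ᵁ V` -/
theorem nonempty_preimage_of_isPullback {F W GG S : Scheme.{u}} (j : F ⟶ W) (pF : F ⟶ S)
    (q : W ⟶ GG) (σ : S ⟶ GG)
    (sq : IsPullback j pF q σ) (V : GG.Opens) (hσV : Set.range σ.base ⊆ (V : Set GG))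
    [Nonempty F] : Nonempty (q ⁻¹ᵁ V) := by
  obtain ⟨x⟩ := ‹Nonempty F›
  refine ⟨⟨j x, ?_⟩⟩
  change q (j x) ∈ V
  have h1 : q (j x) = σ (pF x) := by
    rw [← Scheme.Hom.comp_apply, ← Scheme.Hom.comp_apply, sq.w]
  rw [h1]
  exact hσV ⟨pF x, rfl⟩

end Fibre

section Main

variable (k : Type u) [Field k] [IsAlgClosed k] [CharZero k]

set_option maxHeartbeats 1600000 in
set_option backward.defeqAttrib.useBackward true in
set_option backward.isDefEq.respectTransparency false in
theorem main (G X : Over (Spec (CommRingCat.of k))) [GrpObj G] (a : AlgGrp.Action G X)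
    [IsIntegral G.left] [IsSeparated G.hom] [LocallyOfFiniteType G.hom] [QuasiCompact G.hom]
    [IsIntegral X.left] [IsSeparated X.hom] [LocallyOfFiniteType X.hom] [QuasiCompact X.hom]
    (htrans : ∀ x x' : 𝟙_ (Over (Spec (CommRingCat.of k))) ⟶ X,
      ∃ σ : 𝟙_ (Over (Spec (CommRingCat.of k))) ⟶ G, lift σ x ≫ a.act = x')
    {Y Z : Scheme.{u}} (f : Y ⟶ X.left) (g : Z ⟶ X.left)
    [IsIntegral Y] [QuasiCompact (f ≫ X.hom)] [Smooth (f ≫ X.hom)]
    [IsIntegral Z] [QuasiCompact (g ≫ X.hom)] [Smooth (g ≫ X.hom)]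
    (n r s : ℕ) (hn : topologicalKrullDim ↥X.left = n) (hr : topologicalKrullDim ↥Y = r)
    (hs : topologicalKrullDim ↥Z = s) :
    ∃ V : G.left.Opens, (V : Set ↥G.left).Nonempty ∧
      ∀ σ : 𝟙_ (Over (Spec (CommRingCat.of k))) ⟶ G, Set.range σ.left.base ⊆ (V : Set ↥G.left) →
        ∀ fσ : Y ⟶ X.left,
          fσ = (lift (toUnit (Over.mk (f ≫ X.hom)) ≫ σ) (Over.homMk f) ≫ a.act).left →
          Smooth (pullback.fst fσ g ≫ f ≫ X.hom) ∧
            (IsEmpty ↥(pullback fσ g) ∨ (n ≤ r + s ∧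
              topologicalKrullDim ↥(pullback fσ g) = ((r + s - n : ℕ) : WithBot ℕ∞))) := by
  haveI : IsNoetherianRing (CommRingCat.of k) := inferInstanceAs (IsNoetherianRing k)
  let Y' : Over (Spec (CommRingCat.of k)) := Over.mk (f ≫ X.hom)
  let f' : Y' ⟶ X := Over.homMk f
  haveI : Smooth Y'.hom := ‹Smooth (f ≫ X.hom)›
  haveI : QuasiCompact Y'.hom := ‹QuasiCompact (f ≫ X.hom)›
  haveI hGsm : Smooth G.hom := smooth_grp k G
  haveI hXsm : Smooth X.hom := smooth_homog k G X a htrans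
  let hh : pullback G.hom Y'.hom ⟶ X.left := (hmap a f').left
  haveI hhsm : Smooth hh := smooth_hmap k G X a htrans Y' f'
  have hhw : hh ≫ X.hom = pullback.fst G.hom Y'.hom ≫ G.hom := Over.w (hmap a f')
  -- relative dimensions
  obtain ⟨d, hd, hGd⟩ := exists_relDim_of_integral k G.left G.hom
  haveI := hGd
  haveI hXn : SmoothOfRelativeDimension n X.hom :=
    DiagReg.smoothOfRelativeDimension_of_integral k X.left X.hom n hn
  haveI hYr : SmoothOfRelativeDimension r Y'.hom :=
    DiagReg.smoothOfRelativeDimension_of_integral k Y (f ≫ X.hom) r hr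
  haveI hZs : SmoothOfRelativeDimension s (g ≫ X.hom) :=
    DiagReg.smoothOfRelativeDimension_of_integral k Z (g ≫ X.hom) s hs
  haveI := smoothOfRelativeDimension_isStableUnderBaseChange d
  haveI hsnd : SmoothOfRelativeDimension d (pullback.snd G.hom Y'.hom) :=
    MorphismProperty.pullback_snd (P := @SmoothOfRelativeDimension d) _ _ hGd
  haveI hP : SmoothOfRelativeDimension (d + r) (pullback.snd G.hom Y'.hom ≫ Y'.hom) :=
    inferInstance
  haveI hP' : SmoothOfRelativeDimension (d + r) (hh ≫ X.hom) := by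
    rw [hhw, pullback.condition]; exact hP
  haveI hhrel : SmoothOfRelativeDimension (d + r - n) hh := relDim_sub hh X.hom (d + r) n
  have hnle : ∀ x : ↥(pullback G.hom Y'.hom), n ≤ d + r := fun x =>
    relDim_le hh X.hom (d + r) n x
  -- the scheme `W`
  haveI := smoothOfRelativeDimension_isStableUnderBaseChange (d + r - n)
  haveI hsndW : SmoothOfRelativeDimension (d + r - n) (pullback.snd hh g) :=
    MorphismProperty.pullback_snd (P := @SmoothOfRelativeDimension (d + r - n)) _ _ hhrel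
  haveI hW : SmoothOfRelativeDimension (d + r - n + s) (pullback.snd hh g ≫ g ≫ X.hom) :=
    inferInstance
  haveI hWsm : Smooth (pullback.snd hh g ≫ g ≫ X.hom) :=
    SmoothOfRelativeDimension.smooth (d + r - n + s) _
  haveI hPqc : QuasiCompact (hh ≫ X.hom) := by rw [hhw]; infer_instance
  haveI hhqc : QuasiCompact hh := QuasiCompact.of_comp hh X.hom
  haveI hWqc : QuasiCompact (pullback.snd hh g ≫ g ≫ X.hom) := inferInstance
  haveI hWlft : LocallyOfFiniteType (pullback.snd hh g ≫ g ≫ X.hom) := inferInstance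
  let q : pullback hh g ⟶ G.left := pullback.fst hh g ≫ pullback.fst G.hom Y'.hom
  have hq : q ≫ G.hom = pullback.snd hh g ≫ g ≫ X.hom := by
    change (pullback.fst hh g ≫ pullback.fst G.hom Y'.hom) ≫ G.hom = _
    rw [Category.assoc, ← hhw, ← Category.assoc, pullback.condition, Category.assoc]
  obtain ⟨hfp, V, hVne, hV⟩ := exists_open_forall_mem_smoothLocus k
    (pullback.snd hh g ≫ g ≫ X.hom) G.hom q hq
  haveI := hfp
  haveI hqV : Smooth (q ∣_ V) := smooth_restrict_of_forall_mem q V hV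
  refine ⟨V, hVne, fun σ hσ fσ hfσ => ?_⟩
  let i : Y ⟶ pullback G.hom Y'.hom := (isec σ Y').left
  have hi1 : i ≫ pullback.fst G.hom Y'.hom = Y'.hom ≫ σ.left :=
    congrArg CommaMorphism.left (lift_fst (toUnit Y' ≫ σ) (𝟙 Y'))
  have hi2 : i ≫ pullback.snd G.hom Y'.hom = 𝟙 Y :=
    congrArg CommaMorphism.left (lift_snd (toUnit Y' ≫ σ) (𝟙 Y'))
  have hfσ' : fσ = i ≫ hh := by
    rw [hfσ]
    exact congrArg CommaMorphism.left (isec_hmap a f' σ).symm
  have hσw : σ.left ≫ G.hom = 𝟙 _ := Over.w σ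
  obtain ⟨j, hj⟩ := exists_isPullback_fibre G.hom Y'.hom σ.left hσw hh g i hi1 hi2 fσ hfσ'
  have hj' : IsPullback j (pullback.fst fσ g ≫ f ≫ X.hom) q σ.left := hj
  refine ⟨of_isPullback_restrict @Smooth j _ q σ.left hj' V hσ hqV, ?_⟩
  by_cases hF : IsEmpty ↥(pullback fσ g)
  · exact Or.inl hF
  · right
    haveI hFne : Nonempty ↥(pullback fσ g) := not_isEmpty_iff.mp hF
    haveI hpre : Nonempty (q ⁻¹ᵁ V) := nonempty_preimage_of_isPullback j _ q σ.left hj' V hσ
    obtain ⟨x0⟩ := hFne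
    have h1 : n ≤ d + r := hnle (pullback.fst hh g (j x0))
    haveI hB : SmoothOfRelativeDimension (0 + d) (V.ι ≫ G.hom) := inferInstance
    haveI hA0 : SmoothOfRelativeDimension (0 + (d + r - n + s))
        ((q ⁻¹ᵁ V).ι ≫ pullback.snd hh g ≫ g ≫ X.hom) := inferInstance
    haveI hA : SmoothOfRelativeDimension (0 + (d + r - n + s)) ((q ∣_ V) ≫ V.ι ≫ G.hom) := by
      have e : (q ∣_ V) ≫ V.ι ≫ G.hom = (q ⁻¹ᵁ V).ι ≫ pullback.snd hh g ≫ g ≫ X.hom := by
        rw [morphismRestrict_ι_assoc, hq]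
      rw [e]; exact hA0
    obtain ⟨w0⟩ := hpre
    have h2 : 0 + d ≤ 0 + (d + r - n + s) :=
      relDim_le (q ∣_ V) (V.ι ≫ G.hom) (0 + (d + r - n + s)) (0 + d) w0
    haveI hrelV : SmoothOfRelativeDimension (0 + (d + r - n + s) - (0 + d)) (q ∣_ V) :=
      relDim_sub (q ∣_ V) (V.ι ≫ G.hom) (0 + (d + r - n + s)) (0 + d)
    have hm : 0 + (d + r - n + s) - (0 + d) = r + s - n := by omega
    rw [hm] at hrelV
    haveI := smoothOfRelativeDimension_isStableUnderBaseChange (r + s - n)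
    haveI hFrel : SmoothOfRelativeDimension (r + s - n) (pullback.fst fσ g ≫ f ≫ X.hom) :=
      of_isPullback_restrict (@SmoothOfRelativeDimension (r + s - n)) j _ q σ.left hj' V hσ hrelV
    haveI : Nonempty ↥(pullback fσ g) := ⟨x0⟩
    exact ⟨by omega, dim_eq_of_smoothOfRelativeDimension k (pullback.fst fσ g ≫ f ≫ X.hom)
      (r + s - n)⟩

end Main

end Groth.Agent.Lib.Helper22.Kleiman
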