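import Mathlib
import Groth.Agent.Lib.Helper22.ASchA

/-!
# Galois algebras for a finite group: invariants and the Vandermonde criterion (helper22)

`B` a faithfully flat `A`-algebra with `σ : G → (B →ₐ[A] B)` such that
`Ψ : B ⊗[A] B → ∏_G B`, `x ⊗ y ↦ (x · σ_g y)_g` is bijective.
-/

set_option autoImplicit false

universe u

open TensorProduct Polynomial

namespace Groth.Agent.Lib.Helper22.Kum

open Groth.Agent.Lib.Helper22.ASch

variable {A B : Type u} [CommRing A] [CommRing B] [Algebra A B] [Module.FaithfullyFlat A B]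
  {G : Type*} (σ : G → B →ₐ[A] B)

/-- invariants of a Galois algebra come from the base -/
theorem exists_of_invariant (hΨ : Function.Bijective (Psi σ)) (b : B) (hb : ∀ g, σ g b = b) :
    ∃ a : A, algebraMap A B a = b := by
  have h1 : b ⊗ₜ[A] (1 : B) = (1 : B) ⊗ₜ[A] b := by
    apply hΨ.1
    funext g
    rw [Psi_tmul, Psi_tmul, map_one, mul_one, one_mul, hb]
  have h2 : b ∈ LinearMap.range (Algebra.linearMap A B) := by
    apply mem_range_of_tmul_mem_range B
    refine ⟨b ⊗ₜ[A] (1 : A), ?_⟩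
    rw [LinearMap.lTensor_tmul, Algebra.linearMap_apply, map_one, h1]
  obtain ⟨a, ha⟩ := h2
  exact ⟨a, ha⟩

/-- `c ↦ Σ c_i t^i` -/
noncomputable def lam (m : ℕ) (t : B) : (Fin m → A) →ₗ[A] B :=
  Fintype.linearCombination A (fun i : Fin m => t ^ (i : ℕ))

theorem lam_single (m : ℕ) (t : B) (i : Fin m) :
    lam (A := A) m t (Pi.single i (1 : A)) = t ^ (i : ℕ) := by
  unfold lam
  rw [Fintype.linearCombination_apply_single, one_smul]

/-- reindexing `G → B` by `Fin m` -/
noncomputable def reidx (m : ℕ) (ι : Fin m → G) : (G → B) →ₗ[A] (Fin m → B) :=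
  LinearMap.funLeft A B ι

theorem reidx_bijective (m : ℕ) (ι : Fin m → G) (hι : Function.Bijective ι) :
    Function.Bijective (reidx (A := A) (B := B) m ι) :=
  ⟨LinearMap.funLeft_injective_of_surjective A B _ hι.2,
    LinearMap.funLeft_surjective_of_injective A B _ hι.1⟩

theorem lam_bijective (m : ℕ) (ι : Fin m → G) (hι : Function.Bijective ι) (t : B)
    (hdet : IsUnit (Matrix.vandermonde (fun k : Fin m => σ (ι k) t)).det)
    (hΨ : Function.Bijective (Psi σ)) : Function.Bijective (lam (A := A) m t) := by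
  rw [← Module.FaithfullyFlat.lTensor_bijective_iff_bijective A B]
  obtain ⟨s, hs⟩ : ∃ s : (Fin m → B) →ₗ[A] B ⊗[A] (Fin m → A),
      s = ((TensorProduct.piScalarRight A B B (Fin m)).symm.toLinearMap.restrictScalars A) :=
    ⟨_, rfl⟩
  have hsbij : Function.Bijective s := by
    rw [hs]; exact (TensorProduct.piScalarRight A B B (Fin m)).symm.bijective
  have hs_single : ∀ (i : Fin m) (x : B), s (Pi.single i x) = x ⊗ₜ[A] Pi.single i (1 : A) := by
    intro i x
    rw [hs]
    exact TensorProduct.piScalarRight_symm_single A B B (Fin m) x i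
  obtain ⟨V, hV⟩ : ∃ V : Matrix (Fin m) (Fin m) B,
      V = Matrix.vandermonde (fun k : Fin m => σ (ι k) t) := ⟨_, rfl⟩
  have htotal : (reidx (A := A) (B := B) m ι) ∘ₗ (Psi σ).toLinearMap ∘ₗ
      ((lam (A := A) m t).lTensor B) ∘ₗ s = (V.mulVecLin).restrictScalars A := by
    apply LinearMap.pi_ext
    intro i x
    funext k
    rw [LinearMap.comp_apply, LinearMap.comp_apply, LinearMap.comp_apply, hs_single,
      LinearMap.lTensor_tmul, lam_single]
    show Psi σ (x ⊗ₜ[A] (t ^ (i : ℕ))) (ι k) = V.mulVec (Pi.single i x) k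
    rw [Psi_tmul, map_pow, Matrix.mulVec_single, hV]
    simp only [Matrix.vandermonde_apply, Pi.smul_apply, Matrix.col_apply,
      MulOpposite.smul_eq_mul_unop, MulOpposite.unop_op]
    ring
  have hVbij : Function.Bijective V.mulVec := by
    have hu : IsUnit V := (Matrix.isUnit_iff_isUnit_det _).mpr (hV ▸ hdet)
    exact ⟨Matrix.mulVec_injective_of_isUnit hu, Matrix.mulVec_surjective_iff_isUnit.mpr hu⟩
  have hcomp : Function.Bijective ((reidx (A := A) (B := B) m ι) ∘ (Psi σ) ∘
      ((lam (A := A) m t).lTensor B) ∘ s) := by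
    have h1 : ((reidx (A := A) (B := B) m ι) ∘ (Psi σ) ∘ ((lam (A := A) m t).lTensor B) ∘ s) =
        V.mulVec := by
      funext c
      exact congrArg (fun f => f c) htotal
    rw [h1]
    exact hVbij
  have h2 : Function.Bijective ((Psi σ) ∘ ((lam (A := A) m t).lTensor B) ∘ s) :=
    (Function.Bijective.of_comp_iff' (reidx_bijective (A := A) (B := B) m ι hι) _).mp hcomp
  have h3 : Function.Bijective (((lam (A := A) m t).lTensor B) ∘ s) :=
    (Function.Bijective.of_comp_iff' hΨ _).mp h2
  exact (Function.Bijective.of_comp_iff _ hsbij).mp h3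

/-- the basis `1, T, …, T^(m-1)` of `A[T]/(f)` for `f` monic of degree `m` -/
noncomputable def powBasis (m : ℕ) (f : A[X]) (hf : f.Monic) (hdeg : f.natDegree = m) :
    Module.Basis (Fin m) A (AdjoinRoot f) :=
  (AdjoinRoot.powerBasis' hf).basis.reindex (finCongr hdeg)

theorem powBasis_apply (m : ℕ) (f : A[X]) (hf : f.Monic) (hdeg : f.natDegree = m) (i : Fin m) :
    powBasis m f hf hdeg i = AdjoinRoot.root f ^ (i : ℕ) := by
  unfold powBasis
  rw [Module.Basis.reindex_apply, PowerBasis.basis_eq_pow]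
  rfl

theorem lift_bijective (m : ℕ) (ι : Fin m → G) (hι : Function.Bijective ι) (t : B)
    (hdet : IsUnit (Matrix.vandermonde (fun k : Fin m => σ (ι k) t)).det)
    (hΨ : Function.Bijective (Psi σ)) (f : A[X]) (hf : f.Monic) (hdeg : f.natDegree = m)
    (h : eval₂ (algebraMap A B) t f = 0) :
    Function.Bijective (AdjoinRoot.lift (algebraMap A B) t h) := by
  have h' : eval₂ (Algebra.ofId A B) t f = 0 := h
  obtain ⟨Θ, hΘ⟩ : ∃ Θ : AdjoinRoot f →ₐ[A] B,
      Θ = AdjoinRoot.liftAlgHom f (Algebra.ofId A B) t h' := ⟨_, rfl⟩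
  have hcoe : ⇑(AdjoinRoot.lift (algebraMap A B) t h) = ⇑Θ := by
    rw [hΘ]; rfl
  have hroot : Θ (AdjoinRoot.root f) = t := by
    rw [hΘ]; exact AdjoinRoot.liftAlgHom_root _ _ _ _
  have hlin : Θ.toLinearMap = (lam (A := A) m t) ∘ₗ (powBasis m f hf hdeg).equivFun.toLinearMap := by
    apply (powBasis m f hf hdeg).ext
    intro i
    have h1 : (powBasis m f hf hdeg).equivFun (powBasis m f hf hdeg i) = Pi.single i (1 : A) := by
      funext j
      rw [Module.Basis.equivFun_self, Pi.single_apply]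
      simp only [eq_comm]
    show Θ (powBasis m f hf hdeg i) =
      lam (A := A) m t ((powBasis m f hf hdeg).equivFun (powBasis m f hf hdeg i))
    rw [h1, lam_single, powBasis_apply, map_pow, hroot]
  rw [hcoe]
  have h2 : ⇑Θ = (lam (A := A) m t) ∘ (powBasis m f hf hdeg).equivFun := by
    funext x
    exact congrArg (fun f => f x) hlin
  rw [h2]
  exact (lam_bijective σ m ι hι t hdet hΨ).comp (powBasis m f hf hdeg).equivFun.bijective

end Groth.Agent.Lib.Helper22.Kum
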