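import Mathlib
import Groth.Agent.Lib.Helper22.KumA

/-!
# Galois algebras over a local ring: a unit eigenvector for a character (helper22)
-/

set_option autoImplicit false

universe u

open TensorProduct Polynomial

namespace Groth.Agent.Lib.Helper22.Kum

open Groth.Agent.Lib.Helper22.ASch

variable {A B : Type u} [CommRing A] [CommRing B] [Algebra A B] [Module.FaithfullyFlat A B]
  {G : Type*} [Group G] [Fintype G] (σ : G → B →ₐ[A] B) (χ : G →* Aˣ)

/-- the Lagrange resolvent `Σ_g χ(g)⁻¹ σ_g(y)` -/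
noncomputable def res (y : B) : B := ∑ g : G, (((χ g)⁻¹ : Aˣ) : A) • σ g y

/-- the averaging operator `Σ_g σ_g` -/
noncomputable def avg : B →ₗ[A] B := ∑ g : G, (σ g).toLinearMap

theorem avg_apply (b : B) : avg σ b = ∑ g : G, σ g b := by
  unfold avg
  rw [LinearMap.sum_apply]
  rfl

theorem sigma_res (hσ : ∀ g h, σ (g * h) = (σ g).comp (σ h)) (h : G) (y : B) :
    σ h (res σ χ y) = ((χ h : Aˣ) : A) • res σ χ y := by
  unfold res
  rw [map_sum, Finset.smul_sum]
  refine Fintype.sum_equiv (Equiv.mulLeft h) _ _ fun g => ?_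
  rw [map_smul, Equiv.coe_mulLeft, smul_smul, map_mul, mul_inv, Units.val_mul,
    ← mul_assoc, ← Units.val_mul, mul_comm (χ h), inv_mul_cancel, Units.val_one, one_mul]
  show _ = _ • σ (h * g) y
  rw [hσ]
  rfl

theorem sigma_avg (hσ : ∀ g h, σ (g * h) = (σ g).comp (σ h)) (h : G) (b : B) :
    σ h (avg σ b) = avg σ b := by
  rw [avg_apply, map_sum]
  refine Fintype.sum_equiv (Equiv.mulLeft h) _ _ fun g => ?_
  show σ h (σ g b) = σ (h * g) b
  rw [hσ]
  rfl

/-- `z ↦ Σ_h χ(h)⁻¹ Ψ(z)_h` -/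
noncomputable def gam : B ⊗[A] B →ₗ[A] B :=
  ∑ h : G, (((χ h)⁻¹ : Aˣ) : A) •
    ((LinearMap.proj h : (G → B) →ₗ[A] B) ∘ₗ (Psi σ).toLinearMap)

theorem gam_apply (z : B ⊗[A] B) :
    gam σ χ z = ∑ h : G, (((χ h)⁻¹ : Aˣ) : A) • Psi σ z h := by
  unfold gam
  rw [LinearMap.sum_apply]
  rfl

theorem gam_tmul (x y : B) : gam σ χ (x ⊗ₜ[A] y) = x * res σ χ y := by
  rw [gam_apply]
  unfold res
  rw [Finset.mul_sum]
  refine Finset.sum_congr rfl fun h _ => ?_
  rw [Psi_tmul, mul_smul_comm]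

theorem avg_mul_res (hσ : ∀ g h, σ (g * h) = (σ g).comp (σ h)) (x y : B) :
    avg σ (x * res σ χ y) = (∑ g : G, ((χ g : Aˣ) : A) • σ g x) * res σ χ y := by
  rw [avg_apply, Finset.sum_mul]
  refine Finset.sum_congr rfl fun g _ => ?_
  rw [map_mul, sigma_res σ χ hσ, mul_smul_comm, smul_mul_assoc]

theorem exists_unit_res [IsLocalRing A] (hσ : ∀ g h, σ (g * h) = (σ g).comp (σ h))
    (hcard : IsUnit ((Fintype.card G : ℕ) : A)) (hΨ : Function.Bijective (Psi σ)) :
    ∃ y : B, IsUnit (res σ χ y) := by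
  classical
  by_contra hne
  push_neg at hne
  obtain ⟨S, hS⟩ : ∃ S : Submodule A B,
      S = Submodule.map (Algebra.linearMap A B) (IsLocalRing.maximalIdeal A) := ⟨_, rfl⟩
  have hmem : ∀ z : B ⊗[A] B, avg σ (gam σ χ z) ∈ S := by
    intro z
    induction z using TensorProduct.induction_on with
    | zero => rw [map_zero, map_zero]; exact S.zero_mem
    | tmul x y =>
      rw [gam_tmul]
      obtain ⟨a, ha⟩ := exists_of_invariant σ hΨ (avg σ (x * res σ χ y))
        (fun g => sigma_avg σ hσ g _)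
      have ham : a ∈ IsLocalRing.maximalIdeal A := by
        by_contra hnot
        have hu : IsUnit a := IsLocalRing.notMem_maximalIdeal.mp hnot
        have hu' : IsUnit (avg σ (x * res σ χ y)) := ha ▸ hu.map (algebraMap A B)
        rw [avg_mul_res σ χ hσ] at hu'
        exact hne y (isUnit_of_mul_isUnit_right hu')
      rw [hS]
      exact ⟨a, ham, ha⟩
    | add z₁ z₂ h₁ h₂ => rw [map_add, map_add]; exact S.add_mem h₁ h₂
  obtain ⟨ε, hε⟩ := hΨ.2 (Pi.single 1 1)
  have hgam : gam σ χ ε = 1 := by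
    rw [gam_apply, hε, Finset.sum_eq_single 1]
    · rw [map_one, inv_one, Units.val_one, one_smul, Pi.single_eq_same]
    · intro h _ hh
      rw [Pi.single_eq_of_ne hh, smul_zero]
    · intro h; exact absurd (Finset.mem_univ _) h
  have havg : avg σ (1 : B) = algebraMap A B ((Fintype.card G : ℕ) : A) := by
    rw [avg_apply]
    simp only [map_one, Finset.sum_const, Finset.card_univ, nsmul_eq_mul, mul_one, map_natCast]
  have h3 := hmem ε
  rw [hgam, havg, hS] at h3
  obtain ⟨m, hm, hmeq⟩ := h3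
  have hmeq' : m = ((Fintype.card G : ℕ) : A) :=
    algebraMap_injective_of_ff (A := A) B hmeq
  rw [hmeq'] at hm
  exact (IsLocalRing.notMem_maximalIdeal.mpr hcard) hm

end Groth.Agent.Lib.Helper22.Kum
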