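import Mathlib

/-!
# Roots of unity of invertible order in a local ring (helper22)
-/

set_option autoImplicit false

universe u

namespace Groth.Agent.Lib.Helper22.Kum

variable {A : Type u} [CommRing A] [IsLocalRing A] (n : ℕ)

theorem eq_one_of_sub_one_mem (hn : IsUnit ((n : ℕ) : A)) (x : A) (hx : x ^ n = 1)
    (hm : x - 1 ∈ IsLocalRing.maximalIdeal A) : x = 1 := by
  have h1 : (∑ i ∈ Finset.range n, x ^ i) * (x - 1) = 0 := by
    rw [geom_sum_mul, hx, sub_self]
  have hres : IsLocalRing.residue A x = 1 := by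
    have := (IsLocalRing.residue_eq_zero_iff (x - 1)).mpr hm
    rw [map_sub, map_one, sub_eq_zero] at this
    exact this
  have hu : IsUnit (∑ i ∈ Finset.range n, x ^ i) := by
    rw [← IsLocalRing.residue_ne_zero_iff_isUnit]
    rw [map_sum]
    simp only [map_pow, hres, one_pow, Finset.sum_const, Finset.card_range, nsmul_eq_mul, mul_one]
    have h2 : IsLocalRing.residue A ((n : ℕ) : A) ≠ 0 :=
      (IsLocalRing.residue_ne_zero_iff_isUnit _).mpr hn
    rwa [map_natCast] at h2
  have h3 := (hu.mul_right_eq_zero).mp h1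
  exact sub_eq_zero.mp h3

theorem isUnit_sub_of_ne (hn1 : 1 ≤ n) (hn : IsUnit ((n : ℕ) : A)) (x y : A) (hx : x ^ n = 1)
    (hy : y ^ n = 1) (hxy : x ≠ y) : IsUnit (x - y) := by
  by_contra hnu
  apply hxy
  have hm : x - y ∈ IsLocalRing.maximalIdeal A := by
    by_contra h'
    exact hnu (IsLocalRing.notMem_maximalIdeal.mp h')
  have hres : IsLocalRing.residue A x = IsLocalRing.residue A y := by
    have := (IsLocalRing.residue_eq_zero_iff (x - y)).mpr hm
    rw [map_sub, sub_eq_zero] at this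
    exact this
  have hyy : y ^ (n - 1) * y = 1 := by
    rw [pow_sub_one_mul (by omega), hy]
  have hw : (x * y ^ (n - 1)) ^ n = 1 := by
    rw [mul_pow, hx, one_mul, ← pow_mul, mul_comm, pow_mul, hy, one_pow]
  have hwm : x * y ^ (n - 1) - 1 ∈ IsLocalRing.maximalIdeal A := by
    rw [← IsLocalRing.residue_eq_zero_iff, map_sub, map_mul, hres, ← map_mul, mul_comm, hyy,
      map_one, sub_self]
  have h1 := eq_one_of_sub_one_mem n hn _ hw hwm
  calc x = x * (y ^ (n - 1) * y) := by rw [hyy, mul_one]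
    _ = (x * y ^ (n - 1)) * y := by ring
    _ = y := by rw [h1, one_mul]

/-- distinct roots of unity differ by a unit -/
theorem isUnit_sub_rootsOfUnity (hn1 : 1 ≤ n) (hn : IsUnit ((n : ℕ) : A))
    (g h : rootsOfUnity n A) (hgh : g ≠ h) : IsUnit (((g : Aˣ) : A) - ((h : Aˣ) : A)) := by
  apply isUnit_sub_of_ne n hn1 hn
  · have := (mem_rootsOfUnity n (g : Aˣ)).mp g.2
    have h2 := congrArg Units.val this
    simpa using h2
  · have := (mem_rootsOfUnity n (h : Aˣ)).mp h.2
    have h2 := congrArg Units.val this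
    simpa using h2
  · intro heq
    exact hgh (Subtype.ext (Units.ext heq))

theorem restrict_injective (hn1 : 1 ≤ n) (hn : IsUnit ((n : ℕ) : A)) :
    Function.Injective (restrictRootsOfUnity (IsLocalRing.residue A) n) := by
  intro g h hgh
  by_contra hne
  have hu := isUnit_sub_rootsOfUnity n hn1 hn g h hne
  have h1 : IsLocalRing.residue A ((g : Aˣ) : A) = IsLocalRing.residue A ((h : Aˣ) : A) := by
    have := congrArg (fun z : rootsOfUnity n (IsLocalRing.ResidueField A) =>
      ((z : (IsLocalRing.ResidueField A)ˣ) : IsLocalRing.ResidueField A)) hgh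
    simpa [restrictRootsOfUnity_coe_apply] using this
  have h2 : IsLocalRing.residue A (((g : Aˣ) : A) - ((h : Aˣ) : A)) ≠ 0 :=
    (IsLocalRing.residue_ne_zero_iff_isUnit _).mpr hu
  rw [map_sub, h1, sub_self] at h2
  exact h2 rfl

theorem finite_rootsOfUnity (hn1 : 1 ≤ n) (hn : IsUnit ((n : ℕ) : A)) :
    Finite (rootsOfUnity n A) := by
  haveI : NeZero n := ⟨by omega⟩
  exact Finite.of_injective _ (restrict_injective n hn1 hn)

theorem card_rootsOfUnity_le (hn1 : 1 ≤ n) (hn : IsUnit ((n : ℕ) : A)) :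
    Nat.card (rootsOfUnity n A) ≤ n := by
  haveI : NeZero n := ⟨by omega⟩
  exact (Nat.card_le_card_of_injective _ (restrict_injective n hn1 hn)).trans
    (card_rootsOfUnity (IsLocalRing.ResidueField A) n)

/-- the powers of a primitive root enumerate the roots of unity -/
theorem exists_enum (hn1 : 1 ≤ n) (hn : IsUnit ((n : ℕ) : A)) (ζ₀ : A)
    (hζ₀ : IsPrimitiveRoot ζ₀ n) :
    ∃ ι : Fin n → rootsOfUnity n A, Function.Bijective ι := by
  haveI : NeZero n := ⟨by omega⟩
  haveI := finite_rootsOfUnity n hn1 hn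
  refine ⟨fun k => hζ₀.toRootsOfUnity ^ (k : ℕ), ?_⟩
  apply Function.Injective.bijective_of_nat_card_le
  · intro i j hij
    have h1 := congrArg (fun z : rootsOfUnity n A => ((z : Aˣ) : A)) hij
    simp only [SubmonoidClass.coe_pow, Units.val_pow_eq_pow_val,
      IsPrimitiveRoot.val_toRootsOfUnity_coe] at h1
    exact Fin.ext (hζ₀.pow_inj i.2 j.2 h1)
  · rw [Nat.card_fin]
    exact card_rootsOfUnity_le n hn1 hn

theorem card_rootsOfUnity_eq (hn1 : 1 ≤ n) (hn : IsUnit ((n : ℕ) : A)) (ζ₀ : A)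
    (hζ₀ : IsPrimitiveRoot ζ₀ n) : Nat.card (rootsOfUnity n A) = n := by
  obtain ⟨ι, hι⟩ := exists_enum n hn1 hn ζ₀ hζ₀
  rw [← Nat.card_eq_of_bijective ι hι, Nat.card_fin]

end Groth.Agent.Lib.Helper22.Kum
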