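import Mathlib
import Groth.Agent.Lib.Helper22.KumB
import Groth.Agent.Lib.Helper22.KumC

/-!
# Kummer theory for a Galois `μ_n`-algebra over a local ring (helper22)
-/

set_option autoImplicit false

universe u

open TensorProduct Polynomial

namespace Groth.Agent.Lib.Helper22.Kum

open Groth.Agent.Lib.Helper22.ASch

variable {A B : Type u} [CommRing A] [CommRing B] [Algebra A B] [Module.FaithfullyFlat A B]
  [IsLocalRing A] (n : ℕ)

theorem main (hn1 : 1 ≤ n) (hn : IsUnit ((n : ℕ) : A)) (ζ₀ : A) (hζ₀ : IsPrimitiveRoot ζ₀ n)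
    (σ : rootsOfUnity n A → B →ₐ[A] B) (hσ : ∀ g h, σ (g * h) = (σ g).comp (σ h))
    (hΨ : Function.Bijective (Psi σ)) :
    ∃ (a : Aˣ) (t : B) (h : eval₂ (algebraMap A B) t (X ^ n - C (a : A)) = 0),
      (∀ g : rootsOfUnity n A, σ g t = ((g : Aˣ) : A) • t) ∧
      Function.Bijective (AdjoinRoot.lift (algebraMap A B) t h) := by
  classical
  haveI := finite_rootsOfUnity (A := A) n hn1 hn
  letI : Fintype (rootsOfUnity n A) := Fintype.ofFinite _
  have hcard : Fintype.card (rootsOfUnity n A) = n := by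
    rw [← Nat.card_eq_fintype_card]; exact card_rootsOfUnity_eq n hn1 hn ζ₀ hζ₀
  obtain ⟨y, hy⟩ := exists_unit_res σ (rootsOfUnity n A).subtype hσ (by rw [hcard]; exact hn) hΨ
  obtain ⟨t, ht⟩ : ∃ t, t = res σ (rootsOfUnity n A).subtype y := ⟨_, rfl⟩
  rw [← ht] at hy
  have hσt : ∀ g : rootsOfUnity n A, σ g t = ((g : Aˣ) : A) • t := by
    intro g; rw [ht]; exact sigma_res σ _ hσ g y
  have hgn : ∀ g : rootsOfUnity n A, (((g : Aˣ) : A)) ^ n = 1 := by
    intro g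
    have := (mem_rootsOfUnity n (g : Aˣ)).mp g.2
    have h2 := congrArg Units.val this
    simpa using h2
  have hinv : ∀ g, σ g (t ^ n) = t ^ n := by
    intro g; rw [map_pow, hσt, _root_.smul_pow, hgn, one_smul]
  obtain ⟨a₀, ha₀⟩ := exists_of_invariant σ hΨ (t ^ n) hinv
  obtain ⟨u, hu⟩ := (hy.pow n).exists_left_inv
  have hinvu : ∀ g, σ g u = u := by
    intro g
    have h1 : σ g u * t ^ n = 1 := by
      rw [← hinv g, ← map_mul, hu, map_one]
    calc σ g u = σ g u * (u * t ^ n) := by rw [hu, mul_one]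
      _ = (σ g u * t ^ n) * u := by ring
      _ = u := by rw [h1, one_mul]
  obtain ⟨a₁, ha₁⟩ := exists_of_invariant σ hΨ u hinvu
  have ha : a₁ * a₀ = 1 := by
    apply algebraMap_injective_of_ff (A := A) B
    rw [map_mul, ha₁, ha₀, hu, map_one]
  obtain ⟨a, haa⟩ : ∃ a : Aˣ, (a : A) = a₀ := ⟨⟨a₀, a₁, by rw [mul_comm]; exact ha, ha⟩, rfl⟩
  have hroot : eval₂ (algebraMap A B) t (X ^ n - C (a : A)) = 0 := by
    rw [eval₂_sub, eval₂_X_pow, eval₂_C, haa, ha₀, sub_self]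
  refine ⟨a, t, hroot, hσt, ?_⟩
  obtain ⟨ι, hι⟩ := exists_enum n hn1 hn ζ₀ hζ₀
  refine lift_bijective σ n ι hι t ?_ hΨ _ (monic_X_pow_sub_C _ (by omega))
    (natDegree_X_pow_sub_C) hroot
  rw [Matrix.det_vandermonde]
  refine IsUnit.prod_univ_iff.mpr fun i => ?_
  refine (IsUnit.prod_iff).mpr fun j hj => ?_
  have hij : i < j := Finset.mem_Ioi.mp hj
  rw [hσt, hσt, ← sub_smul]
  have hu1 := isUnit_sub_rootsOfUnity n hn1 hn (ι j) (ι i)
    (fun h => (ne_of_gt hij) (hι.1 h))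
  rw [Algebra.smul_def]
  exact (hu1.map (algebraMap A B)).mul hy

end Groth.Agent.Lib.Helper22.Kum
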