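import Mathlib
import Groth.Prelude.Def_FEt
import Groth.Prelude.Def_SGA1t
import Groth.Agent.Lib.Helper22.KumD
import Groth.Agent.Lib.Helper22.ASchJ

/-!
# Principal `μ_n`-covers of the spectrum of a local ring are Kummer covers (helper22)
-/

set_option autoImplicit false
set_option linter.style.haveILetI false
set_option linter.unusedSectionVars false

universe u

open CategoryTheory CategoryTheory.Limits AlgebraicGeometry TensorProduct

namespace Groth.Agent.Lib.Helper22.Kum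

open Groth.Agent.Lib.Helper22.ASch

section kummerIso

variable (A : Type u) [CommRing A] (a : A) (n : ℕ)

/-- `A[T_()]/(T^n - a) ≅ A[X]/(X^n - a)` -/
noncomputable def kummerEquiv :
    SGA1t.kummer A (fun _ : Unit => a) (fun _ => n) ≃+*
      AdjoinRoot (Polynomial.X ^ n - Polynomial.C a : Polynomial A) :=
  Ideal.quotientEquiv _ _ (MvPolynomial.uniqueAlgEquiv A Unit).toRingEquiv (by
    rw [Ideal.map_span, Set.range_unique, Set.image_singleton]
    congr 2
    simp [MvPolynomial.uniqueAlgEquiv_apply])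

theorem kummerEquiv_mk (q : MvPolynomial Unit A) :
    kummerEquiv A a n (Ideal.Quotient.mk _ q) =
      AdjoinRoot.mk _ (MvPolynomial.uniqueAlgEquiv A Unit q) := rfl

theorem kummerEquiv_C (r : A) :
    kummerEquiv A a n (Ideal.Quotient.mk _ (MvPolynomial.C r)) = AdjoinRoot.of _ r := by
  rw [kummerEquiv_mk]
  simp [MvPolynomial.uniqueAlgEquiv_apply]

theorem kummerEquiv_X (i : Unit) :
    kummerEquiv A a n (Ideal.Quotient.mk _ (MvPolynomial.X i)) = AdjoinRoot.root _ := by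
  rw [kummerEquiv_mk]
  simp [MvPolynomial.uniqueAlgEquiv_apply]

end kummerIso

variable (A : Type u) [CommRing A] [IsLocalRing A] (n : ℕ)
  (P : FEt.Cat (Spec (CommRingCat.of A))) (ρ : ↥(rootsOfUnity n A) →* Aut P)

/-- the `μ_n`-action on global sections -/
noncomputable def sig (g : rootsOfUnity n A) : Γ(P.left, ⊤) →ₐ[A] Γ(P.left, ⊤) :=
  sigmaOf P (ρ g).hom

theorem sig_mul (g h : rootsOfUnity n A) :
    sig A n P ρ (g * h) = (sig A n P ρ g).comp (sig A n P ρ h) := by
  unfold sig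
  rw [mul_comm, map_mul, ← sigmaOf_comp]
  rfl

theorem kummer_of_isPrincipal (hn1 : 1 ≤ n)
    (hn : IsUnit ((n : ℕ) : A)) (ζ₀ : A) (hζ₀ : IsPrimitiveRoot ζ₀ n)
    (hP : SGA1t.IsPrincipal ↥(rootsOfUnity n A) P ρ) :
    ∃ (a : Aˣ) (e : P.left ≅ Spec (CommRingCat.of (SGA1t.kummer A (fun _ : Unit => (a : A)) (fun _ => n)))),
      e.hom ≫ Spec.map (CommRingCat.ofHom (algebraMap A (SGA1t.kummer A (fun _ : Unit => (a : A)) (fun _ => n)))) = P.hom ∧
      ∀ ζ : ↥(rootsOfUnity n A), (ρ ζ).hom.left ≫ e.hom =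
        e.hom ≫ Spec.map (CommRingCat.ofHom (SGA1t.kummerTwist A (fun _ : Unit => (a : A)) (fun _ => n) (fun _ => ζ))) := by
  haveI := faithfullyFlatP P hP.1
  haveI := finite_rootsOfUnity (A := A) n hn1 hn
  have hΨ : Function.Bijective (Psi (sig A n P ρ)) :=
    psi_bijective_of_isPrincipal P (↥(rootsOfUnity n A)) ρ hP
  obtain ⟨a, t, h, hσt, hbij⟩ := main (A := A) (B := Γ(P.left, ⊤)) n hn1 hn ζ₀ hζ₀
    (sig A n P ρ) (sig_mul A n P ρ) hΨ
  obtain ⟨Θ, hΘ⟩ : ∃ Θ : SGA1t.kummer A (fun _ : Unit => (a : A)) (fun _ => n) →+* Γ(P.left, ⊤),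
      Θ = (AdjoinRoot.lift (algebraMap A Γ(P.left, ⊤)) t h).comp
        (kummerEquiv A (a : A) n).toRingHom := ⟨_, rfl⟩
  have hΘbij : Function.Bijective Θ := by
    rw [hΘ]; exact hbij.comp (kummerEquiv A (a : A) n).bijective
  have hΘC : ∀ r : A, Θ (Ideal.Quotient.mk _ (MvPolynomial.C r)) = algebraMap A Γ(P.left, ⊤) r := by
    intro r
    rw [hΘ]
    show AdjoinRoot.lift _ t h (kummerEquiv A (a : A) n (Ideal.Quotient.mk _ (MvPolynomial.C r))) = _
    rw [kummerEquiv_C]
    exact AdjoinRoot.lift_of h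
  have hΘX : ∀ i : Unit, Θ (Ideal.Quotient.mk _ (MvPolynomial.X i)) = t := by
    intro i
    rw [hΘ]
    show AdjoinRoot.lift _ t h (kummerEquiv A (a : A) n (Ideal.Quotient.mk _ (MvPolynomial.X i))) = _
    rw [kummerEquiv_X]
    exact AdjoinRoot.lift_root h
  let eΘ : CommRingCat.of (SGA1t.kummer A (fun _ : Unit => (a : A)) (fun _ => n)) ≅ Γ(P.left, ⊤) :=
    (RingEquiv.ofBijective Θ hΘbij).toCommRingCatIso
  have heΘ : eΘ.hom = CommRingCat.ofHom Θ := rfl
  refine ⟨a, P.left.isoSpec ≪≫ Scheme.Spec.mapIso eΘ.op, ?_, ?_⟩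
  · show (P.left.isoSpec.hom ≫ Spec.map eΘ.hom) ≫ _ = _
    rw [Category.assoc, ← Spec.map_comp, heΘ]
    have : CommRingCat.ofHom (algebraMap A (SGA1t.kummer A (fun _ : Unit => (a : A)) (fun _ => n))) ≫
        CommRingCat.ofHom Θ = phi P := by
      apply CommRingCat.hom_ext
      apply RingHom.ext
      intro r
      show Θ (algebraMap A (SGA1t.kummer A (fun _ : Unit => (a : A)) (fun _ => n)) r) =
        algebraMap A Γ(P.left, ⊤) r
      exact hΘC r
    rw [this]
    exact isoSpec_phi P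
  · intro ζ
    show _ ≫ (P.left.isoSpec.hom ≫ Spec.map eΘ.hom) = (P.left.isoSpec.hom ≫ Spec.map eΘ.hom) ≫ _
    rw [← Category.assoc, ← isoSpec_sigmaOf, Category.assoc, Category.assoc, ← Spec.map_comp,
      ← Spec.map_comp, heΘ]
    congr 2
    apply CommRingCat.hom_ext
    show ((sig A n P ρ ζ).toRingHom.comp Θ) =
      Θ.comp (SGA1t.kummerTwist A (fun _ : Unit => (a : A)) (fun _ => n) (fun _ => ζ))
    apply Ideal.Quotient.ringHom_ext
    apply MvPolynomial.ringHom_ext
    · intro r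
      show sig A n P ρ ζ (Θ (Ideal.Quotient.mk _ (MvPolynomial.C r))) =
        Θ (SGA1t.kummerTwist A (fun _ : Unit => (a : A)) (fun _ => n) (fun _ => ζ)
          (Ideal.Quotient.mk _ (MvPolynomial.C r)))
      rw [hΘC, AlgHom.commutes]
      unfold SGA1t.kummerTwist
      rw [Ideal.Quotient.lift_mk]
      show _ = Θ (Ideal.Quotient.mk _ (MvPolynomial.aeval _ (MvPolynomial.C r)))
      rw [MvPolynomial.aeval_C]
      exact (hΘC r).symm
    · intro i
      show sig A n P ρ ζ (Θ (Ideal.Quotient.mk _ (MvPolynomial.X i))) =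
        Θ (SGA1t.kummerTwist A (fun _ : Unit => (a : A)) (fun _ => n) (fun _ => ζ)
          (Ideal.Quotient.mk _ (MvPolynomial.X i)))
      rw [hΘX, hσt]
      unfold SGA1t.kummerTwist
      rw [Ideal.Quotient.lift_mk]
      show _ = Θ (Ideal.Quotient.mk _ (MvPolynomial.aeval _ (MvPolynomial.X i)))
      rw [MvPolynomial.aeval_X, map_mul, map_mul, hΘX, hΘC, Algebra.smul_def]

end Groth.Agent.Lib.Helper22.Kum
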