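import Mathlib
import Groth.Prelude.Def_W4c2conddiscmodels

/-!
# Multigraphs with a multiplicity function: the matrix `α` as a sum over edges (helper22)
-/

set_option autoImplicit false
set_option linter.unusedSectionVars false

universe u

open Finset

namespace Groth.Agent.Lib.Helper22.LG

open LabGraph

variable {V E : Type u} [Fintype V] [Fintype E] [DecidableEq V] [DecidableEq E]
variable (ends : E → V × V)

/-- **sums over neighbours as sums over edges.** -/
theorem sum_erase_edgeMult (v : V) (g : V → ℤ) (hg : g v = 0) :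
    ∑ w ∈ univ.erase v, g w * (edgeMult ends v w : ℤ) =
      ∑ e' : E, ((if (ends e').1 = v then g (ends e').2 else 0) +
        (if (ends e').2 = v then g (ends e').1 else 0)) := by
  classical
  have h1 : ∑ w ∈ univ.erase v, g w * (edgeMult ends v w : ℤ) =
      ∑ w : V, g w * (edgeMult ends v w : ℤ) := by
    rw [← Finset.add_sum_erase univ _ (mem_univ v), hg, zero_mul, zero_add]
  rw [h1]
  have h2 : ∀ w : V, (edgeMult ends v w : ℤ) =
      ∑ e' : E, (if ends e' = (v, w) ∨ ends e' = (w, v) then (1 : ℤ) else 0) := by
    intro w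
    unfold edgeMult
    rw [Finset.card_filter]
    push_cast
    rfl
  simp_rw [h2, Finset.mul_sum]
  rw [Finset.sum_comm]
  refine Finset.sum_congr rfl fun e' _ => ?_
  generalize ends e' = ab
  obtain ⟨a, b⟩ := ab
  simp only [Prod.mk.injEq]
  by_cases ha : a = v
  · by_cases hb : b = v
    · rw [ha, hb]
      simp only [if_true, hg, add_zero]
      refine Finset.sum_eq_zero fun w _ => ?_
      by_cases hw : w = v
      · rw [hw, hg, zero_mul]
      · have : ¬ ((True ∧ v = w) ∨ (v = w ∧ True)) := by
          rintro (⟨-, h⟩ | ⟨h, -⟩)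
          · exact hw h.symm
          · exact hw h.symm
        rw [if_neg this, mul_zero]
    · rw [ha, if_pos rfl, if_neg hb, add_zero]
      rw [Finset.sum_eq_single b]
      · simp
      · intro w _ hw
        have : ¬ ((v = v ∧ b = w) ∨ (v = w ∧ b = v)) := by
          rintro (⟨-, h⟩ | ⟨-, h⟩)
          · exact hw h.symm
          · exact hb h
        rw [if_neg this, mul_zero]
      · intro h
        exact absurd (mem_univ b) h
  · by_cases hb : b = v
    · rw [hb, if_neg ha, if_pos rfl, zero_add]
      rw [Finset.sum_eq_single a]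
      · simp
      · intro w _ hw
        have : ¬ ((a = v ∧ v = w) ∨ (a = w ∧ v = v)) := by
          rintro (⟨h, -⟩ | ⟨h, -⟩)
          · exact ha h
          · exact hw h.symm
        rw [if_neg this, mul_zero]
      · intro h
        exact absurd (mem_univ a) h
    · rw [if_neg ha, if_neg hb, add_zero]
      refine Finset.sum_eq_zero fun w _ => ?_
      have : ¬ ((a = v ∧ b = w) ∨ (a = w ∧ b = v)) := by
        rintro (⟨h, -⟩ | ⟨-, h⟩)
        · exact ha h
        · exact hb h
      rw [if_neg this, mul_zero]

variable {ends}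

/-- exact division on the diagonal. -/
theorem beta_mul_diag {β : V → ℤ} (hβ : IsMultFn ends β) (v : V) :
    β v * mfMatrix ends β v v = -(∑ u ∈ univ.erase v, β u * (edgeMult ends v u : ℤ)) := by
  unfold mfMatrix
  rw [if_pos rfl]
  exact Int.mul_ediv_cancel' ((dvd_neg).2 (hβ v).2)

/-- the term of an edge in `β v * (α z) v`. -/
def term (ends : E → V × V) (β z : V → ℤ) (v : V) (e' : E) : ℤ :=
  (if (ends e').1 = v then β v * z (ends e').2 - β (ends e').2 * z v else 0) +
    (if (ends e').2 = v then β v * z (ends e').1 - β (ends e').1 * z v else 0)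

/-- **the matrix `α` as a sum over edges.** -/
theorem beta_mul_mulVec {β : V → ℤ} (hβ : IsMultFn ends β) (z : V → ℤ) (v : V) :
    β v * (Matrix.mulVec (mfMatrix ends β) z) v = ∑ e' : E, term ends β z v e' := by
  classical
  have h1 : (Matrix.mulVec (mfMatrix ends β) z) v =
      mfMatrix ends β v v * z v + ∑ w ∈ univ.erase v, (edgeMult ends v w : ℤ) * z w := by
    rw [Matrix.mulVec, dotProduct, ← Finset.add_sum_erase univ _ (mem_univ v)]
    congr 1
    refine Finset.sum_congr rfl fun w hw => ?_
    unfold mfMatrix
    rw [if_neg (fun h => (Finset.ne_of_mem_erase hw) h.symm)]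
  rw [h1, mul_add, ← mul_assoc, beta_mul_diag hβ v]
  have h2 := sum_erase_edgeMult ends v (fun w => β v * z w - β w * z v) (by ring)
  unfold term
  rw [← h2, neg_mul, Finset.sum_mul, Finset.mul_sum, ← sub_eq_neg_add, ← Finset.sum_sub_distrib]
  refine Finset.sum_congr rfl fun w _ => ?_
  ring

/-- the image of `α` lies in the kernel of `β`. -/
theorem betaHom_mulVec {β : V → ℤ} (hβ : IsMultFn ends β) (z : V → ℤ) :
    betaHom β (Matrix.mulVec (mfMatrix ends β) z) = 0 := by
  classical
  unfold betaHom
  rw [Fintype.linearCombination_apply]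
  simp only [smul_eq_mul]
  have : ∀ v : V, (Matrix.mulVec (mfMatrix ends β) z) v * β v = ∑ e' : E, term ends β z v e' := by
    intro v
    rw [mul_comm, beta_mul_mulVec hβ]
  simp_rw [this]
  rw [Finset.sum_comm]
  refine Finset.sum_eq_zero fun e' _ => ?_
  unfold term
  rw [Finset.sum_add_distrib, Finset.sum_ite_eq, Finset.sum_ite_eq]
  simp only [mem_univ, if_true]
  ring

end Groth.Agent.Lib.Helper22.LG
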