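import Mathlib
import Groth.Agent.Lib.Helper22.LG1

/-!
# Contraction of edges in a multigraph with a multiplicity function (helper22)
-/

set_option autoImplicit false
set_option linter.unusedSectionVars false

universe u

open Finset

namespace Groth.Agent.Lib.Helper22.LG

open LabGraph DualGr

variable {V E : Type u} [Fintype V] [Fintype E] [DecidableEq V] [DecidableEq E]
variable {ends : E → V × V} {D : Finset E} {β : V → ℤ}

lemma ctrMk_out (c : CtrVert ends D) :
    ctrMk ends D (Quotient.out (s := ctrSetoid ends D) c) = c :=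
  Quotient.out_eq (s := ctrSetoid ends D) c

lemma ctrFn_mk (hconst : ∀ v w, ctrMk ends D v = ctrMk ends D w → β v = β w) (v : V) :
    ctrFn ends D β (ctrMk ends D v) = β v := by
  unfold ctrFn
  exact hconst _ _ (ctrMk_out _)

/-- sums over the edges of the contraction. -/
lemma sum_ctrEdge (F : E → ℤ) (hF : ∀ e ∈ D, F e = 0) :
    ∑ e' : CtrEdge D, F e'.1 = ∑ e : E, F e := by
  classical
  rw [← Finset.sum_subtype (univ.filter (fun e => e ∉ D)) (by simp) F]
  rw [Finset.sum_filter]
  refine Finset.sum_congr rfl fun e _ => ?_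
  by_cases he : e ∈ D
  · rw [if_neg (not_not.2 he), hF e he]
  · rw [if_pos he]

lemma sum_filter_ite_eq (c : CtrVert ends D) (a : V) (F : V → ℤ) :
    ∑ v ∈ univ.filter (fun v => ctrMk ends D v = c), (if a = v then F v else 0) =
      if ctrMk ends D a = c then F a else 0 := by
  classical
  rw [Finset.sum_ite_eq]
  simp

/-- **the contraction of a multiplicity function is a multiplicity function.** -/
theorem isMultFn_ctr (hβ : IsMultFn ends β)
    (hconst : ∀ v w, ctrMk ends D v = ctrMk ends D w → β v = β w) :
    IsMultFn (ctrEnds ends D) (ctrFn ends D β) := by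
  classical
  intro c
  obtain ⟨v₀, rfl⟩ := ctrMk_surjective ends D c
  set c := ctrMk ends D v₀ with hc
  set b := ctrFn ends D β c with hb
  have hbv : ∀ v, ctrMk ends D v = c → β v = b := fun v hv => by
    rw [hb, ← hv, ctrFn_mk hconst]
  refine ⟨by rw [← hbv v₀ rfl]; exact (hβ v₀).1, ?_⟩
  set g : CtrVert ends D → ℤ := fun c' => if c' = c then 0 else ctrFn ends D β c' with hg
  have h1 : ∑ c' ∈ univ.erase c, ctrFn ends D β c' * (edgeMult (ctrEnds ends D) c c' : ℤ) =
      ∑ c' ∈ univ.erase c, g c' * (edgeMult (ctrEnds ends D) c c' : ℤ) := by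
    refine Finset.sum_congr rfl fun c' hc' => ?_
    rw [hg]
    simp only
    rw [if_neg (Finset.ne_of_mem_erase hc')]
  rw [h1, sum_erase_edgeMult (ctrEnds ends D) c g (by rw [hg]; simp)]
  -- pass to a sum over all edges
  set T : E → ℤ := fun e => (if ctrMk ends D (ends e).1 = c then g (ctrMk ends D (ends e).2) else 0) +
    (if ctrMk ends D (ends e).2 = c then g (ctrMk ends D (ends e).1) else 0) with hT
  have h2 : ∑ e' : CtrEdge D, ((if (ctrEnds ends D e').1 = c then g (ctrEnds ends D e').2 else 0) +
      (if (ctrEnds ends D e').2 = c then g (ctrEnds ends D e').1 else 0)) = ∑ e : E, T e := by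
    refine sum_ctrEdge T fun e he => ?_
    have := ctrMk_fst_eq_ctrMk_snd ends D he
    rw [hT]
    simp only
    rw [this]
    by_cases h : ctrMk ends D (ends e).2 = c
    · rw [if_pos h, h, hg]
      simp
    · rw [if_neg h, add_zero]
  rw [h2]
  -- compare with the sums at the vertices of the class
  set R : V → ℤ := fun v => ∑ u ∈ univ.erase v, β u * (edgeMult ends v u : ℤ) with hR
  have hRdvd : ∀ v, ctrMk ends D v = c → b ∣ R v := fun v hv => by
    rw [← hbv v hv]
    exact (hβ v).2
  set K : E → ℤ := fun e =>
    (if ctrMk ends D (ends e).1 = c ∧ (ends e).2 ≠ (ends e).1 ∧ ctrMk ends D (ends e).2 = c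
      then 1 else 0) +
    (if ctrMk ends D (ends e).2 = c ∧ (ends e).1 ≠ (ends e).2 ∧ ctrMk ends D (ends e).1 = c
      then 1 else 0) with hK
  have h3 : ∑ e : E, T e = ∑ v ∈ univ.filter (fun v => ctrMk ends D v = c), R v -
      b * ∑ e : E, K e := by
    have hRv : ∀ v, R v = ∑ e : E, ((if (ends e).1 = v then
        (if (ends e).2 = v then 0 else β (ends e).2) else 0) +
        (if (ends e).2 = v then (if (ends e).1 = v then 0 else β (ends e).1) else 0)) := by
      intro v
      rw [hR]
      simp only
      have := sum_erase_edgeMult ends v (fun u => if u = v then 0 else β u) (by simp)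
      rw [← this]
      refine Finset.sum_congr rfl fun u hu => ?_
      rw [if_neg (Finset.ne_of_mem_erase hu)]
    simp_rw [hRv]
    rw [Finset.sum_comm, Finset.mul_sum, ← Finset.sum_sub_distrib]
    refine Finset.sum_congr rfl fun e _ => ?_
    rw [Finset.sum_add_distrib]
    have e1 := sum_filter_ite_eq (ends := ends) (D := D) c (ends e).1
      (fun v => if (ends e).2 = v then 0 else β (ends e).2)
    have e2 := sum_filter_ite_eq (ends := ends) (D := D) c (ends e).2
      (fun v => if (ends e).1 = v then 0 else β (ends e).1)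
    rw [e1, e2, hT, hK, hg]
    simp only
    by_cases p3 : (ends e).2 = (ends e).1
    · rw [p3]
      by_cases p1 : ctrMk ends D (ends e).1 = c <;> simp [p1]
    · have p3' : ¬ (ends e).1 = (ends e).2 := fun h => p3 h.symm
      by_cases p1 : ctrMk ends D (ends e).1 = c <;> by_cases p2 : ctrMk ends D (ends e).2 = c
      · simp only [p1, p2, p3, p3', if_true, if_false, hbv _ p1, hbv _ p2, ne_eq, not_false_eq_true,
          and_self]
        ring
      · simp only [p1, p2, p3, p3', if_true, if_false, ne_eq, not_false_eq_true,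
          and_false, and_true, ctrFn_mk hconst]
        ring
      · simp only [p1, p2, p3, p3', if_true, if_false, ne_eq, not_false_eq_true,
          and_false, and_true, false_and, ctrFn_mk hconst]
        ring
      · simp only [p1, p2, if_false, false_and]
        ring
  rw [h3]
  refine dvd_sub (Finset.dvd_sum fun v hv => hRdvd v ?_) (dvd_mul_right _ _)
  simpa using hv

/-- **the matrix of the contraction**, in terms of the matrix of the graph. -/
theorem beta_mul_mulVec_ctr (hβ : IsMultFn ends β)
    (hconst : ∀ v w, ctrMk ends D v = ctrMk ends D w → β v = β w)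
    (y' : CtrVert ends D → ℤ) (c : CtrVert ends D) :
    ctrFn ends D β c * (Matrix.mulVec (mfMatrix (ctrEnds ends D) (ctrFn ends D β)) y') c =
      ∑ v ∈ univ.filter (fun v => ctrMk ends D v = c),
        β v * (Matrix.mulVec (mfMatrix ends β) (fun v => y' (ctrMk ends D v))) v := by
  classical
  rw [beta_mul_mulVec (isMultFn_ctr hβ hconst)]
  simp_rw [beta_mul_mulVec hβ]
  rw [Finset.sum_comm]
  set β' := ctrFn ends D β with hβ'
  set τ : E → ℤ := fun e =>
    (if ctrMk ends D (ends e).1 = c then
      β' c * y' (ctrMk ends D (ends e).2) - β' (ctrMk ends D (ends e).2) * y' c else 0) +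
    (if ctrMk ends D (ends e).2 = c then
      β' c * y' (ctrMk ends D (ends e).1) - β' (ctrMk ends D (ends e).1) * y' c else 0) with hτ
  have h0 : ∀ e' : CtrEdge D, term (ctrEnds ends D) β' y' c e' = τ e'.1 := fun e' => rfl
  simp_rw [h0]
  rw [sum_ctrEdge τ (fun e he => by
    have := ctrMk_fst_eq_ctrMk_snd ends D he
    rw [hτ]
    simp only
    rw [this]
    by_cases h : ctrMk ends D (ends e).2 = c
    · rw [if_pos h, h]
      ring
    · rw [if_neg h, add_zero])]
  refine Finset.sum_congr rfl fun e _ => ?_
  unfold term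
  rw [Finset.sum_add_distrib]
  have e1 := sum_filter_ite_eq (ends := ends) (D := D) c (ends e).1
    (fun v => β v * y' (ctrMk ends D (ends e).2) - β (ends e).2 * y' (ctrMk ends D v))
  have e2 := sum_filter_ite_eq (ends := ends) (D := D) c (ends e).2
    (fun v => β v * y' (ctrMk ends D (ends e).1) - β (ends e).1 * y' (ctrMk ends D v))
  rw [e1, e2, hτ]
  simp only
  have hb : ∀ v, β' (ctrMk ends D v) = β v := fun v => ctrFn_mk hconst v
  congr 1
  · by_cases h : ctrMk ends D (ends e).1 = c
    · rw [if_pos h, if_pos h, ← h, hb, hb]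
    · rw [if_neg h, if_neg h]
  · by_cases h : ctrMk ends D (ends e).2 = c
    · rw [if_pos h, if_pos h, ← h, hb, hb]
    · rw [if_neg h, if_neg h]

theorem mulVec_ctr (hβ : IsMultFn ends β)
    (hconst : ∀ v w, ctrMk ends D v = ctrMk ends D w → β v = β w)
    (y' : CtrVert ends D → ℤ) (c : CtrVert ends D) :
    (Matrix.mulVec (mfMatrix (ctrEnds ends D) (ctrFn ends D β)) y') c =
      ∑ v ∈ univ.filter (fun v => ctrMk ends D v = c),
        (Matrix.mulVec (mfMatrix ends β) (fun v => y' (ctrMk ends D v))) v := by
  classical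
  have h := beta_mul_mulVec_ctr hβ hconst y' c
  have hpos : ctrFn ends D β c ≠ 0 := ((isMultFn_ctr hβ hconst) c).1.ne'
  apply mul_left_cancel₀ hpos
  rw [h, Finset.mul_sum]
  refine Finset.sum_congr rfl fun v hv => ?_
  have hv' : ctrMk ends D v = c := by simpa using hv
  rw [← hv', ctrFn_mk hconst]

end Groth.Agent.Lib.Helper22.LG
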