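import Mathlib
import Groth.Agent.Lib.Helper22.LG2

/-!
# Connecting chains in a multigraph with a multiplicity function (helper22)
-/

set_option autoImplicit false
set_option linter.unusedSectionVars false

universe u

open Finset

namespace Groth.Agent.Lib.Helper22.LG

open LabGraph DualGr

variable {V E : Type u} [Fintype V] [Fintype E] [DecidableEq V] [DecidableEq E]
variable {ends : E → V × V} {β : V → ℤ} {m : ℕ} {f : Fin (m + 1) → V} {e : Fin m → E}

/-- the two endpoints of a chain edge. -/
lemma chain_edge_iff (hC : IsChain ends f e) (j : Fin m) (P : V → Prop) :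
    (P (ends (e j)).1 ↔ P (ends (e j)).2) ↔ (P (f j.castSucc) ↔ P (f j.succ)) := by
  rcases hC.2.2 j with h | h <;> rw [h]
  exact ⟨fun h => h.symm, fun h => h.symm⟩

lemma ctrMk_chain (hC : IsChain ends f e) (i : Fin (m + 1)) :
    ctrMk ends (univ.image e) (f i) = ctrMk ends (univ.image e) (f 0) := by
  induction i using Fin.induction with
  | zero => rfl
  | succ i ih =>
    rw [← ih]
    have he : e i ∈ univ.image e := Finset.mem_image_of_mem e (mem_univ i)
    have := ctrMk_fst_eq_ctrMk_snd ends (univ.image e) he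
    rcases hC.2.2 i with h | h <;> rw [h] at this
    · exact this.symm
    · exact this

/-- **the classes of the contraction of a chain.** -/
theorem ctrMk_eq_iff (hC : IsChain ends f e) (v w : V) :
    ctrMk ends (univ.image e) v = ctrMk ends (univ.image e) w ↔
      v = w ∨ (v ∈ Set.range f ∧ w ∈ Set.range f) := by
  constructor
  · intro h
    have h' : Relation.EqvGen (CtrRel ends (univ.image e)) v w :=
      Quotient.exact (s := ctrSetoid ends (univ.image e)) h
    induction h' with
    | rel x y hxy =>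
      obtain ⟨e', he', hends⟩ := hxy
      obtain ⟨i, -, rfl⟩ := Finset.mem_image.1 he'
      right
      rcases hC.2.2 i with h | h <;> rw [h] at hends <;>
        simp only [Prod.mk.injEq] at hends <;> obtain ⟨rfl, rfl⟩ := hends
      · exact ⟨⟨_, rfl⟩, ⟨_, rfl⟩⟩
      · exact ⟨⟨_, rfl⟩, ⟨_, rfl⟩⟩
    | refl x => exact Or.inl rfl
    | symm x y _ ih =>
      rcases ih (Quotient.sound (s := ctrSetoid ends (univ.image e)) ‹_›) with rfl | ⟨h1, h2⟩
      · exact Or.inl rfl
      · exact Or.inr ⟨h2, h1⟩
    | trans x y z hxy hyz ih1 ih2 =>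
      rcases ih1 (Quotient.sound (s := ctrSetoid ends (univ.image e)) hxy) with rfl | ⟨h1, h2⟩
      · exact ih2 (Quotient.sound (s := ctrSetoid ends (univ.image e)) hyz)
      · rcases ih2 (Quotient.sound (s := ctrSetoid ends (univ.image e)) hyz) with rfl | ⟨h3, h4⟩
        · exact Or.inr ⟨h1, h2⟩
        · exact Or.inr ⟨h1, h4⟩
  · rintro (rfl | ⟨⟨i, rfl⟩, ⟨j, rfl⟩⟩)
    · rfl
    · rw [ctrMk_chain hC i, ctrMk_chain hC j]

/-- the cut of a connecting edge of the chain. -/
theorem exists_cut (hC : IsChain ends f e) (hconn : ∀ i, IsConnecting ends (e i)) (j : Fin m) :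
    ∃ B : Finset V, (∀ i : Fin (m + 1), f i ∈ B ↔ j.val < i.val) ∧
      ∀ e' : E, e' ≠ e j → ((ends e').1 ∈ B ↔ (ends e').2 ∈ B) := by
  classical
  obtain ⟨S, hS⟩ := hconn j
  have hj : (f j.castSucc ∈ S ↔ f j.succ ∉ S) := by
    have := (hS (e j)).2 rfl
    rcases hC.2.2 j with h | h <;> rw [h] at this <;> simp only at this <;> tauto
  -- choose the side containing `f j.succ`
  obtain ⟨B, hB1, hB2, hB3⟩ : ∃ B : Finset V, f j.succ ∈ B ∧ f j.castSucc ∉ B ∧
      ∀ e' : E, e' ≠ e j → ((ends e').1 ∈ B ↔ (ends e').2 ∈ B) := by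
    by_cases hs : f j.succ ∈ S
    · refine ⟨S, hs, fun h => (hj.1 h) hs, fun e' he' => ?_⟩
      have := (hS e').not.2 he'
      tauto
    · refine ⟨Sᶜ, by simpa using hs, by simpa using hj.2 hs, fun e' he' => ?_⟩
      have := (hS e').not.2 he'
      simp only [mem_compl]
      tauto
  refine ⟨B, ?_, hB3⟩
  -- walking along the chain
  have walk : ∀ (d a : ℕ) (ha : a + d < m + 1),
      (∀ l : Fin m, a ≤ l.val → l.val < a + d → l ≠ j) →
      (f ⟨a, by omega⟩ ∈ B ↔ f ⟨a + d, ha⟩ ∈ B) := by
    intro d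
    induction d with
    | zero => intro a ha _; rfl
    | succ d ih =>
      intro a ha hl
      have h1 := ih a (by omega) (fun l h1 h2 => hl l h1 (by omega))
      rw [h1]
      set l : Fin m := ⟨a + d, by omega⟩ with hldef
      have hne : e l ≠ e j := fun h => hl l (by simp [hldef]) (by simp [hldef]) (hC.2.1 h)
      have h2 := (chain_edge_iff hC l (fun v => v ∈ B)).1 (hB3 (e l) hne)
      exact h2
  intro i
  by_cases hij : j.val < i.val
  · simp only [hij, iff_true]
    have := walk (i.val - (j.val + 1)) (j.val + 1) (by omega) (fun l h1 _ h => by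
      rw [h] at h1; omega)
    have e1 : (⟨j.val + 1, by omega⟩ : Fin (m + 1)) = j.succ := Fin.ext (by simp)
    have e2 : (⟨j.val + 1 + (i.val - (j.val + 1)), by omega⟩ : Fin (m + 1)) = i :=
      Fin.ext (by simp; omega)
    rw [e1, e2] at this
    exact this.1 hB1
  · simp only [hij, iff_false]
    have := walk (j.val - i.val) i.val (by omega) (fun l _ h2 h => by
      rw [h] at h2; omega)
    have e1 : (⟨i.val, by omega⟩ : Fin (m + 1)) = i := Fin.ext rfl
    have e2 : (⟨i.val + (j.val - i.val), by omega⟩ : Fin (m + 1)) = j.castSucc :=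
      Fin.ext (by simp; omega)
    rw [e1, e2] at this
    exact fun h => hB2 (this.1 h)

/-- the sum of the multiplicities around a chain vertex. -/
lemma sum_at_chain (hβ : IsMultFn ends β) (hβm : ∀ i, β (f i) = (m : ℤ))
    (hα : ∀ i, mfMatrix ends β (f i) (f i) = -2) (i : Fin (m + 1)) :
    ∑ e' : E, ((if (ends e').1 = f i then (if (ends e').2 = f i then 0 else β (ends e').2) else 0) +
      (if (ends e').2 = f i then (if (ends e').1 = f i then 0 else β (ends e').1) else 0)) =
      2 * (m : ℤ) := by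
  classical
  have h1 := beta_mul_diag hβ (f i)
  rw [hα i, hβm i] at h1
  have h2 := sum_erase_edgeMult ends (f i) (fun u => if u = f i then 0 else β u) (by simp)
  rw [← h2]
  have h3 : ∑ u ∈ univ.erase (f i), (if u = f i then 0 else β u) * (edgeMult ends (f i) u : ℤ) =
      ∑ u ∈ univ.erase (f i), β u * (edgeMult ends (f i) u : ℤ) :=
    Finset.sum_congr rfl fun u hu => by rw [if_neg (Finset.ne_of_mem_erase hu)]
  rw [h3]
  linarith

/-- **an interior vertex of the chain has no other neighbours.** -/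
theorem interior_edges (hβ : IsMultFn ends β) (hC : IsChain ends f e)
    (hβm : ∀ i, β (f i) = (m : ℤ)) (hα : ∀ i, mfMatrix ends β (f i) (f i) = -2)
    (j₁ j₂ : Fin m) (h12 : j₁.val + 1 = j₂.val) (e' : E) (h1 : e' ≠ e j₁) (h2 : e' ≠ e j₂)
    (hinc : (ends e').1 = f j₂.castSucc ∨ (ends e').2 = f j₂.castSucc) :
    (ends e').1 = (ends e').2 := by
  classical
  set v := f j₂.castSucc with hv
  set t : E → ℤ := fun e' =>
    (if (ends e').1 = v then (if (ends e').2 = v then 0 else β (ends e').2) else 0) +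
      (if (ends e').2 = v then (if (ends e').1 = v then 0 else β (ends e').1) else 0) with ht
  have hsum : ∑ e', t e' = 2 * (m : ℤ) := sum_at_chain hβ hβm hα j₂.castSucc
  have hpos : ∀ u, 0 < β u := fun u => (hβ u).1
  have ht0 : ∀ e', 0 ≤ t e' := fun e' => by
    rw [ht]
    simp only
    have := fun u => (hpos u).le
    split_ifs <;> simp [this]
  have hv1 : f j₁.succ = v := by
    rw [hv]
    congr 1
    exact Fin.ext (by simp; omega)
  have hne1 : f j₁.castSucc ≠ v := fun h => by
    have := congrArg Fin.val (hC.1 h)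
    simp at this
    omega
  have hne2 : f j₂.succ ≠ v := fun h => by
    have := congrArg Fin.val (hC.1 h)
    simp at this
  have ht1 : t (e j₁) = m := by
    rw [ht]
    simp only
    rcases hC.2.2 j₁ with h | h <;> rw [h] <;> simp [hv1, hne1, hβm]
  have ht2 : t (e j₂) = m := by
    rw [ht]
    simp only
    rcases hC.2.2 j₂ with h | h <;> rw [h] <;> simp [← hv, hne2, hβm]
  have hne12 : e j₂ ≠ e j₁ := fun h => by
    have := congrArg Fin.val (hC.2.1 h)
    omega
  have hsplit : ∑ e', t e' = t (e j₁) + (t (e j₂) +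
      ∑ e' ∈ (univ.erase (e j₁)).erase (e j₂), t e') := by
    rw [← Finset.add_sum_erase univ t (mem_univ (e j₁)),
      ← Finset.add_sum_erase (univ.erase (e j₁)) t (Finset.mem_erase.2 ⟨hne12, mem_univ _⟩)]
  have hrest : ∑ e' ∈ (univ.erase (e j₁)).erase (e j₂), t e' = 0 := by linarith
  have hz : t e' = 0 :=
    (Finset.sum_eq_zero_iff_of_nonneg (fun e' _ => ht0 e')).1 hrest e'
      (Finset.mem_erase.2 ⟨h2, Finset.mem_erase.2 ⟨h1, mem_univ _⟩⟩)
  rw [ht] at hz
  simp only at hz
  rcases hinc with h | h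
  · by_contra hne
    have h2' : (ends e').2 ≠ v := fun h' => hne (h.trans h'.symm)
    rw [if_pos h, if_neg h2', if_neg h2', add_zero] at hz
    exact absurd hz (hpos _).ne'
  · by_contra hne
    have h1' : (ends e').1 ≠ v := fun h' => hne (h'.trans h.symm)
    rw [if_neg h1', if_pos h, if_neg h1', zero_add] at hz
    exact absurd hz (hpos _).ne'

end Groth.Agent.Lib.Helper22.LG
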