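import Mathlib
import Groth.Agent.Lib.Helper22.LG3

/-!
# Connecting chains with multiplicity `m` and self-intersection `-2` (helper22)
-/

set_option autoImplicit false
set_option linter.unusedSectionVars false

universe u

open Finset

namespace Groth.Agent.Lib.Helper22.LG

open LabGraph DualGr

variable {V E : Type u} [Fintype V] [Fintype E] [DecidableEq V] [DecidableEq E]

/-- the hypotheses on the chain. -/
structure ChainCtx (ends : E → V × V) (β : V → ℤ) (m : ℕ) (f : Fin (m + 1) → V) (e : Fin m → E) :
    Prop where
  hβ : IsMultFn ends β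
  hC : IsChain ends f e
  hconn : ∀ i, IsConnecting ends (e i)
  hβm : ∀ i, β (f i) = (m : ℤ)
  hα : ∀ i, mfMatrix ends β (f i) (f i) = -2

variable {ends : E → V × V} {β : V → ℤ} {m : ℕ} {f : Fin (m + 1) → V} {e : Fin m → E}

lemma ChainCtx.pos (h : ChainCtx ends β m f e) : 0 < m := by
  have h1 := (h.hβ (f 0)).1
  rw [h.hβm 0] at h1
  exact_mod_cast h1

/-- endpoints of edges outside the chain are not interior vertices of the chain. -/
lemma ChainCtx.not_interior (h : ChainCtx ends β m f e) (e' : E) (he' : e' ∉ univ.image e)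
    (hne : (ends e').1 ≠ (ends e').2) (i : Fin (m + 1))
    (hi : (ends e').1 = f i ∨ (ends e').2 = f i) : i.val = 0 ∨ i.val = m := by
  by_contra hcon
  push Not at hcon
  have hi2 : i.val < m + 1 := i.2
  set j₁ : Fin m := ⟨i.val - 1, by omega⟩ with hj₁
  set j₂ : Fin m := ⟨i.val, by omega⟩ with hj₂
  have e2 : j₂.castSucc = i := Fin.ext rfl
  refine hne (interior_edges h.hβ h.hC h.hβm h.hα j₁ j₂ (by simp [hj₁, hj₂]; omega) e'
    (fun h' => he' (h' ▸ Finset.mem_image_of_mem e (mem_univ _)))
    (fun h' => he' (h' ▸ Finset.mem_image_of_mem e (mem_univ _))) (by rw [e2]; exact hi))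

/-- sums over all edges split into the chain and the rest. -/
lemma ChainCtx.sum_split (h : ChainCtx ends β m f e) (T : E → ℤ) :
    ∑ e' : E, T e' = ∑ j : Fin m, T (e j) + ∑ e' ∈ univ.filter (fun e' => e' ∉ univ.image e), T e' := by
  classical
  rw [← Finset.sum_filter_add_sum_filter_not univ (fun e' => e' ∈ univ.image e) T]
  congr 1
  rw [Finset.filter_mem_eq_inter, Finset.univ_inter, Finset.sum_image]
  intro a _ b _ hab
  exact h.hC.2.1 hab

lemma sum_telescope : ∀ (m : ℕ) (G : Fin (m + 1) → ℤ),
    ∑ j : Fin m, (G j.castSucc - G j.succ) = G 0 - G (Fin.last m) := by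
  intro m
  induction m with
  | zero => intro G; simp
  | succ m ih =>
    intro G
    rw [Fin.sum_univ_castSucc]
    have := ih (fun i => G i.castSucc)
    simp only [Fin.succ_castSucc] at this ⊢
    rw [this]
    simp only [Fin.castSucc_zero, Fin.succ_last]
    ring

/-- the ramp function. -/
noncomputable def rho (β : V → ℤ) (f : Fin (m + 1) → V) (B : Finset V) (v : V) : ℤ :=
  ∑ i : Fin (m + 1), (if f i = v then (i.val : ℤ) else 0) +
    (if v ∈ B ∧ ∀ i, f i ≠ v then β v else 0)

lemma rho_chain (hinj : Function.Injective f) (B : Finset V) (i : Fin (m + 1)) :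
    rho β f B (f i) = i.val := by
  classical
  unfold rho
  rw [if_neg (fun h => h.2 i rfl), add_zero, Finset.sum_eq_single i]
  · rw [if_pos rfl]
  · intro j _ hj
    rw [if_neg (fun h => hj (hinj h))]
  · intro h
    exact absurd (mem_univ i) h

lemma rho_off (B : Finset V) {v : V} (hv : ∀ i, f i ≠ v) :
    rho β f B v = if v ∈ B then β v else 0 := by
  classical
  unfold rho
  rw [Finset.sum_eq_zero (fun i _ => if_neg (hv i)), zero_add]
  by_cases hB : v ∈ B
  · rw [if_pos ⟨hB, hv⟩, if_pos hB]
  · rw [if_neg (fun h => hB h.1), if_neg hB]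

lemma ChainCtx.rho_nonint (h : ChainCtx ends β m f e) {B : Finset V}
    (hB : ∀ i : Fin (m + 1), f i ∈ B ↔ m - 1 < i.val) {v : V}
    (hv : ∀ i, f i = v → i.val = 0 ∨ i.val = m) :
    rho β f B v = if v ∈ B then β v else 0 := by
  classical
  have hm := h.pos
  by_cases hex : ∃ i, f i = v
  · obtain ⟨i, rfl⟩ := hex
    rw [rho_chain h.hC.1]
    rcases hv i rfl with h0 | h0
    · rw [if_neg (fun hh => by have := (hB i).1 hh; omega), h0]
      simp
    · rw [if_pos ((hB i).2 (by omega)), h0, h.hβm]
  · push Not at hex
    exact rho_off B hex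

/-- **the key identity**: `α ρ = 1_{v₀} - 1_{v_m}`. -/
theorem ChainCtx.mulVec_rho (h : ChainCtx ends β m f e) {B : Finset V}
    (hB1 : ∀ i : Fin (m + 1), f i ∈ B ↔ m - 1 < i.val)
    (hB2 : ∀ e' : E, e' ≠ e ⟨m - 1, by have := h.pos; omega⟩ →
      ((ends e').1 ∈ B ↔ (ends e').2 ∈ B)) (v : V) :
    (Matrix.mulVec (mfMatrix ends β) (rho β f B)) v =
      (if f 0 = v then 1 else 0) - (if f (Fin.last m) = v then 1 else 0) := by
  classical
  have hm := h.pos
  set ρ := rho β f B with hρ
  have key : β v * (Matrix.mulVec (mfMatrix ends β) ρ) v =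
      (m : ℤ) * ((if f 0 = v then 1 else 0) - (if f (Fin.last m) = v then 1 else 0)) := by
    rw [beta_mul_mulVec h.hβ, h.sum_split]
    have hrest : ∑ e' ∈ univ.filter (fun e' => e' ∉ univ.image e), term ends β ρ v e' = 0 := by
      refine Finset.sum_eq_zero fun e' he' => ?_
      have he'D : e' ∉ univ.image e := (Finset.mem_filter.1 he').2
      have hω : β (ends e').1 * ρ (ends e').2 = β (ends e').2 * ρ (ends e').1 := by
        by_cases hloop : (ends e').1 = (ends e').2
        · rw [hloop]
        · have h1 : ρ (ends e').1 = if (ends e').1 ∈ B then β (ends e').1 else 0 :=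
            h.rho_nonint hB1 (fun i hi => h.not_interior e' he'D hloop i (Or.inl hi.symm))
          have h2 : ρ (ends e').2 = if (ends e').2 ∈ B then β (ends e').2 else 0 :=
            h.rho_nonint hB1 (fun i hi => h.not_interior e' he'D hloop i (Or.inr hi.symm))
          have hside := hB2 e' (fun h' => he'D (h' ▸ Finset.mem_image_of_mem e (mem_univ _)))
          rw [h1, h2]
          by_cases hb : (ends e').1 ∈ B
          · rw [if_pos hb, if_pos (hside.1 hb)]
            ring
          · rw [if_neg hb, if_neg (fun h' => hb (hside.2 h'))]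
            ring
      unfold term
      by_cases p1 : (ends e').1 = v <;> by_cases p2 : (ends e').2 = v
      · rw [if_pos p1, if_pos p2, p1, p2]
        ring
      · rw [if_pos p1, if_neg p2, ← p1, hω]
        ring
      · rw [if_neg p1, if_pos p2, ← p2, hω]
        ring
      · rw [if_neg p1, if_neg p2, add_zero]
    rw [hrest, add_zero]
    set G : Fin (m + 1) → ℤ := fun i => if f i = v then 1 else 0 with hG
    have hterm : ∀ j : Fin m, term ends β ρ v (e j) = (m : ℤ) * (G j.castSucc - G j.succ) := by
      intro j
      have hp : ρ (f j.castSucc) = (j.val : ℤ) := by rw [hρ, rho_chain h.hC.1]; simp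
      have hq : ρ (f j.succ) = (j.val : ℤ) + 1 := by rw [hρ, rho_chain h.hC.1]; simp
      have hpq : f j.castSucc ≠ f j.succ := fun h' => by
        have := congrArg Fin.val (h.hC.1 h')
        simp at this
      unfold term
      rw [hG]
      simp only
      rcases h.hC.2.2 j with h' | h' <;> rw [h'] <;> simp only
      · by_cases p1 : f j.castSucc = v
        · have p2 : f j.succ ≠ v := fun h'' => hpq (p1.trans h''.symm)
          rw [if_pos p1, if_neg p2, if_pos p1, if_neg p2, ← p1, hp, hq, h.hβm, h.hβm]
          ring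
        · by_cases p2 : f j.succ = v
          · rw [if_neg p1, if_pos p2, if_neg p1, if_pos p2, ← p2, hp, hq, h.hβm, h.hβm]
            ring
          · rw [if_neg p1, if_neg p2, if_neg p1, if_neg p2]
            ring
      · by_cases p1 : f j.castSucc = v
        · have p2 : f j.succ ≠ v := fun h'' => hpq (p1.trans h''.symm)
          rw [if_pos p1, if_neg p2, if_pos p1, if_neg p2, ← p1, hp, hq, h.hβm, h.hβm]
          ring
        · by_cases p2 : f j.succ = v
          · rw [if_neg p1, if_pos p2, if_neg p1, if_pos p2, ← p2, hp, hq, h.hβm, h.hβm]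
            ring
          · rw [if_neg p1, if_neg p2, if_neg p1, if_neg p2]
            ring
    simp_rw [hterm]
    rw [← Finset.mul_sum, sum_telescope m G]
  -- cancel `β v`
  have hβv : β v ≠ 0 := (h.hβ v).1.ne'
  by_cases p1 : f 0 = v
  · have p2 : f (Fin.last m) ≠ v := fun h' => by
      have := congrArg Fin.val (h.hC.1 (p1.trans h'.symm))
      simp at this
      omega
    rw [if_pos p1, if_neg p2] at key ⊢
    rw [← p1, h.hβm] at key
    rw [← p1]
    exact mul_left_cancel₀ (by exact_mod_cast hm.ne') key
  · by_cases p2 : f (Fin.last m) = v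
    · rw [if_neg p1, if_pos p2] at key ⊢
      rw [← p2, h.hβm] at key
      rw [← p2]
      exact mul_left_cancel₀ (by exact_mod_cast hm.ne') key
    · rw [if_neg p1, if_neg p2] at key ⊢
      rw [sub_zero, mul_zero] at key
      rw [sub_zero]
      rcases mul_eq_zero.1 key with h' | h'
      · exact absurd h' hβv
      · exact h'

/-- **the rows of interior vertices.** -/
theorem ChainCtx.mulVec_interior (h : ChainCtx ends β m f e) (z : V → ℤ) (j₁ j₂ : Fin m)
    (h12 : j₁.val + 1 = j₂.val) :
    (Matrix.mulVec (mfMatrix ends β) z) (f j₂.castSucc) =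
      z (f j₁.castSucc) - 2 * z (f j₂.castSucc) + z (f j₂.succ) := by
  classical
  have hm := h.pos
  set v := f j₂.castSucc with hv
  have hv1 : f j₁.succ = v := by
    rw [hv]
    congr 1
    exact Fin.ext (by simp; omega)
  have hne1 : f j₁.castSucc ≠ v := fun h' => by
    have := congrArg Fin.val (h.hC.1 h')
    simp at this
    omega
  have hne2 : f j₂.succ ≠ v := fun h' => by
    have := congrArg Fin.val (h.hC.1 h')
    simp at this
  have hne12 : e j₂ ≠ e j₁ := fun h' => by
    have := congrArg Fin.val (h.hC.2.1 h')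
    omega
  have key : β v * (Matrix.mulVec (mfMatrix ends β) z) v =
      (m : ℤ) * (z (f j₁.castSucc) - 2 * z v + z (f j₂.succ)) := by
    rw [beta_mul_mulVec h.hβ]
    rw [← Finset.add_sum_erase univ _ (mem_univ (e j₁)),
      ← Finset.add_sum_erase (univ.erase (e j₁)) _ (Finset.mem_erase.2 ⟨hne12, mem_univ _⟩)]
    have hrest : ∑ e' ∈ (univ.erase (e j₁)).erase (e j₂), term ends β z v e' = 0 := by
      refine Finset.sum_eq_zero fun e' he' => ?_
      have h2 : e' ≠ e j₂ := (Finset.mem_erase.1 he').1
      have h1 : e' ≠ e j₁ := (Finset.mem_erase.1 (Finset.mem_erase.1 he').2).1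
      unfold term
      by_cases p : (ends e').1 = v ∨ (ends e').2 = v
      · have hloop := interior_edges h.hβ h.hC h.hβm h.hα j₁ j₂ h12 e' h1 h2 p
        have p1 : (ends e').1 = v := by
          rcases p with p | p
          · exact p
          · rw [hloop]; exact p
        have p2 : (ends e').2 = v := hloop ▸ p1
        rw [if_pos p1, if_pos p2, p1, p2]
        ring
      · push Not at p
        rw [if_neg p.1, if_neg p.2, add_zero]
    rw [hrest, add_zero]
    have t1 : term ends β z v (e j₁) = (m : ℤ) * (z (f j₁.castSucc) - z v) := by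
      unfold term
      rcases h.hC.2.2 j₁ with h' | h' <;> rw [h'] <;> simp only
      · rw [if_neg hne1, if_pos hv1, zero_add, ← hv1, h.hβm, h.hβm]
        ring
      · rw [if_pos hv1, if_neg hne1, add_zero, ← hv1, h.hβm, h.hβm]
        ring
    have t2 : term ends β z v (e j₂) = (m : ℤ) * (z (f j₂.succ) - z v) := by
      unfold term
      rcases h.hC.2.2 j₂ with h' | h' <;> rw [h'] <;> simp only
      · rw [if_pos hv.symm, if_neg hne2, add_zero, hv, h.hβm, h.hβm]
        ring
      · rw [if_neg hne2, if_pos hv.symm, zero_add, hv, h.hβm, h.hβm]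
        ring
    rw [t1, t2]
    ring
  rw [hv, h.hβm] at key
  exact mul_left_cancel₀ (by exact_mod_cast hm.ne') key

/-- **the row of the last vertex**, on vectors supported on the other chain vertices. -/
theorem ChainCtx.mulVec_last (h : ChainCtx ends β m f e) {B : Finset V}
    (hB1 : ∀ i : Fin (m + 1), f i ∈ B ↔ m - 1 < i.val)
    (hB2 : ∀ e' : E, e' ≠ e ⟨m - 1, by have := h.pos; omega⟩ →
      ((ends e').1 ∈ B ↔ (ends e').2 ∈ B)) (z : V → ℤ)
    (hz1 : ∀ u, (∀ i, f i ≠ u) → z u = 0) (hz2 : z (f (Fin.last m)) = 0) :
    (Matrix.mulVec (mfMatrix ends β) z) (f (Fin.last m)) =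
      z (f (Fin.castSucc ⟨m - 1, by have := h.pos; omega⟩)) := by
  classical
  have hm := h.pos
  set jl : Fin m := ⟨m - 1, by omega⟩ with hjl
  set v := f (Fin.last m) with hv
  have hvB : v ∈ B := (hB1 _).2 (by simp; omega)
  have hjls : jl.succ = Fin.last m := Fin.ext (by simp [hjl]; omega)
  have key : β v * (Matrix.mulVec (mfMatrix ends β) z) v = (m : ℤ) * z (f jl.castSucc) := by
    rw [beta_mul_mulVec h.hβ, h.sum_split]
    have hrest : ∑ e' ∈ univ.filter (fun e' => e' ∉ univ.image e), term ends β z v e' = 0 := by
      refine Finset.sum_eq_zero fun e' he' => ?_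
      have he'D : e' ∉ univ.image e := (Finset.mem_filter.1 he').2
      have hside := hB2 e' (fun h' => he'D (h' ▸ Finset.mem_image_of_mem e (mem_univ _)))
      unfold term
      by_cases hloop : (ends e').1 = (ends e').2
      · rw [hloop]
        by_cases p : (ends e').2 = v
        · rw [if_pos p, p]; ring
        · rw [if_neg p, add_zero]
      · -- the other endpoint is off the chain
        have hoff : ∀ u, u ≠ v → u ∈ B → ((ends e').1 = u ∨ (ends e').2 = u) → z u = 0 := by
          intro u huv huB hu
          refine hz1 u fun i hi => ?_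
          rcases h.not_interior e' he'D hloop i (hu.imp (fun h' => h'.trans hi.symm)
            (fun h' => h'.trans hi.symm)) with h0 | h0
          · have := (hB1 i).1 (hi ▸ huB)
            omega
          · apply huv
            rw [← hi, hv]
            congr 1
            exact Fin.ext (by simp [h0])
        by_cases p1 : (ends e').1 = v
        · have p2 : (ends e').2 ≠ v := fun h' => hloop (p1.trans h'.symm)
          rw [if_pos p1, if_neg p2, add_zero, hz2,
            hoff _ p2 (hside.1 (p1 ▸ hvB)) (Or.inr rfl)]
          ring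
        · by_cases p2 : (ends e').2 = v
          · rw [if_neg p1, if_pos p2, zero_add, hz2,
              hoff _ p1 (hside.2 (p2 ▸ hvB)) (Or.inl rfl)]
            ring
          · rw [if_neg p1, if_neg p2, add_zero]
    rw [hrest, add_zero, Finset.sum_eq_single jl]
    · unfold term
      have hne : f jl.castSucc ≠ v := fun h' => by
        have := congrArg Fin.val (h.hC.1 h')
        simp [hjl] at this
        omega
      have hsv : f jl.succ = v := by rw [hjls]
      rcases h.hC.2.2 jl with h' | h' <;> rw [h'] <;> simp only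
      · rw [if_neg hne, if_pos hsv, zero_add, hz2, hv, h.hβm]
        ring
      · rw [if_pos hsv, if_neg hne, add_zero, hz2, hv, h.hβm]
        ring
    · intro j _ hj
      have hjv : j.val ≠ m - 1 := fun h' => hj (Fin.ext (by simp [hjl, h']))
      have hj2 : j.val < m := j.2
      have n1 : f j.castSucc ≠ v := fun h' => by
        have := congrArg Fin.val (h.hC.1 h')
        simp at this
        omega
      have n2 : f j.succ ≠ v := fun h' => by
        have := congrArg Fin.val (h.hC.1 h')
        simp at this
        omega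
      unfold term
      rcases h.hC.2.2 j with h' | h' <;> rw [h'] <;> simp only
      · rw [if_neg n1, if_neg n2, add_zero]
      · rw [if_neg n2, if_neg n1, add_zero]
    · intro h'
      exact absurd (mem_univ jl) h'
  rw [hv, h.hβm] at key
  exact mul_left_cancel₀ (by exact_mod_cast hm.ne') key

end Groth.Agent.Lib.Helper22.LG
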