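import Mathlib
import Groth.Agent.Lib.Helper22.LG4

/-!
# The component group under contraction of a `-2`-chain: injectivity (helper22)
-/

set_option autoImplicit false
set_option linter.unusedSectionVars false

universe u

open Finset

namespace Groth.Agent.Lib.Helper22.LG

open LabGraph DualGr

variable {V E : Type u} [Fintype V] [Fintype E] [DecidableEq V] [DecidableEq E]
variable {ends : E → V × V} {β : V → ℤ} {m : ℕ} {f : Fin (m + 1) → V} {e : Fin m → E}

lemma liftAt_chain (hC : IsChain ends f e) (x : CtrVert ends (univ.image e) → ℤ)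
    (i : Fin (m + 1)) (hi : i ≠ 0) : liftAt ends (univ.image e) (f 0) x (f i) = 0 := by
  unfold liftAt
  rw [if_pos ⟨ctrMk_chain hC i, fun h => hi (hC.1 h)⟩]

lemma liftAt_zero (x : CtrVert ends (univ.image e) → ℤ) :
    liftAt ends (univ.image e) (f 0) x (f 0) = x (ctrMk ends (univ.image e) (f 0)) := by
  unfold liftAt
  rw [if_neg (fun h => h.2 rfl)]

lemma liftAt_off (hC : IsChain ends f e) (x : CtrVert ends (univ.image e) → ℤ) {w : V}
    (hw : ∀ i, f i ≠ w) :
    liftAt ends (univ.image e) (f 0) x w = x (ctrMk ends (univ.image e) w) := by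
  unfold liftAt
  rw [if_neg]
  rintro ⟨h1, -⟩
  rcases (ctrMk_eq_iff hC w (f 0)).1 h1 with h | ⟨⟨i, hi⟩, -⟩
  · exact hw 0 h.symm
  · exact hw i hi

/-- the sum of a lift over a class. -/
lemma sum_class_liftAt (hC : IsChain ends f e) (x : CtrVert ends (univ.image e) → ℤ)
    (c : CtrVert ends (univ.image e)) :
    ∑ v ∈ univ.filter (fun v => ctrMk ends (univ.image e) v = c),
      liftAt ends (univ.image e) (f 0) x v = x c := by
  classical
  obtain ⟨w, rfl⟩ := ctrMk_surjective ends (univ.image e) c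
  by_cases hw : ctrMk ends (univ.image e) w = ctrMk ends (univ.image e) (f 0)
  · rw [hw, Finset.sum_eq_single (f 0)]
    · exact liftAt_zero x
    · intro v hv hv0
      have hv' : ctrMk ends (univ.image e) v = ctrMk ends (univ.image e) (f 0) :=
        (Finset.mem_filter.1 hv).2
      unfold liftAt
      rw [if_pos ⟨hv', hv0⟩]
    · intro h
      exact absurd (by simp) h
  · have hoff : ∀ i, f i ≠ w := fun i hi => hw (by rw [← hi, ctrMk_chain hC i])
    rw [Finset.sum_eq_single w]
    · exact liftAt_off hC x hoff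
    · intro v hv hvw
      exfalso
      have hv' : ctrMk ends (univ.image e) v = ctrMk ends (univ.image e) w :=
        (Finset.mem_filter.1 hv).2
      rcases (ctrMk_eq_iff hC v w).1 hv' with h | ⟨-, ⟨i, hi⟩⟩
      · exact hvw h
      · exact hoff i hi
    · intro h
      exact absurd (by simp) h

lemma ChainCtx.hconst (h : ChainCtx ends β m f e) (v w : V)
    (hvw : ctrMk ends (univ.image e) v = ctrMk ends (univ.image e) w) : β v = β w := by
  rcases (ctrMk_eq_iff h.hC v w).1 hvw with rfl | ⟨⟨i, rfl⟩, ⟨j, rfl⟩⟩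
  · rfl
  · rw [h.hβm, h.hβm]

/-- a function constant on the chain descends to the contraction. -/
lemma exists_desc (hC : IsChain ends f e) (z : V → ℤ) (hz : ∀ i, z (f i) = z (f 0)) :
    ∃ y' : CtrVert ends (univ.image e) → ℤ, ∀ v, y' (ctrMk ends (univ.image e) v) = z v := by
  refine ⟨Quotient.lift z (fun a b hab => ?_), fun v => rfl⟩
  have h1 : ctrMk ends (univ.image e) a = ctrMk ends (univ.image e) b := Quotient.sound hab
  rcases (ctrMk_eq_iff hC a b).1 h1 with rfl | ⟨⟨i, rfl⟩, ⟨j, rfl⟩⟩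
  · rfl
  · rw [hz i, hz j]

/-- **injectivity** of the map of component groups. -/
theorem ChainCtx.injective (h : ChainCtx ends β m f e)
    (x : CtrVert ends (univ.image e) → ℤ)
    (hfx : liftAt ends (univ.image e) (f 0) x ∈
      LinearMap.range (Matrix.mulVecLin (mfMatrix ends β))) :
    x ∈ LinearMap.range (Matrix.mulVecLin
      (mfMatrix (ctrEnds ends (univ.image e)) (ctrFn ends (univ.image e) β))) := by
  classical
  have hm := h.pos
  obtain ⟨y, hy⟩ := hfx
  rw [Matrix.mulVecLin_apply] at hy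
  obtain ⟨B, hB1, hB2⟩ := exists_cut h.hC h.hconn ⟨m - 1, by omega⟩
  simp only at hB1
  set δ : ℤ := y (f ⟨1, by omega⟩) - y (f 0) with hδ
  -- `y` is an arithmetic progression along the chain
  have harith : ∀ a : ℕ, (∀ ha : a < m + 1, y (f ⟨a, ha⟩) = y (f 0) + a * δ) ∧
      (∀ ha : a + 1 < m + 1, y (f ⟨a + 1, ha⟩) = y (f 0) + (a + 1 : ℕ) * δ) := by
    intro a
    induction a with
    | zero =>
      refine ⟨fun ha => ?_, fun ha => ?_⟩
      · have : (⟨0, ha⟩ : Fin (m + 1)) = 0 := rfl
        rw [this]; simp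
      · rw [hδ]; push_cast; ring
    | succ a ih =>
      refine ⟨ih.2, fun ha => ?_⟩
      set j₁ : Fin m := ⟨a, by omega⟩ with hj₁
      set j₂ : Fin m := ⟨a + 1, by omega⟩ with hj₂
      have hI := h.mulVec_interior y j₁ j₂ (by simp [hj₁, hj₂])
      rw [hy, liftAt_chain h.hC x j₂.castSucc (by
        intro h0
        have := congrArg Fin.val h0
        simp [hj₂] at this)] at hI
      have e1 : j₁.castSucc = ⟨a, by omega⟩ := rfl
      have e2 : j₂.castSucc = ⟨a + 1, by omega⟩ := rfl
      have e3 : j₂.succ = ⟨a + 1 + 1, ha⟩ := rfl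
      rw [e1, e2, e3, ih.1 (by omega), ih.2 (by omega)] at hI
      push_cast at hI ⊢
      linarith
  set ρ := rho β f B with hρ
  set z : V → ℤ := y - δ • ρ with hz
  have hzc : ∀ i, z (f i) = z (f 0) := by
    intro i
    have h1 := (harith i.val).1 i.2
    have e1 : (⟨i.val, i.2⟩ : Fin (m + 1)) = i := rfl
    rw [e1] at h1
    rw [hz]
    simp only [Pi.sub_apply, Pi.smul_apply, smul_eq_mul]
    rw [hρ, rho_chain h.hC.1, rho_chain h.hC.1, h1]
    simp only [Fin.val_zero, Nat.cast_zero, mul_zero, sub_zero]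
    ring
  obtain ⟨y', hy'⟩ := exists_desc h.hC z hzc
  refine ⟨y', ?_⟩
  rw [Matrix.mulVecLin_apply]
  funext c
  rw [mulVec_ctr h.hβ h.hconst y' c]
  have hzy : (fun v => y' (ctrMk ends (univ.image e) v)) = z := funext hy'
  rw [hzy]
  have hαz : ∀ v, (Matrix.mulVec (mfMatrix ends β) z) v =
      liftAt ends (univ.image e) (f 0) x v -
        δ * ((if f 0 = v then 1 else 0) - (if f (Fin.last m) = v then 1 else 0)) := by
    intro v
    rw [hz, Matrix.mulVec_sub, Matrix.mulVec_smul, Pi.sub_apply, Pi.smul_apply, hy, smul_eq_mul,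
      h.mulVec_rho hB1 hB2 v]
  simp_rw [hαz]
  rw [Finset.sum_sub_distrib, sum_class_liftAt h.hC x c, ← Finset.mul_sum, Finset.sum_sub_distrib]
  have s1 := sum_filter_ite_eq (ends := ends) (D := univ.image e) c (f 0) (fun _ => (1 : ℤ))
  have s2 := sum_filter_ite_eq (ends := ends) (D := univ.image e) c (f (Fin.last m))
    (fun _ => (1 : ℤ))
  rw [s1, s2, ctrMk_chain h.hC (Fin.last m)]
  simp

end Groth.Agent.Lib.Helper22.LG
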