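import Mathlib
import Groth.Agent.Lib.Helper22.LG5

/-!
# The component group under contraction of a `-2`-chain: the induced map and surjectivity (helper22)
-/

set_option autoImplicit false
set_option linter.unusedSectionVars false

universe u

open Finset

namespace Groth.Agent.Lib.Helper22.LG

open LabGraph DualGr

variable {V E : Type u} [Fintype V] [Fintype E] [DecidableEq V] [DecidableEq E]
variable {ends : E → V × V} {β : V → ℤ} {m : ℕ} {f : Fin (m + 1) → V} {e : Fin m → E}

/-- the lift as a linear map. -/
noncomputable def liftLin (ends : E → V × V) (D : Finset E) (v₀ : V) :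
    (CtrVert ends D → ℤ) →ₗ[ℤ] (V → ℤ) where
  toFun := liftAt ends D v₀
  map_add' x y := by
    funext v
    unfold liftAt
    simp only [Pi.add_apply]
    split_ifs <;> simp
  map_smul' c x := by
    funext v
    unfold liftAt
    simp only [Pi.smul_apply, RingHom.id_apply]
    split_ifs <;> simp

/-- a vector vanishing on the chain off `f 0` is a lift. -/
lemma eq_liftAt (hC : IsChain ends f e) (w : V → ℤ) (hw : ∀ i, i ≠ 0 → w (f i) = 0) :
    w = liftAt ends (univ.image e) (f 0)
      (fun c => ∑ v ∈ univ.filter (fun v => ctrMk ends (univ.image e) v = c), w v) := by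
  classical
  funext v
  by_cases hv : ∃ i, f i = v
  · obtain ⟨i, rfl⟩ := hv
    by_cases hi : i = 0
    · rw [hi, liftAt_zero]
      rw [Finset.sum_eq_single (f 0)]
      · intro u hu hu0
        have hu' : ctrMk ends (univ.image e) u = ctrMk ends (univ.image e) (f 0) :=
          (Finset.mem_filter.1 hu).2
        rcases (ctrMk_eq_iff hC u (f 0)).1 hu' with h | ⟨⟨j, rfl⟩, -⟩
        · exact absurd h hu0
        · exact hw j (fun h => hu0 (by rw [h]))
      · intro h
        exact absurd (by simp) h
    · rw [hw i hi, liftAt_chain hC _ i hi]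
  · push Not at hv
    rw [liftAt_off hC _ hv]
    rw [Finset.sum_eq_single v]
    · intro u hu huv
      exfalso
      have hu' : ctrMk ends (univ.image e) u = ctrMk ends (univ.image e) v :=
        (Finset.mem_filter.1 hu).2
      rcases (ctrMk_eq_iff hC u v).1 hu' with h | ⟨-, ⟨i, hi⟩⟩
      · exact huv h
      · exact hv i hi
    · intro h
      exact absurd (by simp) h

/-- `β` of a lift. -/
lemma ChainCtx.betaHom_liftAt (h : ChainCtx ends β m f e) (x : CtrVert ends (univ.image e) → ℤ) :
    betaHom β (liftAt ends (univ.image e) (f 0) x) =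
      betaHom (ctrFn ends (univ.image e) β) x := by
  classical
  unfold betaHom
  rw [Fintype.linearCombination_apply, Fintype.linearCombination_apply]
  simp only [smul_eq_mul]
  rw [← Finset.sum_fiberwise univ (fun v => ctrMk ends (univ.image e) v)]
  refine Finset.sum_congr rfl fun c _ => ?_
  rw [← sum_class_liftAt h.hC x c, Finset.sum_mul]
  refine Finset.sum_congr rfl fun v hv => ?_
  have hv' : ctrMk ends (univ.image e) v = c := (Finset.mem_filter.1 hv).2
  rw [← hv', ctrFn_mk h.hconst]

/-- the columns of the chain vertices, on the chain. -/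
lemma ChainCtx.mulVec_single_chain (h : ChainCtx ends β m f e) {B : Finset V}
    (hB1 : ∀ i : Fin (m + 1), f i ∈ B ↔ m - 1 < i.val)
    (hB2 : ∀ e' : E, e' ≠ e ⟨m - 1, by have := h.pos; omega⟩ →
      ((ends e').1 ∈ B ↔ (ends e').2 ∈ B))
    (t : ℕ) (ht : t < m) (i : Fin (m + 1)) (hi : t < i.val) :
    (Matrix.mulVec (mfMatrix ends β) (Pi.single (f ⟨t, by omega⟩) 1)) (f i) =
      if i.val = t + 1 then 1 else 0 := by
  classical
  have hm := h.pos
  have hs : ∀ k : Fin (m + 1), (Pi.single (f ⟨t, by omega⟩) (1 : ℤ) : V → ℤ) (f k) =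
      if k.val = t then 1 else 0 := by
    intro k
    rw [Pi.single_apply]
    by_cases hk : k.val = t
    · rw [if_pos hk, if_pos]
      congr 1
      exact Fin.ext hk
    · rw [if_neg hk, if_neg]
      intro h'
      exact hk (congrArg Fin.val (h.hC.1 h'))
  have hi2 := i.2
  by_cases him : i.val = m
  · have hil : i = Fin.last m := Fin.ext (by simp [him])
    rw [hil, h.mulVec_last hB1 hB2 _ (fun u hu => by
      rw [Pi.single_apply, if_neg (fun h' => hu _ h'.symm)]) (by
      rw [hs]; simp; omega), hs]
    simp only [Fin.val_castSucc, Fin.val_last]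
    by_cases h1 : m - 1 = t
    · rw [if_pos h1, if_pos (by omega)]
    · rw [if_neg h1, if_neg (by omega)]
  · set j₁ : Fin m := ⟨i.val - 1, by omega⟩ with hj₁
    set j₂ : Fin m := ⟨i.val, by omega⟩ with hj₂
    have e2 : j₂.castSucc = i := Fin.ext rfl
    have hI := h.mulVec_interior (Pi.single (f ⟨t, by omega⟩) 1) j₁ j₂ (by simp [hj₁, hj₂]; omega)
    rw [e2] at hI
    rw [hI, hs, hs, hs]
    simp only [Fin.val_castSucc, Fin.val_succ, hj₁, hj₂]
    by_cases h1 : i.val = t + 1
    · rw [if_pos (by omega), if_neg (by omega), if_neg (by omega), if_pos h1]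
      ring
    · rw [if_neg (by omega), if_neg (by omega), if_neg (by omega), if_neg h1]
      ring

/-- clearing the chain coordinates by columns of `α`. -/
lemma ChainCtx.exists_clear (h : ChainCtx ends β m f e) (y : V → ℤ) :
    ∃ u : V → ℤ, ∀ i : Fin (m + 1), i ≠ 0 →
      (y - Matrix.mulVec (mfMatrix ends β) u) (f i) = 0 := by
  classical
  have hm := h.pos
  obtain ⟨B, hB1, hB2⟩ := exists_cut h.hC h.hconn ⟨m - 1, by omega⟩
  simp only at hB1
  have key : ∀ d : ℕ, d ≤ m → ∃ u : V → ℤ, ∀ i : Fin (m + 1), m - d < i.val →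
      (y - Matrix.mulVec (mfMatrix ends β) u) (f i) = 0 := by
    intro d
    induction d with
    | zero =>
      intro _
      refine ⟨0, fun i hi => ?_⟩
      have := i.2
      omega
    | succ d ih =>
      intro hd
      obtain ⟨u, hu⟩ := ih (by omega)
      set t := m - (d + 1) with ht
      have htm : t < m := by omega
      set c := (y - Matrix.mulVec (mfMatrix ends β) u) (f ⟨t + 1, by omega⟩) with hc
      refine ⟨u + c • Pi.single (f ⟨t, by omega⟩) 1, fun i hi => ?_⟩
      rw [Matrix.mulVec_add, Matrix.mulVec_smul, Pi.sub_apply, Pi.add_apply, Pi.smul_apply,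
        h.mulVec_single_chain hB1 hB2 t htm i hi, smul_eq_mul]
      by_cases h1 : i.val = t + 1
      · rw [if_pos h1, mul_one, hc]
        have : i = ⟨t + 1, by omega⟩ := Fin.ext h1
        rw [this, Pi.sub_apply]
        ring
      · rw [if_neg h1, mul_zero, add_zero]
        have := hu i (by omega)
        rwa [Pi.sub_apply] at this
  obtain ⟨u, hu⟩ := key m le_rfl
  refine ⟨u, fun i hi => hu i ?_⟩
  have : i.val ≠ 0 := fun h' => hi (Fin.ext h')
  omega

end Groth.Agent.Lib.Helper22.LG
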