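import Mathlib
import Groth.Agent.Lib.Helper22.LG6

/-!
# The component group under contraction of a `-2`-chain: the surjection (helper22)
-/

set_option autoImplicit false
set_option linter.unusedSectionVars false

universe u

open Finset

namespace Groth.Agent.Lib.Helper22.LG

open LabGraph DualGr

variable {V E : Type u} [Fintype V] [Fintype E] [DecidableEq V] [DecidableEq E]
variable {ends : E → V × V} {β : V → ℤ} {m : ℕ} {f : Fin (m + 1) → V} {e : Fin m → E}

/-- the lift of a vector in the image of `α'` is in the image of `α`. -/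
lemma ChainCtx.liftAt_mulVec (h : ChainCtx ends β m f e) (y' : CtrVert ends (univ.image e) → ℤ) :
    liftAt ends (univ.image e) (f 0)
      (Matrix.mulVec (mfMatrix (ctrEnds ends (univ.image e)) (ctrFn ends (univ.image e) β)) y') ∈
      LinearMap.range (Matrix.mulVecLin (mfMatrix ends β)) := by
  classical
  have hm := h.pos
  obtain ⟨B, hB1, hB2⟩ := exists_cut h.hC h.hconn ⟨m - 1, by omega⟩
  simp only at hB1
  set z₀ : V → ℤ := fun v => y' (ctrMk ends (univ.image e) v) with hz₀
  have hz₀c : ∀ i, z₀ (f i) = z₀ (f 0) := fun i => by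
    rw [hz₀]
    simp only
    rw [ctrMk_chain h.hC i]
  set δ : ℤ := (Matrix.mulVec (mfMatrix ends β) z₀) (f (Fin.last m)) with hδ
  set ρ := rho β f B with hρ
  set w : V → ℤ := Matrix.mulVec (mfMatrix ends β) (z₀ + δ • ρ) with hw
  have hwv : ∀ v, w v = (Matrix.mulVec (mfMatrix ends β) z₀) v +
      δ * ((if f 0 = v then 1 else 0) - (if f (Fin.last m) = v then 1 else 0)) := by
    intro v
    rw [hw, Matrix.mulVec_add, Matrix.mulVec_smul, Pi.add_apply, Pi.smul_apply, smul_eq_mul,
      h.mulVec_rho hB1 hB2 v]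
  have h0l : f 0 ≠ f (Fin.last m) := fun h' => by
    have := congrArg Fin.val (h.hC.1 h')
    simp at this
    omega
  have hwchain : ∀ i, i ≠ 0 → w (f i) = 0 := by
    intro i hi
    have hi2 := i.2
    have hiv : i.val ≠ 0 := fun h' => hi (Fin.ext h')
    rw [hwv]
    by_cases him : i.val = m
    · have hil : i = Fin.last m := Fin.ext (by simp [him])
      rw [hil, if_neg h0l, if_pos rfl, ← hδ]
      ring
    · set j₁ : Fin m := ⟨i.val - 1, by omega⟩ with hj₁
      set j₂ : Fin m := ⟨i.val, by omega⟩ with hj₂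
      have e2 : j₂.castSucc = i := Fin.ext rfl
      have hI := h.mulVec_interior z₀ j₁ j₂ (by simp [hj₁, hj₂]; omega)
      rw [e2] at hI
      rw [hI, hz₀c, hz₀c i, hz₀c j₂.succ]
      have n1 : f 0 ≠ f i := fun h' => hi (h.hC.1 h').symm
      have n2 : f (Fin.last m) ≠ f i := fun h' => by
        have := congrArg Fin.val (h.hC.1 h')
        simp at this
        omega
      rw [if_neg n1, if_neg n2]
      ring
  have hwlift := eq_liftAt h.hC w hwchain
  have hx : (fun c => ∑ v ∈ univ.filter (fun v => ctrMk ends (univ.image e) v = c), w v) =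
      Matrix.mulVec (mfMatrix (ctrEnds ends (univ.image e)) (ctrFn ends (univ.image e) β)) y' := by
    funext c
    rw [mulVec_ctr h.hβ h.hconst y' c]
    simp_rw [hwv]
    rw [Finset.sum_add_distrib, ← Finset.mul_sum, Finset.sum_sub_distrib]
    have s1 := sum_filter_ite_eq (ends := ends) (D := univ.image e) c (f 0) (fun _ => (1 : ℤ))
    have s2 := sum_filter_ite_eq (ends := ends) (D := univ.image e) c (f (Fin.last m))
      (fun _ => (1 : ℤ))
    rw [s1, s2, ctrMk_chain h.hC (Fin.last m)]
    simp only [sub_self, mul_zero, add_zero]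
    rfl
  rw [← hx, ← hwlift]
  exact ⟨z₀ + δ • ρ, rfl⟩

/-- **the surjection of component groups.** -/
theorem ChainCtx.exists_hom (h : ChainCtx ends β m f e) :
    ∃ φ : CompGrp (ctrEnds ends (univ.image e)) (ctrFn ends (univ.image e) β) →+ CompGrp ends β,
      Function.Surjective φ ∧
      ∀ (x : LinearMap.ker (betaHom (ctrFn ends (univ.image e) β)))
        (y : LinearMap.ker (betaHom β)),
        (y : V → ℤ) = liftAt ends (univ.image e) (f 0) (x : CtrVert ends (univ.image e) → ℤ) →
        φ (Submodule.Quotient.mk x) = Submodule.Quotient.mk y := by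
  classical
  set D := univ.image e with hD
  set β' := ctrFn ends D β with hβ'
  set Lf := liftLin ends D (f 0) with hLf
  have hLfa : ∀ x, Lf x = liftAt ends D (f 0) x := fun x => rfl
  have hker : ∀ x : LinearMap.ker (betaHom β'),
      (Lf.comp (LinearMap.ker (betaHom β')).subtype) x ∈ LinearMap.ker (betaHom β) := by
    intro x
    rw [LinearMap.mem_ker, LinearMap.comp_apply, Submodule.subtype_apply, hLfa, h.betaHom_liftAt]
    exact LinearMap.mem_ker.1 x.2
  set g : LinearMap.ker (betaHom β') →ₗ[ℤ] LinearMap.ker (betaHom β) :=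
    (Lf.comp (LinearMap.ker (betaHom β')).subtype).codRestrict _ hker with hg
  have hgv : ∀ x, ((g x : LinearMap.ker (betaHom β)) : V → ℤ) =
      liftAt ends D (f 0) (x : CtrVert ends D → ℤ) := fun x => rfl
  have hle : (LinearMap.range (Matrix.mulVecLin (mfMatrix (ctrEnds ends D) β'))).comap
      (LinearMap.ker (betaHom β')).subtype ≤
      ((LinearMap.range (Matrix.mulVecLin (mfMatrix ends β))).comap
        (LinearMap.ker (betaHom β)).subtype).comap g := by
    intro x hx
    rw [Submodule.mem_comap] at hx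
    obtain ⟨y', hy'⟩ := hx
    rw [Matrix.mulVecLin_apply, Submodule.subtype_apply] at hy'
    rw [Submodule.mem_comap, Submodule.mem_comap, Submodule.subtype_apply, hgv, ← hy']
    exact h.liftAt_mulVec y'
  refine ⟨(Submodule.mapQ _ _ g hle).toAddMonoidHom, ?_, ?_⟩
  · intro q
    obtain ⟨y, rfl⟩ := Submodule.Quotient.mk_surjective _ q
    obtain ⟨u, hu⟩ := h.exists_clear (y : V → ℤ)
    set y₁ : V → ℤ := (y : V → ℤ) - Matrix.mulVec (mfMatrix ends β) u with hy₁
    set x : CtrVert ends D → ℤ :=
      fun c => ∑ v ∈ univ.filter (fun v => ctrMk ends D v = c), y₁ v with hx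
    have hLx : liftAt ends D (f 0) x = y₁ := (eq_liftAt h.hC y₁ hu).symm
    have hy₁ker : betaHom β y₁ = 0 := by
      rw [hy₁, map_sub, betaHom_mulVec h.hβ, sub_zero]
      exact LinearMap.mem_ker.1 y.2
    have hxker : x ∈ LinearMap.ker (betaHom β') := by
      rw [LinearMap.mem_ker, ← h.betaHom_liftAt, hLx, hy₁ker]
    refine ⟨Submodule.Quotient.mk ⟨x, hxker⟩, ?_⟩
    rw [LinearMap.toAddMonoidHom_coe, Submodule.mapQ_apply]
    rw [Submodule.Quotient.eq, Submodule.mem_comap, Submodule.subtype_apply]
    have : ((g ⟨x, hxker⟩ - y : LinearMap.ker (betaHom β)) : V → ℤ) =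
        Matrix.mulVec (mfMatrix ends β) (-u) := by
      rw [Submodule.coe_sub, hgv]
      simp only
      rw [hLx, hy₁, Matrix.mulVec_neg]
      abel
    rw [this]
    exact ⟨-u, rfl⟩
  · intro x y hxy
    rw [LinearMap.toAddMonoidHom_coe, Submodule.mapQ_apply]
    congr 1
    exact Subtype.ext ((hgv x).trans hxy.symm)

end Groth.Agent.Lib.Helper22.LG
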