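import Mathlib

/-!
# Successive approximation in multivariate power series rings

`OrdGE m G` : all coefficients of `G` in total degree `< m` vanish.
Closure lemmas, a first-order Taylor lemma for `MvPowerSeries.subst`, the chain rule for
linear coefficients, and an abstract successive-approximation existence / uniqueness
principle (`succ_approx`, `succ_unique`).
-/

namespace Groth.Agent.Lib.Helper22.PSApprox

open MvPowerSeries Finsupp

universe u v w

variable {R : Type u} [CommRing R] {σ : Type v} {τ : Type w}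

/-- All coefficients of total degree `< m` vanish. -/
def OrdGE (m : ℕ) (G : MvPowerSeries τ R) : Prop := ∀ e : τ →₀ ℕ, e.degree < m → coeff e G = 0

lemma ordGE_iff_le_order {m : ℕ} {G : MvPowerSeries τ R} : OrdGE m G ↔ (m : ℕ∞) ≤ G.order := by
  constructor
  · intro h
    exact nat_le_order (fun d hd => h d hd)
  · intro h e he
    exact coeff_of_lt_order (lt_of_lt_of_le (by exact_mod_cast he) h)

lemma OrdGE.zero (m : ℕ) : OrdGE m (0 : MvPowerSeries τ R) := fun e _ => by simp

lemma OrdGE.mono {m n : ℕ} {G : MvPowerSeries τ R} (h : OrdGE m G) (hn : n ≤ m) : OrdGE n G :=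
  fun e he => h e (lt_of_lt_of_le he hn)

lemma OrdGE.add {m : ℕ} {G H : MvPowerSeries τ R} (hG : OrdGE m G) (hH : OrdGE m H) :
    OrdGE m (G + H) := fun e he => by simp [hG e he, hH e he]

lemma OrdGE.neg {m : ℕ} {G : MvPowerSeries τ R} (hG : OrdGE m G) : OrdGE m (-G) :=
  fun e he => by simp [hG e he]

lemma OrdGE.sub {m : ℕ} {G H : MvPowerSeries τ R} (hG : OrdGE m G) (hH : OrdGE m H) :
    OrdGE m (G - H) := fun e he => by simp [hG e he, hH e he]

lemma OrdGE.smul {m : ℕ} {G : MvPowerSeries τ R} (hG : OrdGE m G) (c : R) : OrdGE m (c • G) :=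
  fun e he => by simp [hG e he]

lemma OrdGE.mul {m n : ℕ} {G H : MvPowerSeries τ R} (hG : OrdGE m G) (hH : OrdGE n H) :
    OrdGE (m + n) (G * H) := by
  rw [ordGE_iff_le_order] at *
  refine le_trans ?_ le_order_mul
  push_cast
  exact add_le_add hG hH

lemma OrdGE.mul_right {m : ℕ} {G : MvPowerSeries τ R} (hG : OrdGE m G) (H : MvPowerSeries τ R) :
    OrdGE m (G * H) := by
  have h0 : OrdGE 0 H := fun e he => absurd he (Nat.not_lt_zero _)
  simpa using hG.mul h0

lemma OrdGE.mul_left {m : ℕ} {G : MvPowerSeries τ R} (hG : OrdGE m G) (H : MvPowerSeries τ R) :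
    OrdGE m (H * G) := by
  rw [mul_comm]; exact hG.mul_right H

lemma ordGE_one_iff {G : MvPowerSeries τ R} : OrdGE 1 G ↔ constantCoeff G = 0 := by
  constructor
  · intro h
    have := h 0 (by simp)
    simpa using this
  · intro h e he
    have : e = 0 := by
      have h0 : e.degree = 0 := by omega
      exact (Finsupp.degree_eq_zero_iff e).mp h0
    subst this
    simpa using h

lemma OrdGE.pow {G : MvPowerSeries τ R} (hG : OrdGE 1 G) (n : ℕ) : OrdGE n (G ^ n) := by
  induction n with
  | zero => exact fun e he => absurd he (Nat.not_lt_zero _)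
  | succ n ih => rw [pow_succ]; exact ih.mul hG

lemma OrdGE.eq_zero {G : MvPowerSeries τ R} (h : ∀ m, OrdGE m G) : G = 0 := by
  ext e
  simpa using h (e.degree + 1) e (Nat.lt_succ_self _)

/-- `x^(b+1) - y^(b+1)` has order at least `m + b` if `x - y` has order at least `m`. -/
lemma OrdGE.pow_sub_pow {x y : MvPowerSeries τ R} {m : ℕ} (hx : OrdGE 1 x) (hy : OrdGE 1 y)
    (h : OrdGE m (x - y)) (b : ℕ) : OrdGE (m + b) (x ^ (b + 1) - y ^ (b + 1)) := by
  induction b with
  | zero => simpa using h
  | succ b ih =>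
    have e1 : x ^ (b + 1 + 1) - y ^ (b + 1 + 1) =
        (x ^ (b + 1) - y ^ (b + 1)) * x + y ^ (b + 1) * (x - y) := by ring
    rw [e1]
    refine OrdGE.add ?_ ?_
    · have := ih.mul hx
      exact this.mono (by omega)
    · have := (OrdGE.pow hy (b + 1)).mul h
      exact this.mono (by omega)

lemma OrdGE.finsupp_prod {x : σ → MvPowerSeries τ R} (hx : ∀ i, OrdGE 1 (x i)) (d : σ →₀ ℕ) :
    OrdGE d.degree (d.prod fun i k => x i ^ k) := by
  classical
  induction d using Finsupp.induction with
  | zero => exact fun e he => absurd he (Nat.not_lt_zero _)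
  | single_add a b f ha hb ih =>
    rw [Finsupp.prod_add_index' (fun _ => pow_zero _) (fun _ _ _ => pow_add _ _ _),
      Finsupp.prod_single_index (h := fun i k => x i ^ k) (pow_zero _), map_add,
      Finsupp.degree_single]
    exact (OrdGE.pow (hx a) b).mul ih

lemma degree_eq_one_iff (d : σ →₀ ℕ) : d.degree = 1 ↔ ∃ a, d = single a 1 := by
  rw [← Finsupp.sum_eq_one_iff]
  rfl

/-- multi-index version of `OrdGE.pow_sub_pow`. -/
lemma OrdGE.prod_sub_prod {x y : σ → MvPowerSeries τ R} {m : ℕ} (hm : 1 ≤ m)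
    (hx : ∀ i, OrdGE 1 (x i))
    (hy : ∀ i, OrdGE 1 (y i)) (h : ∀ i, OrdGE m (x i - y i)) (d : σ →₀ ℕ) :
    ∀ M : ℕ, M + 1 ≤ m + d.degree →
      OrdGE M ((d.prod fun i k => x i ^ k) - (d.prod fun i k => y i ^ k)) := by
  classical
  induction d using Finsupp.induction with
  | zero => intro M _; simpa using OrdGE.zero M
  | single_add a b f ha hb ih =>
    intro M hM
    rw [Finsupp.prod_add_index' (fun _ => pow_zero _) (fun _ _ _ => pow_add _ _ _),
      Finsupp.prod_add_index' (fun _ => pow_zero _) (fun _ _ _ => pow_add _ _ _),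
      Finsupp.prod_single_index (h := fun i k => x i ^ k) (pow_zero _),
      Finsupp.prod_single_index (h := fun i k => y i ^ k) (pow_zero _)]
    rw [map_add, Finsupp.degree_single] at hM
    obtain ⟨b', rfl⟩ : ∃ b', b = b' + 1 := ⟨b - 1, by omega⟩
    have e1 : x a ^ (b' + 1) * (f.prod fun i k => x i ^ k) -
        y a ^ (b' + 1) * (f.prod fun i k => y i ^ k) =
        (x a ^ (b' + 1) - y a ^ (b' + 1)) * (f.prod fun i k => x i ^ k) +
        y a ^ (b' + 1) * ((f.prod fun i k => x i ^ k) - (f.prod fun i k => y i ^ k)) := by ring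
    rw [e1]
    refine OrdGE.add ?_ ?_
    · have := ((hx a).pow_sub_pow (hy a) (h a) b').mul (OrdGE.finsupp_prod hx f)
      exact this.mono (by omega)
    · have := (OrdGE.pow (hy a) (b' + 1)).mul (ih (M - (b' + 1)) (by omega))
      exact this.mono (by omega)

/-- First-order Taylor expansion of a substitution: if `b i` has order `≥ m ≥ 1` and `a i` has zero
constant term, then in total degree `≤ m`,
`H(a + b) = H(a) + ∑ i, (∂H/∂X_i)(0) * b i`. -/
theorem coeff_subst_add [Fintype σ] {a b : σ → MvPowerSeries τ R} {m : ℕ} (hm : 1 ≤ m)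
    (ha : ∀ i, OrdGE 1 (a i)) (hb : ∀ i, OrdGE m (b i)) (H : MvPowerSeries σ R)
    (e : τ →₀ ℕ) (he : e.degree ≤ m) :
    coeff e (subst (a + b) H) =
      coeff e (subst a H) + ∑ i, coeff (single i 1) H * coeff e (b i) := by
  classical
  have hab : ∀ i, OrdGE 1 ((a + b) i) := fun i => (ha i).add ((hb i).mono hm)
  have hA : HasSubst a := hasSubst_of_constantCoeff_zero (fun i => ordGE_one_iff.mp (ha i))
  have hAB : HasSubst (a + b) := hasSubst_of_constantCoeff_zero (fun i => ordGE_one_iff.mp (hab i))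
  rw [coeff_subst hAB, coeff_subst hA, ← sub_eq_iff_eq_add', ← finsum_sub_distrib
    (coeff_subst_finite hAB H e) (coeff_subst_finite hA H e)]
  have hsupp : ∀ d : σ →₀ ℕ, d.degree ≠ 1 →
      coeff d H • coeff e (d.prod fun s k => (a + b) s ^ k) -
        coeff d H • coeff e (d.prod fun s k => a s ^ k) = 0 := by
    intro d hd
    rw [← smul_sub, ← map_sub]
    rcases Nat.lt_or_ge d.degree 1 with h0 | h2
    · have : d = 0 := (Finsupp.degree_eq_zero_iff d).mp (by omega)
      subst this
      simp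
    · have h2' : 2 ≤ d.degree := by omega
      have := OrdGE.prod_sub_prod hm hab ha (m := m) (fun i => by simpa using hb i) d (m + 1)
        (by omega)
      rw [this e (by omega), smul_zero]
  rw [finsum_eq_sum_of_support_subset (s := Finset.univ.image (fun i : σ => single i 1))]
  · rw [Finset.sum_image (fun i _ j _ hij => Finsupp.single_left_injective one_ne_zero hij)]
    refine Finset.sum_congr rfl (fun i _ => ?_)
    rw [← smul_sub, ← map_sub]
    show coeff (single i 1) H • coeff e (((single i 1).prod fun s k => (a + b) s ^ k) -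
      ((single i 1).prod fun s k => a s ^ k)) = _
    rw [Finsupp.prod_single_index (h := fun s k => (a + b) s ^ k) (pow_zero _),
      Finsupp.prod_single_index (h := fun s k => a s ^ k) (pow_zero _)]
    simp
  · intro d hd
    rw [Function.mem_support] at hd
    by_contra hcon
    apply hd
    apply hsupp
    intro h1
    obtain ⟨i, rfl⟩ := (degree_eq_one_iff d).mp h1
    exact hcon (by simp)

/-- Chain rule for the linear coefficients of a substitution. -/
theorem coeff_single_subst [Fintype σ] {a : σ → MvPowerSeries τ R} (ha : ∀ i, OrdGE 1 (a i))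
    (H : MvPowerSeries σ R) (e : τ →₀ ℕ) (he : e.degree = 1) :
    coeff e (subst a H) = ∑ i, coeff (single i 1) H * coeff e (a i) := by
  have := coeff_subst_add (a := (0 : σ → MvPowerSeries τ R)) (b := a) (m := 1) le_rfl
    (fun i => OrdGE.zero 1) ha H e he.le
  rw [zero_add] at this
  rw [this, subst_zero_eq_C_constantCoeff]
  have he0 : e ≠ 0 := by
    rintro rfl
    simp at he
  simp [coeff_C_of_ne_zero he0]

/-- Substituting series without constant term does not lower the order. -/
lemma OrdGE.subst [Finite σ] {a : σ → MvPowerSeries τ R} (ha : ∀ i, OrdGE 1 (a i)) {m : ℕ}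
    {H : MvPowerSeries σ R} (hH : OrdGE m H) : OrdGE m (subst a H) := by
  have hA : HasSubst a := hasSubst_of_constantCoeff_zero (fun i => ordGE_one_iff.mp (ha i))
  rw [ordGE_iff_le_order] at hH ⊢
  refine le_trans ?_ (le_order_subst hA H)
  have h1 : (1 : ℕ∞) ≤ ⨅ i, (a i).order := le_iInf (fun i => by
    have := ordGE_iff_le_order.mp (ha i)
    simpa using this)
  calc (m : ℕ∞) ≤ H.order := hH
    _ = 1 * H.order := (one_mul _).symm
    _ ≤ _ := mul_le_mul_left h1 _

/-- Uniqueness part of successive approximation. -/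
theorem succ_unique (Ψ : MvPowerSeries τ R → MvPowerSeries τ R) (u : ℕ → R) (m₀ : ℕ)
    (hΨ : ∀ F D : MvPowerSeries τ R, OrdGE 1 F → ∀ m, m₀ ≤ m → OrdGE m D → ∀ e, e.degree ≤ m →
      coeff e (Ψ (F + D)) = coeff e (Ψ F) + u m * coeff e D)
    (hu : ∀ m, m₀ ≤ m → ∀ c, u m * c = 0 → c = 0)
    (F F' : MvPowerSeries τ R) (hF : OrdGE 1 F) (h : OrdGE m₀ (F' - F))
    (h0 : Ψ F = 0) (h0' : Ψ F' = 0) : F' = F := by
  have key : ∀ k, OrdGE (m₀ + k) (F' - F) := by
    intro k
    induction k with
    | zero => simpa using h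
    | succ k ih =>
      intro e he
      rcases Nat.lt_or_ge e.degree (m₀ + k) with h1 | h1
      · exact ih e h1
      · have h2 := hΨ F (F' - F) hF (m₀ + k) (by omega) ih e (by omega)
        rw [add_sub_cancel, h0, h0'] at h2
        simp only [map_zero, zero_add] at h2
        exact hu (m₀ + k) (by omega) _ h2.symm
  have : F' - F = 0 := OrdGE.eq_zero (fun m => (key m).mono (by omega))
  exact sub_eq_zero.mp this

/-- Existence part of successive approximation. -/
theorem succ_approx (Ψ : MvPowerSeries τ R → MvPowerSeries τ R) (u : ℕ → R) (m₀ : ℕ)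
    (hm₀ : 1 ≤ m₀)
    (hΨ : ∀ F D : MvPowerSeries τ R, OrdGE 1 F → ∀ m, m₀ ≤ m → OrdGE m D → ∀ e, e.degree ≤ m →
      coeff e (Ψ (F + D)) = coeff e (Ψ F) + u m * coeff e D)
    (hdiv : ∀ F, OrdGE 1 F → ∀ m, m₀ ≤ m → OrdGE m (Ψ F) → ∀ e : τ →₀ ℕ, e.degree = m →
      ∃ c, coeff e (Ψ F) + u m * c = 0)
    (F₀ : MvPowerSeries τ R) (hF₀ : OrdGE 1 F₀) (hΨ₀ : OrdGE m₀ (Ψ F₀)) :
    ∃ F, OrdGE m₀ (F - F₀) ∧ Ψ F = 0 := by
  classical
  have step : ∀ k : ℕ, ∀ F : {F : MvPowerSeries τ R // OrdGE 1 F ∧ OrdGE (m₀ + k) (Ψ F)},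
      ∃ F' : {F : MvPowerSeries τ R // OrdGE 1 F ∧ OrdGE (m₀ + (k + 1)) (Ψ F)},
        OrdGE (m₀ + k) (F'.1 - F.1) := by
    rintro k ⟨F, hF1, hF2⟩
    have hd := hdiv F hF1 (m₀ + k) (by omega) hF2
    let D : MvPowerSeries τ R := fun e =>
      if h : e.degree = m₀ + k then Classical.choose (hd e h) else 0
    have hDc : ∀ e, coeff e D = if h : e.degree = m₀ + k then Classical.choose (hd e h) else 0 :=
      fun e => rfl
    have hD : OrdGE (m₀ + k) D := by
      intro e he
      rw [hDc, dif_neg (by omega)]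
    refine ⟨⟨F + D, hF1.add (hD.mono (by omega)), ?_⟩, by simpa using hD⟩
    intro e he
    rw [hΨ F D hF1 (m₀ + k) (by omega) hD e (by omega)]
    rcases Nat.lt_or_ge e.degree (m₀ + k) with h1 | h1
    · rw [hF2 e h1, hD e h1]; simp
    · have h2 : e.degree = m₀ + k := by omega
      rw [hDc, dif_pos h2]
      exact Classical.choose_spec (hd e h2)
  choose next hnext using step
  let seq : ∀ k, {F : MvPowerSeries τ R // OrdGE 1 F ∧ OrdGE (m₀ + k) (Ψ F)} := fun k =>
    Nat.rec (motive := fun k => {F : MvPowerSeries τ R // OrdGE 1 F ∧ OrdGE (m₀ + k) (Ψ F)})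
      ⟨F₀, hF₀, hΨ₀⟩ (fun k G => next k G) k
  have hseq : ∀ k, OrdGE (m₀ + k) ((seq (k + 1)).1 - (seq k).1) := fun k => hnext k (seq k)
  have hstab : ∀ j k, j ≤ k → OrdGE (m₀ + j) ((seq k).1 - (seq j).1) := by
    intro j k hjk
    induction k, hjk using Nat.le_induction with
    | base => simpa using OrdGE.zero _
    | succ k hk ih =>
      have e1 : (seq (k + 1)).1 - (seq j).1 =
          ((seq (k + 1)).1 - (seq k).1) + ((seq k).1 - (seq j).1) := by ring
      rw [e1]
      exact ((hseq k).mono (by omega)).add ih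
  let Finf : MvPowerSeries τ R := fun e => coeff e (seq e.degree).1
  have hFc : ∀ e, coeff e Finf = coeff e (seq e.degree).1 := fun e => rfl
  have hlim : ∀ k, OrdGE (m₀ + k) (Finf - (seq k).1) := by
    intro k e he
    rw [map_sub, hFc]
    rcases le_total e.degree k with h1 | h1
    · have := hstab e.degree k h1 e (by omega)
      rw [map_sub] at this
      rw [sub_eq_zero] at this ⊢
      exact this.symm
    · have := hstab k e.degree h1 e he
      rwa [map_sub] at this
  have hs0 : (seq 0).1 = F₀ := rfl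
  refine ⟨Finf, by simpa [hs0] using hlim 0, ?_⟩
  ext e
  have hk := hlim e.degree
  have h2 := hΨ (seq e.degree).1 (Finf - (seq e.degree).1) (seq e.degree).2.1 (m₀ + e.degree)
    (by omega) hk e (by omega)
  rw [add_sub_cancel] at h2
  rw [h2, (seq e.degree).2.2 e (by omega), hk e (by omega)]
  simp

end Groth.Agent.Lib.Helper22.PSApprox
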