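import Mathlib
import Groth.Agent.Lib.Helper22.PSApprox

/-!
# Core of the Lubin–Tate lemma

For `π : R`, `q ≥ 1`, the family `fX i = π • X i + X i ^ q` and the substitution
`phi G = G(f(X_1),…,f(X_n))`.
-/

namespace Groth.Agent.Lib.Helper22.LTCore

open MvPowerSeries Finsupp Groth.Agent.Lib.Helper22.PSApprox

universe u v w

variable {R : Type u} [CommRing R] (π : R) (q : ℕ) {σ : Type v}

/-- the family `f(X_i) = π X_i + X_i^q`. -/
noncomputable def fX (σ : Type v) : σ → MvPowerSeries σ R := fun i => π • X i + X i ^ q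

lemma ordGE_X (i : σ) : OrdGE 1 (X i : MvPowerSeries σ R) := ordGE_one_iff.mpr (by simp)

lemma fX_ordGE (hq : 1 ≤ q) (i : σ) : OrdGE 1 (fX π q σ i) := by
  unfold fX
  refine ((ordGE_X i).smul π).add ?_
  exact (OrdGE.pow (ordGE_X i) q).mono hq

lemma fX_hasSubst [Finite σ] (hq : 1 ≤ q) : HasSubst (fX π q σ) :=
  hasSubst_of_constantCoeff_zero (fun i => ordGE_one_iff.mp (fX_ordGE π q hq i))

lemma fX_hasSubst' [Finite σ] (hq : 1 ≤ q) : HasSubst (fX π q σ) := fX_hasSubst π q hq

/-- Lemma A: in degree `≤ m`, substituting `f(X_i)` into a series of order `≥ m` multiplies by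
`π ^ m`. -/
theorem coeff_subst_fX [Finite σ] (hq : 2 ≤ q) {m : ℕ} {D : MvPowerSeries σ R} (hD : OrdGE m D)
    (e : σ →₀ ℕ) (he : e.degree ≤ m) :
    coeff e (subst (fX π q σ) D) = π ^ m * coeff e D := by
  classical
  rw [coeff_subst (fX_hasSubst π q (by omega))]
  -- factor f(X_i) = X_i * w_i
  set w : σ → MvPowerSeries σ R := fun i => C π + X i ^ (q - 1) with hw
  have hfw : ∀ i, fX π q σ i = X i * w i := by
    intro i
    simp only [fX, hw, mul_add]
    rw [← pow_succ', Nat.sub_add_cancel (by omega), smul_eq_C_mul, mul_comm]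
  have hprod : ∀ d : σ →₀ ℕ, (d.prod fun s k => fX π q σ s ^ k) =
      monomial d 1 * (d.prod fun s k => w s ^ k) := by
    intro d
    rw [monomial_one_eq, ← Finsupp.prod_mul]
    refine Finsupp.prod_congr (fun i _ => ?_)
    rw [hfw, mul_pow]
  have hconst : ∀ d : σ →₀ ℕ, constantCoeff (d.prod fun s k => w s ^ k) = π ^ d.degree := by
    intro d
    rw [map_finsuppProd, Finsupp.degree_apply, ← Finset.prod_pow_eq_pow_sum, Finsupp.prod]
    refine Finset.prod_congr rfl (fun i _ => ?_)
    rw [map_pow]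
    congr 1
    have hq1 : q - 1 ≠ 0 := by omega
    simp [hw, hq1]
  rw [finsum_eq_single _ e]
  · rw [hprod, coeff_monomial_mul, if_pos le_rfl, tsub_self, coeff_zero_eq_constantCoeff_apply,
      hconst, one_mul, smul_eq_mul]
    rcases Nat.lt_or_ge e.degree m with h1 | h1
    · rw [hD e h1]; simp
    · have : e.degree = m := by omega
      rw [this, mul_comm]
  · intro d hde
    rw [hprod, coeff_monomial_mul]
    split_ifs with hle
    · have hlt : d.degree < e.degree := by
        have h1 : d + (e - d) = e := add_tsub_cancel_of_le hle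
        have h2 : (e - d).degree ≠ 0 := by
          rw [Ne, Finsupp.degree_eq_zero_iff]
          intro h3
          apply hde
          rw [h3, add_zero] at h1
          exact h1
        have h3 : d.degree + (e - d).degree = e.degree := by rw [← map_add, h1]
        omega
      rw [hD d (by omega)]; simp
    · simp

/-- The Lubin–Tate defect `E F = π F + F^q - F(f(X))`. -/
noncomputable def E (F : MvPowerSeries σ R) : MvPowerSeries σ R :=
  π • F + F ^ q - subst (fX π q σ) F

/-- Lemma C. -/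
theorem coeff_E_add [Finite σ] (hq : 2 ≤ q) (F D : MvPowerSeries σ R) (hF : OrdGE 1 F) (m : ℕ)
    (hm : 1 ≤ m) (hD : OrdGE m D) (e : σ →₀ ℕ) (he : e.degree ≤ m) :
    coeff e (E π q (F + D)) = coeff e (E π q F) + (π - π ^ m) * coeff e D := by
  have hs := fX_hasSubst (σ := σ) π q (by omega : 1 ≤ q)
  have h1 : OrdGE (m + (q - 1)) ((F + D) ^ (q - 1 + 1) - F ^ (q - 1 + 1)) :=
    OrdGE.pow_sub_pow (hF.add (hD.mono hm)) hF (by simpa using hD) (q - 1)
  rw [Nat.sub_add_cancel (by omega)] at h1
  have h2 := h1 e (by omega)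
  rw [map_sub, sub_eq_zero] at h2
  simp only [E, subst_add hs, smul_add, map_add, map_sub, coeff_subst_fX π q hq hD e he, h2,
    map_smul, smul_eq_mul]
  ring

/-- The linear defect `Λ G = G(f(X)) - π G`. -/
noncomputable def Lam (G : MvPowerSeries σ R) : MvPowerSeries σ R :=
  subst (fX π q σ) G - π • G

theorem coeff_Lam_add [Finite σ] (hq : 2 ≤ q) (F D : MvPowerSeries σ R) (m : ℕ)
    (hD : OrdGE m D) (e : σ →₀ ℕ) (he : e.degree ≤ m) :
    coeff e (Lam π q (F + D)) = coeff e (Lam π q F) + (π ^ m - π) * coeff e D := by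
  have hs := fX_hasSubst (σ := σ) π q (by omega : 1 ≤ q)
  simp only [Lam, subst_add hs, smul_add, map_add, map_sub, coeff_subst_fX π q hq hD e he,
    map_smul, smul_eq_mul]
  ring

/-- Frobenius on power series over a finite field. -/
theorem pow_card_eq_subst (k : Type*) [Field k] [Finite k] (G : MvPowerSeries σ k) :
    G ^ Nat.card k = subst (fun i => (X i : MvPowerSeries σ k) ^ Nat.card k) G := by
  letI := Fintype.ofFinite k
  obtain ⟨p, hc, n, hp, hcard⟩ := FiniteField.card' k
  haveI : Fact p.Prime := ⟨hp⟩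
  haveI := hc
  have hq : Nat.card k = p ^ (n : ℕ) := by rw [Nat.card_eq_fintype_card, hcard]
  have h1 := map_iterateFrobenius_expand p hp.ne_zero G n
  have hid : iterateFrobenius k p n = RingHom.id k := by
    ext x
    rw [iterateFrobenius_def, ← hcard, FiniteField.pow_card]
    rfl
  rw [hid, MvPowerSeries.map_id] at h1
  rw [hq, ← h1, expand, coe_substAlgHom]
  rfl

lemma E_zero [Finite σ] (hq : 1 ≤ q) : E π q (0 : MvPowerSeries σ R) = 0 := by
  have h0 : (0 : MvPowerSeries σ R) ^ q = 0 := zero_pow (by omega)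
  simp only [E, smul_zero, h0, add_zero, zero_sub, neg_eq_zero]
  rw [← coe_substAlgHom (fX_hasSubst' π q hq), map_zero]

lemma ordGE_two_E [Finite σ] (hq : 2 ≤ q) {F₀ : MvPowerSeries σ R} (hF₀ : OrdGE 1 F₀) :
    OrdGE 2 (E π q F₀) := by
  intro e he
  have := coeff_E_add π q hq 0 F₀ (OrdGE.zero 1) 1 le_rfl hF₀ e (by omega)
  rw [zero_add] at this
  rw [this, E_zero π q (by omega)]
  simp

section Local

variable {O : Type u} [CommRing O] [IsLocalRing O] [Finite (IsLocalRing.ResidueField O)]

lemma two_le_card : 2 ≤ Nat.card (IsLocalRing.ResidueField O) := Finite.one_lt_card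

theorem map_residue_E [Finite σ] (π : O) (hπ : π ∈ IsLocalRing.maximalIdeal O)
    (F : MvPowerSeries σ O) :
    MvPowerSeries.map (IsLocalRing.residue O)
      (E π (Nat.card (IsLocalRing.ResidueField O)) F) = 0 := by
  have hq2 := two_le_card (O := O)
  have hs := fX_hasSubst (σ := σ) π (Nat.card (IsLocalRing.ResidueField O)) (by omega)
  have hres : IsLocalRing.residue O π = 0 := (IsLocalRing.residue_eq_zero_iff π).mpr hπ
  have hfun : (fun i => (fX π (Nat.card (IsLocalRing.ResidueField O)) σ i).map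
      (IsLocalRing.residue O)) = fun i => (X i : MvPowerSeries σ (IsLocalRing.ResidueField O)) ^
        Nat.card (IsLocalRing.ResidueField O) := by
    funext i
    simp [fX, smul_eq_C_mul, hres]
  simp only [E, map_sub, map_add, map_pow, smul_eq_C_mul, map_mul, map_C, hres, map_zero, zero_mul,
    zero_add, map_subst hs, hfun]
  rw [pow_card_eq_subst, sub_self]

theorem exists_eq_mul_coeff_E [Finite σ] (π : O)
    (hπ : IsLocalRing.maximalIdeal O = Ideal.span {π}) (F : MvPowerSeries σ O) (e : σ →₀ ℕ) :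
    ∃ c, coeff e (E π (Nat.card (IsLocalRing.ResidueField O)) F) = π * c := by
  have hmem : π ∈ IsLocalRing.maximalIdeal O := by rw [hπ]; exact Ideal.mem_span_singleton_self π
  have h1 := congrArg (coeff e) (map_residue_E π hmem F)
  rw [coeff_map, map_zero, IsLocalRing.residue_eq_zero_iff, hπ, Ideal.mem_span_singleton'] at h1
  obtain ⟨a, ha⟩ := h1
  exact ⟨a, by rw [← ha, mul_comm]⟩

lemma isUnit_one_sub_pow (π : O) (hπ : π ∈ IsLocalRing.maximalIdeal O) (j : ℕ) (hj : 1 ≤ j) :
    IsUnit (1 - π ^ j) := by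
  apply IsLocalRing.isUnit_one_sub_self_of_mem_nonunits
  have : π ^ j ∈ IsLocalRing.maximalIdeal O := Ideal.pow_mem_of_mem _ hπ j (by omega)
  exact this

/-- Existence in the Lubin–Tate lemma. -/
theorem LT_exists [Finite σ] (π : O) (hπ : IsLocalRing.maximalIdeal O = Ideal.span {π})
    (F₀ : MvPowerSeries σ O) (hF₀ : OrdGE 1 F₀) :
    ∃ F, OrdGE 2 (F - F₀) ∧ E π (Nat.card (IsLocalRing.ResidueField O)) F = 0 := by
  have hq2 := two_le_card (O := O)
  have hmem : π ∈ IsLocalRing.maximalIdeal O := by rw [hπ]; exact Ideal.mem_span_singleton_self π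
  refine succ_approx (E π (Nat.card (IsLocalRing.ResidueField O))) (fun m => π - π ^ m) 2
    (by norm_num) ?_ ?_ F₀ hF₀ (ordGE_two_E π _ hq2 hF₀)
  · intro F D hF m hm hD e he
    exact coeff_E_add π _ hq2 F D hF m (by omega) hD e he
  · intro F hF m hm hEF e he
    obtain ⟨c₀, hc₀⟩ := exists_eq_mul_coeff_E π hπ F e
    obtain ⟨v, hv⟩ := isUnit_one_sub_pow π hmem (m - 1) (by omega)
    refine ⟨-c₀ * (v⁻¹ : Oˣ), ?_⟩
    have hpow : π - π ^ m = π * v := by
      rw [hv, mul_sub, mul_one, ← pow_succ', Nat.sub_add_cancel (by omega)]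
    rw [hc₀, hpow]
    have : (v : O) * ((v⁻¹ : Oˣ) : O) = 1 := by simp
    linear_combination (-π * c₀) * this

/-- Uniqueness in the Lubin–Tate lemma. -/
theorem LT_unique [IsDomain O] [Finite σ] (π : O) (hπ : π ∈ IsLocalRing.maximalIdeal O)
    (hπ0 : π ≠ 0) (F F' : MvPowerSeries σ O) (hF : OrdGE 1 F) (h : OrdGE 2 (F' - F))
    (h0 : E π (Nat.card (IsLocalRing.ResidueField O)) F = 0)
    (h0' : E π (Nat.card (IsLocalRing.ResidueField O)) F' = 0) : F' = F := by
  have hq2 := two_le_card (O := O)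
  refine succ_unique (E π (Nat.card (IsLocalRing.ResidueField O))) (fun m => π - π ^ m) 2
    ?_ ?_ F F' hF h h0 h0'
  · intro F D hF m hm hD e he
    exact coeff_E_add π _ hq2 F D hF m (by omega) hD e he
  · intro m hm c hc
    obtain ⟨v, hv⟩ := isUnit_one_sub_pow π hπ (m - 1) (by omega)
    have hpow : π - π ^ m = π * v := by
      rw [hv, mul_sub, mul_one, ← pow_succ', Nat.sub_add_cancel (by omega)]
    rw [hpow] at hc
    rcases mul_eq_zero.mp hc with h1 | h1
    · rcases mul_eq_zero.mp h1 with h2 | h2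
      · exact absurd h2 hπ0
      · exact absurd h2 v.ne_zero
    · exact h1

end Local

end Groth.Agent.Lib.Helper22.LTCore
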