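import Mathlib
import Groth.Agent.Lib.Helper22.LTCore

/-!
# Substitution calculus for series commuting with `f`

`Comm f G` : the multivariate series `G` commutes with the one-variable series `f`,
`f(G(X_1,…,X_n)) = G(f(X_1),…,f(X_n))`.  Closed under substitution (`comm_subst`).
-/

namespace Groth.Agent.Lib.Helper22.LTSubst

open MvPowerSeries Finsupp Groth.Agent.Lib.Helper22.PSApprox Groth.Agent.Lib.Helper22.LTCore

universe u v w

variable {R : Type u} [CommRing R] {σ : Type v} {τ : Type w}

/-- `G` commutes with `f`. -/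
def Comm (f : PowerSeries R) (G : MvPowerSeries σ R) : Prop :=
  PowerSeries.subst G f =
    MvPowerSeries.subst (fun i => PowerSeries.subst (X i : MvPowerSeries σ R) f) G

/-- the family `f(X_i)`. -/
noncomputable def fam (f : PowerSeries R) (σ : Type v) : σ → MvPowerSeries σ R :=
  fun i => PowerSeries.subst (X i : MvPowerSeries σ R) f

lemma fam_const (f : PowerSeries R) (hf : f.constantCoeff = 0) (i : σ) :
    constantCoeff (fam f σ i) = 0 :=
  PowerSeries.constantCoeff_subst_eq_zero (by simp) f hf

lemma fam_hasSubst [Finite σ] (f : PowerSeries R) (hf : f.constantCoeff = 0) :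
    HasSubst (fam f σ) :=
  hasSubst_of_constantCoeff_zero (fam_const f hf)

lemma comm_def (f : PowerSeries R) (G : MvPowerSeries σ R) :
    Comm f G ↔ PowerSeries.subst G f = MvPowerSeries.subst (fam f σ) G := Iff.rfl

/-- `a(H(f))= (H∘a)(f)` -/
lemma subst_psubst {a : σ → MvPowerSeries τ R} (ha : HasSubst a) {G : MvPowerSeries σ R}
    (hG : PowerSeries.HasSubst G) (f : PowerSeries R) :
    subst a (PowerSeries.subst G f) = PowerSeries.subst (subst a G) f := by
  rw [PowerSeries.subst_def, subst_comp_subst_apply hG.const ha]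
  rfl

lemma comm_X (f : PowerSeries R) (hf : f.constantCoeff = 0) [Finite σ] (i : σ) :
    Comm f (X i : MvPowerSeries σ R) := by
  rw [comm_def, subst_X (fam_hasSubst f hf)]
  rfl

/-- Series commuting with `f` are closed under substitution. -/
theorem comm_subst [Finite σ] [Finite τ] (f : PowerSeries R) (hf : f.constantCoeff = 0)
    {H : MvPowerSeries σ R} (hH0 : constantCoeff H = 0) (hH : Comm f H)
    {a : σ → MvPowerSeries τ R} (ha0 : ∀ i, constantCoeff (a i) = 0) (ha : ∀ i, Comm f (a i)) :
    Comm f (subst a H) := by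
  have hsa : HasSubst a := hasSubst_of_constantCoeff_zero ha0
  have hsH : PowerSeries.HasSubst H := PowerSeries.HasSubst.of_constantCoeff_zero hH0
  rw [comm_def] at hH ⊢
  calc PowerSeries.subst (subst a H) f
      = subst a (PowerSeries.subst H f) := (subst_psubst hsa hsH f).symm
    _ = subst a (subst (fam f σ) H) := by rw [hH]
    _ = subst (fun i => subst a (fam f σ i)) H :=
        subst_comp_subst_apply (fam_hasSubst f hf) hsa H
    _ = subst (fun i => subst (fam f τ) (a i)) H := by
        congr 1
        funext i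
        have h1 : subst a (fam f σ i) = PowerSeries.subst (a i) f := by
          unfold fam
          rw [subst_psubst hsa (PowerSeries.HasSubst.of_constantCoeff_zero (by simp)) f,
            subst_X hsa]
        rw [h1]
        exact (comm_def f (a i)).mp (ha i)
    _ = subst (fam f τ) (subst a H) :=
        (subst_comp_subst_apply hsa (fam_hasSubst f hf) H).symm

/-- One-variable reformulation. -/
lemma comm_iff_one (f g : PowerSeries R) :
    Comm f (g : MvPowerSeries Unit R) ↔ PowerSeries.subst g f = PowerSeries.subst f g := by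
  unfold Comm
  have : (fun i : Unit => PowerSeries.subst (X i : MvPowerSeries Unit R) f) = fun _ => f := by
    funext i
    exact PowerSeries.X_subst f
  rw [this]
  rfl

/-- Base change of `Comm`. -/
lemma Comm.map {S : Type*} [CommRing S] (ρ : R →+* S) {f : PowerSeries R}
    (hf : f.constantCoeff = 0) [Finite σ] {G : MvPowerSeries σ R} (hG0 : constantCoeff G = 0)
    (hG : Comm f G) : Comm (PowerSeries.map ρ f) (MvPowerSeries.map ρ G) := by
  rw [comm_def] at hG ⊢
  have h1 := congrArg (MvPowerSeries.map ρ) hG
  rw [PowerSeries.map_subst (PowerSeries.HasSubst.of_constantCoeff_zero hG0),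
    MvPowerSeries.map_subst (fam_hasSubst f hf)] at h1
  rw [h1]
  congr 1
  funext i
  unfold fam
  rw [PowerSeries.map_subst (PowerSeries.HasSubst.of_constantCoeff_zero (by simp))]
  simp

section LT

variable (π : R) (q : ℕ)

/-- the Lubin–Tate polynomial `π T + T^q` as a power series. -/
noncomputable def ltf : PowerSeries R := π • PowerSeries.X + PowerSeries.X ^ q

lemma ltf_const (hq : 1 ≤ q) : (ltf π q).constantCoeff = 0 := by
  have : q ≠ 0 := by omega
  simp [ltf, this]

lemma subst_ltf {G : MvPowerSeries σ R} (hG : PowerSeries.HasSubst G) :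
    PowerSeries.subst G (ltf π q) = π • G + G ^ q := by
  unfold ltf
  rw [PowerSeries.subst_add hG, PowerSeries.subst_smul hG, PowerSeries.subst_pow hG,
    PowerSeries.subst_X hG]

lemma fam_ltf : fam (ltf π q) σ = fX π q σ := by
  funext i
  unfold fam fX
  exact subst_ltf π q (PowerSeries.HasSubst.of_constantCoeff_zero (by simp))

lemma comm_ltf_iff {G : MvPowerSeries σ R} (hG0 : constantCoeff G = 0) :
    Comm (ltf π q) G ↔ E π q G = 0 := by
  rw [comm_def, subst_ltf π q (PowerSeries.HasSubst.of_constantCoeff_zero hG0), fam_ltf]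
  unfold E
  rw [sub_eq_zero]

end LT

lemma ordGE_two_iff {G : MvPowerSeries σ R} :
    OrdGE 2 G ↔ constantCoeff G = 0 ∧ ∀ i, coeff (single i 1) G = 0 := by
  constructor
  · intro h
    refine ⟨?_, fun i => h _ (by simp)⟩
    have := h 0 (by simp)
    simpa using this
  · rintro ⟨h0, h1⟩ e he
    rcases Nat.lt_or_ge e.degree 1 with h | h
    · exact ordGE_one_iff.mpr h0 e h
    · obtain ⟨i, rfl⟩ := (degree_eq_one_iff e).mp (by omega)
      exact h1 i

lemma ordGE_two_sub {F F' : MvPowerSeries σ R} (h0 : constantCoeff F = 0)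
    (h0' : constantCoeff F' = 0) (hlin : ∀ i, coeff (single i 1) F' = coeff (single i 1) F) :
    OrdGE 2 (F' - F) := by
  rw [ordGE_two_iff]
  refine ⟨by simp [h0, h0'], fun i => by simp [hlin i]⟩

/-- chain rule, one-variable outer series. -/
lemma coeff_single_psubst {G : MvPowerSeries τ R} (hG : constantCoeff G = 0) (h : PowerSeries R)
    (e : τ →₀ ℕ) (he : e.degree = 1) :
    coeff e (PowerSeries.subst G h) = PowerSeries.coeff 1 h * coeff e G := by
  rw [PowerSeries.subst_def, coeff_single_subst (σ := Unit) (fun _ => ordGE_one_iff.mpr hG) h e he]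
  simp

/-- chain rule, two-variable outer series. -/
lemma coeff_single_subst_two {a : Fin 2 → MvPowerSeries τ R} (ha : ∀ i, constantCoeff (a i) = 0)
    (H : MvPowerSeries (Fin 2) R) (e : τ →₀ ℕ) (he : e.degree = 1) :
    coeff e (subst a H) = coeff (single 0 1) H * coeff e (a 0) +
      coeff (single 1 1) H * coeff e (a 1) := by
  rw [coeff_single_subst (fun i => ordGE_one_iff.mpr (ha i)) H e he, Fin.sum_univ_two]

section Local

variable {O : Type u} [CommRing O] [IsLocalRing O] [Finite (IsLocalRing.ResidueField O)]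

/-- Lubin–Tate lemma, existence, in terms of `Comm`. -/
theorem LT_comm_exists [Finite σ] (π : O) (hmax : IsLocalRing.maximalIdeal O = Ideal.span {π})
    (F₀ : MvPowerSeries σ O) (hF₀ : constantCoeff F₀ = 0) :
    ∃ F : MvPowerSeries σ O, constantCoeff F = 0 ∧
      (∀ i, coeff (single i 1) F = coeff (single i 1) F₀) ∧
      Comm (ltf π (Nat.card (IsLocalRing.ResidueField O))) F := by
  obtain ⟨F, hF2, hFE⟩ := LT_exists π hmax F₀ (ordGE_one_iff.mpr hF₀)
  rw [ordGE_two_iff] at hF2
  have h0 : constantCoeff F = 0 := by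
    have := hF2.1
    rw [map_sub, hF₀, sub_zero] at this
    exact this
  refine ⟨F, h0, fun i => ?_, (comm_ltf_iff π _ h0).mpr hFE⟩
  have := hF2.2 i
  rw [map_sub, sub_eq_zero] at this
  exact this

/-- Lubin–Tate lemma, uniqueness, in terms of `Comm`. -/
theorem LT_comm_unique [IsDomain O] [Finite σ] (π : O) (hπ : π ∈ IsLocalRing.maximalIdeal O)
    (hπ0 : π ≠ 0) (F F' : MvPowerSeries σ O) (hF : constantCoeff F = 0)
    (hF' : constantCoeff F' = 0) (hlin : ∀ i, coeff (single i 1) F' = coeff (single i 1) F)
    (hc : Comm (ltf π (Nat.card (IsLocalRing.ResidueField O))) F)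
    (hc' : Comm (ltf π (Nat.card (IsLocalRing.ResidueField O))) F') : F' = F :=
  LT_unique π hπ hπ0 F F' (ordGE_one_iff.mpr hF) (ordGE_two_sub hF hF' hlin)
    ((comm_ltf_iff π _ hF).mp hc) ((comm_ltf_iff π _ hF').mp hc')

end Local

end Groth.Agent.Lib.Helper22.LTSubst
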