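import Mathlib
import Groth.Agent.Lib.Helper22.LTSubst

/-!
# Logarithm of a Lubin–Tate formal group: the linear functional equation `G(f(X)) = π G`.
-/

namespace Groth.Agent.Lib.Helper22.LTLog

open MvPowerSeries Finsupp Groth.Agent.Lib.Helper22.PSApprox Groth.Agent.Lib.Helper22.LTCore
  Groth.Agent.Lib.Helper22.LTSubst

universe u v w

variable {R : Type u} [CommRing R] (π : R) (q : ℕ) {σ : Type v}

lemma Lam_zero [Finite σ] (hq : 1 ≤ q) : Lam π q (0 : MvPowerSeries σ R) = 0 := by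
  simp only [Lam, smul_zero, sub_zero]
  rw [← coe_substAlgHom (fX_hasSubst π q hq), map_zero]

lemma Lam_add [Finite σ] (hq : 1 ≤ q) (A B : MvPowerSeries σ R) :
    Lam π q (A + B) = Lam π q A + Lam π q B := by
  simp only [Lam, subst_add (fX_hasSubst π q hq), smul_add]
  ring

lemma Lam_smul [Finite σ] (hq : 1 ≤ q) (c : R) (A : MvPowerSeries σ R) :
    Lam π q (c • A) = c • Lam π q A := by
  simp only [Lam, subst_smul (fX_hasSubst π q hq), smul_sub, smul_comm c π]

lemma ordGE_two_Lam [Finite σ] (hq : 2 ≤ q) {F₀ : MvPowerSeries σ R} (hF₀ : OrdGE 1 F₀) :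
    OrdGE 2 (Lam π q F₀) := by
  intro e he
  have := coeff_Lam_add π q hq 0 F₀ 1 hF₀ e (by omega)
  rw [zero_add] at this
  rw [this, Lam_zero π q (by omega)]
  simp

/-- existence of solutions of the linear functional equation. -/
theorem log_exists [Finite σ] (hq : 2 ≤ q) (hu : ∀ m, 2 ≤ m → IsUnit (π ^ m - π))
    (F₀ : MvPowerSeries σ R) (hF₀ : OrdGE 1 F₀) :
    ∃ F, OrdGE 2 (F - F₀) ∧ Lam π q F = 0 := by
  refine succ_approx (Lam π q) (fun m => π ^ m - π) 2 (by norm_num) ?_ ?_ F₀ hF₀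
    (ordGE_two_Lam π q hq hF₀)
  · intro F D _ m _ hD e he
    exact coeff_Lam_add π q hq F D m hD e he
  · intro F _ m hm _ e _
    obtain ⟨v, hv⟩ := hu m hm
    refine ⟨-coeff e (Lam π q F) * (v⁻¹ : Rˣ), ?_⟩
    rw [← hv]
    have : (v : R) * ((v⁻¹ : Rˣ) : R) = 1 := by simp
    linear_combination (-coeff e (Lam π q F)) * this

/-- uniqueness of solutions of the linear functional equation. -/
theorem log_unique [Finite σ] (hq : 2 ≤ q) (hu : ∀ m, 2 ≤ m → ∀ c, (π ^ m - π) * c = 0 → c = 0)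
    (F F' : MvPowerSeries σ R) (hF : constantCoeff F = 0) (hF' : constantCoeff F' = 0)
    (hlin : ∀ i, coeff (single i 1) F' = coeff (single i 1) F)
    (h0 : Lam π q F = 0) (h0' : Lam π q F' = 0) : F' = F := by
  refine succ_unique (Lam π q) (fun m => π ^ m - π) 2 ?_ hu F F' (ordGE_one_iff.mpr hF)
    (ordGE_two_sub hF hF' hlin) h0 h0'
  intro F D _ m _ hD e he
  exact coeff_Lam_add π q hq F D m hD e he

lemma fX_unit : fX π q Unit = fun _ => (ltf π q : MvPowerSeries Unit R) := by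
  funext i
  rfl

lemma lam_iff_one (ℓ : PowerSeries R) :
    Lam π q (ℓ : MvPowerSeries Unit R) = 0 ↔ PowerSeries.subst (ltf π q) ℓ = π • ℓ := by
  unfold Lam
  rw [sub_eq_zero, fX_unit]
  rfl

/-- composing a logarithm with a series commuting with `f` gives a solution of the linear
functional equation. -/
theorem lam_psubst [Finite σ] (hq : 1 ≤ q) (ℓ : PowerSeries R)
    (hℓ : PowerSeries.subst (ltf π q) ℓ = π • ℓ) (H : MvPowerSeries σ R)
    (hH0 : constantCoeff H = 0) (hH : Comm (ltf π q) H) :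
    Lam π q (PowerSeries.subst H ℓ) = 0 := by
  have hsH : PowerSeries.HasSubst H := PowerSeries.HasSubst.of_constantCoeff_zero hH0
  have hsf : PowerSeries.HasSubst (ltf π q) :=
    PowerSeries.HasSubst.of_constantCoeff_zero' (ltf_const π q hq)
  unfold Lam
  rw [sub_eq_zero, subst_psubst (fX_hasSubst π q hq) hsH, ← fam_ltf, ← (comm_def _ H).mp hH,
    ← PowerSeries.subst_comp_subst_apply hsf hsH, hℓ, PowerSeries.subst_smul hsH]

end Groth.Agent.Lib.Helper22.LTLog
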