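import Mathlib
import Groth.Agent.Lib.Helper4.GorTop
import Groth.Agent.Lib.Helper22.Liaison3

/-!
# Double annihilators in Artinian Gorenstein local rings (helper22)
-/

set_option autoImplicit false
set_option maxHeartbeats 800000

universe u

open CategoryTheory Abelian IsLocalRing

namespace Groth.Agent.Lib.Helper22.Liaison

section DoubleAnn

variable {A : Type u} [CommRing A]

/-- the annihilator ideal `0 : J`. -/
abbrev ann (J : Ideal A) : Ideal A := (⊥ : Ideal A).colon (J : Set A)

lemma mem_ann {J : Ideal A} {a : A} : a ∈ ann J ↔ ∀ j ∈ J, a * j = 0 := by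
  constructor
  · intro h j hj
    have := Submodule.mem_colon.1 h j hj
    simpa using this
  · intro h
    refine Submodule.mem_colon.2 (fun j hj => ?_)
    simpa using h j hj

lemma le_ann_ann (J : Ideal A) : J ≤ ann (ann J) := by
  intro j hj
  rw [mem_ann]
  intro a ha
  rw [mul_comm]
  exact mem_ann.1 ha j hj

/-- evaluation at `1` : `Hom(A/J, A) → ann J`. -/
noncomputable def homQuotToAnn (J : Ideal A) : (A ⧸ J →ₗ[A] A) →ₗ[A] ann J :=
  LinearMap.codRestrict ((ann J).restrictScalars A)
    (LinearMap.applyₗ (Ideal.Quotient.mk J 1)) (by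
      intro f
      change f (Ideal.Quotient.mk J 1) ∈ ann J
      rw [mem_ann]
      intro j hj
      have h1 : f (Ideal.Quotient.mk J 1) * j = f (j • Ideal.Quotient.mk J 1) := by
        rw [map_smul, smul_eq_mul, mul_comm]
      rw [h1]
      have h2 : j • (Ideal.Quotient.mk J 1 : A ⧸ J) = 0 := by
        rw [Algebra.smul_def, map_one, mul_one]
        exact Ideal.Quotient.eq_zero_iff_mem.2 hj
      rw [h2, map_zero])

lemma homQuotToAnn_apply (J : Ideal A) (f : A ⧸ J →ₗ[A] A) :
    ((homQuotToAnn J f : ann J) : A) = f (Ideal.Quotient.mk J 1) := rfl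

lemma homQuotToAnn_bijective (J : Ideal A) : Function.Bijective (homQuotToAnn J) := by
  constructor
  · rw [← LinearMap.ker_eq_bot, LinearMap.ker_eq_bot']
    intro f hf
    have h1 : f (Ideal.Quotient.mk J 1) = 0 := by
      have := congrArg Subtype.val hf
      simpa [homQuotToAnn_apply] using this
    refine LinearMap.ext (fun y => ?_)
    obtain ⟨y, rfl⟩ := Ideal.Quotient.mk_surjective y
    have : (Ideal.Quotient.mk J y : A ⧸ J) = y • Ideal.Quotient.mk J 1 := by
      rw [Algebra.smul_def, map_one, mul_one]; rfl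
    rw [this, map_smul, h1, smul_zero, LinearMap.zero_apply]
  · rintro ⟨a, ha⟩
    refine ⟨Submodule.liftQ J (LinearMap.toSpanSingleton A A a) ?_, ?_⟩
    · intro j hj
      rw [LinearMap.mem_ker, LinearMap.toSpanSingleton_apply, smul_eq_mul, mul_comm]
      exact mem_ann.1 ha j hj
    · apply Subtype.ext
      rw [homQuotToAnn_apply]
      change (Submodule.liftQ J (LinearMap.toSpanSingleton A A a) _) (Submodule.Quotient.mk 1) = a
      rw [Submodule.liftQ_apply, LinearMap.toSpanSingleton_apply, one_smul]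

/-- `Hom(A/J, A) ≃ ann J`. -/
noncomputable def homQuotEquivAnn (J : Ideal A) : (A ⧸ J →ₗ[A] A) ≃ₗ[A] ann J :=
  LinearEquiv.ofBijective (homQuotToAnn J) (homQuotToAnn_bijective J)

lemma length_quot_add (J : Ideal A) :
    Module.length A A = Module.length A J + Module.length A (A ⧸ J) :=
  Module.length_eq_add_of_exact J.subtype J.mkQ J.injective_subtype
    (Submodule.mkQ_surjective J) (LinearMap.exact_subtype_mkQ J)

variable [LocCoh.IsGorensteinLocalRing A] (h0 : ringKrullDim A = 0)

include h0 in
lemma isArtinianRing_of_dim_zero : IsArtinianRing A := by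
  rw [isArtinianRing_iff_krullDimLE_zero, ringKrullDimZero_iff_ringKrullDim_eq_zero]
  exact h0

include h0 in
theorem length_ann (J : Ideal A) : Module.length A (ann J) = Module.length A (A ⧸ J) := by
  haveI := isArtinianRing_of_dim_zero h0
  have hn : ringKrullDim A = ((0 : ℕ) : WithBot ℕ∞) := by rw [h0]; rfl
  have hv := Groth.Agent.Lib.Helper4.LC.gor_ext_residue_subsingleton A 0 hn
  have h1 := Groth.Agent.Lib.Helper4.LC.gor_length_ext_residue A 0 hn
  have hfl : IsFiniteLength A (A ⧸ J) :=
    isFiniteLength_iff_isNoetherian_isArtinian.2 ⟨inferInstance, inferInstance⟩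
  obtain ⟨-, h2⟩ := Groth.Agent.Lib.Helper4.LC.ext_finiteLength_mul (ModuleCat.of A A) 0 hv
    (A ⧸ J) hfl
  rw [h1, mul_one] at h2
  rw [← h2]
  refine LinearEquiv.length_eq ?_
  exact ((Ext.linearEquiv₀ (R := A)).trans ((ModuleCat.homLinearEquiv (S := A)
      (M := ModuleCat.of A (A ⧸ J)) (N := ModuleCat.of A A)).trans (homQuotEquivAnn J))).symm

include h0 in
/-- **double annihilator property** of an Artinian Gorenstein local ring. -/
theorem ann_ann (J : Ideal A) : ann (ann J) = J := by
  haveI := isArtinianRing_of_dim_zero h0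
  have e1 := length_ann h0 J
  have e2 := length_ann h0 (ann J)
  have e3 := length_quot_add J
  have e4 := length_quot_add (ann J)
  have hfin : Module.length A A ≠ ⊤ := Module.length_ne_top
  have hle : J ≤ ann (ann J) := le_ann_ann J
  by_contra hne
  have hlt : J < ann (ann J) := lt_of_le_of_ne hle (Ne.symm hne)
  -- length J < length ann ann J
  have h5 : Module.length A J < Module.length A (ann (ann J)) := by
    have hJ' : (Submodule.comap (ann (ann J)).subtype J) ≠ ⊤ := by
      intro h
      apply hlt.not_ge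
      intro x hx
      have : (⟨x, hx⟩ : ann (ann J)) ∈ Submodule.comap (ann (ann J)).subtype J := h ▸ Submodule.mem_top
      exact this
    have := Submodule.length_lt hJ'
    rwa [(Submodule.comapSubtypeEquivOfLe hle).length_eq] at this
  rw [e2] at h5
  -- length (A/ann J) = length A - length (ann J) = length A - length (A/J) = length J
  have h6 : Module.length A (A ⧸ ann J) = Module.length A J := by
    rw [e1] at e4
    rw [e3] at e4
    have hq : Module.length A (A ⧸ J) ≠ ⊤ := by
      intro h; rw [h, add_top] at e3; exact hfin e3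
    rw [add_comm (Module.length A (A ⧸ J))] at e4
    exact (ENat.add_left_injective_of_ne_top hq e4).symm
  rw [h6] at h5
  exact lt_irrefl _ h5

end DoubleAnn

section Local

variable {R : Type u} [CommRing R] [IsNoetherianRing R]

/-- local form of the double-colon statement at a minimal prime of `c` with `R/c` Gorenstein. -/
theorem exists_notMem_mul_mem (c I P : Ideal R) [LocCoh.IsGorensteinRing (R ⧸ c)]
    (hcI : c ≤ I) (hP : P ∈ c.minimalPrimes) (x : R)
    (hx : x ∈ c.colon ((c.colon (I : Set R) : Ideal R) : Set R)) :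
    ∃ s, s ∉ P ∧ s * x ∈ I := by
  classical
  haveI hPp : P.IsPrime := hP.1.1
  have hcP : c ≤ P := hP.1.2
  -- the prime of the quotient
  rw [Ideal.minimalPrimes_eq_comap] at hP
  obtain ⟨𝔭, h𝔭, rfl⟩ := hP
  haveI h𝔭p : 𝔭.IsPrime := h𝔭.1.1
  have hmemP : ∀ r : R, r ∈ Ideal.comap (Ideal.Quotient.mk c) 𝔭 ↔ Ideal.Quotient.mk c r ∈ 𝔭 :=
    fun r => Ideal.mem_comap
  set A := Localization.AtPrime 𝔭 with hA
  haveI : LocCoh.IsGorensteinLocalRing A :=
    LocCoh.IsGorensteinRing.isGorensteinLocalRing_localization 𝔭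
  have h0 : ringKrullDim A = 0 := by
    rw [IsLocalization.AtPrime.ringKrullDim_eq_height 𝔭 A, Ideal.height_eq_zero_iff.2 h𝔭]
    rfl
  set φ : R →+* A := (algebraMap (R ⧸ c) A).comp (Ideal.Quotient.mk c) with hφ
  have hunit : ∀ r : R, Ideal.Quotient.mk c r ∉ 𝔭 → IsUnit (φ r) := by
    intro r hr
    exact IsLocalization.map_units A (⟨Ideal.Quotient.mk c r, hr⟩ : 𝔭.primeCompl)
  have hzero : ∀ r : R, φ r = 0 → ∃ t : R, Ideal.Quotient.mk c t ∉ 𝔭 ∧ t * r ∈ c := by
    intro r hr
    obtain ⟨⟨tb, htb⟩, ht⟩ := (IsLocalization.map_eq_zero_iff 𝔭.primeCompl A _).1 hr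
    obtain ⟨t, rfl⟩ := Ideal.Quotient.mk_surjective tb
    refine ⟨t, htb, ?_⟩
    rw [← Ideal.Quotient.eq_zero_iff_mem, map_mul]
    exact ht
  -- key: φ x ∈ ann (ann (map φ I))
  have key : φ x ∈ ann (ann (I.map φ)) := by
    rw [mem_ann]
    intro z hz
    obtain ⟨bb, ⟨sb, hsb⟩, rfl⟩ := IsLocalization.exists_mk'_eq 𝔭.primeCompl z
    obtain ⟨b, rfl⟩ := Ideal.Quotient.mk_surjective bb
    obtain ⟨s, rfl⟩ := Ideal.Quotient.mk_surjective sb
    have hus : IsUnit (φ s) := hunit s hsb
    have hw : φ b ∈ ann (I.map φ) := by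
      have : φ b = IsLocalization.mk' A (Ideal.Quotient.mk c b)
          (⟨Ideal.Quotient.mk c s, hsb⟩ : 𝔭.primeCompl) * φ s := by
        rw [hφ, RingHom.comp_apply, RingHom.comp_apply]
        exact (IsLocalization.mk'_spec A _ _).symm
      rw [this]
      exact Ideal.mul_mem_right _ _ hz
    -- φ x * φ b = 0
    have hxb : φ x * φ b = 0 := by
      obtain ⟨G, hG⟩ := (isNoetherianRing_iff_ideal_fg R).1 inferInstance I
      have hg : ∀ g ∈ G, ∃ t : R, Ideal.Quotient.mk c t ∉ 𝔭 ∧ t * (b * g) ∈ c := by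
        intro g hg
        apply hzero
        rw [map_mul]
        exact mem_ann.1 hw _ (Ideal.mem_map_of_mem φ (hG ▸ Ideal.subset_span hg))
      choose t ht1 ht2 using hg
      set T : R := ∏ g ∈ G.attach, t g.1 g.2 with hT
      have hTP : Ideal.Quotient.mk c T ∉ 𝔭 := by
        rw [hT, map_prod]
        intro h
        obtain ⟨g, -, hg⟩ := (Ideal.IsPrime.prod_mem_iff (hp := h𝔭p)).1 h
        exact ht1 g.1 g.2 hg
      have hTb : T * b ∈ c.colon (I : Set R) := by
        have hle : I ≤ c.colon ({T * b} : Set R) := by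
          rw [← hG, Ideal.span_le]
          intro g hg
          change g ∈ c.colon ({T * b} : Set R)
          rw [Submodule.mem_colon_singleton, smul_eq_mul]
          have h1 : (t g hg) ∣ T := by
            rw [hT]
            exact Finset.dvd_prod_of_mem (fun g : {x // x ∈ G} => t g.1 g.2)
              (Finset.mem_attach G ⟨g, hg⟩)
          obtain ⟨q, hq⟩ := h1
          have : g * (T * b) = q * (t g hg * (b * g)) := by rw [hq]; ring
          rw [this]
          exact Ideal.mul_mem_left _ _ (ht2 g hg)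
        refine Submodule.mem_colon.2 (fun i hi => ?_)
        have := hle hi
        rw [Submodule.mem_colon_singleton, smul_eq_mul] at this
        rw [smul_eq_mul, mul_comm]
        exact this
      have h2 : x * (T * b) ∈ c := by
        have := Submodule.mem_colon.1 hx (T * b) hTb
        simpa [smul_eq_mul] using this
      have h3 : φ x * φ b * φ T = 0 := by
        have : φ (x * (T * b)) = 0 := by
          rw [hφ, RingHom.comp_apply, Ideal.Quotient.eq_zero_iff_mem.2 h2, map_zero]
        rw [← this, map_mul, map_mul]; ring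
      exact (hunit T hTP).mul_left_eq_zero.1 h3
    have h4 : φ x * IsLocalization.mk' A (Ideal.Quotient.mk c b)
        (⟨Ideal.Quotient.mk c s, hsb⟩ : 𝔭.primeCompl) * φ s = 0 := by
      rw [mul_assoc]
      have : IsLocalization.mk' A (Ideal.Quotient.mk c b)
          (⟨Ideal.Quotient.mk c s, hsb⟩ : 𝔭.primeCompl) * φ s = φ b := by
        rw [hφ, RingHom.comp_apply, RingHom.comp_apply]
        exact IsLocalization.mk'_spec A _ _
      rw [this, hxb]
    exact hus.mul_left_eq_zero.1 h4
  rw [ann_ann h0] at key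
  -- unpack membership
  have hmap : I.map φ = (I.map (Ideal.Quotient.mk c)).map (algebraMap (R ⧸ c) A) := by
    rw [hφ, Ideal.map_map]
  rw [hmap, IsLocalization.mem_map_algebraMap_iff 𝔭.primeCompl A] at key
  obtain ⟨⟨⟨ib, hib⟩, ⟨sb, hsb⟩⟩, hkey⟩ := key
  simp only at hkey
  rw [hφ, RingHom.comp_apply, ← map_mul] at hkey
  obtain ⟨⟨ub, hub⟩, hu⟩ := (IsLocalization.eq_iff_exists 𝔭.primeCompl A).1 hkey
  simp only at hu
  obtain ⟨s, rfl⟩ := Ideal.Quotient.mk_surjective sb
  obtain ⟨u, rfl⟩ := Ideal.Quotient.mk_surjective ub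
  refine ⟨u * s, ?_, ?_⟩
  · rw [hmemP, map_mul]
    exact fun h => (h𝔭p.mem_or_mem h).elim hub hsb
  · have h5 : Ideal.Quotient.mk c (u * s * x) ∈ I.map (Ideal.Quotient.mk c) := by
      have : Ideal.Quotient.mk c (u * s * x) =
          Ideal.Quotient.mk c u * (Ideal.Quotient.mk c x * Ideal.Quotient.mk c s) := by
        rw [map_mul, map_mul]; ring
      rw [this, hu]
      exact Ideal.mul_mem_left _ _ hib
    obtain ⟨i, hi, hie⟩ := (Ideal.mem_map_iff_of_surjective _ Ideal.Quotient.mk_surjective).1 h5
    have h6 : u * s * x - i ∈ c := by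
      rw [← Ideal.Quotient.eq_zero_iff_mem, map_sub, hie, sub_self]
    have : u * s * x = (u * s * x - i) + i := by ring
    rw [this]
    exact I.add_mem (hcI h6) hi

end Local

end Groth.Agent.Lib.Helper22.Liaison
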