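import Groth.Agent.Lib.Helper13.LieSAdd

/-!
# Additivity of points over a trivial square-zero extension `B[M]` (helper22)

Generalisation of `Groth.Agent.Lib.Helper13.tptMap_add_comp` from dual numbers `B[ε]` to an arbitrary
`B`-module `M`: for a point `v : Spec B[M] ⟶ X` of a monoid scheme restricting to the unit section,
`l ↦ Spec B[l] ≫ v` turns addition of endomorphisms of `M` into multiplication of points.
-/

set_option autoImplicit false
universe u
open CategoryTheory AlgebraicGeometry MonObj Limits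

noncomputable section
namespace Groth.Agent.Lib.Helper22.LieGen

open Groth.Agent.Lib.Helper13

section
variable {S : Scheme.{u}} (B : Type u) [CommRing B] (f : Spec (CommRingCat.of B) ⟶ S)
variable {M N : Type u} [AddCommGroup M] [Module B M] [Module Bᵐᵒᵖ M] [IsCentralScalar B M]
  [AddCommGroup N] [Module B N] [Module Bᵐᵒᵖ N] [IsCentralScalar B N]

/-- `Spec B[M × M]` is covered by the two axes, jointly epimorphically -/
theorem tpt_prod_hom_ext' {X : Over S} (a b : tpt B f (M × M) ⟶ X)
    (h₁ : tptMap B f (LinearMap.fst B M M) ≫ a = tptMap B f (LinearMap.fst B M M) ≫ b)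
    (h₂ : tptMap B f (LinearMap.snd B M M) ≫ a = tptMap B f (LinearMap.snd B M M) ≫ b) : a = b := by
  apply Over.OverMorphism.ext
  refine specMap_pair_hom_ext (tszeMap B (LinearMap.fst B M M)) (tszeMap B (LinearMap.snd B M M))
    ?_ ?_ a.left b.left (congrArg (fun t => t.left) h₁) (congrArg (fun t => t.left) h₂)
  · intro r hr₁ hr₂
    refine TrivSqZeroExt.ext ?_ (Prod.ext ?_ ?_)
    · simpa using congrArg TrivSqZeroExt.fst hr₁
    · simpa using congrArg TrivSqZeroExt.snd hr₁
    · simpa using congrArg TrivSqZeroExt.snd hr₂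
  · refine comap_surjective_of_nilpotent _ (tszeMap B (LinearMap.inl B M M)) (fun r => ?_)
    exact isNilpotent_of_fst_eq_zero B _ (by simp)

/-- additivity for points over `B[M]` restricting to the unit -/
theorem tptMap_add_comp' {X : Over S} [MonObj X] (v : tpt B f M ⟶ X)
    (hv : tptMap B f (0 : M →ₗ[B] M) ≫ v = 1) (l₁ l₂ : M →ₗ[B] N) :
    tptMap B f (l₁ + l₂) ≫ v = (tptMap B f l₁ ≫ v) * (tptMap B f l₂ ≫ v) := by
  have key : tptMap B f (LinearMap.prod (LinearMap.id : M →ₗ[B] M) LinearMap.id) ≫ v =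
      (tptMap B f (LinearMap.inl B M M) ≫ v) * (tptMap B f (LinearMap.inr B M M) ≫ v) := by
    refine tpt_prod_hom_ext' B f _ _ ?_ ?_
    · rw [MonObj.comp_mul, tptMap_comp_assoc, tptMap_comp_assoc, tptMap_comp_assoc]
      have e1 : (LinearMap.fst B M M).comp (LinearMap.prod (LinearMap.id : M →ₗ[B] M) LinearMap.id) =
          LinearMap.id := by ext; simp
      have e2 : (LinearMap.fst B M M).comp (LinearMap.inl B M M) = LinearMap.id := by ext; simp
      have e3 : (LinearMap.fst B M M).comp (LinearMap.inr B M M) = 0 := by ext; simp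
      rw [e1, e2, e3, hv, _root_.mul_one]
    · rw [MonObj.comp_mul, tptMap_comp_assoc, tptMap_comp_assoc, tptMap_comp_assoc]
      have e1 : (LinearMap.snd B M M).comp (LinearMap.prod (LinearMap.id : M →ₗ[B] M) LinearMap.id) =
          LinearMap.id := by ext; simp
      have e2 : (LinearMap.snd B M M).comp (LinearMap.inl B M M) = 0 := by ext; simp
      have e3 : (LinearMap.snd B M M).comp (LinearMap.inr B M M) = LinearMap.id := by ext; simp
      rw [e1, e2, e3, hv, _root_.one_mul]
  have e0 : l₁ + l₂ = (l₁.coprod l₂).comp (LinearMap.prod (LinearMap.id : M →ₗ[B] M) LinearMap.id) := by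
    ext; simp
  have e1 : (l₁.coprod l₂).comp (LinearMap.inl B M M) = l₁ := by ext; simp
  have e2 : (l₁.coprod l₂).comp (LinearMap.inr B M M) = l₂ := by ext; simp
  rw [e0, ← tptMap_comp_assoc, key, MonObj.comp_mul, tptMap_comp_assoc, tptMap_comp_assoc, e1, e2]

/-- the monoid homomorphism `l ↦ Spec B[l] ≫ v` -/
def endMonoidHom {X : Over S} [MonObj X] (v : tpt B f M ⟶ X)
    (hv : tptMap B f (0 : M →ₗ[B] M) ≫ v = 1) :
    Multiplicative (M →ₗ[B] M) →* (tpt B f M ⟶ X) where
  toFun l := tptMap B f l.toAdd ≫ v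
  map_one' := hv
  map_mul' a b := tptMap_add_comp' B f v hv a.toAdd b.toAdd

theorem tptMap_id_comp {X : Over S} (v : tpt B f M ⟶ X) :
    tptMap B f (LinearMap.id : M →ₗ[B] M) ≫ v = v :=
  (congrArg (· ≫ v) (tptMap_id B f)).trans (Category.id_comp v)

/-- `v ^ d = Spec B[d • id] ≫ v` -/
theorem zpow_eq {X : Over S} [GrpObj X] (v : tpt B f M ⟶ X)
    (hv : tptMap B f (0 : M →ₗ[B] M) ≫ v = 1) (d : ℤ) :
    v ^ d = tptMap B f (d • (LinearMap.id : M →ₗ[B] M)) ≫ v := by
  have h := map_zpow (endMonoidHom B f v hv) (Multiplicative.ofAdd (LinearMap.id : M →ₗ[B] M)) d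
  have h1 : (endMonoidHom B f v hv) (Multiplicative.ofAdd (LinearMap.id : M →ₗ[B] M)) = v :=
    tptMap_id_comp B f v
  rw [h1] at h
  rw [← h, ← ofAdd_zsmul]
  rfl

end

end Groth.Agent.Lib.Helper22.LieGen
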