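import Groth.Agent.Lib.Helper22.LieGenA

/-!
# Points of a group scheme over a square-zero thickening (helper22)

For a surjection `φ : R → A'` with square-zero kernel `I`, a point `v : Spec R ⟶ X` of a group scheme
agreeing with a point `w` on `Spec A'` (and `w` landing in an affine open) comes from a point `u` of
`Spec R[I]` (trivial square-zero extension) under `(r, i) ↦ r + i`, with zero section `w`.
Consequences: if `w = 1`, then `v ^ d = 1` when `d = 0` in `R`, and `v ^ d = 1 → v = 1` when `d` is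
a unit of `R`.
-/

set_option autoImplicit false
universe u
open CategoryTheory AlgebraicGeometry MonObj Limits

noncomputable section
namespace Groth.Agent.Lib.Helper22.LieGen

open Groth.Agent.Lib.Helper13

section Ring
variable (R : Type u) [CommRing R] (I : Ideal R)

/-- `(r, i) ↦ r` -/
def fstHom' : TrivSqZeroExt R I →+* R where
  toFun x := x.fst
  map_one' := TrivSqZeroExt.fst_one
  map_mul' x y := TrivSqZeroExt.fst_mul x y
  map_zero' := TrivSqZeroExt.fst_zero
  map_add' x y := TrivSqZeroExt.fst_add x y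

@[simp] theorem fstHom'_apply (x : TrivSqZeroExt R I) : fstHom' R I x = x.fst := rfl

variable {R I} in
theorem mul_eq_zero_of_sq (hI : I ^ 2 = ⊥) {a b : R} (ha : a ∈ I) (hb : b ∈ I) : a * b = 0 := by
  have : a * b ∈ I ^ 2 := by
    rw [pow_two]
    exact Ideal.mul_mem_mul ha hb
  rw [hI] at this
  exact this

/-- `(r, i) ↦ r + i`, a ring homomorphism when `I ^ 2 = 0` -/
def addHom (hI : I ^ 2 = ⊥) : TrivSqZeroExt R I →+* R where
  toFun x := x.fst + (x.snd : R)
  map_one' := by simp
  map_mul' x y := by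
    have h0 : ((x.snd : R)) * (y.snd : R) = 0 := mul_eq_zero_of_sq hI x.snd.2 y.snd.2
    simp only [TrivSqZeroExt.fst_mul, TrivSqZeroExt.snd_mul, Submodule.coe_add,
      Submodule.coe_smul_of_tower, smul_eq_mul, op_smul_eq_smul]
    linear_combination (-1 : R) * h0
  map_zero' := by simp
  map_add' x y := by
    simp only [TrivSqZeroExt.fst_add, TrivSqZeroExt.snd_add, Submodule.coe_add]
    ring

@[simp] theorem addHom_apply (hI : I ^ 2 = ⊥) (x : TrivSqZeroExt R I) :
    addHom R I hI x = x.fst + (x.snd : R) := rfl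

theorem fstHom'_comp_algebraMap :
    (fstHom' R I).comp (algebraMap R (TrivSqZeroExt R I)) = RingHom.id R :=
  RingHom.ext fun r => by simp [TrivSqZeroExt.algebraMap_eq_inl']

theorem addHom_comp_algebraMap (hI : I ^ 2 = ⊥) :
    (addHom R I hI).comp (algebraMap R (TrivSqZeroExt R I)) = RingHom.id R :=
  RingHom.ext fun r => by simp [TrivSqZeroExt.algebraMap_eq_inl']

theorem fstHom'_comp_tszeMap (l : I →ₗ[R] I) :
    (fstHom' R I).comp (tszeMap R l) = fstHom' R I :=
  RingHom.ext fun x => by simp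

theorem algebraMap_comp_fstHom' :
    (algebraMap R (TrivSqZeroExt R I)).comp (fstHom' R I) = tszeMap R (0 : I →ₗ[R] I) := by
  refine RingHom.ext fun x => ?_
  refine TrivSqZeroExt.ext ?_ ?_ <;> simp [TrivSqZeroExt.algebraMap_eq_inl']

theorem pair_injective (hI : I ^ 2 = ⊥) (x : TrivSqZeroExt R I) (h1 : fstHom' R I x = 0)
    (h2 : addHom R I hI x = 0) : x = 0 := by
  rw [fstHom'_apply] at h1
  rw [addHom_apply, h1, zero_add] at h2
  refine TrivSqZeroExt.ext (by simpa using h1) ?_
  exact Subtype.ext (by simpa using h2)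

theorem comap_fstHom'_surjective :
    Function.Surjective (PrimeSpectrum.comap (fstHom' R I)) := by
  refine comap_surjective_of_nilpotent _ (algebraMap R (TrivSqZeroExt R I)) (fun r => ?_)
  exact isNilpotent_of_fst_eq_zero R _ (by simp [TrivSqZeroExt.algebraMap_eq_inl'])

variable {R I} in
/-- two ring maps congruent modulo a square-zero ideal give a ring map to `R[I]` -/
def pairLift {C : Type u} [CommRing C] (ψ₀ ψ : C →+* R) (h : ∀ c, ψ c - ψ₀ c ∈ I)
    (hI : I ^ 2 = ⊥) : C →+* TrivSqZeroExt R I where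
  toFun c := TrivSqZeroExt.inl (ψ₀ c) + TrivSqZeroExt.inr ⟨ψ c - ψ₀ c, h c⟩
  map_one' := by
    refine TrivSqZeroExt.ext (by simp) ?_
    exact Subtype.ext (by simp)
  map_mul' a b := by
    have h0 : (ψ a - ψ₀ a) * (ψ b - ψ₀ b) = 0 := mul_eq_zero_of_sq hI (h a) (h b)
    refine TrivSqZeroExt.ext (by simp) ?_
    refine Subtype.ext ?_
    simp only [TrivSqZeroExt.snd_add, TrivSqZeroExt.snd_inl, TrivSqZeroExt.snd_inr, zero_add,
      TrivSqZeroExt.snd_mul, TrivSqZeroExt.fst_add, TrivSqZeroExt.fst_inl, TrivSqZeroExt.fst_inr,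
      add_zero, Submodule.coe_add, Submodule.coe_smul_of_tower, smul_eq_mul, op_smul_eq_smul,
      map_mul]
    linear_combination h0
  map_zero' := by
    refine TrivSqZeroExt.ext (by simp) ?_
    exact Subtype.ext (by simp)
  map_add' a b := by
    refine TrivSqZeroExt.ext (by simp) ?_
    refine Subtype.ext ?_
    simp only [TrivSqZeroExt.snd_add, TrivSqZeroExt.snd_inl, TrivSqZeroExt.snd_inr, zero_add,
      Submodule.coe_add, map_add]
    ring

variable {R I} in
theorem fstHom'_comp_pairLift {C : Type u} [CommRing C] (ψ₀ ψ : C →+* R)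
    (h : ∀ c, ψ c - ψ₀ c ∈ I) (hI : I ^ 2 = ⊥) :
    (fstHom' R I).comp (pairLift ψ₀ ψ h hI) = ψ₀ :=
  RingHom.ext fun c => by simp [pairLift]

variable {R I} in
theorem addHom_comp_pairLift {C : Type u} [CommRing C] (ψ₀ ψ : C →+* R)
    (h : ∀ c, ψ c - ψ₀ c ∈ I) (hI : I ^ 2 = ⊥) :
    (addHom R I hI).comp (pairLift ψ₀ ψ h hI) = ψ :=
  RingHom.ext fun c => by simp [pairLift]

end Ring

end Groth.Agent.Lib.Helper22.LieGen
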