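import Groth.Agent.Lib.Helper22.LieGenB

/-!
# Points of a group scheme over a square-zero thickening, scheme level (helper22)
-/

set_option autoImplicit false
universe u
open CategoryTheory AlgebraicGeometry MonObj Limits

noncomputable section
namespace Groth.Agent.Lib.Helper22.LieGen

open Groth.Agent.Lib.Helper13

section Pts
variable {S : Scheme.{u}} (R : Type u) [CommRing R] (I : Ideal R)
  (s : Spec (CommRingCat.of R) ⟶ S)

/-- the zero section `Spec R ⟶ Spec R[I]` -/
def zeroPt : Over.mk s ⟶ tpt R s I :=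
  Over.homMk (Spec.map (CommRingCat.ofHom (fstHom' R I))) (by
    change Spec.map _ ≫ Spec.map _ ≫ s = s
    rw [← Category.assoc, LieS.specMap_comp, fstHom'_comp_algebraMap, CommRingCat.ofHom_id]
    erw [Spec.map_id]; exact Category.id_comp s)

/-- the section `Spec R ⟶ Spec R[I]` of `(r, i) ↦ r + i` -/
def addPt (hI : I ^ 2 = ⊥) : Over.mk s ⟶ tpt R s I :=
  Over.homMk (Spec.map (CommRingCat.ofHom (addHom R I hI))) (by
    change Spec.map _ ≫ Spec.map _ ≫ s = s
    rw [← Category.assoc, LieS.specMap_comp, addHom_comp_algebraMap, CommRingCat.ofHom_id]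
    erw [Spec.map_id]; exact Category.id_comp s)

/-- the projection `Spec R[I] ⟶ Spec R` -/
def projPt : tpt R s I ⟶ Over.mk s :=
  Over.homMk (Spec.map (CommRingCat.ofHom (algebraMap R (TrivSqZeroExt R I)))) rfl

theorem zeroPt_tptMap (l : I →ₗ[R] I) : zeroPt R I s ≫ tptMap R s l = zeroPt R I s := by
  apply Over.OverMorphism.ext
  change Spec.map _ ≫ Spec.map _ = Spec.map _
  rw [LieS.specMap_comp, fstHom'_comp_tszeMap]

theorem projPt_zeroPt : projPt R I s ≫ zeroPt R I s = tptMap R s (0 : I →ₗ[R] I) := by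
  apply Over.OverMorphism.ext
  change Spec.map _ ≫ Spec.map _ = Spec.map _
  rw [LieS.specMap_comp, algebraMap_comp_fstHom']

/-- the zero section and the addition section are jointly epimorphic -/
theorem pt_hom_ext (hI : I ^ 2 = ⊥) {X : Over S} (a b : tpt R s I ⟶ X)
    (h₁ : zeroPt R I s ≫ a = zeroPt R I s ≫ b) (h₂ : addPt R I s hI ≫ a = addPt R I s hI ≫ b) :
    a = b := by
  apply Over.OverMorphism.ext
  exact specMap_pair_hom_ext (fstHom' R I) (addHom R I hI) (pair_injective R I hI)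
    (comap_fstHom'_surjective R I) a.left b.left (congrArg (fun t => t.left) h₁)
    (congrArg (fun t => t.left) h₂)

end Pts

end Groth.Agent.Lib.Helper22.LieGen

namespace Groth.Agent.Lib.Helper22.LieGen

open Groth.Agent.Lib.Helper13

section Lift
variable {S : Scheme.{u}} {X : Over S} (R : Type u) [CommRing R]
  (s : Spec (CommRingCat.of R) ⟶ S)
  {A' : Type u} [CommRing A'] (φ : R →+* A') (hφ : Function.Surjective φ)
  (hI : RingHom.ker φ ^ 2 = ⊥)

include hφ hI in
theorem specMap_surjective_of_sq_zero :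
    Function.Surjective (Spec.map (CommRingCat.ofHom φ)) := by
  intro p
  have hp : p ∈ PrimeSpectrum.zeroLocus (RingHom.ker φ : Set R) := by
    intro x hx
    have h0 : x * x = 0 := mul_eq_zero_of_sq hI hx hx
    have h1 : x * x ∈ p.asIdeal := h0 ▸ p.asIdeal.zero_mem
    exact (p.isPrime.mem_or_mem h1).elim id id
  rw [← range_comap_of_surjective _ φ hφ] at hp
  obtain ⟨q, hq⟩ := hp
  exact ⟨q, hq⟩

include hφ in
/-- a point `v` congruent to `w` modulo a square-zero ideal comes from a point of `Spec R[I]` -/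
theorem exists_tpt_lift (U : X.left.Opens) (hU : IsAffineOpen U) (v w : Over.mk s ⟶ X)
    (hwU : ∀ x, w.left x ∈ U)
    (hvw : Spec.map (CommRingCat.ofHom φ) ≫ v.left = Spec.map (CommRingCat.ofHom φ) ≫ w.left) :
    ∃ u : tpt R s (RingHom.ker φ) ⟶ X,
      zeroPt R _ s ≫ u = w ∧ addPt R _ s hI ≫ u = v := by
  have hvU : ∀ x, v.left x ∈ U := by
    intro x
    obtain ⟨y, rfl⟩ := specMap_surjective_of_sq_zero R φ hφ hI x
    rw [← Scheme.Hom.comp_apply, hvw, Scheme.Hom.comp_apply]
    exact hwU _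
  have hrv : Set.range v.left ⊆ Set.range hU.fromSpec := by
    rw [hU.range_fromSpec]
    rintro _ ⟨x, rfl⟩
    exact hvU x
  have hrw : Set.range w.left ⊆ Set.range hU.fromSpec := by
    rw [hU.range_fromSpec]
    rintro _ ⟨x, rfl⟩
    exact hwU x
  let lv := IsOpenImmersion.lift hU.fromSpec v.left hrv
  have hlv : lv ≫ hU.fromSpec = v.left := IsOpenImmersion.lift_fac _ _ _
  let lw := IsOpenImmersion.lift hU.fromSpec w.left hrw
  have hlw : lw ≫ hU.fromSpec = w.left := IsOpenImmersion.lift_fac _ _ _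
  let ψv : Γ(X.left, U) ⟶ CommRingCat.of R := Spec.preimage lv
  have hψv : Spec.map ψv = lv := Spec.map_preimage lv
  let ψw : Γ(X.left, U) ⟶ CommRingCat.of R := Spec.preimage lw
  have hψw : Spec.map ψw = lw := Spec.map_preimage lw
  have hcong : ∀ c, ψv.hom c - ψw.hom c ∈ RingHom.ker φ := by
    have h1 : Spec.map (ψv ≫ CommRingCat.ofHom φ) = Spec.map (ψw ≫ CommRingCat.ofHom φ) := by
      rw [Spec.map_comp, Spec.map_comp, hψv, hψw, ← cancel_mono hU.fromSpec, Category.assoc,
        Category.assoc, hlv, hlw, hvw]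
    have h2 := Spec.map_injective h1
    intro c
    rw [RingHom.mem_ker, map_sub, sub_eq_zero]
    exact congrArg (fun t => t.hom c) h2
  let χ : Γ(X.left, U) →+* TrivSqZeroExt R (RingHom.ker φ) := pairLift ψw.hom ψv.hom hcong hI
  have hχ0 : Spec.map (CommRingCat.ofHom (fstHom' R (RingHom.ker φ))) ≫
      Spec.map (CommRingCat.ofHom χ) ≫ hU.fromSpec = w.left := by
    rw [← Category.assoc, LieS.specMap_comp, fstHom'_comp_pairLift, ← hlw, ← hψw]
    rfl
  have hχ1 : Spec.map (CommRingCat.ofHom (addHom R (RingHom.ker φ) hI)) ≫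
      Spec.map (CommRingCat.ofHom χ) ≫ hU.fromSpec = v.left := by
    rw [← Category.assoc, LieS.specMap_comp, addHom_comp_pairLift, ← hlv, ← hψv]
    rfl
  have hover : (Spec.map (CommRingCat.ofHom χ) ≫ hU.fromSpec) ≫ X.hom =
      (tpt R s (RingHom.ker φ)).hom := by
    refine specMap_pair_hom_ext (fstHom' R (RingHom.ker φ)) (addHom R (RingHom.ker φ) hI)
      (pair_injective R _ hI) (comap_fstHom'_surjective R _) _ _ ?_ ?_
    · rw [← Category.assoc, hχ0]
      have h1 : w.left ≫ X.hom = s := Over.w w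
      rw [h1]
      exact ((zeroPt R (RingHom.ker φ) s).w).symm
    · rw [← Category.assoc, hχ1]
      have h1 : v.left ≫ X.hom = s := Over.w v
      rw [h1]
      exact ((addPt R (RingHom.ker φ) s hI).w).symm
  refine ⟨Over.homMk (Spec.map (CommRingCat.ofHom χ) ≫ hU.fromSpec) hover, ?_, ?_⟩
  · apply Over.OverMorphism.ext
    exact hχ0
  · apply Over.OverMorphism.ext
    exact hχ1

end Lift

end Groth.Agent.Lib.Helper22.LieGen

namespace Groth.Agent.Lib.Helper22.LieGen

open Groth.Agent.Lib.Helper13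

section KL
variable {S : Scheme.{u}} {X : Over S} [GrpObj X] (R : Type u) [CommRing R]
  (s : Spec (CommRingCat.of R) ⟶ S)
  {A' : Type u} [CommRing A'] (φ : R →+* A') (hφ : Function.Surjective φ)
  (hI : RingHom.ker φ ^ 2 = ⊥)
  (U : X.left.Opens) (hU : IsAffineOpen U) (v : Over.mk s ⟶ X)
  (h1U : ∀ x, (1 : Over.mk s ⟶ X).left x ∈ U)
  (hv : Spec.map (CommRingCat.ofHom φ) ≫ v.left =
    Spec.map (CommRingCat.ofHom φ) ≫ (1 : Over.mk s ⟶ X).left)

include hφ hI hU h1U hv in
/-- a point trivial modulo a square-zero ideal is killed by every integer vanishing in `R` -/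
theorem zpow_eq_one_of_intCast_eq_zero (d : ℤ) (hd : (d : R) = 0) : v ^ d = 1 := by
  obtain ⟨u, hu0, hu1⟩ := exists_tpt_lift R s φ hφ hI U hU v 1 h1U hv
  have hu' : tptMap R s (0 : RingHom.ker φ →ₗ[R] RingHom.ker φ) ≫ u = 1 := by
    rw [← projPt_zeroPt, Category.assoc, hu0, MonObj.comp_one]
  have hz : (d • (LinearMap.id : RingHom.ker φ →ₗ[R] RingHom.ker φ)) = 0 := by
    ext i
    simp only [LinearMap.smul_apply, LinearMap.id_apply, LinearMap.zero_apply]
    rw [← Int.cast_smul_eq_zsmul R d i, hd, zero_smul]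
  rw [← hu1, ← GrpObj.comp_zpow, zpow_eq R s u hu' d, hz, hu', MonObj.comp_one]

include hφ hI hU h1U hv in
/-- a point trivial modulo a square-zero ideal and killed by an integer invertible in `R` is
trivial -/
theorem eq_one_of_zpow_eq_one (d : ℤ) (hd : IsUnit (d : R)) (hvd : v ^ d = 1) : v = 1 := by
  obtain ⟨u, hu0, hu1⟩ := exists_tpt_lift R s φ hφ hI U hU v 1 h1U hv
  have hu' : tptMap R s (0 : RingHom.ker φ →ₗ[R] RingHom.ker φ) ≫ u = 1 := by
    rw [← projPt_zeroPt, Category.assoc, hu0, MonObj.comp_one]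
  obtain ⟨c, hc⟩ := hd.exists_left_inv
  have hw1 : tptMap R s (d • (LinearMap.id : RingHom.ker φ →ₗ[R] RingHom.ker φ)) ≫ u = 1 := by
    refine pt_hom_ext R _ s hI _ 1 ?_ ?_
    · rw [← Category.assoc, zeroPt_tptMap, hu0, MonObj.comp_one]
    · rw [← zpow_eq R s u hu' d, GrpObj.comp_zpow, hu1, hvd, MonObj.comp_one]
  have e : (c • (LinearMap.id : RingHom.ker φ →ₗ[R] RingHom.ker φ)).comp
      (d • (LinearMap.id : RingHom.ker φ →ₗ[R] RingHom.ker φ)) = LinearMap.id := by
    ext i
    simp only [LinearMap.comp_apply, LinearMap.smul_apply, LinearMap.id_apply]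
    rw [← Int.cast_smul_eq_zsmul R d i, smul_smul, hc, one_smul]
  have hu1' : u = 1 := by
    calc u = tptMap R s (LinearMap.id : RingHom.ker φ →ₗ[R] RingHom.ker φ) ≫ u :=
          (tptMap_id_comp R s u).symm
      _ = tptMap R s (c • (LinearMap.id : RingHom.ker φ →ₗ[R] RingHom.ker φ)) ≫
            tptMap R s (d • (LinearMap.id : RingHom.ker φ →ₗ[R] RingHom.ker φ)) ≫ u := by
          rw [tptMap_comp_assoc, e]
      _ = 1 := by rw [hw1, MonObj.comp_one]
  rw [← hu1, hu1', MonObj.comp_one]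

end KL

end Groth.Agent.Lib.Helper22.LieGen
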