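import Mathlib.AlgebraicGeometry.Morphisms.FormallyUnramified
import Groth.Agent.Lib.Helper22.LieGenC

/-!
# Multiplication by `d` on a group scheme over a field and formal unramifiedness (helper22)
-/

set_option autoImplicit false
universe u
open CategoryTheory AlgebraicGeometry MonObj Limits MonoidalCategory CartesianMonoidalCategory

noncomputable section
namespace Groth.Agent.Lib.Helper22.LieGen

open Groth.Agent.Lib.Helper13

theorem isNilpotent_ker_specMap {R S' : CommRingCat.{u}} (φ : R ⟶ S')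
    (h : RingHom.ker φ.hom ^ 2 = ⊥) : IsNilpotent (Spec.map φ).ker := by
  refine ⟨2, ?_⟩
  have hk : (Spec.map φ).ker.ideal ⟨⊤, isAffineOpen_top (Spec R)⟩ =
      RingHom.ker (Spec.map φ).appTop.hom := by
    have h1 := (Scheme.IdealSheafData.equivOfIsAffine (X := Spec R)).right_inv
      (RingHom.ker (Spec.map φ).appTop.hom)
    rw [Scheme.ker_of_isAffine]
    exact h1
  apply Scheme.IdealSheafData.ext_of_isAffine
  rw [Scheme.IdealSheafData.ideal_pow, Pi.pow_apply, hk]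
  have hz : (0 : (Spec R).IdealSheafData).ideal ⟨⊤, isAffineOpen_top (Spec R)⟩ = ⊥ := by
    rw [Scheme.IdealSheafData.zero_eq_bot]
    rfl
  rw [hz, eq_bot_iff, pow_two, Ideal.mul_le]
  intro a ha b hb
  rw [RingHom.mem_ker] at ha hb
  have hnat := Scheme.ΓSpecIso_naturality φ
  have ha' : (Scheme.ΓSpecIso R).hom a ∈ RingHom.ker φ.hom := by
    rw [RingHom.mem_ker]
    have := congrArg (fun t => t.hom a) hnat
    simp only [CommRingCat.hom_comp, RingHom.comp_apply] at this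
    rw [← this, ha, map_zero]
  have hb' : (Scheme.ΓSpecIso R).hom b ∈ RingHom.ker φ.hom := by
    rw [RingHom.mem_ker]
    have := congrArg (fun t => t.hom b) hnat
    simp only [CommRingCat.hom_comp, RingHom.comp_apply] at this
    rw [← this, hb, map_zero]
  have h0 := mul_eq_zero_of_sq h ha' hb'
  rw [← map_mul] at h0
  have hinj : Function.Injective (Scheme.ΓSpecIso R).hom :=
    ((ConcreteCategory.isIso_iff_bijective _).mp inferInstance).1
  rw [Ideal.mem_bot]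
  exact hinj (h0.trans (map_zero _).symm)

section Core
variable (K : Type u) [Field K] (A : Over (Spec (CommRingCat.of K))) [GrpObj A]

theorem exists_affine_one (T : Over (Spec (CommRingCat.of K))) :
    ∃ U : A.left.Opens, IsAffineOpen U ∧ ∀ x, (1 : T ⟶ A).left x ∈ U := by
  haveI : Subsingleton ↥(Spec (CommRingCat.of K)) := by
    change Subsingleton (PrimeSpectrum K)
    infer_instance
  obtain ⟨U, hU, hcU, -⟩ := exists_isAffineOpen_mem_and_subset (X := A.left)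
    (x := η[A].left (IsLocalRing.closedPoint K)) (U := ⊤) trivial
  refine ⟨U, hU, fun x => ?_⟩
  have h1 : (1 : T ⟶ A) = toUnit T ≫ η[A] := Hom.one_def
  rw [h1, Over.comp_left, Scheme.Hom.comp_apply]
  have h2 : (toUnit T).left x = IsLocalRing.closedPoint K :=
    Subsingleton.elim (α := ↥(Spec (CommRingCat.of K))) _ _
  rw [h2]
  exact hcU

theorem core (R : Type u) [CommRing R] {A' : Type u} [CommRing A'] (φ : R →+* A')
    (hφ : Function.Surjective φ) (hI : RingHom.ker φ ^ 2 = ⊥)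
    (g₁ g₂ : Spec (CommRingCat.of R) ⟶ A.left)
    (h₁ : Spec.map (CommRingCat.ofHom φ) ≫ g₁ = Spec.map (CommRingCat.ofHom φ) ≫ g₂)
    (h₂ : g₁ ≫ A.hom = g₂ ≫ A.hom) (d : ℤ) :
    (Spec.map (CommRingCat.ofHom φ) ≫
        ((Over.homMk g₁ rfl : Over.mk (g₁ ≫ A.hom) ⟶ A)⁻¹ *
          (Over.homMk g₂ h₂.symm : Over.mk (g₁ ≫ A.hom) ⟶ A)).left =
      Spec.map (CommRingCat.ofHom φ) ≫ (1 : Over.mk (g₁ ≫ A.hom) ⟶ A).left) ∧
    ((d : K) = 0 → ((Over.homMk g₁ rfl : Over.mk (g₁ ≫ A.hom) ⟶ A)⁻¹ *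
        (Over.homMk g₂ h₂.symm : Over.mk (g₁ ≫ A.hom) ⟶ A)) ^ d = 1) ∧
    ((d : K) ≠ 0 → ((Over.homMk g₁ rfl : Over.mk (g₁ ≫ A.hom) ⟶ A)⁻¹ *
        (Over.homMk g₂ h₂.symm : Over.mk (g₁ ≫ A.hom) ⟶ A)) ^ d = 1 → g₁ = g₂) := by
  set s := g₁ ≫ A.hom with hs
  set G₁ : Over.mk s ⟶ A := Over.homMk g₁ rfl with hG₁
  set G₂ : Over.mk s ⟶ A := Over.homMk g₂ h₂.symm with hG₂
  set v := G₁⁻¹ * G₂ with hvdef
  obtain ⟨U, hU, h1U⟩ := exists_affine_one K A (Over.mk s)
  let i : Over.mk (Spec.map (CommRingCat.ofHom φ) ≫ s) ⟶ Over.mk s :=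
    Over.homMk (Spec.map (CommRingCat.ofHom φ)) rfl
  have hi : i ≫ G₁ = i ≫ G₂ := by
    apply Over.OverMorphism.ext
    exact h₁
  have hiv : i ≫ v = 1 := by
    rw [hvdef, MonObj.comp_mul, GrpObj.comp_inv, hi, _root_.inv_mul_cancel]
  have hv : Spec.map (CommRingCat.ofHom φ) ≫ v.left =
      Spec.map (CommRingCat.ofHom φ) ≫ (1 : Over.mk s ⟶ A).left := by
    have h3 : i ≫ v = i ≫ 1 := by rw [hiv, MonObj.comp_one]
    exact congrArg (fun t => t.left) h3
  let σ : K →+* R := (Spec.preimage s).hom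
  have hσ : σ (d : K) = (d : R) := map_intCast σ d
  refine ⟨hv, ?_, ?_⟩
  · intro hd
    exact zpow_eq_one_of_intCast_eq_zero R s φ hφ hI U hU v h1U hv d (by rw [← hσ, hd, map_zero])
  · intro hd hvd
    have hunit : IsUnit (d : R) := by
      rw [← hσ]
      exact (IsUnit.mk0 _ hd).map σ
    have hv1 := eq_one_of_zpow_eq_one R s φ hφ hI U hU v h1U hv d hunit hvd
    have h4 : G₁ = G₂ := inv_mul_eq_one.mp hv1
    exact congrArg (fun t => t.left) h4

end Core

end Groth.Agent.Lib.Helper22.LieGen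

namespace Groth.Agent.Lib.Helper22.LieGen

section Unram
variable (K : Type u) [Field K] (A : Over (Spec (CommRingCat.of K))) [GrpObj A]

/-- if `d = 0` in `K` and `[d]` is formally unramified, then `A` is formally unramified over `K` -/
theorem formallyUnramified_hom_of_zpow (d : ℤ) (hd : (d : K) = 0)
    [FormallyUnramified (𝟙 A ^ d).left] : FormallyUnramified A.hom := by
  refine FormallyUnramified.of_hom_ext A.hom fun R S' φ hφ hker g₁ g₂ h₁ h₂ => ?_
  obtain ⟨hv, hc, -⟩ := core K A (R := ↑R) (φ := φ.hom) hφ hker g₁ g₂ h₁ h₂ d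
  have hvd := hc hd
  have h3 : ((Over.homMk g₁ rfl : Over.mk (g₁ ≫ A.hom) ⟶ A)⁻¹ *
        (Over.homMk g₂ h₂.symm : Over.mk (g₁ ≫ A.hom) ⟶ A)) ≫ (𝟙 A ^ d) =
      (1 : Over.mk (g₁ ≫ A.hom) ⟶ A) ≫ (𝟙 A ^ d) := by
    rw [GrpObj.comp_zpow, GrpObj.comp_zpow, Category.comp_id, Category.comp_id, hvd, one_zpow]
  haveI : IsClosedImmersion (Spec.map φ) := IsClosedImmersion.spec_of_surjective φ hφ
  have h4 := FormallyUnramified.hom_ext (Spec.map φ) (isNilpotent_ker_specMap φ hker)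
    (𝟙 A ^ d).left hv (congrArg (fun t => t.left) h3)
  have h5 : ((Over.homMk g₁ rfl : Over.mk (g₁ ≫ A.hom) ⟶ A)⁻¹ *
        (Over.homMk g₂ h₂.symm : Over.mk (g₁ ≫ A.hom) ⟶ A)) = 1 :=
    Over.OverMorphism.ext h4
  have h6 : (Over.homMk g₁ rfl : Over.mk (g₁ ≫ A.hom) ⟶ A) =
      (Over.homMk g₂ h₂.symm : Over.mk (g₁ ≫ A.hom) ⟶ A) := inv_mul_eq_one.mp h5
  exact congrArg (fun t => t.left) h6

/-- if `d ≠ 0` in `K`, then `[d]` is formally unramified on a commutative group scheme -/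
theorem formallyUnramified_zpow [IsCommMonObj A] (d : ℤ) (hd : (d : K) ≠ 0) :
    FormallyUnramified (𝟙 A ^ d).left := by
  refine FormallyUnramified.of_hom_ext _ fun R S' φ hφ hker g₁ g₂ h₁ h₂ => ?_
  have h₂' : g₁ ≫ A.hom = g₂ ≫ A.hom := by
    have hw : (𝟙 A ^ d).left ≫ A.hom = A.hom := Over.w (𝟙 A ^ d)
    rw [← hw, ← Category.assoc, ← Category.assoc, h₂]
  obtain ⟨-, -, hc⟩ := core K A (R := ↑R) (φ := φ.hom) hφ hker g₁ g₂ h₁ h₂' d
  apply hc hd
  have hG : (Over.homMk g₁ rfl : Over.mk (g₁ ≫ A.hom) ⟶ A) ≫ (𝟙 A ^ d) =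
      (Over.homMk g₂ h₂'.symm : Over.mk (g₁ ≫ A.hom) ⟶ A) ≫ (𝟙 A ^ d) :=
    Over.OverMorphism.ext h₂
  rw [GrpObj.comp_zpow, GrpObj.comp_zpow, Category.comp_id, Category.comp_id] at hG
  letI := Hom.commGroup (G := A) (X := Over.mk (g₁ ≫ A.hom))
  rw [mul_zpow, inv_zpow, hG, _root_.inv_mul_cancel]

end Unram

end Groth.Agent.Lib.Helper22.LieGen
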