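import Mathlib
import Groth.Agent.Lib.Helper22.LieGenD
import Groth.Agent.Lib.Helper22.AbFibD
import Groth.Agent.Lib.Helper22.FinSurjA
import Groth.Agent.Lib.Helper16.EtDim

/-!
# Multiplication by `d` on an abelian variety is étale iff `d ≠ 0` in the base field (helper22)
-/

set_option autoImplicit false
universe u
open CategoryTheory AlgebraicGeometry MonObj Limits MonoidalCategory CartesianMonoidalCategory

noncomputable section
namespace Groth.Agent.Lib.Helper22.LieGen

theorem ringHom_quasiFinite_of_unramified {R A : Type u} [CommRing R] [CommRing A] (φ : R →+* A)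
    (h1 : φ.FormallyUnramified) (h2 : φ.FiniteType) : φ.QuasiFinite := by
  algebraize [φ]
  have : Algebra.FormallyUnramified R A := h1
  have : Algebra.FiniteType R A := h2
  have : Algebra.QuasiFinite R A := inferInstance
  exact this

theorem locallyQuasiFinite_of_formallyUnramified {X Y : Scheme.{u}} (f : X ⟶ Y)
    [FormallyUnramified f] [LocallyOfFiniteType f] : LocallyQuasiFinite f := by
  rw [HasRingHomProperty.iff_appLE (P := @LocallyQuasiFinite)]
  intro U V e
  exact ringHom_quasiFinite_of_unramified _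
    (HasRingHomProperty.appLE (P := @FormallyUnramified) _ ‹_› U V e)
    (HasRingHomProperty.appLE (P := @LocallyOfFiniteType) _ ‹_› U V e)

variable (K : Type u) [Field K] (A : Over (Spec (CommRingCat.of K))) [GrpObj A]
  [IsProper A.hom] [GeometricallyIntegral A.hom]

theorem not_etale_zpow_of_eq_zero (hA : 0 < topologicalKrullDim A.left) (d : ℤ)
    (hd : (d : K) = 0) : ¬ Etale ((𝟙 A ^ d).left) := by
  intro hE
  haveI := hE
  haveI : FormallyUnramified A.hom := formallyUnramified_hom_of_zpow K A d hd
  haveI : LocallyQuasiFinite A.hom := locallyQuasiFinite_of_formallyUnramified A.hom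
  have h1 := Groth.Agent.Lib.Helper16.EtDim.topologicalKrullDim_le_of_locallyQuasiFinite A.hom
  haveI : Subsingleton ↥(Spec (CommRingCat.of K)) := by
    change Subsingleton (PrimeSpectrum K)
    infer_instance
  have h2 : topologicalKrullDim ↥(Spec (CommRingCat.of K)) ≤ 0 :=
    topologicalKrullDim_zero_of_discreteTopology _
  exact absurd (lt_of_lt_of_le hA (h1.trans h2)) (lt_irrefl _)

set_option backward.isDefEq.respectTransparency false in
theorem etale_zpow_of_ne_zero (d : ℤ) (hd : (d : K) ≠ 0) : Etale ((𝟙 A ^ d).left) := by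
  haveI : Subsingleton ↥(Spec (CommRingCat.of K)) := by
    change Subsingleton (PrimeSpectrum K)
    infer_instance
  haveI : IsCommMonObj A := isCommMonObj_of_isProper_of_geometricallyIntegral A
  haveI : FormallyUnramified (𝟙 A ^ d).left := formallyUnramified_zpow K A d hd
  haveI : IsIntegral A.left := GeometricallyIntegral.isIntegral_of_subsingleton A.hom
  haveI hfq : LocallyOfFiniteType ((𝟙 A ^ d).left ≫ A.hom) := by
    rw [Over.w (𝟙 A ^ d)]
    infer_instance
  haveI : LocallyOfFiniteType (𝟙 A ^ d).left := locallyOfFiniteType_of_comp (𝟙 A ^ d).left A.hom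
  haveI : IsProper ((𝟙 A ^ d).left ≫ A.hom) := by
    rw [Over.w (𝟙 A ^ d)]
    infer_instance
  haveI : IsProper (𝟙 A ^ d).left := IsProper.of_comp (𝟙 A ^ d).left A.hom
  haveI : LocallyQuasiFinite (𝟙 A ^ d).left :=
    locallyQuasiFinite_of_formallyUnramified (𝟙 A ^ d).left
  -- the dimension
  letI ovA : A.left.Over (Spec (CommRingCat.of K)) := ⟨A.hom⟩
  haveI : LocallyOfFiniteType (A.left ↘ Spec (CommRingCat.of K)) :=
    inferInstanceAs (LocallyOfFiniteType A.hom)
  obtain ⟨n, hn⟩ := Groth.Agent.Lib.Helper12.SchemeDimFT.exists_trdeg_eq K A.left (genericPoint A.left)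
  have hAn : topologicalKrullDim A.left = n :=
    Groth.Agent.Lib.Helper12.SchemeDimFT.topologicalKrullDim_eq_of_irreducible K A.left n hn
  haveI : Surjective (𝟙 A ^ d).left :=
    ⟨Groth.Agent.Lib.Helper22.FinSurj.surjective_of_dim_eq (𝟙 A ^ d).left
      (𝟙 A ^ d).left.isClosedMap n hAn hAn⟩
  obtain ⟨-, hflat⟩ := Groth.Agent.Lib.Helper22.AbFib.isFinite_flat_of_surjective (k := K) A A
    (𝟙 A ^ d) rfl
  haveI := hflat
  haveI : IsLocallyNoetherian A.left := LocallyOfFiniteType.isLocallyNoetherian A.hom
  haveI : LocallyOfFinitePresentation (𝟙 A ^ d).left :=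
    LocallyOfFinitePresentation.iff_locallyOfFiniteType.mpr inferInstance
  exact Etale.of_formallyUnramified_of_flat _

theorem etale_zpow_iff (hA : 0 < topologicalKrullDim A.left) (d : ℤ) :
    Etale ((𝟙 A ^ d).left) ↔ ((d : K) ≠ 0) :=
  ⟨fun h hd => not_etale_zpow_of_eq_zero K A hA d hd h, etale_zpow_of_ne_zero K A d⟩

end Groth.Agent.Lib.Helper22.LieGen
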