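import Mathlib.AlgebraicGeometry.Morphisms.FormallyUnramified
import Groth.Agent.Lib.Helper22.LieGenD

/-!
# Multiplication by `d` on a commutative group scheme over a base where `d` is invertible is
formally unramified (helper22)
-/

set_option autoImplicit false
universe u
open CategoryTheory AlgebraicGeometry MonObj Limits MonoidalCategory CartesianMonoidalCategory

noncomputable section
namespace Groth.Agent.Lib.Helper22.LieGen

open Groth.Agent.Lib.Helper13

section CoreBase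
variable {S : Scheme.{u}} (X : Over S) [GrpObj X]

theorem core_base (R : Type u) [CommRing R] {A' : Type u} [CommRing A'] (φ : R →+* A')
    (hφ : Function.Surjective φ) (hI : RingHom.ker φ ^ 2 = ⊥)
    (g₁ g₂ : Spec (CommRingCat.of R) ⟶ X.left)
    (h₁ : Spec.map (CommRingCat.ofHom φ) ≫ g₁ = Spec.map (CommRingCat.ofHom φ) ≫ g₂)
    (h₂ : g₁ ≫ X.hom = g₂ ≫ X.hom)
    (U : X.left.Opens) (hU : IsAffineOpen U)
    (h1U : ∀ x, (1 : Over.mk (g₁ ≫ X.hom) ⟶ X).left x ∈ U) (d : ℤ) (hd : IsUnit (d : R))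
    (hvd : ((Over.homMk g₁ rfl : Over.mk (g₁ ≫ X.hom) ⟶ X)⁻¹ *
        (Over.homMk g₂ h₂.symm : Over.mk (g₁ ≫ X.hom) ⟶ X)) ^ d = 1) : g₁ = g₂ := by
  set s := g₁ ≫ X.hom with hs
  set G₁ : Over.mk s ⟶ X := Over.homMk g₁ rfl with hG₁
  set G₂ : Over.mk s ⟶ X := Over.homMk g₂ h₂.symm with hG₂
  set v := G₁⁻¹ * G₂ with hvdef
  let i : Over.mk (Spec.map (CommRingCat.ofHom φ) ≫ s) ⟶ Over.mk s :=
    Over.homMk (Spec.map (CommRingCat.ofHom φ)) rfl
  have hi : i ≫ G₁ = i ≫ G₂ := by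
    apply Over.OverMorphism.ext
    exact h₁
  have hiv : i ≫ v = 1 := by
    rw [hvdef, MonObj.comp_mul, GrpObj.comp_inv, hi, _root_.inv_mul_cancel]
  have hv : Spec.map (CommRingCat.ofHom φ) ≫ v.left =
      Spec.map (CommRingCat.ofHom φ) ≫ (1 : Over.mk s ⟶ X).left := by
    have h3 : i ≫ v = i ≫ 1 := by rw [hiv, MonObj.comp_one]
    exact congrArg (fun t => t.left) h3
  have hv1 := eq_one_of_zpow_eq_one R s φ hφ hI U hU v h1U hv d hd hvd
  have h4 : G₁ = G₂ := inv_mul_eq_one.mp hv1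
  exact congrArg (fun t => t.left) h4

end CoreBase

end Groth.Agent.Lib.Helper22.LieGen

namespace Groth.Agent.Lib.Helper22.LieGen

section Local
variable {S : Scheme.{u}} (X : Over S) [GrpObj X] [IsCommMonObj X]

theorem eq_of_comp_zpow_eq (R S' : CommRingCat.{u}) (φ : R ⟶ S') (hφ : Function.Surjective φ)
    (hker : RingHom.ker φ.hom ^ 2 = ⊥) (g₁ g₂ : Spec R ⟶ X.left)
    (h₁ : Spec.map φ ≫ g₁ = Spec.map φ ≫ g₂) (d : ℤ) (hd : IsUnit (d : R))
    (h₂ : g₁ ≫ (𝟙 X ^ d).left = g₂ ≫ (𝟙 X ^ d).left) : g₁ = g₂ := by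
  have hw : (𝟙 X ^ d).left ≫ X.hom = X.hom := Over.w (𝟙 X ^ d)
  have h₂' : g₁ ≫ X.hom = g₂ ≫ X.hom := by
    rw [← hw, ← Category.assoc, ← Category.assoc, h₂]
  refine Scheme.hom_ext_of_forall _ _ fun x => ?_
  obtain ⟨U, hU, hxU, -⟩ := exists_isAffineOpen_mem_and_subset (X := X.left)
    (x := (1 : Over.mk (g₁ ≫ X.hom) ⟶ X).left x) (U := ⊤) trivial
  obtain ⟨_, ⟨r, rfl⟩, hxr, hrW⟩ :=
    PrimeSpectrum.isTopologicalBasis_basic_opens.exists_subset_of_mem_open
      (show x ∈ SetLike.coe ((1 : Over.mk (g₁ ≫ X.hom) ⟶ X).left ⁻¹ᵁ U) from hxU)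
      ((1 : Over.mk (g₁ ≫ X.hom) ⟶ X).left ⁻¹ᵁ U).isOpen
  let W : (Spec R).Opens := PrimeSpectrum.basicOpen r
  refine ⟨W, hxr, ?_⟩
  let R' := Localization.Away r
  let loc : R →+* R' := algebraMap R R'
  have hrange : Set.range (Spec.map (CommRingCat.ofHom loc)) = Set.range W.ι := by
    rw [Scheme.Opens.range_ι]
    exact PrimeSpectrum.localization_away_comap_range R' r
  let iso := IsOpenImmersion.isoOfRangeEq (Spec.map (CommRingCat.ofHom loc)) W.ι hrange
  have hiso : iso.hom ≫ W.ι = Spec.map (CommRingCat.ofHom loc) :=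
    IsOpenImmersion.isoOfRangeEq_hom_fac _ _ _
  rw [← cancel_epi iso.hom, ← Category.assoc, ← Category.assoc, hiso]
  -- the localized thickening
  let I' : Ideal R' := (RingHom.ker φ.hom).map loc
  let φ' : R' →+* R' ⧸ I' := Ideal.Quotient.mk I'
  have hφ' : Function.Surjective φ' := Ideal.Quotient.mk_surjective
  have hI' : RingHom.ker φ' ^ 2 = ⊥ := by
    rw [Ideal.mk_ker, ← Ideal.map_pow, hker, Ideal.map_bot]
  have hle : RingHom.ker φ.hom ≤ RingHom.ker (φ'.comp loc) := by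
    intro a ha
    rw [RingHom.mem_ker, RingHom.comp_apply, Ideal.Quotient.eq_zero_iff_mem]
    exact Ideal.mem_map_of_mem loc ha
  let ρ : S' →+* R' ⧸ I' := RingHom.liftOfSurjective φ.hom hφ ⟨φ'.comp loc, hle⟩
  have hρ : ρ.comp φ.hom = φ'.comp loc := RingHom.liftOfRightInverse_comp _ _ _ _
  have hsq : Spec.map (CommRingCat.ofHom φ') ≫ Spec.map (CommRingCat.ofHom loc) =
      Spec.map (CommRingCat.ofHom ρ) ≫ Spec.map φ := by
    rw [← Spec.map_comp, ← Spec.map_comp]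
    congr 1
    ext a
    exact (congrArg (fun t => t a) hρ).symm
  have h₁' : Spec.map (CommRingCat.ofHom φ') ≫ (Spec.map (CommRingCat.ofHom loc) ≫ g₁) =
      Spec.map (CommRingCat.ofHom φ') ≫ (Spec.map (CommRingCat.ofHom loc) ≫ g₂) := by
    rw [← Category.assoc, ← Category.assoc, hsq, Category.assoc, Category.assoc, h₁]
  have h₂'' : (Spec.map (CommRingCat.ofHom loc) ≫ g₁) ≫ X.hom =
      (Spec.map (CommRingCat.ofHom loc) ≫ g₂) ≫ X.hom := by
    rw [Category.assoc, Category.assoc, h₂']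
  have hd' : IsUnit (d : R') := by
    have := hd.map loc
    rwa [map_intCast] at this
  -- the unit section lands in `U`
  let j : Over.mk ((Spec.map (CommRingCat.ofHom loc) ≫ g₁) ≫ X.hom) ⟶ Over.mk (g₁ ≫ X.hom) :=
    Over.homMk (Spec.map (CommRingCat.ofHom loc)) (Category.assoc _ _ _).symm
  have h1U : ∀ y, (1 : Over.mk ((Spec.map (CommRingCat.ofHom loc) ≫ g₁) ≫ X.hom) ⟶ X).left y ∈ U := by
    intro y
    have hj : j ≫ (1 : Over.mk (g₁ ≫ X.hom) ⟶ X) = 1 := MonObj.comp_one _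
    have hj' := congrArg (fun t => t.left) hj
    simp only [Over.comp_left] at hj'
    rw [← hj', Scheme.Hom.comp_apply]
    apply hrW
    have : (Spec.map (CommRingCat.ofHom loc)) y ∈ Set.range (Spec.map (CommRingCat.ofHom loc)) := ⟨y, rfl⟩
    rw [hrange, Scheme.Opens.range_ι] at this
    exact this
  refine core_base X R' φ' hφ' hI' _ _ h₁' h₂'' U hU h1U d hd' ?_
  -- the power computation
  have hG : (Over.homMk (Spec.map (CommRingCat.ofHom loc) ≫ g₁) rfl :
        Over.mk ((Spec.map (CommRingCat.ofHom loc) ≫ g₁) ≫ X.hom) ⟶ X) ≫ (𝟙 X ^ d) =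
      (Over.homMk (Spec.map (CommRingCat.ofHom loc) ≫ g₂) h₂''.symm :
        Over.mk ((Spec.map (CommRingCat.ofHom loc) ≫ g₁) ≫ X.hom) ⟶ X) ≫ (𝟙 X ^ d) := by
    apply Over.OverMorphism.ext
    simp only [Over.comp_left, Over.homMk_left, Category.assoc]
    rw [h₂]
  rw [GrpObj.comp_zpow, GrpObj.comp_zpow, Category.comp_id, Category.comp_id] at hG
  letI := Hom.commGroup (G := X) (X := Over.mk ((Spec.map (CommRingCat.ofHom loc) ≫ g₁) ≫ X.hom))
  rw [mul_zpow, inv_zpow, hG, _root_.inv_mul_cancel]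

end Local

end Groth.Agent.Lib.Helper22.LieGen

namespace Groth.Agent.Lib.Helper22.LieGen

/-- on a commutative group scheme over a base on which `d` is invertible, multiplication by `d`
is formally unramified -/
theorem formallyUnramified_zpow_base {S : Scheme.{u}} (X : Over S) [GrpObj X] [IsCommMonObj X]
    (d : ℤ) (hd : IsUnit (d : Γ(S, ⊤))) : FormallyUnramified (𝟙 X ^ d).left := by
  refine FormallyUnramified.of_hom_ext _ fun R S' φ hφ hker g₁ g₂ h₁ h₂ => ?_
  have hdR : IsUnit (d : R) := by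
    let σ : Γ(S, ⊤) →+* R := ((g₁ ≫ X.hom).appTop ≫ (Scheme.ΓSpecIso R).hom).hom
    have := hd.map σ
    rwa [map_intCast] at this
  exact eq_of_comp_zpow_eq X R S' φ hφ hker g₁ g₂ h₁ d hdR h₂

end Groth.Agent.Lib.Helper22.LieGen
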