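import Mathlib
import Groth.Agent.Lib.Helper22.LieGenF
import Groth.Agent.Lib.Helper22.LieGenE
import Groth.Agent.Lib.Helper29.IsogFib3
import Groth.Agent.Lib.Helper13.AbVarDim
import Groth.Agent.Lib.Helper12.FibreDominant
import Groth.Agent.S7785
import Groth.Agent.S7784
import Groth.Agent.S7795

/-!
# Multiplication by `n` on an abelian scheme is finite étale when `n` is invertible on the base
(helper22)
-/

set_option autoImplicit false
universe u
open CategoryTheory AlgebraicGeometry MonObj Limits MonoidalCategory CartesianMonoidalCategory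

noncomputable section
namespace Groth.Agent.Lib.Helper22.LieGen

set_option backward.isDefEq.respectTransparency false in
/-- a proper locally quasi-finite endomorphism over `S` of an `S`-scheme with smooth geometrically
connected fibres is surjective -/
theorem surjective_of_lqf_fibrewise {S : Scheme.{u}} (X : Over S) [Smooth X.hom]
    [GeometricallyConnected X.hom] (f : X ⟶ X) [LocallyQuasiFinite f.left] [IsProper f.left] :
    Surjective f.left := by
  refine Groth.Agent.Lib.Helper29.IsogFib.surjective_of_fibrewise f (fun s => ?_)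
  have hsq := Groth.Agent.Lib.Helper29.IsogFib.fibre_sq (S.fromSpecResidueField s) f
  haveI : LocallyQuasiFinite ((Over.pullback (S.fromSpecResidueField s)).map f).left :=
    MorphismProperty.of_isPullback (P := @LocallyQuasiFinite) hsq inferInstance
  haveI : IsProper ((Over.pullback (S.fromSpecResidueField s)).map f).left :=
    MorphismProperty.of_isPullback (P := @IsProper) hsq inferInstance
  let Xs : Scheme.{u} := pullback X.hom (S.fromSpecResidueField s)
  let q : Xs ⟶ Spec (CommRingCat.of (S.residueField s)) :=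
    pullback.snd X.hom (S.fromSpecResidueField s)
  haveI : Smooth q := inferInstanceAs (Smooth (pullback.snd X.hom (S.fromSpecResidueField s)))
  haveI : ConnectedSpace Xs := inferInstanceAs (ConnectedSpace (X.hom.fiber s))
  haveI : IsIntegral Xs :=
    Groth.Agent.Lib.Helper13.AbVarDim.isIntegral_of_smooth_connected (S.residueField s) q
  letI ovX : Xs.Over (Spec (CommRingCat.of (S.residueField s))) := ⟨q⟩
  haveI : LocallyOfFiniteType (Xs ↘ Spec (CommRingCat.of (S.residueField s))) :=
    inferInstanceAs (LocallyOfFiniteType q)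
  obtain ⟨n, hn⟩ := Groth.Agent.Lib.Helper12.SchemeDimFT.exists_trdeg_eq (S.residueField s) Xs
    (genericPoint Xs)
  have hXn : topologicalKrullDim Xs = n :=
    Groth.Agent.Lib.Helper12.SchemeDimFT.topologicalKrullDim_eq_of_irreducible (S.residueField s)
      Xs n hn
  exact ⟨Groth.Agent.Lib.Helper22.FinSurj.surjective_of_dim_eq
    (X := Xs) (Y := Xs) ((Over.pullback (S.fromSpecResidueField s)).map f).left
    ((Over.pullback (S.fromSpecResidueField s)).map f).left.isClosedMap n hXn hXn⟩

theorem finite_etale_surjective_zpow {S : Scheme.{u}} (X : Over S) [GrpObj X] [IsProper X.hom]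
    [Flat X.hom] [LocallyOfFinitePresentation X.hom] [GeometricallyReduced X.hom]
    [GeometricallyConnected X.hom] (n : ℤ) (hn : IsUnit (n : Γ(S, ⊤))) :
    IsFinite (𝟙 X ^ n).left ∧ Etale (𝟙 X ^ n).left ∧ Surjective (𝟙 X ^ n).left := by
  haveI : IsCommMonObj X := Groth.Agent.S7785.result X
  haveI : Smooth X.hom := Groth.Agent.S7795.result X
  haveI : FormallyUnramified (𝟙 X ^ n).left := formallyUnramified_zpow_base X n hn
  haveI : LocallyOfFiniteType ((𝟙 X ^ n).left ≫ X.hom) := by
    rw [Over.w (𝟙 X ^ n)]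
    infer_instance
  haveI : LocallyOfFiniteType (𝟙 X ^ n).left := locallyOfFiniteType_of_comp (𝟙 X ^ n).left X.hom
  haveI : IsProper ((𝟙 X ^ n).left ≫ X.hom) := by
    rw [Over.w (𝟙 X ^ n)]
    infer_instance
  haveI : IsProper (𝟙 X ^ n).left := IsProper.of_comp (𝟙 X ^ n).left X.hom
  haveI : LocallyQuasiFinite (𝟙 X ^ n).left :=
    locallyQuasiFinite_of_formallyUnramified (𝟙 X ^ n).left
  have hfin : IsFinite (𝟙 X ^ n).left := IsFinite.of_isProper_of_locallyQuasiFinite _
  have hη : η[X] ≫ (𝟙 X ^ n) = η[X] := by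
    have h1 : η[X] = (1 : 𝟙_ (Over S) ⟶ X) := by
      rw [Hom.one_def, toUnit_unit, Category.id_comp]
    rw [GrpObj.comp_zpow, Category.comp_id, h1, one_zpow]
  haveI : IsMonHom (𝟙 X ^ n) := Groth.Agent.S7784.result X X (𝟙 X ^ n) hη
  haveI : Surjective (𝟙 X ^ n).left := surjective_of_lqf_fibrewise X (𝟙 X ^ n)
  haveI : Flat (𝟙 X ^ n).left :=
    (Groth.Agent.Lib.Helper29.IsogFib.main19659 X X (𝟙 X ^ n)).mpr inferInstance
  haveI : LocallyOfFinitePresentation ((𝟙 X ^ n).left ≫ X.hom) := by
    rw [Over.w (𝟙 X ^ n)]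
    infer_instance
  haveI : LocallyOfFinitePresentation (𝟙 X ^ n).left :=
    Groth.Agent.Lib.Helper12.FibreDominant.locallyOfFinitePresentation_of_comp (𝟙 X ^ n).left X.hom
  exact ⟨hfin, Etale.of_formallyUnramified_of_flat _, inferInstance⟩

theorem finite_etale_zpow {S : Scheme.{u}} (X : Over S) [GrpObj X] [IsProper X.hom] [Flat X.hom]
    [LocallyOfFinitePresentation X.hom] [GeometricallyReduced X.hom]
    [GeometricallyConnected X.hom] (n : ℤ) (hn : IsUnit (n : Γ(S, ⊤))) :
    IsFinite (𝟙 X ^ n).left ∧ Etale (𝟙 X ^ n).left :=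
  ⟨(finite_etale_surjective_zpow X n hn).1, (finite_etale_surjective_zpow X n hn).2.1⟩

/-- the Kummer sequence is exact on the right for the étale topology -/
theorem exists_etale_cover_zpow {S : Scheme.{u}} (A : Over S) [GrpObj A] [IsProper A.hom]
    [Flat A.hom] [LocallyOfFinitePresentation A.hom] [GeometricallyReduced A.hom]
    [GeometricallyConnected A.hom] (m : ℤ) (hm : IsUnit (m : Γ(S, ⊤))) (T : Over S) (α : T ⟶ A) :
    ∃ (T' : Over S) (φ : T' ⟶ T) (β : T' ⟶ A),
      Etale φ.left ∧ Surjective φ.left ∧ β ≫ (𝟙 A ^ m) = φ ≫ α := by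
  obtain ⟨-, het, hsurj⟩ := finite_etale_surjective_zpow A m hm
  haveI := het
  haveI := hsurj
  have hw : pullback.snd α.left (𝟙 A ^ m).left ≫ A.hom =
      pullback.fst α.left (𝟙 A ^ m).left ≫ T.hom := by
    rw [← Over.w (𝟙 A ^ m), ← Category.assoc, ← pullback.condition, Category.assoc, Over.w α]
  refine ⟨Over.mk (pullback.fst α.left (𝟙 A ^ m).left ≫ T.hom),
    Over.homMk (pullback.fst α.left (𝟙 A ^ m).left) rfl,
    Over.homMk (pullback.snd α.left (𝟙 A ^ m).left) hw, ?_, ?_, ?_⟩
  · exact inferInstanceAs (Etale (pullback.fst α.left (𝟙 A ^ m).left))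
  · exact inferInstanceAs (Surjective (pullback.fst α.left (𝟙 A ^ m).left))
  · apply Over.OverMorphism.ext
    exact pullback.condition.symm

end Groth.Agent.Lib.Helper22.LieGen
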