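import Mathlib

/-!
# A cotangent-space lemma at a rational point with principal maximal ideal (helper22)
-/

set_option autoImplicit false
universe u

namespace Groth.Agent.Lib.Helper22.LieGen

/-- If the local ring of `C` at the kernel `m` of a retraction `a : C → k` of `j : k → C` has a
principal maximal ideal, then `m / m²` is spanned by one element over `k`. -/
theorem exists_mul_sub_mem_sq {k C O : Type u} [Field k] [CommRing C] [CommRing O]
    (j : k →+* C) (a : C →+* k) (haj : ∀ l, a (j l) = l) [Algebra C O]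
    (P : Ideal C) [P.IsPrime] (hP : P = RingHom.ker a) [IsLocalization.AtPrime O P] [IsLocalRing O]
    (hprinc : ∃ t : O, IsLocalRing.maximalIdeal O = Ideal.span {t}) :
    ∃ t₁ ∈ RingHom.ker a, ∀ x ∈ RingHom.ker a, ∃ l : k, x - j l * t₁ ∈ RingHom.ker a ^ 2 := by
  obtain ⟨t, ht⟩ := hprinc
  have hmemP : ∀ c : C, c ∈ P ↔ a c = 0 := by
    intro c
    rw [hP, RingHom.mem_ker]
  obtain ⟨t₀, s, hts⟩ := IsLocalization.exists_mk'_eq P.primeCompl t
  have hspec : t * algebraMap C O s = algebraMap C O t₀ := by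
    rw [← hts]
    exact IsLocalization.mk'_spec O t₀ s
  have hunit : IsUnit (algebraMap C O s) := IsLocalization.map_units O s
  have hspan : IsLocalRing.maximalIdeal O = Ideal.span {algebraMap C O t₀} := by
    rw [ht, ← hspec, Ideal.span_singleton_mul_right_unit hunit]
  have hcomap : (IsLocalRing.maximalIdeal O).comap (algebraMap C O) = P :=
    IsLocalization.AtPrime.comap_maximalIdeal O P
  have hmap : P.map (algebraMap C O) = IsLocalRing.maximalIdeal O :=
    IsLocalization.AtPrime.map_eq_maximalIdeal P O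
  have ht₀ : t₀ ∈ RingHom.ker a := by
    rw [RingHom.mem_ker, ← hmemP, ← hcomap, Ideal.mem_comap, hspan]
    exact Ideal.mem_span_singleton_self _
  refine ⟨t₀, ht₀, fun x hx => ?_⟩
  have hxm : algebraMap C O x ∈ IsLocalRing.maximalIdeal O := by
    rw [← hmap]
    exact Ideal.mem_map_of_mem _ ((hmemP x).mpr (RingHom.mem_ker.mp hx))
  rw [hspan, Ideal.mem_span_singleton'] at hxm
  obtain ⟨y, hy⟩ := hxm
  obtain ⟨y₁, s₁, hys⟩ := IsLocalization.exists_mk'_eq P.primeCompl y
  have hy1 : y * algebraMap C O s₁ = algebraMap C O y₁ := by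
    rw [← hys]
    exact IsLocalization.mk'_spec O y₁ s₁
  have heq : algebraMap C O (x * s₁) = algebraMap C O (y₁ * t₀) := by
    rw [map_mul, map_mul, ← hy, ← hy1]
    ring
  obtain ⟨s₂, hs₂⟩ := (IsLocalization.eq_iff_exists P.primeCompl O).mp heq
  have hs₁ : a (s₁ : C) ≠ 0 := by
    intro h
    exact s₁.2 ((hmemP _).mpr h)
  have hs₂' : a (s₂ : C) ≠ 0 := by
    intro h
    exact s₂.2 ((hmemP _).mpr h)
  set α : k := a ((s₂ : C) * (s₁ : C)) with hα
  have hα0 : α ≠ 0 := by
    rw [hα, map_mul]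
    exact mul_ne_zero hs₂' hs₁
  set β : k := a ((s₂ : C) * y₁) with hβ
  have hu : (s₂ : C) * (s₁ : C) - j α ∈ RingHom.ker a := by
    rw [RingHom.mem_ker, map_sub, haj, sub_self]
  have hw : (s₂ : C) * y₁ - j β ∈ RingHom.ker a := by
    rw [RingHom.mem_ker, map_sub, haj, sub_self]
  have h1 : ((s₂ : C) * (s₁ : C) - j α) * x ∈ RingHom.ker a ^ 2 := by
    rw [pow_two]
    exact Ideal.mul_mem_mul hu hx
  have h2 : ((s₂ : C) * y₁ - j β) * t₀ ∈ RingHom.ker a ^ 2 := by
    rw [pow_two]
    exact Ideal.mul_mem_mul hw ht₀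
  have h3 : j α * x - j β * t₀ ∈ RingHom.ker a ^ 2 := by
    have : j α * x - j β * t₀ =
        ((s₂ : C) * y₁ - j β) * t₀ - ((s₂ : C) * (s₁ : C) - j α) * x := by
      linear_combination hs₂
    rw [this]
    exact Ideal.sub_mem _ h2 h1
  refine ⟨α⁻¹ * β, ?_⟩
  have h4 : x - j (α⁻¹ * β) * t₀ = j α⁻¹ * (j α * x - j β * t₀) := by
    have hjj : j α⁻¹ * j α = 1 := by rw [← map_mul, inv_mul_cancel₀ hα0, map_one]
    rw [map_mul]
    linear_combination (-1 : C) * x * hjj
  rw [h4]
  exact Ideal.mul_mem_left _ _ h3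

end Groth.Agent.Lib.Helper22.LieGen
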