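import Mathlib
import Groth.Agent.Lib.Helper22.LieGenD

/-!
# Dictionary between infinitesimal points of a group scheme over a field near the unit and ring maps
(helper22)
-/

set_option autoImplicit false
universe u
open CategoryTheory AlgebraicGeometry MonObj Limits MonoidalCategory CartesianMonoidalCategory

noncomputable section
namespace Groth.Agent.Lib.Helper22.LieGen

open Groth.Agent.Lib.Helper13

/-- ring map of a morphism from an affine scheme landing in an affine open -/
theorem exists_ringHom_of_range {R : CommRingCat.{u}} {X : Scheme.{u}} {U : X.Opens}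
    (hU : IsAffineOpen U) (g : Spec R ⟶ X) (hg : ∀ x, g x ∈ U) :
    ∃ ψ : Γ(X, U) ⟶ R, g = Spec.map ψ ≫ hU.fromSpec := by
  have hr : Set.range g ⊆ Set.range hU.fromSpec := by
    rw [hU.range_fromSpec]
    rintro _ ⟨x, rfl⟩
    exact hg x
  refine ⟨Spec.preimage (IsOpenImmersion.lift hU.fromSpec g hr), ?_⟩
  rw [Spec.map_preimage, IsOpenImmersion.lift_fac]

theorem specMap_eq_iff {R : CommRingCat.{u}} {X : Scheme.{u}} {U : X.Opens}
    (hU : IsAffineOpen U) (ψ₁ ψ₂ : Γ(X, U) ⟶ R) :
    Spec.map ψ₁ ≫ hU.fromSpec = Spec.map ψ₂ ≫ hU.fromSpec ↔ ψ₁ = ψ₂ := by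
  constructor
  · intro h
    rw [cancel_mono] at h
    exact Spec.map_injective h
  · rintro rfl
    rfl

section Dict
variable (K : Type u) [Field K] (E : Over (Spec (CommRingCat.of K))) [GrpObj E]
  {U : E.left.Opens} (hU : IsAffineOpen U)

/-- the predicate "`v` is trivial modulo `ker φ`" -/
def IsInf {R : Type u} [CommRing R] {A' : Type u} [CommRing A'] (φ : R →+* A')
    (s : Spec (CommRingCat.of R) ⟶ Spec (CommRingCat.of K)) (v : Over.mk s ⟶ E) : Prop :=
  Spec.map (CommRingCat.ofHom φ) ≫ v.left =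
    Spec.map (CommRingCat.ofHom φ) ≫ (1 : Over.mk s ⟶ E).left

theorem one_left (T : Over (Spec (CommRingCat.of K))) :
    (1 : T ⟶ E).left = T.hom ≫ η[E].left := by
  have h1 : (1 : T ⟶ E) = toUnit T ≫ η[E] := Hom.one_def
  rw [h1, Over.comp_left]
  congr 1

include hU in
theorem exists_aug (he : η[E].left (IsLocalRing.closedPoint K) ∈ U) :
    ∃ (a : Γ(E.left, U) ⟶ CommRingCat.of K) (j : CommRingCat.of K ⟶ Γ(E.left, U)),
      η[E].left = Spec.map a ≫ hU.fromSpec ∧ Spec.map j = hU.fromSpec ≫ E.hom ∧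
      j ≫ a = 𝟙 _ := by
  haveI : Subsingleton ↥(Spec (CommRingCat.of K)) := by
    change Subsingleton (PrimeSpectrum K)
    infer_instance
  obtain ⟨a, ha⟩ := exists_ringHom_of_range (R := CommRingCat.of K) hU η[E].left (fun x => by
    have : x = IsLocalRing.closedPoint K := Subsingleton.elim (α := ↥(Spec (CommRingCat.of K))) _ _
    rw [this]
    exact he)
  refine ⟨a, Spec.preimage (hU.fromSpec ≫ E.hom), ha, Spec.map_preimage _, ?_⟩
  apply Spec.map_injective
  rw [Spec.map_comp, Spec.map_preimage, ← Category.assoc, ← ha, Spec.map_id]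
  exact Over.w η[E]

end Dict

end Groth.Agent.Lib.Helper22.LieGen

namespace Groth.Agent.Lib.Helper22.LieGen

open Groth.Agent.Lib.Helper13

section Dict2
variable (K : Type u) [Field K] (E : Over (Spec (CommRingCat.of K))) [GrpObj E]
  {U : E.left.Opens} (hU : IsAffineOpen U)
  (a : Γ(E.left, U) ⟶ CommRingCat.of K) (j : CommRingCat.of K ⟶ Γ(E.left, U))
  (ha : η[E].left = Spec.map a ≫ hU.fromSpec) (hj : Spec.map j = hU.fromSpec ≫ E.hom)

include ha in
theorem one_left_eq {R : Type u} [CommRing R]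
    (s : Spec (CommRingCat.of R) ⟶ Spec (CommRingCat.of K)) :
    (1 : Over.mk s ⟶ E).left = Spec.map (a ≫ Spec.preimage s) ≫ hU.fromSpec := by
  rw [one_left, Spec.map_comp, Spec.map_preimage, Category.assoc, ← ha]
  rfl

include ha hj in
theorem dict {R : Type u} [CommRing R] {A' : Type u} [CommRing A'] (φ : R →+* A')
    (hφ : Function.Surjective φ) (hI : RingHom.ker φ ^ 2 = ⊥)
    (s : Spec (CommRingCat.of R) ⟶ Spec (CommRingCat.of K)) (v : Over.mk s ⟶ E)
    (hv : IsInf K E φ s v) :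
    ∃ ψ : Γ(E.left, U) ⟶ CommRingCat.of R, v.left = Spec.map ψ ≫ hU.fromSpec ∧
      (∀ c, a.hom c = 0 → ψ.hom c ∈ RingHom.ker φ) ∧ j ≫ ψ = Spec.preimage s := by
  have h1 := one_left_eq K E hU a ha s
  have h1U : ∀ x, (1 : Over.mk s ⟶ E).left x ∈ U := by
    intro x
    rw [h1, Scheme.Hom.comp_apply]
    have : hU.fromSpec ((Spec.map (a ≫ Spec.preimage s)) x) ∈ Set.range hU.fromSpec := ⟨_, rfl⟩
    rw [hU.range_fromSpec] at this
    exact this
  have hvU : ∀ x, v.left x ∈ U := by
    intro x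
    obtain ⟨y, rfl⟩ := specMap_surjective_of_sq_zero R φ hφ hI x
    rw [← Scheme.Hom.comp_apply, hv, Scheme.Hom.comp_apply]
    exact h1U _
  obtain ⟨ψ, hψ⟩ := exists_ringHom_of_range hU v.left hvU
  refine ⟨ψ, hψ, ?_, ?_⟩
  · have h2 : ψ ≫ CommRingCat.ofHom φ = (a ≫ Spec.preimage s) ≫ CommRingCat.ofHom φ := by
      rw [← specMap_eq_iff hU, Spec.map_comp, Spec.map_comp, Category.assoc, Category.assoc,
        ← hψ, ← h1]
      exact hv
    intro c hc
    rw [RingHom.mem_ker]
    have h3 := congrArg (fun t => t.hom c) h2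
    simp only [CommRingCat.hom_comp, CommRingCat.hom_ofHom, RingHom.comp_apply] at h3
    rw [h3, hc, map_zero, map_zero]
  · apply Spec.map_injective
    rw [Spec.map_comp, hj, ← Category.assoc, ← hψ, Spec.map_preimage]
    exact Over.w v

end Dict2

end Groth.Agent.Lib.Helper22.LieGen
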