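import Mathlib
import Groth.Agent.Lib.Helper22.LieGenH
import Groth.Agent.Lib.Helper22.LieGenI

set_option autoImplicit false
universe u
open CategoryTheory AlgebraicGeometry MonObj Limits MonoidalCategory CartesianMonoidalCategory

noncomputable section
namespace Groth.Agent.Lib.Helper22.LieGen

section KillAll
variable (K : Type u) [Field K] (E₁ E₂ : Over (Spec (CommRingCat.of K))) [GrpObj E₁] [GrpObj E₂]
  (χ : E₁ ⟶ E₂)
  {U₁ : E₁.left.Opens} (hU₁ : IsAffineOpen U₁) {U₂ : E₂.left.Opens} (hU₂ : IsAffineOpen U₂)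
  (hle : U₁ ≤ χ.left ⁻¹ᵁ U₂)
  (a₁ : Γ(E₁.left, U₁) ⟶ CommRingCat.of K) (j₁ : CommRingCat.of K ⟶ Γ(E₁.left, U₁))
  (ha₁ : η[E₁].left = Spec.map a₁ ≫ hU₁.fromSpec) (hj₁ : Spec.map j₁ = hU₁.fromSpec ≫ E₁.hom)
  (a₂ : Γ(E₂.left, U₂) ⟶ CommRingCat.of K) (j₂ : CommRingCat.of K ⟶ Γ(E₂.left, U₂))
  (ha₂ : η[E₂].left = Spec.map a₂ ≫ hU₂.fromSpec) (hj₂ : Spec.map j₂ = hU₂.fromSpec ≫ E₂.hom)

include ha₁ ha₂ in
theorem appLE_comp_aug (hχ : η[E₁] ≫ χ = η[E₂]) : χ.left.appLE U₂ U₁ hle ≫ a₁ = a₂ := by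
  rw [← specMap_eq_iff hU₂, Spec.map_comp, Category.assoc,
    hU₂.SpecMap_appLE_fromSpec χ.left hU₁ hle, ← Category.assoc, ← ha₁, ← ha₂, ← hχ]
  rfl

include hj₁ hj₂ in
theorem coaug_comp_appLE : j₂ ≫ χ.left.appLE U₂ U₁ hle = j₁ := by
  apply Spec.map_injective
  rw [Spec.map_comp, hj₂, ← Category.assoc, hU₂.SpecMap_appLE_fromSpec χ.left hU₁ hle,
    Category.assoc, Over.w χ, hj₁]

include ha₂ in
/-- `v ≫ χ = 1` in terms of ring maps -/
theorem comp_eq_one_iff {R : Type u} [CommRing R]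
    (s : Spec (CommRingCat.of R) ⟶ Spec (CommRingCat.of K)) (v : Over.mk s ⟶ E₁)
    (ψ : Γ(E₁.left, U₁) ⟶ CommRingCat.of R) (hψ : v.left = Spec.map ψ ≫ hU₁.fromSpec) :
    v ≫ χ = 1 ↔ χ.left.appLE U₂ U₁ hle ≫ ψ = a₂ ≫ Spec.preimage s := by
  have h1 := one_left_eq K E₂ hU₂ a₂ ha₂ s
  have h2 : (v ≫ χ).left = Spec.map (χ.left.appLE U₂ U₁ hle ≫ ψ) ≫ hU₂.fromSpec := by
    rw [Over.comp_left, hψ, Category.assoc, ← hU₂.SpecMap_appLE_fromSpec χ.left hU₁ hle,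
      ← Category.assoc, ← Spec.map_comp]
  constructor
  · intro h
    rw [← specMap_eq_iff hU₂, ← h2, ← h1, h]
  · intro h
    apply Over.OverMorphism.ext
    rw [h2, h1, h]

include ha₁ in
theorem eq_one_iff {R : Type u} [CommRing R]
    (s : Spec (CommRingCat.of R) ⟶ Spec (CommRingCat.of K)) (v : Over.mk s ⟶ E₁)
    (ψ : Γ(E₁.left, U₁) ⟶ CommRingCat.of R) (hψ : v.left = Spec.map ψ ≫ hU₁.fromSpec) :
    v = 1 ↔ ψ = a₁ ≫ Spec.preimage s := by
  have h1 := one_left_eq K E₁ hU₁ a₁ ha₁ s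
  constructor
  · intro h
    rw [← specMap_eq_iff hU₁, ← hψ, ← h1, h]
  · intro h
    apply Over.OverMorphism.ext
    rw [hψ, h1, h]


theorem asIdeal_specMap_closedPoint (C : CommRingCat.{u}) (a : C ⟶ CommRingCat.of K) :
    (Spec.map a (IsLocalRing.closedPoint K)).asIdeal = RingHom.ker a.hom := by
  ext c
  rw [RingHom.mem_ker]
  change a.hom c ∈ IsLocalRing.maximalIdeal K ↔ _
  rw [IsLocalRing.maximalIdeal_eq_bot, Ideal.mem_bot]

include hU₁ ha₁ in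
/-- the cotangent space at the unit is spanned by one element when the local ring at the unit has
principal maximal ideal -/
theorem exists_cotangent_gen (haj₁ : j₁ ≫ a₁ = 𝟙 _)
    (hprinc : ∃ t : E₁.left.presheaf.stalk (η[E₁].left (IsLocalRing.closedPoint K)),
      IsLocalRing.maximalIdeal (E₁.left.presheaf.stalk (η[E₁].left (IsLocalRing.closedPoint K))) =
        Ideal.span {t}) :
    ∃ t₁ ∈ RingHom.ker a₁.hom, ∀ x ∈ RingHom.ker a₁.hom,
      ∃ l : K, x - j₁.hom l * t₁ ∈ RingHom.ker a₁.hom ^ 2 := by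
  set y : PrimeSpectrum Γ(E₁.left, U₁) := Spec.map a₁ (IsLocalRing.closedPoint K) with hy
  have hxy : η[E₁].left (IsLocalRing.closedPoint K) = hU₁.fromSpec y := by
    rw [ha₁]
    rfl
  have hyU : hU₁.fromSpec y ∈ U₁ := by
    have : hU₁.fromSpec y ∈ Set.range hU₁.fromSpec := ⟨_, rfl⟩
    rw [hU₁.range_fromSpec] at this
    exact this
  have hprinc' : ∃ t : E₁.left.presheaf.stalk (hU₁.fromSpec y),
      IsLocalRing.maximalIdeal (E₁.left.presheaf.stalk (hU₁.fromSpec y)) = Ideal.span {t} := by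
    rw [← hxy]
    exact hprinc
  letI : Algebra Γ(E₁.left, U₁) (E₁.left.presheaf.stalk (hU₁.fromSpec y)) :=
    TopCat.Presheaf.algebra_section_stalk E₁.left.presheaf ⟨hU₁.fromSpec y, hyU⟩
  haveI : IsLocalization.AtPrime (E₁.left.presheaf.stalk (hU₁.fromSpec y)) y.asIdeal :=
    hU₁.isLocalization_stalk' y hyU
  have haj : ∀ l, a₁.hom (j₁.hom l) = l := by
    intro l
    have := congrArg (fun t => t.hom l) haj₁
    simpa using this
  exact exists_mul_sub_mem_sq (k := K) (C := Γ(E₁.left, U₁))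
    (O := E₁.left.presheaf.stalk (hU₁.fromSpec y)) j₁.hom a₁.hom haj y.asIdeal
    (asIdeal_specMap_closedPoint K _ a₁) hprinc'

end KillAll

end Groth.Agent.Lib.Helper22.LieGen

namespace Groth.Agent.Lib.Helper22.LieGen

section KillAll2
variable (K : Type u) [Field K] (E₁ E₂ : Over (Spec (CommRingCat.of K))) [GrpObj E₁] [GrpObj E₂]
  (χ : E₁ ⟶ E₂)

/-- If the local ring of `E₁` at the unit has principal maximal ideal and a unit-preserving map
`χ` kills one non-trivial infinitesimal point, then it kills all of them. -/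
theorem kills_all (hχ : η[E₁] ≫ χ = η[E₂])
    (hprinc : ∃ t : E₁.left.presheaf.stalk (η[E₁].left (IsLocalRing.closedPoint K)),
      IsLocalRing.maximalIdeal (E₁.left.presheaf.stalk (η[E₁].left (IsLocalRing.closedPoint K))) =
        Ideal.span {t})
    {R₀ : Type u} [CommRing R₀] {A₀ : Type u} [CommRing A₀] (φ₀ : R₀ →+* A₀)
    (hφ₀ : Function.Surjective φ₀) (hI₀ : RingHom.ker φ₀ ^ 2 = ⊥)
    (s₀ : Spec (CommRingCat.of R₀) ⟶ Spec (CommRingCat.of K)) (v₀ : Over.mk s₀ ⟶ E₁)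
    (hv₀ : IsInf K E₁ φ₀ s₀ v₀) (hk₀ : v₀ ≫ χ = 1) (hne : v₀ ≠ 1)
    {R : Type u} [CommRing R] {A' : Type u} [CommRing A'] (φ : R →+* A')
    (hφ : Function.Surjective φ) (hI : RingHom.ker φ ^ 2 = ⊥)
    (s : Spec (CommRingCat.of R) ⟶ Spec (CommRingCat.of K)) (v : Over.mk s ⟶ E₁)
    (hv : IsInf K E₁ φ s v) : v ≫ χ = 1 := by
  haveI : Subsingleton ↥(Spec (CommRingCat.of K)) := by
    change Subsingleton (PrimeSpectrum K)
    infer_instance
  have he : χ.left (η[E₁].left (IsLocalRing.closedPoint K)) =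
      η[E₂].left (IsLocalRing.closedPoint K) := by
    rw [← hχ]
    rfl
  obtain ⟨U₂, hU₂, he₂U, -⟩ := exists_isAffineOpen_mem_and_subset (X := E₂.left)
    (x := η[E₂].left (IsLocalRing.closedPoint K)) (U := ⊤) trivial
  obtain ⟨U₁, hU₁, he₁U, hle⟩ := exists_isAffineOpen_mem_and_subset (X := E₁.left)
    (x := η[E₁].left (IsLocalRing.closedPoint K)) (U := χ.left ⁻¹ᵁ U₂) (by
      change χ.left (η[E₁].left (IsLocalRing.closedPoint K)) ∈ U₂
      rw [he]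
      exact he₂U)
  obtain ⟨a₁, j₁, ha₁, hj₁, haj₁⟩ := exists_aug K E₁ hU₁ he₁U
  obtain ⟨a₂, j₂, ha₂, hj₂, haj₂⟩ := exists_aug K E₂ hU₂ he₂U
  have hca := appLE_comp_aug K E₁ E₂ χ hU₁ hU₂ hle a₁ ha₁ a₂ ha₂ hχ
  have hjc := coaug_comp_appLE K E₁ E₂ χ hU₁ hU₂ hle j₁ hj₁ j₂ hj₂
  obtain ⟨t₁, ht₁, hgen⟩ := exists_cotangent_gen K E₁ hU₁ a₁ j₁ ha₁ haj₁ hprinc
  set c := χ.left.appLE U₂ U₁ hle with hc
  have haj₂' : ∀ l, a₂.hom (j₂.hom l) = l := by
    intro l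
    have := congrArg (fun t => t.hom l) haj₂
    simpa using this
  have haj₁' : ∀ l, a₁.hom (j₁.hom l) = l := by
    intro l
    have := congrArg (fun t => t.hom l) haj₁
    simpa using this
  have hca' : ∀ y, a₁.hom (c.hom y) = a₂.hom y := by
    intro y
    have := congrArg (fun t => t.hom y) hca
    simpa using this
  have hjc' : ∀ l, c.hom (j₂.hom l) = j₁.hom l := by
    intro l
    have := congrArg (fun t => t.hom l) hjc
    simpa using this
  -- the point v₀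
  obtain ⟨ψ₀, hψ₀, hψ₀I, hψ₀j⟩ := dict K E₁ hU₁ a₁ j₁ ha₁ hj₁ φ₀ hφ₀ hI₀ s₀ v₀ hv₀
  have hψ₀j' : ∀ l, ψ₀.hom (j₁.hom l) = (Spec.preimage s₀).hom l := by
    intro l
    have := congrArg (fun t => t.hom l) hψ₀j
    simpa using this
  have hk₀' := (comp_eq_one_iff K E₁ E₂ χ hU₁ hU₂ hle a₂ ha₂ s₀ v₀ ψ₀ hψ₀).mp hk₀
  have hk₀'' : ∀ y, ψ₀.hom (c.hom y) = (Spec.preimage s₀).hom (a₂.hom y) := by
    intro y
    have := congrArg (fun t => t.hom y) hk₀'
    simpa using this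
  have hsq₀ : ∀ z ∈ RingHom.ker a₁.hom ^ 2, ψ₀.hom z = 0 := by
    intro z hz
    have h1 : ψ₀.hom z ∈ (RingHom.ker φ₀) ^ 2 := by
      have h2 : (RingHom.ker a₁.hom ^ 2).map ψ₀.hom ≤ RingHom.ker φ₀ ^ 2 := by
        rw [Ideal.map_pow]
        apply Ideal.pow_right_mono
        rw [Ideal.map_le_iff_le_comap]
        intro w hw
        exact hψ₀I w (RingHom.mem_ker.mp hw)
      exact h2 (Ideal.mem_map_of_mem _ hz)
    rw [hI₀, Ideal.mem_bot] at h1
    exact h1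
  have ht₁0 : ψ₀.hom t₁ ≠ 0 := by
    intro h0
    apply hne
    rw [eq_one_iff K E₁ hU₁ a₁ ha₁ s₀ v₀ ψ₀ hψ₀]
    ext x
    simp only [CommRingCat.hom_comp, RingHom.comp_apply]
    have hx : x - j₁.hom (a₁.hom x) ∈ RingHom.ker a₁.hom := by
      rw [RingHom.mem_ker, map_sub, haj₁', sub_self]
    obtain ⟨l, hl⟩ := hgen _ hx
    have h3 := hsq₀ _ hl
    rw [map_sub, map_sub, map_mul, h0, mul_zero, sub_zero, sub_eq_zero, hψ₀j'] at h3
    exact h3
  -- `c` maps the augmentation ideal into the square of the augmentation ideal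
  have hcsq : ∀ y ∈ RingHom.ker a₂.hom, c.hom y ∈ RingHom.ker a₁.hom ^ 2 := by
    intro y hy
    have hcy : c.hom y ∈ RingHom.ker a₁.hom := by
      rw [RingHom.mem_ker, hca']
      exact hy
    obtain ⟨l, hl⟩ := hgen _ hcy
    have h3 := hsq₀ _ hl
    rw [map_sub, map_mul, hk₀'', RingHom.mem_ker.mp hy, map_zero, zero_sub, neg_eq_zero,
      hψ₀j'] at h3
    by_cases hl0 : l = 0
    · rw [hl0, map_zero, zero_mul, sub_zero] at hl
      exact hl
    · exfalso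
      have hu : IsUnit ((Spec.preimage s₀).hom l) := (IsUnit.mk0 l hl0).map _
      exact ht₁0 ((hu.mul_right_eq_zero).mp h3)
  -- the point v
  obtain ⟨ψ, hψ, hψI, hψj⟩ := dict K E₁ hU₁ a₁ j₁ ha₁ hj₁ φ hφ hI s v hv
  have hψj' : ∀ l, ψ.hom (j₁.hom l) = (Spec.preimage s).hom l := by
    intro l
    have := congrArg (fun t => t.hom l) hψj
    simpa using this
  have hsq : ∀ z ∈ RingHom.ker a₁.hom ^ 2, ψ.hom z = 0 := by
    intro z hz
    have h1 : ψ.hom z ∈ (RingHom.ker φ) ^ 2 := by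
      have h2 : (RingHom.ker a₁.hom ^ 2).map ψ.hom ≤ RingHom.ker φ ^ 2 := by
        rw [Ideal.map_pow]
        apply Ideal.pow_right_mono
        rw [Ideal.map_le_iff_le_comap]
        intro w hw
        exact hψI w (RingHom.mem_ker.mp hw)
      exact h2 (Ideal.mem_map_of_mem _ hz)
    rw [hI, Ideal.mem_bot] at h1
    exact h1
  rw [comp_eq_one_iff K E₁ E₂ χ hU₁ hU₂ hle a₂ ha₂ s v ψ hψ]
  ext y
  simp only [CommRingCat.hom_comp, RingHom.comp_apply]
  have hy : y - j₂.hom (a₂.hom y) ∈ RingHom.ker a₂.hom := by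
    rw [RingHom.mem_ker, map_sub, haj₂', sub_self]
  have h4 := hsq _ (hcsq _ hy)
  rw [map_sub, map_sub, sub_eq_zero, hjc', hψj'] at h4
  exact h4

end KillAll2

end Groth.Agent.Lib.Helper22.LieGen
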