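import Mathlib
import Groth.Agent.Lib.Helper22.LieGenJ
import Groth.Agent.Lib.Helper22.LieGenE
import Groth.Agent.Lib.Helper22.GrpSmoothDim

/-!
# Sum of a separable isogeny and a non-étale homomorphism of elliptic curves (helper22)
-/

set_option autoImplicit false
universe u
open CategoryTheory AlgebraicGeometry MonObj Limits MonoidalCategory CartesianMonoidalCategory

noncomputable section
namespace Groth.Agent.Lib.Helper22.LieGen

section StepAC
variable (K : Type u) [Field K] (E₁ E₂ : Over (Spec (CommRingCat.of K))) [GrpObj E₁] [GrpObj E₂]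

/-- A homomorphism with trivial kernel on infinitesimal points is formally unramified. -/
theorem formallyUnramified_of_forall_inf (χ : E₁ ⟶ E₂) [IsMonHom χ]
    (h : ∀ (R : Type u) [CommRing R] (A' : Type u) [CommRing A'] (φ : R →+* A'),
      Function.Surjective φ → RingHom.ker φ ^ 2 = ⊥ →
      ∀ (s : Spec (CommRingCat.of R) ⟶ Spec (CommRingCat.of K)) (v : Over.mk s ⟶ E₁),
        IsInf K E₁ φ s v → v ≫ χ = 1 → v = 1) :
    FormallyUnramified χ.left := by
  refine FormallyUnramified.of_hom_ext _ fun R S' φ hφ hker g₁ g₂ h₁ h₂ => ?_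
  have h₂' : g₁ ≫ E₁.hom = g₂ ≫ E₁.hom := by
    have hw : χ.left ≫ E₂.hom = E₁.hom := Over.w χ
    rw [← hw, ← Category.assoc, ← Category.assoc, h₂]
  obtain ⟨hv, -, -⟩ := core K E₁ (R := ↑R) (φ := φ.hom) hφ hker g₁ g₂ h₁ h₂' 0
  have hG : (Over.homMk g₁ rfl : Over.mk (g₁ ≫ E₁.hom) ⟶ E₁) ≫ χ =
      (Over.homMk g₂ h₂'.symm : Over.mk (g₁ ≫ E₁.hom) ⟶ E₁) ≫ χ :=
    Over.OverMorphism.ext h₂
  have h3 : ((Over.homMk g₁ rfl : Over.mk (g₁ ≫ E₁.hom) ⟶ E₁)⁻¹ *
        (Over.homMk g₂ h₂'.symm : Over.mk (g₁ ≫ E₁.hom) ⟶ E₁)) ≫ χ = 1 := by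
    rw [MonObj.mul_comp, GrpObj.inv_comp, hG, _root_.inv_mul_cancel]
  have h5 := h ↑R ↑S' φ.hom hφ hker (g₁ ≫ E₁.hom) _ hv h3
  have h6 : (Over.homMk g₁ rfl : Over.mk (g₁ ≫ E₁.hom) ⟶ E₁) =
      (Over.homMk g₂ h₂'.symm : Over.mk (g₁ ≫ E₁.hom) ⟶ E₁) := inv_mul_eq_one.mp h5
  exact congrArg (fun t => t.left) h6

/-- If `φ` is formally unramified and the homomorphism `φ'` kills all infinitesimal points, then
`φ * φ'` is formally unramified. -/
theorem formallyUnramified_mul (φ φ' : E₁ ⟶ E₂) [IsMonHom φ'] [FormallyUnramified φ.left]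
    (h : ∀ (R : Type u) [CommRing R] (A' : Type u) [CommRing A'] (φR : R →+* A'),
      Function.Surjective φR → RingHom.ker φR ^ 2 = ⊥ →
      ∀ (s : Spec (CommRingCat.of R) ⟶ Spec (CommRingCat.of K)) (v : Over.mk s ⟶ E₁),
        IsInf K E₁ φR s v → v ≫ φ' = 1) :
    FormallyUnramified (φ * φ').left := by
  refine FormallyUnramified.of_hom_ext _ fun R S' φR hφ hker g₁ g₂ h₁ h₂ => ?_
  have h₂' : g₁ ≫ E₁.hom = g₂ ≫ E₁.hom := by
    have hw : (φ * φ').left ≫ E₂.hom = E₁.hom := Over.w (φ * φ')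
    rw [← hw, ← Category.assoc, ← Category.assoc, h₂]
  obtain ⟨hv, -, -⟩ := core K E₁ (R := ↑R) (φ := φR.hom) hφ hker g₁ g₂ h₁ h₂' 0
  have hG : (Over.homMk g₁ rfl : Over.mk (g₁ ≫ E₁.hom) ⟶ E₁) ≫ (φ * φ') =
      (Over.homMk g₂ h₂'.symm : Over.mk (g₁ ≫ E₁.hom) ⟶ E₁) ≫ (φ * φ') :=
    Over.OverMorphism.ext h₂
  have h3 := h ↑R ↑S' φR.hom hφ hker (g₁ ≫ E₁.hom) _ hv
  rw [MonObj.mul_comp, GrpObj.inv_comp, inv_mul_eq_one] at h3
  rw [MonObj.comp_mul, MonObj.comp_mul, h3] at hG
  have h4 := mul_right_cancel hG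
  haveI : IsClosedImmersion (Spec.map φR) := IsClosedImmersion.spec_of_surjective φR hφ
  exact FormallyUnramified.hom_ext (Spec.map φR) (isNilpotent_ker_specMap φR hker) φ.left h₁
    (congrArg (fun t => t.left) h4)

end StepAC


section Q
variable (k : Type u) [Field k]

set_option backward.isDefEq.respectTransparency false in
/-- A formally unramified morphism from a proper smooth integral `k`-scheme to a separated smooth
integral `k`-scheme of the same dimension is finite, surjective and étale. -/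
theorem finite_surjective_etale_of_formallyUnramified
    (X Y : Over (Spec (CommRingCat.of k))) [IsProper X.hom] [Smooth X.hom] [IsIntegral X.left]
    [IsSeparated Y.hom] [Smooth Y.hom] [IsIntegral Y.left]
    (hdim : topologicalKrullDim X.left = topologicalKrullDim Y.left)
    (f : X ⟶ Y) [FormallyUnramified f.left] :
    IsFinite f.left ∧ Surjective f.left ∧ Etale f.left := by
  haveI : Subsingleton ↥(Spec (CommRingCat.of k)) := by
    change Subsingleton (PrimeSpectrum k)
    infer_instance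
  haveI hfq : LocallyOfFiniteType (f.left ≫ Y.hom) := by
    rw [Over.w f]
    infer_instance
  haveI : LocallyOfFiniteType f.left := locallyOfFiniteType_of_comp f.left Y.hom
  haveI : IsProper (f.left ≫ Y.hom) := by
    rw [Over.w f]
    infer_instance
  haveI : IsProper f.left := IsProper.of_comp f.left Y.hom
  haveI : LocallyQuasiFinite f.left := locallyQuasiFinite_of_formallyUnramified f.left
  haveI hfin : IsFinite f.left := IsFinite.of_isProper_of_locallyQuasiFinite f.left
  -- the dimension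
  letI ovX : X.left.Over (Spec (CommRingCat.of k)) := ⟨X.hom⟩
  letI ovY : Y.left.Over (Spec (CommRingCat.of k)) := ⟨Y.hom⟩
  haveI : LocallyOfFiniteType (X.left ↘ Spec (CommRingCat.of k)) :=
    inferInstanceAs (LocallyOfFiniteType X.hom)
  haveI : LocallyOfFiniteType (Y.left ↘ Spec (CommRingCat.of k)) :=
    inferInstanceAs (LocallyOfFiniteType Y.hom)
  obtain ⟨n, hn⟩ := Groth.Agent.Lib.Helper12.SchemeDimFT.exists_trdeg_eq k X.left (genericPoint X.left)
  have hXn : topologicalKrullDim X.left = n :=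
    Groth.Agent.Lib.Helper12.SchemeDimFT.topologicalKrullDim_eq_of_irreducible k X.left n hn
  have hYn : topologicalKrullDim Y.left = n := by rw [← hdim, hXn]
  haveI hsurj : Surjective f.left :=
    ⟨Groth.Agent.Lib.Helper22.FinSurj.surjective_of_dim_eq f.left
      f.left.isClosedMap n hXn hYn⟩
  have hY : ∀ y : Y.left, IsRegularLocalRing (Y.left.presheaf.stalk y) := fun y =>
    Groth.Agent.Lib.Helper26.RegularSch.isRegularLocalRing_stalk_of_smooth_field k Y.hom y
  have hX : ∀ x : X.left, LocCoh.IsCohenMacaulayLocalRing (X.left.presheaf.stalk x) := fun x => by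
    haveI := Groth.Agent.Lib.Helper26.RegularSch.isRegularLocalRing_stalk_of_smooth_field k
      X.hom x
    exact Groth.Agent.Lib.Helper4.RegCM.isCohenMacaulayLocalRing _
  haveI hflat : Flat f.left := by
    refine Groth.Agent.Lib.Helper14.MiracleSch.flat_of_equidim k Y.hom f.left hY hX n n le_rfl
      ?_ ?_ ?_
    · intro Z hZ
      rw [irreducibleComponents_eq_singleton, Set.mem_singleton_iff] at hZ
      rw [hZ, Groth.Agent.Lib.Helper22.AbFib.dim_univ_eq, hXn]
    · intro Z hZ
      rw [irreducibleComponents_eq_singleton, Set.mem_singleton_iff] at hZ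
      rw [hZ, Groth.Agent.Lib.Helper22.AbFib.dim_univ_eq, hYn]
    · intro y Z hZ
      have hne : Z.Nonempty := hZ.1.1
      haveI : Nonempty ↥Z := hne.to_subtype
      have h2 : topologicalKrullDim ↥Z ≤ topologicalKrullDim ↥(f.left.base ⁻¹' {y}) :=
        (Topology.IsInducing.subtypeVal).topologicalKrullDim_le
      haveI : DiscreteTopology ↥(f.left.base ⁻¹' {y}) :=
        (f.left.isDiscrete_preimage_singleton y).to_subtype
      have h3 : topologicalKrullDim ↥(f.left.base ⁻¹' {y}) ≤ 0 :=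
        topologicalKrullDim_zero_of_discreteTopology _
      have h4 : (0 : WithBot ℕ∞) ≤ topologicalKrullDim ↥Z :=
        Groth.Agent.Lib.Helper9.topologicalKrullDim_nonneg_of_nonempty
      rw [Nat.sub_self]
      exact le_antisymm (h2.trans h3) h4
  haveI : IsLocallyNoetherian Y.left := LocallyOfFiniteType.isLocallyNoetherian Y.hom
  haveI : LocallyOfFinitePresentation f.left :=
    LocallyOfFinitePresentation.iff_locallyOfFiniteType.mpr inferInstance
  exact ⟨hfin, hsurj, Etale.of_formallyUnramified_of_flat _⟩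

end Q


section Princ
variable (k : Type u) [Field k] (G : Over (Spec (CommRingCat.of k))) [GrpObj G] [Smooth G.hom]

theorem exists_principal_of_dim_one (hdim : topologicalKrullDim G.left = 1) :
    ∃ t : G.left.presheaf.stalk (η[G].left (IsLocalRing.closedPoint k)),
      IsLocalRing.maximalIdeal (G.left.presheaf.stalk (η[G].left (IsLocalRing.closedPoint k))) =
        Ideal.span {t} := by
  haveI := Groth.Agent.Lib.Helper26.RegularSch.isRegularLocalRing_stalk_of_smooth_field k G.hom
    (η[G].left (IsLocalRing.closedPoint k))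
  have h1 := Groth.Agent.Lib.Helper22.GrpSmoothDim.dim_eq_ringKrullDim_stalk k G
    (IsLocalRing.closedPoint k)
  rw [hdim] at h1
  have h2 := IsRegularLocalRing.spanFinrank_maximalIdeal
    (R := G.left.presheaf.stalk (η[G].left (IsLocalRing.closedPoint k)))
  rw [← h1] at h2
  have h3 : (IsLocalRing.maximalIdeal
      (G.left.presheaf.stalk (η[G].left (IsLocalRing.closedPoint k)))).spanFinrank = 1 := by
    exact_mod_cast h2
  have hfg : (IsLocalRing.maximalIdeal
      (G.left.presheaf.stalk (η[G].left (IsLocalRing.closedPoint k)))).FG :=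
    IsNoetherian.noetherian _
  obtain ⟨s, hs, hspan⟩ := Submodule.FG.exists_span_finset_card_eq_spanFinrank hfg
  rw [h3, Finset.card_eq_one] at hs
  obtain ⟨t, rfl⟩ := hs
  refine ⟨t, ?_⟩
  rw [← hspan]
  simp [Ideal.span]

end Princ


section Assembly
variable (k : Type u) [Field k]

theorem finite_surjective_etale_mul
    (E₁ E₂ : Over (Spec (CommRingCat.of k)))
    [GrpObj E₁] [IsProper E₁.hom] [Smooth E₁.hom] [IsIntegral E₁.left]
    (hE₁ : topologicalKrullDim E₁.left = 1)
    [GrpObj E₂] [IsSeparated E₂.hom] [Smooth E₂.hom] [IsIntegral E₂.left]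
    (hE₂ : topologicalKrullDim E₂.left = 1)
    (φ φ' : E₁ ⟶ E₂) [IsMonHom φ'] [FormallyUnramified φ.left]
    (hφ' : ¬ Etale φ'.left) :
    IsFinite (φ * φ').left ∧ Surjective (φ * φ').left ∧ Etale (φ * φ').left := by
  have hdim : topologicalKrullDim E₁.left = topologicalKrullDim E₂.left := by rw [hE₁, hE₂]
  -- φ' is not formally unramified
  have hnu : ¬ FormallyUnramified φ'.left := by
    intro h
    haveI := h
    exact hφ' (finite_surjective_etale_of_formallyUnramified k E₁ E₂ hdim φ').2.2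
  -- there is a nontrivial infinitesimal point killed by φ'
  have hex : ∃ (R : Type u) (_ : CommRing R) (A' : Type u) (_ : CommRing A') (φR : R →+* A'),
      Function.Surjective φR ∧ RingHom.ker φR ^ 2 = ⊥ ∧
      ∃ (s : Spec (CommRingCat.of R) ⟶ Spec (CommRingCat.of k)) (v : Over.mk s ⟶ E₁),
        IsInf k E₁ φR s v ∧ v ≫ φ' = 1 ∧ v ≠ 1 := by
    by_contra hcon
    apply hnu
    refine formallyUnramified_of_forall_inf k E₁ E₂ φ' ?_
    intro R _ A' _ φR hφR hI s v hv hvk
    by_contra hv1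
    exact hcon ⟨R, _, A', _, φR, hφR, hI, s, v, hv, hvk, hv1⟩
  obtain ⟨R₀, _, A₀, _, φ₀, hφ₀, hI₀, s₀, v₀, hv₀, hk₀, hne⟩ := hex
  have hprinc := exists_principal_of_dim_one k E₁ hE₁
  have hone : η[E₁] ≫ φ' = η[E₂] := IsMonHom.one_hom φ'
  haveI : FormallyUnramified (φ * φ').left :=
    formallyUnramified_mul k E₁ E₂ φ φ' (fun R _ A' _ φR hφR hI s v hv =>
      kills_all k E₁ E₂ φ' hone hprinc φ₀ hφ₀ hI₀ s₀ v₀ hv₀ hk₀ hne φR hφR hI s v hv)
  exact finite_surjective_etale_of_formallyUnramified k E₁ E₂ hdim (φ * φ')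

end Assembly

end Groth.Agent.Lib.Helper22.LieGen
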