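import Mathlib
import Groth.Prelude.Def_EtMil

/-!
# Milnor squares (fibre products of rings `B' = B ×_A A'` with `A' → A` surjective)
(helper22)
-/

set_option autoImplicit false
set_option linter.unusedSectionVars false
universe u
open TensorProduct

namespace Groth.Agent.Lib.Helper22.Milnor

variable {B' B A' A : Type u} [CommRing B'] [CommRing B] [CommRing A'] [CommRing A]
  [Algebra B' B] [Algebra B' A'] [Algebra B A] [Algebra A' A] [Algebra B' A]
  [IsScalarTower B' B A] [IsScalarTower B' A' A]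

omit [Algebra B' A] [IsScalarTower B' B A] [IsScalarTower B' A' A] in
theorem surjective_algebraMap (hsq : EtMil.IsFibreSquare B' B A' A) :
    Function.Surjective (algebraMap B' B) := by
  intro b
  obtain ⟨a', ha'⟩ := hsq.1 (algebraMap B A b)
  obtain ⟨b', ⟨hb', _⟩, _⟩ := hsq.2 b a' ha'.symm
  exact ⟨b', hb'⟩

theorem eq_of_algebraMap_eq (hsq : EtMil.IsFibreSquare B' B A' A) {x y : B'}
    (h1 : algebraMap B' B x = algebraMap B' B y) (h2 : algebraMap B' A' x = algebraMap B' A' y) :
    x = y := by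
  have hc : algebraMap B A (algebraMap B' B y) = algebraMap A' A (algebraMap B' A' y) := by
    rw [← IsScalarTower.algebraMap_apply, ← IsScalarTower.algebraMap_apply]
  obtain ⟨z, _, hz⟩ := hsq.2 _ _ hc
  rw [hz x ⟨h1, h2⟩, hz y ⟨rfl, rfl⟩]

/-- For `j` in the kernel of `B' → B` there is a `B'`-linear map `A' → B'` sending `1` to `j`
(it is `a' ↦` the unique element over `(0, j a')`). -/
theorem exists_linearMap_of_mem_ker (hsq : EtMil.IsFibreSquare B' B A' A) (j : B')
    (hj : algebraMap B' B j = 0) : ∃ s : A' →ₗ[B'] B', s 1 = j := by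
  have hjA : algebraMap A' A (algebraMap B' A' j) = 0 := by
    rw [← IsScalarTower.algebraMap_apply, IsScalarTower.algebraMap_apply B' B A, hj, map_zero]
  have hex : ∀ a' : A', ∃ b' : B', algebraMap B' B b' = 0 ∧
      algebraMap B' A' b' = algebraMap B' A' j * a' := by
    intro a'
    have : algebraMap B A 0 = algebraMap A' A (algebraMap B' A' j * a') := by
      rw [map_zero, map_mul, hjA, zero_mul]
    obtain ⟨b', hb', _⟩ := hsq.2 0 _ this
    exact ⟨b', hb'⟩
  choose s hs1 hs2 using hex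
  refine ⟨{ toFun := s, map_add' := ?_, map_smul' := ?_ }, ?_⟩
  · intro x y
    apply eq_of_algebraMap_eq hsq
    · rw [map_add, hs1, hs1, hs1, add_zero]
    · rw [map_add, hs2, hs2, hs2, mul_add]
  · intro c x
    apply eq_of_algebraMap_eq hsq
    · rw [RingHom.id_apply, smul_eq_mul, map_mul, hs1, hs1, mul_zero]
    · rw [RingHom.id_apply, smul_eq_mul, map_mul, hs2, hs2, Algebra.smul_def]; ring
  · apply eq_of_algebraMap_eq hsq
    · change algebraMap B' B (s 1) = _
      rw [hs1, hj]
    · change algebraMap B' A' (s 1) = _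
      rw [hs2, mul_one]

variable (L' : Type u) [AddCommGroup L'] [Module B' L']

/-- Elements of the kernel of `B' → B` kill every `l` with `1 ⊗ l = 0` in `A' ⊗ L'`. -/
theorem smul_eq_zero_of_tmul_eq_zero (hsq : EtMil.IsFibreSquare B' B A' A) (l : L')
    (h2 : ((1 : A') ⊗ₜ[B'] l : A' ⊗[B'] L') = 0) (j : B') (hj : algebraMap B' B j = 0) :
    j • l = 0 := by
  obtain ⟨s, hs⟩ := exists_linearMap_of_mem_ker hsq j hj
  let ψ : A' ⊗[B'] L' →ₗ[B'] L' := TensorProduct.lift ((LinearMap.lsmul B' L').comp s)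
  have h : ψ ((1 : A') ⊗ₜ[B'] l) = j • l := by
    simp only [ψ, TensorProduct.lift.tmul, LinearMap.comp_apply, LinearMap.lsmul_apply, hs]
  rw [← h, h2, map_zero]

/-- If `1 ⊗ l = 0` in `B ⊗ L'` then `l ∈ J L'`, `J = ker (B' → B)`. -/
theorem mem_smul_top_of_tmul_eq_zero (hsq : EtMil.IsFibreSquare B' B A' A) (l : L')
    (h1 : ((1 : B) ⊗ₜ[B'] l : B ⊗[B'] L') = 0) :
    l ∈ (RingHom.ker (algebraMap B' B)) • (⊤ : Submodule B' L') := by
  set J := RingHom.ker (algebraMap B' B)
  have hsurj : Function.Surjective (Algebra.ofId B' B) := surjective_algebraMap hsq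
  let e : (B' ⧸ RingHom.ker (Algebra.ofId B' B)) ≃ₐ[B'] B :=
    Ideal.quotientKerAlgEquivOfSurjective hsurj
  have hJ : RingHom.ker (Algebra.ofId B' B) = J := rfl
  let g : B ⊗[B'] L' →ₗ[B'] (B' ⧸ RingHom.ker (Algebra.ofId B' B)) ⊗[B'] L' :=
    LinearMap.rTensor L' e.symm.toLinearMap
  have hg : g ((1 : B) ⊗ₜ[B'] l) = (1 : B' ⧸ RingHom.ker (Algebra.ofId B' B)) ⊗ₜ[B'] l := by
    simp only [g, LinearMap.rTensor_tmul, AlgEquiv.toLinearMap_apply, map_one]
  have h3 := congrArg (TensorProduct.quotTensorEquivQuotSMul L' (RingHom.ker (Algebra.ofId B' B)))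
    (hg.symm.trans (by rw [h1, map_zero]))
  rw [TensorProduct.quotTensorEquivQuotSMul_mk_one_tmul, map_zero,
    Submodule.Quotient.mk_eq_zero] at h3
  exact h3

theorem subsingleton_of_baseChange (hsq : EtMil.IsFibreSquare B' B A' A)
    [Subsingleton (B ⊗[B'] L')] [Subsingleton (A' ⊗[B'] L')] : Subsingleton L' := by
  refine ⟨fun x y => ?_⟩
  suffices h : ∀ l : L', l = 0 by rw [h x, h y]
  intro l
  have hkill : ∀ (j : B'), algebraMap B' B j = 0 → ∀ l' : L', j • l' = 0 := fun j hj l' =>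
    smul_eq_zero_of_tmul_eq_zero L' hsq l' (Subsingleton.elim _ _) j hj
  have hl := mem_smul_top_of_tmul_eq_zero L' hsq l (Subsingleton.elim _ _)
  refine Submodule.smul_induction_on hl ?_ ?_
  · intro j hj l' _
    exact hkill j hj l'
  · intro x y hx hy
    rw [hx, hy, add_zero]

/-- For an algebra `R → S` with `S ⊗ M` finite over `S`, there is a finitely generated submodule
of `M` whose base change is everything. -/
theorem exists_fg_baseChange_eq_top (R S M : Type u) [CommRing R] [CommRing S] [Algebra R S]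
    [AddCommGroup M] [Module R M] [Module.Finite S (S ⊗[R] M)] :
    ∃ N : Submodule R M, N.FG ∧ N.baseChange S = ⊤ := by
  have htop : Submodule.span S (TensorProduct.mk R S M 1 '' Set.univ) = ⊤ := by
    rw [← Submodule.baseChange_span, Submodule.span_univ, Submodule.baseChange_top]
  have hfg : (Submodule.span S (TensorProduct.mk R S M 1 '' Set.univ)).FG := by
    rw [htop]; exact Module.Finite.fg_top
  obtain ⟨s', hs', hspan⟩ := (Submodule.fg_span_iff_fg_span_finset_subset _).mp hfg
  have hex : ∀ x : (s' : Set (S ⊗[R] M)), ∃ l : M, TensorProduct.mk R S M 1 l = x := by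
    intro x
    obtain ⟨l, _, hl⟩ := hs' x.2
    exact ⟨l, hl⟩
  choose l hl using hex
  refine ⟨Submodule.span R (Set.range l), Submodule.fg_span (Set.finite_range l), ?_⟩
  rw [Submodule.baseChange_span, eq_top_iff, ← htop, hspan]
  apply Submodule.span_mono
  intro x hx
  exact ⟨l ⟨x, hx⟩, ⟨⟨x, hx⟩, rfl⟩, hl ⟨x, hx⟩⟩

/-- If `N.baseChange S = ⊤` then `S ⊗ (M ⧸ N) = 0`. -/
theorem subsingleton_tensor_quotient_of_baseChange_eq_top (R S M : Type u) [CommRing R]
    [CommRing S] [Algebra R S] [AddCommGroup M] [Module R M] (N : Submodule R M)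
    (hN : N.baseChange S = ⊤) : Subsingleton (S ⊗[R] (M ⧸ N)) := by
  refine ⟨fun x y => ?_⟩
  suffices h : ∀ z : S ⊗[R] (M ⧸ N), z = 0 by rw [h x, h y]
  intro z
  obtain ⟨y, rfl⟩ := LinearMap.lTensor_surjective S N.mkQ_surjective z
  have hy : y ∈ N.baseChange S := by rw [hN]; trivial
  obtain ⟨w, rfl⟩ := hy
  have : (LinearMap.lTensor S N.mkQ) ((LinearMap.lTensor S N.subtype) w) = 0 := by
    rw [← LinearMap.comp_apply, ← LinearMap.lTensor_comp]
    have : N.mkQ ∘ₗ N.subtype = 0 := by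
      ext x; simp
    rw [this, LinearMap.lTensor_zero, LinearMap.zero_apply]
  exact this

theorem finite_of_baseChange (hsq : EtMil.IsFibreSquare B' B A' A)
    [Module.Finite B (B ⊗[B'] L')] [Module.Finite A' (A' ⊗[B'] L')] : Module.Finite B' L' := by
  obtain ⟨N₁, hN₁, hN₁'⟩ := exists_fg_baseChange_eq_top B' B L'
  obtain ⟨N₂, hN₂, hN₂'⟩ := exists_fg_baseChange_eq_top B' A' L'
  have h1 : (N₁ ⊔ N₂).baseChange B = ⊤ :=
    top_le_iff.mp (hN₁' ▸ Submodule.baseChange_mono B le_sup_left)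
  have h2 : (N₁ ⊔ N₂).baseChange A' = ⊤ :=
    top_le_iff.mp (hN₂' ▸ Submodule.baseChange_mono A' le_sup_right)
  have := subsingleton_tensor_quotient_of_baseChange_eq_top B' B L' _ h1
  have := subsingleton_tensor_quotient_of_baseChange_eq_top B' A' L' _ h2
  have hQ : Subsingleton (L' ⧸ (N₁ ⊔ N₂)) := subsingleton_of_baseChange _ hsq
  rw [Submodule.Quotient.subsingleton_iff] at hQ
  rw [Module.finite_def, ← hQ]
  exact hN₁.sup hN₂

/-- A Milnor square is a pushout of rings. -/
theorem isPushout (hsq : EtMil.IsFibreSquare B' B A' A) : Algebra.IsPushout B' B A' A := by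
  constructor
  let F : B ⊗[B'] A' →ₗ[B] A := (IsScalarTower.toAlgHom B' A' A).toLinearMap.liftBaseChange B
  have hF : ∀ (b : B) (a' : A'), F (b ⊗ₜ a') = b • algebraMap A' A a' := fun b a' => rfl
  have hrep : ∀ z : B ⊗[B'] A', ∃ a' : A', z = (1 : B) ⊗ₜ[B'] a' := by
    intro z
    induction z using TensorProduct.induction_on with
    | zero => exact ⟨0, (TensorProduct.tmul_zero _ _).symm⟩
    | tmul b a' =>
      obtain ⟨b', rfl⟩ := surjective_algebraMap hsq b
      refine ⟨b' • a', ?_⟩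
      rw [TensorProduct.tmul_smul, TensorProduct.smul_tmul', Algebra.smul_def, mul_one]
    | add x y hx hy =>
      obtain ⟨a, rfl⟩ := hx
      obtain ⟨b, rfl⟩ := hy
      exact ⟨a + b, (TensorProduct.tmul_add _ _ _).symm⟩
  have hbij : Function.Bijective F := by
    constructor
    · rw [← LinearMap.ker_eq_bot, eq_bot_iff]
      intro z hz
      obtain ⟨a', rfl⟩ := hrep z
      rw [LinearMap.mem_ker, hF, one_smul] at hz
      have : algebraMap B A 0 = algebraMap A' A a' := by rw [map_zero, hz]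
      obtain ⟨j, ⟨hj1, hj2⟩, _⟩ := hsq.2 0 a' this
      rw [Submodule.mem_bot, ← hj2, Algebra.algebraMap_eq_smul_one, TensorProduct.tmul_smul,
        TensorProduct.smul_tmul', Algebra.smul_def, mul_one, hj1, TensorProduct.zero_tmul]
    · intro a
      obtain ⟨a', rfl⟩ := hsq.1 a
      exact ⟨(1 : B) ⊗ₜ a', by rw [hF, one_smul]⟩
  refine IsBaseChange.of_equiv (LinearEquiv.ofBijective F hbij) ?_
  intro x
  change F ((1 : B) ⊗ₜ x) = _
  rw [hF, one_smul]
  rfl

end Groth.Agent.Lib.Helper22.Milnor
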