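import Mathlib

set_option autoImplicit false
set_option linter.style.haveILetI false
set_option linter.unusedSectionVars false

/-!
# Auxiliary lemmas for miscellaneous statements (helper22)
-/

universe u

namespace Groth.Agent.Lib.Helper22.Misc1

open AlgebraicGeometry CategoryTheory TensorProduct Opposite

theorem exists_finite_subalgebra (A B B' B'' : Type u) [CommRing A] [CommRing B] [CommRing B'] [CommRing B''] [Algebra A B] [Algebra A B'] [Algebra A B''] [Algebra B' B] [Algebra B'' B] [IsScalarTower A B' B] [IsScalarTower A B'' B] [Module.Finite A B'] [Module.Finite A B''] (h' : IsOpenImmersion (Spec.map (CommRingCat.ofHom (algebraMap B' B)))) (h'' : IsOpenImmersion (Spec.map (CommRingCat.ofHom (algebraMap B'' B)))) : ∃ C : Subalgebra A B, Module.Finite A C ∧ Set.range (algebraMap B' B) ⊆ (C : Set B) ∧ Set.range (algebraMap B'' B) ⊆ (C : Set B) ∧ IsOpenImmersion (Spec.map (CommRingCat.ofHom C.val.toRingHom)) := by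
  classical
  let f' : B' →ₐ[A] B := IsScalarTower.toAlgHom A B' B
  let f'' : B'' →ₐ[A] B := IsScalarTower.toAlgHom A B'' B
  let φ : B' ⊗[A] B'' →ₐ[A] B := Algebra.TensorProduct.productMap f' f''
  let C : Subalgebra A B := φ.range
  have hfin : Module.Finite A C :=
    Module.Finite.of_surjective φ.rangeRestrict.toLinearMap φ.rangeRestrict_surjective
  have h1 : Set.range (algebraMap B' B) ⊆ (C : Set B) := by
    rintro _ ⟨b, rfl⟩
    exact ⟨b ⊗ₜ 1, by simp [φ, f']⟩
  have h2 : Set.range (algebraMap B'' B) ⊆ (C : Set B) := by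
    rintro _ ⟨b, rfl⟩
    exact ⟨1 ⊗ₜ b, by simp [φ, f'']⟩
  refine ⟨C, hfin, h1, h2, ?_⟩
  -- C as a B'-algebra
  let g : B' →+* C := (algebraMap B' B).codRestrict C.toSubring (fun b => h1 ⟨b, rfl⟩)
  letI : Algebra B' C := g.toAlgebra
  haveI : IsScalarTower B' C B := IsScalarTower.of_algebraMap_eq (fun _ => rfl)
  let ψ : C →ₐ[B'] B := ⟨C.val.toRingHom, fun _ => rfl⟩
  -- flatness and epi
  have hflat : Module.Flat B' B := by
    have : Flat (Spec.map (CommRingCat.ofHom (algebraMap B' B))) := inferInstance
    rw [Flat.SpecMap_iff] at this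
    exact RingHom.flat_algebraMap_iff.mp this
  have hepi : Algebra.IsEpi B' B := by
    rw [← CommRingCat.epi_iff_epi]
    have hm : Mono (Spec.map (CommRingCat.ofHom (algebraMap B' B))) := inferInstance
    have : Mono (CommRingCat.ofHom (algebraMap B' B)).op :=
      Scheme.Spec.mono_of_mono_map hm
    exact unop_epi_of_mono (CommRingCat.ofHom (algebraMap B' B)).op
  let μ : B ⊗[B'] C →ₐ[B'] B := Algebra.TensorProduct.productMap (AlgHom.id B' B) ψ
  have hμsurj : Function.Surjective μ := fun b => ⟨b ⊗ₜ 1, by simp [μ]⟩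
  have hμinj : Function.Injective μ := by
    have hfac : ∀ x, μ x = Algebra.TensorProduct.lmul' B'
        (Algebra.TensorProduct.map (AlgHom.id B' B) ψ x) := by
      intro x
      induction x using TensorProduct.induction_on with
      | zero => simp
      | tmul a c => simp [μ]
      | add x y hx hy => simp only [map_add, hx, hy]
    have hinj1 : Function.Injective (Algebra.TensorProduct.map (AlgHom.id B' B) ψ) := by
      have := Module.Flat.lTensor_preserves_injective_linearMap (M := B) ψ.toLinearMap
        (fun a b h => Subtype.ext h)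
      exact this
    have hinj2 : Function.Injective (Algebra.TensorProduct.lmul' B' (S := B)) := by
      have hone := (Algebra.isEpi_iff_forall_one_tmul_eq B' B).mp hepi
      have h' : ∀ x : B ⊗[B'] B, ∃ a : B, x = a ⊗ₜ 1 := by
        intro x
        induction x using TensorProduct.induction_on with
        | zero => exact ⟨0, by simp⟩
        | tmul u v =>
          refine ⟨u * v, ?_⟩
          calc u ⊗ₜ[B'] v = u ⊗ₜ[B'] 1 * 1 ⊗ₜ[B'] v := by simp
            _ = u ⊗ₜ[B'] 1 * v ⊗ₜ[B'] 1 := by rw [hone]
            _ = (u * v) ⊗ₜ[B'] 1 := by simp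
        | add u v hu hv =>
          obtain ⟨u, rfl⟩ := hu
          obtain ⟨v, rfl⟩ := hv
          exact ⟨u + v, by simp [TensorProduct.add_tmul]⟩
      intro x y hxy
      obtain ⟨a, rfl⟩ := h' x
      obtain ⟨b, rfl⟩ := h' y
      simp only [Algebra.TensorProduct.lmul'_apply_tmul, mul_one] at hxy
      rw [hxy]
    intro x y hxy
    rw [hfac, hfac] at hxy
    exact hinj1 (hinj2 hxy)
  let e : B ⊗[B'] C ≃+* B := RingEquiv.ofBijective μ.toRingHom ⟨hμinj, hμsurj⟩
  -- pullback square
  have hpo := CommRingCat.isPushout_tensorProduct B' B C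
  have hpb := isPullback_SpecMap_of_isPushout _ _ _ _ hpo
  have hoi : IsOpenImmersion (Spec.map (CommRingCat.ofHom
      (Algebra.TensorProduct.includeRight (R := B') (A := B) (B := C)).toRingHom)) :=
    MorphismProperty.of_isPullback (P := @IsOpenImmersion) hpb h'
  have hcomp : CommRingCat.ofHom C.val.toRingHom =
      CommRingCat.ofHom (Algebra.TensorProduct.includeRight (R := B') (A := B) (B := C)).toRingHom
        ≫ CommRingCat.ofHom e.toRingHom := by
    ext c
    simp [e, μ, ψ]
  rw [hcomp, Spec.map_comp]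
  haveI : IsIso (CommRingCat.ofHom e.toRingHom) := (e.toCommRingCatIso).isIso_hom
  infer_instance

end Groth.Agent.Lib.Helper22.Misc1
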