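import Mathlib

/-!
# Formal lemmas for the Néron mapping property under base change
-/

set_option autoImplicit false
set_option linter.style.haveILetI false
set_option linter.unusedSectionVars false

open CategoryTheory AlgebraicGeometry Limits

namespace Groth.Agent.Lib.Helper22.NeronBC

universe v₁ v₂ u₁ u₂ u

section Abstract

variable {C : Type u₁} [Category.{v₁} C] {D : Type u₂} [Category.{v₂} D]
  {L : C ⥤ D} {R : D ⥤ C} (adj : L ⊣ R)

theorem bijective_map_iff (Y N : D) :
    Function.Bijective (fun f : Y ⟶ N => R.map f) ↔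
      Function.Bijective (fun f : Y ⟶ N => adj.counit.app Y ≫ f) := by
  have h : (fun f : Y ⟶ N => adj.counit.app Y ≫ f) =
      (adj.homEquiv (R.obj Y) N).symm ∘ (fun f : Y ⟶ N => R.map f) := by
    funext f
    simp only [Function.comp_apply, Adjunction.homEquiv_counit]
    exact (adj.counit_naturality f).symm
  rw [h]
  exact (Equiv.comp_bijective _ _).symm

include adj in
theorem bijective_precomp_iff {Z' Y' : C} (h : Z' ⟶ Y') (N : D) :
    Function.Bijective (fun f : Y' ⟶ R.obj N => h ≫ f) ↔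
      Function.Bijective (fun f : L.obj Y' ⟶ N => L.map h ≫ f) := by
  have e : (adj.homEquiv Z' N) ∘ (fun f : L.obj Y' ⟶ N => L.map h ≫ f) =
      (fun f : Y' ⟶ R.obj N => h ≫ f) ∘ (adj.homEquiv Y' N) := by
    funext f
    simp only [Function.comp_apply]
    exact adj.homEquiv_naturality_left h f
  constructor
  · intro hb
    have h1 : Function.Bijective ((fun f : Y' ⟶ R.obj N => h ≫ f) ∘ (adj.homEquiv Y' N)) :=
      hb.comp (adj.homEquiv Y' N).bijective
    rw [← e] at h1
    exact (Equiv.comp_bijective _ _).mp h1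
  · intro hb
    have h1 : Function.Bijective ((adj.homEquiv Z' N) ∘ (fun f : L.obj Y' ⟶ N => L.map h ≫ f)) :=
      (adj.homEquiv Z' N).bijective.comp hb
    rw [e] at h1
    exact (Equiv.bijective_comp _ _).mp h1

end Abstract

section Scheme

variable {S S' : Scheme.{u}} (g : S' ⟶ S) (U : S.Opens)

/-- The comparison iso `Y' ×_{S'} g⁻¹U ≅ Y' ×_S U`. -/
noncomputable def pullbackIso (Y' : Over S') :
    pullback Y'.hom (g ⁻¹ᵁ U).ι ≅ pullback (Y'.hom ≫ g) U.ι :=
  (((IsPullback.of_hasPullback Y'.hom (g ⁻¹ᵁ U).ι).flip.paste_horiz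
    (isPullback_morphismRestrict g U)).flip).isoPullback

@[reassoc (attr := simp)]
theorem pullbackIso_hom_fst (Y' : Over S') :
    (pullbackIso g U Y').hom ≫ pullback.fst (Y'.hom ≫ g) U.ι = pullback.fst Y'.hom (g ⁻¹ᵁ U).ι :=
  IsPullback.isoPullback_hom_fst _

theorem counit_compat (Y' : Over S') :
    ∃ φ : (Over.map g).obj ((Over.map (g ⁻¹ᵁ U).ι).obj ((Over.pullback (g ⁻¹ᵁ U).ι).obj Y')) ≅
        (Over.map U.ι).obj ((Over.pullback U.ι).obj ((Over.map g).obj Y')),
      (Over.map g).map ((Over.mapPullbackAdj (g ⁻¹ᵁ U).ι).counit.app Y') =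
        φ.hom ≫ (Over.mapPullbackAdj U.ι).counit.app ((Over.map g).obj Y') := by
  refine ⟨Over.isoMk (pullbackIso g U Y') ?_, ?_⟩
  · simp only [Over.map_obj_hom, Over.pullback_obj_hom, Over.map_obj_left, Over.pullback_obj_left,
      Functor.id_obj, Functor.const_obj_obj]
    rw [← pullback.condition, pullbackIso_hom_fst_assoc, pullback.condition_assoc]
    simp
  · ext
    simp

theorem neron_baseChange [Smooth g] (N : Over S)
    (hN : ∀ Y : Over S, Smooth Y.hom →
      Function.Bijective (fun f : Y ⟶ N => (Over.pullback U.ι).map f))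
    (Y' : Over S') [Smooth Y'.hom] :
    Function.Bijective
      (fun f : Y' ⟶ (Over.pullback g).obj N => (Over.pullback (g ⁻¹ᵁ U).ι).map f) := by
  rw [bijective_map_iff (Over.mapPullbackAdj (g ⁻¹ᵁ U).ι)]
  refine (bijective_precomp_iff (Over.mapPullbackAdj g) _ N).mpr ?_
  obtain ⟨φ, hφ⟩ := counit_compat g U Y'
  rw [hφ]
  have hsm : Smooth ((Over.map g).obj Y').hom := by
    simp only [Over.map_obj_hom]
    infer_instance
  have h1 := (bijective_map_iff (Over.mapPullbackAdj U.ι) _ N).mp (hN _ hsm)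
  have h2 : Function.Bijective (fun f : (Over.map U.ι).obj ((Over.pullback U.ι).obj
      ((Over.map g).obj Y')) ⟶ N => φ.hom ≫ f) :=
    ⟨fun a b hab => (cancel_epi φ.hom).mp hab, fun b => ⟨φ.inv ≫ b, by simp⟩⟩
  have : (fun f : (Over.map g).obj Y' ⟶ N =>
      (φ.hom ≫ (Over.mapPullbackAdj U.ι).counit.app ((Over.map g).obj Y')) ≫ f) =
      (fun f => φ.hom ≫ f) ∘ (fun f : (Over.map g).obj Y' ⟶ N =>
        (Over.mapPullbackAdj U.ι).counit.app ((Over.map g).obj Y') ≫ f) := by
    funext f
    simp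
  rw [this]
  exact h2.comp h1

end Scheme

end Groth.Agent.Lib.Helper22.NeronBC
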