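import Mathlib

/-!
# Nil ideals in finite-dimensional algebras; detecting zero on fibres (helper22)

* `pow_finrank_eq_bot_of_le_nilradical`: in a commutative algebra of dimension `d` over a field,
  a nil ideal `n` has `n ^ d = ⊥`.
* `eq_zero_of_forall_residueField_tmul_eq_zero`: an element of a projective module over a reduced
  ring vanishing in all fibres `κ(p) ⊗ M` is zero.
-/

set_option autoImplicit false
universe u v

namespace Groth.Agent.Lib.Helper22.NilFibre

open TensorProduct

theorem pow_finrank_eq_bot_of_le_nilradical {K : Type u} {B : Type v} [Field K] [CommRing B]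
    [Algebra K B] [FiniteDimensional K B] (n : Ideal B) (hn : n ≤ nilradical B) :
    n ^ Module.finrank K B = ⊥ := by
  classical
  have hjac : n ≤ Ideal.jacobson ⊥ := by
    rw [Ideal.jacobson_bot]
    exact hn.trans (nilradical_le_jacobson B)
  have hnoeth : IsNoetherianRing B := IsNoetherianRing.of_finite K B
  have key : ∀ k : ℕ, n ^ k = ⊥ ∨
      Module.finrank K ((n ^ k).restrictScalars K) + k ≤ Module.finrank K B := by
    intro k
    induction k with
    | zero =>
      right
      rw [pow_zero, Ideal.one_eq_top, add_zero]
      exact Submodule.finrank_le _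
    | succ k ih =>
      rcases ih with h | h
      · left; rw [pow_succ, h, Ideal.bot_mul]
      · by_cases hk : n ^ k = ⊥
        · left; rw [pow_succ, hk, Ideal.bot_mul]
        · right
          have hle : n ^ (k + 1) ≤ n ^ k := Ideal.pow_le_pow_right (Nat.le_succ k)
          have hne : n ^ (k + 1) ≠ n ^ k := by
            intro heq
            apply hk
            apply Submodule.eq_bot_of_le_smul_of_le_jacobson_bot n (n ^ k)
              (IsNoetherian.noetherian _) _ hjac
            rw [smul_eq_mul, ← pow_succ', heq]
          have hlt : (n ^ (k + 1)).restrictScalars K < (n ^ k).restrictScalars K :=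
            lt_of_le_of_ne hle (fun h' => hne (Submodule.restrictScalars_injective K B B h'))
          have := Submodule.finrank_lt_finrank_of_lt hlt
          omega
  rcases key (Module.finrank K B) with h | h
  · exact h
  · have h0 : Module.finrank K ((n ^ Module.finrank K B).restrictScalars K) = 0 := by omega
    have := Submodule.finrank_eq_zero.mp h0
    exact Submodule.restrictScalars_injective K B B (by rw [this]; rfl)

theorem eq_zero_of_forall_residueField_tmul_eq_zero {A : Type u} [CommRing A] [IsReduced A]
    {M : Type v} [AddCommGroup M] [Module A M] [Module.Projective A M] (z : M)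
    (h : ∀ (p : Ideal A) [p.IsPrime], (1 : p.ResidueField) ⊗ₜ[A] z = 0) : z = 0 := by
  classical
  obtain ⟨s, hs⟩ := (Module.projective_def'.mp (inferInstance : Module.Projective A M))
  have hz : s z = 0 := by
    apply Finsupp.ext
    intro m
    rw [Finsupp.zero_apply]
    apply IsNilpotent.eq_zero
    rw [nilpotent_iff_mem_prime]
    intro p hp
    haveI := hp
    let f : M →ₗ[A] A := (Finsupp.lapply m) ∘ₗ s
    have h1 := congrArg (f.baseChange p.ResidueField) (h p)
    rw [LinearMap.baseChange_tmul, map_zero] at h1
    have h2 := congrArg (TensorProduct.rid A p.ResidueField) h1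
    rw [TensorProduct.rid_tmul, map_zero] at h2
    have h3 : algebraMap A p.ResidueField (f z) = 0 := by
      rw [Algebra.algebraMap_eq_smul_one]; exact h2
    exact Ideal.algebraMap_residueField_eq_zero.mp h3
  have := LinearMap.congr_fun hs z
  rw [LinearMap.comp_apply, hz, map_zero] at this
  exact this.symm

end Groth.Agent.Lib.Helper22.NilFibre
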