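import Mathlib

/-!
# Completions along a flat unramified local homomorphism with trivial residue extension
(helper22)
-/

set_option autoImplicit false

universe u

open IsLocalRing

namespace Groth.Agent.Lib.Helper22.Nod

section evalcompat

variable {R : Type*} [CommRing R] (I : Ideal R)

theorem factorPow_evalₐ {m n : ℕ} (hle : m ≤ n) (x : AdicCompletion I R) :
    Ideal.Quotient.factorPow I hle (AdicCompletion.evalₐ I n x) = AdicCompletion.evalₐ I m x := by
  obtain ⟨c, rfl⟩ := AdicCompletion.mk_surjective I R x
  rw [AdicCompletion.evalₐ_mk, AdicCompletion.evalₐ_mk]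
  show Ideal.Quotient.mk (I ^ m) (c.1 n) = Ideal.Quotient.mk (I ^ m) (c.1 m)
  exact AdicCompletion.Ideal.mk_eq_mk I hle c

end evalcompat

variable {A B : Type u} [CommRing A] [CommRing B] [Algebra A B] [IsLocalRing A] [IsLocalRing B]
  [IsLocalHom (algebraMap A B)]

theorem top_le_range_sup
    (hm : (maximalIdeal A).map (algebraMap A B) = maximalIdeal B)
    (hres : Function.Surjective (IsLocalRing.ResidueField.map (algebraMap A B))) (n : ℕ) :
    (⊤ : Submodule A B) ≤ LinearMap.range (Algebra.linearMap A B) ⊔
      (maximalIdeal A ^ n) • (⊤ : Submodule A B) := by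
  have h1 : (⊤ : Submodule A B) ≤ LinearMap.range (Algebra.linearMap A B) ⊔
      (maximalIdeal A) • (⊤ : Submodule A B) := by
    intro b _
    obtain ⟨r, hr⟩ := hres (residue B b)
    obtain ⟨a, rfl⟩ := residue_surjective r
    have h2 : residue B (b - algebraMap A B a) = 0 := by
      rw [map_sub, ← hr]
      simp [IsLocalRing.ResidueField.map_residue]
    have h3 : b - algebraMap A B a ∈ maximalIdeal B := (residue_eq_zero_iff _).mp h2
    rw [← hm] at h3
    have h4 : b - algebraMap A B a ∈ (maximalIdeal A) • (⊤ : Submodule A B) := by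
      rw [Ideal.smul_top_eq_map]
      exact h3
    have h5 : b = algebraMap A B a + (b - algebraMap A B a) := by ring
    rw [h5]
    exact Submodule.add_mem _ (Submodule.mem_sup_left ⟨a, rfl⟩) (Submodule.mem_sup_right h4)
  induction n with
  | zero =>
    intro b _
    apply Submodule.mem_sup_right
    rw [pow_zero, Ideal.one_eq_top, Submodule.top_smul]
    trivial
  | succ n ih =>
    have h2 : (maximalIdeal A ^ n) • (⊤ : Submodule A B) ≤
        LinearMap.range (Algebra.linearMap A B) ⊔
          (maximalIdeal A ^ (n + 1)) • (⊤ : Submodule A B) := by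
      calc (maximalIdeal A ^ n) • (⊤ : Submodule A B)
          ≤ (maximalIdeal A ^ n) • (LinearMap.range (Algebra.linearMap A B) ⊔
              (maximalIdeal A) • (⊤ : Submodule A B)) := Submodule.smul_mono le_rfl h1
        _ = (maximalIdeal A ^ n) • LinearMap.range (Algebra.linearMap A B) ⊔
              (maximalIdeal A ^ n) • ((maximalIdeal A) • (⊤ : Submodule A B)) :=
            Submodule.smul_sup _ _ _
        _ ≤ _ := by
            apply sup_le_sup Submodule.smul_le_right
            rw [← Submodule.mul_smul, ← pow_succ]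
    exact ih.trans (sup_le le_sup_left h2)

theorem pow_le_comap (hm : (maximalIdeal A).map (algebraMap A B) = maximalIdeal B) (n : ℕ) :
    maximalIdeal A ^ n ≤ (maximalIdeal B ^ n).comap (algebraMap A B) := by
  rw [← hm, ← Ideal.map_pow]
  exact Ideal.le_comap_map

/-- the map `A/𝔪ⁿ → B/𝔫ⁿ` -/
noncomputable def quotMap (hm : (maximalIdeal A).map (algebraMap A B) = maximalIdeal B) (n : ℕ) :
    A ⧸ maximalIdeal A ^ n →+* B ⧸ maximalIdeal B ^ n :=
  Ideal.quotientMap (maximalIdeal B ^ n) (algebraMap A B) (pow_le_comap hm n)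

theorem quotMap_mk (hm : (maximalIdeal A).map (algebraMap A B) = maximalIdeal B) (n : ℕ) (a : A) :
    quotMap hm n (Ideal.Quotient.mk _ a) = Ideal.Quotient.mk _ (algebraMap A B a) := rfl

theorem quotMap_bijective [Module.Flat A B]
    (hm : (maximalIdeal A).map (algebraMap A B) = maximalIdeal B)
    (hres : Function.Surjective (IsLocalRing.ResidueField.map (algebraMap A B))) (n : ℕ) :
    Function.Bijective (quotMap hm n) := by
  haveI : Module.FaithfullyFlat A B := Module.FaithfullyFlat.of_flat_of_isLocalHom
  constructor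
  · apply Ideal.quotientMap_injective'
    rw [← hm, ← Ideal.map_pow, Ideal.comap_map_eq_self_of_faithfullyFlat]
  · intro y
    obtain ⟨b, rfl⟩ := Ideal.Quotient.mk_surjective y
    have hb := top_le_range_sup hm hres n (Submodule.mem_top : b ∈ ⊤)
    obtain ⟨u, ⟨a, rfl⟩, v, hv, rfl⟩ := Submodule.mem_sup.mp hb
    refine ⟨Ideal.Quotient.mk _ a, ?_⟩
    rw [quotMap_mk, map_add]
    have hv' : v ∈ maximalIdeal B ^ n := by
      rw [Ideal.smul_top_eq_map, Ideal.map_pow, hm] at hv
      exact hv
    have : Ideal.Quotient.mk (maximalIdeal B ^ n) v = 0 := Ideal.Quotient.eq_zero_iff_mem.mpr hv'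
    rw [this, add_zero]
    rfl

theorem quotMap_factorPow (hm : (maximalIdeal A).map (algebraMap A B) = maximalIdeal B)
    {m n : ℕ} (hle : m ≤ n) (x : A ⧸ maximalIdeal A ^ n) :
    Ideal.Quotient.factorPow (maximalIdeal B) hle (quotMap hm n x) =
      quotMap hm m (Ideal.Quotient.factorPow (maximalIdeal A) hle x) := by
  obtain ⟨a, rfl⟩ := Ideal.Quotient.mk_surjective x
  rfl

/-- completions agree along a flat local homomorphism with `𝔪B = 𝔫` and trivial residue
extension -/
theorem exists_completion_equiv [Module.Flat A B]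
    (hm : (maximalIdeal A).map (algebraMap A B) = maximalIdeal B)
    (hres : Function.Surjective (IsLocalRing.ResidueField.map (algebraMap A B))) :
    ∃ e : AdicCompletion (maximalIdeal B) B ≃+* AdicCompletion (maximalIdeal A) A,
      ∀ a : A, e (algebraMap B (AdicCompletion (maximalIdeal B) B) (algebraMap A B a)) =
        algebraMap A (AdicCompletion (maximalIdeal A) A) a := by
  have hbij := quotMap_bijective hm hres
  obtain ⟨ψ, hψ⟩ : ∃ ψ : ∀ n, (B ⧸ maximalIdeal B ^ n) ≃+* (A ⧸ maximalIdeal A ^ n),
      ∀ n x, ψ n (quotMap hm n x) = x :=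
    ⟨fun n => (RingEquiv.ofBijective (quotMap hm n) (hbij n)).symm,
      fun n x => (RingEquiv.ofBijective (quotMap hm n) (hbij n)).symm_apply_apply x⟩
  have hψ' : ∀ n y, quotMap hm n (ψ n y) = y := by
    intro n y
    obtain ⟨x, rfl⟩ := (hbij n).2 y
    rw [hψ]
  have hψfac : ∀ {m n : ℕ} (hle : m ≤ n) (y : B ⧸ maximalIdeal B ^ n),
      Ideal.Quotient.factorPow (maximalIdeal A) hle (ψ n y) =
        ψ m (Ideal.Quotient.factorPow (maximalIdeal B) hle y) := by
    intro m n hle y
    apply (hbij m).1
    rw [← quotMap_factorPow, hψ', hψ']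
  -- the two maps
  let F : AdicCompletion (maximalIdeal A) A →+* AdicCompletion (maximalIdeal B) B :=
    AdicCompletion.liftRingHom (maximalIdeal B)
      (fun n => (quotMap hm n).comp (AdicCompletion.evalₐ (maximalIdeal A) n).toRingHom)
      (by
        intro m n hle
        ext x
        show Ideal.Quotient.factorPow (maximalIdeal B) hle
          (quotMap hm n (AdicCompletion.evalₐ (maximalIdeal A) n x)) =
            quotMap hm m (AdicCompletion.evalₐ (maximalIdeal A) m x)
        rw [quotMap_factorPow, factorPow_evalₐ])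
  let G : AdicCompletion (maximalIdeal B) B →+* AdicCompletion (maximalIdeal A) A :=
    AdicCompletion.liftRingHom (maximalIdeal A)
      (fun n => (ψ n : _ →+* _).comp (AdicCompletion.evalₐ (maximalIdeal B) n).toRingHom)
      (by
        intro m n hle
        ext x
        show Ideal.Quotient.factorPow (maximalIdeal A) hle
          (ψ n (AdicCompletion.evalₐ (maximalIdeal B) n x)) =
            ψ m (AdicCompletion.evalₐ (maximalIdeal B) m x)
        rw [hψfac, factorPow_evalₐ])
  have hF : ∀ n x, AdicCompletion.evalₐ (maximalIdeal B) n (F x) =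
      quotMap hm n (AdicCompletion.evalₐ (maximalIdeal A) n x) := by
    intro n x
    exact AdicCompletion.evalₐ_liftRingHom _ _ _ n x
  have hG : ∀ n y, AdicCompletion.evalₐ (maximalIdeal A) n (G y) =
      ψ n (AdicCompletion.evalₐ (maximalIdeal B) n y) := by
    intro n y
    exact AdicCompletion.evalₐ_liftRingHom _ _ _ n y
  have hGF : ∀ x, G (F x) = x := by
    intro x
    apply AdicCompletion.ext_evalₐ
    intro n
    rw [hG, hF, hψ]
  have hFG : ∀ y, F (G y) = y := by
    intro y
    apply AdicCompletion.ext_evalₐ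
    intro n
    rw [hF, hG, hψ']
  refine ⟨RingEquiv.ofRingHom G F (RingHom.ext hGF) (RingHom.ext hFG), ?_⟩
  intro a
  show G _ = _
  apply AdicCompletion.ext_evalₐ
  intro n
  rw [hG]
  have h1 : AdicCompletion.evalₐ (maximalIdeal B) n
      (algebraMap B (AdicCompletion (maximalIdeal B) B) (algebraMap A B a)) =
        Ideal.Quotient.mk _ (algebraMap A B a) := AdicCompletion.evalₐ_of _ n _
  have h2 : AdicCompletion.evalₐ (maximalIdeal A) n
      (algebraMap A (AdicCompletion (maximalIdeal A) A) a) = Ideal.Quotient.mk _ a :=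
    AdicCompletion.evalₐ_of _ n _
  rw [h1, h2, ← quotMap_mk hm n a, hψ]

end Groth.Agent.Lib.Helper22.Nod
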