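import Mathlib
import Groth.Prelude.Def_CurvBase
import Groth.Agent.Lib.Helper22.NodA

/-!
# Ordinary double points pass up along flat unramified local homomorphisms (helper22)
-/

set_option autoImplicit false

universe u

open IsLocalRing

namespace Groth.Agent.Lib.Helper22.Nod

variable (K : Type u) [Field K]

/-- the augmentation `K[[x,y]]/(xy) → K` -/
noncomputable def eps : (MvPowerSeries (Fin 2) K ⧸ Ideal.span
    {(MvPowerSeries.X 0 * MvPowerSeries.X 1 : MvPowerSeries (Fin 2) K)}) →+* K :=
  Ideal.Quotient.lift _ (MvPowerSeries.constantCoeff (σ := Fin 2) (R := K)) (by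
    intro a ha
    have hle : Ideal.span {(MvPowerSeries.X 0 * MvPowerSeries.X 1 : MvPowerSeries (Fin 2) K)} ≤
        RingHom.ker (MvPowerSeries.constantCoeff (σ := Fin 2) (R := K)) := by
      rw [Ideal.span_le, Set.singleton_subset_iff, SetLike.mem_coe, RingHom.mem_ker, map_mul,
        MvPowerSeries.constantCoeff_X, zero_mul]
    exact hle ha)

theorem eps_mk_C (c : K) : eps K (Ideal.Quotient.mk _ (MvPowerSeries.C c)) = c := by
  unfold eps
  rw [Ideal.Quotient.lift_mk]
  exact MvPowerSeries.constantCoeff_C c

variable {A : Type u} [CommRing A] [Algebra K A] [IsLocalRing A] [IsNoetherianRing A]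

/-- the residue field of an ordinary double point over `K` is `K` -/
theorem residue_algebraMap_surjective (hA : Curv2.IsOrdDoublePt K A) :
    Function.Surjective ((residue A).comp (algebraMap K A)) := by
  obtain ⟨e, he⟩ := hA
  intro r
  obtain ⟨a, rfl⟩ := residue_surjective r
  refine ⟨eps K (e (algebraMap A _ a)), ?_⟩
  obtain ⟨c, hc⟩ : ∃ c : K, c = eps K (e (algebraMap A _ a)) := ⟨_, rfl⟩
  rw [← hc]
  show residue A (algebraMap K A c) = residue A a
  rw [← sub_eq_zero, ← map_sub, residue_eq_zero_iff]
  by_contra hnot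
  have hu : IsUnit (algebraMap K A c - a) := IsLocalRing.notMem_maximalIdeal.mp hnot
  have hu2 : IsUnit (eps K (e (algebraMap A (AdicCompletion (maximalIdeal A) A)
      (algebraMap K A c - a)))) :=
    ((hu.map (algebraMap A (AdicCompletion (maximalIdeal A) A))).map e).map (eps K)
  rw [map_sub, map_sub, map_sub, he, eps_mk_C, ← hc, sub_self] at hu2
  exact not_isUnit_zero hu2

variable {B : Type u} [CommRing B] [Algebra K B] [Algebra A B] [IsScalarTower K A B]
  [IsLocalRing B] [IsLocalHom (algebraMap A B)] [Module.Flat A B]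

theorem isOrdDoublePt_of_flat [IsAlgClosed K]
    (hm : (maximalIdeal A).map (algebraMap A B) = maximalIdeal B)
    (hint : (IsLocalRing.ResidueField.map (algebraMap A B)).IsIntegral)
    (hA : Curv2.IsOrdDoublePt K A) : Curv2.IsOrdDoublePt K B := by
  have h1 := residue_algebraMap_surjective K hA
  have hres : Function.Surjective (IsLocalRing.ResidueField.map (algebraMap A B)) := by
    have hcomp : ((IsLocalRing.ResidueField.map (algebraMap A B)).comp
        ((residue A).comp (algebraMap K A))).IsIntegral :=
      RingHom.IsIntegral.trans _ _ (RingHom.isIntegral_of_surjective _ h1) hint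
    have hsurj := (IsAlgClosed.ringHom_bijective_of_isIntegral _ hcomp).2
    intro y
    obtain ⟨c, hc⟩ := hsurj y
    exact ⟨((residue A).comp (algebraMap K A)) c, hc⟩
  obtain ⟨e', he'⟩ := exists_completion_equiv (A := A) (B := B) hm hres
  obtain ⟨e, he⟩ := hA
  refine ⟨e'.trans e, fun c => ?_⟩
  show e (e' _) = _
  rw [IsScalarTower.algebraMap_apply K A B, he', he]

end Groth.Agent.Lib.Helper22.Nod
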