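import Mathlib
import Groth.Prelude.Def_CurvBase
import Groth.Agent.Lib.Helper22.NodB
import Groth.Agent.Lib.Helper22.CurveOmega2

/-!
# Ordinary double points pass up along étale morphisms (helper22)
-/

set_option autoImplicit false

universe u

open IsLocalRing AlgebraicGeometry CategoryTheory

namespace Groth.Agent.Lib.Helper22.Nod

theorem isOrdDoublePt_of_etale (K : Type u) [Field K] [IsAlgClosed K] {X Y : Scheme.{u}}
    (p : Y ⟶ Spec (CommRingCat.of K)) (q : X ⟶ Spec (CommRingCat.of K)) (h : Y ⟶ X)
    (hh : h ≫ q = p) [Etale h] [IsLocallyNoetherian X] (y : Y)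
    (hx : letI : X.Over (Spec (CommRingCat.of K)) := ⟨q⟩
      letI := Curv2.stalkAlgebra K X (h y)
      Curv2.IsOrdDoublePt K (X.presheaf.stalk (h y))) :
    letI : Y.Over (Spec (CommRingCat.of K)) := ⟨p⟩
    letI := Curv2.stalkAlgebra K Y y
    Curv2.IsOrdDoublePt K (Y.presheaf.stalk y) := by
  letI ovX : X.Over (Spec (CommRingCat.of K)) := ⟨q⟩
  letI ovY : Y.Over (Spec (CommRingCat.of K)) := ⟨p⟩
  letI algA := Curv2.stalkAlgebra K X (h y)
  letI algB := Curv2.stalkAlgebra K Y y
  letI algAB : Algebra (X.presheaf.stalk (h y)) (Y.presheaf.stalk y) :=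
    (h.stalkMap y).hom.toAlgebra
  haveI : IsScalarTower K (X.presheaf.stalk (h y)) (Y.presheaf.stalk y) :=
    IsScalarTower.of_algebraMap_eq (fun c =>
      (Groth.Agent.Lib.Helper22.CurveOmega.stalkMap_stalkMap K p q h hh y c).symm)
  haveI : IsLocalHom (algebraMap (X.presheaf.stalk (h y)) (Y.presheaf.stalk y)) :=
    inferInstanceAs <| IsLocalHom (h.stalkMap y).hom
  haveI : Module.Flat (X.presheaf.stalk (h y)) (Y.presheaf.stalk y) := Flat.stalkMap h y
  haveI : Algebra.EssFiniteType (X.presheaf.stalk (h y)) (Y.presheaf.stalk y) := by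
    rw [← RingHom.essFiniteType_algebraMap, RingHom.algebraMap_toAlgebra]
    exact LocallyOfFiniteType.stalkMap h y
  haveI : Algebra.FormallyUnramified (X.presheaf.stalk (h y)) (Y.presheaf.stalk y) := by
    rw [← RingHom.formallyUnramified_algebraMap, RingHom.algebraMap_toAlgebra]
    exact FormallyUnramified.stalkMap h y
  have hm : (maximalIdeal (X.presheaf.stalk (h y))).map
      (algebraMap (X.presheaf.stalk (h y)) (Y.presheaf.stalk y)) =
      maximalIdeal (Y.presheaf.stalk y) := Algebra.FormallyUnramified.map_maximalIdeal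
  haveI : Module.Finite (ResidueField (X.presheaf.stalk (h y)))
      (ResidueField (Y.presheaf.stalk y)) := inferInstance
  have hint : (IsLocalRing.ResidueField.map
      (algebraMap (X.presheaf.stalk (h y)) (Y.presheaf.stalk y))).IsIntegral := by
    have : Algebra.IsIntegral (ResidueField (X.presheaf.stalk (h y)))
      (ResidueField (Y.presheaf.stalk y)) := Algebra.IsIntegral.of_finite _ _
    exact algebraMap_isIntegral_iff.mpr this
  exact isOrdDoublePt_of_flat K hm hint hx

end Groth.Agent.Lib.Helper22.Nod
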