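import Mathlib
import Groth.Prelude.Def_CurvBase
import Groth.Agent.Lib.Helper12.EquidimSub
import Groth.Agent.Lib.Helper12.QFAffine
import Groth.Agent.Lib.Helper12.JacDim
import Groth.Agent.Lib.Helper12.IrrFibres
import Groth.Agent.Lib.Helper22.LieGenE

/-!
# Fibre dimensions are unchanged by precomposing with an étale morphism (helper22)
-/

set_option autoImplicit false
set_option linter.style.haveILetI false

universe u

open AlgebraicGeometry CategoryTheory

namespace Groth.Agent.Lib.Helper22.Nod

open Groth.Agent.Lib.Helper12 Groth.Agent.Lib.Helper12.SchemeDimFT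
  Groth.Agent.Lib.Helper12.SchemeDimIneq Groth.Agent.Lib.Helper12.Equidim
  Groth.Agent.Lib.Helper12.EquidimSub

theorem dim_components_fiber_comp {X Y S : Scheme.{u}} (f : X ⟶ S) [LocallyOfFiniteType f]
    (g : Y ⟶ X) [Etale g] (s : S) (e : ℕ)
    (hf : ∀ Z ∈ irreducibleComponents (f.fiber s : Type u),
      topologicalKrullDim (↥Z : Type u) = e) :
    ∀ Z ∈ irreducibleComponents ((g ≫ f).fiber s : Type u),
      topologicalKrullDim (↥Z : Type u) = e := by
  intro Z hZ
  haveI : LocallyQuasiFinite g :=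
    Groth.Agent.Lib.Helper22.LieGen.locallyQuasiFinite_of_formallyUnramified g
  obtain ⟨w, hw, hmax, hdim⟩ := exists_of_mem_irreducibleComponents_fiber (g ≫ f) s Z hZ
  rw [hdim, Groth.Agent.Lib.Helper12.JacDim.trn_comp g f w,
    Groth.Agent.Lib.Helper12.QFAffine.trn_eq_zero_of_locallyQuasiFinite g w, add_zero]
  have hz : f (g w) = s := hw
  have hmaxz : ∀ z' : X, f z' = f (g w) → z' ⤳ g w → z' = g w := by
    intro z' hz' hsp
    obtain ⟨w', hw', hgw'⟩ := Flat.generalizingMap g hsp
    have h1 : (g ≫ f) w' = s := by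
      show f (g w') = s
      rw [hgw', hz', hz]
    rw [← hgw', hmax w' h1 hw']
  subst hz
  letI ovF : (f.fiber (f (g w))).Over (Spec (CommRingCat.of (S.residueField (f (g w))))) :=
    ⟨f.fiberToSpecResidueField _⟩
  haveI : LocallyOfFiniteType ((f.fiber (f (g w))) ↘
      Spec (CommRingCat.of (S.residueField (f (g w))))) :=
    FibreRes.locallyOfFiniteType_fiberToSpecResidueField f _
  have hmaxF : IsMaxPt (f.asFiber (g w)) := by
    intro v hv
    have h2 := hv.map (f.fiberι _).continuous
    rw [f.fiberι_asFiber] at h2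
    have h3 : f (f.fiberι _ v) = f (g w) := apply_fiberι f _ v
    have h4 := hmaxz _ h3 h2
    exact (f.fiberι _).isEmbedding.injective (h4.trans (f.fiberι_asFiber _).symm)
  have h6 := tr_eq_of_isMaxPt (S.residueField (f (g w))) (f.fiber (f (g w))) e hf _ hmaxF
  have h7 := trn_eq_tr f (g w)
  rw [h6] at h7
  rw [h7]
  rfl

end Groth.Agent.Lib.Helper22.Nod
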