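import Mathlib
import Groth.Prelude.Def_CurvBase
import Groth.Agent.Lib.Helper12.IrrFibres
import Groth.Agent.Lib.Helper22.NodC

/-!
# At-worst-nodal singularities pass up along étale morphisms (helper22)
-/

set_option autoImplicit false
set_option linter.style.haveILetI false

universe u

open AlgebraicGeometry CategoryTheory CategoryTheory.Limits

namespace Groth.Agent.Lib.Helper22.Nod

section bc

variable (k : Type u) [Field k] {X Y : Scheme.{u}} (p : Y ⟶ Spec (CommRingCat.of k))
  (q : X ⟶ Spec (CommRingCat.of k)) (h : Y ⟶ X) (hh : h ≫ q = p)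
  (K : Type u) [Field K] [Algebra k K]

/-- the base change of `h` to `K` -/
noncomputable def bcMap :
    pullback p (Spec.map (CommRingCat.ofHom (algebraMap k K))) ⟶
      pullback q (Spec.map (CommRingCat.ofHom (algebraMap k K))) :=
  pullback.lift (pullback.fst _ _ ≫ h) (pullback.snd _ _) (by
    rw [Category.assoc, hh]; exact pullback.condition)

theorem bcMap_fst : bcMap k p q h hh K ≫ pullback.fst _ _ = pullback.fst _ _ ≫ h :=
  pullback.lift_fst _ _ _

theorem bcMap_snd : bcMap k p q h hh K ≫ pullback.snd _ _ = pullback.snd _ _ :=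
  pullback.lift_snd _ _ _

theorem isPullback_bcMap :
    IsPullback (bcMap k p q h hh K) (pullback.fst p _) (pullback.fst q _) h := by
  refine IsPullback.of_right ?_ (bcMap_fst k p q h hh K) (IsPullback.of_hasPullback q _).flip
  rw [bcMap_snd, hh]
  exact (IsPullback.of_hasPullback p _).flip

instance [Etale h] : Etale (bcMap k p q h hh K) :=
  MorphismProperty.of_isPullback (P := @Etale) (isPullback_bcMap k p q h hh K).flip inferInstance

end bc

section node

variable (k : Type u) [Field k] {X Y : Scheme.{u}} (p : Y ⟶ Spec (CommRingCat.of k))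
  (q : X ⟶ Spec (CommRingCat.of k)) (h : Y ⟶ X) (hh : h ≫ q = p)

include hh in
theorem isNode_of_etale [LocallyOfFiniteType q] [Etale h] (y : Y)
    (hy : IsClosed ({y} : Set Y))
    (hx : letI : X.Over (Spec (CommRingCat.of k)) := ⟨q⟩
      Curv2.IsNode k X (h y)) :
    letI : Y.Over (Spec (CommRingCat.of k)) := ⟨p⟩
    Curv2.IsNode k Y y := by
  letI ovX : X.Over (Spec (CommRingCat.of k)) := ⟨q⟩
  letI ovY : Y.Over (Spec (CommRingCat.of k)) := ⟨p⟩
  obtain ⟨-, xb, hxb, hodp⟩ := hx
  refine ⟨hy, ?_⟩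
  obtain ⟨yb, hyb1, hyb2⟩ := Scheme.exists_preimage_of_isPullback
    (isPullback_bcMap k p q h hh (AlgebraicClosure k)) xb y hxb
  subst hyb1
  refine ⟨yb, hyb2, ?_⟩
  haveI : LocallyOfFiniteType (pullback.snd q
      (Spec.map (CommRingCat.ofHom (algebraMap k (AlgebraicClosure k))))) := inferInstance
  haveI : IsLocallyNoetherian (pullback q
      (Spec.map (CommRingCat.ofHom (algebraMap k (AlgebraicClosure k))))) :=
    LocallyOfFiniteType.isLocallyNoetherian (pullback.snd q _)
  exact isOrdDoublePt_of_etale (AlgebraicClosure k) (pullback.snd p _) (pullback.snd q _)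
    (bcMap k p q h hh (AlgebraicClosure k)) (bcMap_snd k p q h hh (AlgebraicClosure k)) yb hodp

include hh in
theorem atWorstNodal_of_etale [LocallyOfFiniteType q] [Etale h]
    (hX : letI : X.Over (Spec (CommRingCat.of k)) := ⟨q⟩
      Curv2.AtWorstNodal k X) :
    letI : Y.Over (Spec (CommRingCat.of k)) := ⟨p⟩
    Curv2.AtWorstNodal k Y := by
  letI ovX : X.Over (Spec (CommRingCat.of k)) := ⟨q⟩
  letI ovY : Y.Over (Spec (CommRingCat.of k)) := ⟨p⟩
  intro y hy
  haveI : LocallyOfFiniteType h := inferInstance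
  have hcl : IsClosed ({h y} : Set X) :=
    Groth.Agent.Lib.Helper12.IrrFibres.isClosed_apply k q h y hy
  rcases hX (h y) hcl with ⟨U, hxU, hsm⟩ | hnode
  · left
    refine ⟨h ⁻¹ᵁ U, hxU, ?_⟩
    have h1 : (h ⁻¹ᵁ U).ι ≫ (Y ↘ Spec (CommRingCat.of k)) =
        (h ∣_ U) ≫ U.ι ≫ (X ↘ Spec (CommRingCat.of k)) := by
      show (h ⁻¹ᵁ U).ι ≫ p = (h ∣_ U) ≫ U.ι ≫ q
      rw [← hh, ← Category.assoc, ← Category.assoc, morphismRestrict_ι]
    rw [h1]
    haveI : Smooth (U.ι ≫ (X ↘ Spec (CommRingCat.of k))) := hsm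
    haveI : Etale (h ∣_ U) := inferInstance
    infer_instance
  · right
    exact isNode_of_etale k p q h hh y hy hnode

end node

end Groth.Agent.Lib.Helper22.Nod
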