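import Mathlib
import Groth.Prelude.Def_CurvBase
import Groth.Agent.Lib.Helper22.NodD
import Groth.Agent.Lib.Helper22.NodE

/-!
# An at-worst-nodal family precomposed with an étale morphism is at-worst-nodal (helper22)
-/

set_option autoImplicit false
set_option linter.style.haveILetI false

universe u

open AlgebraicGeometry CategoryTheory CategoryTheory.Limits

namespace Groth.Agent.Lib.Helper22.Nod

section fib

variable {X Y S : Scheme.{u}} (f : X ⟶ S) (g : Y ⟶ X) (s : S)

/-- the induced map on fibres -/
noncomputable def fibMap : (g ≫ f).fiber s ⟶ f.fiber s :=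
  pullback.lift ((g ≫ f).fiberι s ≫ g) ((g ≫ f).fiberToSpecResidueField s) (by
    rw [Category.assoc]; exact pullback.condition)

theorem fibMap_fst : fibMap f g s ≫ f.fiberι s = (g ≫ f).fiberι s ≫ g :=
  pullback.lift_fst _ _ _

theorem fibMap_snd :
    fibMap f g s ≫ f.fiberToSpecResidueField s = (g ≫ f).fiberToSpecResidueField s :=
  pullback.lift_snd _ _ _

theorem isPullback_fibMap :
    IsPullback (fibMap f g s) ((g ≫ f).fiberι s) (f.fiberι s) g := by
  have houter : IsPullback (fibMap f g s ≫ f.fiberToSpecResidueField s) ((g ≫ f).fiberι s)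
      (S.fromSpecResidueField s) (g ≫ f) := by
    rw [fibMap_snd]
    exact (IsPullback.of_hasPullback (g ≫ f) (S.fromSpecResidueField s)).flip
  exact IsPullback.of_right houter (fibMap_fst f g s)
    (IsPullback.of_hasPullback f (S.fromSpecResidueField s)).flip

instance [Etale g] : Etale (fibMap f g s) :=
  MorphismProperty.of_isPullback (P := @Etale) (isPullback_fibMap f g s).flip inferInstance

end fib

theorem isNodalFamily_comp {X Y S : Scheme.{u}} (f : X ⟶ S) (hf : Curv2.IsNodalFamily f)
    (g : Y ⟶ X) [Etale g] : Curv2.IsNodalFamily (g ≫ f) := by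
  obtain ⟨hflat, hlfp, hfib⟩ := hf
  haveI := hflat
  haveI := hlfp
  refine ⟨inferInstance, inferInstance, fun s => ⟨?_, ?_⟩⟩
  · have h1 := dim_components_fiber_comp f g s 1 (by
      intro Z hZ
      rw [(hfib s).1 Z hZ]
      rfl)
    intro Z hZ
    rw [h1 Z hZ]
    rfl
  · haveI : LocallyOfFiniteType (f.fiberToSpecResidueField s) := by
      change LocallyOfFiniteType (pullback.snd f (S.fromSpecResidueField s))
      infer_instance
    exact atWorstNodal_of_etale (S.residueField s) ((g ≫ f).fiberToSpecResidueField s)
      (f.fiberToSpecResidueField s) (fibMap f g s) (fibMap_snd f g s) (hfib s).2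

end Groth.Agent.Lib.Helper22.Nod
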