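import Mathlib
import Groth.Prelude.Def_CurvBase
import Groth.Agent.Lib.Helper12.EquidimSub
import Groth.Agent.Lib.Helper12.QFAffine
import Groth.Agent.Lib.Helper12.JacDim
import Groth.Agent.Lib.Helper22.LieGenE

/-!
# Fibres of `f ≫ e` for `e` étale: dimension, and the open immersion of the fibres of `f`
(helper22)
-/

set_option autoImplicit false
set_option linter.style.haveILetI false

universe u

open AlgebraicGeometry CategoryTheory CategoryTheory.Limits IsLocalRing

namespace Groth.Agent.Lib.Helper22.Nod

open Groth.Agent.Lib.Helper12 Groth.Agent.Lib.Helper12.SchemeDimFT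
  Groth.Agent.Lib.Helper12.SchemeDimIneq Groth.Agent.Lib.Helper12.Equidim
  Groth.Agent.Lib.Helper12.EquidimSub

theorem dim_components_fiber_postcomp {X S S' : Scheme.{u}} (e : S' ⟶ S) [Etale e]
    (f : X ⟶ S') [LocallyOfFiniteType f] (s : S) (d : ℕ)
    (hf : ∀ s' : S', ∀ Z ∈ irreducibleComponents (f.fiber s' : Type u),
      topologicalKrullDim (↥Z : Type u) = d) :
    ∀ Z ∈ irreducibleComponents ((f ≫ e).fiber s : Type u),
      topologicalKrullDim (↥Z : Type u) = d := by
  intro Z hZ
  haveI : LocallyQuasiFinite e :=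
    Groth.Agent.Lib.Helper22.LieGen.locallyQuasiFinite_of_formallyUnramified e
  obtain ⟨w, hw, hmax, hdim⟩ := exists_of_mem_irreducibleComponents_fiber (f ≫ e) s Z hZ
  rw [hdim, Groth.Agent.Lib.Helper12.JacDim.trn_comp f e w,
    Groth.Agent.Lib.Helper12.QFAffine.trn_eq_zero_of_locallyQuasiFinite e (f w), zero_add]
  have hmaxz : ∀ z' : X, f z' = f w → z' ⤳ w → z' = w := by
    intro z' hz' hsp
    refine hmax z' ?_ hsp
    show e (f z') = s
    rw [hz']
    exact hw
  letI ovF : (f.fiber (f w)).Over (Spec (CommRingCat.of (S'.residueField (f w)))) :=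
    ⟨f.fiberToSpecResidueField _⟩
  haveI : LocallyOfFiniteType ((f.fiber (f w)) ↘
      Spec (CommRingCat.of (S'.residueField (f w)))) :=
    FibreRes.locallyOfFiniteType_fiberToSpecResidueField f _
  have hmaxF : IsMaxPt (f.asFiber w) := by
    intro v hv
    have h2 := hv.map (f.fiberι _).continuous
    rw [f.fiberι_asFiber] at h2
    have h3 : f (f.fiberι _ v) = f w := apply_fiberι f _ v
    have h4 := hmaxz _ h3 h2
    exact (f.fiberι _).isEmbedding.injective (h4.trans (f.fiberι_asFiber _).symm)
  have h6 := tr_eq_of_isMaxPt (S'.residueField (f w)) (f.fiber (f w)) d (hf (f w)) _ hmaxF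
  have h7 := trn_eq_tr f w
  rw [h6] at h7
  rw [h7]
  rfl

/-- the residue field extension of an unramified morphism locally of finite type is étale -/
theorem etale_residueFieldMap {X Y : Scheme.{u}} (f : X ⟶ Y) [FormallyUnramified f]
    [LocallyOfFiniteType f] (x : X) : (f.residueFieldMap x).hom.Etale := by
  algebraize [(f.stalkMap x).hom]
  have : IsLocalHom (algebraMap (Y.presheaf.stalk (f x)) (X.presheaf.stalk x)) :=
    inferInstanceAs <| IsLocalHom (f.stalkMap x).hom
  have : Algebra.EssFiniteType (Y.presheaf.stalk (f x)) (X.presheaf.stalk x) := by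
    rw [← RingHom.essFiniteType_algebraMap, RingHom.algebraMap_toAlgebra]
    exact LocallyOfFiniteType.stalkMap f x
  have : Algebra.FormallyUnramified (Y.presheaf.stalk (f x)) (X.presheaf.stalk x) := by
    rw [← RingHom.formallyUnramified_algebraMap, RingHom.algebraMap_toAlgebra]
    exact FormallyUnramified.stalkMap f x
  have hsep : Algebra.IsSeparable (ResidueField (Y.presheaf.stalk (f x)))
      (ResidueField (X.presheaf.stalk x)) := inferInstance
  have hfin : Module.Finite (ResidueField (Y.presheaf.stalk (f x)))
      (ResidueField (X.presheaf.stalk x)) := inferInstance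
  have hfe : Algebra.FormallyEtale (ResidueField (Y.presheaf.stalk (f x)))
      (ResidueField (X.presheaf.stalk x)) := Algebra.FormallyEtale.of_isSeparable _ _
  have hfp : Algebra.FinitePresentation (ResidueField (Y.presheaf.stalk (f x)))
      (ResidueField (X.presheaf.stalk x)) :=
    Algebra.FinitePresentation.of_finiteType.mp inferInstance
  have hEt : Algebra.Etale (ResidueField (Y.presheaf.stalk (f x)))
      (ResidueField (X.presheaf.stalk x)) := ⟨hfe, hfp⟩
  have h1 : RingHom.Etale (algebraMap (ResidueField (Y.presheaf.stalk (f x)))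
      (ResidueField (X.presheaf.stalk x))) := RingHom.etale_algebraMap.mpr hEt
  exact h1

end Groth.Agent.Lib.Helper22.Nod
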