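import Mathlib
import Groth.Prelude.Def_CurvBase
import Groth.Agent.Lib.Helper22.NodB

/-!
# Ordinary double points: descent along flat unramified local homomorphisms, and change of
the coefficient field along a ring isomorphism (helper22)
-/

set_option autoImplicit false

universe u

open IsLocalRing

namespace Groth.Agent.Lib.Helper22.Nod

section rev

variable (K : Type u) [Field K]
variable {A : Type u} [CommRing A] [Algebra K A] [IsLocalRing A]
variable {B : Type u} [CommRing B] [Algebra K B] [Algebra A B] [IsScalarTower K A B]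
  [IsLocalRing B] [IsNoetherianRing B] [IsLocalHom (algebraMap A B)] [Module.Flat A B]

/-- ordinary double points descend along flat local homomorphisms with `𝔪B = 𝔫` -/
theorem isOrdDoublePt_of_flat_rev
    (hm : (maximalIdeal A).map (algebraMap A B) = maximalIdeal B)
    (hB : Curv2.IsOrdDoublePt K B) : Curv2.IsOrdDoublePt K A := by
  have h1 := residue_algebraMap_surjective K hB
  have hres : Function.Surjective (IsLocalRing.ResidueField.map (algebraMap A B)) := by
    intro y
    obtain ⟨c, hc⟩ := h1 y
    refine ⟨residue A (algebraMap K A c), ?_⟩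
    rw [← hc]
    show residue B (algebraMap A B (algebraMap K A c)) = residue B (algebraMap K B c)
    rw [← IsScalarTower.algebraMap_apply]
  obtain ⟨e', he'⟩ := exists_completion_equiv (A := A) (B := B) hm hres
  obtain ⟨e, he⟩ := hB
  refine ⟨e'.symm.trans e, fun c => ?_⟩
  show e (e'.symm _) = _
  rw [← he' (algebraMap K A c), RingEquiv.symm_apply_apply,
    ← IsScalarTower.algebraMap_apply K A B, he]

end rev

section semilinear

variable {K K' : Type u} [Field K] [Field K'] (τ : K ≃+* K')

/-- the ring isomorphism `K[[x,y]]/(xy) ≃ K'[[x,y]]/(xy)` induced by `τ : K ≃ K'` -/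
noncomputable def nodeEquiv :
    (MvPowerSeries (Fin 2) K ⧸ Ideal.span
      {(MvPowerSeries.X 0 * MvPowerSeries.X 1 : MvPowerSeries (Fin 2) K)}) ≃+*
    (MvPowerSeries (Fin 2) K' ⧸ Ideal.span
      {(MvPowerSeries.X 0 * MvPowerSeries.X 1 : MvPowerSeries (Fin 2) K')}) :=
  Ideal.quotientEquiv _ _
    (RingEquiv.ofRingHom (MvPowerSeries.map (σ := Fin 2) τ.toRingHom)
      (MvPowerSeries.map (σ := Fin 2) τ.symm.toRingHom)
      (by
        rw [← MvPowerSeries.map_comp]
        have : τ.toRingHom.comp τ.symm.toRingHom = RingHom.id K' := by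
          ext x; simp
        rw [this, MvPowerSeries.map_id])
      (by
        rw [← MvPowerSeries.map_comp]
        have : τ.symm.toRingHom.comp τ.toRingHom = RingHom.id K := by
          ext x; simp
        rw [this, MvPowerSeries.map_id]))
    (by
      rw [Ideal.map_span, Set.image_singleton]
      congr 2
      show _ = MvPowerSeries.map (σ := Fin 2) τ.toRingHom _
      rw [map_mul, MvPowerSeries.map_X, MvPowerSeries.map_X])

theorem nodeEquiv_mk_C (c : K) :
    nodeEquiv τ (Ideal.Quotient.mk _ (MvPowerSeries.C c)) =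
      Ideal.Quotient.mk _ (MvPowerSeries.C (τ c)) := by
  unfold nodeEquiv
  rw [Ideal.quotientEquiv_mk]
  congr 1
  show MvPowerSeries.map (σ := Fin 2) τ.toRingHom _ = _
  rw [MvPowerSeries.map_C]
  rfl

/-- an ordinary double point over `K'` is one over `K` when `K ≃ K'` compatibly -/
theorem isOrdDoublePt_of_ringEquiv {A : Type u} [CommRing A] [IsLocalRing A]
    [Algebra K A] [Algebra K' A] (hτ : ∀ c : K, algebraMap K' A (τ c) = algebraMap K A c)
    (hA : Curv2.IsOrdDoublePt K' A) : Curv2.IsOrdDoublePt K A := by
  obtain ⟨e, he⟩ := hA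
  refine ⟨e.trans (nodeEquiv τ).symm, fun c => ?_⟩
  show (nodeEquiv τ).symm (e _) = _
  rw [← hτ c, he, RingEquiv.symm_apply_eq, nodeEquiv_mk_C]

end semilinear

end Groth.Agent.Lib.Helper22.Nod
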