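import Mathlib
import Groth.Prelude.Def_CurvBase
import Groth.Agent.Lib.Helper22.NodH
import Groth.Agent.Lib.Helper22.CurveOmega2

/-!
# Ordinary double points descend along étale morphisms, semilinearly in the base field
(helper22)
-/

set_option autoImplicit false
set_option linter.style.haveILetI false

universe u

open IsLocalRing AlgebraicGeometry CategoryTheory

namespace Groth.Agent.Lib.Helper22.Nod

theorem toGlobal_comp_SpecMap {K K' : Type u} [Field K] [Field K'] (τ : K →+* K')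
    {Y : Scheme.{u}} (p : Y ⟶ Spec (CommRingCat.of K')) (c : K) :
    Coh.toGlobal (p ≫ Spec.map (CommRingCat.ofHom τ)) c = Coh.toGlobal p (τ c) := by
  show (p ≫ Spec.map (CommRingCat.ofHom τ)).appTop.hom
      ((Scheme.ΓSpecIso (CommRingCat.of K)).inv.hom c) =
    p.appTop.hom ((Scheme.ΓSpecIso (CommRingCat.of K')).inv.hom (τ c))
  rw [Scheme.Hom.comp_appTop, CommRingCat.hom_comp, RingHom.comp_apply]
  have h := Scheme.ΓSpecIso_inv_naturality (CommRingCat.ofHom τ)
  have h2 : (Scheme.ΓSpecIso (CommRingCat.of K')).inv.hom (τ c) =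
      (Spec.map (CommRingCat.ofHom τ)).appTop.hom
        ((Scheme.ΓSpecIso (CommRingCat.of K)).inv.hom c) :=
    congrArg (fun φ => φ.hom c) h
  rw [h2]

/-- semilinear version of `CurveOmega.stalkMap_stalkMap` -/
theorem stalkMap_stalkMap_semilinear {K K' : Type u} [Field K] [Field K'] (τ : K →+* K')
    {X Y : Scheme.{u}} (p : Y ⟶ Spec (CommRingCat.of K')) (q : X ⟶ Spec (CommRingCat.of K))
    (h : Y ⟶ X) (hh : h ≫ q = p ≫ Spec.map (CommRingCat.ofHom τ)) (y : Y) (c : K) :
    letI : Y.Over (Spec (CommRingCat.of K')) := ⟨p⟩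
    letI : X.Over (Spec (CommRingCat.of K)) := ⟨q⟩
    (h.stalkMap y).hom (Curv2.stalkMap K X (h y) c) = Curv2.stalkMap K' Y y (τ c) := by
  have h1 := Groth.Agent.Lib.Helper22.CurveOmega.stalkMap_stalkMap K
    (p ≫ Spec.map (CommRingCat.ofHom τ)) q h hh y c
  refine h1.trans ?_
  show (Y.presheaf.germ ⊤ y trivial).hom (Coh.toGlobal (p ≫ Spec.map (CommRingCat.ofHom τ)) c) =
    (Y.presheaf.germ ⊤ y trivial).hom (Coh.toGlobal p (τ c))
  rw [toGlobal_comp_SpecMap]

theorem isOrdDoublePt_of_etale_semilinear {K K' : Type u} [Field K] [Field K'] (τ : K ≃+* K')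
    {X Y : Scheme.{u}}
    (p : Y ⟶ Spec (CommRingCat.of K')) (q : X ⟶ Spec (CommRingCat.of K)) (h : Y ⟶ X)
    (hh : h ≫ q = p ≫ Spec.map (CommRingCat.ofHom τ.toRingHom)) [Etale h]
    [IsLocallyNoetherian Y] (y : Y)
    (hy : letI : Y.Over (Spec (CommRingCat.of K')) := ⟨p⟩
      letI := Curv2.stalkAlgebra K' Y y
      Curv2.IsOrdDoublePt K' (Y.presheaf.stalk y)) :
    letI : X.Over (Spec (CommRingCat.of K)) := ⟨q⟩
    letI := Curv2.stalkAlgebra K X (h y)
    Curv2.IsOrdDoublePt K (X.presheaf.stalk (h y)) := by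
  letI ovX : X.Over (Spec (CommRingCat.of K)) := ⟨q⟩
  letI ovY : Y.Over (Spec (CommRingCat.of K')) := ⟨p⟩
  letI algA := Curv2.stalkAlgebra K X (h y)
  letI algB' := Curv2.stalkAlgebra K' Y y
  letI algB : Algebra K (Y.presheaf.stalk y) :=
    ((Curv2.stalkMap K' Y y).comp τ.toRingHom).toAlgebra
  letI algAB : Algebra (X.presheaf.stalk (h y)) (Y.presheaf.stalk y) :=
    (h.stalkMap y).hom.toAlgebra
  haveI : IsScalarTower K (X.presheaf.stalk (h y)) (Y.presheaf.stalk y) :=
    IsScalarTower.of_algebraMap_eq (fun c =>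
      (stalkMap_stalkMap_semilinear τ.toRingHom p q h hh y c).symm)
  haveI : IsLocalHom (algebraMap (X.presheaf.stalk (h y)) (Y.presheaf.stalk y)) :=
    inferInstanceAs <| IsLocalHom (h.stalkMap y).hom
  haveI : Module.Flat (X.presheaf.stalk (h y)) (Y.presheaf.stalk y) := Flat.stalkMap h y
  haveI : Algebra.EssFiniteType (X.presheaf.stalk (h y)) (Y.presheaf.stalk y) := by
    rw [← RingHom.essFiniteType_algebraMap, RingHom.algebraMap_toAlgebra]
    exact LocallyOfFiniteType.stalkMap h y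
  haveI : Algebra.FormallyUnramified (X.presheaf.stalk (h y)) (Y.presheaf.stalk y) := by
    rw [← RingHom.formallyUnramified_algebraMap, RingHom.algebraMap_toAlgebra]
    exact FormallyUnramified.stalkMap h y
  have hm : (maximalIdeal (X.presheaf.stalk (h y))).map
      (algebraMap (X.presheaf.stalk (h y)) (Y.presheaf.stalk y)) =
      maximalIdeal (Y.presheaf.stalk y) := Algebra.FormallyUnramified.map_maximalIdeal
  have hB : Curv2.IsOrdDoublePt K (Y.presheaf.stalk y) :=
    isOrdDoublePt_of_ringEquiv τ (fun c => rfl) hy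
  exact isOrdDoublePt_of_flat_rev K hm hB

end Groth.Agent.Lib.Helper22.Nod
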