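import Mathlib
import Groth.Prelude.Def_CurvBase
import Groth.Agent.Lib.Helper22.NodE
import Groth.Agent.Lib.Helper22.NodI

/-!
# Nodes and finite separable extensions of the base field (helper22)

If `X'` is a `k'`-scheme, `k'/k` is étale, and `j : X' ⟶ W` is an étale morphism to a `k`-scheme
compatible with `Spec k' ⟶ Spec k`, then nodes of `X'/k'` map to nodes of `W/k`.
-/

set_option autoImplicit false
set_option linter.style.haveILetI false

universe u

open AlgebraicGeometry CategoryTheory CategoryTheory.Limits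

namespace Groth.Agent.Lib.Helper22.Nod

section twist

variable (k k' : Type u) [Field k] [Field k'] [Algebra k k']
  (K K' : Type u) [Field K] [Field K'] [Algebra k K] [Algebra k' K'] [Algebra k K']
  [IsScalarTower k k' K'] (τ : K ≃ₐ[k] K')
  {W : Scheme.{u}} (p : W ⟶ Spec (CommRingCat.of k))

theorem spec_tau :
    Spec.map (CommRingCat.ofHom τ.toRingEquiv.toRingHom) ≫
      Spec.map (CommRingCat.ofHom (algebraMap k K)) =
    Spec.map (CommRingCat.ofHom (algebraMap k' K')) ≫
      Spec.map (CommRingCat.ofHom (algebraMap k k')) := by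
  rw [← Spec.map_comp, ← Spec.map_comp]
  congr 1
  apply CommRingCat.hom_ext
  ext c
  show τ (algebraMap k K c) = algebraMap k' K' (algebraMap k k' c)
  rw [τ.commutes, ← IsScalarTower.algebraMap_apply]

/-- `(W_{k'})_{K'} ⟶ W_K` -/
noncomputable def twist :
    pullback (pullback.snd p (Spec.map (CommRingCat.ofHom (algebraMap k k'))))
      (Spec.map (CommRingCat.ofHom (algebraMap k' K'))) ⟶
    pullback p (Spec.map (CommRingCat.ofHom (algebraMap k K))) :=
  pullback.lift (pullback.fst _ _ ≫ pullback.fst _ _)
    (pullback.snd _ _ ≫ Spec.map (CommRingCat.ofHom τ.toRingEquiv.toRingHom)) (by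
      rw [Category.assoc, Category.assoc, spec_tau k k' K K' τ, pullback.condition,
        pullback.condition_assoc])

theorem twist_fst : twist k k' K K' τ p ≫ pullback.fst _ _ =
    pullback.fst _ _ ≫ pullback.fst _ _ := pullback.lift_fst _ _ _

theorem twist_snd : twist k k' K K' τ p ≫ pullback.snd _ _ =
    pullback.snd _ _ ≫ Spec.map (CommRingCat.ofHom τ.toRingEquiv.toRingHom) :=
  pullback.lift_snd _ _ _

theorem isPullback_twist :
    IsPullback (pullback.fst (pullback.snd p (Spec.map (CommRingCat.ofHom (algebraMap k k'))))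
        (Spec.map (CommRingCat.ofHom (algebraMap k' K'))) ≫ pullback.fst _ _)
      (pullback.snd _ _ ≫ Spec.map (CommRingCat.ofHom τ.toRingEquiv.toRingHom))
      p (Spec.map (CommRingCat.ofHom (algebraMap k K))) := by
  have sq1 := (IsPullback.of_hasPullback
    (pullback.snd p (Spec.map (CommRingCat.ofHom (algebraMap k k'))))
    (Spec.map (CommRingCat.ofHom (algebraMap k' K')))).flip
  have sq2 := (IsPullback.of_hasPullback p
    (Spec.map (CommRingCat.ofHom (algebraMap k k')))).flip
  have sq3 := IsPullback.paste_vert sq1 sq2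
  haveI : IsIso (Spec.map (CommRingCat.ofHom τ.toRingEquiv.toRingHom)) := by
    have : IsIso (CommRingCat.ofHom τ.toRingEquiv.toRingHom) :=
      (τ.toRingEquiv.toCommRingCatIso).isIso_hom
    infer_instance
  have sq4 : IsPullback (Spec.map (CommRingCat.ofHom τ.toRingEquiv.toRingHom))
      (Spec.map (CommRingCat.ofHom (algebraMap k' K')) ≫
        Spec.map (CommRingCat.ofHom (algebraMap k k')))
      (Spec.map (CommRingCat.ofHom (algebraMap k K))) (𝟙 _) :=
    IsPullback.of_horiz_isIso ⟨by rw [Category.comp_id, spec_tau k k' K K' τ]⟩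
  have sq5 := IsPullback.paste_horiz sq3 sq4
  rw [Category.comp_id] at sq5
  exact sq5.flip

instance : IsIso (twist k k' K K' τ p) := by
  have h : twist k k' K K' τ p = (isPullback_twist k k' K K' τ p).isoPullback.hom := by
    apply pullback.hom_ext
    · rw [twist_fst, IsPullback.isoPullback_hom_fst]
    · rw [twist_snd, IsPullback.isoPullback_hom_snd]
  rw [h]
  infer_instance

end twist

section node

variable (k k' : Type u) [Field k] [Field k'] [Algebra k k'] [Algebra.Etale k k']
  [Algebra.IsAlgebraic k k']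
  {X' W : Scheme.{u}} (p' : X' ⟶ Spec (CommRingCat.of k')) (p : W ⟶ Spec (CommRingCat.of k))
  (j : X' ⟶ W) (hj : j ≫ p = p' ≫ Spec.map (CommRingCat.ofHom (algebraMap k k')))

include hj in
theorem isNode_of_etale_of_algebraic [Etale j] [LocallyOfFiniteType p'] (x' : X')
    (hcl : IsClosed ({j x'} : Set W))
    (hx' : letI : X'.Over (Spec (CommRingCat.of k')) := ⟨p'⟩
      Curv2.IsNode k' X' x') :
    letI : W.Over (Spec (CommRingCat.of k)) := ⟨p⟩
    Curv2.IsNode k W (j x') := by
  letI ovX : X'.Over (Spec (CommRingCat.of k')) := ⟨p'⟩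
  letI ovW : W.Over (Spec (CommRingCat.of k)) := ⟨p⟩
  haveI : IsScalarTower k k' (AlgebraicClosure k') := inferInstance
  haveI : Algebra.IsAlgebraic k (AlgebraicClosure k') :=
    Algebra.IsAlgebraic.trans k k' (AlgebraicClosure k')
  haveI : IsAlgClosure k (AlgebraicClosure k') := ⟨inferInstance, inferInstance⟩
  let τ : AlgebraicClosure k ≃ₐ[k] AlgebraicClosure k' :=
    IsAlgClosure.equiv k (AlgebraicClosure k) (AlgebraicClosure k')
  haveI : Etale (Spec.map (CommRingCat.ofHom (algebraMap k k'))) := by
    rw [HasRingHomProperty.Spec_iff (P := @Etale)]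
    exact RingHom.etale_algebraMap.mpr inferInstance
  let j' : X' ⟶ pullback p (Spec.map (CommRingCat.ofHom (algebraMap k k'))) :=
    pullback.lift j p' hj
  have hj'1 : j' ≫ pullback.fst _ _ = j := pullback.lift_fst _ _ _
  have hj'2 : j' ≫ pullback.snd _ _ = p' := pullback.lift_snd _ _ _
  haveI : Etale j' := by
    haveI : Etale (j' ≫ pullback.fst p (Spec.map (CommRingCat.ofHom (algebraMap k k')))) := by
      rw [hj'1]; infer_instance
    exact Etale.of_comp j' (pullback.fst p (Spec.map (CommRingCat.ofHom (algebraMap k k'))))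
  obtain ⟨-, xb, hxb, hodp⟩ := hx'
  let h := bcMap k' p' (pullback.snd p (Spec.map (CommRingCat.ofHom (algebraMap k k')))) j' hj'2
    (AlgebraicClosure k') ≫ twist k k' (AlgebraicClosure k) (AlgebraicClosure k') τ p
  have hh : h ≫ pullback.snd p (Spec.map (CommRingCat.ofHom (algebraMap k (AlgebraicClosure k))))
      = pullback.snd p' _ ≫ Spec.map (CommRingCat.ofHom τ.toRingEquiv.toRingHom) := by
    show (_ ≫ _) ≫ _ = _
    rw [Category.assoc, twist_snd, ← Category.assoc, bcMap_snd]
  have hfst : h ≫ pullback.fst p _ = pullback.fst p' _ ≫ j := by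
    show (_ ≫ _) ≫ _ = _
    rw [Category.assoc, twist_fst, ← Category.assoc, bcMap_fst, Category.assoc, hj'1]
  refine ⟨hcl, h xb, ?_, ?_⟩
  · show (h ≫ pullback.fst p _) xb = j x'
    rw [hfst, Scheme.Hom.comp_apply]
    exact congrArg j hxb
  · haveI : LocallyOfFiniteType (pullback.snd p'
        (Spec.map (CommRingCat.ofHom (algebraMap k' (AlgebraicClosure k'))))) := inferInstance
    haveI : IsLocallyNoetherian (pullback p'
        (Spec.map (CommRingCat.ofHom (algebraMap k' (AlgebraicClosure k'))))) :=
      LocallyOfFiniteType.isLocallyNoetherian (pullback.snd p' _)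
    exact isOrdDoublePt_of_etale_semilinear τ.toRingEquiv (pullback.snd p' _) (pullback.snd p _)
      h hh xb hodp

end node

end Groth.Agent.Lib.Helper22.Nod
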