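import Mathlib
import Groth.Prelude.Def_CurvBase
import Groth.Agent.Lib.Helper22.NodG
import Groth.Agent.Lib.Helper22.NodJ

/-!
# An at-worst-nodal family postcomposed with an étale morphism is at-worst-nodal (helper22)
-/

set_option autoImplicit false
set_option linter.style.haveILetI false

universe u

open AlgebraicGeometry CategoryTheory CategoryTheory.Limits

namespace Groth.Agent.Lib.Helper22.Nod

section fib

variable {X S S' : Scheme.{u}} (e : S' ⟶ S) (f : X ⟶ S') (s' : S')

/-- the fibre of `f` over `s'` maps to the fibre of `f ≫ e` over `e s'` -/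
noncomputable def fibIncl : f.fiber s' ⟶ (f ≫ e).fiber (e s') :=
  pullback.lift (f.fiberι s') (f.fiberToSpecResidueField s' ≫ Spec.map (e.residueFieldMap s')) (by
    rw [Category.assoc, Scheme.Hom.SpecMap_residueFieldMap_fromSpecResidueField,
      ← Category.assoc, ← Category.assoc]
    congr 1
    exact pullback.condition)

theorem fibIncl_fst : fibIncl e f s' ≫ (f ≫ e).fiberι (e s') = f.fiberι s' :=
  pullback.lift_fst _ _ _

theorem fibIncl_snd : fibIncl e f s' ≫ (f ≫ e).fiberToSpecResidueField (e s') =
    f.fiberToSpecResidueField s' ≫ Spec.map (e.residueFieldMap s') :=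
  pullback.lift_snd _ _ _

/-- the point `s'` as a point of the fibre of `e` -/
noncomputable def ptIncl : Spec (S'.residueField s') ⟶ e.fiber (e s') :=
  pullback.lift (S'.fromSpecResidueField s') (Spec.map (e.residueFieldMap s'))
    (Scheme.Hom.SpecMap_residueFieldMap_fromSpecResidueField e s').symm

theorem ptIncl_fst : ptIncl e s' ≫ e.fiberι (e s') = S'.fromSpecResidueField s' :=
  pullback.lift_fst _ _ _

theorem ptIncl_snd : ptIncl e s' ≫ e.fiberToSpecResidueField (e s') =
    Spec.map (e.residueFieldMap s') :=
  pullback.lift_snd _ _ _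

instance etale_SpecMap_residueFieldMap [Etale e] : Etale (Spec.map (e.residueFieldMap s')) := by
  rw [HasRingHomProperty.Spec_iff (P := @Etale)]
  exact etale_residueFieldMap e s'

instance [Etale e] : IsOpenImmersion (ptIncl e s') := by
  haveI : Mono (ptIncl e s') := by
    haveI : Mono (ptIncl e s' ≫ e.fiberι (e s')) := by
      rw [ptIncl_fst]; infer_instance
    exact mono_of_mono (ptIncl e s') (e.fiberι (e s'))
  haveI : Etale (e.fiberToSpecResidueField (e s')) := by
    change Etale (pullback.snd e (S.fromSpecResidueField (e s')))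
    infer_instance
  haveI : Etale (ptIncl e s') := by
    haveI : Etale (ptIncl e s' ≫ e.fiberToSpecResidueField (e s')) := by
      rw [ptIncl_snd]; infer_instance
    exact Etale.of_comp (ptIncl e s') (e.fiberToSpecResidueField (e s'))
  exact IsOpenImmersion.of_flat_of_mono _

/-- the fibre of `f ≫ e` maps to the fibre of `e` -/
noncomputable def fibProj (s : S) : (f ≫ e).fiber s ⟶ e.fiber s :=
  pullback.lift ((f ≫ e).fiberι s ≫ f) ((f ≫ e).fiberToSpecResidueField s) (by
    rw [Category.assoc]; exact pullback.condition)

theorem fibProj_fst (s : S) : fibProj e f s ≫ e.fiberι s = (f ≫ e).fiberι s ≫ f :=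
  pullback.lift_fst _ _ _

theorem fibProj_snd (s : S) : fibProj e f s ≫ e.fiberToSpecResidueField s =
    (f ≫ e).fiberToSpecResidueField s :=
  pullback.lift_snd _ _ _

theorem isPullback_fibProj (s : S) :
    IsPullback (fibProj e f s) ((f ≫ e).fiberι s) (e.fiberι s) f := by
  have houter : IsPullback (fibProj e f s ≫ e.fiberToSpecResidueField s) ((f ≫ e).fiberι s)
      (S.fromSpecResidueField s) (f ≫ e) := by
    rw [fibProj_snd]
    exact (IsPullback.of_hasPullback (f ≫ e) (S.fromSpecResidueField s)).flip
  exact IsPullback.of_right houter (fibProj_fst e f s)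
    (IsPullback.of_hasPullback e (S.fromSpecResidueField s)).flip

theorem isPullback_fibIncl :
    IsPullback (f.fiberToSpecResidueField s') (fibIncl e f s') (ptIncl e s')
      (fibProj e f (e s')) := by
  have hs : IsPullback (f.fiberToSpecResidueField s')
      (fibIncl e f s' ≫ (f ≫ e).fiberι (e s')) (ptIncl e s' ≫ e.fiberι (e s')) f := by
    rw [fibIncl_fst, ptIncl_fst]
    exact (IsPullback.of_hasPullback f (S'.fromSpecResidueField s')).flip
  refine IsPullback.of_bot hs ?_ (isPullback_fibProj e f (e s'))
  have h1 : (f.fiberToSpecResidueField s' ≫ ptIncl e s') ≫ e.fiberι (e s') =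
      (fibIncl e f s' ≫ fibProj e f (e s')) ≫ e.fiberι (e s') := by
    rw [Category.assoc, Category.assoc, ptIncl_fst, fibProj_fst, ← Category.assoc, fibIncl_fst]
    exact pullback.condition.symm
  have h2 : (f.fiberToSpecResidueField s' ≫ ptIncl e s') ≫ e.fiberToSpecResidueField (e s') =
      (fibIncl e f s' ≫ fibProj e f (e s')) ≫ e.fiberToSpecResidueField (e s') := by
    rw [Category.assoc, Category.assoc, ptIncl_snd, fibProj_snd, fibIncl_snd]
  exact pullback.hom_ext h1 h2

instance [Etale e] : IsOpenImmersion (fibIncl e f s') :=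
  MorphismProperty.of_isPullback (P := @IsOpenImmersion) (isPullback_fibIncl e f s')
    inferInstance

end fib

end Groth.Agent.Lib.Helper22.Nod
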