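import Mathlib
import Groth.Prelude.Def_CurvBase
import Groth.Agent.Lib.Helper22.NodK

/-!
# An at-worst-nodal family postcomposed with an étale morphism is at-worst-nodal, II (helper22)
-/

set_option autoImplicit false
set_option linter.style.haveILetI false

universe u

open AlgebraicGeometry CategoryTheory CategoryTheory.Limits

namespace Groth.Agent.Lib.Helper22.Nod

open Groth.Agent.Lib.Helper12.EquidimSub

theorem atWorstNodal_fibIncl {X S S' : Scheme.{u}} (e : S' ⟶ S) [Etale e] (f : X ⟶ S')
    [LocallyOfFiniteType f] (s' : S')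
    (hf : letI : (f.fiber s').Over (Spec (S'.residueField s')) :=
        ⟨f.fiberToSpecResidueField s'⟩
      Curv2.AtWorstNodal (S'.residueField s') (f.fiber s'))
    (x' : f.fiber s') (hcl : IsClosed ({fibIncl e f s' x'} : Set ((f ≫ e).fiber (e s')))) :
    letI : ((f ≫ e).fiber (e s')).Over (Spec (S.residueField (e s'))) :=
      ⟨(f ≫ e).fiberToSpecResidueField (e s')⟩
    (∃ U : ((f ≫ e).fiber (e s')).Opens, fibIncl e f s' x' ∈ U ∧
      Smooth (U.ι ≫ (((f ≫ e).fiber (e s')) ↘ Spec (CommRingCat.of (S.residueField (e s')))))) ∨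
    Curv2.IsNode (S.residueField (e s')) ((f ≫ e).fiber (e s')) (fibIncl e f s' x') := by
  letI ov' : (f.fiber s').Over (Spec (S'.residueField s')) := ⟨f.fiberToSpecResidueField s'⟩
  letI ov : ((f ≫ e).fiber (e s')).Over (Spec (S.residueField (e s'))) :=
    ⟨(f ≫ e).fiberToSpecResidueField (e s')⟩
  have hinj : Function.Injective (fibIncl e f s') :=
    (fibIncl e f s').isOpenEmbedding.injective
  have hcl' : IsClosed ({x'} : Set (f.fiber s')) := by
    have h1 : ({x'} : Set (f.fiber s')) = (fibIncl e f s') ⁻¹' {fibIncl e f s' x'} := by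
      ext z
      simp only [Set.mem_singleton_iff, Set.mem_preimage]
      exact ⟨fun h => by rw [h], fun h => hinj h⟩
    rw [h1]
    exact hcl.preimage (fibIncl e f s').continuous
  rcases hf x' hcl' with ⟨U', hxU', hsm⟩ | hnode
  · left
    refine ⟨(fibIncl e f s') ''ᵁ U', ⟨x', hxU', rfl⟩, ?_⟩
    have h1 : ((fibIncl e f s').isoImage U').hom ≫
        (((fibIncl e f s') ''ᵁ U').ι ≫ (f ≫ e).fiberToSpecResidueField (e s')) =
        (U'.ι ≫ f.fiberToSpecResidueField s') ≫ Spec.map (e.residueFieldMap s') := by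
      rw [← Category.assoc, Scheme.Hom.isoImage_hom_ι, Category.assoc, fibIncl_snd,
        Category.assoc]
    haveI : Smooth (U'.ι ≫ f.fiberToSpecResidueField s') := hsm
    have h2 : Smooth (((fibIncl e f s').isoImage U').hom ≫
        (((fibIncl e f s') ''ᵁ U').ι ≫ (f ≫ e).fiberToSpecResidueField (e s'))) := by
      rw [h1]
      infer_instance
    exact (MorphismProperty.cancel_left_of_respectsIso @Smooth _ _).mp h2
  · right
    letI alg : Algebra (S.residueField (e s')) (S'.residueField s') :=
      (e.residueFieldMap s').hom.toAlgebra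
    haveI hEt : Algebra.Etale (S.residueField (e s')) (S'.residueField s') := by
      rw [← RingHom.etale_algebraMap, RingHom.algebraMap_toAlgebra]
      exact etale_residueFieldMap e s'
    haveI : Module.Finite (S.residueField (e s')) (S'.residueField s') :=
      Algebra.FormallyUnramified.finite_of_free _ _
    haveI : Algebra.IsAlgebraic (S.residueField (e s')) (S'.residueField s') :=
      Algebra.IsAlgebraic.of_finite _ _
    haveI : LocallyOfFiniteType (f.fiberToSpecResidueField s') := by
      change LocallyOfFiniteType (pullback.snd f (S'.fromSpecResidueField s'))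
      infer_instance
    exact isNode_of_etale_of_algebraic (S.residueField (e s')) (S'.residueField s')
      (f.fiberToSpecResidueField s') ((f ≫ e).fiberToSpecResidueField (e s'))
      (fibIncl e f s') (fibIncl_snd e f s') x' hcl hnode

theorem atWorstNodal_fiber_postcomp {X S S' : Scheme.{u}} (e : S' ⟶ S) [Etale e] (f : X ⟶ S')
    [LocallyOfFiniteType f] (s : S)
    (hf : ∀ s' : S', letI : (f.fiber s').Over (Spec (S'.residueField s')) :=
        ⟨f.fiberToSpecResidueField s'⟩
      Curv2.AtWorstNodal (S'.residueField s') (f.fiber s')) :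
    letI : ((f ≫ e).fiber s).Over (Spec (S.residueField s)) :=
      ⟨(f ≫ e).fiberToSpecResidueField s⟩
    Curv2.AtWorstNodal (S.residueField s) ((f ≫ e).fiber s) := by
  intro w hw
  obtain ⟨s', hs'⟩ : ∃ s' : S', s' = f ((f ≫ e).fiberι s w) := ⟨_, rfl⟩
  have hs : e s' = s := by
    rw [hs']
    haveI : LocallyOfFiniteType (f ≫ e) := inferInstance
    exact apply_fiberι (f ≫ e) s w
  subst hs
  have hmem : (f ≫ e).fiberι (e s') w ∈ Set.range (f.fiberι s') := by
    rw [Scheme.Hom.range_fiberι]
    exact hs'.symm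
  obtain ⟨x', hx'⟩ := hmem
  have hw' : fibIncl e f s' x' = w := by
    apply ((f ≫ e).fiberι (e s')).isEmbedding.injective
    rw [← hx', ← Scheme.Hom.comp_apply, fibIncl_fst]
  subst hw'
  exact atWorstNodal_fibIncl e f s' (hf s') x' hw

theorem isNodalFamily_postcomp {X S S' : Scheme.{u}} (e : S' ⟶ S) [Etale e] (f : X ⟶ S')
    (hf : Curv2.IsNodalFamily f) : Curv2.IsNodalFamily (f ≫ e) := by
  obtain ⟨hflat, hlfp, hfib⟩ := hf
  haveI := hflat
  haveI := hlfp
  refine ⟨inferInstance, inferInstance, fun s => ⟨?_, ?_⟩⟩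
  · have h1 := dim_components_fiber_postcomp e f s 1 (by
      intro s' Z hZ
      rw [(hfib s').1 Z hZ]
      rfl)
    intro Z hZ
    rw [h1 Z hZ]
    rfl
  · exact atWorstNodal_fiber_postcomp e f s (fun s' => (hfib s').2)

end Groth.Agent.Lib.Helper22.Nod
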