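import Mathlib
import Groth.Prelude.Def_CurvBase
import Groth.Agent.Lib.Helper11.ZetaGal
import Groth.Agent.Lib.Helper22.NodI

/-!
# All geometric points over a node are ordinary double points (helper22)
-/

set_option autoImplicit false
set_option linter.style.haveILetI false

universe u

open AlgebraicGeometry CategoryTheory CategoryTheory.Limits

namespace Groth.Agent.Lib.Helper22.Nod

open Groth.Agent.Lib.Helper11.ZetaGal

section gal

variable {k : Type u} [Field k] {X : Scheme.{u}} (f : X ⟶ Spec (CommRingCat.of k))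
variable (K : Type u) [Field K] [Algebra k K]

theorem spec_sigma (σ : K ≃ₐ[k] K) :
    Spec.map (CommRingCat.ofHom (σ : K →+* K)) ≫ sK (k := k) K = sK (k := k) K := by
  rw [← Spec.map_comp]
  congr 1
  apply CommRingCat.hom_ext
  ext c
  show σ (algebraMap k K c) = algebraMap k K c
  exact σ.commutes c

/-- the action of `σ` on `X_K` -/
noncomputable def galMap (σ : K ≃ₐ[k] K) : Xb f K ⟶ Xb f K :=
  pullback.lift (p1 f K) (p2 f K ≫ Spec.map (CommRingCat.ofHom (σ : K →+* K))) (by
    rw [Category.assoc, spec_sigma]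
    exact pullback.condition)

theorem galMap_p1 (σ : K ≃ₐ[k] K) : galMap f K σ ≫ p1 f K = p1 f K :=
  pullback.lift_fst _ _ _

theorem galMap_p2 (σ : K ≃ₐ[k] K) :
    galMap f K σ ≫ p2 f K = p2 f K ≫ Spec.map (CommRingCat.ofHom (σ : K →+* K)) :=
  pullback.lift_snd _ _ _

theorem galMap_comp_symm (σ : K ≃ₐ[k] K) : galMap f K σ ≫ galMap f K σ.symm = 𝟙 _ := by
  apply pullback.hom_ext
  · show (galMap f K σ ≫ galMap f K σ.symm) ≫ p1 f K = 𝟙 _ ≫ p1 f K
    rw [Category.assoc, galMap_p1, galMap_p1, Category.id_comp]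
  · show (galMap f K σ ≫ galMap f K σ.symm) ≫ p2 f K = 𝟙 _ ≫ p2 f K
    rw [Category.assoc, galMap_p2, ← Category.assoc, galMap_p2, Category.assoc,
      ← Spec.map_comp, Category.id_comp]
    have : CommRingCat.ofHom (σ.symm : K →+* K) ≫ CommRingCat.ofHom (σ : K →+* K) = 𝟙 _ := by
      apply CommRingCat.hom_ext
      ext c
      show σ (σ.symm c) = c
      exact σ.apply_symm_apply c
    rw [this, Spec.map_id, Category.comp_id]

instance (σ : K ≃ₐ[k] K) : IsIso (galMap f K σ) := by
  refine ⟨galMap f K σ.symm, galMap_comp_symm f K σ, ?_⟩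
  have := galMap_comp_symm f K σ.symm
  rwa [AlgEquiv.symm_symm] at this

end gal

/-- every geometric point over a node is an ordinary double point -/
theorem isOrdDoublePt_of_isNode (k : Type u) [Field k] (X : Scheme.{u})
    [X.Over (Spec (CommRingCat.of k))]
    [LocallyOfFiniteType (X ↘ (Spec (CommRingCat.of k)))]
    (x : X) (hx : Curv2.IsNode k X x) (xb : Curv2.bc k X (AlgebraicClosure k))
    (hxb : Curv2.bcFst k X (AlgebraicClosure k) xb = x) :
    @Curv2.IsOrdDoublePt (AlgebraicClosure k) _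
      ((Curv2.bc k X (AlgebraicClosure k)).presheaf.stalk xb) _
      (@Curv2.stalkAlgebra (AlgebraicClosure k) _ (Curv2.bc k X (AlgebraicClosure k))
        ⟨Curv2.bcSnd k X (AlgebraicClosure k)⟩ xb) _ := by
  obtain ⟨hcl, xb₀, hxb₀, hodp⟩ := hx
  have h₀ : IsClosed ({xb₀} : Set (Xb (X ↘ Spec (CommRingCat.of k)) (AlgebraicClosure k))) := by
    apply isClosed_of_isClosed_p1
    show IsClosed ({Curv2.bcFst k X (AlgebraicClosure k) xb₀} : Set X)
    rw [hxb₀]; exact hcl
  have h₁ : IsClosed ({xb} : Set (Xb (X ↘ Spec (CommRingCat.of k)) (AlgebraicClosure k))) := by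
    apply isClosed_of_isClosed_p1
    show IsClosed ({Curv2.bcFst k X (AlgebraicClosure k) xb} : Set X)
    rw [hxb]; exact hcl
  haveI : Normal k (AlgebraicClosure k) := inferInstance
  obtain ⟨σ, hσ⟩ := exists_gal_eq (X ↘ Spec (CommRingCat.of k)) (AlgebraicClosure k)
    (galMap (X ↘ Spec (CommRingCat.of k)) (AlgebraicClosure k))
    (galMap_p1 _ _) (galMap_p2 _ _) xb₀ xb h₀ h₁ (hxb₀.trans hxb.symm)
  subst hσ
  haveI : LocallyOfFiniteType (p2 (X ↘ Spec (CommRingCat.of k)) (AlgebraicClosure k)) :=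
    inferInstance
  haveI : IsLocallyNoetherian (Xb (X ↘ Spec (CommRingCat.of k)) (AlgebraicClosure k)) :=
    LocallyOfFiniteType.isLocallyNoetherian
      (p2 (X ↘ Spec (CommRingCat.of k)) (AlgebraicClosure k))
  exact isOrdDoublePt_of_etale_semilinear σ.toRingEquiv
    (p2 (X ↘ Spec (CommRingCat.of k)) (AlgebraicClosure k))
    (p2 (X ↘ Spec (CommRingCat.of k)) (AlgebraicClosure k))
    (galMap (X ↘ Spec (CommRingCat.of k)) (AlgebraicClosure k) σ)
    (galMap_p2 _ _ σ) xb₀ hodp

end Groth.Agent.Lib.Helper22.Nod
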