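import Mathlib
import Groth.Prelude.Def_CurvBase
import Groth.Agent.Lib.Helper16.SmoothEt
import Groth.Agent.Lib.Helper22.NodD
import Groth.Agent.Lib.Helper22.NodF
import Groth.Agent.Lib.Helper22.NodJ

/-!
# At-worst-nodal families are étale local on the source (helper22)
-/

set_option autoImplicit false
set_option linter.style.haveILetI false

universe u

open AlgebraicGeometry CategoryTheory CategoryTheory.Limits

namespace Groth.Agent.Lib.Helper22.Nod

open Groth.Agent.Lib.Helper12 Groth.Agent.Lib.Helper12.SchemeDimFT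
  Groth.Agent.Lib.Helper12.SchemeDimIneq Groth.Agent.Lib.Helper12.Equidim
  Groth.Agent.Lib.Helper12.EquidimSub

theorem dim_components_fiber_of_cover {X S : Scheme.{u}} (f : X ⟶ S) [LocallyOfFiniteType f]
    (s : S) (e : ℕ)
    (hcov : ∀ x : X, ∃ (Y : Scheme.{u}) (g : Y ⟶ X), Etale g ∧ x ∈ Set.range g ∧
      ∀ Z ∈ irreducibleComponents ((g ≫ f).fiber s : Type u),
        topologicalKrullDim (↥Z : Type u) = e) :
    ∀ Z ∈ irreducibleComponents (f.fiber s : Type u),
      topologicalKrullDim (↥Z : Type u) = e := by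
  intro Z hZ
  obtain ⟨w, hw, hmax, hdim⟩ := exists_of_mem_irreducibleComponents_fiber f s Z hZ
  obtain ⟨Y, g, hg, ⟨u, hu⟩, hY⟩ := hcov w
  haveI := hg
  haveI : LocallyQuasiFinite g :=
    Groth.Agent.Lib.Helper22.LieGen.locallyQuasiFinite_of_formallyUnramified g
  have hus : (g ≫ f) u = s := by
    show f (g u) = s
    rw [hu, hw]
  have hmaxu : ∀ u' : Y, (g ≫ f) u' = s → u' ⤳ u → u' = u := by
    intro u' hu' hsp
    have h1 : g u' ⤳ g u := hsp.map g.continuous
    rw [hu] at h1
    have h2 : g u' = w := hmax _ hu' h1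
    exact (g.isDiscrete_preimage_singleton w).eq_of_specializes hsp h2 hu
  let ζ : (g ≫ f).fiber s := ((g ≫ f).fiberHomeo s).symm ⟨u, hus⟩
  have hζ : (g ≫ f).fiberι s ζ = u := (g ≫ f).fiberι_fiberHomeo_symm s ⟨u, hus⟩
  have hmaxF : IsMaxPt ζ := by
    intro v hv
    have h2 := hv.map ((g ≫ f).fiberι s).continuous
    rw [hζ] at h2
    have h3 := apply_fiberι (g ≫ f) s v
    have h4 := hmaxu _ h3 h2
    exact ((g ≫ f).fiberι s).isEmbedding.injective (h4.trans hζ.symm)
  letI ovF : ((g ≫ f).fiber s).Over (Spec (CommRingCat.of (S.residueField s))) :=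
    ⟨(g ≫ f).fiberToSpecResidueField s⟩
  haveI : LocallyOfFiniteType (((g ≫ f).fiber s) ↘ Spec (CommRingCat.of (S.residueField s))) :=
    FibreRes.locallyOfFiniteType_fiberToSpecResidueField (g ≫ f) s
  have h6 := tr_eq_of_isMaxPt (S.residueField s) ((g ≫ f).fiber s) e hY ζ hmaxF
  have h7 := Groth.Agent.Lib.Helper12.ClosedSub.trn_eq_tr_of_fiber (g ≫ f) u s hus ζ hζ
  have h8 : trn (g ≫ f) u = trn f (g u) := by
    rw [Groth.Agent.Lib.Helper12.JacDim.trn_comp g f u,
      Groth.Agent.Lib.Helper12.QFAffine.trn_eq_zero_of_locallyQuasiFinite g u, add_zero]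
  rw [hdim, ← hu, ← h8, h7, h6]
  rfl

theorem atWorstNodal_fiber_of_cover {X S : Scheme.{u}} (f : X ⟶ S) [LocallyOfFiniteType f]
    (s : S)
    (hcov : ∀ x : X, ∃ (Y : Scheme.{u}) (g : Y ⟶ X), Etale g ∧ x ∈ Set.range g ∧
      @Curv2.AtWorstNodal (S.residueField s) _ ((g ≫ f).fiber s)
        ⟨(g ≫ f).fiberToSpecResidueField s⟩) :
    letI : (f.fiber s).Over (Spec (S.residueField s)) := ⟨f.fiberToSpecResidueField s⟩
    Curv2.AtWorstNodal (S.residueField s) (f.fiber s) := by
  letI ovF : (f.fiber s).Over (Spec (S.residueField s)) := ⟨f.fiberToSpecResidueField s⟩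
  intro x hx
  obtain ⟨Y, g, hg, ⟨u, hu⟩, hY⟩ := hcov (f.fiberι s x)
  haveI := hg
  letI ovG : ((g ≫ f).fiber s).Over (Spec (S.residueField s)) :=
    ⟨(g ≫ f).fiberToSpecResidueField s⟩
  obtain ⟨ub, hub1, -⟩ := Scheme.exists_preimage_of_isPullback (isPullback_fibMap f g s) x u
    hu.symm
  subst hub1
  haveI : LocallyQuasiFinite (fibMap f g s) :=
    Groth.Agent.Lib.Helper22.LieGen.locallyQuasiFinite_of_formallyUnramified (fibMap f g s)
  have hclub : IsClosed ({ub} : Set ((g ≫ f).fiber s)) := by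
    rw [← closure_subset_iff_isClosed]
    intro v hv
    have hsp : ub ⤳ v := specializes_iff_mem_closure.mpr hv
    have h1 : fibMap f g s ub ⤳ fibMap f g s v := hsp.map (fibMap f g s).continuous
    have h2 : fibMap f g s v ∈ closure ({fibMap f g s ub} : Set (f.fiber s)) :=
      specializes_iff_mem_closure.mp h1
    rw [hx.closure_eq] at h2
    have h3 : ub = v :=
      ((fibMap f g s).isDiscrete_preimage_singleton (fibMap f g s ub)).eq_of_specializes hsp
        rfl h2
    rw [← h3]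
    rfl
  haveI : LocallyOfFiniteType ((g ≫ f).fiberToSpecResidueField s) := by
    change LocallyOfFiniteType (pullback.snd (g ≫ f) (S.fromSpecResidueField s))
    infer_instance
  rcases hY ub hclub with ⟨U', hxU', hsm⟩ | hnode
  · left
    let V : (f.fiber s).Opens := ⟨fibMap f g s '' (U' : Set ((g ≫ f).fiber s)),
      (fibMap f g s).isOpenMap _ U'.2⟩
    refine ⟨V, ⟨ub, hxU', rfl⟩, ?_⟩
    have hrange : Set.range (U'.ι ≫ fibMap f g s) ⊆ Set.range V.ι := by
      rintro _ ⟨z, rfl⟩
      rw [Scheme.Opens.range_ι]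
      exact ⟨U'.ι z, z.2, rfl⟩
    let e : (U' : Scheme.{u}) ⟶ (V : Scheme.{u}) :=
      IsOpenImmersion.lift V.ι (U'.ι ≫ fibMap f g s) hrange
    have he : e ≫ V.ι = U'.ι ≫ fibMap f g s := IsOpenImmersion.lift_fac _ _ _
    haveI : Etale e := by
      haveI : Etale (e ≫ V.ι) := by rw [he]; infer_instance
      exact Etale.of_comp e V.ι
    have hes : Surjective e := by
      refine ⟨fun v => ?_⟩
      obtain ⟨z, hz, hzv⟩ := v.2
      refine ⟨⟨z, hz⟩, ?_⟩
      apply V.ι.isOpenEmbedding.injective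
      rw [← Scheme.Hom.comp_apply, he, Scheme.Hom.comp_apply]
      exact hzv
    have hsm' : Smooth (e ≫ V.ι ≫ f.fiberToSpecResidueField s) := by
      rw [← Category.assoc, he, Category.assoc, fibMap_snd]
      exact hsm
    exact Groth.Agent.Lib.Helper16.etLocalST_smooth.ofCover' e
      (V.ι ≫ f.fiberToSpecResidueField s) inferInstance hes hsm'
  · right
    have hj : fibMap f g s ≫ f.fiberToSpecResidueField s =
        (g ≫ f).fiberToSpecResidueField s ≫
          Spec.map (CommRingCat.ofHom (algebraMap (S.residueField s) (S.residueField s))) := by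
      rw [fibMap_snd]
      have h1 : 𝟙 (Spec (S.residueField s)) = Spec.map (CommRingCat.ofHom
          (algebraMap (S.residueField s) (S.residueField s))) := by
        rw [← Spec.map_id]
        rfl
      exact (Category.comp_id _).symm.trans
        (congrArg (fun m => (g ≫ f).fiberToSpecResidueField s ≫ m) h1)
    exact isNode_of_etale_of_algebraic (S.residueField s) (S.residueField s)
      ((g ≫ f).fiberToSpecResidueField s) (f.fiberToSpecResidueField s)
      (fibMap f g s) hj ub hx hnode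

theorem isNodalFamily_of_cover {X S : Scheme.{u}} (f : X ⟶ S)
    (hcov : ∀ x : X, ∃ (Y : Scheme.{u}) (g : Y ⟶ X), Etale g ∧ x ∈ Set.range g ∧
      Curv2.IsNodalFamily (g ≫ f)) : Curv2.IsNodalFamily f := by
  have hflat : Flat f := Groth.Agent.Lib.Helper16.flat_of_flat_cover f (fun x => by
    obtain ⟨Y, g, hg, hx, hn⟩ := hcov x
    haveI := hg
    exact ⟨Y, g, inferInstance, hx, hn.1⟩)
  have hlfp : LocallyOfFinitePresentation f :=
    Groth.Agent.Lib.Helper16.etLocalST_locallyOfFinitePresentation.ofCover f (fun x => by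
      obtain ⟨Y, g, hg, hx, hn⟩ := hcov x
      exact ⟨Y, g, hg, hx, hn.2.1⟩)
  haveI := hflat
  haveI := hlfp
  refine ⟨hflat, hlfp, fun s => ⟨?_, ?_⟩⟩
  · have h1 := dim_components_fiber_of_cover f s 1 (fun x => by
      obtain ⟨Y, g, hg, hx, hn⟩ := hcov x
      refine ⟨Y, g, hg, hx, fun Z hZ => ?_⟩
      rw [(hn.2.2 s).1 Z hZ]
      rfl)
    intro Z hZ
    rw [h1 Z hZ]
    rfl
  · exact atWorstNodal_fiber_of_cover f s (fun x => by
      obtain ⟨Y, g, hg, hx, hn⟩ := hcov x
      exact ⟨Y, g, hg, hx, (hn.2.2 s).2⟩)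

end Groth.Agent.Lib.Helper22.Nod
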