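import Mathlib
import Groth.Prelude
import Groth.Agent.Lib.Helper4.GorRing
import Groth.Agent.Lib.Helper21.CohenStructD
import Groth.Agent.S0342
import Groth.Agent.S0343
import Groth.Agent.S0344
import Groth.Agent.S0543

/-!
# Gorenstein: ring-level lemmas for nodes (helper22)
-/

set_option autoImplicit false
set_option linter.style.haveILetI false

universe u

open IsLocalRing

namespace Groth.Agent.Lib.Helper22.Nod

open Groth.Agent.Lib.Helper4

/-- The Gorenstein property descends from the completion. -/
theorem gor_of_completion (A : Type u) [CommRing A] [IsLocalRing A] [IsNoetherianRing A]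
    (h : LocCoh.IsGorensteinLocalRing (AdicCompletion (maximalIdeal A) A)) :
    LocCoh.IsGorensteinLocalRing A := by
  haveI : IsNoetherianRing (AdicCompletion (maximalIdeal A) A) :=
    Groth.Agent.S0543.result A (maximalIdeal A)
  haveI : IsLocalHom (algebraMap A (AdicCompletion (maximalIdeal A) A)) := by
    refine ⟨fun a ha => ?_⟩
    by_contra hna
    have ham : a ∈ maximalIdeal A := (mem_maximalIdeal _).2 hna
    have h1 : algebraMap A (AdicCompletion (maximalIdeal A) A) a ∈
        maximalIdeal (AdicCompletion (maximalIdeal A) A) := by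
      rw [AdicCompletion.maximalIdeal_eq_map]
      exact Ideal.mem_map_of_mem _ ham
    exact (mem_maximalIdeal _).1 h1 ha
  have hker : RingHom.ker (IsLocalRing.residue (AdicCompletion (maximalIdeal A) A)) =
      (maximalIdeal A).map (algebraMap A (AdicCompletion (maximalIdeal A) A)) := by
    rw [IsLocalRing.ker_residue]
    exact AdicCompletion.maximalIdeal_eq_map
  exact ((GorFlat.gor_flat_iff A (AdicCompletion (maximalIdeal A) A)
    (ResidueField (AdicCompletion (maximalIdeal A) A))
    (IsLocalRing.residue _) IsLocalRing.residue_surjective hker).1 h).1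

/-- The node ring `K[[x,y]]/(xy)` is Gorenstein. -/
theorem gor_nodeRing (K : Type u) [Field K] :
    LocCoh.IsGorensteinLocalRing (MvPowerSeries (Fin 2) K ⧸
      Ideal.span {(MvPowerSeries.X 0 * MvPowerSeries.X 1 : MvPowerSeries (Fin 2) K)}) := by
  haveI := Groth.Agent.Lib.Helper21.CohenStruct.isRegularLocalRing_mvPowerSeries K 2
  have h1 : LocCoh.IsGorensteinLocalRing (MvPowerSeries (Fin 2) K) := Groth.Agent.S0342.result _
  have hne : (MvPowerSeries.X 0 * MvPowerSeries.X 1 : MvPowerSeries (Fin 2) K) ≠ 0 := by
    have hX : ∀ i : Fin 2, (MvPowerSeries.X i : MvPowerSeries (Fin 2) K) ≠ 0 := by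
      intro i h
      have := congrArg (MvPowerSeries.coeff (Finsupp.single i 1)) h
      simp [MvPowerSeries.coeff_X] at this
    exact mul_ne_zero (hX 0) (hX 1)
  refine (Groth.Agent.S0343.result (MvPowerSeries (Fin 2) K)
    (MvPowerSeries.X 0 * MvPowerSeries.X 1) ?_ ?_).1 h1
  · rw [mem_maximalIdeal, mem_nonunits_iff, MvPowerSeries.isUnit_iff_constantCoeff]
    simp
  · exact (isRegular_of_ne_zero hne).left.isSMulRegular

/-- An ordinary double point is Gorenstein. -/
theorem gor_of_isOrdDoublePt (K : Type u) [Field K] (A : Type u) [CommRing A] [Algebra K A]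
    [IsLocalRing A] [IsNoetherianRing A] (h : Curv2.IsOrdDoublePt K A) :
    LocCoh.IsGorensteinLocalRing A := by
  obtain ⟨e, -⟩ := h
  exact gor_of_completion A (GorFlat.gor_of_ringEquiv e.symm (gor_nodeRing K))

/-- Gorenstein descends along flat local homomorphisms. -/
theorem gor_of_flat_local (A B : Type u) [CommRing A] [CommRing B] [IsLocalRing A]
    [IsNoetherianRing A] [IsLocalRing B] [IsNoetherianRing B] (φ : A →+* B) [IsLocalHom φ]
    (hφ : φ.Flat) (hB : LocCoh.IsGorensteinLocalRing B) : LocCoh.IsGorensteinLocalRing A := by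
  algebraize [φ]
  haveI : IsLocalHom (algebraMap A B) := ‹IsLocalHom φ›
  exact ((Groth.Agent.S0344.result A B).1 hB).1

/-- Gorenstein passes to the localization at a smaller prime. -/
theorem gor_of_le {R : Type u} [CommRing R] (p q : Ideal R) [p.IsPrime] [q.IsPrime]
    (hpq : p ≤ q) (Sq : Type u) [CommRing Sq] [Algebra R Sq] [IsLocalization.AtPrime Sq q]
    (hSq : LocCoh.IsGorensteinLocalRing Sq) (Sp : Type u) [CommRing Sp] [Algebra R Sp]
    [IsLocalization.AtPrime Sp p] : LocCoh.IsGorensteinLocalRing Sp := by
  have hle : q.primeCompl ≤ p.primeCompl := fun r hr hrp => hr (hpq hrp)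
  letI : Algebra Sq Sp :=
    IsLocalization.localizationAlgebraOfSubmonoidLe Sq Sp q.primeCompl p.primeCompl hle
  haveI : IsScalarTower R Sq Sp :=
    IsLocalization.localization_isScalarTower_of_submonoid_le Sq Sp q.primeCompl p.primeCompl hle
  haveI := IsLocalization.isLocalization_of_submonoid_le Sq Sp q.primeCompl p.primeCompl hle
  have h1 : LocCoh.IsGorensteinRing Sp :=
    GorRing.gorRing_of_isLocalization (p.primeCompl.map (algebraMap R Sq)) Sp
      (GorRing.gorRing_of_gor Sq hSq)
  haveI : IsLocalRing Sp := IsLocalization.AtPrime.isLocalRing Sp p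
  exact (GorRing.gor_atPrime_maximalIdeal_iff Sp).1 (h1.isGorensteinLocalRing_localization _)

end Groth.Agent.Lib.Helper22.Nod
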