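import Mathlib
import Groth.Prelude
import Groth.Agent.Lib.Helper22.NodO
import Groth.Agent.Lib.Helper22.NodM
import Groth.Agent.Lib.Helper23.NodalGlueA
import Groth.Agent.Lib.Helper14.GeomRedAt
import Groth.Agent.Lib.Helper12.SecCompBC

/-!
# At-worst-nodal curves are Gorenstein and geometrically reduced (helper22)
-/

set_option autoImplicit false
set_option linter.style.haveILetI false

universe u

open AlgebraicGeometry CategoryTheory CategoryTheory.Limits

namespace Groth.Agent.Lib.Helper22.Nod

open Groth.Agent.Lib.Helper12 Groth.Agent.Lib.Helper12.SchemeDimFT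
open Groth.Agent.Lib.Helper11.ZetaGal

/-- In a Jacobson space every point specializes to a closed point. -/
theorem exists_closed_specialization (Y : Type*) [TopologicalSpace Y] [JacobsonSpace Y] (y : Y) :
    ∃ z : Y, y ⤳ z ∧ IsClosed ({z} : Set Y) := by
  have h1 := closure_inter_closedPoints (X := Y) (Z := closure {y}) isClosed_closure
  have hne : (closure {y} ∩ closedPoints Y).Nonempty := by
    by_contra hempty
    rw [Set.not_nonempty_iff_eq_empty] at hempty
    rw [hempty, closure_empty] at h1
    have : y ∈ closure ({y} : Set Y) := subset_closure rfl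
    rw [← h1] at this
    exact this
  obtain ⟨z, hz1, hz2⟩ := hne
  exact ⟨z, specializes_iff_mem_closure.mpr hz1, hz2⟩

/-- the Gorenstein property of stalks generizes -/
theorem gor_stalk_of_specializes {X : Scheme.{u}} {y x : X} (h : y ⤳ x)
    (hx : LocCoh.IsGorensteinLocalRing (X.presheaf.stalk x)) :
    LocCoh.IsGorensteinLocalRing (X.presheaf.stalk y) := by
  obtain ⟨U, hU, hxU⟩ := exists_affineOpen_mem X x
  have hyU : y ∈ U := h.mem_open U.isOpen hxU
  letI ax := TopCat.Presheaf.algebra_section_stalk X.presheaf ⟨x, hxU⟩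
  haveI : IsLocalization.AtPrime (X.presheaf.stalk x) (hU.primeIdealOf ⟨x, hxU⟩).asIdeal :=
    hU.isLocalization_stalk ⟨x, hxU⟩
  letI ay := TopCat.Presheaf.algebra_section_stalk X.presheaf ⟨y, hyU⟩
  haveI : IsLocalization.AtPrime (X.presheaf.stalk y) (hU.primeIdealOf ⟨y, hyU⟩).asIdeal :=
    hU.isLocalization_stalk ⟨y, hyU⟩
  have hle : (hU.primeIdealOf ⟨y, hyU⟩).asIdeal ≤ (hU.primeIdealOf ⟨x, hxU⟩).asIdeal :=
    (primeIdealOf_le_iff hU ⟨y, hyU⟩ ⟨x, hxU⟩).2 h
  exact gor_of_le _ _ hle (X.presheaf.stalk x) hx (X.presheaf.stalk y)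

section

variable (k : Type u) [Field k] (X : Scheme.{u}) [X.Over (Spec (CommRingCat.of k))]
  [LocallyOfFiniteType (X ↘ Spec (CommRingCat.of k))]

theorem flat_bcFst : Flat (Curv2.bcFst k X (AlgebraicClosure k)) := by
  haveI : Flat (Spec.map (CommRingCat.ofHom (algebraMap k (AlgebraicClosure k)))) := by
    rw [Flat.SpecMap_iff]
    show (algebraMap k (AlgebraicClosure k)).Flat
    rw [RingHom.flat_algebraMap_iff]
    infer_instance
  unfold Curv2.bcFst
  infer_instance

theorem gor_stalk_of_isNode (x : X) (h : Curv2.IsNode k X x) :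
    LocCoh.IsGorensteinLocalRing (X.presheaf.stalk x) := by
  obtain ⟨-, xb, hxb, hodp⟩ := h
  subst hxb
  haveI : IsLocallyNoetherian (Curv2.bc k X (AlgebraicClosure k)) :=
    LocallyOfFiniteType.isLocallyNoetherian (Curv2.bcSnd k X (AlgebraicClosure k))
  haveI : IsLocallyNoetherian X :=
    LocallyOfFiniteType.isLocallyNoetherian (X ↘ Spec (CommRingCat.of k))
  have hB : LocCoh.IsGorensteinLocalRing
      ((Curv2.bc k X (AlgebraicClosure k)).presheaf.stalk xb) := by
    letI : (Curv2.bc k X (AlgebraicClosure k)).Over (Spec (CommRingCat.of (AlgebraicClosure k))) :=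
      ⟨Curv2.bcSnd k X (AlgebraicClosure k)⟩
    letI := Curv2.stalkAlgebra (AlgebraicClosure k) (Curv2.bc k X (AlgebraicClosure k)) xb
    exact gor_of_isOrdDoublePt (AlgebraicClosure k) _ hodp
  haveI := flat_bcFst k X
  have hflat := Flat.stalkMap (Curv2.bcFst k X (AlgebraicClosure k)) xb
  haveI : IsLocalHom ((Curv2.bcFst k X (AlgebraicClosure k)).stalkMap xb).hom :=
    (Curv2.bcFst k X (AlgebraicClosure k)).toLRSHom.prop xb
  exact gor_of_flat_local _ _ ((Curv2.bcFst k X (AlgebraicClosure k)).stalkMap xb).hom hflat hB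

theorem gor_stalk_of_atWorstNodal (h : Curv2.AtWorstNodal k X) (y : X) :
    LocCoh.IsGorensteinLocalRing (X.presheaf.stalk y) := by
  haveI : JacobsonSpace X := LocallyOfFiniteType.jacobsonSpace (X ↘ Spec (CommRingCat.of k))
  obtain ⟨z, hyz, hz⟩ := exists_closed_specialization X y
  refine gor_stalk_of_specializes hyz ?_
  rcases h z hz with ⟨U, hzU, hsm⟩ | hnode
  · haveI := hsm
    haveI := Groth.Agent.Lib.Helper23.NodalGlue.regular_of_smooth_nhd k X z U hzU
    exact Groth.Agent.S0342.result _
  · exact gor_stalk_of_isNode k X z hnode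

/-- all local rings of the base change to the algebraic closure are reduced -/
theorem isReduced_stalk_bc_of_atWorstNodal (h : Curv2.AtWorstNodal k X)
    (yb : Curv2.bc k X (AlgebraicClosure k)) :
    _root_.IsReduced ((Curv2.bc k X (AlgebraicClosure k)).presheaf.stalk yb) := by
  letI : (Curv2.bc k X (AlgebraicClosure k)).Over (Spec (CommRingCat.of (AlgebraicClosure k))) :=
    ⟨Curv2.bcSnd k X (AlgebraicClosure k)⟩
  haveI : LocallyOfFiniteType (Curv2.bcSnd k X (AlgebraicClosure k)) := by
    unfold Curv2.bcSnd; infer_instance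
  haveI : LocallyOfFiniteType ((Curv2.bc k X (AlgebraicClosure k)) ↘
      Spec (CommRingCat.of (AlgebraicClosure k))) := ‹_›
  haveI : IsLocallyNoetherian (Curv2.bc k X (AlgebraicClosure k)) :=
    LocallyOfFiniteType.isLocallyNoetherian (Curv2.bcSnd k X (AlgebraicClosure k))
  haveI : JacobsonSpace (Curv2.bc k X (AlgebraicClosure k)) :=
    LocallyOfFiniteType.jacobsonSpace (Curv2.bcSnd k X (AlgebraicClosure k))
  obtain ⟨zb, hyz, hzb⟩ := exists_closed_specialization _ yb
  haveI : _root_.IsReduced ((Curv2.bc k X (AlgebraicClosure k)).presheaf.stalk zb) := by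
    have hz : IsClosed ({Curv2.bcFst k X (AlgebraicClosure k) zb} : Set X) :=
      isClosed_p1_of_isClosed (X ↘ Spec (CommRingCat.of k)) (AlgebraicClosure k) zb hzb
    rcases h _ hz with ⟨U, hzU, hsm⟩ | hnode
    · -- smooth neighbourhood: pull back
      haveI := hsm
      let V : (Curv2.bc k X (AlgebraicClosure k)).Opens :=
        (Curv2.bcFst k X (AlgebraicClosure k)) ⁻¹ᵁ U
      have hzV : zb ∈ V := hzU
      haveI : Smooth (V.ι ≫ ((Curv2.bc k X (AlgebraicClosure k)) ↘
          Spec (CommRingCat.of (AlgebraicClosure k)))) := by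
        have hp := (isPullback_morphismRestrict (Curv2.bcFst k X (AlgebraicClosure k)) U).paste_vert
          (IsPullback.of_hasPullback (X ↘ Spec (CommRingCat.of k))
            (Spec.map (CommRingCat.ofHom (algebraMap k (AlgebraicClosure k)))))
        exact MorphismProperty.of_isPullback (P := @Smooth) hp hsm
      haveI := Groth.Agent.Lib.Helper23.NodalGlue.regular_of_smooth_nhd (AlgebraicClosure k)
        (Curv2.bc k X (AlgebraicClosure k)) zb V hzV
      haveI := Groth.Agent.Lib.Helper9.RegLocal.isDomain_of_isRegularLocalRing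
        ((Curv2.bc k X (AlgebraicClosure k)).presheaf.stalk zb)
      infer_instance
    · have hodp := isOrdDoublePt_of_isNode k X _ hnode zb rfl
      letI := Curv2.stalkAlgebra (AlgebraicClosure k) (Curv2.bc k X (AlgebraicClosure k)) zb
      exact Groth.Agent.Lib.Helper23.NodalGlue.isReduced_of_isOrdDoublePt (AlgebraicClosure k) _ hodp
  exact Groth.Agent.Lib.Helper23.NodalGlue.isReduced_stalk_of_specializes _ hyz

theorem geometricallyReduced_of_atWorstNodal (h : Curv2.AtWorstNodal k X) :
    GeometricallyReduced (X ↘ Spec (CommRingCat.of k)) := by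
  rw [Groth.Agent.Lib.Helper14.GeomRedAt.geometricallyReduced_iff_forall_isGeomReducedAt]
  intro x
  obtain ⟨x', hx'⟩ := Groth.Agent.Lib.Helper12.SecCompBC.surjective_bcπ
    (X ↘ Spec (CommRingCat.of k)) (AlgebraicClosure k) x
  refine Groth.Agent.Lib.Helper14.GeomRedAt.isGeomReducedAt_of_perfect
    (X ↘ Spec (CommRingCat.of k)) (AlgebraicClosure k) x x' hx' ?_
  exact isReduced_stalk_bc_of_atWorstNodal k X h x'

end

end Groth.Agent.Lib.Helper22.Nod
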