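import Mathlib
import Groth.Prelude.Def_CurvBase
import Groth.Agent.Lib.Helper22.NodE
import Groth.Agent.Lib.Helper22.NodI
import Groth.Agent.Lib.Helper22.NodJ
import Groth.Agent.Lib.Helper22.NodM

/-!
# Nodes and restriction of scalars along an étale algebraic field extension (helper22)

If `X` is a `k'`-scheme, `k'/k` étale algebraic, and `x` is a node of `X` viewed as a `k`-scheme,
then `x` is a node of the `k'`-scheme `X`.
-/

set_option autoImplicit false
set_option linter.style.haveILetI false

universe u

open AlgebraicGeometry CategoryTheory CategoryTheory.Limits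

namespace Groth.Agent.Lib.Helper22.Nod

variable (k k' : Type u) [Field k] [Field k'] [Algebra k k'] [Algebra.Etale k k']
  [Algebra.IsAlgebraic k k']
  {X : Scheme.{u}} (p' : X ⟶ Spec (CommRingCat.of k'))

theorem isNode_of_isNode_restrictScalars [LocallyOfFiniteType p'] (x : X)
    (hcl : IsClosed ({x} : Set X))
    (hx : letI : X.Over (Spec (CommRingCat.of k)) :=
        ⟨p' ≫ Spec.map (CommRingCat.ofHom (algebraMap k k'))⟩
      Curv2.IsNode k X x) :
    letI : X.Over (Spec (CommRingCat.of k')) := ⟨p'⟩
    Curv2.IsNode k' X x := by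
  haveI : IsScalarTower k k' (AlgebraicClosure k') := inferInstance
  haveI : Algebra.IsAlgebraic k (AlgebraicClosure k') :=
    Algebra.IsAlgebraic.trans k k' (AlgebraicClosure k')
  haveI : IsAlgClosure k (AlgebraicClosure k') := ⟨inferInstance, inferInstance⟩
  let τ : AlgebraicClosure k ≃ₐ[k] AlgebraicClosure k' :=
    IsAlgClosure.equiv k (AlgebraicClosure k) (AlgebraicClosure k')
  haveI : Etale (Spec.map (CommRingCat.ofHom (algebraMap k k'))) := by
    rw [HasRingHomProperty.Spec_iff (P := @Etale)]
    exact RingHom.etale_algebraMap.mpr inferInstance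
  let p : X ⟶ Spec (CommRingCat.of k) := p' ≫ Spec.map (CommRingCat.ofHom (algebraMap k k'))
  haveI : LocallyOfFiniteType p := inferInstance
  let q : pullback p (Spec.map (CommRingCat.ofHom (algebraMap k k'))) ⟶ Spec (CommRingCat.of k') :=
    pullback.snd p (Spec.map (CommRingCat.ofHom (algebraMap k k')))
  haveI : LocallyOfFiniteType q := inferInstance
  let j' : X ⟶ pullback p (Spec.map (CommRingCat.ofHom (algebraMap k k'))) :=
    pullback.lift (𝟙 X) p' (by rw [Category.id_comp])
  have hj'1 : j' ≫ pullback.fst _ _ = 𝟙 X := pullback.lift_fst _ _ _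
  have hj'2 : j' ≫ q = p' := pullback.lift_snd _ _ _
  haveI : Etale j' := by
    haveI : Etale (j' ≫ pullback.fst p (Spec.map (CommRingCat.ofHom (algebraMap k k')))) := by
      rw [hj'1]; infer_instance
    exact Etale.of_comp j' (pullback.fst p (Spec.map (CommRingCat.ofHom (algebraMap k k'))))
  -- the point `j' x` is closed
  have hclW : IsClosed ({j' x} : Set ↥(pullback p (Spec.map (CommRingCat.ofHom (algebraMap k k'))))) := by
    haveI : JacobsonSpace ↥(pullback p (Spec.map (CommRingCat.ofHom (algebraMap k k')))) :=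
      LocallyOfFiniteType.jacobsonSpace q
    haveI : LocallyOfFiniteType (j' ≫ q) := by rw [hj'2]; infer_instance
    haveI : LocallyOfFiniteType j' := locallyOfFiniteType_of_comp j' q
    exact j'.closePoints_subset_preimage_closedPoints hcl
  -- node of `W / k'`
  have hW : @Curv2.IsNode k' _ (pullback p (Spec.map (CommRingCat.ofHom (algebraMap k k'))))
      ⟨q⟩ (j' x) := by
    letI ovW : Scheme.Over (pullback p (Spec.map (CommRingCat.ofHom (algebraMap k k'))))
      (Spec (CommRingCat.of k')) := ⟨q⟩
    letI ovX : X.Over (Spec (CommRingCat.of k)) := ⟨p⟩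
    refine ⟨hclW, ?_⟩
    obtain ⟨yb, hyb⟩ := (pullback.fst q
      (Spec.map (CommRingCat.ofHom (algebraMap k' (AlgebraicClosure k'))))).surjective (j' x)
    let tw := twist k k' (AlgebraicClosure k) (AlgebraicClosure k') τ p
    obtain ⟨zb, rfl⟩ : ∃ zb, (inv tw) zb = yb := ⟨tw yb, by
      rw [← Scheme.Hom.comp_apply, IsIso.hom_inv_id]; rfl⟩
    refine ⟨(inv tw) zb, hyb, ?_⟩
    have hz : Curv2.bcFst k X (AlgebraicClosure k) zb = x := by
      have e1 : zb = tw ((inv tw) zb) := by
        rw [← Scheme.Hom.comp_apply, IsIso.inv_hom_id]; rfl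
      rw [e1]
      show (tw ≫ pullback.fst p _) ((inv tw) zb) = x
      rw [twist_fst, Scheme.Hom.comp_apply]
      show (pullback.fst p _) ((pullback.fst q _) ((inv tw) zb)) = x
      rw [hyb, ← Scheme.Hom.comp_apply, hj'1]; rfl
    haveI : LocallyOfFiniteType (X ↘ Spec (CommRingCat.of k)) := ‹LocallyOfFiniteType p›
    have h1 := isOrdDoublePt_of_isNode k X x hx zb hz
    have hh : inv tw ≫ pullback.snd q
        (Spec.map (CommRingCat.ofHom (algebraMap k' (AlgebraicClosure k')))) =
        pullback.snd p (Spec.map (CommRingCat.ofHom (algebraMap k (AlgebraicClosure k)))) ≫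
          Spec.map (CommRingCat.ofHom τ.toRingEquiv.symm.toRingHom) := by
      rw [IsIso.inv_comp_eq, ← Category.assoc, twist_snd, Category.assoc, ← Spec.map_comp]
      have : CommRingCat.ofHom τ.toRingEquiv.symm.toRingHom ≫
          CommRingCat.ofHom τ.toRingEquiv.toRingHom = 𝟙 _ := by
        apply CommRingCat.hom_ext
        ext c
        show τ (τ.symm c) = c
        exact τ.apply_symm_apply c
      rw [this, Spec.map_id, Category.comp_id]
    haveI : LocallyOfFiniteType (pullback.snd p
        (Spec.map (CommRingCat.ofHom (algebraMap k (AlgebraicClosure k))))) := inferInstance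
    haveI : IsLocallyNoetherian (pullback p
        (Spec.map (CommRingCat.ofHom (algebraMap k (AlgebraicClosure k))))) :=
      LocallyOfFiniteType.isLocallyNoetherian (pullback.snd p _)
    exact isOrdDoublePt_of_etale_semilinear τ.toRingEquiv.symm (pullback.snd p _) (pullback.snd q _)
      (inv tw) hh zb h1
  exact isNode_of_etale k' p' q j' hj'2 x hcl hW

end Groth.Agent.Lib.Helper22.Nod
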