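import Mathlib
import Groth.Prelude.Def_EGA4b
import Groth.Agent.Lib.Helper14.NormFlatGen

/-!
# Normal flatness localizes
-/

set_option autoImplicit false
set_option linter.style.haveILetI false
set_option linter.unusedSectionVars false
universe u

namespace Groth.Agent.Lib.Helper22.NormFlatLoc

open Groth.Agent.Lib.Helper14.NormFlatGen

section F

variable {A : Type u} [CommRing A] (I : Ideal A) (P : Submonoid A) (S : Type u) [CommRing S]
  [Algebra A S] [IsLocalization P S]
  {X Y : Type u} [AddCommGroup X] [Module A X] [Module (A ⧸ I) X] [IsScalarTower A (A ⧸ I) X]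
  [AddCommGroup Y] [Module A Y] [Module (S ⧸ I.map (algebraMap A S)) Y]
  [IsScalarTower A (S ⧸ I.map (algebraMap A S)) Y]

theorem flat_of_isLocalizedModule_quot (ψ : X →ₗ[A] Y) [IsLocalizedModule P ψ]
    (hX : Module.Flat (A ⧸ I) X) :
    Module.Flat (S ⧸ I.map (algebraMap A S)) Y := by
  letI : Module (A ⧸ I) Y := Module.compHom Y (algebraMap (A ⧸ I) (S ⧸ I.map (algebraMap A S)))
  haveI : IsScalarTower (A ⧸ I) (S ⧸ I.map (algebraMap A S)) Y :=
    IsScalarTower.of_algebraMap_smul fun r m => rfl
  have hsm : ∀ (a : A) (y : Y), (Ideal.Quotient.mk I a) • y = a • y := by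
    intro a y
    change (algebraMap (A ⧸ I) (S ⧸ I.map (algebraMap A S)) (Ideal.Quotient.mk I a)) • y = a • y
    rw [← algebraMap_smul (S ⧸ I.map (algebraMap A S)) a y]
    rfl
  haveI : IsScalarTower A (A ⧸ I) Y := by
    refine ⟨fun a b y => ?_⟩
    obtain ⟨b, rfl⟩ := Ideal.Quotient.mk_surjective b
    rw [hsm, Algebra.smul_def, Ideal.Quotient.algebraMap_eq, ← map_mul, hsm, mul_smul]
  have hsurj : Function.Surjective (algebraMap A (A ⧸ I)) := Ideal.Quotient.mk_surjective
  let ψ' : X →ₗ[A ⧸ I] Y := ψ.extendScalarsOfSurjective hsurj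
  haveI : IsLocalizedModule P (ψ'.restrictScalars A) := by
    have : ψ'.restrictScalars A = ψ := LinearMap.ext fun x => rfl
    rw [this]
    infer_instance
  haveI := IsLocalizedModule.of_restrictScalars P ψ'
  exact Module.Flat.of_isLocalizedModule (S ⧸ I.map (algebraMap A S))
    (Algebra.algebraMapSubmonoid (A ⧸ I) P) ψ'

end F

section main

variable {A : Type u} [CommRing A] (I : Ideal A) (P : Submonoid A) (S : Type u) [CommRing S]
  [Algebra A S] [IsLocalization P S]
  {M N : Type u} [AddCommGroup M] [AddCommGroup N] [Module A M] [Module A N] [Module S N]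
  [IsScalarTower A S N] (φ : M →ₗ[A] N) [IsLocalizedModule P φ]

set_option synthInstance.maxHeartbeats 400000 in
set_option maxHeartbeats 1600000 in
include P φ in
theorem isNormallyFlat_of_isLocalizedModule (hM : EGA4.IsNormallyFlat I M) :
    EGA4.IsNormallyFlat (I.map (algebraMap A S)) N := by
  intro n
  have h1 := pow_smul_top_eq_localized' S P φ I n
  obtain ⟨ψ, hψ⟩ := exists_isLocalizedModule_gr S P φ I (I ^ n • ⊤)
    ((I.map (algebraMap A S)) ^ n • ⊤) h1
  exact flat_of_isLocalizedModule_quot I P S ψ (hM n)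

end main

end Groth.Agent.Lib.Helper22.NormFlatLoc
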