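import Groth.Agent.Lib.Helper22.NormalSections
import Groth.Agent.Lib.Helper15.IrrStalk
import Groth.Agent.Lib.Helper7.LRSConnected

/-!
# Normality descends along a proper `f : Xt ⟶ X` with `O_X ≅ f_* O_Xt`, `X` integral of finite
type over a field, `Xt` normal (not assumed integral) (helper22)
-/

set_option autoImplicit false
set_option linter.style.haveILetI false
set_option linter.unusedSectionVars false
universe u
open CategoryTheory AlgebraicGeometry TopologicalSpace Opposite

namespace Groth.Agent.Lib.Helper22.NormalSections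

theorem surjective_of_isIso_app {X Xt : Scheme.{u}} [IsIntegral X] (f : Xt ⟶ X)
    (hcl : IsClosed (Set.range f)) (hfib : ∀ V : X.Opens, IsIso (f.app V)) : Surjective f := by
  refine ⟨fun x => ?_⟩
  by_contra hx
  let V : X.Opens := ⟨(Set.range f)ᶜ, hcl.isOpen_compl⟩
  have hxV : x ∈ V := hx
  have hpre : f ⁻¹ᵁ V = ⊥ := by
    apply Opens.ext
    ext y
    simp only [Opens.coe_bot, Set.mem_empty_iff_false, iff_false]
    intro hy
    exact hy ⟨y, rfl⟩
  haveI : Nonempty (V : Scheme.{u}) := ⟨⟨x, hxV⟩⟩
  haveI : Nontrivial Γ(X, V) := inferInstance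
  haveI := hfib V
  have hinj : Function.Injective (f.app V) := (ConcreteCategory.bijective_of_isIso (f.app V)).1
  have h01 : (f.app V) (0 : Γ(X, V)) = (f.app V) 1 := by
    have hsub : Subsingleton Γ(Xt, f ⁻¹ᵁ V) := by
      rw [hpre]
      infer_instance
    exact Subsingleton.elim _ _
  exact zero_ne_one (hinj h01)

theorem isIntegral_of_isIso_appTop {X Xt : Scheme.{u}} [IsIntegral X] [IsLocallyNoetherian Xt]
    (f : Xt ⟶ X) (hfib : IsIso (f.app ⊤)) (hXt : Pi1.IsNormalScheme Xt) : IsIntegral Xt := by
  haveI := hfib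
  have hinj : Function.Injective (inv (f.app ⊤)) :=
    (ConcreteCategory.bijective_of_isIso (inv (f.app ⊤))).1
  haveI hdom : IsDomain Γ(Xt, f ⁻¹ᵁ ⊤) :=
    Function.Injective.isDomain (inv (f.app ⊤)).hom hinj
  have hdom' : IsDomain Γ(Xt, ⊤) := hdom
  rw [Groth.Agent.Lib.Helper15.NT.isIntegral_iff_connected_and_isDomain_stalk]
  refine ⟨?_, fun x => (hXt x).1⟩
  haveI : PreconnectedSpace Xt := by
    apply Groth.Agent.Lib.Helper7.preconnected_of_idem Xt.toLocallyRingedSpace
    intro e he
    exact (IsIdempotentElem.iff_eq_zero_or_one (G₀ := Γ(Xt, ⊤))).mp he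
  haveI : Nonempty Xt := by
    by_contra hne
    rw [not_nonempty_iff] at hne
    haveI : Subsingleton Γ(Xt, ⊤) := by
      have : (⊤ : Xt.Opens) = ⊥ := by
        apply Opens.ext
        ext y
        exact (hne.false y).elim
      rw [this]
      infer_instance
    exact zero_ne_one (Subsingleton.elim (0 : Γ(Xt, ⊤)) 1)
  exact ConnectedSpace.mk inferInstance

theorem isNormalScheme_of_proper_of_isIso_app (k : Type u) [Field k]
    (X Xt : Scheme.{u}) [X.Over (Spec (CommRingCat.of k))]
    [IsIntegral X] [LocallyOfFiniteType (X ↘ Spec (CommRingCat.of k))]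
    (f : Xt ⟶ X) [IsProper f]
    (hfib : ∀ V : X.Opens, IsIso (f.app V))
    (hXt : Pi1.IsNormalScheme Xt) : Pi1.IsNormalScheme X := by
  haveI : IsLocallyNoetherian X :=
    LocallyOfFiniteType.isLocallyNoetherian (X ↘ Spec (CommRingCat.of k))
  haveI : IsLocallyNoetherian Xt := LocallyOfFiniteType.isLocallyNoetherian f
  haveI := isIntegral_of_isIso_appTop f (hfib ⊤) hXt
  haveI := surjective_of_isIso_app f f.isClosedMap.isClosed_range hfib
  exact isNormalScheme_of_bijective_app f
    (fun V => by haveI := hfib V; exact ConcreteCategory.bijective_of_isIso (f.app V)) hXt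

end Groth.Agent.Lib.Helper22.NormalSections
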