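import Mathlib
import Groth.Prelude.Def_FixPt
import Groth.Agent.Lib.Helper3.QcohStalk
import Groth.Agent.Lib.Helper12.SchemeDimFT3
import Groth.Agent.Lib.Helper12.TopFibreDim
import Groth.Agent.Lib.Helper22.SmoothRank3

/-!
# The fibre of `Ω_{X/Y}` at a closed point bounds the dimension of the fibre of `f` (helper22)

* `localDim_le_finrank` : ring level, `dim_q (fibre) ≤ dim κ(q) ⊗ Ω_{B/A}`.
* `bijective_resMap` : at a closed point of a scheme locally of finite type over an algebraically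
  closed field, `k → κ(x)` is bijective.
* `finrank_fiber_eq` : `dim_k M(x) = dim κ(q) ⊗_B Γ(M, U)` for quasi-coherent `M`.
* `le_fibreDimAt` : an irreducible closed subset of the fibre through `x` has dimension at most
  the local dimension of the fibre at `x`.
* `main` : S14443.
-/

set_option linter.style.haveILetI false
set_option autoImplicit false
set_option maxHeartbeats 400000

universe u

open CategoryTheory AlgebraicGeometry TopologicalSpace TensorProduct

namespace Groth.Agent.Lib.Helper22.OmegaFibre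

open Groth.Agent.Lib.Helper1 Groth.Agent.Lib.Helper12 Groth.Agent.Lib.Helper3
open Groth.Agent.Lib.Helper22.SmoothRank

attribute [local instance] Algebra.TensorProduct.rightAlgebra

theorem localDim_le_finrank (A B : Type u) [CommRing A] [CommRing B] [Algebra A B]
    [Algebra.FiniteType A B] (p : Ideal A) [p.IsPrime]
    (Q : Ideal (p.Fiber B)) [hQ : Q.IsPrime] (q : Ideal B) [hq : q.IsPrime]
    (hQq : Q.comap (Algebra.TensorProduct.includeRight : B →ₐ[A] p.Fiber B) = q) :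
    FlatMor.localDim (PrimeSpectrum (p.Fiber B)) ⟨Q, hQ⟩ ≤
      ((Module.finrank q.ResidueField (q.ResidueField ⊗[B] Ω[B⁄A]) : ℕ) : WithBot ℕ∞) := by
  subst hQq
  haveI : IsScalarTower B (p.Fiber B) Q.ResidueField := inferInstance
  have hK : ∀ b, algebraMap B Q.ResidueField b = 0 ↔
      b ∈ Q.comap Algebra.TensorProduct.includeRight := by
    intro b
    rw [IsScalarTower.algebraMap_apply B (p.Fiber B) Q.ResidueField,
      Ideal.algebraMap_residueField_eq_zero]
    rfl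
  have h1 := finrank_tensor_field Ω[B⁄A] (Q.comap Algebra.TensorProduct.includeRight)
    Q.ResidueField hK
  let e0 : (p.Fiber B) ⊗[B] Ω[B⁄A] ≃ₗ[p.Fiber B] Ω[p.Fiber B⁄p.ResidueField] :=
    KaehlerDifferential.tensorKaehlerEquiv A p.ResidueField B (p.Fiber B)
  let e : Q.ResidueField ⊗[B] Ω[B⁄A] ≃ₗ[Q.ResidueField]
      Q.ResidueField ⊗[p.Fiber B] Ω[p.Fiber B⁄p.ResidueField] :=
    tensorCongr (K := Q.ResidueField) e0
  have h2 : Module.finrank Q.ResidueField
      (Q.ResidueField ⊗[p.Fiber B] Ω[p.Fiber B⁄p.ResidueField]) =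
      Module.finrank (Q.comap Algebra.TensorProduct.includeRight).ResidueField
        ((Q.comap Algebra.TensorProduct.includeRight).ResidueField ⊗[B] Ω[B⁄A]) := by
    rw [← e.finrank_eq, h1]
  rw [← h2]
  haveI : Algebra.FiniteType p.ResidueField (p.Fiber B) := inferInstance
  by_contra hlt
  rw [not_le] at hlt
  haveI : Algebra.IsSmoothAt p.ResidueField Q :=
    isSmoothAt_of_finrank_le p.ResidueField (p.Fiber B) Q _ le_rfl hlt.le
  have h3 := localDim_eq_finrank_of_isSmoothAt p.ResidueField (p.Fiber B) Q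
  rw [h3] at hlt
  exact lt_irrefl _ hlt

theorem bijective_resMap (k : Type u) [Field k] [IsAlgClosed k] (X : Scheme.{u})
    [X.Over (Spec (CommRingCat.of k))] [LocallyOfFiniteType (X ↘ Spec (CommRingCat.of k))]
    (x : X) (hx : IsClosed ({x} : Set X)) : Function.Bijective (Curv2.resMap k X x) := by
  letI := Curv2.resAlgebra k X x
  have h0 := SchemeDimFT.tr_eq_zero_of_isClosed k X x hx
  have h1 := SchemeDimFT.tr_spec k X x
  rw [h0, Nat.cast_zero] at h1
  haveI : Algebra.IsAlgebraic k (X.residueField x) := trdeg_eq_zero_iff.mp h1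
  haveI : Algebra.IsIntegral k (X.residueField x) := Algebra.IsAlgebraic.isIntegral
  exact IsAlgClosed.algebraMap_bijective_of_isIntegral

theorem le_fibreDimAt (k : Type u) [Field k] {X Y : Scheme.{u}} [X.Over (Spec (CommRingCat.of k))]
    [LocallyOfFiniteType (X ↘ Spec (CommRingCat.of k))] (f : X ⟶ Y) (x : X) (Z : Set X)
    (hZ : IsIrreducible Z) (hZc : IsClosed Z) (hxZ : x ∈ Z)
    (hZf : Z ⊆ f.base ⁻¹' {f.base x}) (r : ℕ)
    (hr : topologicalKrullDim ↥Z = (r : WithBot ℕ∞)) :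
    (r : WithBot ℕ∞) ≤ FlatMor.fibreDimAt f x := by
  rw [TopFibreDim.fibreDimAt_eq_topFibreDim]
  unfold TopFibreDim.topFibreDim FlatMor.localDim
  refine le_iInf ?_
  rintro ⟨W, hxW⟩
  obtain ⟨η, hη⟩ := QuasiSober.sober hZ hZc
  have hηZ : η ∈ Z := hη.mem
  have hrη : ((SchemeDimFT.tr k X η : ℕ) : WithBot ℕ∞) = r := by
    have h := SchemeDimFT.topologicalKrullDim_closure_singleton k X η
    rw [hη.def] at h
    rw [← h, hr]
  obtain ⟨O, hO, hOW⟩ := isOpen_induced_iff.mp W.2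
  have hxO : x ∈ O := by
    have h : (⟨x, rfl⟩ : f.base ⁻¹' {f.base x}) ∈ Subtype.val ⁻¹' O := by
      rw [hOW]; exact hxW
    exact h
  have hηO : η ∈ O := (hη.specializes hxZ).mem_open hO hxO
  have h1 := SchemeDimFT.le_topologicalKrullDim_of_isLocallyClosed k X (O ∩ Z)
    ⟨O, Z, hO, hZc, rfl⟩ η ⟨hηO, hηZ⟩
  have hmemW : ∀ z : ↥(O ∩ Z), (⟨z.1, hZf z.2.2⟩ : f.base ⁻¹' {f.base x}) ∈ (W : Set _) := by
    intro z
    show (⟨z.1, hZf z.2.2⟩ : f.base ⁻¹' {f.base x}) ∈ W.1
    rw [← hOW]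
    exact z.2.1
  let ψ : ↥(O ∩ Z) → ↥(W : Set (f.base ⁻¹' {f.base x})) := fun z => ⟨⟨z.1, hZf z.2.2⟩, hmemW z⟩
  have hind : Topology.IsInducing ψ := by
    have hψc : Continuous ψ :=
      Continuous.subtype_mk (Continuous.subtype_mk continuous_subtype_val _) _
    have hvc : Continuous (fun w : ↥(W : Set (f.base ⁻¹' {f.base x})) => (w.1.1 : X)) :=
      continuous_subtype_val.comp continuous_subtype_val
    refine Topology.IsInducing.of_comp hψc hvc ?_
    exact Topology.IsInducing.subtypeVal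
  have h2 := hind.topologicalKrullDim_le
  rw [← hrη]
  exact h1.trans h2

set_option backward.isDefEq.respectTransparency false in
theorem finrank_fiber_eq (k : Type u) [Field k] (X : Scheme.{u}) [X.Over (Spec (CommRingCat.of k))]
    (M : X.Modules) [M.IsQuasicoherent] (x : X)
    (hb : Function.Bijective (Curv2.resMap k X x))
    {U : X.Opens} (hU : IsAffineOpen U) (hxU : x ∈ U) :
    letI := FixPt.fiberModule k X M x
    Module.finrank k (FixPt.fiber M x) =
      Module.finrank (hU.primeIdealOf ⟨x, hxU⟩).asIdeal.ResidueField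
        ((hU.primeIdealOf ⟨x, hxU⟩).asIdeal.ResidueField ⊗[Γ(X, U)] Γ(M, U)) := by
  letI := FixPt.fiberModule k X M x
  letI fld : Field (X.presheaf.stalk x ⧸ IsLocalRing.maximalIdeal (X.presheaf.stalk x)) :=
    Ideal.Quotient.field _
  letI algA : Algebra Γ(X, U) (X.presheaf.stalk x) :=
    TopCat.Presheaf.algebra_section_stalk X.presheaf (U := U) ⟨x, hxU⟩
  haveI locA : IsLocalization.AtPrime (X.presheaf.stalk x)
      (hU.primeIdealOf ⟨x, hxU⟩).asIdeal := hU.isLocalization_stalk ⟨x, hxU⟩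
  letI modAF : Module Γ(X, U) (M.presheaf.stalk x) :=
    Module.compHom _ (algebraMap Γ(X, U) (X.presheaf.stalk x))
  haveI towAF : IsScalarTower Γ(X, U) (X.presheaf.stalk x) (M.presheaf.stalk x) :=
    IsScalarTower.of_algebraMap_smul fun r n => rfl
  let gF : Γ(M, U) →ₗ[Γ(X, U)] M.presheaf.stalk x :=
    { toFun := M.presheaf.germ U x hxU
      map_add' := map_add _
      map_smul' := fun r m => QS.germ_smul M x hxU r m }
  haveI hgF : IsLocalizedModule (hU.primeIdealOf ⟨x, hxU⟩).asIdeal.primeCompl gF :=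
    QS.isLocalizedModule_germ hU M x hxU (fun r z => rfl) gF (fun m => rfl)
  -- step 1: from `k` to the residue field
  have hrk : Module.finrank k (FixPt.fiber M x) =
      Module.finrank (X.presheaf.stalk x ⧸ IsLocalRing.maximalIdeal (X.presheaf.stalk x))
        (FixPt.fiber M x) := by
    unfold Module.finrank
    congr 1
    refine rank_eq_of_equiv_equiv
      (fun c => Ideal.Quotient.mk (IsLocalRing.maximalIdeal (X.presheaf.stalk x))
        (Curv2.stalkMap k X x c)) (AddEquiv.refl _) hb ?_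
    intro c v
    obtain ⟨n, rfl⟩ := Submodule.Quotient.mk_surjective _ v
    rfl
  -- step 2: the fibre as a tensor product over the local ring
  let e1 : (X.presheaf.stalk x ⧸ IsLocalRing.maximalIdeal (X.presheaf.stalk x)) ⊗[X.presheaf.stalk x]
      (M.presheaf.stalk x) ≃ₗ[X.presheaf.stalk x ⧸ IsLocalRing.maximalIdeal (X.presheaf.stalk x)]
      FixPt.fiber M x :=
    (TensorProduct.quotTensorEquivQuotSMul (M.presheaf.stalk x)
      (IsLocalRing.maximalIdeal (X.presheaf.stalk x))).extendScalarsOfSurjective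
        Ideal.Quotient.mk_surjective
  -- step 3: the stalk is the base change of the sections
  let ebc : (X.presheaf.stalk x) ⊗[Γ(X, U)] Γ(M, U) ≃ₗ[X.presheaf.stalk x] M.presheaf.stalk x :=
    (IsLocalizedModule.isBaseChange (hU.primeIdealOf ⟨x, hxU⟩).asIdeal.primeCompl
      (X.presheaf.stalk x) gF).equiv
  let e2 : (X.presheaf.stalk x ⧸ IsLocalRing.maximalIdeal (X.presheaf.stalk x)) ⊗[Γ(X, U)] Γ(M, U)
      ≃ₗ[X.presheaf.stalk x ⧸ IsLocalRing.maximalIdeal (X.presheaf.stalk x)]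
      (X.presheaf.stalk x ⧸ IsLocalRing.maximalIdeal (X.presheaf.stalk x)) ⊗[X.presheaf.stalk x]
        (M.presheaf.stalk x) :=
    tensorCongr (K := X.presheaf.stalk x ⧸ IsLocalRing.maximalIdeal (X.presheaf.stalk x)) ebc
  -- step 4: only the kernel of `B → K` matters
  have hK : ∀ b : Γ(X, U), algebraMap Γ(X, U)
      (X.presheaf.stalk x ⧸ IsLocalRing.maximalIdeal (X.presheaf.stalk x)) b = 0 ↔
      b ∈ (hU.primeIdealOf ⟨x, hxU⟩).asIdeal := by
    intro b
    rw [IsScalarTower.algebraMap_apply Γ(X, U) (X.presheaf.stalk x)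
      (X.presheaf.stalk x ⧸ IsLocalRing.maximalIdeal (X.presheaf.stalk x)),
      Ideal.Quotient.algebraMap_eq, Ideal.Quotient.eq_zero_iff_mem]
    exact IsLocalization.AtPrime.to_map_mem_maximal_iff (X.presheaf.stalk x)
      (hU.primeIdealOf ⟨x, hxU⟩).asIdeal b
  have h4 := finrank_tensor_field Γ(M, U) (hU.primeIdealOf ⟨x, hxU⟩).asIdeal
    (X.presheaf.stalk x ⧸ IsLocalRing.maximalIdeal (X.presheaf.stalk x)) hK
  rw [hrk, ← e1.finrank_eq, ← e2.finrank_eq, h4]

attribute [local instance] FixPt.fiberModule in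
theorem main (k : Type u) [Field k] [IsAlgClosed k]
    {X Y : Scheme.{u}} [X.Over (Spec (CommRingCat.of k))] [Y.Over (Spec (CommRingCat.of k))]
    [LocallyOfFiniteType (X ↘ Spec (CommRingCat.of k))]
    (f : X ⟶ Y) (hf : f ≫ (Y ↘ Spec (CommRingCat.of k)) = X ↘ Spec (CommRingCat.of k))
    (x : X) (hx : IsClosed ({x} : Set X)) (Z : Set X) (hZ : IsIrreducible Z) (hZc : IsClosed Z)
    (hxZ : x ∈ Z) (hZf : Z ⊆ f.base ⁻¹' {f.base x}) (r : ℕ)
    (hr : topologicalKrullDim ↥Z = (r : WithBot ℕ∞)) :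
    r ≤ Module.finrank k (FixPt.fiber (Omega.sheaf f) x) := by
  haveI : LocallyOfFiniteType (f ≫ (Y ↘ Spec (CommRingCat.of k))) := by rw [hf]; infer_instance
  haveI : LocallyOfFiniteType f := locallyOfFiniteType_of_comp f (Y ↘ Spec (CommRingCat.of k))
  haveI : IsLocallyNoetherian X :=
    LocallyOfFiniteType.isLocallyNoetherian (X ↘ Spec (CommRingCat.of k))
  haveI : QuasiSeparated f := inferInstance
  have hd := Groth.Agent.S5005.result f
  haveI : (Omega.sheaf f).IsQuasicoherent := DerSmooth.isQuasicoherent f _ hd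
  obtain ⟨_, ⟨V₀, hV₀, rfl⟩, hxV₀, -⟩ :=
    Y.isBasis_affineOpens.exists_subset_of_mem_open (Set.mem_univ (f x)) isOpen_univ
  obtain ⟨_, ⟨U₀, hU₀, rfl⟩, hxU₀, hUV⟩ :=
    X.isBasis_affineOpens.exists_subset_of_mem_open hxV₀ (V₀.2.preimage f.continuous)
  letI alg : Algebra Γ(Y, V₀) Γ(X, U₀) := (f.appLE V₀ U₀ hUV).hom.toAlgebra
  haveI : Algebra.FiniteType Γ(Y, V₀) Γ(X, U₀) := f.finiteType_appLE hV₀ hU₀ hUV
  have hfib := finrank_fiber_eq k X (Omega.sheaf f) x (bijective_resMap k X x hx) hU₀ hxU₀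
  rw [hfib]
  obtain ⟨qx, hqx⟩ : ∃ qx : PrimeSpectrum Γ(X, U₀), qx = hU₀.primeIdealOf ⟨x, hxU₀⟩ := ⟨_, rfl⟩
  rw [← hqx]
  have hdimq : TopFibreDim.topFibreDim (PrimeSpectrum.comap (algebraMap Γ(Y, V₀) Γ(X, U₀))) qx =
      FlatMor.fibreDimAt f x := by
    have := ChevalleyCor.fibreDimAt_fromSpec f hU₀ hV₀ hUV (hU₀.primeIdealOf ⟨x, hxU₀⟩)
    rw [hU₀.fromSpec_primeIdealOf] at this
    rw [hqx]
    exact this.symm
  rw [Groth.Agent.Lib.Helper24.FibreLocDim.topFibreDim_eq] at hdimq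
  have hQq := congrArg PrimeSpectrum.asIdeal (Chevalley.comap_includeRight_apply
    (PrimeSpectrum.comap (algebraMap Γ(Y, V₀) Γ(X, U₀)) qx) qx rfl)
  have key := localDim_le_finrank Γ(Y, V₀) Γ(X, U₀)
    (PrimeSpectrum.comap (algebraMap Γ(Y, V₀) Γ(X, U₀)) qx).asIdeal
    (PrimeSpectrum.preimageHomeomorphFiber Γ(Y, V₀) Γ(X, U₀)
      (PrimeSpectrum.comap (algebraMap Γ(Y, V₀) Γ(X, U₀)) qx) ⟨qx, rfl⟩).asIdeal qx.asIdeal hQq
  rw [hdimq] at key
  have hle := le_fibreDimAt k f x Z hZ hZc hxZ hZf r hr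
  let τ : Ω[Γ(X, U₀)⁄Γ(Y, V₀)] ≃ₗ[Γ(X, U₀)] Γ(Omega.sheaf f, U₀) :=
    DerFin.sectEquiv f _ hU₀ hV₀ hUV hd
  let τ' : qx.asIdeal.ResidueField ⊗[Γ(X, U₀)] Ω[Γ(X, U₀)⁄Γ(Y, V₀)] ≃ₗ[qx.asIdeal.ResidueField]
      qx.asIdeal.ResidueField ⊗[Γ(X, U₀)] Γ(Omega.sheaf f, U₀) :=
    TensorProduct.AlgebraTensorModule.congr (LinearEquiv.refl _ _) τ
  rw [τ'.finrank_eq] at key
  exact_mod_cast hle.trans key

end Groth.Agent.Lib.Helper22.OmegaFibre
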