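import Mathlib
import Groth.Agent.Lib.Helper1.OmSeq2
import Groth.Agent.Lib.Helper1.QcMono

set_option autoImplicit false
set_option linter.style.haveILetI false
universe u
open CategoryTheory CategoryTheory.Limits AlgebraicGeometry TopologicalSpace Opposite TensorProduct

namespace Groth.Agent.Lib.Helper22.OmegaGen

section Alg

variable (A B₁ B₂ K : Type*) [CommRing A] [CommRing B₁] [CommRing B₂] [CommRing K]
  [Algebra A B₁] [Algebra A B₂] [Algebra B₁ B₂] [IsScalarTower A B₁ B₂]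
  [Algebra A K] [Algebra B₁ K] [Algebra B₂ K] [IsScalarTower A B₁ K] [IsScalarTower A B₂ K]
  [IsScalarTower B₁ B₂ K]

theorem map_map (ω : Ω[B₁⁄A]) :
    KaehlerDifferential.map A A B₂ K (KaehlerDifferential.map A A B₁ B₂ ω) =
      KaehlerDifferential.map A A B₁ K ω := by
  have hω : ω ∈ Submodule.span B₁ (Set.range (KaehlerDifferential.D A B₁)) := by
    rw [KaehlerDifferential.span_range_derivation]; trivial
  induction hω using Submodule.span_induction with
  | mem y hy =>
    obtain ⟨b, rfl⟩ := hy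
    simp only [KaehlerDifferential.map_D]
    rw [← IsScalarTower.algebraMap_apply]
  | zero => simp only [map_zero]
  | add y z _ _ hy hz => simp only [map_add, hy, hz]
  | smul r y _ hy =>
    have e1 : KaehlerDifferential.map A A B₁ B₂ (r • y) =
        algebraMap B₁ B₂ r • KaehlerDifferential.map A A B₁ B₂ y := by
      rw [map_smul, algebraMap_smul]
    have e2 : KaehlerDifferential.map A A B₁ K (r • y) =
        algebraMap B₁ K r • KaehlerDifferential.map A A B₁ K y := by
      rw [map_smul, algebraMap_smul]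
    rw [e1, e2, map_smul, hy, ← algebraMap_smul K (algebraMap B₁ B₂ r),
      ← IsScalarTower.algebraMap_apply]

/-- the compatibility square -/
theorem map_mapBaseChange (z : B₂ ⊗[B₁] Ω[B₁⁄A]) :
    KaehlerDifferential.map A A B₂ K (KaehlerDifferential.mapBaseChange A B₁ B₂ z) =
      KaehlerDifferential.mapBaseChange A B₁ K
        (LinearMap.rTensor Ω[B₁⁄A] (IsScalarTower.toAlgHom B₁ B₂ K).toLinearMap z) := by
  induction z using TensorProduct.induction_on with
  | zero => simp only [map_zero]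
  | tmul b ω =>
    rw [KaehlerDifferential.mapBaseChange_tmul, LinearMap.rTensor_tmul,
      KaehlerDifferential.mapBaseChange_tmul, map_smul, map_map]
    simp only [AlgHom.toLinearMap_apply, IsScalarTower.coe_toAlgHom', algebraMap_smul]
  | add x y hx hy => simp only [map_add, hx, hy]

/-- generic injectivity criterion for the first map of the cotangent sequence -/
theorem mapBaseChange_injective [Module.Flat B₁ Ω[B₁⁄A]]
    (hinj : Function.Injective (algebraMap B₂ K)) [Algebra.FormallyEtale B₁ K] :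
    Function.Injective (KaehlerDifferential.mapBaseChange A B₁ B₂) := by
  rw [injective_iff_map_eq_zero]
  intro z hz
  have h1 : Function.Injective
      (LinearMap.rTensor Ω[B₁⁄A] (IsScalarTower.toAlgHom B₁ B₂ K).toLinearMap) :=
    Module.Flat.rTensor_preserves_injective_linearMap _ hinj
  apply h1
  rw [map_zero]
  apply (KaehlerDifferential.tensorKaehlerEquivOfFormallyEtale A B₁ K).injective
  rw [map_zero, KaehlerDifferential.tensorKaehlerEquivOfFormallyEtale_apply, ← map_mapBaseChange,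
    hz, map_zero]

/-- variant: injectivity at the level of `K` is the hypothesis -/
theorem mapBaseChange_injective_of_injective [Module.Flat B₁ Ω[B₁⁄A]]
    (hinj : Function.Injective (algebraMap B₂ K))
    (hK : Function.Injective (KaehlerDifferential.mapBaseChange A B₁ K)) :
    Function.Injective (KaehlerDifferential.mapBaseChange A B₁ B₂) := by
  rw [injective_iff_map_eq_zero]
  intro z hz
  have h1 : Function.Injective
      (LinearMap.rTensor Ω[B₁⁄A] (IsScalarTower.toAlgHom B₁ B₂ K).toLinearMap) :=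
    Module.Flat.rTensor_preserves_injective_linearMap _ hinj
  apply h1
  rw [map_zero]
  apply hK
  rw [map_zero, ← map_mapBaseChange, hz, map_zero]

end Alg

section Sch

open Groth.Agent.Lib.Helper1

variable {X Y S : Scheme.{u}} (g : Y ⟶ S) (f : X ⟶ Y)
  {ΩY : Y.Modules} (dY : OmegaSh.Der g ΩY) (hY : OmegaSh.IsUniversal dY)
  {ΩX : X.Modules} (dX : OmegaSh.Der (f ≫ g) ΩX) (hX : OmegaSh.IsUniversal dX)
  (c : (Scheme.Modules.pullback f).obj ΩY ⟶ ΩX) (hc : OmegaSh.IsDiffCompat f dY dX c)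
  {V : S.Opens} (hV : IsAffineOpen V) {U₁ : Y.Opens} (hU₁ : IsAffineOpen U₁)
  {U₂ : X.Opens} (hU₂ : IsAffineOpen U₂) (e : U₂ ≤ f ⁻¹ᵁ U₁) (e₁ : U₁ ≤ g ⁻¹ᵁ V)

include hY hX hc hV hU₁ hU₂ e₁ in
theorem app_eq_comp :
    letI := (g.appLE V U₁ e₁).hom.toAlgebra
    letI := (f.appLE U₁ U₂ e).hom.toAlgebra
    letI := ((f.appLE U₁ U₂ e).hom.comp (g.appLE V U₁ e₁).hom).toAlgebra
    haveI : IsScalarTower Γ(S, V) Γ(Y, U₁) Γ(X, U₂) := IsScalarTower.of_algebraMap_eq fun _ => rfl
    ∃ (E : Γ(X, U₂) ⊗[Γ(Y, U₁)] Ω[Γ(Y, U₁)⁄Γ(S, V)] ≃+ Γ((Scheme.Modules.pullback f).obj ΩY, U₂))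
      (T : Ω[Γ(X, U₂)⁄Γ(S, V)] ≃+ Γ(ΩX, U₂)),
      (c.app U₂ : _ → _) =
        T ∘ (KaehlerDifferential.mapBaseChange Γ(S, V) Γ(Y, U₁) Γ(X, U₂)) ∘ E.symm := by
  letI alg₁ := (g.appLE V U₁ e₁).hom.toAlgebra
  letI alg₃ := (f.appLE U₁ U₂ e).hom.toAlgebra
  letI alg₅ := ((f.appLE U₁ U₂ e).hom.comp (g.appLE V U₁ e₁).hom).toAlgebra
  haveI t₁ : IsScalarTower Γ(S, V) Γ(Y, U₁) Γ(X, U₂) := IsScalarTower.of_algebraMap_eq fun _ => rfl
  obtain ⟨E, T, hET⟩ := OmSeq.exists_equivs_tower g f dY hY dX hX c hc hV hU₁ hU₂ e e₁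
  refine ⟨E, T, ?_⟩
  funext y
  obtain ⟨z, rfl⟩ := E.surjective y
  rw [hET]
  simp only [Function.comp_apply, AddEquiv.symm_apply_apply]

include hY hX hc hV hU₁ hU₂ e₁ in
theorem app_injective_of_mapBaseChange
    (h : letI := (g.appLE V U₁ e₁).hom.toAlgebra
      letI := (f.appLE U₁ U₂ e).hom.toAlgebra
      letI := ((f.appLE U₁ U₂ e).hom.comp (g.appLE V U₁ e₁).hom).toAlgebra
      haveI : IsScalarTower Γ(S, V) Γ(Y, U₁) Γ(X, U₂) :=
        IsScalarTower.of_algebraMap_eq fun _ => rfl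
      Function.Injective (KaehlerDifferential.mapBaseChange Γ(S, V) Γ(Y, U₁) Γ(X, U₂))) :
    Function.Injective (c.app U₂) := by
  letI alg₁ := (g.appLE V U₁ e₁).hom.toAlgebra
  letI alg₃ := (f.appLE U₁ U₂ e).hom.toAlgebra
  letI alg₅ := ((f.appLE U₁ U₂ e).hom.comp (g.appLE V U₁ e₁).hom).toAlgebra
  haveI t₁ : IsScalarTower Γ(S, V) Γ(Y, U₁) Γ(X, U₂) := IsScalarTower.of_algebraMap_eq fun _ => rfl
  obtain ⟨E, T, hET⟩ := app_eq_comp g f dY hY dX hX c hc hV hU₁ hU₂ e e₁
  rw [hET]
  exact T.injective.comp (h.comp E.symm.injective)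

/-- evaluation at the generic point of an integral scheme is injective on sections -/
theorem evaluation_genericPoint_injective [IsIntegral X] {U : X.Opens}
    (hξ : genericPoint X ∈ U) :
    Function.Injective (X.evaluation U (genericPoint X) hξ).hom := by
  rw [injective_iff_map_eq_zero]
  intro s hs
  have hbot : X.basicOpen s = ⊥ := by
    by_contra hne
    obtain ⟨z, hz⟩ : (X.basicOpen s : Set X).Nonempty := by
      rw [Set.nonempty_iff_ne_empty]
      intro h0
      exact hne (Opens.ext h0)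
    have hξs : genericPoint X ∈ X.basicOpen s :=
      ((genericPoint_spec X).mem_open_set_iff (X.basicOpen s).isOpen).mpr ⟨z, trivial, hz⟩
    exact ((X.evaluation_eq_zero_iff_notMem_basicOpen (genericPoint X) hξ s).mp hs) hξs
  exact (basicOpen_eq_bot_iff s).mp hbot

include hY hX hc in
/-- If `Y ⟶ S` is smooth, `X` is integral, and the composite `O_{Y,f ξ} ⟶ O_{X,ξ} ⟶ κ(ξ)` at the
generic point `ξ` of `X` is formally étale, then `f^* Ω_{Y/S} ⟶ Ω_{X/S}` is a monomorphism. -/
theorem mono_of_generic_formallyEtale [IsIntegral X] [Smooth g]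
    (hgen : (f.stalkMap (genericPoint X) ≫ X.residue (genericPoint X)).hom.FormallyEtale) :
    Mono c := by
  haveI : ΩY.IsQuasicoherent := DerSmooth.isQuasicoherent g dY hY
  haveI : ΩX.IsQuasicoherent := DerSmooth.isQuasicoherent (f ≫ g) dX hX
  haveI : ((Scheme.Modules.pullback f).obj ΩY).IsQuasicoherent :=
    Groth.Agent.Lib.Helper17.PbStalk.isQuasicoherent_pullback f ΩY
  apply QcMono.mono_of_injective_on_affine_cover
  intro x
  obtain ⟨V, U₁, U₂, hV, hU₁, hU₂, hxU₂, -, e, e₁⟩ := OmSeq.exists_affine_triple g f x ⊤ trivial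
  refine ⟨U₂, hU₂, hxU₂, ?_⟩
  apply app_injective_of_mapBaseChange g f dY hY dX hX c hc hV hU₁ hU₂ e e₁
  letI alg₁ := (g.appLE V U₁ e₁).hom.toAlgebra
  letI alg₃ := (f.appLE U₁ U₂ e).hom.toAlgebra
  letI alg₅ := ((f.appLE U₁ U₂ e).hom.comp (g.appLE V U₁ e₁).hom).toAlgebra
  haveI t₁ : IsScalarTower Γ(S, V) Γ(Y, U₁) Γ(X, U₂) := IsScalarTower.of_algebraMap_eq fun _ => rfl
  have hξ : genericPoint X ∈ U₂ :=
    ((genericPoint_spec X).mem_open_set_iff U₂.isOpen).mpr ⟨x, trivial, hxU₂⟩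
  letI algK₂ : Algebra Γ(X, U₂) (X.residueField (genericPoint X)) :=
    (X.evaluation U₂ (genericPoint X) hξ).hom.toAlgebra
  letI algK₁ : Algebra Γ(Y, U₁) (X.residueField (genericPoint X)) :=
    ((X.evaluation U₂ (genericPoint X) hξ).hom.comp (f.appLE U₁ U₂ e).hom).toAlgebra
  letI algK₀ : Algebra Γ(S, V) (X.residueField (genericPoint X)) :=
    (((X.evaluation U₂ (genericPoint X) hξ).hom.comp (f.appLE U₁ U₂ e).hom).comp
      (g.appLE V U₁ e₁).hom).toAlgebra
  haveI : IsScalarTower Γ(S, V) Γ(Y, U₁) (X.residueField (genericPoint X)) :=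
    IsScalarTower.of_algebraMap_eq fun _ => rfl
  haveI : IsScalarTower Γ(S, V) Γ(X, U₂) (X.residueField (genericPoint X)) :=
    IsScalarTower.of_algebraMap_eq fun _ => rfl
  haveI : IsScalarTower Γ(Y, U₁) Γ(X, U₂) (X.residueField (genericPoint X)) :=
    IsScalarTower.of_algebraMap_eq fun _ => rfl
  haveI : Module.Flat Γ(Y, U₁) Ω[Γ(Y, U₁)⁄Γ(S, V)] := by
    have hsm : (g.appLE V U₁ e₁).hom.Smooth :=
      HasRingHomProperty.appLE (P := @Smooth) g inferInstance ⟨V, hV⟩ ⟨U₁, hU₁⟩ e₁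
    haveI : Algebra.Smooth Γ(S, V) Γ(Y, U₁) := hsm
    infer_instance
  haveI : Algebra.FormallyEtale Γ(Y, U₁) (X.residueField (genericPoint X)) := by
    rw [← RingHom.formallyEtale_algebraMap]
    have hcomp : algebraMap Γ(Y, U₁) (X.residueField (genericPoint X)) =
        ((f.stalkMap (genericPoint X) ≫ X.residue (genericPoint X)).hom).comp
          (Y.presheaf.germ U₁ (f (genericPoint X)) (e hξ)).hom := by
      ext a
      show (X.evaluation U₂ (genericPoint X) hξ).hom ((f.appLE U₁ U₂ e).hom a) =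
        (X.residue (genericPoint X)).hom ((f.stalkMap (genericPoint X)).hom
          ((Y.presheaf.germ U₁ (f (genericPoint X)) (e hξ)).hom a))
      rw [Scheme.Hom.germ_stalkMap_apply]
      simp only [Scheme.Hom.appLE, CommRingCat.hom_comp, RingHom.coe_comp, Function.comp_apply,
        Scheme.evaluation, X.presheaf.germ_res_apply]
    rw [hcomp]
    refine RingHom.FormallyEtale.comp ?_ hgen
    letI algSt : Algebra Γ(Y, U₁) (Y.presheaf.stalk (f (genericPoint X))) :=
      (Y.presheaf.germ U₁ (f (genericPoint X)) (e hξ)).hom.toAlgebra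
    haveI loc : IsLocalization.AtPrime (Y.presheaf.stalk (f (genericPoint X)))
        (hU₁.primeIdealOf ⟨f (genericPoint X), e hξ⟩).asIdeal :=
      hU₁.isLocalization_stalk ⟨f (genericPoint X), e hξ⟩
    haveI : Algebra.FormallyEtale Γ(Y, U₁) (Y.presheaf.stalk (f (genericPoint X))) :=
      Algebra.FormallyEtale.of_isLocalization
        (hU₁.primeIdealOf ⟨f (genericPoint X), e hξ⟩).asIdeal.primeCompl
    exact RingHom.formallyEtale_algebraMap.mpr this
  exact mapBaseChange_injective Γ(S, V) Γ(Y, U₁) Γ(X, U₂) (X.residueField (genericPoint X))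
    (evaluation_genericPoint_injective hξ)

include hY hX hc in
/-- If `Y ⟶ S` is smooth, `X` is integral, and the stalk map `O_{Y,f ξ} ⟶ O_{X,ξ}` at the
generic point `ξ` of `X` is formally smooth, then `f^* Ω_{Y/S} ⟶ Ω_{X/S}` is a monomorphism. -/
theorem mono_of_generic_formallySmooth [IsIntegral X] [Smooth g]
    (hgen : (f.stalkMap (genericPoint X)).hom.FormallySmooth) :
    Mono c := by
  haveI : ΩY.IsQuasicoherent := DerSmooth.isQuasicoherent g dY hY
  haveI : ΩX.IsQuasicoherent := DerSmooth.isQuasicoherent (f ≫ g) dX hX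
  haveI : ((Scheme.Modules.pullback f).obj ΩY).IsQuasicoherent :=
    Groth.Agent.Lib.Helper17.PbStalk.isQuasicoherent_pullback f ΩY
  apply QcMono.mono_of_injective_on_affine_cover
  intro x
  obtain ⟨V, U₁, U₂, hV, hU₁, hU₂, hxU₂, -, e, e₁⟩ := OmSeq.exists_affine_triple g f x ⊤ trivial
  refine ⟨U₂, hU₂, hxU₂, ?_⟩
  apply app_injective_of_mapBaseChange g f dY hY dX hX c hc hV hU₁ hU₂ e e₁
  letI alg₁ := (g.appLE V U₁ e₁).hom.toAlgebra
  letI alg₃ := (f.appLE U₁ U₂ e).hom.toAlgebra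
  letI alg₅ := ((f.appLE U₁ U₂ e).hom.comp (g.appLE V U₁ e₁).hom).toAlgebra
  haveI t₁ : IsScalarTower Γ(S, V) Γ(Y, U₁) Γ(X, U₂) := IsScalarTower.of_algebraMap_eq fun _ => rfl
  have hξ : genericPoint X ∈ U₂ :=
    ((genericPoint_spec X).mem_open_set_iff U₂.isOpen).mpr ⟨x, trivial, hxU₂⟩
  letI algK₂ : Algebra Γ(X, U₂) (X.presheaf.stalk (genericPoint X)) :=
    (X.presheaf.germ U₂ (genericPoint X) hξ).hom.toAlgebra
  letI algK₁ : Algebra Γ(Y, U₁) (X.presheaf.stalk (genericPoint X)) :=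
    ((X.presheaf.germ U₂ (genericPoint X) hξ).hom.comp (f.appLE U₁ U₂ e).hom).toAlgebra
  letI algK₀ : Algebra Γ(S, V) (X.presheaf.stalk (genericPoint X)) :=
    (((X.presheaf.germ U₂ (genericPoint X) hξ).hom.comp (f.appLE U₁ U₂ e).hom).comp
      (g.appLE V U₁ e₁).hom).toAlgebra
  haveI : IsScalarTower Γ(S, V) Γ(Y, U₁) (X.presheaf.stalk (genericPoint X)) :=
    IsScalarTower.of_algebraMap_eq fun _ => rfl
  haveI : IsScalarTower Γ(S, V) Γ(X, U₂) (X.presheaf.stalk (genericPoint X)) :=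
    IsScalarTower.of_algebraMap_eq fun _ => rfl
  haveI : IsScalarTower Γ(Y, U₁) Γ(X, U₂) (X.presheaf.stalk (genericPoint X)) :=
    IsScalarTower.of_algebraMap_eq fun _ => rfl
  haveI : Module.Flat Γ(Y, U₁) Ω[Γ(Y, U₁)⁄Γ(S, V)] := by
    have hsm : (g.appLE V U₁ e₁).hom.Smooth :=
      HasRingHomProperty.appLE (P := @Smooth) g inferInstance ⟨V, hV⟩ ⟨U₁, hU₁⟩ e₁
    haveI : Algebra.Smooth Γ(S, V) Γ(Y, U₁) := hsm
    infer_instance
  haveI : Algebra.FormallySmooth Γ(Y, U₁) (X.presheaf.stalk (genericPoint X)) := by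
    rw [← RingHom.formallySmooth_algebraMap]
    have hcomp : algebraMap Γ(Y, U₁) (X.presheaf.stalk (genericPoint X)) =
        ((f.stalkMap (genericPoint X)).hom).comp
          (Y.presheaf.germ U₁ (f (genericPoint X)) (e hξ)).hom := by
      ext a
      show (X.presheaf.germ U₂ (genericPoint X) hξ).hom ((f.appLE U₁ U₂ e).hom a) =
        (f.stalkMap (genericPoint X)).hom
          ((Y.presheaf.germ U₁ (f (genericPoint X)) (e hξ)).hom a)
      rw [Scheme.Hom.germ_stalkMap_apply]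
      simp only [Scheme.Hom.appLE, CommRingCat.hom_comp, RingHom.coe_comp, Function.comp_apply,
        X.presheaf.germ_res_apply]
    rw [hcomp]
    refine RingHom.FormallySmooth.comp ?_ hgen
    letI algSt : Algebra Γ(Y, U₁) (Y.presheaf.stalk (f (genericPoint X))) :=
      (Y.presheaf.germ U₁ (f (genericPoint X)) (e hξ)).hom.toAlgebra
    haveI loc : IsLocalization.AtPrime (Y.presheaf.stalk (f (genericPoint X)))
        (hU₁.primeIdealOf ⟨f (genericPoint X), e hξ⟩).asIdeal :=
      hU₁.isLocalization_stalk ⟨f (genericPoint X), e hξ⟩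
    haveI : Algebra.FormallySmooth Γ(Y, U₁) (Y.presheaf.stalk (f (genericPoint X))) :=
      Algebra.FormallySmooth.of_isLocalization
        (hU₁.primeIdealOf ⟨f (genericPoint X), e hξ⟩).asIdeal.primeCompl
    exact RingHom.formallySmooth_algebraMap.mpr this
  exact mapBaseChange_injective_of_injective Γ(S, V) Γ(Y, U₁) Γ(X, U₂)
    (X.presheaf.stalk (genericPoint X)) (germ_injective_of_isIntegral X (genericPoint X) hξ)
    (OmSeq.mapBaseChange_injective_of_formallySmooth Γ(S, V) Γ(Y, U₁)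
      (X.presheaf.stalk (genericPoint X)))

end Sch

end Groth.Agent.Lib.Helper22.OmegaGen
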