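import Mathlib
import Groth.Agent.Lib.Helper14.GeomRedAt
import Groth.Agent.Lib.Helper14.DenseSmooth
import Groth.Agent.Lib.Helper12.SecCompBC

set_option autoImplicit false
set_option linter.style.haveILetI false
set_option linter.unusedVariables false
universe u
open CategoryTheory CategoryTheory.Limits AlgebraicGeometry TopologicalSpace Opposite

/-! A scheme over a field whose base change to an algebraic closure is normal is geometrically
reduced, hence generically smooth. -/

namespace Groth.Agent.Lib.Helper22.OmegaGen10

theorem geometricallyReduced_of_normal_algClosure (k : Type u) [Field k] {X : Scheme.{u}}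
    (f : X ⟶ Spec (CommRingCat.of k))
    (hgn : ∀ (K : Type u) [Field K] [Algebra k K] [IsAlgClosure k K],
      Pi1.IsNormalScheme (pullback f (Spec.map (CommRingCat.ofHom (algebraMap k K))))) :
    GeometricallyReduced f := by
  rw [Groth.Agent.Lib.Helper14.GeomRedAt.geometricallyReduced_iff_forall_isGeomReducedAt]
  intro x
  obtain ⟨x', hx'⟩ := Groth.Agent.Lib.Helper12.SecCompBC.surjective_bcπ f (AlgebraicClosure k) x
  refine Groth.Agent.Lib.Helper14.GeomRedAt.isGeomReducedAt_of_perfect f (AlgebraicClosure k)
    x x' hx' ?_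
  haveI : IsDomain ((FBase.bc f (AlgebraicClosure k)).presheaf.stalk x') :=
    (hgn (AlgebraicClosure k) x').1
  change _root_.IsReduced ((FBase.bc f (AlgebraicClosure k)).presheaf.stalk x')
  infer_instance

theorem exists_nonempty_smooth_open (k : Type u) [Field k] {X : Scheme.{u}} [IsIntegral X]
    (f : X ⟶ Spec (CommRingCat.of k)) [LocallyOfFiniteType f]
    (hgn : ∀ (K : Type u) [Field K] [Algebra k K] [IsAlgClosure k K],
      Pi1.IsNormalScheme (pullback f (Spec.map (CommRingCat.ofHom (algebraMap k K))))) :
    ∃ V : X.Opens, (V : Set X).Nonempty ∧ Smooth (V.ι ≫ f) := by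
  have h := geometricallyReduced_of_normal_algClosure k f hgn
  obtain ⟨V, hVd, hVs⟩ :=
    (Groth.Agent.Lib.Helper14.DenseSmooth.geomReduced_iff_dense_smooth k f).mp h
  exact ⟨V, hVd.nonempty, hVs⟩

end Groth.Agent.Lib.Helper22.OmegaGen10
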