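import Mathlib

set_option autoImplicit false
set_option linter.style.haveILetI false
set_option linter.unusedVariables false
universe u

/-! Nonvanishing of a wedge in an exterior power, detected in a vector space. -/

namespace Groth.Agent.Lib.Helper22.OmegaGen8

theorem ιMulti_ne_zero {B K N V : Type*} [CommRing B] [Field K] [Algebra B K] [AddCommGroup N]
    [Module B N] [AddCommGroup V] [Module K V] [Module B V] [IsScalarTower B K V]
    (Ψ : N →ₗ[B] V) {m : ℕ} (v : Fin m → N)
    (hli : LinearIndependent K (fun i => Ψ (v i))) : exteriorPower.ιMulti B m v ≠ 0 := by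
  classical
  obtain ⟨g, hg⟩ := LinearMap.exists_extend
    ((Finsupp.linearEquivFunOnFinite K K (Fin m)).toLinearMap ∘ₗ hli.repr)
  have hgv : ∀ j, g (Ψ (v j)) = Pi.single j 1 := by
    intro j
    have h1 := LinearMap.congr_fun hg ⟨Ψ (v j), Submodule.subset_span ⟨j, rfl⟩⟩
    simp only [LinearMap.coe_comp, Function.comp_apply, Submodule.coe_subtype,
      LinearEquiv.coe_coe] at h1
    rw [h1, hli.repr_eq_single j _ rfl]
    ext i
    simp [Finsupp.single_apply, Pi.single_apply, eq_comm]
  let L : N →ₗ[B] (Fin m → K) := (g.restrictScalars B) ∘ₗ Ψ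
  have hL : ∀ j, L (v j) = Pi.single j 1 := fun j => hgv j
  let mm : MultilinearMap B (fun _ : Fin m => N) K :=
    ((Matrix.detRowAlternating (R := K) (n := Fin m)).toMultilinearMap.restrictScalars
      B).compLinearMap (fun _ => L)
  have hmm : ∀ x : Fin m → N, mm x = Matrix.det (Matrix.of fun i => L (x i)) := fun x => rfl
  let A : N [⋀^Fin m]→ₗ[B] K :=
    { mm with
      map_eq_zero_of_eq' := by
        intro x i j hx hij
        change mm x = 0
        rw [hmm]
        exact Matrix.det_zero_of_row_eq hij (by
          ext l
          simp only [Matrix.of_apply]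
          rw [hx]) }
  intro h0
  have h1 := exteriorPower.alternatingMapLinearEquiv_apply_ιMulti A v
  rw [h0, map_zero] at h1
  have h2 : A v = 1 := by
    change mm v = 1
    rw [hmm]
    have : (Matrix.of fun i => L (v i)) = (1 : Matrix (Fin m) (Fin m) K) := by
      ext i j
      simp only [Matrix.of_apply, hL, Matrix.one_apply, Pi.single_apply]
      by_cases h : i = j
      · simp [h]
      · simp [h, Ne.symm h]
    rw [this, Matrix.det_one]
  rw [h2] at h1
  exact one_ne_zero h1.symm

end Groth.Agent.Lib.Helper22.OmegaGen8
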