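import Mathlib
import Groth.Prelude.Def_ExtPow2
import Groth.Agent.Lib.Helper3.QCSec
import Groth.Agent.Lib.Helper1.PPLeib

set_option autoImplicit false
set_option linter.style.haveILetI false
set_option linter.unusedVariables false
universe u
open CategoryTheory AlgebraicGeometry TopologicalSpace Opposite

/-! Gluing the wedge of sections of `E` over an arbitrary open into a section of an exterior
power `L` of `E` (in the sense of `ExtPow.IsExtPow`). -/

namespace Groth.Agent.Lib.Helper22.OmegaGen9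

open Groth.Agent.Lib.Helper3 Groth.Agent.Lib.Helper3.QCSec

theorem exists_wedge_section {X : Scheme.{u}} {i : ℕ} {E L : X.Modules}
    (φ : ∀ U : X.affineOpens, (L.val.obj (op U.1)) ≃ₗ[Γ(X, U.1)]
      ↥(⋀[Γ(X, U.1)]^i (E.val.obj (op U.1))))
    (hφ : ∀ (U V : X.affineOpens) (h : V.1 ≤ U.1) (e : Fin i → E.val.obj (op U.1)),
      L.val.map (homOfLE h).op ((φ U).symm (exteriorPower.ιMulti _ i e)) =
        (φ V).symm (exteriorPower.ιMulti _ i (fun j => E.val.map (homOfLE h).op (e j))))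
    (U : X.Opens) (s : Fin i → Γ(E, U)) :
    ∃ t : Γ(L, U), ∀ (W : X.affineOpens) (hW : W.1 ≤ U),
      res L hW t = (φ W).symm (exteriorPower.ιMulti _ i (fun j => res E hW (s j))) := by
  have hφ' : ∀ (W W' : X.affineOpens) (h : W'.1 ≤ W.1) (e : Fin i → Γ(E, W.1)),
      res L h ((φ W).symm (exteriorPower.ιMulti _ i e)) =
        (φ W').symm (exteriorPower.ιMulti _ i (fun j => res E h (e j))) :=
    fun W W' h e => hφ W W' h e
  let Ms : TopCat.Sheaf AddCommGrpCat.{u} X := ⟨L.presheaf, L.isSheaf⟩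
  let Wc : {W : X.affineOpens // W.1 ≤ U} → X.Opens := fun W => W.1.1
  let sf : ∀ W : {W : X.affineOpens // W.1 ≤ U}, Γ(L, Wc W) := fun W =>
    (φ W.1).symm (exteriorPower.ιMulti _ i (fun j => res E W.2 (s j)))
  have hcov : U ≤ ⨆ W, Wc W := by
    intro x hx
    obtain ⟨_, ⟨W, hW, rfl⟩, hxW, hWU⟩ :=
      X.isBasis_affineOpens.exists_subset_of_mem_open hx U.isOpen
    exact Opens.mem_iSup.mpr ⟨⟨⟨W, hW⟩, hWU⟩, hxW⟩
  have hcompat : TopCat.Presheaf.IsCompatible Ms.1 Wc sf := by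
    intro W W'
    change res L (inf_le_left : Wc W ⊓ Wc W' ≤ Wc W) (sf W) =
      res L (inf_le_right : Wc W ⊓ Wc W' ≤ Wc W') (sf W')
    apply Groth.Agent.Lib.Helper1.PPLeib.section_ext
    intro x hx
    obtain ⟨_, ⟨W'', hW'', rfl⟩, hxW'', hle⟩ :=
      X.isBasis_affineOpens.exists_subset_of_mem_open hx (Wc W ⊓ Wc W').isOpen
    refine ⟨W'', hle, hxW'', ?_⟩
    change res L hle (res L (inf_le_left : Wc W ⊓ Wc W' ≤ Wc W) (sf W)) =
      res L hle (res L (inf_le_right : Wc W ⊓ Wc W' ≤ Wc W') (sf W'))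
    rw [res_res, res_res]
    have h1 := hφ' W.1 ⟨W'', hW''⟩ (hle.trans inf_le_left) (fun j => res E W.2 (s j))
    have h2 := hφ' W'.1 ⟨W'', hW''⟩ (hle.trans inf_le_right) (fun j => res E W'.2 (s j))
    simp only [res_res] at h1 h2
    exact h1.trans h2.symm
  obtain ⟨t, ht, -⟩ := TopCat.Sheaf.existsUnique_gluing' Ms Wc U
    (fun W => homOfLE W.2) hcov sf hcompat
  refine ⟨t, fun W hW => ?_⟩
  exact ht ⟨W, hW⟩

end Groth.Agent.Lib.Helper22.OmegaGen9
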