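import Mathlib
import Groth.Prelude.Def_EGA41

/-!
# p-bases (EGA 0_IV 21.1–21.2)
-/

namespace Groth.Agent.Lib.Helper22.PBasis

open EGA41

universe u

section mono

variable {B : Type u} [CommRing B] {ι : Type u}

lemma pMonomial_zero (x : ι → B) : pMonomial x 0 = 1 := by
  simp [pMonomial]

lemma pMonomial_add (x : ι → B) (f g : ι →₀ ℕ) :
    pMonomial x (f + g) = pMonomial x f * pMonomial x g := by
  unfold pMonomial
  exact Finsupp.prod_add_index' (fun i => pow_zero _) (fun i m n => pow_add _ _ _)

lemma pMonomial_single (x : ι → B) (i : ι) (n : ℕ) : pMonomial x (Finsupp.single i n) = x i ^ n := by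
  unfold pMonomial
  exact Finsupp.prod_single_index (pow_zero _)

lemma pMonomial_smul (x : ι → B) (n : ℕ) (f : ι →₀ ℕ) :
    pMonomial x (n • f) = pMonomial (fun i => x i ^ n) f := by
  unfold pMonomial
  rw [Finsupp.prod_of_support_subset (s := f.support) _ Finsupp.support_smul _ (fun i _ => pow_zero _)]
  unfold Finsupp.prod
  refine Finset.prod_congr rfl (fun i _ => ?_)
  rw [Finsupp.smul_apply, smul_eq_mul, pow_mul]

lemma map_pMonomial {C : Type u} [CommRing C] (φ : B →+* C) (x : ι → B) (f : ι →₀ ℕ) :
    φ (pMonomial x f) = pMonomial (fun i => φ (x i)) f := by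
  unfold pMonomial
  rw [map_finsuppProd]
  simp

/-- pointwise remainder. -/
noncomputable def red (p : ℕ) (f : ι →₀ ℕ) : ι →₀ ℕ := f.mapRange (· % p) (Nat.zero_mod p)

/-- pointwise quotient. -/
noncomputable def quo (p : ℕ) (f : ι →₀ ℕ) : ι →₀ ℕ := f.mapRange (· / p) (Nat.zero_div p)

lemma red_apply (p : ℕ) (f : ι →₀ ℕ) (i : ι) : red p f i = f i % p := by simp [red]

lemma quo_apply (p : ℕ) (f : ι →₀ ℕ) (i : ι) : quo p f i = f i / p := by simp [quo]

lemma red_add_quo (p : ℕ) (f : ι →₀ ℕ) : red p f + p • quo p f = f := by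
  ext i
  simp only [Finsupp.add_apply, red_apply, Finsupp.smul_apply, quo_apply, smul_eq_mul]
  exact Nat.mod_add_div (f i) p

lemma red_lt {p : ℕ} (hp : 0 < p) (f : ι →₀ ℕ) (i : ι) : red p f i < p := by
  rw [red_apply]
  exact Nat.mod_lt _ hp

lemma red_of_lt {p : ℕ} (f : ι →₀ ℕ) (hf : ∀ i, f i < p) : red p f = f := by
  ext i
  rw [red_apply, Nat.mod_eq_of_lt (hf i)]

lemma quo_of_lt {p : ℕ} (f : ι →₀ ℕ) (hf : ∀ i, f i < p) : quo p f = 0 := by
  ext i
  rw [quo_apply, Nat.div_eq_of_lt (hf i)]
  rfl

end mono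

section decomp

variable {A B : Type u} [CommRing A] [CommRing B] [Algebra A B] {ι : Type u}

/-- reduction of a monomial, given that `w i ^ p` comes from `a i`. -/
lemma pMonomial_eq_smul (p : ℕ) (w : ι → B) (a : ι → A) (hw : ∀ i, w i ^ p = algebraMap A B (a i))
    (f : ι →₀ ℕ) : pMonomial w f = pMonomial a (quo p f) • pMonomial w (red p f) := by
  conv_lhs => rw [← red_add_quo p f, pMonomial_add, pMonomial_smul]
  rw [Algebra.smul_def, map_pMonomial, mul_comm]
  congr 2
  funext i
  exact hw i

end decomp

section basis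

variable (p : ℕ) {A B : Type u} [CommRing A] [CommRing B] [Algebra A B] {ι : Type u}

/-- reduced exponent vectors. -/
abbrev RedIdx (p : ℕ) (ι : Type u) := {e : ι →₀ ℕ // ∀ i, e i < p}

lemma pPowerSubalgebra_eq_bot (hpow : ∀ b : B, b ^ p ∈ Set.range (algebraMap A B)) :
    pPowerSubalgebra p A B = ⊥ := by
  apply le_antisymm _ bot_le
  unfold pPowerSubalgebra
  rw [Algebra.adjoin_le_iff]
  rintro _ ⟨b, rfl⟩
  exact Algebra.mem_bot.2 (hpow b)

lemma algebraMap_pPowerSubalgebra_surjective (hpow : ∀ b : B, b ^ p ∈ Set.range (algebraMap A B)) :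
    Function.Surjective (algebraMap A (pPowerSubalgebra p A B)) := by
  rintro ⟨s, hs⟩
  rw [pPowerSubalgebra_eq_bot p hpow] at hs
  obtain ⟨a, ha⟩ := Algebra.mem_bot.1 hs
  exact ⟨a, Subtype.ext ha⟩

lemma isPIndependent_iff (hinj : Function.Injective (algebraMap A B))
    (hpow : ∀ b : B, b ^ p ∈ Set.range (algebraMap A B)) (x : ι → B) :
    IsPIndependent p A x ↔ LinearIndependent A (fun e : RedIdx p ι => pMonomial x e.1) := by
  constructor
  · intro hx
    refine LinearIndependent.restrict_scalars (K := pPowerSubalgebra p A B) ?_ hx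
    intro a b hab
    apply hinj
    have := congrArg (fun s : pPowerSubalgebra p A B => (s : B)) hab
    simpa [Algebra.smul_def] using this
  · intro hx
    unfold IsPIndependent
    rw [linearIndependent_iff']
    intro s g hg e he
    choose a ha using algebraMap_pPowerSubalgebra_surjective p hpow
    have h1 : ∑ e ∈ s, a (g e) • pMonomial x e.1 = 0 := by
      rw [← hg]
      refine Finset.sum_congr rfl (fun e _ => ?_)
      conv_rhs => rw [← ha (g e)]
      rw [algebraMap_smul]
    have h2 := linearIndependent_iff'.1 hx s (fun e => a (g e)) h1 e he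
    rw [← ha (g e), h2, map_zero]

lemma isPGenerating_iff (hpow : ∀ b : B, b ^ p ∈ Set.range (algebraMap A B)) (x : ι → B) :
    IsPGenerating p A x ↔
      Submodule.span A (Set.range fun e : RedIdx p ι => pMonomial x e.1) = ⊤ := by
  unfold IsPGenerating
  rw [← Submodule.restrictScalars_span A (pPowerSubalgebra p A B)
    (algebraMap_pPowerSubalgebra_surjective p hpow)]
  constructor
  · intro h
    rw [h]
    rfl
  · intro h
    apply Submodule.restrictScalars_injective A
    rw [h]
    rfl

/-- the basis of reduced monomials attached to a p-basis. -/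
noncomputable def monoBasis (hinj : Function.Injective (algebraMap A B))
    (hpow : ∀ b : B, b ^ p ∈ Set.range (algebraMap A B)) (x : ι → B) (hx : IsPBasis p A x) :
    Module.Basis (RedIdx p ι) A B :=
  Module.Basis.mk ((isPIndependent_iff p hinj hpow x).1 hx.1)
    (le_of_eq ((isPGenerating_iff p hpow x).1 hx.2).symm)

lemma monoBasis_apply (hinj : Function.Injective (algebraMap A B))
    (hpow : ∀ b : B, b ^ p ∈ Set.range (algebraMap A B)) (x : ι → B) (hx : IsPBasis p A x)
    (e : RedIdx p ι) : monoBasis p hinj hpow x hx e = pMonomial x e.1 := by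
  simp [monoBasis]

end basis

section universal

variable (p : ℕ) [hp : Fact p.Prime] {A B : Type u} [CommRing A] [CommRing B] [Algebra A B] {ι : Type u}
  (hinj : Function.Injective (algebraMap A B))
  (hpow : ∀ b : B, b ^ p ∈ Set.range (algebraMap A B)) (x : ι → B) (hx : IsPBasis p A x)
  {E : Type u} [CommRing E] [Algebra A E] (a : ι → A) (ha : ∀ i, x i ^ p = algebraMap A B (a i))
  (z : ι → E) (hz : ∀ i, z i ^ p = algebraMap A E (a i))

/-- the linear map sending reduced monomials in `x` to those in `z`. -/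
noncomputable def liftLin : B →ₗ[A] E :=
  (monoBasis p hinj hpow x hx).constr A (fun e => pMonomial z e.1)

include ha hz in
lemma liftLin_pMonomial (f : ι →₀ ℕ) :
    liftLin p hinj hpow x hx z (pMonomial x f) = pMonomial z f := by
  rw [pMonomial_eq_smul p x a ha f, map_smul, pMonomial_eq_smul p z a hz f]
  congr 1
  have := (monoBasis p hinj hpow x hx).constr_basis A (fun e => pMonomial z e.1)
    ⟨red p f, red_lt hp.out.pos f⟩
  rw [monoBasis_apply] at this
  exact this

include ha hz in
lemma liftLin_mul (b b' : B) :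
    liftLin p hinj hpow x hx z (b * b') =
      liftLin p hinj hpow x hx z b * liftLin p hinj hpow x hx z b' := by
  have h : (LinearMap.mul A B).compr₂ (liftLin p hinj hpow x hx z) =
      (LinearMap.mul A E).compl₁₂ (liftLin p hinj hpow x hx z) (liftLin p hinj hpow x hx z) := by
    refine (monoBasis p hinj hpow x hx).ext fun e => (monoBasis p hinj hpow x hx).ext fun e' => ?_
    simp only [monoBasis_apply, LinearMap.compr₂_apply, LinearMap.mul_apply', LinearMap.compl₁₂_apply]
    rw [← pMonomial_add, liftLin_pMonomial p hinj hpow x hx a ha z hz,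
      liftLin_pMonomial p hinj hpow x hx a ha z hz, liftLin_pMonomial p hinj hpow x hx a ha z hz,
      pMonomial_add]
  exact LinearMap.congr_fun (LinearMap.congr_fun h b) b'

include ha hz in
lemma liftLin_one : liftLin p hinj hpow x hx z 1 = 1 := by
  have := liftLin_pMonomial p hinj hpow x hx a ha z hz 0
  rwa [pMonomial_zero, pMonomial_zero] at this

/-- the algebra map out of `B` determined by the images of a p-basis. -/
noncomputable def liftAlg : B →ₐ[A] E :=
  AlgHom.ofLinearMap (liftLin p hinj hpow x hx z) (liftLin_one p hinj hpow x hx a ha z hz)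
    (liftLin_mul p hinj hpow x hx a ha z hz)

lemma liftAlg_apply (i : ι) : liftAlg p hinj hpow x hx a ha z hz (x i) = z i := by
  have := liftLin_pMonomial p hinj hpow x hx a ha z hz (Finsupp.single i 1)
  rw [pMonomial_single, pMonomial_single, pow_one, pow_one] at this
  exact this

include hinj hpow hx in
/-- algebra maps out of `B` are determined by the images of a p-basis. -/
lemma algHom_ext {v w : B →ₐ[A] E} (h : ∀ i, v (x i) = w (x i)) : v = w := by
  apply AlgHom.toLinearMap_injective
  refine (monoBasis p hinj hpow x hx).ext fun e => ?_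
  rw [monoBasis_apply]
  change v.toRingHom (pMonomial x e.1) = w.toRingHom (pMonomial x e.1)
  rw [map_pMonomial, map_pMonomial]
  congr 1
  funext i
  exact h i

include hinj hpow hx ha hz in
/-- universal property of a p-basis. -/
theorem existsUnique_algHom : ∃! v : B →ₐ[A] E, ∀ i, v (x i) = z i := by
  refine ⟨liftAlg p hinj hpow x hx a ha z hz, liftAlg_apply p hinj hpow x hx a ha z hz, ?_⟩
  intro w hw
  apply algHom_ext p hinj hpow x hx
  intro i
  rw [hw i, liftAlg_apply]

end universal

section sections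

lemma charP_of_natCast_eq_zero {R : Type*} [CommRing R] [Nontrivial R] (p : ℕ) [hp : Fact p.Prime]
    (h : (p : R) = 0) : CharP R p := by
  obtain ⟨c, hc⟩ := CharP.exists R
  have h1 : c ∣ p := (CharP.cast_eq_zero_iff R c p).1 h
  rcases (Nat.dvd_prime hp.out).1 h1 with h2 | h2
  · exact absurd h2 (CharP.char_ne_one R c)
  · rwa [h2] at hc

lemma pow_eq_pow_of_sub_mem {R : Type*} [CommRing R] (p : ℕ) [hp : Fact p.Prime]
    (h : (p : R) = 0) (K : Ideal R) (hK : K ^ p = ⊥) {z w : R} (hzw : z - w ∈ K) : z ^ p = w ^ p := by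
  rcases subsingleton_or_nontrivial R with hs | hn
  · exact Subsingleton.elim _ _
  · haveI := charP_of_natCast_eq_zero p h
    have h1 : (z - w) ^ p ∈ K ^ p := Ideal.pow_mem_pow hzw p
    rw [hK, Ideal.mem_bot, sub_pow_char] at h1
    exact sub_eq_zero.1 h1

variable (p : ℕ) [hp : Fact p.Prime] {A B : Type u} [CommRing A] [CommRing B] [Algebra A B] [CharP B p]
  {ι : Type u}
  (hinj : Function.Injective (algebraMap A B))
  (hpow : ∀ b : B, b ^ p ∈ Set.range (algebraMap A B)) (x : ι → B) (hx : IsPBasis p A x)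
  {E : Type u} [CommRing E] [Algebra A E]

include hinj in
lemma natCast_eq_zero_of_algebra : (p : E) = 0 := by
  have h1 : (p : A) = 0 := by
    apply hinj
    rw [map_natCast, map_zero]
    exact CharP.cast_eq_zero B p
  rw [← map_natCast (algebraMap A E), h1, map_zero]

variable (q : E →ₐ[A] B) (hq : Function.Surjective q) (hK : RingHom.ker q.toRingHom ^ p = ⊥)

include hinj hpow hx in
theorem lift_of_cond
    (hcond : ∀ (z : E) (a : A), algebraMap A B a = q z ^ p → algebraMap A E a = z ^ p)
    (z : ι → E) (hz : ∀ i, q (z i) = x i) :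
    (∃! v : B →ₐ[A] E, ∀ i, v (x i) = z i) ∧
      ∀ v : B →ₐ[A] E, (∀ i, v (x i) = z i) → q.comp v = AlgHom.id A B := by
  choose a ha using fun i => hpow (x i)
  have ha' : ∀ i, x i ^ p = algebraMap A B (a i) := fun i => (ha i).symm
  have hz' : ∀ i, z i ^ p = algebraMap A E (a i) := by
    intro i
    refine (hcond (z i) (a i) ?_).symm
    rw [hz i, ha i]
  refine ⟨existsUnique_algHom p hinj hpow x hx a ha' z hz', ?_⟩
  intro v hv
  apply algHom_ext p hinj hpow x hx
  intro i
  rw [AlgHom.comp_apply, hv i, hz i]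
  rfl

include hinj hpow hx hq hK in
theorem section_iff :
    (∃ v : B →ₐ[A] E, q.comp v = AlgHom.id A B) ↔
      ∀ (z : E) (a : A), algebraMap A B a = q z ^ p → algebraMap A E a = z ^ p := by
  constructor
  · rintro ⟨v, hv⟩ z a h
    have hqv : ∀ b, q (v b) = b := fun b => by
      have := AlgHom.congr_fun hv b
      simpa using this
    have h1 : z - v (q z) ∈ RingHom.ker q.toRingHom := by
      rw [RingHom.mem_ker]
      change q (z - v (q z)) = 0
      rw [map_sub, hqv, sub_self]
    have h2 := pow_eq_pow_of_sub_mem p (natCast_eq_zero_of_algebra p hinj (E := E)) _ hK h1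
    rw [h2, ← map_pow, ← h, AlgHom.commutes]
  · intro hcond
    choose z hz using fun i => hq (x i)
    obtain ⟨⟨v, hv, -⟩, h2⟩ := lift_of_cond p hinj hpow x hx q hcond z hz
    exact ⟨v, h2 v hv⟩

end sections

end Groth.Agent.Lib.Helper22.PBasis
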