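import Mathlib
import Groth.Prelude.Def_EGA41
import Groth.Agent.Lib.Helper22.PBasis

/-!
# p-bases and derivations (EGA 0_IV 21.2.3–21.2.5)
-/

namespace Groth.Agent.Lib.Helper22.PBasisDer

open EGA41 Groth.Agent.Lib.Helper22.PBasis

universe u

section ext

variable {A B : Type u} [CommRing A] [CommRing B] [Algebra A B]
  (L : Type u) [AddCommGroup L] [Module B L] [Module A L] [IsScalarTower A B L]

/-- the right action making `L` a symmetric bimodule. -/
@[reducible] def opModule : Module Bᵐᵒᵖ L :=
  Module.compHom L ((RingHom.id B).fromOpposite mul_comm)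

attribute [local instance] opModule

local instance : IsCentralScalar B L := ⟨fun _ _ => rfl⟩

/-- the trivial square-zero extension, with the `A`-algebra structure twisted by a derivation. -/
def DExt (B : Type u) [CommRing B] [Algebra A B] (L : Type u) [AddCommGroup L] [Module B L] [Module A L]
    [IsScalarTower A B L] (_ : Derivation ℤ A L) : Type u := TrivSqZeroExt B L

variable {L}

noncomputable instance (D : Derivation ℤ A L) : CommRing (DExt B L D) :=
  inferInstanceAs (CommRing (TrivSqZeroExt B L))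

/-- the element `b + ε l`. -/
def DExt.mk (D : Derivation ℤ A L) (b : B) (l : L) : DExt B L D :=
  (TrivSqZeroExt.inl b + TrivSqZeroExt.inr l : TrivSqZeroExt B L)

/-- first projection. -/
def DExt.fst {D : Derivation ℤ A L} (z : DExt B L D) : B := TrivSqZeroExt.fst (R := B) (M := L) z

/-- second projection. -/
def DExt.snd {D : Derivation ℤ A L} (z : DExt B L D) : L := TrivSqZeroExt.snd (R := B) (M := L) z

@[ext] lemma DExt.ext {D : Derivation ℤ A L} {z w : DExt B L D} (h1 : z.fst = w.fst) (h2 : z.snd = w.snd) :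
    z = w := TrivSqZeroExt.ext h1 h2

@[simp] lemma DExt.fst_mk (D : Derivation ℤ A L) (b : B) (l : L) : (DExt.mk D b l).fst = b := by
  simp [DExt.mk, DExt.fst]

@[simp] lemma DExt.snd_mk (D : Derivation ℤ A L) (b : B) (l : L) : (DExt.mk D b l).snd = l := by
  simp [DExt.mk, DExt.snd]

@[simp] lemma DExt.fst_mul {D : Derivation ℤ A L} (z w : DExt B L D) : (z * w).fst = z.fst * w.fst :=
  TrivSqZeroExt.fst_mul (R := B) (M := L) z w

@[simp] lemma DExt.snd_mul {D : Derivation ℤ A L} (z w : DExt B L D) :
    (z * w).snd = z.fst • w.snd + w.fst • z.snd := by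
  have := TrivSqZeroExt.snd_mul (R := B) (M := L) z w
  rw [op_smul_eq_smul] at this
  exact this

@[simp] lemma DExt.fst_add {D : Derivation ℤ A L} (z w : DExt B L D) : (z + w).fst = z.fst + w.fst :=
  TrivSqZeroExt.fst_add (R := B) (M := L) z w

@[simp] lemma DExt.snd_add {D : Derivation ℤ A L} (z w : DExt B L D) : (z + w).snd = z.snd + w.snd :=
  TrivSqZeroExt.snd_add (R := B) (M := L) z w

@[simp] lemma DExt.fst_one {D : Derivation ℤ A L} : (1 : DExt B L D).fst = 1 :=
  TrivSqZeroExt.fst_one (R := B) (M := L)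

@[simp] lemma DExt.snd_one {D : Derivation ℤ A L} : (1 : DExt B L D).snd = 0 :=
  TrivSqZeroExt.snd_one (R := B) (M := L)

@[simp] lemma DExt.fst_zero {D : Derivation ℤ A L} : (0 : DExt B L D).fst = 0 :=
  TrivSqZeroExt.fst_zero (R := B) (M := L)

@[simp] lemma DExt.snd_zero {D : Derivation ℤ A L} : (0 : DExt B L D).snd = 0 :=
  TrivSqZeroExt.snd_zero (R := B) (M := L)

lemma DExt.fst_pow {D : Derivation ℤ A L} (z : DExt B L D) (n : ℕ) : (z ^ n).fst = z.fst ^ n :=
  TrivSqZeroExt.fst_pow (R := B) (M := L) z n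

lemma DExt.snd_pow {D : Derivation ℤ A L} (z : DExt B L D) (n : ℕ) :
    (z ^ n).snd = n • z.fst ^ n.pred • z.snd :=
  TrivSqZeroExt.snd_pow (R := B) (M := L) z n

/-- the twisted structure map. -/
noncomputable def DExt.algMap (D : Derivation ℤ A L) : A →+* DExt B L D where
  toFun a := DExt.mk D (algebraMap A B a) (D a)
  map_one' := by
    ext <;> simp
  map_mul' a b := by
    ext
    · simp
    · simp only [DExt.snd_mk, DExt.snd_mul, DExt.fst_mk, Derivation.leibniz, algebraMap_smul]
  map_zero' := by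
    ext <;> simp
  map_add' a b := by
    ext <;> simp

noncomputable instance (D : Derivation ℤ A L) : Algebra A (DExt B L D) := (DExt.algMap D).toAlgebra

lemma DExt.algebraMap_apply (D : Derivation ℤ A L) (a : A) :
    algebraMap A (DExt B L D) a = DExt.mk D (algebraMap A B a) (D a) := rfl

/-- the projection to `B`. -/
noncomputable def DExt.proj (D : Derivation ℤ A L) : DExt B L D →ₐ[A] B where
  toFun z := z.fst
  map_one' := DExt.fst_one
  map_mul' := DExt.fst_mul
  map_zero' := DExt.fst_zero
  map_add' := DExt.fst_add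
  commutes' a := by
    rw [DExt.algebraMap_apply, DExt.fst_mk]

@[simp] lemma DExt.proj_apply (D : Derivation ℤ A L) (z : DExt B L D) : DExt.proj D z = z.fst := rfl

/-- the derivation attached to a section of the projection. -/
noncomputable def derOfSection (D : Derivation ℤ A L) (v : B →ₐ[A] DExt B L D)
    (hv : ∀ b, (v b).fst = b) : Derivation ℤ B L :=
  Derivation.mk' (AddMonoidHom.mk' (fun b => (v b).snd) (fun b b' => by
    rw [map_add, DExt.snd_add])).toIntLinearMap (fun b b' => by
    change (v (b * b')).snd = b • (v b').snd + b' • (v b).snd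
    rw [map_mul, DExt.snd_mul, hv, hv])

lemma derOfSection_apply (D : Derivation ℤ A L) (v : B →ₐ[A] DExt B L D)
    (hv : ∀ b, (v b).fst = b) (b : B) : derOfSection D v hv b = (v b).snd := rfl

lemma derOfSection_algebraMap (D : Derivation ℤ A L) (v : B →ₐ[A] DExt B L D)
    (hv : ∀ b, (v b).fst = b) (a : A) : derOfSection D v hv (algebraMap A B a) = D a := by
  rw [derOfSection_apply, AlgHom.commutes, DExt.algebraMap_apply, DExt.snd_mk]

/-- the section attached to a derivation extending `D`. -/
noncomputable def sectionOfDer (D : Derivation ℤ A L) (D' : Derivation ℤ B L)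
    (hD' : ∀ a, D' (algebraMap A B a) = D a) : B →ₐ[A] DExt B L D where
  toFun b := DExt.mk D b (D' b)
  map_one' := by
    ext <;> simp
  map_mul' b b' := by
    ext
    · simp
    · simp only [DExt.snd_mk, DExt.snd_mul, DExt.fst_mk, Derivation.leibniz]
  map_zero' := by
    ext <;> simp
  map_add' b b' := by
    ext <;> simp
  commutes' a := by
    rw [DExt.algebraMap_apply, hD']

lemma sectionOfDer_apply (D : Derivation ℤ A L) (D' : Derivation ℤ B L)
    (hD' : ∀ a, D' (algebraMap A B a) = D a) (b : B) :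
    sectionOfDer D D' hD' b = DExt.mk D b (D' b) := rfl

end ext

section main

variable (p : ℕ) [hp : Fact p.Prime] {A B : Type u} [CommRing A] [CommRing B] [Algebra A B] [CharP B p]
  {ι : Type u}
  (hinj : Function.Injective (algebraMap A B))
  (hpow : ∀ b : B, b ^ p ∈ Set.range (algebraMap A B)) (x : ι → B) (hx : IsPBasis p A x)
  (L : Type u) [AddCommGroup L] [Module B L] [Module A L] [IsScalarTower A B L]
  (D : Derivation ℤ A L)

omit hp in
lemma nsmul_p_eq_zero (B : Type u) [CommRing B] [CharP B p] (L : Type u) [AddCommGroup L] [Module B L]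
    (l : L) : p • l = 0 := by
  rw [← Nat.cast_smul_eq_nsmul B p l, CharP.cast_eq_zero B p, zero_smul]

include hinj hpow hx in
theorem existsUnique_der (hD : ∀ (a : A) (b : B), algebraMap A B a = b ^ p → D a = 0) (y : ι → L) :
    ∃! D' : Derivation ℤ B L, (∀ a : A, D' (algebraMap A B a) = D a) ∧ ∀ i, D' (x i) = y i := by
  have hcond : ∀ (z : DExt B L D) (a : A), algebraMap A B a = (DExt.proj D z) ^ p →
      algebraMap A (DExt B L D) a = z ^ p := by
    intro z a h
    rw [DExt.proj_apply] at h
    ext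
    · rw [DExt.algebraMap_apply, DExt.fst_mk, DExt.fst_pow, h]
    · rw [DExt.algebraMap_apply, DExt.snd_mk, DExt.snd_pow, nsmul_p_eq_zero p B L, hD a z.fst h]
  obtain ⟨⟨v, hv, hvu⟩, hid⟩ := lift_of_cond p hinj hpow x hx (DExt.proj D) hcond
    (fun i => DExt.mk D (x i) (y i)) (fun i => by rw [DExt.proj_apply, DExt.fst_mk])
  have hfst : ∀ b, (v b).fst = b := by
    intro b
    have := AlgHom.congr_fun (hid v hv) b
    simpa using this
  refine ⟨derOfSection D v hfst, ⟨derOfSection_algebraMap D v hfst, fun i => ?_⟩, ?_⟩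
  · rw [derOfSection_apply, hv i, DExt.snd_mk]
  · rintro D'' ⟨h1, h2⟩
    have h3 : sectionOfDer D D'' h1 = v := by
      apply hvu
      intro i
      rw [sectionOfDer_apply, h2 i]
    ext b
    rw [derOfSection_apply, ← h3, sectionOfDer_apply, DExt.snd_mk]

include hinj hpow hx in
theorem extends_iff :
    (∃ D' : Derivation ℤ B L, ∀ a : A, D' (algebraMap A B a) = D a) ↔
      ∀ (a : A) (b : B), algebraMap A B a = b ^ p → D a = 0 := by
  constructor
  · rintro ⟨D', hD'⟩ a b h
    rw [← hD' a, h, Derivation.leibniz_pow, nsmul_p_eq_zero p B L]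
  · intro hD
    obtain ⟨D', ⟨h1, -⟩, -⟩ := existsUnique_der p hinj hpow x hx L D hD (fun _ => 0)
    exact ⟨D', h1⟩

end main

section kaehler

variable (p : ℕ) [hp : Fact p.Prime] {A A' B : Type u} [CommRing A] [CommRing A'] [CommRing B]
  [Algebra A B] [Algebra A' B] [Algebra A A'] [IsScalarTower A A' B] [CharP B p] {ι : Type u}

omit hp in
lemma der_adjoin_eq_zero {L : Type u} [AddCommGroup L] [Module B L] [Module A L] [IsScalarTower A B L]
    (D : Derivation A B L) {s : B}
    (hs : s ∈ Algebra.adjoin A (Set.range fun b : B => b ^ p)) : D s = 0 := by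
  induction hs using Algebra.adjoin_induction with
  | mem s hs =>
    obtain ⟨b, rfl⟩ := hs
    rw [Derivation.leibniz_pow, nsmul_p_eq_zero p B L]
  | algebraMap a => exact D.map_algebraMap a
  | add s t _ _ hs ht => rw [map_add, hs, ht, add_zero]
  | mul s t _ _ hs ht => rw [Derivation.leibniz, hs, ht, smul_zero, smul_zero, add_zero]

/-- an additive derivation vanishing on `A` is `A`-linear. -/
def toALin {L : Type u} [AddCommGroup L] [Module B L] [Module A L] [IsScalarTower A B L]
    (D' : Derivation ℤ B L) (h : ∀ a : A, D' (algebraMap A B a) = 0) : B →ₗ[A] L where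
  toFun := D'
  map_add' := map_add D'
  map_smul' a b := by
    rw [Algebra.smul_def, D'.leibniz, h, smul_zero, add_zero, algebraMap_smul]
    rfl

/-- an additive derivation vanishing on `A` is an `A`-derivation. -/
def toADer {L : Type u} [AddCommGroup L] [Module B L] [Module A L] [IsScalarTower A B L]
    (D' : Derivation ℤ B L) (h : ∀ a : A, D' (algebraMap A B a) = 0) : Derivation A B L :=
  Derivation.mk' (toALin D' h) D'.leibniz

lemma toADer_apply {L : Type u} [AddCommGroup L] [Module B L] [Module A L] [IsScalarTower A B L]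
    (D' : Derivation ℤ B L) (h : ∀ a : A, D' (algebraMap A B a) = 0) (b : B) :
    toADer D' h b = D' b := rfl

theorem kaehler_basis (hinj : Function.Injective (algebraMap A' B))
    (hpow : ∀ b : B, b ^ p ∈ Set.range (algebraMap A' B))
    (hgen : ∀ a' : A', algebraMap A' B a' ∈ Algebra.adjoin A (Set.range fun b : B => b ^ p))
    (x : ι → B) (hx : IsPBasis p A' x) :
    ∃ b : Module.Basis ι B (Ω[B⁄A]), ∀ i, b i = KaehlerDifferential.D A B (x i) := by
  -- the coordinate derivation
  obtain ⟨D1, ⟨h1a, h1x⟩, -⟩ := existsUnique_der p hinj hpow x hx (ι →₀ B)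
    (0 : Derivation ℤ A' (ι →₀ B)) (fun _ _ _ => rfl) (fun i => Finsupp.single i 1)
  let D1A : Derivation A B (ι →₀ B) := toADer D1 (fun a => by
    rw [IsScalarTower.algebraMap_apply A A' B, h1a]
    rfl)
  let Ψ : Ω[B⁄A] →ₗ[B] (ι →₀ B) := D1A.liftKaehlerDifferential
  let Φ : (ι →₀ B) →ₗ[B] Ω[B⁄A] := Finsupp.linearCombination B (fun i => KaehlerDifferential.D A B (x i))
  have hΨD : ∀ b, Ψ (KaehlerDifferential.D A B b) = D1 b := fun b =>
    (Derivation.liftKaehlerDifferential_comp_D D1A b).trans (toADer_apply D1 _ b)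
  have hΨΦ : Ψ.comp Φ = LinearMap.id := by
    apply Finsupp.lhom_ext'
    intro i
    apply LinearMap.ext_ring
    simp only [LinearMap.coe_comp, Function.comp_apply, Finsupp.lsingle_apply, LinearMap.id_comp, Φ,
      Finsupp.linearCombination_single, one_smul]
    rw [hΨD, h1x]
  -- module structure of Ω over A'
  have huniq := existsUnique_der p hinj hpow x hx (Ω[B⁄A])
    (0 : Derivation ℤ A' (Ω[B⁄A])) (fun _ _ _ => rfl) (fun i => KaehlerDifferential.D A B (x i))
  have hΦΨ : Φ.comp Ψ = LinearMap.id := by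
    apply Derivation.liftKaehlerDifferential_unique
    let E1 : Derivation ℤ B (Ω[B⁄A]) := ((Φ.comp Ψ).compDer (KaehlerDifferential.D A B)).restrictScalars ℤ
    let E2 : Derivation ℤ B (Ω[B⁄A]) := (KaehlerDifferential.D A B).restrictScalars ℤ
    have hE1 : (∀ a : A', E1 (algebraMap A' B a) = (0 : Derivation ℤ A' (Ω[B⁄A])) a) ∧
        ∀ i, E1 (x i) = KaehlerDifferential.D A B (x i) := by
      refine ⟨fun a => der_adjoin_eq_zero p ((Φ.comp Ψ).compDer (KaehlerDifferential.D A B)) (hgen a),
        fun i => ?_⟩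
      change Φ (Ψ (KaehlerDifferential.D A B (x i))) = _
      rw [hΨD, h1x]
      simp [Φ]
    have hE2 : (∀ a : A', E2 (algebraMap A' B a) = (0 : Derivation ℤ A' (Ω[B⁄A])) a) ∧
        ∀ i, E2 (x i) = KaehlerDifferential.D A B (x i) :=
      ⟨fun a => der_adjoin_eq_zero p (KaehlerDifferential.D A B) (hgen a), fun i => rfl⟩
    have h12 : E1 = E2 := huniq.unique hE1 hE2
    ext b
    exact Derivation.congr_fun h12 b
  refine ⟨Module.Basis.ofRepr (LinearEquiv.ofLinearMap Ψ Φ hΨΦ hΦΨ), fun i => ?_⟩
  rw [Module.Basis.apply_eq_iff]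
  change Ψ (KaehlerDifferential.D A B (x i)) = _
  rw [hΨD, h1x]

/-- `S2466` as a library statement. -/
theorem kaehler_basis_of_isPBasis {A B : Type u} [CommRing A] [CommRing B] [Algebra A B] [CharP B p]
    {ι : Type u} (x : ι → B) (hx : IsPBasis p A x) :
    ∃ b : Module.Basis ι B (Ω[B⁄A]), ∀ i, b i = KaehlerDifferential.D A B (x i) := by
  have hinj : Function.Injective (algebraMap (EGA41.pPowerSubalgebra p A B) B) := Subtype.val_injective
  have hpow : ∀ b : B, b ^ p ∈ Set.range (algebraMap (EGA41.pPowerSubalgebra p A B) B) := fun b =>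
    ⟨⟨b ^ p, Algebra.subset_adjoin ⟨b, rfl⟩⟩, rfl⟩
  have hgen : ∀ a' : EGA41.pPowerSubalgebra p A B,
      algebraMap (EGA41.pPowerSubalgebra p A B) B a' ∈ Algebra.adjoin A (Set.range fun b : B => b ^ p) :=
    fun a' => a'.2
  have hx' : EGA41.IsPBasis p (EGA41.pPowerSubalgebra p A B) x :=
    ⟨(isPIndependent_iff p hinj hpow x).2 hx.1, (isPGenerating_iff p hpow x).2 hx.2⟩
  exact kaehler_basis p hinj hpow hgen x hx'

end kaehler

end Groth.Agent.Lib.Helper22.PBasisDer
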