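import Mathlib
import Groth.Prelude.Def_EGA41
import Groth.Agent.Lib.Helper22.PBasis

/-!
# p-bases of field extensions (EGA 0_IV 21.4)
-/

namespace Groth.Agent.Lib.Helper22.PBasisField

open EGA41 Groth.Agent.Lib.Helper22.PBasis Polynomial

universe u

section step

variable {K : Type u} [Field K] (p : ℕ) [hp : Fact p.Prime] [CharP K p]

/-- powers `1, t, …, t^(p-1)` are independent over a subfield containing `K^p` but not `t`. -/
theorem coeff_eq_zero_of_sum_pow (F : Subfield K) (hF : ∀ y : K, y ^ p ∈ F) {t : K} (ht : t ∉ F)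
    (g : ℕ → K) (hg : ∀ j, g j ∈ F) (h : ∑ j ∈ Finset.range p, g j * t ^ j = 0) :
    ∀ j < p, g j = 0 := by
  let a : F := ⟨t ^ p, hF t⟩
  have ha : ∀ b : F, b ^ p ≠ a := by
    intro b hb
    have h1 : (b : K) ^ p = t ^ p := by
      have := congrArg (fun y : F => (y : K)) hb
      simpa using this
    have h2 : ((b : K) - t) ^ p = 0 := by rw [sub_pow_char, h1, sub_self]
    have h3 : (b : K) = t := sub_eq_zero.1 (pow_eq_zero_iff hp.out.ne_zero |>.1 h2)
    exact ht (h3 ▸ b.2)
  have hirr : Irreducible (X ^ p - C a : F[X]) := X_pow_sub_C_irreducible_of_prime hp.out ha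
  have hmonic : (X ^ p - C a : F[X]).Monic := monic_X_pow_sub_C a hp.out.ne_zero
  have hroot : aeval t (X ^ p - C a : F[X]) = 0 := by
    simp only [map_sub, map_pow, aeval_X, aeval_C, a]
    exact sub_self _
  have hmin : (X ^ p - C a : F[X]) = minpoly F t := minpoly.eq_of_irreducible_of_monic hirr hroot hmonic
  have hdeg : (minpoly F t).degree = p := by
    rw [← hmin, degree_X_pow_sub_C hp.out.pos]
  let G : F[X] := ∑ j ∈ Finset.range p, C (⟨g j, hg j⟩ : F) * X ^ j
  have hGt : aeval t G = 0 := by
    simp only [G, map_sum, map_mul, aeval_C, map_pow, aeval_X]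
    exact h
  have hGdeg : G.degree < p := by
    refine lt_of_le_of_lt (degree_sum_le _ _) ?_
    rw [Finset.sup_lt_iff (WithBot.bot_lt_coe _)]
    intro j hj
    refine lt_of_le_of_lt (degree_C_mul_X_pow_le _ _) ?_
    exact_mod_cast Finset.mem_range.1 hj
  have hG0 : G = 0 := by
    by_contra hne
    have := minpoly.degree_le_of_ne_zero F t hne hGt
    rw [hdeg] at this
    exact absurd (lt_of_le_of_lt this hGdeg) (lt_irrefl _)
  intro j hj
  have h4 : G.coeff j = ⟨g j, hg j⟩ := by
    simp only [G, finsetSum_coeff, coeff_C_mul_X_pow]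
    rw [Finset.sum_eq_single j]
    · simp
    · intro i _ hij
      rw [if_neg (Ne.symm hij)]
    · intro hjn
      exact absurd (Finset.mem_range.2 hj) hjn
  rw [hG0, coeff_zero] at h4
  have := congrArg (fun y : F => (y : K)) h4
  simpa using this.symm

end step

section crit

variable {k K : Type u} [Field k] [Field K] [Algebra k K] (p : ℕ) [hp : Fact p.Prime] [CharP K p]
  {ι : Type u} (x : ι → K)

/-- the subfield generated over `k` by `K^p` and a set `T`. -/
noncomputable def cl (T : Set K) : IntermediateField k K :=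
  IntermediateField.adjoin k (Set.range (fun y : K => y ^ p) ∪ T)

lemma pow_mem_cl (T : Set K) (y : K) : y ^ p ∈ cl (k := k) p T :=
  IntermediateField.subset_adjoin k _ (Or.inl ⟨y, rfl⟩)

lemma mem_cl_of_mem {T : Set K} {y : K} (hy : y ∈ T) : y ∈ cl (k := k) p T :=
  IntermediateField.subset_adjoin k _ (Or.inr hy)

lemma cl_mono {T T' : Set K} (h : T ⊆ T') : cl (k := k) p T ≤ cl (k := k) p T' :=
  IntermediateField.adjoin.mono k _ _ (Set.union_subset_union_right _ h)

lemma pPower_le_cl (T : Set K) {y : K} (hy : y ∈ pPowerSubalgebra p k K) : y ∈ cl (k := k) p T := by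
  have h1 : pPowerSubalgebra p k K ≤ (cl (k := k) p T).toSubalgebra := by
    unfold pPowerSubalgebra
    rw [Algebra.adjoin_le_iff]
    rintro _ ⟨b, rfl⟩
    exact pow_mem_cl p T b
  exact h1 hy

lemma pMonomial_mem_cl {T : Set K} (e : ι →₀ ℕ) (he : ∀ i, e i ≠ 0 → x i ∈ T) :
    pMonomial x e ∈ cl (k := k) p T := by
  unfold pMonomial Finsupp.prod
  refine prod_mem (fun i hi => pow_mem (mem_cl_of_mem p (he i (Finsupp.mem_support_iff.1 hi))) _)

lemma pMonomial_erase (e : ι →₀ ℕ) (a : ι) :
    pMonomial x e = pMonomial x (e.erase a) * x a ^ (e a) := by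
  unfold pMonomial
  rw [mul_comm]
  exact (Finsupp.mul_prod_erase' e a (fun i n => x i ^ n) (fun i => pow_zero _)).symm

open Classical in
include hp in
/-- the criterion implies independence: finite form. -/
theorem aux_indep (hcrit : ∀ a : ι, x a ∉ cl (k := k) p (x '' {b | b ≠ a})) :
    ∀ (N : ℕ) (s : Finset (ι →₀ ℕ)), (∀ e ∈ s, ∀ i, e i < p) →
      ∀ c : (ι →₀ ℕ) → K, (∀ e, c e ∈ pPowerSubalgebra p k K) →
        (s.biUnion Finsupp.support).card ≤ N →
        ∑ e ∈ s, c e * pMonomial x e = 0 → ∀ e ∈ s, c e = 0 := by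
  -- the case where no variable occurs
  have hempty : ∀ (s : Finset (ι →₀ ℕ)) (c : (ι →₀ ℕ) → K), s.biUnion Finsupp.support = ∅ →
      ∑ e ∈ s, c e * pMonomial x e = 0 → ∀ e ∈ s, c e = 0 := by
    intro s c hU hsum e he
    have h0 : ∀ e' ∈ s, e' = 0 := by
      intro e' he'
      rw [← Finsupp.support_eq_empty, ← Finset.subset_empty, ← hU]
      exact Finset.subset_biUnion_of_mem Finsupp.support he'
    have hs : s ⊆ {0} := fun e' he' => Finset.mem_singleton.2 (h0 e' he')
    rcases Finset.subset_singleton_iff.1 hs with h1 | h1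
    · rw [h1] at he
      exact absurd he (Finset.notMem_empty _)
    · rw [h1, Finset.sum_singleton, pMonomial_zero, mul_one] at hsum
      rw [h0 e he]
      exact hsum
  intro N
  induction N with
  | zero =>
    intro s _ c _ hcard hsum
    exact hempty s c (Finset.card_eq_zero.1 (Nat.le_zero.1 hcard)) hsum
  | succ N ih =>
    intro s hs c hc hcard hsum
    by_cases hU : s.biUnion Finsupp.support = ∅
    · exact hempty s c hU hsum
    obtain ⟨a, ha⟩ := Finset.nonempty_iff_ne_empty.2 hU
    -- group by the exponent of `x a`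
    set G : ℕ → K := fun j => ∑ e ∈ s.filter (fun e => e a = j), c e * pMonomial x (e.erase a) with hG
    have h1 : ∑ e ∈ s, c e * pMonomial x e = ∑ j ∈ Finset.range p, G j * x a ^ j := by
      rw [← Finset.sum_fiberwise_of_maps_to (g := fun e : ι →₀ ℕ => e a) (t := Finset.range p)
        (fun e he => Finset.mem_range.2 (hs e he a))]
      refine Finset.sum_congr rfl (fun j _ => ?_)
      rw [hG, Finset.sum_mul]
      refine Finset.sum_congr rfl (fun e he => ?_)
      rw [pMonomial_erase x e a, (Finset.mem_filter.1 he).2, mul_assoc]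
    have hGmem : ∀ j, G j ∈ (cl (k := k) p (x '' {b | b ≠ a})).toSubfield := by
      intro j
      refine sum_mem (fun e _ => mul_mem (pPower_le_cl p _ (hc e)) ?_)
      refine pMonomial_mem_cl p x _ (fun i hi => ?_)
      refine ⟨i, ?_, rfl⟩
      intro hia
      apply hi
      rw [hia, Finsupp.erase_same]
    have hG0 := coeff_eq_zero_of_sum_pow p (cl (k := k) p (x '' {b | b ≠ a})).toSubfield
      (fun y => pow_mem_cl p _ y) (hcrit a) G hGmem (h1 ▸ hsum)
    intro e he
    have hj : e a < p := hs e he a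
    -- apply the induction hypothesis to the slice
    set s' : Finset (ι →₀ ℕ) := (s.filter (fun e' => e' a = e a)).image (fun e' => e'.erase a) with hs'
    set c' : (ι →₀ ℕ) → K := fun e' => c (e' + Finsupp.single a (e a)) with hc'
    have hinj : Set.InjOn (fun e' : ι →₀ ℕ => e'.erase a) (s.filter (fun e' => e' a = e a) : Finset _) := by
      intro e₁ h₁ e₂ h₂ h12
      have h₁' := (Finset.mem_filter.1 (Finset.mem_coe.1 h₁)).2
      have h₂' := (Finset.mem_filter.1 (Finset.mem_coe.1 h₂)).2
      rw [← Finsupp.erase_add_single a e₁, ← Finsupp.erase_add_single a e₂, h₁', h₂']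
      simp only at h12
      rw [h12]
    have hsum' : ∑ e' ∈ s', c' e' * pMonomial x e' = 0 := by
      rw [hs', Finset.sum_image hinj, ← hG0 (e a) hj, hG]
      refine Finset.sum_congr rfl (fun e₁ h₁ => ?_)
      have h₁' := (Finset.mem_filter.1 h₁).2
      simp only [hc']
      rw [← h₁', Finsupp.erase_add_single]
    have hred' : ∀ e' ∈ s', ∀ i, e' i < p := by
      intro e' he' i
      obtain ⟨e₁, h₁, rfl⟩ := Finset.mem_image.1 he'
      have := hs e₁ (Finset.mem_filter.1 h₁).1 i
      by_cases hia : i = a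
      · rw [hia, Finsupp.erase_same]
        exact hp.out.pos
      · rwa [Finsupp.erase_ne hia]
    have hcard' : (s'.biUnion Finsupp.support).card ≤ N := by
      have hsub : s'.biUnion Finsupp.support ⊆ (s.biUnion Finsupp.support).erase a := by
        intro i hi
        obtain ⟨e', he', hie'⟩ := Finset.mem_biUnion.1 hi
        obtain ⟨e₁, h₁, rfl⟩ := Finset.mem_image.1 he'
        rw [Finsupp.support_erase] at hie'
        refine Finset.mem_erase.2 ⟨(Finset.mem_erase.1 hie').1, ?_⟩
        exact Finset.mem_biUnion.2 ⟨e₁, (Finset.mem_filter.1 h₁).1, (Finset.mem_erase.1 hie').2⟩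
      have := Finset.card_le_card hsub
      rw [Finset.card_erase_of_mem ha] at this
      omega
    have key := ih s' hred' c' (fun e' => hc _) hcard' hsum' (e.erase a)
      (Finset.mem_image.2 ⟨e, Finset.mem_filter.2 ⟨he, rfl⟩, rfl⟩)
    simp only [hc'] at key
    rwa [Finsupp.erase_add_single] at key

include hp in
theorem isPIndependent_of_crit (hcrit : ∀ a : ι, x a ∉ cl (k := k) p (x '' {b | b ≠ a})) :
    IsPIndependent p k x := by
  classical
  unfold IsPIndependent
  rw [linearIndependent_iff']
  intro s g hsum e he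
  let s' : Finset (ι →₀ ℕ) := s.map ⟨Subtype.val, Subtype.val_injective⟩
  let c : (ι →₀ ℕ) → K := fun e' =>
    if h : ∀ i, e' i < p then ((g ⟨e', h⟩ : pPowerSubalgebra p k K) : K) else 0
  have hc : ∀ e', c e' ∈ pPowerSubalgebra p k K := by
    intro e'
    simp only [c]
    split_ifs
    · exact (g _).2
    · exact zero_mem _
  have hsum' : ∑ e' ∈ s', c e' * pMonomial x e' = 0 := by
    rw [Finset.sum_map, ← hsum]
    refine Finset.sum_congr rfl (fun e₁ _ => ?_)
    simp only [Function.Embedding.coeFn_mk, c]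
    rw [dif_pos e₁.2]
    rfl
  have key := aux_indep p x hcrit _ s' (by
    intro e' he'
    obtain ⟨e₁, _, rfl⟩ := Finset.mem_map.1 he'
    exact e₁.2) c hc le_rfl hsum' e.1 (Finset.mem_map.2 ⟨e, he, rfl⟩)
  simp only [c] at key
  rw [dif_pos e.2] at key
  exact Subtype.ext key

/-- the span of the reduced monomials with variables in `T`. -/
def Mspan (T : Set ι) : Submodule (pPowerSubalgebra p k K) K :=
  Submodule.span (pPowerSubalgebra p k K)
    ((fun e : RedIdx p ι => pMonomial x e.1) '' {e | ∀ i, e.1 i ≠ 0 → i ∈ T})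

lemma pPower_mem_Mspan (T : Set ι) {r : K} (hr : r ∈ pPowerSubalgebra p k K) :
    r ∈ Mspan (k := k) p x T := by
  have h1 : (1 : K) ∈ Mspan (k := k) p x T := by
    refine Submodule.subset_span ⟨⟨0, fun i => hp.out.pos⟩, ?_, pMonomial_zero x⟩
    intro i hi
    exact absurd rfl hi
  have := (Mspan (k := k) p x T).smul_mem ⟨r, hr⟩ h1
  rwa [show (⟨r, hr⟩ : pPowerSubalgebra p k K) • (1 : K) = r from mul_one r] at this

lemma pMonomial_mem_Mspan (T : Set ι) (f : ι →₀ ℕ) (hf : ∀ i, f i ≠ 0 → i ∈ T) :
    pMonomial x f ∈ Mspan (k := k) p x T := by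
  let a : ι → pPowerSubalgebra p k K := fun i => ⟨x i ^ p, Algebra.subset_adjoin ⟨x i, rfl⟩⟩
  rw [pMonomial_eq_smul p x a (fun i => rfl) f]
  refine (Mspan (k := k) p x T).smul_mem _ (Submodule.subset_span ?_)
  refine ⟨⟨red p f, red_lt hp.out.pos f⟩, ?_, rfl⟩
  intro i hi
  apply hf i
  intro h0
  apply hi
  change red p f i = 0
  rw [red_apply, h0, Nat.zero_mod]

lemma mul_mem_Mspan (T : Set ι) {y z : K} (hy : y ∈ Mspan (k := k) p x T)
    (hz : z ∈ Mspan (k := k) p x T) : y * z ∈ Mspan (k := k) p x T := by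
  induction hy using Submodule.span_induction with
  | mem y hy =>
    obtain ⟨e, he, rfl⟩ := hy
    induction hz using Submodule.span_induction with
    | mem z hz =>
      obtain ⟨e', he', rfl⟩ := hz
      change pMonomial x e.1 * pMonomial x e'.1 ∈ _
      rw [← pMonomial_add]
      refine pMonomial_mem_Mspan p x T _ (fun i hi => ?_)
      rw [Finsupp.add_apply] at hi
      by_cases h0 : e.1 i = 0
      · exact he' i (by omega)
      · exact he i h0
    | zero => rw [mul_zero]; exact zero_mem _
    | add z z' _ _ hz hz' => rw [mul_add]; exact add_mem hz hz'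
    | smul r z _ hz => rw [mul_smul_comm]; exact Submodule.smul_mem _ _ hz
  | zero => rw [zero_mul]; exact zero_mem _
  | add y y' _ _ hy hy' => rw [add_mul]; exact add_mem hy hy'
  | smul r y _ hy => rw [smul_mul_assoc]; exact Submodule.smul_mem _ _ hy

lemma pow_mem_Mspan (T : Set ι) {y : K} (hy : y ∈ Mspan (k := k) p x T) (n : ℕ) :
    y ^ n ∈ Mspan (k := k) p x T := by
  induction n with
  | zero =>
    rw [pow_zero]
    exact pPower_mem_Mspan p x T (one_mem _)
  | succ n ih =>
    rw [pow_succ]
    exact mul_mem_Mspan p x T ih hy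

lemma inv_mem_Mspan (T : Set ι) {y : K} (hy : y ∈ Mspan (k := k) p x T) :
    y⁻¹ ∈ Mspan (k := k) p x T := by
  by_cases h0 : y = 0
  · rw [h0, inv_zero]
    exact zero_mem _
  have h1 : y⁻¹ = (y⁻¹) ^ p * y ^ (p - 1) := by
    have hp1 : p = (p - 1) + 1 := (Nat.sub_add_cancel hp.out.pos).symm
    conv_rhs => rw [hp1, pow_succ, Nat.add_sub_cancel, mul_comm, ← mul_assoc, ← mul_pow,
      mul_inv_cancel₀ h0, one_pow, one_mul]
  rw [h1]
  exact mul_mem_Mspan p x T
    (pPower_mem_Mspan p x T (Algebra.subset_adjoin ⟨y⁻¹, rfl⟩)) (pow_mem_Mspan p x T hy _)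

/-- `Mspan` as a subfield. -/
def MspanField (T : Set ι) : Subfield K where
  carrier := Mspan (k := k) p x T
  mul_mem' := mul_mem_Mspan p x T
  one_mem' := pPower_mem_Mspan p x T (one_mem _)
  add_mem' := add_mem
  zero_mem' := zero_mem _
  neg_mem' := neg_mem
  inv_mem' _ := inv_mem_Mspan p x T

lemma cl_le_Mspan (T : Set ι) {y : K} (hy : y ∈ cl (k := k) p (x '' T)) :
    y ∈ Mspan (k := k) p x T := by
  let F : IntermediateField k K := Subfield.toIntermediateField (MspanField (k := k) p x T)
    (fun c => pPower_mem_Mspan p x T (Subalgebra.algebraMap_mem _ c))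
  have h1 : cl (k := k) p (x '' T) ≤ F := by
    unfold cl
    rw [IntermediateField.adjoin_le_iff]
    rintro z (⟨w, rfl⟩ | ⟨i, hi, rfl⟩)
    · exact pPower_mem_Mspan p x T (Algebra.subset_adjoin ⟨w, rfl⟩)
    · have := pMonomial_mem_Mspan (k := k) p x T (Finsupp.single i 1) (fun j hj => by
        by_cases hij : i = j
        · exact hij ▸ hi
        · rw [Finsupp.single_eq_of_ne (Ne.symm hij)] at hj
          exact absurd rfl hj)
      rwa [pMonomial_single, pow_one] at this
  exact h1 hy

theorem crit_of_isPIndependent (hx : IsPIndependent p k x) (a : ι) :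
    x a ∉ cl (k := k) p (x '' {b | b ≠ a}) := by
  intro hmem
  have h1 := cl_le_Mspan p x {b | b ≠ a} hmem
  have h2 : (⟨Finsupp.single a 1, fun i => by
      by_cases hia : a = i
      · rw [hia, Finsupp.single_eq_same]; exact hp.out.one_lt
      · rw [Finsupp.single_eq_of_ne (Ne.symm hia)]; exact hp.out.pos⟩ : RedIdx p ι) ∉
      {e : RedIdx p ι | ∀ i, e.1 i ≠ 0 → i ∈ {b | b ≠ a}} := by
    intro h
    exact h a (by simp) rfl
  have h3 := LinearIndependent.notMem_span_image hx h2
  apply h3
  simp only [pMonomial_single, pow_one]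
  exact h1

theorem isPIndependent_iff_crit :
    IsPIndependent p k x ↔ ∀ a : ι, x a ∉ cl (k := k) p (x '' {b | b ≠ a}) :=
  ⟨crit_of_isPIndependent p x, isPIndependent_of_crit p x⟩

end crit

section exchange

variable {k K : Type u} [Field k] [Field K] [Algebra k K] (p : ℕ) [hp : Fact p.Prime] [CharP K p]

/-- minimal polynomial of a `p`-th root outside the base field. -/
lemma natDegree_minpoly_eq (F : IntermediateField k K) (hF : ∀ y : K, y ^ p ∈ F) {t : K} (ht : t ∉ F) :
    (minpoly F t).natDegree = p := by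
  let a : F := ⟨t ^ p, hF t⟩
  have ha : ∀ b : F, b ^ p ≠ a := by
    intro b hb
    have h1 : (b : K) ^ p = t ^ p := by
      have := congrArg (fun y : F => (y : K)) hb
      simpa using this
    have h2 : ((b : K) - t) ^ p = 0 := by rw [sub_pow_char, h1, sub_self]
    have h3 : (b : K) = t := sub_eq_zero.1 (pow_eq_zero_iff hp.out.ne_zero |>.1 h2)
    exact ht (h3 ▸ b.2)
  have hirr : Irreducible (X ^ p - C a : F[X]) := X_pow_sub_C_irreducible_of_prime hp.out ha
  have hmonic : (X ^ p - C a : F[X]).Monic := monic_X_pow_sub_C a hp.out.ne_zero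
  have hroot : aeval t (X ^ p - C a : F[X]) = 0 := by
    simp only [map_sub, map_pow, aeval_X, aeval_C, a]
    exact sub_self _
  rw [← minpoly.eq_of_irreducible_of_monic hirr hroot hmonic, natDegree_X_pow_sub_C]

lemma isIntegral_of_pow_mem (F : IntermediateField k K) (hF : ∀ y : K, y ^ p ∈ F) (t : K) :
    IsIntegral F t := by
  refine IsIntegral.of_pow hp.out.pos ?_
  have : t ^ p = algebraMap F K ⟨t ^ p, hF t⟩ := rfl
  rw [this]
  exact isIntegral_algebraMap

lemma cl_insert (T : Set K) (s : K) :
    cl (k := k) p (insert s T) =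
      (IntermediateField.adjoin (cl (k := k) p T) {s}).restrictScalars k := by
  unfold cl
  rw [IntermediateField.adjoin_adjoin_left]
  congr 1
  rw [Set.union_singleton, Set.union_insert]

/-- exchange property of the closure operator. -/
theorem exchange (T : Set K) {s b : K} (hb : b ∈ cl (k := k) p (insert s T))
    (hbT : b ∉ cl (k := k) p T) : s ∈ cl (k := k) p (insert b T) := by
  set F := cl (k := k) p T with hFdef
  have hF : ∀ y : K, y ^ p ∈ F := fun y => pow_mem_cl p T y
  rw [cl_insert] at hb ⊢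
  change b ∈ IntermediateField.adjoin F {s} at hb
  change s ∈ IntermediateField.adjoin F {b}
  have hsT : s ∉ F := by
    intro hs
    apply hbT
    have h1 : IntermediateField.adjoin F {s} ≤ ⊥ := by
      rw [IntermediateField.adjoin_le_iff]
      intro z hz
      rw [Set.mem_singleton_iff] at hz
      rw [hz]
      exact IntermediateField.mem_bot.2 ⟨⟨s, hs⟩, rfl⟩
    obtain ⟨y, rfl⟩ := IntermediateField.mem_bot.1 (h1 hb)
    exact y.2
  have hle : IntermediateField.adjoin F {b} ≤ IntermediateField.adjoin F {s} := by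
    rw [IntermediateField.adjoin_le_iff]
    intro z hz
    rw [Set.mem_singleton_iff] at hz
    rw [hz]
    exact hb
  have his : IsIntegral F s := isIntegral_of_pow_mem p F hF s
  have hib : IsIntegral F b := isIntegral_of_pow_mem p F hF b
  haveI : FiniteDimensional F (IntermediateField.adjoin F {s}) :=
    IntermediateField.adjoin.finiteDimensional his
  have hfin : Module.finrank F (IntermediateField.adjoin F {b}) =
      Module.finrank F (IntermediateField.adjoin F {s}) := by
    rw [IntermediateField.adjoin.finrank his, IntermediateField.adjoin.finrank hib,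
      natDegree_minpoly_eq p F hF hsT, natDegree_minpoly_eq p F hF hbT]
  have heq := IntermediateField.eq_of_le_of_finrank_eq hle hfin
  rw [heq]
  exact IntermediateField.mem_adjoin_simple_self F s

/-- `p`-independence of a subset, in closure form. -/
def Indep (B : Set K) : Prop := ∀ b ∈ B, b ∉ cl (k := k) p (B \ {b})

lemma cl_le_cl_of_subset_cl {T T' : Set K} (h : T ⊆ (cl (k := k) p T' : Set K)) :
    cl (k := k) p T ≤ cl (k := k) p T' := by
  unfold cl
  rw [IntermediateField.adjoin_le_iff]
  rintro z (⟨w, rfl⟩ | hz)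
  · exact pow_mem_cl p T' w
  · exact h hz

lemma exists_finite_of_mem_cl {T : Set K} {y : K} (hy : y ∈ cl (k := k) p T) :
    ∃ T₀ : Set K, T₀.Finite ∧ T₀ ⊆ T ∧ y ∈ cl (k := k) p T₀ := by
  classical
  obtain ⟨U, hU, hyU⟩ := IntermediateField.exists_finset_of_mem_adjoin hy
  refine ⟨(U : Set K) ∩ T, (Finset.finite_toSet U).inter_of_left T, Set.inter_subset_right, ?_⟩
  refine IntermediateField.adjoin.mono k _ _ ?_ hyU
  intro z hz
  rcases hU hz with h1 | h1
  · exact Or.inl h1
  · exact Or.inr ⟨hz, h1⟩

/-- Zorn: between an independent `L` and any `S ⊇ L` there is a maximal independent set,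
whose closure contains `S`. -/
theorem exists_maximal_indep (L S : Set K) (hLS : L ⊆ S) (hL : Indep (k := k) p L) :
    ∃ B : Set K, L ⊆ B ∧ B ⊆ S ∧ Indep (k := k) p B ∧ S ⊆ (cl (k := k) p B : Set K) := by
  obtain ⟨B, hLB, hB⟩ := zorn_subset_nonempty {B : Set K | L ⊆ B ∧ B ⊆ S ∧ Indep (k := k) p B} (by
    intro c hc hchain hne
    refine ⟨⋃₀ c, ⟨?_, ?_, ?_⟩, fun B hB => Set.subset_sUnion_of_mem hB⟩
    · obtain ⟨B₀, hB₀⟩ := hne
      exact (hc hB₀).1.trans (Set.subset_sUnion_of_mem hB₀)
    · exact Set.sUnion_subset (fun B hB => (hc hB).2.1)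
    · intro b hb hmem
      obtain ⟨T₀, hfin, hsub, hbT₀⟩ := exists_finite_of_mem_cl p hmem
      have hfin' : (insert b T₀).Finite := hfin.insert b
      have hsub' : insert b T₀ ⊆ ⋃₀ c := by
        intro z hz
        rcases hz with rfl | hz
        · exact hb
        · exact (hsub hz).1
      obtain ⟨B', hB'c, hB'⟩ := hchain.directedOn.exists_mem_subset_of_finite_of_subset_sUnion hne
        hfin' hsub'
      refine (hc hB'c).2.2 b (hB' (Set.mem_insert _ _)) (cl_mono p ?_ hbT₀)
      intro z hz
      exact ⟨hB' (Set.mem_insert_of_mem _ hz), (hsub hz).2⟩) L ⟨subset_rfl, hLS, hL⟩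
  obtain ⟨⟨-, hBS, hBind⟩, hmax⟩ := hB
  refine ⟨B, hLB, hBS, hBind, ?_⟩
  intro s hs
  by_contra hsB
  have hsB' : s ∉ B := fun h => hsB (mem_cl_of_mem p h)
  have hins : insert s B ∈ {B : Set K | L ⊆ B ∧ B ⊆ S ∧ Indep (k := k) p B} := by
    refine ⟨hLB.trans (Set.subset_insert _ _), Set.insert_subset hs hBS, ?_⟩
    intro b' hb' hmem
    rcases hb' with rfl | hb'
    · apply hsB
      refine cl_mono p ?_ hmem
      rintro z ⟨hz1, hz2⟩
      rcases hz1 with rfl | hz1
      · exact absurd rfl hz2
      · exact hz1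
    · have hne : b' ≠ s := fun h => hsB' (h ▸ hb')
      have h1 : insert s B \ {b'} = insert s (B \ {b'}) := by
        ext z
        simp only [Set.mem_sdiff, Set.mem_insert_iff, Set.mem_singleton_iff]
        constructor
        · rintro ⟨h1 | h1, h2⟩
          · exact Or.inl h1
          · exact Or.inr ⟨h1, h2⟩
        · rintro (h1 | ⟨h1, h2⟩)
          · exact ⟨Or.inl h1, h1 ▸ hne.symm⟩
          · exact ⟨Or.inr h1, h2⟩
      rw [h1] at hmem
      have h2 := exchange p (B \ {b'}) hmem (hBind b' hb')
      apply hsB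
      refine cl_mono p ?_ h2
      intro z hz
      rcases hz with rfl | hz
      · exact hb'
      · exact hz.1
  have := hmax hins (Set.subset_insert s B)
  exact hsB' (this (Set.mem_insert s B))

lemma isPIndependent_subtype_iff (B : Set K) :
    IsPIndependent p k (Subtype.val : B → K) ↔ Indep (k := k) p B := by
  rw [isPIndependent_iff_crit]
  have himg : ∀ a : B, (Subtype.val : B → K) '' {b | b ≠ a} = B \ {a.1} := by
    intro a
    ext z
    simp only [Set.mem_image, Set.mem_setOf_eq, Set.mem_sdiff, Set.mem_singleton_iff]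
    constructor
    · rintro ⟨b, hb, rfl⟩
      exact ⟨b.2, fun h => hb (Subtype.ext h)⟩
    · rintro ⟨hz, hne⟩
      exact ⟨⟨z, hz⟩, fun h => hne (congrArg Subtype.val h), rfl⟩
  constructor
  · intro h b hb
    have := h ⟨b, hb⟩
    rwa [himg] at this
  · intro h a
    rw [himg]
    exact h a.1 a.2

lemma isPGenerating_iff_cl {ι : Type u} (x : ι → K) :
    IsPGenerating p k x ↔ cl (k := k) p (Set.range x) = ⊤ := by
  unfold IsPGenerating
  constructor
  · intro h
    rw [eq_top_iff]
    intro y hy0
    clear hy0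
    have hy : y ∈ Submodule.span (pPowerSubalgebra p k K)
        (Set.range fun e : RedIdx p ι => pMonomial x e.1) := by
      rw [h]
      trivial
    induction hy using Submodule.span_induction with
    | mem y hy =>
      obtain ⟨e, rfl⟩ := hy
      exact pMonomial_mem_cl p x e.1 (fun i _ => ⟨i, rfl⟩)
    | zero => exact zero_mem _
    | add y z _ _ hy hz => exact add_mem hy hz
    | smul r y _ hy => exact mul_mem (pPower_le_cl p _ r.2) hy
  · intro h
    rw [eq_top_iff]
    intro y _
    have hy : y ∈ cl (k := k) p (x '' Set.univ) := by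
      rw [Set.image_univ, h]
      trivial
    have := cl_le_Mspan p x Set.univ hy
    refine Submodule.span_mono ?_ this
    rintro _ ⟨e, _, rfl⟩
    exact ⟨e, rfl⟩

/-- existence of a `p`-basis between a `p`-free set and a `p`-generating set. -/
theorem exists_pBasis_between (S L : Set K) (hLS : L ⊆ S)
    (hS : IsPGenerating p k (Subtype.val : S → K))
    (hL : IsPIndependent p k (Subtype.val : L → K)) :
    ∃ B : Set K, L ⊆ B ∧ B ⊆ S ∧ IsPBasis p k (Subtype.val : B → K) := by
  obtain ⟨B, hLB, hBS, hBind, hSB⟩ := exists_maximal_indep p L S hLS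
    ((isPIndependent_subtype_iff p L).1 hL)
  refine ⟨B, hLB, hBS, (isPIndependent_subtype_iff p B).2 hBind, ?_⟩
  rw [isPGenerating_iff_cl, Subtype.range_coe]
  rw [isPGenerating_iff_cl, Subtype.range_coe] at hS
  rw [eq_top_iff, ← hS]
  exact cl_le_cl_of_subset_cl p hSB

end exchange

end Groth.Agent.Lib.Helper22.PBasisField
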