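import Mathlib
import Groth.Prelude.Def_EGA41
import Groth.Agent.Lib.Helper22.PBasisField
import Groth.Agent.Lib.Helper22.PBasisDer

/-!
# p-bases of fields and differentials (EGA 0_IV 21.4.5)
-/

namespace Groth.Agent.Lib.Helper22.PBasisKaehler

open EGA41 Groth.Agent.Lib.Helper22.PBasis Groth.Agent.Lib.Helper22.PBasisField
  Groth.Agent.Lib.Helper22.PBasisDer

universe u

variable {k K : Type u} [Field k] [Field K] [Algebra k K] (p : ℕ) [hp : Fact p.Prime] [CharP K p]

local notation "d" => KaehlerDifferential.D k K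

omit hp in
/-- the elements whose differential lies in a given subspace form a subfield containing `K^p`. -/
lemma d_mem_of_mem_cl (W : Submodule K (Ω[K⁄k])) {T : Set K} (hT : ∀ y ∈ T, d y ∈ W) {y : K}
    (hy : y ∈ cl (k := k) p T) : d y ∈ W := by
  let F : Subfield K :=
    { carrier := {y | d y ∈ W}
      mul_mem' := fun {a b} ha hb => by
        change d (a * b) ∈ W
        rw [Derivation.leibniz]
        exact add_mem (W.smul_mem _ hb) (W.smul_mem _ ha)
      one_mem' := by
        change d 1 ∈ W
        rw [Derivation.map_one_eq_zero]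
        exact zero_mem _
      add_mem' := fun {a b} ha hb => by
        change d (a + b) ∈ W
        rw [map_add]
        exact add_mem ha hb
      zero_mem' := by
        change d 0 ∈ W
        rw [map_zero]
        exact zero_mem _
      neg_mem' := fun {a} ha => by
        change d (-a) ∈ W
        rw [map_neg]
        exact neg_mem ha
      inv_mem' := fun a ha => by
        change d a⁻¹ ∈ W
        rw [Derivation.leibniz_inv]
        exact W.smul_mem _ ha }
  let F' : IntermediateField k K := Subfield.toIntermediateField F (fun c => by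
    change d (algebraMap k K c) ∈ W
    rw [Derivation.map_algebraMap]
    exact zero_mem _)
  have h1 : cl (k := k) p T ≤ F' := by
    unfold cl
    rw [IntermediateField.adjoin_le_iff]
    rintro z (⟨w, rfl⟩ | hz)
    · change d (w ^ p) ∈ W
      rw [Derivation.leibniz_pow, nsmul_p_eq_zero p K]
      exact zero_mem _
    · exact hT z hz
  exact h1 hy

/-- a `p`-basis (as a subset) containing a given independent set. -/
lemma exists_pBasis_superset (L : Set K) (hL : Indep (k := k) p L) :
    ∃ B : Set K, L ⊆ B ∧ IsPBasis p k (Subtype.val : B → K) := by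
  obtain ⟨B, hLB, -, hBind, hB⟩ := exists_maximal_indep p L Set.univ (Set.subset_univ _) hL
  refine ⟨B, hLB, (isPIndependent_subtype_iff p B).2 hBind, ?_⟩
  rw [isPGenerating_iff_cl, Subtype.range_coe, eq_top_iff]
  intro y _
  exact hB (Set.mem_univ y)

variable {ι : Type u} (x : ι → K)

theorem linearIndependent_of_isPIndependent (hx : IsPIndependent p k x) :
    LinearIndependent K (fun i => d (x i)) := by
  have hcrit := (isPIndependent_iff_crit p x).1 hx
  have hinj : Function.Injective x := by
    intro a b hab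
    by_contra hne
    apply hcrit a
    refine mem_cl_of_mem p ⟨b, fun h => hne h.symm, hab.symm⟩
  have hind : Indep (k := k) p (Set.range x) := by
    rintro _ ⟨a, rfl⟩ hmem
    apply hcrit a
    refine cl_mono p ?_ hmem
    rintro _ ⟨⟨b, rfl⟩, hb⟩
    exact ⟨b, fun h => hb (by rw [h]; rfl), rfl⟩
  obtain ⟨B, hLB, hB⟩ := exists_pBasis_superset p (Set.range x) hind
  obtain ⟨bB, hbB⟩ := kaehler_basis_of_isPBasis p (Subtype.val : B → K) hB
  have hli : LinearIndependent K (fun b : B => d b.1) := by
    have := bB.linearIndependent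
    have h2 : (bB : B → Ω[K⁄k]) = fun b : B => d b.1 := funext hbB
    rwa [h2] at this
  have := hli.comp (fun i => (⟨x i, hLB ⟨i, rfl⟩⟩ : B)) (fun a b hab => hinj (congrArg Subtype.val hab))
  exact this

theorem isPIndependent_of_linearIndependent (hx : LinearIndependent K (fun i => d (x i))) :
    IsPIndependent p k x := by
  rw [isPIndependent_iff_crit]
  intro a hmem
  have h1 : d (x a) ∈ Submodule.span K ((fun i => d (x i)) '' {b | b ≠ a}) := by
    refine d_mem_of_mem_cl p _ ?_ hmem
    rintro _ ⟨b, hb, rfl⟩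
    exact Submodule.subset_span ⟨b, hb, rfl⟩
  exact LinearIndependent.notMem_span_image hx (by simp : a ∉ {b | b ≠ a}) h1

theorem span_eq_top_of_isPGenerating (hx : IsPGenerating p k x) :
    Submodule.span K (Set.range fun i => d (x i)) = ⊤ := by
  rw [isPGenerating_iff_cl] at hx
  rw [eq_top_iff, ← KaehlerDifferential.span_range_derivation, Submodule.span_le]
  rintro _ ⟨y, rfl⟩
  refine d_mem_of_mem_cl p _ ?_ (hx ▸ (IntermediateField.mem_top : y ∈ (⊤ : IntermediateField k K)))
  rintro _ ⟨i, rfl⟩
  exact Submodule.subset_span ⟨i, rfl⟩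

theorem isPGenerating_of_span_eq_top (hx : Submodule.span K (Set.range fun i => d (x i)) = ⊤) :
    IsPGenerating p k x := by
  rw [isPGenerating_iff_cl]
  -- a maximal independent subset of the range
  obtain ⟨B₀, -, hB₀x, hB₀ind, hxB₀⟩ := exists_maximal_indep (k := k) p ∅ (Set.range x)
    (Set.empty_subset _) (fun b hb => absurd hb (Set.notMem_empty b))
  obtain ⟨B₁, hB₀₁, hB₁⟩ := exists_pBasis_superset p B₀ hB₀ind
  obtain ⟨bB, hbB⟩ := kaehler_basis_of_isPBasis p (Subtype.val : B₁ → K) hB₁
  -- differentials of `B₀` span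
  have hW : Submodule.span K (d '' B₀) = ⊤ := by
    rw [eq_top_iff, ← hx, Submodule.span_le]
    rintro _ ⟨i, rfl⟩
    refine d_mem_of_mem_cl p _ ?_ (hxB₀ ⟨i, rfl⟩)
    intro y hy
    exact Submodule.subset_span ⟨y, hy, rfl⟩
  have hB₁₀ : B₁ ⊆ B₀ := by
    intro b hb
    by_contra hb0
    have h1 : (⟨b, hb⟩ : B₁) ∉ {b' : B₁ | b'.1 ∈ B₀} := hb0
    have h2 := LinearIndependent.notMem_span_image bB.linearIndependent h1
    apply h2
    have h3 : (bB : B₁ → Ω[K⁄k]) '' {b' : B₁ | b'.1 ∈ B₀} = d '' B₀ := by
      ext z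
      constructor
      · rintro ⟨b', hb', rfl⟩
        exact ⟨b'.1, hb', (hbB b').symm⟩
      · rintro ⟨y, hy, rfl⟩
        exact ⟨⟨y, hB₀₁ hy⟩, hy, hbB _⟩
    rw [h3, hW]
    trivial
  have hcl : cl (k := k) p B₁ = ⊤ := by
    have := hB₁.2
    rwa [isPGenerating_iff_cl, Subtype.range_coe] at this
  rw [eq_top_iff, ← hcl]
  exact cl_mono p (hB₁₀.trans hB₀x)

theorem main :
    (IsPIndependent p k x ↔ LinearIndependent K (fun i => d (x i))) ∧
    (IsPGenerating p k x ↔ Submodule.span K (Set.range fun i => d (x i)) = ⊤) ∧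
    (IsPBasis p k x ↔ ∃ b : Module.Basis ι K (Ω[K⁄k]), ∀ i, b i = d (x i)) := by
  refine ⟨⟨linearIndependent_of_isPIndependent p x, isPIndependent_of_linearIndependent p x⟩,
    ⟨span_eq_top_of_isPGenerating p x, isPGenerating_of_span_eq_top p x⟩, ?_, ?_⟩
  · intro hx
    exact kaehler_basis_of_isPBasis p x hx
  · rintro ⟨b, hb⟩
    have h2 : (b : ι → Ω[K⁄k]) = fun i => d (x i) := funext hb
    refine ⟨isPIndependent_of_linearIndependent p x (h2 ▸ b.linearIndependent),
      isPGenerating_of_span_eq_top p x (h2 ▸ b.span_eq)⟩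

end Groth.Agent.Lib.Helper22.PBasisKaehler
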