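import Mathlib

/-! # P-divisibility helpers for abelian groups (helper22) -/

namespace Groth.Agent.Lib.Helper22.PDiv

/-- Bezout in an additive group. -/
theorem bez {G : Type*} [AddCommGroup G] (a b : ℕ) (h : Nat.Coprime a b) (x : G) :
    x = (Nat.gcdA a b) • (a • x) + (Nat.gcdB a b) • (b • x) := by
  have h1 := Nat.gcd_eq_gcd_ab a b
  rw [h] at h1
  have : ((1 : ℕ) : ℤ) • x = ((a : ℤ) * Nat.gcdA a b + b * Nat.gcdB a b) • x := by rw [h1]
  rw [Nat.cast_one, one_smul, add_smul, mul_comm, mul_smul, mul_comm, mul_smul,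
    natCast_zsmul, natCast_zsmul] at this
  exact this

theorem eq_zero_of_coprime {G : Type*} [AddCommGroup G] (a b : ℕ) (h : Nat.Coprime a b) (x : G)
    (ha : a • x = 0) (hb : b • x = 0) : x = 0 := by
  rw [bez a b h x, ha, hb]; simp

theorem coprime_of_primes (P : Set ℕ) (a b : ℕ) (ha : ∀ p : ℕ, p.Prime → p ∣ a → p ∈ P)
    (hb : ∀ p : ℕ, p.Prime → p ∣ b → p ∉ P) : Nat.Coprime a b :=
  Nat.coprime_of_dvd (fun k hk hka hkb => hb k hk hkb (ha k hk hka))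

/-- Split a positive integer into its `P`-part and prime-to-`P` part. -/
theorem split (P : Set ℕ) (n : ℕ) (hn : n ≠ 0) : ∃ n₁ n₂ : ℕ, n = n₁ * n₂ ∧
    (∀ p : ℕ, p.Prime → p ∣ n₁ → p ∈ P) ∧ (∀ p : ℕ, p.Prime → p ∣ n₂ → p ∉ P) := by
  classical
  induction n using Nat.recOnMul with
  | zero => exact absurd rfl hn
  | one => exact ⟨1, 1, rfl, fun p hp h => absurd (Nat.dvd_one.1 h) hp.ne_one,
      fun p hp h => absurd (Nat.dvd_one.1 h) hp.ne_one⟩
  | prime p hp =>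
    by_cases hpP : p ∈ P
    · refine ⟨p, 1, (mul_one p).symm, fun q hq h => ?_,
        fun p hp h => absurd (Nat.dvd_one.1 h) hp.ne_one⟩
      rwa [(Nat.prime_dvd_prime_iff_eq hq hp).1 h]
    · refine ⟨1, p, (one_mul p).symm, fun p hp h => absurd (Nat.dvd_one.1 h) hp.ne_one,
        fun q hq h => ?_⟩
      rwa [(Nat.prime_dvd_prime_iff_eq hq hp).1 h]
  | mul a b iha ihb =>
    obtain ⟨a₁, a₂, rfl, ha₁, ha₂⟩ := iha (fun h => hn (by rw [h, zero_mul]))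
    obtain ⟨b₁, b₂, rfl, hb₁, hb₂⟩ := ihb (fun h => hn (by rw [h, mul_zero]))
    refine ⟨a₁ * b₁, a₂ * b₂, by ring, fun p hp h => ?_, fun p hp h => ?_⟩
    · exact (hp.dvd_mul.1 h).elim (ha₁ p hp) (hb₁ p hp)
    · exact (hp.dvd_mul.1 h).elim (ha₂ p hp) (hb₂ p hp)

/-- Divisibility by primes in `S` implies divisibility by all `S`-numbers. -/
theorem div_of_primes {G : Type*} [AddCommGroup G] (H : AddSubgroup G) (S : Set ℕ)
    (hprime : ∀ q : ℕ, q.Prime → q ∈ S → ∀ x ∈ H, ∃ y ∈ H, q • y = x) :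
    ∀ n : ℕ, n ≠ 0 → (∀ q : ℕ, q.Prime → q ∣ n → q ∈ S) → ∀ x ∈ H, ∃ y ∈ H, n • y = x := by
  intro n
  induction n using Nat.recOnMul with
  | zero => intro h; exact absurd rfl h
  | one => intro _ _ x hx; exact ⟨x, hx, one_smul _ _⟩
  | prime p hp => intro _ h x hx; exact hprime p hp (h p hp dvd_rfl) x hx
  | mul a b iha ihb =>
    intro hn h x hx
    obtain ⟨y, hy, rfl⟩ := iha (fun h => hn (by rw [h, zero_mul]))
      (fun q hq hqa => h q hq (hqa.mul_right b)) x hx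
    obtain ⟨z, hz, rfl⟩ := ihb (fun h => hn (by rw [h, mul_zero]))
      (fun q hq hqb => h q hq (hqb.mul_left a)) y hy
    exact ⟨z, hz, mul_smul a b z⟩

/-- The positive integers all of whose prime factors lie in `P`. -/
def IPs (P : Set ℕ) : Submonoid ℕ where
  carrier := {n | 0 < n ∧ ∀ p : ℕ, p.Prime → p ∣ n → p ∈ P}
  one_mem' := ⟨one_pos, fun p hp h => absurd (Nat.dvd_one.1 h) hp.ne_one⟩
  mul_mem' := fun ⟨ha0, ha⟩ ⟨hb0, hb⟩ =>
    ⟨Nat.mul_pos ha0 hb0, fun p hp h => (hp.dvd_mul.1 h).elim (ha p hp) (hb p hp)⟩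

theorem mem_IPs {P : Set ℕ} {n : ℕ} :
    n ∈ IPs P ↔ 0 < n ∧ ∀ p : ℕ, p.Prime → p ∣ n → p ∈ P := Iff.rfl

/-- The `S`-torsion subgroup. -/
def tors (S : Submonoid ℕ) (G : Type*) [AddCommGroup G] : AddSubgroup G where
  carrier := {x | ∃ n ∈ S, n • x = 0}
  zero_mem' := ⟨1, S.one_mem, by simp⟩
  add_mem' := by
    rintro a b ⟨n, hn, hna⟩ ⟨m, hm, hmb⟩
    exact ⟨n * m, S.mul_mem hn hm, by
      rw [smul_add, mul_comm, mul_smul, hna, mul_comm, mul_smul, hmb]; simp⟩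
  neg_mem' := by
    rintro a ⟨n, hn, hna⟩
    exact ⟨n, hn, by simp [hna]⟩

theorem mem_tors {S : Submonoid ℕ} {G : Type*} [AddCommGroup G] {x : G} :
    x ∈ tors S G ↔ ∃ n ∈ S, n • x = 0 := Iff.rfl

end Groth.Agent.Lib.Helper22.PDiv
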