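import Mathlib

/-!
# Closed subalgebras of `k[[t]]` and their value semigroups (helper22)
-/

set_option autoImplicit false
universe u
open PowerSeries

namespace Groth.Agent.Lib.Helper22.PSAlg

variable {k : Type u} [Field k]

/-- One step of successive approximation inside a `k`-subspace `A` of `k[[t]]`: if `n` is the
order of an element of `A` and `h - g` has order at least `n`, then `g` can be corrected by a multiple
of that element so that the order becomes at least `n + 1`. -/
theorem approx_step (A : Submodule k (PowerSeries k)) (h g a : PowerSeries k) (hg : g ∈ A)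
    (ha : a ∈ A) (n : ℕ) (han : PowerSeries.order a = n)
    (hn : (n : ℕ∞) ≤ PowerSeries.order (h - g)) :
    ∃ g' ∈ A, ((n + 1 : ℕ) : ℕ∞) ≤ PowerSeries.order (h - g') := by
  have ha0 : a ≠ 0 := by
    intro h0; rw [h0, order_zero] at han; exact ENat.top_ne_natCast _ han
  have hcoeff : coeff n a ≠ 0 := by
    have := coeff_order ha0
    rwa [han, ENat.toNat_natCast] at this
  refine ⟨g + (coeff n (h - g) / coeff n a) • a, A.add_mem hg (A.smul_mem _ ha), ?_⟩
  apply nat_le_order
  intro i hi
  have hsub : h - (g + (coeff n (h - g) / coeff n a) • a) =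
      (h - g) - (coeff n (h - g) / coeff n a) • a := by ring
  rw [hsub, map_sub, PowerSeries.coeff_smul]
  rcases Nat.lt_succ_iff_lt_or_eq.mp hi with hlt | heq
  · have h1 : coeff i (h - g) = 0 :=
      coeff_of_lt_order i (lt_of_lt_of_le (by exact_mod_cast hlt) hn)
    have h2 : coeff i a = 0 := coeff_of_lt_order i (by rw [han]; exact_mod_cast hlt)
    rw [h1, h2, smul_zero, sub_zero]
  · rw [heq, smul_eq_mul, div_mul_cancel₀ _ hcoeff, sub_self]

/-- If every `n ≥ c` is the order of an element of the closed subspace `A`, then `A` contains every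
power series of order at least `c`. -/
theorem mem_of_le_order (A : Submodule k (PowerSeries k))
    (hcl : ∀ f : PowerSeries k, (∀ n : ℕ, ∃ g ∈ A, (n : ℕ∞) ≤ PowerSeries.order (f - g)) → f ∈ A)
    (c : ℕ) (hc : ∀ n : ℕ, c ≤ n → ∃ a ∈ A, PowerSeries.order a = n)
    (h : PowerSeries k) (hh : (c : ℕ∞) ≤ PowerSeries.order h) : h ∈ A := by
  apply hcl
  intro n
  induction n with
  | zero => exact ⟨0, A.zero_mem, by simp⟩
  | succ n ih =>
    obtain ⟨g, hg, hgn⟩ := ih
    rcases Nat.lt_or_ge n c with hlt | hge
    · refine ⟨0, A.zero_mem, ?_⟩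
      rw [sub_zero]
      exact le_trans (by exact_mod_cast hlt) hh
    · obtain ⟨a, ha, han⟩ := hc n hge
      exact approx_step A h g a hg ha n han hgn

end Groth.Agent.Lib.Helper22.PSAlg
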