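import Mathlib

set_option autoImplicit false
universe u
open PowerSeries

namespace Groth.Agent.Lib.Helper22.PSLattice

variable {R : Type u} [CommRing R]

/-- shift a power series down by `M`. -/
noncomputable def shift (M : ℕ) : R⟦X⟧ →ₗ[R] R⟦X⟧ where
  toFun f := PowerSeries.mk fun n => coeff (n + M) f
  map_add' f g := by ext n; simp
  map_smul' r f := by ext n; simp

lemma shift_X_pow_mul (M : ℕ) (f : R⟦X⟧) : shift M ((X : R⟦X⟧) ^ M * f) = f := by
  ext n
  simp only [shift, LinearMap.coe_mk, AddHom.coe_mk, coeff_mk]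
  rw [coeff_X_pow_mul]

/-- polynomial of degree `< M` with given coefficients, as a power series -/
noncomputable def poly (M : ℕ) (a : Fin M → R) : R⟦X⟧ := ∑ j : Fin M, a j • (X : R⟦X⟧) ^ (j : ℕ)

lemma coeff_poly (M : ℕ) (a : Fin M → R) (k : ℕ) :
    coeff k (poly M a) = if h : k < M then a ⟨k, h⟩ else 0 := by
  unfold poly
  rw [map_sum]
  simp only [map_smul, coeff_X_pow, smul_eq_mul, mul_ite, mul_one, mul_zero]
  split_ifs with h
  · rw [Finset.sum_eq_single (⟨k, h⟩ : Fin M)]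
    · simp
    · intro b _ hb
      rw [if_neg]
      intro h'
      exact hb (Fin.ext h'.symm)
    · simp
  · apply Finset.sum_eq_zero
    intro b _
    rw [if_neg]
    intro h'
    exact h (h' ▸ b.2)

lemma exists_eq_poly_add (M : ℕ) (s : R⟦X⟧) :
    ∃ s' : R⟦X⟧, s = poly M (fun j => coeff (j : ℕ) s) + X ^ M * s' := by
  have h : (X : R⟦X⟧) ^ M ∣ s - poly M (fun j => coeff (j : ℕ) s) := by
    rw [X_pow_dvd_iff]
    intro m hm
    rw [map_sub, coeff_poly, dif_pos hm, sub_self]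
  obtain ⟨s', hs'⟩ := h
  exact ⟨s', by rw [← hs']; ring⟩

variable (n M : ℕ)

/-- coefficient map -/
noncomputable def cmap : (Fin n → R⟦X⟧) →ₗ[R] (Fin n → Fin M → R) :=
  LinearMap.pi fun i => LinearMap.pi fun j =>
    (coeff (j : ℕ) : R⟦X⟧ →ₗ[R] R) ∘ₗ (LinearMap.proj i : (Fin n → R⟦X⟧) →ₗ[R] R⟦X⟧)

@[simp] lemma cmap_apply (v : Fin n → R⟦X⟧) (i : Fin n) (j : Fin M) :
    cmap n M v i j = coeff (j : ℕ) (v i) := rfl

/-- section of the coefficient map -/
noncomputable def tmap : (Fin n → Fin M → R) →ₗ[R] (Fin n → R⟦X⟧) where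
  toFun e i := poly M (e i)
  map_add' e e' := by
    ext i k
    simp only [Pi.add_apply, map_add, coeff_poly]
    split_ifs <;> simp
  map_smul' r e := by
    ext i k
    simp only [Pi.smul_apply, map_smul, coeff_poly, RingHom.id_apply, smul_eq_mul]
    split_ifs <;> simp

@[simp] lemma tmap_apply (e : Fin n → Fin M → R) (i : Fin n) : tmap n M e i = poly M (e i) := rfl

lemma cmap_tmap (e : Fin n → Fin M → R) : cmap n M (tmap n M e) = e := by
  ext i j
  simp [coeff_poly]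

lemma cmap_X_pow_smul (w : Fin n → R⟦X⟧) : cmap n M (((X : R⟦X⟧) ^ M) • w) = 0 := by
  ext i j
  simp only [cmap_apply, Pi.smul_apply, smul_eq_mul, Pi.zero_apply]
  rw [coeff_X_pow_mul', if_neg (by simp)]

lemma exists_of_cmap_eq_zero (v : Fin n → R⟦X⟧) (h : cmap n M v = 0) :
    ∃ w : Fin n → R⟦X⟧, v = ((X : R⟦X⟧) ^ M) • w := by
  have h1 : ∀ i, (X : R⟦X⟧) ^ M ∣ v i := by
    intro i
    rw [X_pow_dvd_iff]
    intro m hm
    have := congrFun (congrFun h i) ⟨m, hm⟩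
    simpa using this
  choose w hw using h1
  exact ⟨w, by ext i; simp [hw i]⟩

lemma cmap_smul (s : R⟦X⟧) (v : Fin n → R⟦X⟧) :
    cmap n M (s • v) = ∑ j : Fin M, coeff (j : ℕ) s • cmap n M (((X : R⟦X⟧) ^ (j : ℕ)) • v) := by
  obtain ⟨s', hs'⟩ := exists_eq_poly_add M s
  conv_lhs => rw [hs', add_smul, map_add, mul_smul, cmap_X_pow_smul, add_zero]
  unfold poly
  rw [Finset.sum_smul, map_sum]
  apply Finset.sum_congr rfl
  intro j _
  rw [smul_assoc, map_smul]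


section Forward

variable {n M}
variable (Λ : Submodule R⟦X⟧ (Fin n → R⟦X⟧))
  (hΛ : ∀ v : Fin n → R⟦X⟧, ((PowerSeries.X : R⟦X⟧) ^ M) • v ∈ Λ)

include hΛ in
lemma mem_of_cmap_eq_zero (v : Fin n → R⟦X⟧) (h : cmap n M v = 0) : v ∈ Λ := by
  obtain ⟨w, rfl⟩ := exists_of_cmap_eq_zero n M v h
  exact hΛ w

include hΛ in
/-- key claim: `Λ ∩ I V ⊆ I Λ` for projective `Λ`. -/
lemma exists_sum_smul_mem [Module.Projective R⟦X⟧ Λ] {l : ℕ} (a : Fin l → R)
    (v : Fin l → (Fin n → R⟦X⟧)) (hv : ∑ i, a i • v i ∈ Λ) :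
    ∃ l' : Fin l → (Fin n → R⟦X⟧), (∀ i, l' i ∈ Λ) ∧ ∑ i, a i • v i = ∑ i, a i • l' i := by
  obtain ⟨ι, hι⟩ := (Module.projective_def' (R := R⟦X⟧) (P := Λ)).mp inferInstance
  set π := Finsupp.linearCombination R⟦X⟧ (id : Λ → Λ) with hπ
  set w : Fin l → Λ := fun i => ⟨((X : R⟦X⟧) ^ M) • v i, hΛ _⟩ with hw
  set lam : Λ := ⟨∑ i, a i • v i, hv⟩ with hlam
  have h1 : ((X : R⟦X⟧) ^ M) • lam = ∑ i, a i • w i := by
    apply Subtype.ext
    simp only [hlam, hw, Submodule.coe_smul, Submodule.coe_sum, Finset.smul_sum]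
    apply Finset.sum_congr rfl
    intro i _
    rw [Submodule.coe_smul_of_tower, smul_comm]
  let D : (Λ →₀ R⟦X⟧) →ₗ[R] (Λ →₀ R⟦X⟧) := Finsupp.mapRange.linearMap (shift M)
  have hD : ∀ y : Λ →₀ R⟦X⟧, D (((X : R⟦X⟧) ^ M) • y) = y := by
    intro y
    ext b
    simp only [D, Finsupp.mapRange.linearMap_apply, Finsupp.mapRange_apply, Finsupp.smul_apply,
      smul_eq_mul]
    rw [shift_X_pow_mul]
  have h2 : ι lam = ∑ i, a i • D (ι (w i)) := by
    have := congrArg (fun z => D (ι z)) h1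
    simp only [map_smul, hD, map_sum] at this
    rw [this]
    apply Finset.sum_congr rfl
    intro i _
    rw [LinearMap.map_smul_of_tower, map_smul]
  have h3 : lam = ∑ i, a i • π (D (ι (w i))) := by
    have h4 : π (ι lam) = lam := by
      have := LinearMap.congr_fun hι lam
      simpa using this
    rw [← h4, h2, map_sum]
    apply Finset.sum_congr rfl
    intro i _
    rw [LinearMap.map_smul_of_tower]
  refine ⟨fun i => (π (D (ι (w i))) : Λ), fun i => Submodule.coe_mem _, ?_⟩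
  have := congrArg (Subtype.val) h3
  simp only [hlam, Submodule.coe_sum, Submodule.coe_smul_of_tower] at this
  exact this

include hΛ in
lemma flat_quotient [Module.Projective R⟦X⟧ Λ] : Module.Flat R ((Fin n → R⟦X⟧) ⧸ Λ) := by
  apply Module.Flat.of_forall_isTrivialRelation
  intro l a q hrel
  have hsurj : ∀ i, ∃ v : Fin n → R⟦X⟧, Λ.mkQ v = q i := fun i => Λ.mkQ_surjective (q i)
  choose v hv using hsurj
  have hmem : ∑ i, a i • v i ∈ Λ := by
    rw [← Submodule.Quotient.mk_eq_zero, ← hrel]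
    rw [← Submodule.mkQ_apply, map_sum]
    apply Finset.sum_congr rfl
    intro i _
    rw [← hv i]
    rfl
  obtain ⟨l', hl', hsum⟩ := exists_sum_smul_mem Λ hΛ a v hmem
  have hzero : ∑ i, a i • cmap n M (v i - l' i) = 0 := by
    have : ∑ i, a i • (v i - l' i) = 0 := by
      simp only [smul_sub, Finset.sum_sub_distrib, hsum, sub_self]
    have h := congrArg (cmap n M) this
    simpa only [map_sum, map_smul, map_zero] using h
  obtain ⟨k, b, y, hy, hb⟩ := Module.Flat.isTrivialRelation_of_sum_smul_eq_zero hzero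
  refine ⟨k, b, fun j => Λ.mkQ (tmap n M (y j)), ?_, hb⟩
  intro i
  have h1 : v i - l' i - ∑ j, b i j • tmap n M (y j) ∈ Λ := by
    apply mem_of_cmap_eq_zero Λ hΛ
    have hyi : cmap n M (v i - l' i) = ∑ j, b i j • y j := hy i
    rw [map_sub, map_sum, hyi, sub_eq_zero]
    apply Finset.sum_congr rfl
    intro j _
    rw [map_smul, cmap_tmap]
  have h2 : v i - ∑ j, b i j • tmap n M (y j) ∈ Λ := by
    have := Λ.add_mem h1 (hl' i)
    convert this using 1
    abel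
  rw [← hv i]
  have h3 := (Submodule.Quotient.mk_eq_zero Λ).mpr h2
  rw [Submodule.Quotient.mk_sub, sub_eq_zero] at h3
  rw [Submodule.mkQ_apply, h3, ← Submodule.mkQ_apply, map_sum]
  apply Finset.sum_congr rfl
  intro j _
  rfl


/-- the `R`-linear surjection `R^{nM} → V/Λ`. -/
noncomputable def gmap : (Fin n → Fin M → R) →ₗ[R] ((Fin n → R⟦X⟧) ⧸ Λ) :=
  (Λ.mkQ.restrictScalars R) ∘ₗ tmap n M

include hΛ in
lemma gmap_cmap (v : Fin n → R⟦X⟧) : gmap Λ (cmap n M v) = Λ.mkQ v := by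
  have h : v - tmap n M (cmap n M v) ∈ Λ := by
    apply mem_of_cmap_eq_zero Λ hΛ
    rw [map_sub, cmap_tmap, sub_self]
  have h3 := (Submodule.Quotient.mk_eq_zero Λ).mpr h
  rw [Submodule.Quotient.mk_sub, sub_eq_zero] at h3
  simp only [gmap, LinearMap.coe_comp, LinearMap.coe_restrictScalars, Function.comp_apply,
    Submodule.mkQ_apply]
  exact h3.symm

include hΛ in
lemma gmap_surjective : Function.Surjective (gmap (M := M) Λ) := by
  intro q
  obtain ⟨v, rfl⟩ := Λ.mkQ_surjective q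
  exact ⟨cmap n M v, gmap_cmap Λ hΛ v⟩

include hΛ in
lemma finite_quotient : Module.Finite R ((Fin n → R⟦X⟧) ⧸ Λ) :=
  Module.Finite.of_surjective (gmap (M := M) Λ) (gmap_surjective Λ hΛ)

include hΛ in
lemma ker_gmap : LinearMap.ker (gmap (M := M) Λ) = (Λ.restrictScalars R).map (cmap n M) := by
  ext e
  simp only [LinearMap.mem_ker, Submodule.mem_map, Submodule.restrictScalars_mem]
  constructor
  · intro h
    refine ⟨tmap n M e, ?_, cmap_tmap n M e⟩
    simpa [gmap] using h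
  · rintro ⟨lam, hlam, rfl⟩
    rw [gmap_cmap Λ hΛ]
    simpa using hlam

include hΛ in
lemma ker_gmap_fg [Module.Finite R⟦X⟧ Λ] : (LinearMap.ker (gmap (M := M) Λ)).FG := by
  rw [ker_gmap Λ hΛ]
  obtain ⟨G, hG⟩ := (Module.Finite.iff_fg.mp (inferInstance : Module.Finite R⟦X⟧ Λ))
  let T : Set (Fin n → Fin M → R) :=
    ⋃ j : Fin M, (fun x => cmap n M (((X : R⟦X⟧) ^ (j : ℕ)) • x)) '' (G : Set (Fin n → R⟦X⟧))
  have hT : T.Finite := Set.finite_iUnion fun j => (G.finite_toSet.image _)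
  have hTmem : ∀ (j : Fin M) (x : Fin n → R⟦X⟧), x ∈ G →
      cmap n M (((X : R⟦X⟧) ^ (j : ℕ)) • x) ∈ Submodule.span R T := by
    intro j x hx
    apply Submodule.subset_span
    exact Set.mem_iUnion.mpr ⟨j, x, hx, rfl⟩
  have key : ∀ lam ∈ Λ, ∀ s : R⟦X⟧, cmap n M (s • lam) ∈ Submodule.span R T := by
    intro lam hlam
    rw [← hG] at hlam
    induction hlam using Submodule.span_induction with
    | mem x hx =>
      intro s
      rw [cmap_smul]
      exact Submodule.sum_mem _ fun j _ => Submodule.smul_mem _ _ (hTmem j x hx)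
    | zero => intro s; simp
    | add x y _ _ hx hy =>
      intro s
      rw [smul_add, map_add]
      exact Submodule.add_mem _ (hx s) (hy s)
    | smul s' x _ hx =>
      intro s
      rw [smul_smul]
      exact hx _
  have : (Λ.restrictScalars R).map (cmap n M) = Submodule.span R T := by
    apply le_antisymm
    · rintro _ ⟨lam, hlam, rfl⟩
      have := key lam hlam 1
      simpa using this
    · rw [Submodule.span_le]
      intro e he
      obtain ⟨j, x, hx, rfl⟩ := Set.mem_iUnion.mp he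
      refine ⟨((X : R⟦X⟧) ^ (j : ℕ)) • x, ?_, rfl⟩
      have hxΛ : x ∈ Λ := by rw [← hG]; exact Submodule.subset_span hx
      exact Λ.smul_mem _ hxΛ
  rw [this]
  exact Submodule.fg_span hT

include hΛ in
theorem projective_quotient [Module.Finite R⟦X⟧ Λ] [Module.Projective R⟦X⟧ Λ] :
    Module.Projective R ((Fin n → R⟦X⟧) ⧸ Λ) := by
  haveI := flat_quotient Λ hΛ
  haveI : Module.FinitePresentation R ((Fin n → R⟦X⟧) ⧸ Λ) :=
    Module.finitePresentation_of_surjective (gmap (M := M) Λ) (gmap_surjective Λ hΛ)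
      (ker_gmap_fg Λ hΛ)
  exact Module.Flat.projective_of_finitePresentation

end Forward


section Resolution

open TensorProduct

variable (R) (Q : Type u) [AddCommGroup Q] [Module R Q] [Module R⟦X⟧ Q] [IsScalarTower R R⟦X⟧ Q]

/-- multiplication by `X` on `Q`, as an `R`-linear map -/
noncomputable def xR : Q →ₗ[R] Q := (LinearMap.lsmul R⟦X⟧ Q X).restrictScalars R

@[simp] lemma xR_apply (q : Q) : xR R Q q = (X : R⟦X⟧) • q := rfl

lemma xR_pow_apply (k : ℕ) (q : Q) : ((xR R Q) ^ k) q = ((X : R⟦X⟧) ^ k) • q := by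
  induction k generalizing q with
  | zero => simp
  | succ k ih =>
    rw [pow_succ, Module.End.mul_apply, ih, xR_apply, pow_succ, mul_smul]

noncomputable def aEnd : Module.End R⟦X⟧ (R⟦X⟧ ⊗[R] Q) := (X : R⟦X⟧) • 1

noncomputable def bEnd : Module.End R⟦X⟧ (R⟦X⟧ ⊗[R] Q) := (xR R Q).baseChange R⟦X⟧

noncomputable def delta : Module.End R⟦X⟧ (R⟦X⟧ ⊗[R] Q) := aEnd R Q - bEnd R Q

noncomputable def mu : R⟦X⟧ ⊗[R] Q →ₗ[R⟦X⟧] Q :=
  LinearMap.liftBaseChange R⟦X⟧ (LinearMap.id : Q →ₗ[R] Q)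

@[simp] lemma mu_tmul (s : R⟦X⟧) (q : Q) : mu R Q (s ⊗ₜ[R] q) = s • q := rfl

lemma delta_tmul (s : R⟦X⟧) (q : Q) :
    delta R Q (s ⊗ₜ[R] q) = (X * s) ⊗ₜ[R] q - s ⊗ₜ[R] ((X : R⟦X⟧) • q) := by
  simp [delta, aEnd, bEnd, TensorProduct.smul_tmul']

lemma commute_ab : Commute (aEnd R Q) (bEnd R Q) := by
  unfold Commute SemiconjBy aEnd
  rw [smul_mul_assoc, mul_smul_comm, one_mul, mul_one]

lemma aEnd_pow (k : ℕ) : (aEnd R Q) ^ k = ((X : R⟦X⟧) ^ k) • (1 : Module.End R⟦X⟧ (R⟦X⟧ ⊗[R] Q)) := by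
  unfold aEnd
  rw [smul_pow, one_pow]

variable (M : ℕ) (hQ : ∀ q : Q, ((X : R⟦X⟧) ^ M) • q = 0)

include hQ in
lemma bEnd_pow : (bEnd R Q) ^ M = 0 := by
  unfold bEnd
  rw [← LinearMap.baseChange_pow]
  have : (xR R Q) ^ M = 0 := by
    ext q
    rw [xR_pow_apply, hQ]
    rfl
  rw [this, LinearMap.baseChange_zero]

noncomputable def eps : Module.End R⟦X⟧ (R⟦X⟧ ⊗[R] Q) :=
  ∑ i ∈ Finset.range M, (aEnd R Q) ^ i * (bEnd R Q) ^ (M - 1 - i)

include hQ in
lemma delta_eps (t : R⟦X⟧ ⊗[R] Q) : delta R Q (eps R Q M t) = ((X : R⟦X⟧) ^ M) • t := by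
  have h := Commute.mul_geom_sum₂ (R := Module.End R⟦X⟧ (R⟦X⟧ ⊗[R] Q)) (commute_ab R Q) M
  have h2 : aEnd R Q ^ M - bEnd R Q ^ M =
      ((X : R⟦X⟧) ^ M) • (1 : Module.End R⟦X⟧ (R⟦X⟧ ⊗[R] Q)) := by
    rw [bEnd_pow R Q M hQ, aEnd_pow]; exact sub_zero (G := Module.End R⟦X⟧ (R⟦X⟧ ⊗[R] Q)) _
  have := LinearMap.congr_fun (h.trans h2) t
  simpa [delta, eps] using this

include hQ in
lemma eps_delta (t : R⟦X⟧ ⊗[R] Q) : eps R Q M (delta R Q t) = ((X : R⟦X⟧) ^ M) • t := by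
  have h := Commute.geom_sum₂_mul (R := Module.End R⟦X⟧ (R⟦X⟧ ⊗[R] Q)) (commute_ab R Q) M
  have h2 : aEnd R Q ^ M - bEnd R Q ^ M =
      ((X : R⟦X⟧) ^ M) • (1 : Module.End R⟦X⟧ (R⟦X⟧ ⊗[R] Q)) := by
    rw [bEnd_pow R Q M hQ, aEnd_pow]; exact sub_zero (G := Module.End R⟦X⟧ (R⟦X⟧ ⊗[R] Q)) _
  have := LinearMap.congr_fun (h.trans h2) t
  simpa [delta, eps] using this

lemma isRegular_X_pow : IsRegular ((X : R⟦X⟧) ^ M) := by
  rw [Commute.isRegular_iff (Commute.all _)]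
  intro f g h
  exact X_pow_mul_cancel h

include hQ in
lemma delta_injective [Module.Flat R⟦X⟧ (R⟦X⟧ ⊗[R] Q)] : Function.Injective (delta R Q) := by
  rw [← LinearMap.ker_eq_bot, LinearMap.ker_eq_bot']
  intro t ht
  have h1 : ((X : R⟦X⟧) ^ M) • t = 0 := by rw [← eps_delta R Q M hQ, ht, map_zero]
  have hreg : IsSMulRegular (R⟦X⟧ ⊗[R] Q) ((X : R⟦X⟧) ^ M) :=
    Module.Flat.isSMulRegular_of_isRegular (isRegular_X_pow R M)
  exact hreg (by simpa using h1)

lemma mu_delta (t : R⟦X⟧ ⊗[R] Q) : mu R Q (delta R Q t) = 0 := by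
  induction t using TensorProduct.induction_on with
  | zero => simp
  | tmul s q =>
    rw [delta_tmul, map_sub, mu_tmul, mu_tmul, mul_comm, mul_smul, sub_self]
  | add x y hx hy => rw [map_add, map_add, hx, hy, add_zero]

lemma mono_mem (j : ℕ) (q : Q) :
    ((X : R⟦X⟧) ^ j) ⊗ₜ[R] q - (1 : R⟦X⟧) ⊗ₜ[R] (((X : R⟦X⟧) ^ j) • q) ∈
      LinearMap.range (delta R Q) := by
  induction j with
  | zero => simp
  | succ j ih =>
    have h1 : ((X : R⟦X⟧) ^ (j + 1)) ⊗ₜ[R] q - (1 : R⟦X⟧) ⊗ₜ[R] (((X : R⟦X⟧) ^ (j + 1)) • q) =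
        (X : R⟦X⟧) • (((X : R⟦X⟧) ^ j) ⊗ₜ[R] q - (1 : R⟦X⟧) ⊗ₜ[R] (((X : R⟦X⟧) ^ j) • q)) +
          delta R Q ((1 : R⟦X⟧) ⊗ₜ[R] (((X : R⟦X⟧) ^ j) • q)) := by
      rw [delta_tmul, smul_sub, TensorProduct.smul_tmul', TensorProduct.smul_tmul', smul_eq_mul,
        smul_eq_mul, mul_one, ← pow_succ', pow_succ' X j, mul_smul]
      abel
    rw [h1]
    exact Submodule.add_mem _ (Submodule.smul_mem _ _ ih) (LinearMap.mem_range_self _ _)

include hQ in
lemma tmul_sub_mem (s : R⟦X⟧) (q : Q) :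
    s ⊗ₜ[R] q - (1 : R⟦X⟧) ⊗ₜ[R] (s • q) ∈ LinearMap.range (delta R Q) := by
  obtain ⟨s', hs'⟩ := exists_eq_poly_add M s
  have h1 : s ⊗ₜ[R] q - (1 : R⟦X⟧) ⊗ₜ[R] (s • q) =
      (∑ j : Fin M, coeff (j : ℕ) s •
        (((X : R⟦X⟧) ^ (j : ℕ)) ⊗ₜ[R] q - (1 : R⟦X⟧) ⊗ₜ[R] (((X : R⟦X⟧) ^ (j : ℕ)) • q))) +
        ((X : R⟦X⟧) ^ M) • (s' ⊗ₜ[R] q) := by
    have hz : ((X : R⟦X⟧) ^ M * s') • q = 0 := by rw [mul_comm, mul_smul, hQ, smul_zero]
    conv_lhs => rw [hs', add_smul, hz, add_zero, TensorProduct.add_tmul]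
    unfold poly
    rw [TensorProduct.sum_tmul, Finset.sum_smul, TensorProduct.tmul_sum]
    simp only [smul_sub, Finset.sum_sub_distrib, TensorProduct.smul_tmul', smul_eq_mul,
      smul_assoc, TensorProduct.tmul_smul]
    abel
  rw [h1]
  refine Submodule.add_mem _ (Submodule.sum_mem _ fun j _ => ?_) ?_
  · exact Submodule.smul_of_tower_mem _ _ (mono_mem R Q j q)
  · rw [← delta_eps R Q M hQ]
    exact LinearMap.mem_range_self _ _

include hQ in
lemma sub_mem_range (t : R⟦X⟧ ⊗[R] Q) :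
    t - (1 : R⟦X⟧) ⊗ₜ[R] (mu R Q t) ∈ LinearMap.range (delta R Q) := by
  induction t using TensorProduct.induction_on with
  | zero => simp
  | tmul s q => exact tmul_sub_mem R Q M hQ s q
  | add x y hx hy =>
    rw [map_add, TensorProduct.tmul_add]
    have := Submodule.add_mem _ hx hy
    convert this using 1
    abel

include hQ in
lemma exact_delta_mu : Function.Exact (delta R Q) (mu R Q) := by
  intro t
  constructor
  · intro h
    have := sub_mem_range R Q M hQ t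
    rw [h, TensorProduct.tmul_zero, sub_zero] at this
    exact this
  · rintro ⟨t', rfl⟩
    exact mu_delta R Q t'

lemma mu_surjective : Function.Surjective (mu R Q) := fun q => ⟨1 ⊗ₜ q, by simp⟩

end Resolution


section Reverse

open CategoryTheory TensorProduct

variable {n M}
variable (Λ : Submodule R⟦X⟧ (Fin n → R⟦X⟧))
  (hΛ : ∀ v : Fin n → R⟦X⟧, ((PowerSeries.X : R⟦X⟧) ^ M) • v ∈ Λ)

include hΛ in
lemma quot_killed (q : (Fin n → R⟦X⟧) ⧸ Λ) : ((X : R⟦X⟧) ^ M) • q = 0 := by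
  obtain ⟨v, rfl⟩ := Λ.mkQ_surjective q
  rw [← map_smul, Submodule.mkQ_apply, Submodule.Quotient.mk_eq_zero]
  exact hΛ v

include hΛ in
theorem finite_projective_of_projective_quotient
    [Module.Projective R ((Fin n → R⟦X⟧) ⧸ Λ)] :
    Module.Finite R⟦X⟧ Λ ∧ Module.Projective R⟦X⟧ Λ := by
  haveI : Module.Finite R ((Fin n → R⟦X⟧) ⧸ Λ) := finite_quotient Λ hΛ
  have hQ := quot_killed Λ hΛ
  have hinj := delta_injective R ((Fin n → R⟦X⟧) ⧸ Λ) M hQ
  have hex := exact_delta_mu R ((Fin n → R⟦X⟧) ⧸ Λ) M hQ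
  have hsurj := mu_surjective R ((Fin n → R⟦X⟧) ⧸ Λ)
  haveI : Module.FinitePresentation R⟦X⟧ (R⟦X⟧ ⊗[R] ((Fin n → R⟦X⟧) ⧸ Λ)) :=
    Module.finitePresentation_of_projective _ _
  haveI : Module.FinitePresentation R⟦X⟧ ((Fin n → R⟦X⟧) ⧸ Λ) := by
    refine Module.finitePresentation_of_surjective (mu R ((Fin n → R⟦X⟧) ⧸ Λ)) hsurj ?_
    rw [(LinearMap.exact_iff.mp hex), LinearMap.range_eq_map]
    exact Submodule.FG.map _ Module.Finite.fg_top
  constructor
  · have := Module.FinitePresentation.fg_ker Λ.mkQ Λ.mkQ_surjective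
    rw [Submodule.ker_mkQ] at this
    exact Module.Finite.iff_fg.mpr this
  · let S1 := ModuleCat.shortComplexOfCompEqZero (delta R ((Fin n → R⟦X⟧) ⧸ Λ))
      (mu R ((Fin n → R⟦X⟧) ⧸ Λ)) (LinearMap.ext fun t => mu_delta R _ t)
    have hS1 : S1.ShortExact := ModuleCat.shortComplex_shortExact S1 hex hinj hsurj
    have pdQ : HasProjectiveDimensionLT S1.X₃ 2 :=
      hS1.hasProjectiveDimensionLT_X₃ 1 inferInstance inferInstance
    let S2 := ModuleCat.shortComplexOfCompEqZero Λ.subtype Λ.mkQ (by ext; simp)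
    have hS2 : S2.ShortExact := ModuleCat.shortComplex_shortExact S2
      (LinearMap.exact_subtype_mkQ Λ) Λ.injective_subtype Λ.mkQ_surjective
    have pdΛ : HasProjectiveDimensionLT S2.X₁ 1 :=
      hS2.hasProjectiveDimensionLT_X₁ 1 inferInstance pdQ
    have : Projective (ModuleCat.of R⟦X⟧ Λ) := projective_iff_hasProjectiveDimensionLT_one.mpr pdΛ
    exact (IsProjective.iff_projective Λ).mpr inferInstance

end Reverse

end Groth.Agent.Lib.Helper22.PSLattice
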