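import Mathlib
import Groth.Agent.Lib.Helper22.PSAlg
import Groth.Agent.Lib.Helper22.PSDiv
import Groth.Agent.Lib.Helper22.PSLattice
import Groth.Agent.Lib.Helper12.IntegralDim

/-!
# Subalgebras of `k[[t]]` of finite colength: ring-theoretic structure
-/

set_option autoImplicit false
set_option linter.style.haveILetI false
set_option linter.unusedSectionVars false

universe u

open PowerSeries

namespace Groth.Agent.Lib.Helper22.PSCanon

variable {k : Type u} [Field k] (A : Subalgebra k (PowerSeries k))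

theorem isLocalRing (hA : Module.Finite ↥A (PowerSeries k)) : IsLocalRing ↥A := by
  haveI : Algebra.IsIntegral ↥A (PowerSeries k) := Algebra.IsIntegral.of_finite _ _
  exact (algebraMap ↥A (PowerSeries k)).domain_isLocalRing

/-- the `A`-submodule `t^N k[[t]]`. -/
noncomputable def T (N : ℕ) : Submodule ↥A (PowerSeries k) :=
  (Ideal.span {(X : PowerSeries k) ^ N}).restrictScalars ↥A

theorem mem_T (N : ℕ) (f : PowerSeries k) : f ∈ T A N ↔ (X : PowerSeries k) ^ N ∣ f := by
  unfold T
  rw [Submodule.restrictScalars_mem, Ideal.mem_span_singleton]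

theorem mem_T_iff_order (N : ℕ) (f : PowerSeries k) : f ∈ T A N ↔ (N : ℕ∞) ≤ f.order := by
  rw [mem_T]
  exact ⟨PSDiv.le_order_of_X_pow_dvd f N, PSDiv.X_pow_dvd_of_le_order f N⟩

theorem finite_quot_T (N : ℕ) : Module.Finite k (PowerSeries k ⧸ T A N) := by
  let g : (Fin N → k) →ₗ[k] (PowerSeries k ⧸ T A N) :=
    Fintype.linearCombination k (fun j : Fin N => (T A N).mkQ ((X : PowerSeries k) ^ (j : ℕ)))
  refine Module.Finite.of_surjective g ?_
  intro q
  obtain ⟨s, rfl⟩ := (T A N).mkQ_surjective q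
  obtain ⟨s', hs'⟩ := PSLattice.exists_eq_poly_add N s
  refine ⟨fun j => coeff (j : ℕ) s, ?_⟩
  rw [Fintype.linearCombination_apply]
  have h1 : (T A N).mkQ s = (T A N).mkQ (PSLattice.poly N (fun j => coeff (j : ℕ) s)) := by
    rw [Submodule.mkQ_apply, Submodule.mkQ_apply, Submodule.Quotient.eq, mem_T]
    exact ⟨s', by rw [← sub_eq_iff_eq_add'.mpr hs']⟩
  rw [h1, PSLattice.poly]
  let q : PowerSeries k →ₗ[k] (PowerSeries k ⧸ T A N) := (T A N).mkQ.restrictScalars k
  show _ = q _
  rw [map_sum]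
  refine Finset.sum_congr rfl (fun j _ => ?_)
  rw [map_smul]
  rfl

theorem T_fg (hA : Module.Finite ↥A (PowerSeries k)) (N : ℕ) : (T A N).FG := by
  let m : PowerSeries k →ₗ[↥A] PowerSeries k :=
    { toFun := fun f => (X : PowerSeries k) ^ N * f
      map_add' := fun a b => mul_add _ a b
      map_smul' := by
        intro a f
        simp only [RingHom.id_apply, Subalgebra.smul_def, smul_eq_mul]
        ring }
  have hrange : LinearMap.range m = T A N := by
    ext f
    rw [mem_T]
    constructor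
    · rintro ⟨g, rfl⟩
      exact Dvd.intro _ rfl
    · rintro ⟨g, rfl⟩
      exact ⟨g, rfl⟩
  rw [← hrange, LinearMap.range_eq_map]
  exact Submodule.FG.map m hA.fg_top

theorem isNoetherianRing (hA : Module.Finite ↥A (PowerSeries k)) (c : ℕ)
    (hT : ∀ h : PowerSeries k, (c : ℕ∞) ≤ h.order → h ∈ A) : IsNoetherianRing ↥A := by
  rw [isNoetherianRing_iff_ideal_fg]
  intro I
  by_cases hI : I = ⊥
  · rw [hI]; exact Submodule.fg_bot
  obtain ⟨a, haI, ha0⟩ := Submodule.exists_mem_ne_zero_of_ne_bot hI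
  have ha0' : (a : PowerSeries k) ≠ 0 := fun h => ha0 (Subtype.ext h)
  obtain ⟨v, hv⟩ : ∃ v : ℕ, (a : PowerSeries k).order = v :=
    ⟨_, (PowerSeries.coe_toNat_order ha0').symm⟩
  let ι : ↥A →ₗ[↥A] PowerSeries k := Algebra.linearMap ↥A (PowerSeries k)
  have hι : Function.Injective ι := Subtype.val_injective
  apply Submodule.fg_of_fg_map_injective ι hι
  set I' := Submodule.map ι I with hI'
  have hTI : T A (v + c) ≤ I' := by
    intro f hf
    rw [mem_T_iff_order] at hf
    obtain ⟨r, hr, hrc⟩ := PSDiv.exists_mul_eq_of_order f (a : PowerSeries k) v c hv hf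
    refine ⟨⟨r, hT r hrc⟩ * a, I.mul_mem_left _ haI, ?_⟩
    rw [hr]
    rfl
  haveI := finite_quot_T A (v + c)
  haveI : IsNoetherian k (PowerSeries k ⧸ T A (v + c)) := inferInstance
  haveI : IsNoetherian ↥A (PowerSeries k ⧸ T A (v + c)) := isNoetherian_of_tower k inferInstance
  refine Submodule.fg_of_fg_map_of_fg_inf_ker (T A (v + c)).mkQ ?_ ?_
  · exact IsNoetherian.noetherian _
  · rw [Submodule.ker_mkQ, inf_eq_right.mpr hTI]
    exact T_fg A hA _

theorem ringKrullDim_eq_one (hA : Module.Finite ↥A (PowerSeries k)) : ringKrullDim ↥A = 1 := by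
  haveI : Algebra.IsIntegral ↥A (PowerSeries k) := Algebra.IsIntegral.of_finite _ _
  have h1 : ringKrullDim (PowerSeries k) = 1 := IsDiscreteValuationRing.ringKrullDim_eq_one _
  refine le_antisymm ?_ ?_
  · rw [← h1]
    exact Groth.Agent.Lib.Helper12.ringKrullDim_le_of_isIntegral_of_injective
      (R := ↥A) (S := PowerSeries k) Subtype.val_injective
  · rw [← h1]
    exact Groth.Agent.Lib.Helper12.ringKrullDim_le_of_isIntegral (R := ↥A) (S := PowerSeries k)

end Groth.Agent.Lib.Helper22.PSCanon
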