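import Mathlib
import Groth.Agent.Lib.Helper22.PSCanon1

/-!
# Subalgebras of `k[[t]]` of finite colength: fraction field and normalisation
-/

set_option autoImplicit false
set_option linter.style.haveILetI false
set_option linter.unusedSectionVars false

universe u

open PowerSeries

namespace Groth.Agent.Lib.Helper22.PSCanon

variable {k : Type u} [Field k] (A : Subalgebra k (PowerSeries k))

theorem algebraMap_injective :
    Function.Injective (algebraMap ↥A (FractionRing (PowerSeries k))) := by
  rw [IsScalarTower.algebraMap_eq ↥A (PowerSeries k) (FractionRing (PowerSeries k))]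
  exact (IsFractionRing.injective (PowerSeries k) (FractionRing (PowerSeries k))).comp
    Subtype.val_injective

theorem isFractionRing (c : ℕ) (hT : ∀ h : PowerSeries k, (c : ℕ∞) ≤ h.order → h ∈ A) :
    IsFractionRing ↥A (FractionRing (PowerSeries k)) := by
  have hinj := algebraMap_injective A
  have hmem : ∀ s : PowerSeries k, (X : PowerSeries k) ^ c * s ∈ A := by
    intro s
    apply hT
    rw [PowerSeries.order_mul, PowerSeries.order_X_pow]
    exact le_self_add
  exact
    { map_units := by
        intro y
        apply IsUnit.mk0
        rw [Ne, map_eq_zero_iff _ hinj]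
        exact nonZeroDivisors.ne_zero y.2
      surj := by
        intro z
        obtain ⟨⟨x, s⟩, hxs⟩ := IsLocalization.surj (nonZeroDivisors (PowerSeries k)) z
        have hs0 : (⟨(X : PowerSeries k) ^ c * s, hmem s⟩ : ↥A) ≠ 0 := by
          intro h
          have h' := congrArg Subtype.val h
          simp only [ZeroMemClass.coe_zero, mul_eq_zero] at h'
          rcases h' with h' | h'
          · exact pow_ne_zero _ PowerSeries.X_ne_zero h'
          · exact nonZeroDivisors.ne_zero s.2 h'
        refine ⟨(⟨(X : PowerSeries k) ^ c * x, hmem x⟩,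
          ⟨⟨(X : PowerSeries k) ^ c * s, hmem s⟩, mem_nonZeroDivisors_of_ne_zero hs0⟩), ?_⟩
        simp only [IsScalarTower.algebraMap_apply ↥A (PowerSeries k)
          (FractionRing (PowerSeries k))]
        show z * algebraMap (PowerSeries k) _ ((X : PowerSeries k) ^ c * s) =
          algebraMap (PowerSeries k) _ ((X : PowerSeries k) ^ c * x)
        rw [map_mul, map_mul, ← hxs]
        ring
      exists_of_eq := by
        intro x y hxy
        exact ⟨1, by rw [hinj hxy]⟩ }

theorem integralClosure_eq (hA : Module.Finite ↥A (PowerSeries k)) :
    integralClosure ↥A (FractionRing (PowerSeries k)) =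
      (IsScalarTower.toAlgHom ↥A (PowerSeries k) (FractionRing (PowerSeries k))).range := by
  haveI : Algebra.IsIntegral ↥A (PowerSeries k) := Algebra.IsIntegral.of_finite _ _
  ext z
  constructor
  · intro hz
    have hz' : IsIntegral (PowerSeries k) z := IsIntegral.tower_top hz
    obtain ⟨y, hy⟩ := IsIntegrallyClosed.algebraMap_eq_of_integral hz'
    exact ⟨y, hy⟩
  · rintro ⟨y, rfl⟩
    exact (Algebra.IsIntegral.isIntegral (R := ↥A) y).map
      (IsScalarTower.toAlgHom ↥A (PowerSeries k) (FractionRing (PowerSeries k)))

theorem finite_integralClosure (hA : Module.Finite ↥A (PowerSeries k)) :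
    Module.Finite ↥A ↥(integralClosure ↥A (FractionRing (PowerSeries k))) := by
  rw [integralClosure_eq A hA]
  exact Module.Finite.of_surjective
    (IsScalarTower.toAlgHom ↥A (PowerSeries k)
      (FractionRing (PowerSeries k))).rangeRestrict.toLinearMap
    (AlgHom.rangeRestrict_surjective _)

theorem mem_integralClosure_iff (hA : Module.Finite ↥A (PowerSeries k))
    (z : FractionRing (PowerSeries k)) :
    z ∈ integralClosure ↥A (FractionRing (PowerSeries k)) ↔
      ∃ y : PowerSeries k, algebraMap (PowerSeries k) (FractionRing (PowerSeries k)) y = z := by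
  rw [integralClosure_eq A hA]
  rfl

end Groth.Agent.Lib.Helper22.PSCanon
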