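import Mathlib

/-!
# Finitely generated torsion-free modules over a domain embed in a finite free module
-/

set_option autoImplicit false
set_option linter.style.haveILetI false

namespace Groth.Agent.Lib.Helper22.TFCurv5

open Module

/-- A finitely generated torsion-free module over a domain embeds into a finite free module
of the same rank. -/
theorem exists_injective_to_free' (O : Type*) [CommRing O] [IsDomain O] (M : Type*)
    [AddCommGroup M] [Module O M] [Module.Finite O M] [NoZeroSMulDivisors O M] :
    ∃ f : M →ₗ[O] (Fin (finrank O M) → O), Function.Injective f := by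
  obtain ⟨v, hv⟩ := exists_linearIndependent_of_le_finrank (le_refl (finrank O M))
  set N : Submodule O M := Submodule.span O (Set.range v) with hNdef
  have hN : finrank O N = finrank O M :=
    (finrank_span_eq_card hv).trans (Fintype.card_fin _)
  have hq : finrank O (M ⧸ N) = 0 := by
    have := N.finrank_quotient_add_finrank
    omega
  rw [Module.finrank_eq_zero_iff] at hq
  have h1 : ∀ m : M, ∃ a : O, a ≠ 0 ∧ a • m ∈ N := by
    intro m
    obtain ⟨a, ha, h⟩ := hq (N.mkQ m)
    refine ⟨a, ha, ?_⟩
    rwa [← map_smul, Submodule.mkQ_apply, Submodule.Quotient.mk_eq_zero] at h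
  have h2 : ∃ d : O, d ≠ 0 ∧ ∀ m, d • m ∈ N := by
    obtain ⟨s, hs⟩ := Module.Finite.fg_top (R := O) (M := M)
    choose a ha ham using h1
    refine ⟨∏ x ∈ s, a x, Finset.prod_ne_zero_iff.2 (fun x _ => ha x), fun m => ?_⟩
    have hm : m ∈ Submodule.span O (s : Set M) := hs ▸ Submodule.mem_top
    induction hm using Submodule.span_induction with
    | mem x hx =>
      obtain ⟨c, hc⟩ := Finset.dvd_prod_of_mem a hx
      rw [hc, mul_comm, mul_smul]
      exact N.smul_mem _ (ham x)
    | zero => simp
    | add x y _ _ hx hy => rw [smul_add]; exact N.add_mem hx hy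
    | smul r x _ hx => rw [smul_comm]; exact N.smul_mem _ hx
  obtain ⟨d, hd, hdN⟩ := h2
  let b : Basis (Fin (finrank O M)) O N := Basis.span hv
  let g : M →ₗ[O] N := (LinearMap.lsmul O M d).codRestrict N hdN
  refine ⟨(b.equivFun : N ≃ₗ[O] (Fin (finrank O M) → O)).toLinearMap ∘ₗ g, ?_⟩
  rw [LinearMap.coe_comp]
  refine (LinearEquiv.injective _).comp ?_
  intro x y hxy
  have h3 : d • x = d • y := congrArg Subtype.val hxy
  exact smul_right_injective M hd h3

/-- A finitely generated torsion-free module over a domain embeds into a finite free module. -/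
theorem exists_injective_to_free (O : Type*) [CommRing O] [IsDomain O] (M : Type*)
    [AddCommGroup M] [Module O M] [Module.Finite O M] [NoZeroSMulDivisors O M] :
    ∃ (n : ℕ) (f : M →ₗ[O] (Fin n → O)), Function.Injective f :=
  ⟨_, exists_injective_to_free' O M⟩

end Groth.Agent.Lib.Helper22.TFCurv5
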