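import Mathlib
import Groth.Agent.Lib.Helper22.TFCurv2
import Groth.Agent.Lib.Helper22.TFCurv5
import Groth.Agent.Lib.Helper4.LC3

/-!
# `Ext¹(-, ω)` over a one-dimensional local domain
-/

set_option autoImplicit false
set_option linter.style.haveILetI false
set_option linter.unusedSectionVars false

namespace Groth.Agent.Lib.Helper22.TFCurv

open Function IsLocalRing CategoryTheory Abelian Groth.Agent.Lib.Helper4.LC Pointwise

universe u

variable {O : Type u} [CommRing O] [IsDomain O] [IsNoetherianRing O] [IsLocalRing O]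

/-- `Ext¹(M, ω) = 0` for finitely generated torsion-free `M`, when `ω` has injective dimension
at most one. -/
theorem ext_one_subsingleton_of_torsionFree (ω : Type u) [AddCommGroup ω] [Module O ω]
    (hωinj : HasInjectiveDimensionLT (ModuleCat.of O ω) 2)
    (M : Type u) [AddCommGroup M] [Module O M] [Module.Finite O M] [NoZeroSMulDivisors O M] :
    Subsingleton (Ext.{u} (ModuleCat.of O M) (ModuleCat.of O ω) 1) := by
  haveI := hωinj
  obtain ⟨n, f, hf⟩ := Groth.Agent.Lib.Helper22.TFCurv5.exists_injective_to_free O M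
  have hex : Function.Exact f (LinearMap.range f).mkQ := by
    rw [LinearMap.exact_iff, Submodule.ker_mkQ]
  have hT := sesOf_shortExact f (LinearMap.range f).mkQ hex hf (Submodule.mkQ_surjective _)
  refine subsingleton_of_forall_eq 0 (fun x => ?_)
  have h2 : Subsingleton (Ext.{u} (sesOf f (LinearMap.range f).mkQ hex).X₃
      (ModuleCat.of O ω) 2) :=
    HasInjectiveDimensionLT.subsingleton _ 2 2 le_rfl _
  haveI hproj : Projective (ModuleCat.of O (Fin n → O)) :=
    (IsProjective.iff_projective (R := O) (Fin n → O)).1 inferInstance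
  obtain ⟨w, hw⟩ := Ext.contravariant_sequence_exact₁ hT (ModuleCat.of O ω) x
    (show 1 + 1 = 2 from rfl) (@Subsingleton.elim _ h2 _ _)
  rw [← hw, Ext.eq_zero_of_projective w, Ext.comp_zero]

/-- a socle element of a nonzero finite module killed by a nonzero element. -/
theorem exists_socle (hdim : ringKrullDim O = 1) (W : Type*) [AddCommGroup W]
    [Module O W] [Module.Finite O W] [Nontrivial W]
    (htors : ∀ w : W, ∃ a : O, a ≠ 0 ∧ a • w = 0) :
    ∃ w : W, w ≠ 0 ∧ ∀ a ∈ maximalIdeal O, a • w = 0 := by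
  have hlen := length_ne_top_of_torsion hdim W htors
  rw [Module.length_ne_top_iff, isFiniteLength_iff_isNoetherian_isArtinian] at hlen
  haveI := hlen.1
  haveI := hlen.2
  obtain ⟨S, hS, -⟩ := (eq_bot_or_exists_atom_le (⊤ : Submodule O W)).resolve_left top_ne_bot
  have hlt : maximalIdeal O • S < S := by
    refine lt_of_le_of_ne Submodule.smul_le_right (fun h => hS.1 ?_)
    exact Submodule.eq_bot_of_le_smul_of_le_jacobson_bot (maximalIdeal O) S
      (IsNoetherian.noetherian S) h.ge (IsLocalRing.maximalIdeal_le_jacobson _)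
  have hbot : maximalIdeal O • S = ⊥ := hS.2 _ hlt
  obtain ⟨w, hwS, hw0⟩ := Submodule.exists_mem_ne_zero_of_ne_bot hS.1
  refine ⟨w, hw0, fun a ha => ?_⟩
  have : a • w ∈ maximalIdeal O • S := Submodule.smul_mem_smul ha hwS
  rwa [hbot, Submodule.mem_bot] at this

/-- `Ext¹(k, ω) ≠ 0`. -/
theorem not_subsingleton_ext_residue (hdim : ringKrullDim O = 1) (ω : Type u) [AddCommGroup ω]
    [Module O ω] [Module.Finite O ω] [NoZeroSMulDivisors O ω] [Nontrivial ω] :
    ¬ Subsingleton (Ext.{u} (ModuleCat.of O (O ⧸ maximalIdeal O)) (ModuleCat.of O ω) 1) := by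
  intro hsub
  obtain ⟨x, hxm, hx0⟩ := Submodule.exists_mem_ne_zero_of_ne_bot (maximalIdeal_ne_bot hdim)
  have hreg : IsSMulRegular ω x := fun a b hab => smul_right_injective ω hx0 hab
  have hT := IsSMulRegular.smulShortComplex_shortExact (M := ModuleCat.of O ω) hreg
  haveI : Nontrivial (QuotSMulTop x ω) := by
    rw [QuotSMulTop, Submodule.Quotient.nontrivial_iff]
    intro htop
    have h1 : (⊤ : Submodule O ω) ≤ maximalIdeal O • ⊤ := by
      intro y _
      have hy : y ∈ x • (⊤ : Submodule O ω) := by rw [htop]; exact Submodule.mem_top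
      obtain ⟨z, -, rfl⟩ := (Submodule.mem_smul_pointwise_iff_exists _ _ _).mp hy
      exact Submodule.smul_mem_smul hxm Submodule.mem_top
    have h2 := Submodule.eq_bot_of_le_smul_of_le_jacobson_bot (maximalIdeal O) ⊤
      Module.Finite.fg_top h1 (IsLocalRing.maximalIdeal_le_jacobson _)
    exact top_ne_bot h2
  have htors : ∀ w : QuotSMulTop x ω, ∃ a : O, a ≠ 0 ∧ a • w = 0 := by
    intro w
    refine ⟨x, hx0, ?_⟩
    obtain ⟨y, rfl⟩ := Submodule.Quotient.mk_surjective _ w
    rw [← Submodule.Quotient.mk_smul, Submodule.Quotient.mk_eq_zero]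
    exact Submodule.smul_mem_pointwise_smul _ _ _ Submodule.mem_top
  obtain ⟨w, hw0, hw⟩ := exists_socle hdim (QuotSMulTop x ω) htors
  let f : (O ⧸ maximalIdeal O) →ₗ[O] QuotSMulTop x ω :=
    Submodule.liftQ (maximalIdeal O) (LinearMap.toSpanSingleton O _ w) (by
      intro a ha
      rw [LinearMap.mem_ker, LinearMap.toSpanSingleton_apply]
      exact hw a ha)
  have hf1 : f (Submodule.Quotient.mk 1) = w := by
    rw [show f = Submodule.liftQ _ _ _ from rfl, Submodule.liftQ_apply,
      LinearMap.toSpanSingleton_apply, one_smul]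
  obtain ⟨x₂, hx₂⟩ := Ext.covariant_sequence_exact₃ (ModuleCat.of O (O ⧸ maximalIdeal O)) hT
    (Ext.mk₀ (ModuleCat.ofHom f)) (show 0 + 1 = 1 from rfl) (@Subsingleton.elim _ hsub _ _)
  obtain ⟨h, rfl⟩ := (Ext.mk₀_bijective _ _).2 x₂
  have hh : h = 0 := by
    apply ModuleCat.hom_ext
    apply LinearMap.ext
    intro q
    obtain ⟨a, rfl⟩ := Submodule.Quotient.mk_surjective _ q
    have h1 : x • h.hom (Submodule.Quotient.mk a) = 0 := by
      rw [← map_smul, ← Submodule.Quotient.mk_smul]
      have : (Submodule.Quotient.mk (x • a) : O ⧸ maximalIdeal O) = 0 := by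
        rw [Submodule.Quotient.mk_eq_zero, smul_eq_mul]
        exact Ideal.mul_mem_right _ _ hxm
      rw [this, map_zero]
    have h0 : (h.hom (Submodule.Quotient.mk a) : ω) = 0 :=
      smul_right_injective ω hx0 (h1.trans (smul_zero x).symm)
    simpa using h0
  rw [hh, Ext.mk₀_zero, Ext.zero_comp] at hx₂
  have h3 : ModuleCat.ofHom f = 0 := (Ext.mk₀_bijective _ _).1 (by rw [Ext.mk₀_zero]; exact hx₂.symm)
  have h4 : f = 0 := by
    have := congrArg ModuleCat.Hom.hom h3
    simpa using this
  apply hw0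
  rw [← hf1, h4, LinearMap.zero_apply]

end Groth.Agent.Lib.Helper22.TFCurv
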