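import Mathlib
import Groth.Agent.Lib.Helper22.TFCurv11

/-!
# Torsion modules and `Ext¹(-, ω)`; the extension criterion
-/

set_option autoImplicit false
set_option linter.style.haveILetI false
set_option linter.unusedSectionVars false

namespace Groth.Agent.Lib.Helper22.TFCurv

open Function IsLocalRing CategoryTheory Abelian Groth.Agent.Lib.Helper4.LC

universe u

variable {O : Type u} [CommRing O] [IsDomain O] [IsNoetherianRing O] [IsLocalRing O]

/-- a finitely generated torsion module `T` with `Ext¹(T, ω) = 0` vanishes. -/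
theorem subsingleton_of_ext_one (hdim : ringKrullDim O = 1) (ω : Type u) [AddCommGroup ω]
    [Module O ω] [Module.Finite O ω] [NoZeroSMulDivisors O ω] [Nontrivial ω]
    (T : Type u) [AddCommGroup T] [Module O T] [Module.Finite O T]
    (htors : ∀ t : T, ∃ a : O, a ≠ 0 ∧ a • t = 0)
    (h : Subsingleton (Ext.{u} (ModuleCat.of O T) (ModuleCat.of O ω) 1)) : Subsingleton T := by
  by_contra hT
  rw [not_subsingleton_iff_nontrivial] at hT
  haveI : IsNoetherian O T := isNoetherian_of_isNoetherianRing_of_finite O T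
  obtain ⟨T', hT', -⟩ := (eq_top_or_exists_le_coatom (⊥ : Submodule O T)).resolve_left bot_ne_top
  haveI : IsSimpleModule O (T ⧸ T') := isSimpleModule_iff_isCoatom.mpr hT'
  obtain ⟨I, hI, ⟨e⟩⟩ := isSimpleModule_iff_quot_maximal.mp (inferInstance :
    IsSimpleModule O (T ⧸ T'))
  have hIm : I = maximalIdeal O := IsLocalRing.eq_maximalIdeal hI
  subst hIm
  let p : T →ₗ[O] (O ⧸ maximalIdeal O) := e.toLinearMap ∘ₗ T'.mkQ
  have hp : Surjective p := by
    rw [LinearMap.coe_comp]
    exact e.surjective.comp (Submodule.mkQ_surjective _)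
  have hS := sesOf_shortExact (LinearMap.ker p).subtype p (LinearMap.exact_subtype_ker_map p)
    (Submodule.injective_subtype _) hp
  apply not_subsingleton_ext_residue hdim ω
  refine subsingleton_of_forall_eq 0 (fun x => ?_)
  obtain ⟨x₁, hx₁⟩ := Ext.contravariant_sequence_exact₃ hS (ModuleCat.of O ω) x
    (@Subsingleton.elim _ h _ _) (show 1 + 0 = 1 from rfl)
  obtain ⟨g, rfl⟩ := (Ext.mk₀_bijective _ _).2 x₁
  have hg : g = 0 := by
    apply ModuleCat.hom_ext
    apply LinearMap.ext
    intro t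
    obtain ⟨a, ha0, hat⟩ := htors (t : T)
    have h1 : a • (g.hom t : ω) = 0 := by
      rw [← map_smul]
      have : a • t = 0 := Subtype.ext hat
      rw [this, map_zero]
    have h0 : (g.hom t : ω) = 0 := smul_right_injective ω ha0 (h1.trans (smul_zero a).symm)
    simpa using h0
  rw [← hx₁, hg, Ext.mk₀_zero, Ext.comp_zero]

/-- the extension criterion: if every map `L → ω` extends to `L''`, `Ext¹(L'', ω) = 0` and
`L''/L` is torsion, then `L = L''`. -/
theorem surjective_of_extension (hdim : ringKrullDim O = 1) (ω : Type u) [AddCommGroup ω]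
    [Module O ω] [Module.Finite O ω] [NoZeroSMulDivisors O ω] [Nontrivial ω]
    {L L'' : Type u} [AddCommGroup L] [Module O L] [AddCommGroup L''] [Module O L'']
    [Module.Finite O L'']
    (hExt : Subsingleton (Ext.{u} (ModuleCat.of O L'') (ModuleCat.of O ω) 1))
    (j : L →ₗ[O] L'') (hj : Injective j)
    (hext : ∀ φ : L →ₗ[O] ω, ∃ ψ : L'' →ₗ[O] ω, ψ ∘ₗ j = φ)
    (htors : ∀ y : L'', ∃ a : O, a ≠ 0 ∧ a • y ∈ LinearMap.range j) : Surjective j := by
  have hS := sesOf_shortExact j (LinearMap.range j).mkQ (LinearMap.exact_map_mkQ_range j) hj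
    (Submodule.mkQ_surjective _)
  have hsub : Subsingleton (Ext.{u} (ModuleCat.of O (L'' ⧸ LinearMap.range j))
      (ModuleCat.of O ω) 1) := by
    refine subsingleton_of_forall_eq 0 (fun x => ?_)
    obtain ⟨x₁, hx₁⟩ := Ext.contravariant_sequence_exact₃ hS (ModuleCat.of O ω) x
      (@Subsingleton.elim _ hExt _ _) (show 1 + 0 = 1 from rfl)
    obtain ⟨g, rfl⟩ := (Ext.mk₀_bijective _ _).2 x₁
    obtain ⟨ψ, hψ⟩ := hext g.hom
    have hg : g = ModuleCat.ofHom j ≫ ModuleCat.ofHom ψ := by
      apply ModuleCat.hom_ext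
      rw [← hψ]
      rfl
    rw [← hx₁, hg, ← Ext.mk₀_comp_mk₀]
    exact hS.extClass_comp_assoc _
  have hT : Subsingleton (L'' ⧸ LinearMap.range j) := by
    refine subsingleton_of_ext_one hdim ω _ ?_ hsub
    intro t
    obtain ⟨y, rfl⟩ := Submodule.Quotient.mk_surjective _ t
    obtain ⟨a, ha0, hay⟩ := htors y
    refine ⟨a, ha0, ?_⟩
    rw [← Submodule.Quotient.mk_smul, Submodule.Quotient.mk_eq_zero]
    exact hay
  rw [← LinearMap.range_eq_top]
  exact Submodule.Quotient.subsingleton_iff.mp hT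

end Groth.Agent.Lib.Helper22.TFCurv
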