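import Mathlib
import Groth.Agent.Lib.Helper22.TFCurv10
import Groth.Agent.Lib.Helper22.TFCurv12

/-!
# Reflexivity of rank one lattices with respect to a canonical ideal
-/

set_option autoImplicit false
set_option linter.style.haveILetI false
set_option linter.unusedSectionVars false

namespace Groth.Agent.Lib.Helper22.TFCurv

open Function IsLocalRing CategoryTheory Abelian

universe u

variable {O : Type u} [CommRing O] [IsDomain O] [IsNoetherianRing O] [IsLocalRing O]
  (K : Type u) [Field K] [Algebra O K] [IsFractionRing O K]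

theorem noZeroSMulDivisors_submodule (L : Submodule O K) : NoZeroSMulDivisors O ↥L := by
  rw [noZeroSMulDivisors_iff_right_eq_zero_of_smul]
  intro r hr m hm
  apply Subtype.ext
  have h1 : algebraMap O K r * (m : K) = 0 := by
    have := congrArg Subtype.val hm
    simpa [Algebra.smul_def] using this
  rcases mul_eq_zero.mp h1 with h | h
  · exact absurd ((map_eq_zero_iff _ (IsFractionRing.injective O K)).mp h) hr
  · exact h

variable {K}

/-- a linear map from a rank one lattice into `K` is a multiplication. -/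
theorem hom_eq_mul (L : Submodule O K) (c : K) (hc0 : c ≠ 0) (hcL : c ∈ L)
    (N : Submodule O K) (φ : ↥L →ₗ[O] ↥N) (x : ↥L) :
    (φ x : K) = (φ ⟨c, hcL⟩ : K) / c * (x : K) := by
  obtain ⟨p, q, hq, hpq⟩ := IsFractionRing.div_surjective O ((x : K) / c)
  have hq0 : algebraMap O K q ≠ 0 :=
    (map_ne_zero_iff _ (IsFractionRing.injective O K)).mpr (nonZeroDivisors.ne_zero hq)
  have h1 : q • x = p • (⟨c, hcL⟩ : ↥L) := by
    apply Subtype.ext
    show q • (x : K) = p • c
    rw [Algebra.smul_def, Algebra.smul_def]
    field_simp at hpq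
    linear_combination -hpq
  have h2 : q • φ x = p • φ ⟨c, hcL⟩ := by rw [← map_smul, h1, map_smul]
  have h3 : algebraMap O K q * (φ x : K) = algebraMap O K p * (φ ⟨c, hcL⟩ : K) := by
    have := congrArg Subtype.val h2
    simpa [Algebra.smul_def] using this
  field_simp at hpq
  have key : algebraMap O K q * ((φ x : K) * c) =
      algebraMap O K q * ((φ ⟨c, hcL⟩ : K) * (x : K)) := by
    linear_combination c * h3 + (φ ⟨c, hcL⟩ : K) * hpq
  have h4 := mul_left_cancel₀ hq0 key
  rw [div_mul_eq_mul_div, eq_div_iff hc0]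
  exact h4

variable (K)

/-- reflexivity: `ω : (ω : L) = L` for `O c ⊆ L ⊆ Õ`. -/
theorem div_div_eq (hdim : ringKrullDim O = 1)
    (hfin : Module.Finite O ↥(integralClosure O K)) (ω : Submodule O K)
    (hω1 : (1 : Submodule O K) ≤ ω)
    (hω2 : ω ≤ Subalgebra.toSubmodule (integralClosure O K))
    (hωinj : HasInjectiveDimensionLT (ModuleCat.of O ↥ω) 2)
    (c : O) (hc0 : c ≠ 0)
    (hcC : c ∈ (1 : Submodule O K).colon (Subalgebra.toSubmodule (integralClosure O K)))
    (L : Submodule O K) (hcL : algebraMap O K c ∈ L)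
    (hL : L ≤ Subalgebra.toSubmodule (integralClosure O K)) : ω / (ω / L) = L := by
  have hcK : algebraMap O K c ≠ 0 :=
    (map_ne_zero_iff _ (IsFractionRing.injective O K)).mpr hc0
  haveI := hfin
  haveI hNoeth : IsNoetherian O ↥(Subalgebra.toSubmodule (integralClosure O K)) :=
    isNoetherian_of_isNoetherianRing_of_finite O ↥(integralClosure O K)
  have hle : L ≤ ω / (ω / L) := by
    rw [Submodule.le_div_iff]
    intro x hx z hz
    rw [mul_comm]
    exact Submodule.mem_div_iff_forall_mul_mem.mp hz x hx
  refine le_antisymm ?_ hle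
  -- `c ∈ ω / L`
  have hcdiv : algebraMap O K c ∈ ω / L := by
    rw [Submodule.mem_div_iff_forall_mul_mem]
    intro x hx
    rw [← Algebra.smul_def]
    exact hω1 (Submodule.mem_colon.mp hcC x (hL hx))
  set L'' : Submodule O K := ω / (ω / L) with hL''
  -- finiteness
  have hmul : ∀ y ∈ L'', (LinearMap.lsmul O K c) y ∈
      Subalgebra.toSubmodule (integralClosure O K) := by
    intro y hy
    rw [LinearMap.lsmul_apply, Algebra.smul_def, mul_comm]
    exact hω2 (Submodule.mem_div_iff_forall_mul_mem.mp hy _ hcdiv)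
  let g : ↥L'' →ₗ[O] ↥(Subalgebra.toSubmodule (integralClosure O K)) :=
    (LinearMap.lsmul O K c).restrict hmul
  have hg : Injective g := by
    intro a b hab
    apply Subtype.ext
    have h1 : c • (a : K) = c • (b : K) := congrArg Subtype.val hab
    rw [Algebra.smul_def, Algebra.smul_def] at h1
    exact mul_left_cancel₀ hcK h1
  haveI : Module.Finite O ↥L'' := Module.Finite.of_injective g hg
  haveI : Module.Finite O ↥ω :=
    Module.Finite.of_injective (Submodule.inclusion hω2) (Submodule.inclusion_injective hω2)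
  haveI := noZeroSMulDivisors_submodule K ω
  haveI := noZeroSMulDivisors_submodule K L''
  haveI : Nontrivial ↥ω :=
    ⟨⟨⟨1, hω1 (Submodule.one_le.mp le_rfl)⟩, 0, fun h => one_ne_zero (congrArg Subtype.val h)⟩⟩
  have hExt := ext_one_subsingleton_of_torsionFree ↥ω hωinj ↥L''
  have hsurj : Surjective (Submodule.inclusion hle) := by
    refine surjective_of_extension hdim ↥ω hExt (Submodule.inclusion hle)
      (Submodule.inclusion_injective hle) ?_ ?_
    · intro φ
      set u : K := (φ ⟨algebraMap O K c, hcL⟩ : K) / algebraMap O K c with hu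
      have hφ : ∀ x : ↥L, (φ x : K) = u * (x : K) := fun x => hom_eq_mul L _ hcK hcL ω φ x
      have hudiv : u ∈ ω / L := by
        rw [Submodule.mem_div_iff_forall_mul_mem]
        intro x hx
        rw [← hφ ⟨x, hx⟩]
        exact (φ ⟨x, hx⟩).2
      have hψ : ∀ y ∈ L'', (LinearMap.mulLeft O u) y ∈ ω := by
        intro y hy
        rw [LinearMap.mulLeft_apply, mul_comm]
        exact Submodule.mem_div_iff_forall_mul_mem.mp hy u hudiv
      refine ⟨(LinearMap.mulLeft O u).restrict hψ, ?_⟩
      ext x
      show u * (x : K) = (φ x : K)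
      exact (hφ x).symm
    · intro y
      obtain ⟨p, q, hq, hpq⟩ := IsFractionRing.div_surjective O ((y : K) / algebraMap O K c)
      have hq0 : algebraMap O K q ≠ 0 :=
        (map_ne_zero_iff _ (IsFractionRing.injective O K)).mpr (nonZeroDivisors.ne_zero hq)
      refine ⟨q, nonZeroDivisors.ne_zero hq, ⟨⟨p • algebraMap O K c, L.smul_mem p hcL⟩, ?_⟩⟩
      apply Subtype.ext
      show p • algebraMap O K c = q • (y : K)
      rw [Algebra.smul_def, Algebra.smul_def]
      field_simp at hpq
      linear_combination hpq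
  intro y hy
  obtain ⟨x, hx⟩ := hsurj ⟨y, hy⟩
  have : (x : K) = y := congrArg Subtype.val hx
  rw [← this]
  exact x.2

end Groth.Agent.Lib.Helper22.TFCurv
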