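import Mathlib
import Groth.Agent.Lib.Helper22.TFCurv13

/-!
# Lengths of quotients of nested submodules and duality
-/

set_option autoImplicit false
set_option linter.style.haveILetI false
set_option linter.unusedSectionVars false

namespace Groth.Agent.Lib.Helper22.TFCurv

open Function IsLocalRing

universe u

section general

variable {R : Type*} [Ring R] {M : Type*} [AddCommGroup M] [Module R M]

/-- the interval `[P, P']` as the submodules of `P'` containing `P`. -/
def iciIccIso (P P' : Submodule R M) (h : P ≤ P') :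
    Set.Ici (P.comap P'.subtype) ≃o Set.Icc P P' where
  toFun N := ⟨N.1.map P'.subtype, by
    constructor
    · have h1 : (P.comap P'.subtype).map P'.subtype ≤ N.1.map P'.subtype :=
        Submodule.map_mono N.2
      rwa [Submodule.map_comap_subtype, inf_eq_right.mpr h] at h1
    · exact Submodule.map_subtype_le _ _⟩
  invFun Q := ⟨Q.1.comap P'.subtype, Submodule.comap_mono Q.2.1⟩
  left_inv N := by
    apply Subtype.ext
    exact Submodule.comap_map_eq_of_injective (Submodule.injective_subtype _) _
  right_inv Q := by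
    apply Subtype.ext
    show (Q.1.comap P'.subtype).map P'.subtype = Q.1
    rw [Submodule.map_comap_subtype, inf_eq_right.mpr Q.2.2]
  map_rel_iff' := by
    intro N₁ N₂
    show N₁.1.map P'.subtype ≤ N₂.1.map P'.subtype ↔ N₁.1 ≤ N₂.1
    exact Submodule.map_le_map_iff_of_injective (Submodule.injective_subtype _) _ _

theorem length_quot_eq_krullDim_Icc (P P' : Submodule R M) (h : P ≤ P') :
    (Module.length R (↥P' ⧸ P.comap P'.subtype) : WithBot ℕ∞) =
      Order.krullDim (Set.Icc P P') := by
  rw [Module.length_quotient, Order.coheight_eq_krullDim_Ici,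
    Order.krullDim_eq_of_orderIso (iciIccIso P P' h)]

/-- additivity of lengths along `P ≤ Q ≤ R`. -/
theorem length_quot_add (P Q T : Submodule R M) (hPQ : P ≤ Q) (hQT : Q ≤ T) :
    Module.length R (↥T ⧸ P.comap T.subtype) =
      Module.length R (↥Q ⧸ P.comap Q.subtype) + Module.length R (↥T ⧸ Q.comap T.subtype) := by
  let f : (↥Q ⧸ P.comap Q.subtype) →ₗ[R] (↥T ⧸ P.comap T.subtype) :=
    Submodule.mapQ _ _ (Submodule.inclusion hQT) (fun x hx => hx)
  let g : (↥T ⧸ P.comap T.subtype) →ₗ[R] (↥T ⧸ Q.comap T.subtype) :=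
    Submodule.factor (Submodule.comap_mono hPQ)
  have hf : Injective f := by
    rw [injective_iff_map_eq_zero]
    intro x hx
    obtain ⟨y, rfl⟩ := Submodule.Quotient.mk_surjective _ x
    rw [Submodule.Quotient.mk_eq_zero]
    have : (Submodule.Quotient.mk (Submodule.inclusion hQT y) : ↥T ⧸ P.comap T.subtype) = 0 := hx
    rw [Submodule.Quotient.mk_eq_zero] at this
    exact this
  have hg : Surjective g := Submodule.factor_surjective _
  have H : Function.Exact f g := by
    intro z
    obtain ⟨r, rfl⟩ := Submodule.Quotient.mk_surjective _ z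
    constructor
    · intro hz
      have hz' : (Submodule.Quotient.mk r : ↥T ⧸ Q.comap T.subtype) = 0 := hz
      rw [Submodule.Quotient.mk_eq_zero] at hz'
      exact ⟨Submodule.Quotient.mk ⟨r, hz'⟩, rfl⟩
    · rintro ⟨x, hx⟩
      obtain ⟨q, rfl⟩ := Submodule.Quotient.mk_surjective _ x
      have h1 : (Submodule.Quotient.mk (Submodule.inclusion hQT q) : ↥T ⧸ P.comap T.subtype) =
          Submodule.Quotient.mk r := hx
      rw [Submodule.Quotient.eq] at h1
      show (Submodule.Quotient.mk r : ↥T ⧸ Q.comap T.subtype) = 0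
      rw [Submodule.Quotient.mk_eq_zero]
      show (r : M) ∈ Q
      have h2 : ((q : M) - (r : M)) ∈ P := h1
      have h3 : (r : M) = (q : M) - ((q : M) - (r : M)) := by abel
      rw [h3]
      exact Q.sub_mem q.2 (hPQ h2)
  exact Module.length_eq_add_of_exact f g hf hg H

end general

variable {O : Type u} [CommRing O] [IsDomain O] [IsNoetherianRing O] [IsLocalRing O]
  (K : Type u) [Field K] [Algebra O K] [IsFractionRing O K]

theorem div_antitone (ω : Submodule O K) {L L' : Submodule O K} (h : L ≤ L') :
    ω / L' ≤ ω / L := by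
  intro x hx
  rw [Submodule.mem_div_iff_forall_mul_mem] at hx ⊢
  exact fun y hy => hx y (h hy)

theorem div_one' (ω : Submodule O K) : ω / (1 : Submodule O K) = ω := by
  ext x
  rw [Submodule.mem_div_iff_forall_mul_mem]
  constructor
  · intro h
    simpa using h 1 (Submodule.one_le.mp le_rfl)
  · intro hx y hy
    obtain ⟨r, rfl⟩ := Submodule.mem_one.mp hy
    rw [mul_comm, ← Algebra.smul_def]
    exact ω.smul_mem r hx

/-- the duality `L ↦ ω : L` preserves lengths: `ℓ(Õ/O) = ℓ(ω / (ω : Õ))`. -/
theorem length_duality (hdim : ringKrullDim O = 1)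
    (hfin : Module.Finite O ↥(integralClosure O K)) (ω : Submodule O K)
    (hω1 : (1 : Submodule O K) ≤ ω)
    (hω2 : ω ≤ Subalgebra.toSubmodule (integralClosure O K))
    (hωinj : CategoryTheory.HasInjectiveDimensionLT (ModuleCat.of O ↥ω) 2) :
    Module.length O (↥(Subalgebra.toSubmodule (integralClosure O K)) ⧸
      (1 : Submodule O K).comap (Subalgebra.toSubmodule (integralClosure O K)).subtype) =
    Module.length O (↥ω ⧸
      (ω / Subalgebra.toSubmodule (integralClosure O K)).comap ω.subtype) := by
  obtain ⟨c, hc0, hcC⟩ := exists_mem_conductor K hfin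
  set B : Submodule O K := Subalgebra.toSubmodule (integralClosure O K) with hB
  have h1B : (1 : Submodule O K) ≤ B := hω1.trans hω2
  have hc1 : algebraMap O K c ∈ (1 : Submodule O K) := Submodule.mem_one.mpr ⟨c, rfl⟩
  have hrefl : ∀ L : Submodule O K, algebraMap O K c ∈ L → L ≤ B → ω / (ω / L) = L :=
    fun L h1 h2 => div_div_eq K hdim hfin ω hω1 hω2 hωinj c hc0 hcC L h1 h2
  have hcdiv : algebraMap O K c ∈ ω / B := by
    rw [Submodule.mem_div_iff_forall_mul_mem]
    intro x hx
    rw [← Algebra.smul_def]
    exact hω1 (Submodule.mem_colon.mp hcC x hx)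
  have hωω : ω / ω = 1 := by
    have := hrefl 1 hc1 h1B
    rwa [div_one'] at this
  have hωB : ω / (ω / B) = B := hrefl B (h1B hc1) le_rfl
  have hdivle : ω / B ≤ ω := by
    have := div_antitone K ω h1B
    rwa [div_one'] at this
  let e : Set.Icc (1 : Submodule O K) B ≃o (Set.Icc (ω / B) ω)ᵒᵈ :=
    { toFun := fun L => OrderDual.toDual ⟨ω / L.1, div_antitone K ω L.2.2, by
        have := div_antitone K ω L.2.1
        rwa [div_one'] at this⟩
      invFun := fun L' => ⟨ω / (OrderDual.ofDual L').1, by
        have := div_antitone K ω (OrderDual.ofDual L').2.2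
        rwa [hωω] at this, by
        have := div_antitone K ω (OrderDual.ofDual L').2.1
        rwa [hωB] at this⟩
      left_inv := fun L => by
        apply Subtype.ext
        exact hrefl L.1 (L.2.1 hc1) L.2.2
      right_inv := fun L' => by
        apply Subtype.ext
        exact hrefl (OrderDual.ofDual L').1 ((OrderDual.ofDual L').2.1 hcdiv)
          ((OrderDual.ofDual L').2.2.trans hω2)
      map_rel_iff' := by
        intro L₁ L₂
        show ω / L₂.1 ≤ ω / L₁.1 ↔ L₁.1 ≤ L₂.1
        constructor
        · intro h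
          have := div_antitone K ω h
          rwa [hrefl L₁.1 (L₁.2.1 hc1) L₁.2.2, hrefl L₂.1 (L₂.2.1 hc1) L₂.2.2] at this
        · exact fun h => div_antitone K ω h }
  apply WithBot.coe_injective
  rw [length_quot_eq_krullDim_Icc _ _ h1B, length_quot_eq_krullDim_Icc _ _ hdivle,
    Order.krullDim_eq_of_orderIso e, Order.krullDim_orderDual]

end Groth.Agent.Lib.Helper22.TFCurv
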