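import Mathlib
import Groth.Agent.Lib.Helper22.TFCurv14

/-!
# `ℓ(ω/O) + ℓ(Õ/C) = 2 ℓ(Õ/O)`
-/

set_option autoImplicit false
set_option linter.style.haveILetI false
set_option linter.unusedSectionVars false

namespace Groth.Agent.Lib.Helper22.TFCurv

open Function IsLocalRing

universe u

variable {O : Type u} [CommRing O] [IsDomain O] [IsNoetherianRing O] [IsLocalRing O]
  (K : Type u) [Field K] [Algebra O K] [IsFractionRing O K]

theorem conductor_smul_top_eq (ω : Submodule O K) (hω1 : (1 : Submodule O K) ≤ ω)
    (hω2 : ω ≤ Subalgebra.toSubmodule (integralClosure O K)) (hωω : ω / ω = 1) :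
    ((1 : Submodule O K).colon (Subalgebra.toSubmodule (integralClosure O K))) •
      (⊤ : Submodule O ↥(integralClosure O K)) =
    (ω / Subalgebra.toSubmodule (integralClosure O K)).comap
      (Subalgebra.toSubmodule (integralClosure O K)).subtype := by
  apply le_antisymm
  · rw [Submodule.smul_le]
    intro r hr y _
    rw [Submodule.mem_comap, Submodule.mem_div_iff_forall_mul_mem]
    intro z hz
    have hyz : ((y * ⟨z, hz⟩ : ↥(integralClosure O K)) : K) ∈
        Subalgebra.toSubmodule (integralClosure O K) := (y * ⟨z, hz⟩).2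
    have := Submodule.mem_colon.mp hr _ hyz
    have h2 : (Subalgebra.toSubmodule (integralClosure O K)).subtype (r • y) * z =
        r • ((y * ⟨z, hz⟩ : ↥(integralClosure O K)) : K) := by
      show (r • (y : K)) * z = r • ((y : K) * z)
      rw [smul_mul_assoc]
    rw [h2]
    exact hω1 this
  · intro x hx
    rw [Submodule.mem_comap, Submodule.mem_div_iff_forall_mul_mem] at hx
    -- `x Õ ⊆ ω`, hence `x Õ ω ⊆ ω`, so `x Õ ⊆ ω : ω = O`
    have hx1 : ∀ z ∈ Subalgebra.toSubmodule (integralClosure O K),
        (x : K) * z ∈ (1 : Submodule O K) := by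
      intro z hz
      rw [← hωω, Submodule.mem_div_iff_forall_mul_mem]
      intro w hw
      have hzw : z * w ∈ Subalgebra.toSubmodule (integralClosure O K) :=
        (integralClosure O K).mul_mem hz (hω2 hw)
      have := hx (z * w) hzw
      rwa [← mul_assoc] at this
    obtain ⟨r, hr⟩ := Submodule.mem_one.mp (by simpa using hx1 1 (integralClosure O K).one_mem)
    have hrC : r ∈ (1 : Submodule O K).colon (Subalgebra.toSubmodule (integralClosure O K)) := by
      rw [Submodule.mem_colon]
      intro z hz
      rw [Algebra.smul_def, hr]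
      exact hx1 z hz
    have hxr : x = r • (1 : ↥(integralClosure O K)) := by
      apply Subtype.ext
      show (x : K) = r • (1 : K)
      rw [Algebra.smul_def, mul_one, hr]
    rw [hxr]
    exact Submodule.smul_mem_smul hrC Submodule.mem_top

theorem canonical_length_formula (hdim : ringKrullDim O = 1)
    (hfin : Module.Finite O ↥(integralClosure O K)) (ω : Submodule O K)
    (hω1 : (1 : Submodule O K) ≤ ω)
    (hω2 : ω ≤ Subalgebra.toSubmodule (integralClosure O K))
    (hωinj : CategoryTheory.HasInjectiveDimensionLT (ModuleCat.of O ↥ω) 2) :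
    Module.length O (↥ω ⧸ Submodule.comap ω.subtype (1 : Submodule O K)) +
      Module.length O (↥(integralClosure O K) ⧸
        ((1 : Submodule O K).colon (Subalgebra.toSubmodule (integralClosure O K))) •
          (⊤ : Submodule O ↥(integralClosure O K))) =
    2 * Module.length O (↥(integralClosure O K) ⧸
      Submodule.comap (Subalgebra.toSubmodule (integralClosure O K)).subtype
        (1 : Submodule O K)) := by
  obtain ⟨c, hc0, hcC⟩ := exists_mem_conductor K hfin
  have hc1 : algebraMap O K c ∈ (1 : Submodule O K) := Submodule.mem_one.mpr ⟨c, rfl⟩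
  have hωω : ω / ω = 1 := by
    have := div_div_eq K hdim hfin ω hω1 hω2 hωinj c hc0 hcC 1 hc1 (hω1.trans hω2)
    rwa [div_one'] at this
  have hdivle : ω / Subalgebra.toSubmodule (integralClosure O K) ≤ ω := by
    have := div_antitone K ω (hω1.trans hω2)
    rwa [div_one'] at this
  rw [conductor_smul_top_eq K ω hω1 hω2 hωω]
  have h1 := length_quot_add (1 : Submodule O K) ω
    (Subalgebra.toSubmodule (integralClosure O K)) hω1 hω2
  have h2 := length_quot_add (ω / Subalgebra.toSubmodule (integralClosure O K)) ω
    (Subalgebra.toSubmodule (integralClosure O K)) hdivle hω2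
  have h3 := length_duality K hdim hfin ω hω1 hω2 hωinj
  rw [h3] at h1
  calc _ = Module.length O (↥ω ⧸ Submodule.comap ω.subtype (1 : Submodule O K)) +
        (Module.length O (↥ω ⧸ (ω / Subalgebra.toSubmodule (integralClosure O K)).comap
          ω.subtype) + Module.length O (↥(Subalgebra.toSubmodule (integralClosure O K)) ⧸
            ω.comap (Subalgebra.toSubmodule (integralClosure O K)).subtype)) := by
        rw [← h2]; rfl
    _ = 2 * Module.length O (↥ω ⧸ (ω / Subalgebra.toSubmodule (integralClosure O K)).comap
          ω.subtype) := by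
        rw [add_left_comm, ← h1, two_mul]
    _ = _ := by rw [← h3]; rfl

end Groth.Agent.Lib.Helper22.TFCurv
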