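import Mathlib
import Groth.Agent.Lib.Helper22.TFCurv12

/-!
# Reflexivity of torsion-free modules with respect to a canonical module (abstract form)
-/

set_option autoImplicit false
set_option linter.style.haveILetI false
set_option linter.unusedSectionVars false

namespace Groth.Agent.Lib.Helper22.TFCurv

open Function IsLocalRing CategoryTheory Abelian Groth.Agent.Lib.Helper4.LC

universe u

variable {O : Type u} [CommRing O] [IsDomain O] [IsNoetherianRing O] [IsLocalRing O]

theorem noZeroSMulDivisors_linearMap (N W : Type*) [AddCommGroup N] [Module O N]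
    [AddCommGroup W] [Module O W] [NoZeroSMulDivisors O W] :
    NoZeroSMulDivisors O (N →ₗ[O] W) := by
  rw [noZeroSMulDivisors_iff_right_eq_zero_of_smul]
  intro r hr f hf
  ext x
  have h1 : r • f x = 0 := by
    have := LinearMap.congr_fun hf x
    simpa using this
  exact (smul_eq_zero.mp h1).resolve_left hr

variable (W : Type u) [AddCommGroup W] [Module O W]

/-- extension of maps into `W` along an injection with finite torsion-free cokernel. -/
theorem exists_extension (hWinj : HasInjectiveDimensionLT (ModuleCat.of O W) 2)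
    {A B C : Type u} [AddCommGroup A] [Module O A] [AddCommGroup B] [Module O B]
    [AddCommGroup C] [Module O C] [Module.Finite O C] [NoZeroSMulDivisors O C]
    (j : A →ₗ[O] B) (p : B →ₗ[O] C) (hj : Injective j) (hp : Surjective p)
    (hex : Function.Exact j p) (φ : A →ₗ[O] W) : ∃ ψ : B →ₗ[O] W, ψ ∘ₗ j = φ := by
  have hT := sesOf_shortExact j p hex hj hp
  have hE := ext_one_subsingleton_of_torsionFree W hWinj C
  obtain ⟨w, hw⟩ := Ext.contravariant_sequence_exact₁ hT (ModuleCat.of O W)
    (Ext.mk₀ (ModuleCat.ofHom φ)) (show 1 + 0 = 1 from rfl) (@Subsingleton.elim _ hE _ _)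
  obtain ⟨g, rfl⟩ := (Ext.mk₀_bijective _ _).2 w
  rw [Ext.mk₀_comp_mk₀] at hw
  have hw' := (Ext.mk₀_bijective _ _).1 hw
  refine ⟨g.hom, LinearMap.ext (fun x => ?_)⟩
  exact LinearMap.congr_fun (congrArg ModuleCat.Hom.hom hw') x

variable [Module.Finite O W] [NoZeroSMulDivisors O W] [Nontrivial W]

/-- torsion-free finite modules are torsionless with respect to `W`. -/
theorem applyₗ_injective (N : Type u) [AddCommGroup N] [Module O N] [Module.Finite O N]
    [NoZeroSMulDivisors O N] : Injective (LinearMap.applyₗ : N →ₗ[O] (N →ₗ[O] W) →ₗ[O] W) := by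
  rw [injective_iff_map_eq_zero]
  intro x hx
  obtain ⟨r, f, hf⟩ := Groth.Agent.Lib.Helper22.TFCurv5.exists_injective_to_free O N
  obtain ⟨w₀, hw₀⟩ := exists_ne (0 : W)
  apply hf
  rw [map_zero]
  ext i
  have h1 := LinearMap.congr_fun hx
    ((LinearMap.toSpanSingleton O W w₀) ∘ₗ (LinearMap.proj i) ∘ₗ f)
  simp only [LinearMap.applyₗ_apply_apply, LinearMap.coe_comp, comp_apply, LinearMap.coe_proj,
    Function.eval, LinearMap.toSpanSingleton_apply, LinearMap.zero_apply] at h1
  exact (smul_eq_zero.mp h1).resolve_right hw₀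

/-- reflexivity with respect to `W`. -/
theorem applyₗ_bijective (hWinj : HasInjectiveDimensionLT (ModuleCat.of O W) 2)
    (hEnd : ∀ φ : W →ₗ[O] W, ∃ r : O, φ = r • LinearMap.id)
    (N : Type u) [AddCommGroup N] [Module O N] [Module.Finite O N]
    [NoZeroSMulDivisors O N] : Bijective (LinearMap.applyₗ : N →ₗ[O] (N →ₗ[O] W) →ₗ[O] W) := by
  refine ⟨applyₗ_injective W N, ?_⟩
  intro Λ
  obtain ⟨r, π, hπ⟩ := Module.Finite.exists_fin' O N
  haveI : Module.Finite O (LinearMap.ker π) := inferInstance
  haveI := noZeroSMulDivisors_linearMap (O := O) (LinearMap.ker π) W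
  -- `0 → N* → (O^r)* → N₁* → 0`
  let πs : (N →ₗ[O] W) →ₗ[O] ((Fin r → O) →ₗ[O] W) := LinearMap.lcomp O W π
  let ιs : ((Fin r → O) →ₗ[O] W) →ₗ[O] (LinearMap.ker π →ₗ[O] W) :=
    LinearMap.lcomp O W (LinearMap.ker π).subtype
  have hπs : Injective πs := by
    intro a b hab
    ext x
    obtain ⟨y, rfl⟩ := hπ x
    exact LinearMap.congr_fun hab y
  have hιs : Surjective ιs := by
    intro φ
    haveI : NoZeroSMulDivisors O N := inferInstance
    exact exists_extension W hWinj (LinearMap.ker π).subtype π (Submodule.injective_subtype _) hπ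
      (LinearMap.exact_subtype_ker_map π) φ
  have hexs : Function.Exact πs ιs := by
    intro ψ
    constructor
    · intro hψ
      have hker : LinearMap.ker π ≤ LinearMap.ker ψ := by
        intro x hx
        have := LinearMap.congr_fun hψ ⟨x, hx⟩
        simpa [ιs] using this
      refine ⟨(LinearMap.ker π).liftQ ψ hker ∘ₗ
        (π.quotKerEquivOfSurjective hπ).symm.toLinearMap, ?_⟩
      apply LinearMap.ext
      intro x
      simp only [πs, LinearMap.lcomp_apply', LinearMap.coe_comp, LinearEquiv.coe_coe, comp_apply]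
      have : (π.quotKerEquivOfSurjective hπ).symm (π x) = Submodule.Quotient.mk x := by
        rw [LinearEquiv.symm_apply_eq]
        rfl
      rw [this, Submodule.liftQ_apply]
    · rintro ⟨φ, rfl⟩
      apply LinearMap.ext
      intro x
      simp [πs, ιs]
  obtain ⟨Λ', hΛ'⟩ := exists_extension W hWinj πs ιs hπs hιs hexs Λ
  -- `Λ'` is evaluation at a vector
  let κ : Fin r → W →ₗ[O] ((Fin r → O) →ₗ[O] W) := fun i =>
    { toFun := fun w => (LinearMap.toSpanSingleton O W w) ∘ₗ (LinearMap.proj i)
      map_add' := by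
        intro w w'
        apply LinearMap.ext
        intro x
        simp [smul_add]
      map_smul' := by
        intro a w
        apply LinearMap.ext
        intro x
        simp only [LinearMap.coe_comp, comp_apply, LinearMap.coe_proj, Function.eval,
          LinearMap.toSpanSingleton_apply, LinearMap.smul_apply, RingHom.id_apply]
        rw [smul_comm] }
  choose c hc using fun i : Fin r => hEnd (Λ' ∘ₗ κ i)
  have hΛ'eq : ∀ ψ : (Fin r → O) →ₗ[O] W, Λ' ψ = ψ c := by
    intro ψ
    have hψ : ψ = ∑ i, κ i (ψ (Pi.single i 1)) := by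
      apply LinearMap.ext
      intro x
      rw [LinearMap.sum_apply, LinearMap.pi_apply_eq_sum_univ ψ x]
      refine Finset.sum_congr rfl (fun i _ => ?_)
      have : (fun j => if i = j then (1 : O) else 0) = Pi.single i 1 := by
        ext j
        simp [Pi.single_apply, eq_comm]
      rw [this]
      simp [κ]
    conv_lhs => rw [hψ]
    rw [map_sum]
    have h1 : ∀ i, Λ' (κ i (ψ (Pi.single i 1))) = c i • ψ (Pi.single i 1) := by
      intro i
      have := LinearMap.congr_fun (hc i) (ψ (Pi.single i 1))
      simpa using this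
    rw [Finset.sum_congr rfl (fun i _ => h1 i), LinearMap.pi_apply_eq_sum_univ ψ c]
    refine Finset.sum_congr rfl (fun i _ => ?_)
    have : (fun j => if i = j then (1 : O) else 0) = Pi.single i 1 := by
      ext j
      simp [Pi.single_apply, eq_comm]
    rw [this]
  refine ⟨π c, ?_⟩
  apply LinearMap.ext
  intro φ
  rw [LinearMap.applyₗ_apply_apply, ← hΛ', LinearMap.comp_apply, hΛ'eq]
  rfl

end Groth.Agent.Lib.Helper22.TFCurv
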