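import Mathlib
import Groth.Agent.Lib.Helper22.TFCurv16

/-!
# Dimension shifting for `Ext` and the transposition map
-/

set_option autoImplicit false
set_option linter.style.haveILetI false
set_option linter.unusedSectionVars false

namespace Groth.Agent.Lib.Helper22.TFCurv

open Function CategoryTheory Abelian Groth.Agent.Lib.Helper4.LC

universe u

/-! ### a group-theoretic lemma -/

theorem nonempty_addEquiv_of_surjective {H₁ H₂ E₁ E₂ : Type*} [AddCommGroup H₁] [AddCommGroup H₂]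
    [AddCommGroup E₁] [AddCommGroup E₂] (δ₁ : H₁ →+ E₁) (δ₂ : H₂ →+ E₂)
    (h₁ : Surjective δ₁) (h₂ : Surjective δ₂) (Θ : H₁ ≃+ H₂)
    (hΘ : ∀ x, δ₁ x = 0 ↔ δ₂ (Θ x) = 0) : Nonempty (E₁ ≃+ E₂) := by
  have hmap : AddSubgroup.map (Θ : H₁ →+ H₂) δ₁.ker = δ₂.ker := by
    ext y
    constructor
    · rintro ⟨x, hx, rfl⟩
      exact (hΘ x).mp hx
    · intro hy
      refine ⟨Θ.symm y, ?_, by simp⟩
      rw [SetLike.mem_coe, AddMonoidHom.mem_ker, hΘ]
      simpa using hy
  exact ⟨(QuotientAddGroup.quotientKerEquivOfSurjective δ₁ h₁).symm.trans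
    ((QuotientAddGroup.congr δ₁.ker δ₂.ker Θ hmap).trans
      (QuotientAddGroup.quotientKerEquivOfSurjective δ₂ h₂))⟩

variable {O : Type u} [CommRing O]

/-! ### the transposition map `Hom(X, N) → Hom(N*, X*)` -/

section transpose

variable (W : Type u) [AddCommGroup W] [Module O W]
  (X N : Type u) [AddCommGroup X] [Module O X] [AddCommGroup N] [Module O N]

variable (O) in
/-- `f ↦ (ψ ↦ ψ ∘ f)`. -/
def transpose : (X →ₗ[O] N) →+ ((N →ₗ[O] W) →ₗ[O] (X →ₗ[O] W)) where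
  toFun f := LinearMap.lcomp O W f
  map_zero' := by
    apply LinearMap.ext
    intro ψ
    apply LinearMap.ext
    intro x
    simp
  map_add' f g := by
    apply LinearMap.ext
    intro ψ
    apply LinearMap.ext
    intro x
    simp

@[simp] theorem transpose_apply (f : X →ₗ[O] N) (ψ : N →ₗ[O] W) (x : X) :
    transpose O W X N f ψ x = ψ (f x) := rfl

theorem transpose_bijective
    (hN : Bijective (LinearMap.applyₗ : N →ₗ[O] (N →ₗ[O] W) →ₗ[O] W)) :
    Bijective (transpose O W X N) := by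
  constructor
  · rw [injective_iff_map_eq_zero]
    intro f hf
    ext x
    apply hN.1
    rw [LinearMap.zero_apply, map_zero]
    ext ψ
    have := LinearMap.congr_fun (LinearMap.congr_fun hf ψ) x
    simpa using this
  · intro g
    let e := LinearEquiv.ofBijective (LinearMap.applyₗ : N →ₗ[O] (N →ₗ[O] W) →ₗ[O] W) hN
    let f' : X →ₗ[O] ((N →ₗ[O] W) →ₗ[O] W) :=
      { toFun := fun x => (LinearMap.applyₗ x) ∘ₗ g
        map_add' := by intro a b; ext; simp
        map_smul' := by intro a b; ext; simp }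
    refine ⟨e.symm.toLinearMap ∘ₗ f', ?_⟩
    ext ψ x
    rw [transpose_apply]
    have h1 : (LinearMap.applyₗ (e.symm (f' x)) : (N →ₗ[O] W) →ₗ[O] W) = f' x :=
      e.apply_symm_apply (f' x)
    have h2 := LinearMap.congr_fun h1 ψ
    simpa [f'] using h2

end transpose

/-! ### dimension shifting -/

section shifting

variable {A B C : Type u} [AddCommGroup A] [Module O A] [AddCommGroup B] [Module O B]
  [AddCommGroup C] [Module O C] (j : A →ₗ[O] B) (p : B →ₗ[O] C) (hj : Injective j)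
  (hp : Surjective p) (hex : Function.Exact j p)

/-- the connecting map `Hom(A, Y) → Ext¹(C, Y)`. -/
noncomputable def deltaContra (Y : Type u) [AddCommGroup Y] [Module O Y] :
    (A →ₗ[O] Y) →+ Ext.{u} (ModuleCat.of O C) (ModuleCat.of O Y) 1 where
  toFun φ := (sesOf_shortExact j p hex hj hp).extClass.comp (Ext.mk₀ (ModuleCat.ofHom φ))
    (show 1 + 0 = 1 from rfl)
  map_zero' := by
    rw [show ModuleCat.ofHom (0 : A →ₗ[O] Y) = 0 from rfl, Ext.mk₀_zero, Ext.comp_zero]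
  map_add' φ ψ := by
    rw [show ModuleCat.ofHom (φ + ψ) = ModuleCat.ofHom φ + ModuleCat.ofHom ψ from rfl,
      Ext.mk₀_add, Ext.comp_add]

theorem deltaContra_surjective [Module.Projective O B] (Y : Type u) [AddCommGroup Y]
    [Module O Y] : Surjective (deltaContra j p hj hp hex Y) := by
  intro y
  haveI : Projective (ModuleCat.of O B) := (IsProjective.iff_projective (R := O) B).1 inferInstance
  have hS := sesOf_shortExact j p hex hj hp
  obtain ⟨x₁, hx₁⟩ := Ext.contravariant_sequence_exact₃ hS (ModuleCat.of O Y) y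
    (Ext.eq_zero_of_projective _) (show 1 + 0 = 1 from rfl)
  obtain ⟨g, rfl⟩ := (Ext.mk₀_bijective _ _).2 x₁
  exact ⟨g.hom, hx₁⟩

theorem deltaContra_eq_zero_iff (Y : Type u) [AddCommGroup Y] [Module O Y] (φ : A →ₗ[O] Y) :
    deltaContra j p hj hp hex Y φ = 0 ↔ ∃ ψ : B →ₗ[O] Y, ψ ∘ₗ j = φ := by
  have hS := sesOf_shortExact j p hex hj hp
  constructor
  · intro h
    obtain ⟨w, hw⟩ := Ext.contravariant_sequence_exact₁ hS (ModuleCat.of O Y)
      (Ext.mk₀ (ModuleCat.ofHom φ)) (show 1 + 0 = 1 from rfl) h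
    obtain ⟨g, rfl⟩ := (Ext.mk₀_bijective _ _).2 w
    rw [Ext.mk₀_comp_mk₀] at hw
    have hw' := (Ext.mk₀_bijective _ _).1 hw
    refine ⟨g.hom, LinearMap.ext (fun x => ?_)⟩
    exact LinearMap.congr_fun (congrArg ModuleCat.Hom.hom hw') x
  · rintro ⟨ψ, rfl⟩
    show hS.extClass.comp (Ext.mk₀ (ModuleCat.ofHom (ψ ∘ₗ j))) (show 1 + 0 = 1 from rfl) = 0
    rw [show ModuleCat.ofHom (ψ ∘ₗ j) = ModuleCat.ofHom j ≫ ModuleCat.ofHom ψ from rfl,
      ← Ext.mk₀_comp_mk₀]
    exact hS.extClass_comp_assoc _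

/-- the connecting map `Hom(X, C) → Ext¹(X, A)`. -/
noncomputable def deltaCov (X : Type u) [AddCommGroup X] [Module O X] :
    (X →ₗ[O] C) →+ Ext.{u} (ModuleCat.of O X) (ModuleCat.of O A) 1 where
  toFun φ := (Ext.mk₀ (ModuleCat.ofHom φ)).comp (sesOf_shortExact j p hex hj hp).extClass
    (show 0 + 1 = 1 from rfl)
  map_zero' := by
    rw [show ModuleCat.ofHom (0 : X →ₗ[O] C) = 0 from rfl, Ext.mk₀_zero, Ext.zero_comp]
  map_add' φ ψ := by
    rw [show ModuleCat.ofHom (φ + ψ) = ModuleCat.ofHom φ + ModuleCat.ofHom ψ from rfl,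
      Ext.mk₀_add, Ext.add_comp]

theorem deltaCov_surjective (X : Type u) [AddCommGroup X] [Module O X]
    (hB : Subsingleton (Ext.{u} (ModuleCat.of O X) (ModuleCat.of O B) 1)) :
    Surjective (deltaCov j p hj hp hex X) := by
  intro y
  have hS := sesOf_shortExact j p hex hj hp
  obtain ⟨x₃, hx₃⟩ := Ext.covariant_sequence_exact₁ (ModuleCat.of O X) hS y
    (@Subsingleton.elim _ hB _ _) (show 0 + 1 = 1 from rfl)
  obtain ⟨g, rfl⟩ := (Ext.mk₀_bijective _ _).2 x₃
  exact ⟨g.hom, hx₃⟩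

theorem deltaCov_eq_zero_iff (X : Type u) [AddCommGroup X] [Module O X] (φ : X →ₗ[O] C) :
    deltaCov j p hj hp hex X φ = 0 ↔ ∃ ψ : X →ₗ[O] B, p ∘ₗ ψ = φ := by
  have hS := sesOf_shortExact j p hex hj hp
  constructor
  · intro h
    obtain ⟨w, hw⟩ := Ext.covariant_sequence_exact₃ (ModuleCat.of O X) hS
      (Ext.mk₀ (ModuleCat.ofHom φ)) (show 0 + 1 = 1 from rfl) h
    obtain ⟨g, rfl⟩ := (Ext.mk₀_bijective _ _).2 w
    rw [Ext.mk₀_comp_mk₀] at hw
    have hw' := (Ext.mk₀_bijective _ _).1 hw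
    refine ⟨g.hom, LinearMap.ext (fun x => ?_)⟩
    exact LinearMap.congr_fun (congrArg ModuleCat.Hom.hom hw') x
  · rintro ⟨ψ, rfl⟩
    show (Ext.mk₀ (ModuleCat.ofHom (p ∘ₗ ψ))).comp hS.extClass (show 0 + 1 = 1 from rfl) = 0
    rw [show ModuleCat.ofHom (p ∘ₗ ψ) = ModuleCat.ofHom ψ ≫ ModuleCat.ofHom p from rfl,
      ← Ext.mk₀_comp_mk₀, Ext.comp_assoc_of_second_deg_zero]
    rw [hS.comp_extClass, Ext.comp_zero]

include j p hj hp hex in
/-- contravariant dimension shifting. -/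
theorem nonempty_addEquiv_contra [Module.Projective O B] (Y : Type u) [AddCommGroup Y]
    [Module O Y] (i : ℕ) (hi : 1 ≤ i) :
    Nonempty (Ext.{u} (ModuleCat.of O A) (ModuleCat.of O Y) i ≃+
      Ext.{u} (ModuleCat.of O C) (ModuleCat.of O Y) (i + 1)) := by
  haveI : Projective (ModuleCat.of O B) := (IsProjective.iff_projective (R := O) B).1 inferInstance
  have hS := sesOf_shortExact j p hex hj hp
  obtain ⟨k, rfl⟩ : ∃ k, i = k + 1 := ⟨i - 1, by omega⟩
  refine ⟨AddEquiv.ofBijective (hS.extClass.precomp (ModuleCat.of O Y) (add_comm 1 (k + 1)))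
    ⟨?_, ?_⟩⟩
  · rw [injective_iff_map_eq_zero]
    intro x hx
    obtain ⟨w, hw⟩ := Ext.contravariant_sequence_exact₁ hS (ModuleCat.of O Y) x
      (add_comm 1 (k + 1)) hx
    rw [← hw, Ext.eq_zero_of_projective w, Ext.comp_zero]
  · intro y
    obtain ⟨x₁, hx₁⟩ := Ext.contravariant_sequence_exact₃ hS (ModuleCat.of O Y) y
      (Ext.eq_zero_of_projective _) (add_comm 1 (k + 1))
    exact ⟨x₁, hx₁⟩

include j p hj hp hex in
/-- covariant dimension shifting. -/
theorem nonempty_addEquiv_cov (X : Type u) [AddCommGroup X] [Module O X] (i : ℕ)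
    (h1 : Subsingleton (Ext.{u} (ModuleCat.of O X) (ModuleCat.of O B) i))
    (h2 : Subsingleton (Ext.{u} (ModuleCat.of O X) (ModuleCat.of O B) (i + 1))) :
    Nonempty (Ext.{u} (ModuleCat.of O X) (ModuleCat.of O C) i ≃+
      Ext.{u} (ModuleCat.of O X) (ModuleCat.of O A) (i + 1)) := by
  have hS := sesOf_shortExact j p hex hj hp
  refine ⟨AddEquiv.ofBijective (hS.extClass.postcomp (ModuleCat.of O X) (rfl : i + 1 = i + 1))
    ⟨?_, ?_⟩⟩
  · rw [injective_iff_map_eq_zero]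
    intro x hx
    obtain ⟨w, hw⟩ := Ext.covariant_sequence_exact₃ (ModuleCat.of O X) hS x rfl hx
    rw [← hw, @Subsingleton.elim _ h1 w 0, Ext.zero_comp]
  · intro y
    obtain ⟨x₃, hx₃⟩ := Ext.covariant_sequence_exact₁ (ModuleCat.of O X) hS y
      (@Subsingleton.elim _ h2 _ _) rfl
    exact ⟨x₃, hx₃⟩

end shifting

end Groth.Agent.Lib.Helper22.TFCurv
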