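import Mathlib
import Groth.Agent.Lib.Helper22.TFCurv17

/-!
# `Ext^i(M, N) ≅ Ext^i(N*, M*)` for torsion-free modules over a one-dimensional local domain
-/

set_option autoImplicit false
set_option linter.style.haveILetI false
set_option linter.unusedSectionVars false

namespace Groth.Agent.Lib.Helper22.TFCurv

open Function IsLocalRing CategoryTheory Abelian Groth.Agent.Lib.Helper4.LC

universe u

variable {O : Type u} [CommRing O] [IsDomain O] [IsNoetherianRing O] [IsLocalRing O]
  (W : Type u) [AddCommGroup W] [Module O W]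

section dualFree

variable (r : ℕ)

variable (O) in
/-- `w ↦ (x ↦ x i • w)`. -/
def kap (i : Fin r) : W →ₗ[O] ((Fin r → O) →ₗ[O] W) where
  toFun w := (LinearMap.toSpanSingleton O W w) ∘ₗ (LinearMap.proj i)
  map_add' := by
    intro w w'
    apply LinearMap.ext
    intro x
    simp [smul_add]
  map_smul' := by
    intro a w
    apply LinearMap.ext
    intro x
    simp only [LinearMap.coe_comp, comp_apply, LinearMap.coe_proj, Function.eval,
      LinearMap.toSpanSingleton_apply, LinearMap.smul_apply, RingHom.id_apply]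
    rw [smul_comm]

variable (O) in
/-- evaluation at the `i`-th basis vector. -/
def evl (i : Fin r) : ((Fin r → O) →ₗ[O] W) →ₗ[O] W :=
  (LinearMap.applyₗ (R := O) (M := Fin r → O) (M₂ := W)) (Pi.single i 1)

variable (O) in
theorem sum_kap_evl : ∑ i, kap O W r i ∘ₗ evl O W r i = LinearMap.id := by
  apply LinearMap.ext
  intro ψ
  apply LinearMap.ext
  intro x
  rw [LinearMap.sum_apply, LinearMap.sum_apply, LinearMap.id_apply,
    LinearMap.pi_apply_eq_sum_univ ψ x]
  refine Finset.sum_congr rfl (fun i _ => ?_)
  have : (fun j => if i = j then (1 : O) else 0) = Pi.single i 1 := by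
    ext j
    simp [Pi.single_apply, eq_comm]
  rw [this]
  simp [kap, evl]

/-- vanishing of `Ext^m(X, (O^r)*)` from vanishing of `Ext^m(X, W)`. -/
theorem ext_dualFree_subsingleton (X : Type u) [AddCommGroup X] [Module O X] (m : ℕ)
    (h : Subsingleton (Ext.{u} (ModuleCat.of O X) (ModuleCat.of O W) m)) :
    Subsingleton (Ext.{u} (ModuleCat.of O X) (ModuleCat.of O ((Fin r → O) →ₗ[O] W)) m) := by
  refine subsingleton_of_forall_eq 0 (fun e => ?_)
  have hid : 𝟙 (ModuleCat.of O ((Fin r → O) →ₗ[O] W)) =
      ∑ i, ModuleCat.ofHom (evl O W r i) ≫ ModuleCat.ofHom (kap O W r i) := by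
    apply ModuleCat.hom_ext
    rw [ModuleCat.hom_sum]
    exact (sum_kap_evl O W r).symm
  rw [← Ext.comp_mk₀_id e, hid, Ext.mk₀_sum, Ext.comp_sum]
  refine Finset.sum_eq_zero (fun i _ => ?_)
  rw [← Ext.mk₀_comp_mk₀, ← Ext.comp_assoc_of_second_deg_zero,
    @Subsingleton.elim _ h (e.comp (Ext.mk₀ (ModuleCat.ofHom (evl O W r i))) (add_zero m)) 0,
    Ext.zero_comp]

end dualFree

/-- the dual of a short exact sequence with finite torsion-free cokernel is short exact. -/
theorem dual_exact (hWinj : HasInjectiveDimensionLT (ModuleCat.of O W) 2)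
    {A B C : Type u} [AddCommGroup A] [Module O A] [AddCommGroup B] [Module O B]
    [AddCommGroup C] [Module O C] [Module.Finite O C] [NoZeroSMulDivisors O C]
    (j : A →ₗ[O] B) (p : B →ₗ[O] C) (hj : Injective j) (hp : Surjective p)
    (hex : Function.Exact j p) :
    Injective (LinearMap.lcomp O W p) ∧ Surjective (LinearMap.lcomp O W j) ∧
      Function.Exact (LinearMap.lcomp O W p) (LinearMap.lcomp O W j) := by
  refine ⟨?_, ?_, ?_⟩
  · intro a b hab
    ext x
    obtain ⟨y, rfl⟩ := hp x
    exact LinearMap.congr_fun hab y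
  · intro φ
    exact exists_extension W hWinj j p hj hp hex φ
  · intro ψ
    constructor
    · intro hψ
      have hker : LinearMap.ker p ≤ LinearMap.ker ψ := by
        intro x hx
        obtain ⟨a, rfl⟩ := (hex x).mp hx
        have := LinearMap.congr_fun hψ a
        simpa using this
      refine ⟨(LinearMap.ker p).liftQ ψ hker ∘ₗ
        (p.quotKerEquivOfSurjective hp).symm.toLinearMap, ?_⟩
      apply LinearMap.ext
      intro x
      simp only [LinearMap.lcomp_apply', LinearMap.coe_comp, LinearEquiv.coe_coe, comp_apply]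
      have : (p.quotKerEquivOfSurjective hp).symm (p x) = Submodule.Quotient.mk x := by
        rw [LinearEquiv.symm_apply_eq]
        rfl
      rw [this, Submodule.liftQ_apply]
    · rintro ⟨φ, rfl⟩
      apply LinearMap.ext
      intro x
      simp only [LinearMap.lcomp_apply', LinearMap.coe_comp, comp_apply, LinearMap.zero_apply]
      rw [hex.apply_apply_eq_zero, map_zero]

variable [Module.Finite O W] [NoZeroSMulDivisors O W] [Nontrivial W]

/-- `Ext^m(X, W) = 0` for `m ≥ 1` and `X` finite torsion-free. -/
theorem ext_subsingleton_of_torsionFree (hWinj : HasInjectiveDimensionLT (ModuleCat.of O W) 2)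
    (X : Type u) [AddCommGroup X] [Module O X] [Module.Finite O X] [NoZeroSMulDivisors O X]
    (m : ℕ) (hm : 1 ≤ m) :
    Subsingleton (Ext.{u} (ModuleCat.of O X) (ModuleCat.of O W) m) := by
  haveI := hWinj
  rcases Nat.lt_or_ge m 2 with h | h
  · have : m = 1 := by omega
    subst this
    exact ext_one_subsingleton_of_torsionFree W hWinj X
  · exact HasInjectiveDimensionLT.subsingleton _ 2 m h _

/-- the duality `Ext^i(M, N) ≅ Ext^i(N*, M*)`. -/
theorem ext_duality (hWinj : HasInjectiveDimensionLT (ModuleCat.of O W) 2)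
    (hEnd : ∀ φ : W →ₗ[O] W, ∃ r : O, φ = r • LinearMap.id) (i : ℕ) :
    ∀ (M N : Type u) [AddCommGroup M] [Module O M] [Module.Finite O M] [NoZeroSMulDivisors O M]
      [AddCommGroup N] [Module O N] [Module.Finite O N] [NoZeroSMulDivisors O N],
      Nonempty (Ext.{u} (ModuleCat.of O M) (ModuleCat.of O N) i ≃+
        Ext.{u} (ModuleCat.of O (N →ₗ[O] W)) (ModuleCat.of O (M →ₗ[O] W)) i) := by
  induction i with
  | zero =>
    intro M N _ _ _ _ _ _ _ _
    have hN := applyₗ_bijective W hWinj hEnd N
    exact ⟨(Ext.addEquiv₀.trans (ModuleCat.homAddEquiv (M := ModuleCat.of O M)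
        (N := ModuleCat.of O N))).trans
      ((AddEquiv.ofBijective (transpose O W M N) (transpose_bijective W M N hN)).trans
        (Ext.addEquiv₀.trans (ModuleCat.homAddEquiv (M := ModuleCat.of O (N →ₗ[O] W))
          (N := ModuleCat.of O (M →ₗ[O] W)))).symm)⟩
  | succ i ih =>
    intro M N _ _ _ _ _ _ _ _
    have hN := applyₗ_bijective W hWinj hEnd N
    obtain ⟨r, π, hπ⟩ := Module.Finite.exists_fin' O M
    haveI : Module.Finite O (LinearMap.ker π) := inferInstance
    haveI hK : NoZeroSMulDivisors O (LinearMap.ker π) := by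
      rw [noZeroSMulDivisors_iff_right_eq_zero_of_smul]
      intro a ha x hx
      apply Subtype.ext
      have h1 : a • (x : Fin r → O) = 0 := congrArg Subtype.val hx
      exact (smul_eq_zero.mp h1).resolve_left ha
    haveI := noZeroSMulDivisors_linearMap (O := O) N W
    haveI := noZeroSMulDivisors_linearMap (O := O) M W
    haveI := noZeroSMulDivisors_linearMap (O := O) (LinearMap.ker π) W
    have hj : Injective (LinearMap.ker π).subtype := Submodule.injective_subtype _
    have hex := LinearMap.exact_subtype_ker_map π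
    obtain ⟨hπs, hιs, hexs⟩ := dual_exact W hWinj (LinearMap.ker π).subtype π hj hπ hex
    have hvan : ∀ m, 1 ≤ m → Subsingleton (Ext.{u} (ModuleCat.of O (N →ₗ[O] W))
        (ModuleCat.of O ((Fin r → O) →ₗ[O] W)) m) := fun m hm =>
      ext_dualFree_subsingleton W r (N →ₗ[O] W) m
        (ext_subsingleton_of_torsionFree W hWinj (N →ₗ[O] W) m hm)
    cases i with
    | zero =>
      refine nonempty_addEquiv_of_surjective
        (deltaContra (LinearMap.ker π).subtype π hj hπ hex N)
        (deltaCov (LinearMap.lcomp O W π) (LinearMap.lcomp O W (LinearMap.ker π).subtype)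
          hπs hιs hexs (N →ₗ[O] W))
        (deltaContra_surjective _ _ _ _ _ N)
        (deltaCov_surjective _ _ _ _ _ _ (hvan 1 le_rfl))
        (AddEquiv.ofBijective (transpose O W (LinearMap.ker π) N)
          (transpose_bijective W (LinearMap.ker π) N hN)) ?_
      intro f
      rw [deltaContra_eq_zero_iff, deltaCov_eq_zero_iff]
      constructor
      · rintro ⟨ft, rfl⟩
        refine ⟨transpose O W (Fin r → O) N ft, ?_⟩
        apply LinearMap.ext
        intro ψ
        apply LinearMap.ext
        intro x
        rfl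
      · rintro ⟨gt, hgt⟩
        obtain ⟨ft, rfl⟩ := (transpose_bijective W (Fin r → O) N hN).2 gt
        refine ⟨ft, ?_⟩
        apply (transpose_bijective W (LinearMap.ker π) N hN).1
        rw [← AddEquiv.ofBijective_apply (transpose O W (LinearMap.ker π) N)
          (transpose_bijective W (LinearMap.ker π) N hN) f, ← hgt]
        apply LinearMap.ext
        intro ψ
        apply LinearMap.ext
        intro x
        rfl
    | succ k =>
      obtain ⟨e1⟩ := nonempty_addEquiv_contra (LinearMap.ker π).subtype π hj hπ hex N (k + 1)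
        (by omega)
      obtain ⟨e2⟩ := ih (LinearMap.ker π) N
      obtain ⟨e3⟩ := nonempty_addEquiv_cov (LinearMap.lcomp O W π)
        (LinearMap.lcomp O W (LinearMap.ker π).subtype) hπs hιs hexs (N →ₗ[O] W) (k + 1)
        (hvan (k + 1) (by omega)) (hvan (k + 1 + 1) (by omega))
      exact ⟨e1.symm.trans (e2.trans e3)⟩

end Groth.Agent.Lib.Helper22.TFCurv
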