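import Mathlib
import Groth.Agent.Lib.Helper22.TFCurv15
import Groth.Agent.Lib.Helper22.TFCurv18

/-!
# Endomorphisms of a canonical ideal; the Ext duality for canonical ideals
-/

set_option autoImplicit false
set_option linter.style.haveILetI false
set_option linter.unusedSectionVars false

namespace Groth.Agent.Lib.Helper22.TFCurv

open Function IsLocalRing CategoryTheory Abelian

universe u

variable {O : Type u} [CommRing O] [IsDomain O] [IsNoetherianRing O] [IsLocalRing O]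
  (K : Type u) [Field K] [Algebra O K] [IsFractionRing O K]

/-- every endomorphism of a canonical ideal is a homothety. -/
theorem end_canonical (hdim : ringKrullDim O = 1)
    (hfin : Module.Finite O ↥(integralClosure O K)) (hinf : Infinite (O ⧸ maximalIdeal O))
    (ω : Submodule O K) (hω0 : ω ≠ ⊥) (hωfg : ω.FG)
    (hωinj : HasInjectiveDimensionLT (ModuleCat.of O ↥ω) 2) (φ : ↥ω →ₗ[O] ↥ω) :
    ∃ r : O, φ = r • LinearMap.id := by
  obtain ⟨w, hwω, hw0⟩ := Submodule.exists_mem_ne_zero_of_ne_bot hω0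
  have hspan : Submodule.span K (ω : Set K) = ⊤ := by
    rw [eq_top_iff]
    rintro x -
    have : x = (x / w) • w := by
      rw [smul_eq_mul, div_mul_cancel₀ _ hw0]
    rw [this]
    exact Submodule.smul_mem _ _ (Submodule.subset_span hwω)
  obtain ⟨e, heω, he⟩ := exists_frame K hdim hfin hinf 1 K (Module.finrank_self K) ω hωfg hspan
  set e₀ : K := e 0 with he₀
  have he' : ∀ m ∈ ω, ∃ a : ↥(integralClosure O K), m = (a : K) * e₀ := by
    intro m hm
    obtain ⟨a, ha⟩ := he m hm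
    refine ⟨a 0, ?_⟩
    rw [ha, Fin.sum_univ_one, smul_eq_mul]
  have he₀0 : e₀ ≠ 0 := by
    intro h0
    obtain ⟨a, ha⟩ := he' w hwω
    rw [h0, mul_zero] at ha
    exact hw0 ha
  have hinj : Injective (LinearMap.mulLeft O e₀⁻¹) := by
    intro a b hab
    simp only [LinearMap.mulLeft_apply] at hab
    exact mul_left_cancel₀ (inv_ne_zero he₀0) hab
  set ω' : Submodule O K := ω.map (LinearMap.mulLeft O e₀⁻¹) with hω'
  let eω : ↥ω ≃ₗ[O] ↥ω' := Submodule.equivMapOfInjective _ hinj ω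
  have h1mem : (1 : K) ∈ ω' := ⟨e₀, heω 0, by simp [he₀0]⟩
  have hω'1 : (1 : Submodule O K) ≤ ω' := by
    rw [Submodule.one_le]
    exact h1mem
  have hω'2 : ω' ≤ Subalgebra.toSubmodule (integralClosure O K) := by
    rintro _ ⟨m, hm, rfl⟩
    obtain ⟨a, ha⟩ := he' m hm
    rw [LinearMap.mulLeft_apply, ha, mul_comm, mul_assoc, mul_inv_cancel₀ he₀0, mul_one]
    exact a.2
  have hω'inj : HasInjectiveDimensionLT (ModuleCat.of O ↥ω') 2 := by
    haveI := hωinj
    exact hasInjectiveDimensionLT_of_iso (LinearEquiv.toModuleIso eω) 2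
  obtain ⟨c, hc0, hcC⟩ := exists_mem_conductor K hfin
  have hc1 : algebraMap O K c ∈ (1 : Submodule O K) := Submodule.mem_one.mpr ⟨c, rfl⟩
  have hωω : ω' / ω' = 1 := by
    have := div_div_eq K hdim hfin ω' hω'1 hω'2 hω'inj c hc0 hcC 1 hc1 (hω'1.trans hω'2)
    rwa [div_one'] at this
  set u : K := (φ ⟨e₀, heω 0⟩ : K) / e₀ with hu
  have hφ : ∀ x : ↥ω, (φ x : K) = u * (x : K) := fun x => hom_eq_mul ω e₀ he₀0 (heω 0) ω φ x
  have hu1 : u ∈ (1 : Submodule O K) := by
    rw [← hωω, Submodule.mem_div_iff_forall_mul_mem]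
    rintro _ ⟨m, hm, rfl⟩
    refine ⟨(φ ⟨m, hm⟩ : K), (φ ⟨m, hm⟩).2, ?_⟩
    rw [LinearMap.mulLeft_apply, LinearMap.mulLeft_apply, hφ ⟨m, hm⟩]
    ring
  obtain ⟨r, hr⟩ := Submodule.mem_one.mp hu1
  refine ⟨r, ?_⟩
  apply LinearMap.ext
  intro x
  apply Subtype.ext
  rw [hφ x, ← hr]
  simp [Algebra.smul_def]

/-- `Ext^i(M, N) ≅ Ext^i(N*, M*)` for a canonical ideal `ω`. -/
theorem ext_duality_canonical (hdim : ringKrullDim O = 1)
    (hfin : Module.Finite O ↥(integralClosure O K)) (hinf : Infinite (O ⧸ maximalIdeal O))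
    (ω : Submodule O K) (hω0 : ω ≠ ⊥) (hωfg : ω.FG)
    (hωinj : HasInjectiveDimensionLT (ModuleCat.of O ↥ω) 2)
    (M N : Type u) [AddCommGroup M] [Module O M] [Module.Finite O M] [NoZeroSMulDivisors O M]
    [AddCommGroup N] [Module O N] [Module.Finite O N] [NoZeroSMulDivisors O N] (i : ℕ) :
    Nonempty (Ext.{u} (ModuleCat.of O M) (ModuleCat.of O N) i ≃+
      Ext.{u} (ModuleCat.of O (N →ₗ[O] ↥ω)) (ModuleCat.of O (M →ₗ[O] ↥ω)) i) := by
  haveI : Module.Finite O ↥ω := Module.Finite.of_fg hωfg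
  haveI := noZeroSMulDivisors_submodule K ω
  haveI : Nontrivial ↥ω := by
    obtain ⟨w, hwω, hw0⟩ := Submodule.exists_mem_ne_zero_of_ne_bot hω0
    exact ⟨⟨⟨w, hwω⟩, 0, fun h => hw0 (congrArg Subtype.val h)⟩⟩
  exact ext_duality ↥ω hωinj (end_canonical K hdim hfin hinf ω hω0 hωfg hωinj) i M N

end Groth.Agent.Lib.Helper22.TFCurv
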