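import Mathlib
import Groth.Agent.Lib.Helper22.PSCanon2
import Groth.Agent.Lib.Helper22.TFCurv19

/-!
# Canonical ideals of subalgebras of `k[[t]]`: value sets
-/

set_option autoImplicit false
set_option linter.style.haveILetI false
set_option linter.unusedSectionVars false

universe u

open PowerSeries CategoryTheory

namespace Groth.Agent.Lib.Helper22.PSCanon

/-- the isomorphism in `ModuleCat` attached to a linear equivalence. -/
noncomputable def isoOfEquiv' {R : Type u} [CommRing R] (X Y : Type u) [AddCommGroup X]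
    [Module R X] [AddCommGroup Y] [Module R Y] (e : X ≃ₗ[R] Y) :
    ModuleCat.of R X ≅ ModuleCat.of R Y := e.toModuleIso

variable {k : Type u} [Field k] (A : Subalgebra k (PowerSeries k))

/-- the embedding of `k[[t]]` into its fraction field as an `A`-linear map. -/
noncomputable def φ : PowerSeries k →ₗ[↥A] FractionRing (PowerSeries k) :=
  (IsScalarTower.toAlgHom ↥A (PowerSeries k) (FractionRing (PowerSeries k))).toLinearMap

theorem φ_apply (f : PowerSeries k) :
    φ A f = algebraMap (PowerSeries k) (FractionRing (PowerSeries k)) f := rfl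

theorem φ_injective : Function.Injective (φ A) :=
  IsFractionRing.injective (PowerSeries k) (FractionRing (PowerSeries k))

theorem φ_mul (f g : PowerSeries k) : φ A (f * g) = φ A f * φ A g := by
  simp only [φ_apply, map_mul]

theorem φ_one : φ A 1 = 1 := by simp only [φ_apply, map_one]

section main

variable [Infinite k] (hA : Module.Finite ↥A (PowerSeries k)) (c : ℕ)
  (hT : ∀ h : PowerSeries k, (c : ℕ∞) ≤ h.order → h ∈ A)
  (ω : Submodule ↥A (PowerSeries k)) (hω1 : (1 : PowerSeries k) ∈ ω) (hωfg : ω.FG)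
  (hωinj : HasInjectiveDimensionLT (ModuleCat.of ↥A ↥ω) 2)

include hω1 in
theorem le_omega (a : PowerSeries k) (ha : a ∈ A) : a ∈ ω := by
  have := ω.smul_mem (⟨a, ha⟩ : ↥A) hω1
  rwa [Subalgebra.smul_def, smul_eq_mul, mul_one] at this

include hA hT hω1 hωfg hωinj in
/-- endomorphisms of a canonical ideal are homotheties. -/
theorem end_eq_smul (ψ : ↥ω →ₗ[↥A] ↥ω) : ∃ r : ↥A, ∀ x : ↥ω, ψ x = r • x := by
  haveI := isLocalRing A hA
  haveI := isNoetherianRing A hA c hT
  haveI := isFractionRing A c hT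
  have hdim := ringKrullDim_eq_one A hA
  have hfin := finite_integralClosure A hA
  have hinf : Infinite (↥A ⧸ IsLocalRing.maximalIdeal ↥A) := by
    let f : k →+* (↥A ⧸ IsLocalRing.maximalIdeal ↥A) :=
      (Ideal.Quotient.mk _).comp (algebraMap k ↥A)
    exact Infinite.of_injective f f.injective
  let e : ↥ω ≃ₗ[↥A] ↥(ω.map (φ A)) := Submodule.equivMapOfInjective (φ A) (φ_injective A) ω
  have hω0 : ω.map (φ A) ≠ ⊥ := by
    intro h
    have h1 : φ A 1 ∈ ω.map (φ A) := Submodule.mem_map_of_mem hω1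
    rw [h, Submodule.mem_bot, φ_one] at h1
    exact one_ne_zero h1
  have hinj' : HasInjectiveDimensionLT (ModuleCat.of ↥A ↥(ω.map (φ A))) 2 :=
    hasInjectiveDimensionLT_of_iso (isoOfEquiv' (R := ↥A) ↥ω ↥(ω.map (φ A)) e) 2
  obtain ⟨r, hr⟩ := Groth.Agent.Lib.Helper22.TFCurv.end_canonical (FractionRing (PowerSeries k))
    hdim hfin hinf (ω.map (φ A)) hω0 (hωfg.map _) hinj'
    (e.toLinearMap ∘ₗ ψ ∘ₗ e.symm.toLinearMap)
  refine ⟨r, fun x => ?_⟩
  have h1 := LinearMap.congr_fun hr (e x)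
  simp only [LinearMap.coe_comp, LinearEquiv.coe_coe, Function.comp_apply,
    LinearEquiv.symm_apply_apply, LinearMap.smul_apply, LinearMap.id_coe, id_eq] at h1
  rw [← map_smul] at h1
  exact e.injective h1

include hA hT hω1 hωfg hωinj in
/-- `t^{c-1} k[[t]]` is not contained in a canonical ideal when `c - 1` is a gap. -/
theorem not_forall_mem (d : ℕ) (hd : ¬ ∃ f ∈ A, PowerSeries.order f = d) :
    ¬ ∀ h : PowerSeries k, (d : ℕ∞) ≤ h.order → h ∈ ω := by
  intro hall
  have hmul : ∀ x : PowerSeries k, (X : PowerSeries k) ^ d * x ∈ ω := by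
    intro x
    apply hall
    rw [PowerSeries.order_mul, PowerSeries.order_X_pow]
    exact le_self_add
  let ψ : ↥ω →ₗ[↥A] ↥ω :=
    { toFun := fun x => ⟨(X : PowerSeries k) ^ d * x, hmul x⟩
      map_add' := by
        intro a b
        apply Subtype.ext
        simp [mul_add]
      map_smul' := by
        intro a b
        apply Subtype.ext
        simp only [Submodule.coe_smul, Subalgebra.smul_def, smul_eq_mul, RingHom.id_apply]
        ring }
  obtain ⟨r, hr⟩ := end_eq_smul A hA c hT ω hω1 hωfg hωinj ψ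
  have h1 := congrArg Subtype.val (hr ⟨1, hω1⟩)
  simp only [ψ, LinearMap.coe_mk, AddHom.coe_mk, mul_one, Submodule.coe_smul,
    Subalgebra.smul_def, smul_eq_mul] at h1
  exact hd ⟨r, r.2, by rw [← h1, PowerSeries.order_X_pow]⟩

include hA hT hω1 hωfg hωinj in
/-- duality separates nested lattices. -/
theorem exists_separating (L₁ L₂ : Submodule ↥A (PowerSeries k)) (h1 : (1 : PowerSeries k) ∈ L₁)
    (hle : L₁ ≤ L₂) (hne : ¬ L₂ ≤ L₁) :
    ∃ g ∈ ω, (∀ x ∈ L₁, g * x ∈ ω) ∧ ∃ y ∈ L₂, g * y ∉ ω := by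
  haveI := isLocalRing A hA
  haveI := isNoetherianRing A hA c hT
  haveI := isFractionRing A c hT
  have hdim := ringKrullDim_eq_one A hA
  have hfin := finite_integralClosure A hA
  set K := FractionRing (PowerSeries k) with hK
  have hφinj := φ_injective A
  have hinj' : HasInjectiveDimensionLT (ModuleCat.of ↥A ↥(ω.map (φ A))) 2 :=
    hasInjectiveDimensionLT_of_iso (isoOfEquiv' (R := ↥A) ↥ω ↥(ω.map (φ A))
      (Submodule.equivMapOfInjective (φ A) (φ_injective A) ω)) 2
  have hone : ∀ L : Submodule ↥A (PowerSeries k), (1 : PowerSeries k) ∈ L →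
      (1 : Submodule ↥A K) ≤ L.map (φ A) := by
    intro L hL
    rw [Submodule.one_le]
    exact ⟨1, hL, φ_one A⟩
  have hcl : ∀ L : Submodule ↥A (PowerSeries k),
      L.map (φ A) ≤ Subalgebra.toSubmodule (integralClosure ↥A K) := by
    rintro L _ ⟨x, -, rfl⟩
    exact (mem_integralClosure_iff A hA _).mpr ⟨x, rfl⟩
  have hXc : (X : PowerSeries k) ^ c ∈ A := by
    apply hT
    rw [PowerSeries.order_X_pow]
  let c₁ : ↥A := ⟨(X : PowerSeries k) ^ c, hXc⟩
  have hc₁0 : c₁ ≠ 0 := by
    intro h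
    exact pow_ne_zero c PowerSeries.X_ne_zero (congrArg Subtype.val h)
  have hc₁C : c₁ ∈ (1 : Submodule ↥A K).colon
      (Subalgebra.toSubmodule (integralClosure ↥A K)) := by
    rw [Submodule.mem_colon]
    intro z hz
    obtain ⟨y, rfl⟩ := (mem_integralClosure_iff A hA z).mp hz
    have hmem : (X : PowerSeries k) ^ c * y ∈ A := by
      apply hT
      rw [PowerSeries.order_mul, PowerSeries.order_X_pow]
      exact le_self_add
    refine Submodule.mem_one.mpr ⟨⟨_, hmem⟩, ?_⟩
    rw [IsScalarTower.algebraMap_apply ↥A (PowerSeries k) K, Algebra.smul_def,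
      IsScalarTower.algebraMap_apply ↥A (PowerSeries k) K, ← map_mul]
    rfl
  have hc₁L : ∀ L : Submodule ↥A (PowerSeries k), (1 : PowerSeries k) ∈ L →
      algebraMap ↥A K c₁ ∈ L.map (φ A) := by
    intro L hL
    have : algebraMap ↥A K c₁ ∈ (1 : Submodule ↥A K) := Submodule.mem_one.mpr ⟨c₁, rfl⟩
    exact hone L hL this
  have hdd := fun (L : Submodule ↥A (PowerSeries k)) (hL : (1 : PowerSeries k) ∈ L) =>
    Groth.Agent.Lib.Helper22.TFCurv.div_div_eq K hdim hfin (ω.map (φ A)) (hone ω hω1) (hcl ω)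
      hinj' c₁ hc₁0 hc₁C (L.map (φ A)) (hc₁L L hL) (hcl L)
  have h12 : ¬ (ω.map (φ A) / L₁.map (φ A) ≤ ω.map (φ A) / L₂.map (φ A)) := by
    intro hle'
    have := Groth.Agent.Lib.Helper22.TFCurv.div_antitone K (ω.map (φ A)) hle'
    rw [hdd L₁ h1, hdd L₂ (hle h1)] at this
    apply hne
    intro x hx
    obtain ⟨y, hy, hyx⟩ := this (Submodule.mem_map_of_mem hx)
    rw [← hφinj hyx]
    exact hy
  obtain ⟨g', hg'1, hg'2⟩ := Set.not_subset.mp h12
  have hg'1' := (Submodule.mem_div_iff_forall_mul_mem).mp hg'1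
  obtain ⟨g, hgω, hg⟩ : ∃ g ∈ ω, φ A g = g' := by
    have := hg'1' 1 ⟨1, h1, φ_one A⟩
    rwa [mul_one] at this
  refine ⟨g, hgω, ?_, ?_⟩
  · intro x hx
    obtain ⟨w, hw, hwx⟩ := hg'1' (φ A x) (Submodule.mem_map_of_mem hx)
    rw [← hg, ← φ_mul] at hwx
    rw [← hφinj hwx]
    exact hw
  · have : ¬ ∀ y' ∈ L₂.map (φ A), g' * y' ∈ ω.map (φ A) := by
      intro hall
      exact hg'2 ((Submodule.mem_div_iff_forall_mul_mem).mpr hall)
    push_neg at this
    obtain ⟨y', ⟨y, hy, rfl⟩, hy'⟩ := this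
    refine ⟨y, hy, fun hmem => hy' ?_⟩
    rw [← hg, ← φ_mul]
    exact Submodule.mem_map_of_mem hmem

end main

end Groth.Agent.Lib.Helper22.PSCanon
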