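import Mathlib
import Groth.Agent.Lib.Helper22.PSCanon3

/-!
# The value set of a canonical ideal is the dual of the value semigroup
-/

set_option autoImplicit false
set_option linter.style.haveILetI false
set_option linter.unusedSectionVars false

universe u

open PowerSeries CategoryTheory

namespace Groth.Agent.Lib.Helper22.PSCanon

theorem valueSet_canonical (k : Type u) [Field k] [IsAlgClosed k]
    (A : Subalgebra k (PowerSeries k)) (hA : Module.Finite ↥A (PowerSeries k))
    (hcl : ∀ f : PowerSeries k,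
      (∀ n : ℕ, ∃ g ∈ A, (n : ℕ∞) ≤ PowerSeries.order (f - g)) → f ∈ A)
    (Γ : Set ℕ) (hΓ : ∀ n : ℕ, n ∈ Γ ↔ ∃ f ∈ A, PowerSeries.order f = n) (c : ℕ)
    (hc : ∀ n : ℕ, c ≤ n → n ∈ Γ) (hc1 : c - 1 ∉ Γ)
    (ω : Submodule ↥A (PowerSeries k)) (hω1 : (1 : PowerSeries k) ∈ ω) (hωfg : ω.FG)
    (hωinj : HasInjectiveDimensionLT (ModuleCat.of ↥A ↥ω) 2) (n : ℕ) :
    (∃ f ∈ ω, PowerSeries.order f = n) ↔ (c ≤ n ∨ c - 1 - n ∉ Γ) := by
  haveI : Infinite k := inferInstance
  have hT : ∀ h : PowerSeries k, (c : ℕ∞) ≤ h.order → h ∈ A := by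
    intro h hh
    exact PSAlg.mem_of_le_order (Subalgebra.toSubmodule A) (fun f hf => hcl f hf) c
      (fun n hn => (hΓ n).mp (hc n hn)) h hh
  have hgap : ¬ ∃ f ∈ A, PowerSeries.order f = ((c - 1 : ℕ) : ℕ∞) :=
    fun h => hc1 ((hΓ _).mpr h)
  have hF1 := not_forall_mem A hA c hT ω hω1 hωfg hωinj (c - 1) hgap
  have hAω : ∀ a ∈ A, a ∈ ω := fun a ha => le_omega A ω hω1 a ha
  have hsmul : ∀ a ∈ A, ∀ f ∈ ω, a * f ∈ ω := by
    intro a ha f hf
    exact ω.smul_mem (⟨a, ha⟩ : ↥A) hf
  constructor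
  · rintro ⟨f, hfω, hfn⟩
    by_contra hcon
    push_neg at hcon
    obtain ⟨hnc, hmΓ⟩ := hcon
    obtain ⟨a, haA, han⟩ := (hΓ _).mp hmΓ
    apply hF1
    intro h hh
    have hord : PowerSeries.order (a * f) = ((c - 1 : ℕ) : ℕ∞) := by
      rw [PowerSeries.order_mul, han, hfn]
      norm_cast
      omega
    have haf : a * f ∈ ω.restrictScalars k := hsmul a haA f hfω
    obtain ⟨g', hg', hord'⟩ := PSAlg.approx_step (ω.restrictScalars k) h 0 (a * f)
      (Submodule.zero_mem _) haf (c - 1) hord (by simpa using hh)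
    have hmem : h - g' ∈ A := by
      apply hT
      refine le_trans ?_ hord'
      norm_cast
      omega
    have : h = (h - g') + g' := by ring
    rw [this]
    exact ω.add_mem (hAω _ hmem) hg'
  · intro hn
    by_cases hcn : c ≤ n
    · exact ⟨X ^ n, hAω _ (hT _ (by rw [PowerSeries.order_X_pow]; exact_mod_cast hcn)),
        PowerSeries.order_X_pow n⟩
    have hgapn : c - 1 - n ∉ Γ := hn.resolve_left hcn
    push_neg at hcn
    set m := c - 1 - n with hmdef
    have hm : ¬ ∃ f ∈ A, PowerSeries.order f = (m : ℕ∞) := fun h => hgapn ((hΓ _).mpr h)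
    set L₁ : Submodule ↥A (PowerSeries k) := 1 ⊔ T A (m + 1) with hL₁
    set L₂ : Submodule ↥A (PowerSeries k) := 1 ⊔ T A m with hL₂
    have h1 : (1 : PowerSeries k) ∈ L₁ :=
      Submodule.mem_sup_left (Submodule.mem_one.mpr ⟨1, map_one _⟩)
    have hle : L₁ ≤ L₂ := by
      refine sup_le_sup_left ?_ _
      intro f hf
      rw [mem_T_iff_order] at hf ⊢
      refine le_trans ?_ hf
      exact_mod_cast Nat.le_succ m
    have hne : ¬ L₂ ≤ L₁ := by
      intro hh
      have hX : (X : PowerSeries k) ^ m ∈ L₂ :=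
        Submodule.mem_sup_right ((mem_T A m _).mpr dvd_rfl)
      obtain ⟨a', ha', t', ht', hsum⟩ := Submodule.mem_sup.mp (hh hX)
      obtain ⟨a, rfl⟩ := Submodule.mem_one.mp ha'
      rw [mem_T_iff_order] at ht'
      apply hm
      refine ⟨(a : PowerSeries k), a.2, ?_⟩
      have ha_eq : (a : PowerSeries k) = X ^ m - t' := by
        rw [← hsum]
        simp
      rw [PowerSeries.order_eq_nat]
      constructor
      · rw [ha_eq, map_sub, PowerSeries.coeff_X_pow, if_pos rfl,
          PowerSeries.coeff_of_lt_order m (lt_of_lt_of_le (by exact_mod_cast Nat.lt_succ_self m) ht'),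
          sub_zero]
        exact one_ne_zero
      · intro i hi
        rw [ha_eq, map_sub, PowerSeries.coeff_X_pow, if_neg (ne_of_lt hi),
          PowerSeries.coeff_of_lt_order i (lt_of_lt_of_le
            (by exact_mod_cast (lt_trans hi (Nat.lt_succ_self m))) ht'), sub_zero]
    obtain ⟨g, hgω, hg1, y, hy, hgy⟩ :=
      exists_separating A hA c hT ω hω1 hωfg hωinj L₁ L₂ h1 hle hne
    have hg0 : g ≠ 0 := by
      rintro rfl
      apply hgy
      rw [zero_mul]
      exact ω.zero_mem
    obtain ⟨v, hv⟩ : ∃ v : ℕ, g.order = v := ⟨_, (PowerSeries.coe_toNat_order hg0).symm⟩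
    have hvn : v ≤ n := by
      obtain ⟨a', ha', t', ht', rfl⟩ := Submodule.mem_sup.mp hy
      obtain ⟨a, rfl⟩ := Submodule.mem_one.mp ha'
      rw [mem_T_iff_order] at ht'
      by_contra hlt
      push_neg at hlt
      apply hgy
      rw [mul_add]
      refine ω.add_mem ?_ ?_
      · have : g * algebraMap ↥A (PowerSeries k) a = (a : PowerSeries k) * g := by
          rw [mul_comm]; rfl
        rw [this]
        exact hsmul _ a.2 g hgω
      · apply hAω
        apply hT
        rw [PowerSeries.order_mul, hv]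
        have h2 : ((v + m : ℕ) : ℕ∞) ≤ (v : ℕ∞) + t'.order := by
          push_cast
          exact add_le_add le_rfl ht'
        refine le_trans ?_ h2
        norm_cast
        omega
    have hnv : n ≤ v := by
      by_contra hlt
      push_neg at hlt
      apply hF1
      intro h' hh'
      obtain ⟨r, hr, hrm⟩ := PSDiv.exists_mul_eq_of_order h' g v (m + 1) hv
        (le_trans (by exact_mod_cast (show v + (m + 1) ≤ c - 1 by omega)) hh')
      rw [hr, mul_comm]
      apply hg1
      exact Submodule.mem_sup_right ((mem_T_iff_order A _ _).mpr hrm)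
    refine ⟨g, hgω, ?_⟩
    rw [hv]
    congr 1
    omega

end Groth.Agent.Lib.Helper22.PSCanon
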