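import Mathlib

/-!
# Combinatorics of semigroup modules in `ℕ`
-/

set_option autoImplicit false

namespace Groth.Agent.Lib.Helper22.PSComb

/-- if `Γ + Δ ⊆ Δ` then every `n ≥ δ(Γ) + g(Δ)` lies in `Δ`. -/
theorem mem_of_add_le {Γ Δ : Set ℕ} (hΓfin : Γᶜ.Finite) (hΔfin : Δᶜ.Finite)
    (hadd : ∀ γ ∈ Γ, ∀ d ∈ Δ, γ + d ∈ Δ) (n : ℕ) (hn : Γᶜ.ncard + Δᶜ.ncard ≤ n) : n ∈ Δ := by
  classical
  by_contra hnΔ
  let S : Finset ℕ := (Finset.range (n + 1)).filter (· ∈ Γ)
  let T : Finset ℕ := (Finset.range (n + 1)).filter (· ∉ Γ)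
  have hST : S.card + T.card = n + 1 := by
    have := Finset.card_filter_add_card_filter_not (s := Finset.range (n + 1)) (· ∈ Γ)
    rw [Finset.card_range] at this
    exact this
  have hT : T.card ≤ Γᶜ.ncard := by
    rw [← Set.ncard_coe_finset T]
    apply Set.ncard_le_ncard _ hΓfin
    intro x hx
    have := (Finset.mem_filter.mp (Finset.mem_coe.mp hx)).2
    exact this
  have hS : S.card ≤ Δᶜ.ncard := by
    have hinj : Set.InjOn (fun γ => n - γ) (S : Set ℕ) := by
      intro a ha b hb hab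
      have ha' := Finset.mem_range.mp (Finset.mem_filter.mp (Finset.mem_coe.mp ha)).1
      have hb' := Finset.mem_range.mp (Finset.mem_filter.mp (Finset.mem_coe.mp hb)).1
      simp only at hab
      omega
    rw [← Finset.card_image_of_injOn hinj, ← Set.ncard_coe_finset]
    apply Set.ncard_le_ncard _ hΔfin
    intro x hx
    obtain ⟨γ, hγ, rfl⟩ := Finset.mem_image.mp (Finset.mem_coe.mp hx)
    have hγ1 := Finset.mem_range.mp (Finset.mem_filter.mp hγ).1
    have hγ2 : γ ∈ Γ := (Finset.mem_filter.mp hγ).2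
    intro hmem
    apply hnΔ
    have := hadd γ hγ2 _ hmem
    rwa [Nat.add_sub_cancel' (by omega)] at this
  omega

/-- the complement of a shifted set. -/
theorem ncard_compl_shift (Δ : Set ℕ) (hΔfin : Δᶜ.Finite) (ℓ : ℕ) :
    (((fun d => ℓ + d) '' Δ)ᶜ).Finite ∧ (((fun d => ℓ + d) '' Δ)ᶜ).ncard = ℓ + Δᶜ.ncard := by
  have heq : ((fun d => ℓ + d) '' Δ)ᶜ = Set.Iio ℓ ∪ (fun d => ℓ + d) '' Δᶜ := by
    ext n
    simp only [Set.mem_compl_iff, Set.mem_image, not_exists, not_and, Set.mem_union, Set.mem_Iio]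
    constructor
    · intro h
      by_cases hn : n < ℓ
      · exact Or.inl hn
      · refine Or.inr ⟨n - ℓ, fun hmem => h (n - ℓ) hmem (by omega), by omega⟩
    · rintro (h | ⟨d, hd, rfl⟩) x hx hxe
      · omega
      · have : x = d := by omega
        exact hd (this ▸ hx)
  have hfin2 : ((fun d => ℓ + d) '' Δᶜ).Finite := hΔfin.image _
  have hdisj : Disjoint (Set.Iio ℓ) ((fun d => ℓ + d) '' Δᶜ) := by
    rw [Set.disjoint_left]
    rintro n hn ⟨d, -, rfl⟩
    simp only [Set.mem_Iio] at hn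
    omega
  refine ⟨heq ▸ (Set.finite_Iio ℓ).union hfin2, ?_⟩
  rw [heq, Set.ncard_union_eq hdisj (Set.finite_Iio ℓ) hfin2, Set.ncard_Iio_nat,
    Set.ncard_image_of_injective _ (fun a b hab => by simpa using hab)]

end Groth.Agent.Lib.Helper22.PSComb
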