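import Mathlib
import Groth.Agent.Lib.Helper22.PSAlg

/-!
# Value sets of subspaces of `k[[t]]` containing a power of the maximal ideal
-/

set_option autoImplicit false
universe u
open PowerSeries

namespace Groth.Agent.Lib.Helper22.PSVal

variable {k : Type u} [Field k]

/-- finite successive approximation: if all `n ∈ [a, c)` are orders of elements of `L` and `L`
contains all series of order `≥ c`, then `L` contains all series of order `≥ a`. -/
theorem mem_of_le_order (L : Submodule k (PowerSeries k)) (c : ℕ)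
    (hc : ∀ h : PowerSeries k, (c : ℕ∞) ≤ PowerSeries.order h → h ∈ L) (a : ℕ)
    (ha : ∀ n, a ≤ n → ∃ f ∈ L, PowerSeries.order f = n)
    (h : PowerSeries k) (hh : (a : ℕ∞) ≤ PowerSeries.order h) : h ∈ L := by
  have happrox : ∀ n : ℕ, ∃ w ∈ L, (n : ℕ∞) ≤ PowerSeries.order (h - w) := by
    intro n
    induction n with
    | zero => exact ⟨0, L.zero_mem, by simp⟩
    | succ n ih =>
      obtain ⟨w, hw, hwn⟩ := ih
      rcases Nat.lt_or_ge n a with hlt | hge
      · refine ⟨0, L.zero_mem, ?_⟩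
        rw [sub_zero]
        exact le_trans (by exact_mod_cast hlt) hh
      · obtain ⟨f, hf, hfn⟩ := ha n hge
        exact Groth.Agent.Lib.Helper22.PSAlg.approx_step L h w f hw hf n hfn hwn
  obtain ⟨w, hw, hwc⟩ := happrox c
  have : h = (h - w) + w := by ring
  rw [this]
  exact L.add_mem (hc _ hwc) hw

/-- the codimension of a subspace containing `t^c k[[t]]` is the number of gaps of its value
set. -/
theorem finrank_quotient_eq (L : Submodule k (PowerSeries k)) (c : ℕ)
    (hc : ∀ h : PowerSeries k, (c : ℕ∞) ≤ PowerSeries.order h → h ∈ L) (Δ : Set ℕ)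
    (hΔ : ∀ n : ℕ, n ∈ Δ ↔ ∃ f ∈ L, PowerSeries.order f = n) :
    Δᶜ.Finite ∧ Module.finrank k (PowerSeries k ⧸ L) = Δᶜ.ncard := by
  classical
  have hcΔ : ∀ n, c ≤ n → n ∈ Δ := by
    intro n hn
    rw [hΔ]
    refine ⟨PowerSeries.X ^ n, hc _ ?_, PowerSeries.order_X_pow n⟩
    rw [PowerSeries.order_X_pow]
    exact_mod_cast hn
  have hfin : Δᶜ.Finite := by
    apply (Set.finite_lt_nat c).subset
    intro n hn
    by_contra h
    exact hn (hcΔ n (by simpa using h))
  refine ⟨hfin, ?_⟩
  letI : Fintype ↥(Δᶜ) := hfin.fintype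
  let v : ↥(Δᶜ) → PowerSeries k := fun g => PowerSeries.X ^ (g : ℕ)
  let ψ : (↥(Δᶜ) → k) →ₗ[k] PowerSeries k := Fintype.linearCombination k v
  have hψ : ∀ l : ↥(Δᶜ) → k, ψ l = ∑ g, l g • v g := fun l => Fintype.linearCombination_apply k v l
  have hcoeff : ∀ (l : ↥(Δᶜ) → k) (n : ℕ),
      PowerSeries.coeff n (ψ l) = if h : n ∈ Δᶜ then l ⟨n, h⟩ else 0 := by
    intro l n
    rw [hψ, map_sum]
    simp only [v, PowerSeries.coeff_smul, PowerSeries.coeff_X_pow, smul_eq_mul, mul_ite, mul_one,
      mul_zero]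
    split_ifs with h
    · rw [Finset.sum_eq_single ⟨n, h⟩]
      · simp
      · intro b _ hb
        rw [if_neg]
        intro h2; apply hb; exact Subtype.ext h2.symm
      · intro h2; exact absurd (Finset.mem_univ _) h2
    · apply Finset.sum_eq_zero
      intro b _
      rw [if_neg]
      intro h2; apply h; rw [h2]; exact b.2
  let φ : (↥(Δᶜ) → k) →ₗ[k] (PowerSeries k ⧸ L) := L.mkQ ∘ₗ ψ
  have hinj : Function.Injective φ := by
    rw [← LinearMap.ker_eq_bot, eq_bot_iff]
    intro l hl
    rw [LinearMap.mem_ker, LinearMap.comp_apply, Submodule.mkQ_apply,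
      Submodule.Quotient.mk_eq_zero] at hl
    rw [Submodule.mem_bot]
    by_contra hne
    have hψ0 : ψ l ≠ 0 := by
      intro h0
      apply hne
      funext g
      have := hcoeff l g
      rw [h0, map_zero, dif_pos g.2] at this
      exact this.symm
    have h1 := PowerSeries.coeff_order hψ0
    rw [hcoeff] at h1
    split_ifs at h1 with h2
    · apply h2
      rw [hΔ]
      exact ⟨ψ l, hl, (PowerSeries.coe_toNat_order hψ0).symm⟩
    · exact h1 rfl
  have hsurj : Function.Surjective φ := by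
    intro q
    obtain ⟨h, rfl⟩ := Submodule.Quotient.mk_surjective _ q
    let W : Submodule k (PowerSeries k) := L ⊔ LinearMap.range ψ
    have hWord : ∀ n : ℕ, ∃ a ∈ W, PowerSeries.order a = n := by
      intro n
      by_cases hn : n ∈ Δ
      · obtain ⟨a, ha, han⟩ := (hΔ n).mp hn
        exact ⟨a, Submodule.mem_sup_left ha, han⟩
      · refine ⟨PowerSeries.X ^ n, Submodule.mem_sup_right ⟨Pi.single ⟨n, hn⟩ 1, ?_⟩,
          PowerSeries.order_X_pow n⟩
        rw [hψ, Finset.sum_eq_single ⟨n, hn⟩]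
        · simp [v]
        · intro b _ hb; rw [Pi.single_eq_of_ne hb, zero_smul]
        · intro h2; exact absurd (Finset.mem_univ _) h2
    have happrox : ∀ n : ℕ, ∃ w ∈ W, (n : ℕ∞) ≤ PowerSeries.order (h - w) := by
      intro n
      induction n with
      | zero => exact ⟨0, W.zero_mem, by simp⟩
      | succ n ih =>
        obtain ⟨w, hw, hwn⟩ := ih
        obtain ⟨a, ha, han⟩ := hWord n
        exact Groth.Agent.Lib.Helper22.PSAlg.approx_step W h w a hw ha n han hwn
    obtain ⟨w, hw, hwc⟩ := happrox c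
    have hrest : h - w ∈ L := hc _ hwc
    obtain ⟨a, ha, y, ⟨l, rfl⟩, hay⟩ := Submodule.mem_sup.mp hw
    refine ⟨l, ?_⟩
    rw [LinearMap.comp_apply, Submodule.mkQ_apply, Submodule.Quotient.eq]
    have : ψ l - h = -((h - w) + a) := by rw [← hay]; ring
    rw [this]
    exact Submodule.neg_mem _ (Submodule.add_mem _ hrest ha)
  have e : (↥(Δᶜ) → k) ≃ₗ[k] (PowerSeries k ⧸ L) := LinearEquiv.ofBijective φ ⟨hinj, hsurj⟩
  rw [← e.finrank_eq, Module.finrank_fintype_fun_eq_card, ← Nat.card_eq_fintype_card]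
  rfl

end Groth.Agent.Lib.Helper22.PSVal
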