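import Mathlib
import Groth.Agent.Lib.Helper22.PSVal
import Groth.Agent.Lib.Helper22.PSComb
import Groth.Agent.Lib.Helper22.PSDiv
import Groth.Agent.Lib.Helper22.TFCurv5

/-!
# Rank one torsion-free modules over a monomial curve singularity
-/

set_option autoImplicit false
set_option linter.style.haveILetI false

universe u

open PowerSeries TensorProduct

namespace Groth.Agent.Lib.Helper22.PSRank1

theorem finrank_tensor_eq (O : Type u) [CommRing O] [IsDomain O] (K : Type u) [Field K]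
    [Algebra O K] [IsFractionRing O K] (M : Type u) [AddCommGroup M] [Module O M] :
    Module.finrank K (K ⊗[O] M) = Module.finrank O M := by
  rw [IsFractionRing.finrank_right_eq (R := O) (S := K)]
  exact IsLocalizedModule.finrank_eq (nonZeroDivisors O) (TensorProduct.mk O K M 1) le_rfl

variable {k : Type u} [Field k] (A : Subalgebra k (PowerSeries k))

theorem smul_eq_mul' (a : ↥A) (f : PowerSeries k) : a • f = (a : PowerSeries k) * f := rfl

theorem main (Γ : Set ℕ) (hΓ : ∀ n : ℕ, n ∈ Γ ↔ ∃ f ∈ A, PowerSeries.order f = n)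
    (hΓfin : Γᶜ.Finite)
    (hmono : ∀ f : PowerSeries k, f ∈ A ↔ ∀ n : ℕ, PowerSeries.coeff n f ≠ 0 → n ∈ Γ)
    (M : Type u) [AddCommGroup M] [Module ↥A M] [Module.Finite ↥A M] [NoZeroSMulDivisors ↥A M]
    (hrk : Module.finrank ↥A M = 1) :
    ∃ M' : Submodule ↥A (PowerSeries k),
      (Ideal.span {(PowerSeries.X : PowerSeries k) ^ (2 * Γᶜ.ncard)}).restrictScalars ↥A ≤ M' ∧
      Nonempty (M ≃ₗ[↥A] ↥M') ∧
      Module.finrank k (PowerSeries k ⧸ M'.restrictScalars k) = Γᶜ.ncard := by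
  classical
  -- 1. embedding
  obtain ⟨n, hn, f, hf⟩ : ∃ n, n = 1 ∧ ∃ f : M →ₗ[↥A] (Fin n → ↥A), Function.Injective f :=
    ⟨_, hrk, Groth.Agent.Lib.Helper22.TFCurv5.exists_injective_to_free' ↥A M⟩
  subst hn
  let j : M →ₗ[↥A] PowerSeries k :=
    (Algebra.linearMap ↥A (PowerSeries k)) ∘ₗ (LinearMap.proj (0 : Fin 1)) ∘ₗ f
  have hj : Function.Injective j := by
    intro a b hab
    apply hf
    funext i
    have h0 : i = 0 := Subsingleton.elim _ _
    subst h0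
    exact Subtype.ext hab
  set M₁ : Submodule ↥A (PowerSeries k) := LinearMap.range j with hM₁
  -- 2. nonzero element
  haveI : Nontrivial M := by
    by_contra h
    rw [not_nontrivial_iff_subsingleton] at h
    rw [Module.finrank_zero_of_subsingleton] at hrk
    exact zero_ne_one hrk
  obtain ⟨m, hm⟩ := exists_ne (0 : M)
  have hjm : j m ≠ 0 := fun h => hm (hj (h.trans (map_zero j).symm))
  have hex : ∃ n : ℕ, ∃ g ∈ M₁, PowerSeries.order g = n :=
    ⟨_, j m, ⟨m, rfl⟩, (PowerSeries.coe_toNat_order hjm).symm⟩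
  -- 3. minimal order
  set v := Nat.find hex with hv
  obtain ⟨g₀, hg₀M, hg₀v⟩ := Nat.find_spec hex
  have hmin : ∀ g ∈ M₁, (v : ℕ∞) ≤ PowerSeries.order g := by
    intro g hg
    by_cases hg0 : g = 0
    · rw [hg0, PowerSeries.order_zero]; exact le_top
    · rw [← PowerSeries.coe_toNat_order hg0]
      exact_mod_cast Nat.find_min' hex ⟨g, hg, (PowerSeries.coe_toNat_order hg0).symm⟩
  -- 4. divide by `X^v`
  let μ : PowerSeries k →ₗ[↥A] PowerSeries k := LinearMap.mulLeft ↥A ((X : PowerSeries k) ^ v)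
  have hμ : Function.Injective μ := by
    intro a b hab
    exact mul_left_cancel₀ (pow_ne_zero v PowerSeries.X_ne_zero) hab
  set M₀ : Submodule ↥A (PowerSeries k) := M₁.comap μ with hM₀
  have hmap : M₀.map μ = M₁ := by
    apply le_antisymm
    · rintro _ ⟨q, hq, rfl⟩
      exact hq
    · intro g hg
      obtain ⟨q, rfl⟩ := Groth.Agent.Lib.Helper22.PSDiv.X_pow_dvd_of_le_order g v (hmin g hg)
      exact ⟨q, hg, rfl⟩
  let e0 : M ≃ₗ[↥A] ↥M₁ := LinearEquiv.ofInjective j hj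
  let e1 : ↥M₀ ≃ₗ[↥A] ↥M₁ :=
    (Submodule.equivMapOfInjective μ hμ M₀).trans (LinearEquiv.ofEq _ _ hmap)
  -- 5. a unit in `M₀`
  obtain ⟨u, hu⟩ := Groth.Agent.Lib.Helper22.PSDiv.X_pow_dvd_of_le_order g₀ v (hmin g₀ hg₀M)
  have huM : u ∈ M₀ := by
    show μ u ∈ M₁
    rw [show μ u = g₀ from hu.symm]
    exact hg₀M
  have hu0 : PowerSeries.order u = 0 := by
    have h1 : PowerSeries.order g₀ = (v : ℕ∞) + PowerSeries.order u := by
      rw [hu, PowerSeries.order_mul, PowerSeries.order_X_pow]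
    rw [hg₀v] at h1
    have hne : PowerSeries.order u ≠ ⊤ := by
      intro h
      rw [h] at h1
      simp at h1
    obtain ⟨w, hw⟩ := ENat.ne_top_iff_exists.mp hne
    rw [← hw] at h1 ⊢
    have : v = v + w := by exact_mod_cast h1
    have : w = 0 := by omega
    rw [this]; rfl
  -- 6. conductor bound
  obtain ⟨b, hb⟩ := hΓfin.bddAbove
  set c₀ := b + 1 with hc₀
  have hΓc : ∀ n, c₀ ≤ n → n ∈ Γ := by
    intro n hn
    by_contra h
    have := hb h
    omega
  have hAc : ∀ h : PowerSeries k, (c₀ : ℕ∞) ≤ PowerSeries.order h → h ∈ A := by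
    intro h hh
    rw [hmono]
    intro n hn
    apply hΓc
    by_contra hlt
    exact hn (PowerSeries.coeff_of_lt_order n (lt_of_lt_of_le (by exact_mod_cast not_le.mp hlt) hh))
  have hM0c : ∀ h : PowerSeries k, (c₀ : ℕ∞) ≤ PowerSeries.order h → h ∈ M₀ := by
    intro h hh
    obtain ⟨r, hr, hrc⟩ := Groth.Agent.Lib.Helper22.PSDiv.exists_mul_eq_of_order h u 0 c₀
      (by rw [hu0]; rfl) (by rwa [zero_add])
    rw [hr, ← smul_eq_mul' A ⟨r, hAc r hrc⟩ u]
    exact M₀.smul_mem _ huM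
  -- 7. value set
  set Δ : Set ℕ := {n | ∃ g ∈ M₀, PowerSeries.order g = n} with hΔ
  have hadd : ∀ γ ∈ Γ, ∀ d ∈ Δ, γ + d ∈ Δ := by
    rintro γ hγ d ⟨g, hg, hgd⟩
    obtain ⟨a, ha, haγ⟩ := (hΓ γ).mp hγ
    refine ⟨(⟨a, ha⟩ : ↥A) • g, M₀.smul_mem _ hg, ?_⟩
    rw [smul_eq_mul' A ⟨a, ha⟩ g, PowerSeries.order_mul, haγ, hgd]
    rfl
  have h0Δ : (0 : ℕ) ∈ Δ := ⟨u, huM, by rw [hu0]; rfl⟩
  have hΓΔ : Γ ⊆ Δ := fun γ hγ => by simpa using hadd γ hγ 0 h0Δ
  obtain ⟨hΔfin, hΔrank⟩ := Groth.Agent.Lib.Helper22.PSVal.finrank_quotient_eq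
    (M₀.restrictScalars k) c₀ hM0c Δ (fun n => Iff.rfl)
  have hle : Δᶜ.ncard ≤ Γᶜ.ncard :=
    Set.ncard_le_ncard (Set.compl_subset_compl.mpr hΓΔ) hΓfin
  have hbig : ∀ n, Γᶜ.ncard + Δᶜ.ncard ≤ n → n ∈ Δ :=
    fun n hn => Groth.Agent.Lib.Helper22.PSComb.mem_of_add_le hΓfin hΔfin hadd n hn
  set δ := Γᶜ.ncard with hδ
  set g := Δᶜ.ncard with hg
  set ℓ := δ - g with hℓ
  -- 8. the shifted module
  let μ' : PowerSeries k →ₗ[↥A] PowerSeries k := LinearMap.mulLeft ↥A ((X : PowerSeries k) ^ ℓ)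
  have hμ' : Function.Injective μ' := by
    intro a b hab
    exact mul_left_cancel₀ (pow_ne_zero ℓ PowerSeries.X_ne_zero) hab
  refine ⟨M₀.map μ', ?_, ⟨e0.trans (e1.symm.trans (Submodule.equivMapOfInjective μ' hμ' M₀))⟩, ?_⟩
  · intro x hx
    have hx' : x ∈ Ideal.span {(X : PowerSeries k) ^ (2 * δ)} := hx
    obtain ⟨h', rfl⟩ := Ideal.mem_span_singleton.mp hx'
    have hsplit : (X : PowerSeries k) ^ (2 * δ) * h' = μ' (X ^ (δ + g) * h') := by
      show _ = X ^ ℓ * (X ^ (δ + g) * h')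
      rw [← mul_assoc, ← pow_add]
      congr 2
      omega
    rw [hsplit]
    refine ⟨_, ?_, rfl⟩
    refine Groth.Agent.Lib.Helper22.PSVal.mem_of_le_order (M₀.restrictScalars k) c₀ hM0c (δ + g)
      (fun n hn => hbig n hn) _ ?_
    rw [PowerSeries.order_mul, PowerSeries.order_X_pow]
    exact le_self_add
  · -- 9. the dimension
    set Δ' : Set ℕ := (fun d => ℓ + d) '' Δ with hΔ'
    have hc' : ∀ h : PowerSeries k, ((c₀ + ℓ : ℕ) : ℕ∞) ≤ PowerSeries.order h →
        h ∈ (M₀.map μ').restrictScalars k := by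
      intro h hh
      obtain ⟨r, hr, hrc⟩ := Groth.Agent.Lib.Helper22.PSDiv.exists_mul_eq_of_order h
        ((X : PowerSeries k) ^ ℓ) ℓ c₀ (PowerSeries.order_X_pow ℓ) (by rwa [add_comm])
      refine ⟨r, hM0c r hrc, ?_⟩
      show X ^ ℓ * r = h
      rw [hr, mul_comm]
    have hΔ'iff : ∀ n : ℕ, n ∈ Δ' ↔ ∃ f ∈ (M₀.map μ').restrictScalars k,
        PowerSeries.order f = n := by
      intro n
      constructor
      · rintro ⟨d, ⟨q, hq, hqd⟩, rfl⟩
        refine ⟨μ' q, ⟨q, hq, rfl⟩, ?_⟩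
        show PowerSeries.order (X ^ ℓ * q) = _
        rw [PowerSeries.order_mul, PowerSeries.order_X_pow, hqd]
        rfl
      · rintro ⟨_, ⟨q, hq, rfl⟩, hqn⟩
        have h1 : PowerSeries.order (X ^ ℓ * q) = (ℓ : ℕ∞) + PowerSeries.order q := by
          rw [PowerSeries.order_mul, PowerSeries.order_X_pow]
        have hqn' : PowerSeries.order (X ^ ℓ * q) = n := hqn
        rw [h1] at hqn'
        have hne : PowerSeries.order q ≠ ⊤ := by
          intro h
          rw [h] at hqn'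
          simp at hqn'
        obtain ⟨w, hw⟩ := ENat.ne_top_iff_exists.mp hne
        rw [← hw] at hqn'
        refine ⟨w, ⟨q, hq, hw.symm⟩, ?_⟩
        exact_mod_cast hqn'
    obtain ⟨-, hrank'⟩ := Groth.Agent.Lib.Helper22.PSVal.finrank_quotient_eq
      ((M₀.map μ').restrictScalars k) (c₀ + ℓ) hc' Δ' hΔ'iff
    rw [hrank', (Groth.Agent.Lib.Helper22.PSComb.ncard_compl_shift Δ hΔfin ℓ).2]
    omega

end Groth.Agent.Lib.Helper22.PSRank1
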