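import Mathlib
import Groth.Agent.Lib.Helper14.ComplQuot
import Groth.Agent.Lib.Helper14.ComplUnram

/-!
# A local endomorphism of a Noetherian local ring which is unramified with trivial residue
extension is flat (helper22)
-/

set_option autoImplicit false
universe u

namespace Groth.Agent.Lib.Helper22.PowEt

open IsLocalRing Groth.Agent.Lib.Helper14 Groth.Agent.Lib.Helper14.ComplFlat

/-- a surjective endomorphism of a Noetherian ring is injective -/
theorem injective_of_surjective_endo {R : Type u} [CommRing R] [IsNoetherianRing R]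
    (f : R →+* R) (hf : Function.Surjective f) : Function.Injective f := by
  let K : ℕ →o Ideal R :=
    ⟨fun n => RingHom.ker (f ^ n), fun m n hmn x hx => by
      rw [RingHom.mem_ker] at hx ⊢
      obtain ⟨d, rfl⟩ := Nat.exists_eq_add_of_le hmn
      rw [add_comm, pow_add, RingHom.mul_def, RingHom.comp_apply, hx, map_zero]⟩
  obtain ⟨n, hn⟩ := monotone_stabilizes_iff_noetherian.mpr inferInstance K
  have hsurj : ∀ m : ℕ, Function.Surjective (f ^ m) := by
    intro m
    induction m with
    | zero => exact fun x => ⟨x, rfl⟩
    | succ m ih =>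
      rw [pow_succ, RingHom.mul_def]
      exact ih.comp hf
  rw [injective_iff_map_eq_zero]
  intro x hx
  obtain ⟨y, rfl⟩ := hsurj n x
  have h1 : y ∈ K (n + 1) := by
    change y ∈ RingHom.ker (f ^ (n + 1))
    rw [RingHom.mem_ker, pow_succ', RingHom.mul_def, RingHom.comp_apply]
    exact hx
  rw [← hn (n + 1) (Nat.le_succ n)] at h1
  exact RingHom.mem_ker.mp h1

section
variable (A B : Type u) [CommRing A] [CommRing B]
    [IsLocalRing A] [IsLocalRing B] [IsNoetherianRing A] [IsNoetherianRing B] [Algebra A B]
    [IsLocalHom (algebraMap A B)]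

theorem cplMap_surjective_of_unramified
    (hm : (maximalIdeal A).map (algebraMap A B) = maximalIdeal B)
    (hres : ∀ b : B, ∃ a : A, b - algebraMap A B a ∈ maximalIdeal B) :
    Function.Surjective (cplMap A B) := by
  have hmap : (maximalIdeal (AdicCompletion (maximalIdeal A) A)).map (cplMap A B) =
      maximalIdeal (AdicCompletion (maximalIdeal B) B) := by
    rw [ComplUnram.map_maximalIdeal A B (cplMap A B) (cplMap_comp A B), hm,
      ← AdicCompletion.maximalIdeal_eq_map (R := B)]
  haveI h1 : IsPrecomplete (maximalIdeal (AdicCompletion (maximalIdeal A) A))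
      (AdicCompletion (maximalIdeal A) A) := by
    have := AdicCompletion.isAdicComplete_self (maximalIdeal A) (IsNoetherian.noetherian _)
    rw [← AdicCompletion.maximalIdeal_eq_map (R := A)] at this
    exact this.toIsPrecomplete
  haveI h2 : IsHausdorff ((maximalIdeal (AdicCompletion (maximalIdeal A) A)).map (cplMap A B))
      (AdicCompletion (maximalIdeal B) B) := by
    rw [hmap]
    have := AdicCompletion.isAdicComplete_self (maximalIdeal B) (IsNoetherian.noetherian _)
    rw [← AdicCompletion.maximalIdeal_eq_map (R := B)] at this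
    exact this.toIsHausdorff
  apply surjective_of_mk_map_comp_surjective
    (I := maximalIdeal (AdicCompletion (maximalIdeal A) A)) (cplMap A B)
  intro y
  obtain ⟨y0, rfl⟩ := Ideal.Quotient.mk_surjective y
  obtain ⟨b, hb⟩ := ComplQuot.exists_sub_mem_maximalIdeal B y0
  obtain ⟨a, ha⟩ := hres b
  refine ⟨algebraMap A (AdicCompletion (maximalIdeal A) A) a, ?_⟩
  rw [RingHom.comp_apply]
  have h3 := DFunLike.congr_fun (cplMap_comp A B) a
  simp only [RingHom.comp_apply] at h3
  rw [h3, Ideal.Quotient.eq, hmap]
  have h4 : algebraMap B (AdicCompletion (maximalIdeal B) B) (b - algebraMap A B a) ∈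
      maximalIdeal (AdicCompletion (maximalIdeal B) B) := by
    rw [AdicCompletion.maximalIdeal_eq_map (R := B)]
    exact Ideal.mem_map_of_mem _ ha
  have : algebraMap B (AdicCompletion (maximalIdeal B) B) (algebraMap A B a) - y0 =
      -((y0 - algebraMap B (AdicCompletion (maximalIdeal B) B) b) +
        algebraMap B (AdicCompletion (maximalIdeal B) B) (b - algebraMap A B a)) := by
    rw [map_sub]; ring
  rw [this]
  exact neg_mem (add_mem hb h4)

end

/-- the ring `A` as an algebra over itself via `φ` -/
def Tw {A : Type u} [CommRing A] (_φ : A →+* A) : Type u := A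

section Tw
variable {A : Type u} [CommRing A] (φ : A →+* A)

instance : CommRing (Tw φ) := inferInstanceAs (CommRing A)
instance [IsLocalRing A] : IsLocalRing (Tw φ) := inferInstanceAs (IsLocalRing A)
instance [IsNoetherianRing A] : IsNoetherianRing (Tw φ) := inferInstanceAs (IsNoetherianRing A)
instance : Algebra A (Tw φ) := RingHom.toAlgebra (show A →+* Tw φ from φ)

theorem Tw.algebraMap_eq : (algebraMap A (Tw φ) : A →+* Tw φ) = (show A →+* Tw φ from φ) := rfl

instance [IsLocalRing A] [IsLocalHom φ] : IsLocalHom (algebraMap A (Tw φ)) :=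
  inferInstanceAs (IsLocalHom φ)

end Tw

theorem flat_of_endo (A : Type u) [CommRing A] [IsLocalRing A] [IsNoetherianRing A]
    (φ : A →+* A) [IsLocalHom φ]
    (hm : (maximalIdeal A).map φ = maximalIdeal A)
    (hres : ∀ b : A, ∃ a : A, b - φ a ∈ maximalIdeal A) : φ.Flat := by
  have hs : Function.Surjective (cplMap A (Tw φ)) :=
    cplMap_surjective_of_unramified A (Tw φ) hm hres
  have hi : Function.Injective (cplMap A (Tw φ)) := by
    haveI : IsNoetherianRing (AdicCompletion (maximalIdeal A) A) :=
      ComplEtale.isNoetherianRing_completion A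
    exact injective_of_surjective_endo
      (R := AdicCompletion (maximalIdeal A) A) (cplMap A (Tw φ)) hs
  have hflat : (cplMap A (Tw φ)).Flat := RingHom.Flat.of_bijective ⟨hi, hs⟩
  have := ComplEtale.flat_of_flat_completion A (Tw φ) (cplMap A (Tw φ)) (cplMap_comp A (Tw φ)) hflat
  exact this


/-- A local homomorphism `θ : A → B` of Noetherian local rings with `B ≅ A` abstractly, with
`𝔪_A B = 𝔪_B` and trivial residue field extension, is flat. -/
theorem flat_of_ringEquiv (A B : Type u) [CommRing A] [CommRing B] [IsLocalRing A] [IsLocalRing B]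
    [IsNoetherianRing A] (θ : A →+* B) [IsLocalHom θ] (ι : B ≃+* A)
    (hm : (maximalIdeal A).map θ = maximalIdeal B)
    (hres : ∀ b : B, ∃ a : A, b - θ a ∈ maximalIdeal B) : θ.Flat := by
  let φ : A →+* A := (ι : B →+* A).comp θ
  haveI : IsLocalHom (ι : B →+* A) := by
    refine ⟨fun b hb => ?_⟩
    have := hb.map (ι.symm : A →+* B)
    simpa using this
  haveI : IsLocalHom φ := RingHom.isLocalHom_comp _ _
  have hι : (maximalIdeal B).map (ι : B →+* A) = maximalIdeal A := by
    apply le_antisymm
    · rw [Ideal.map_le_iff_le_comap]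
      intro b hb
      rw [Ideal.mem_comap, mem_maximalIdeal, mem_nonunits_iff]
      intro hu
      exact hb (isUnit_of_map_unit (ι : B →+* A) b hu)
    · intro a ha
      have h1 : ι.symm a ∈ maximalIdeal B := by
        rw [mem_maximalIdeal, mem_nonunits_iff]
        intro hu
        apply ha
        have := hu.map (ι : B →+* A)
        simpa using this
      have h2 := Ideal.mem_map_of_mem (ι : B →+* A) h1
      simpa using h2
  have hφ : φ.Flat := by
    apply flat_of_endo A φ
    · rw [← Ideal.map_map, hm, hι]
    · intro a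
      obtain ⟨a', ha'⟩ := hres (ι.symm a)
      refine ⟨a', ?_⟩
      have h2 := Ideal.mem_map_of_mem (ι : B →+* A) ha'
      rw [hι] at h2
      simpa [φ] using h2
  have hθ : θ = (ι.symm : A →+* B).comp φ := by
    ext a
    simp [φ]
  rw [hθ]
  exact RingHom.Flat.comp hφ (RingHom.Flat.of_bijective ι.symm.bijective)

end Groth.Agent.Lib.Helper22.PowEt
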