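import Mathlib
import Groth.Agent.Lib.Helper22.LieGenJ

set_option autoImplicit false
universe u
open CategoryTheory AlgebraicGeometry MonObj Limits MonoidalCategory CartesianMonoidalCategory

noncomputable section
namespace Groth.Agent.Lib.Helper22.PowEt

open Groth.Agent.Lib.Helper22.LieGen

section Cot
variable (K : Type u) [Field K] (G : Over (Spec (CommRingCat.of K))) [GrpObj G]
  {U₁ U₂ : G.left.Opens} (hU₁ : IsAffineOpen U₁) (hU₂ : IsAffineOpen U₂)
  (a₁ : Γ(G.left, U₁) ⟶ CommRingCat.of K) (j₁ : CommRingCat.of K ⟶ Γ(G.left, U₁))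
  (ha₁ : η[G].left = Spec.map a₁ ≫ hU₁.fromSpec) (hj₁ : Spec.map j₁ = hU₁.fromSpec ≫ G.hom)
  (a₂ : Γ(G.left, U₂) ⟶ CommRingCat.of K) (j₂ : CommRingCat.of K ⟶ Γ(G.left, U₂))
  (ha₂ : η[G].left = Spec.map a₂ ≫ hU₂.fromSpec) (hj₂ : Spec.map j₂ = hU₂.fromSpec ≫ G.hom)

theorem unit_comp_pow (n : ℕ) : η[G] ≫ (𝟙 G ^ n) = η[G] := by
  rw [MonObj.comp_pow, Category.comp_id]
  have h1 : (η[G] : 𝟙_ _ ⟶ G) = 1 := by
    rw [Hom.one_def]
    have : toUnit (𝟙_ (Over (Spec (CommRingCat.of K)))) = 𝟙 _ := Subsingleton.elim _ _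
    rw [this, Category.id_comp]
  rw [h1, one_pow]

include ha₁ hj₁ ha₂ hj₂ in
/-- the `n`-th power map induces a surjection on cotangent spaces at the unit when `n` is
invertible in `K` -/
theorem ker_le_map_sup_sq (n : ℕ) (hn : (n : K) ≠ 0) (hle : U₁ ≤ (𝟙 G ^ n : G ⟶ G).left ⁻¹ᵁ U₂)
    (haj₁ : j₁ ≫ a₁ = 𝟙 _) (haj₂ : j₂ ≫ a₂ = 𝟙 _) :
    RingHom.ker a₁.hom ≤
      Ideal.map ((𝟙 G ^ n : G ⟶ G).left.appLE U₂ U₁ hle).hom (RingHom.ker a₂.hom) ⊔
        RingHom.ker a₁.hom ^ 2 := by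
  set χ : G ⟶ G := 𝟙 G ^ n with hχdef
  have hχ : η[G] ≫ χ = η[G] := unit_comp_pow K G n
  set c := χ.left.appLE U₂ U₁ hle with hc
  have hca := appLE_comp_aug K G G χ hU₁ hU₂ hle a₁ ha₁ a₂ ha₂ hχ
  have hjc := coaug_comp_appLE K G G χ hU₁ hU₂ hle j₁ hj₁ j₂ hj₂
  have haj₂' : ∀ l, a₂.hom (j₂.hom l) = l := by
    intro l
    have := congrArg (fun t => t.hom l) haj₂
    simpa using this
  have haj₁' : ∀ l, a₁.hom (j₁.hom l) = l := by
    intro l
    have := congrArg (fun t => t.hom l) haj₁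
    simpa using this
  have hca' : ∀ y, a₁.hom (c.hom y) = a₂.hom y := by
    intro y
    have := congrArg (fun t => t.hom y) hca
    simpa using this
  have hjc' : ∀ l, c.hom (j₂.hom l) = j₁.hom l := by
    intro l
    have := congrArg (fun t => t.hom l) hjc
    simpa using this
  set J : Ideal Γ(G.left, U₁) := Ideal.map c.hom (RingHom.ker a₂.hom) ⊔ RingHom.ker a₁.hom ^ 2
    with hJ
  have hJle : J ≤ RingHom.ker a₁.hom := by
    rw [hJ]
    refine sup_le ?_ (Ideal.pow_le_self two_ne_zero)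
    rw [Ideal.map_le_iff_le_comap]
    intro y hy
    rw [Ideal.mem_comap, RingHom.mem_ker, hca']
    exact hy
  let q : Γ(G.left, U₁) →+* (Γ(G.left, U₁) ⧸ J) := Ideal.Quotient.mk J
  let φR : (Γ(G.left, U₁) ⧸ J) →+* K := Ideal.Quotient.lift J a₁.hom (fun x hx => hJle hx)
  have hφq : ∀ x, φR (q x) = a₁.hom x := fun x => Ideal.Quotient.lift_mk J a₁.hom _
  have hφsurj : Function.Surjective φR := by
    intro l
    exact ⟨q (j₁.hom l), by rw [hφq, haj₁']⟩
  have hker : RingHom.ker φR = Ideal.map q (RingHom.ker a₁.hom) := by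
    apply le_antisymm
    · intro z hz
      obtain ⟨x, rfl⟩ := Ideal.Quotient.mk_surjective z
      rw [RingHom.mem_ker] at hz
      have : a₁.hom x = 0 := by rw [← hφq]; exact hz
      exact Ideal.mem_map_of_mem q (RingHom.mem_ker.mpr this)
    · rw [Ideal.map_le_iff_le_comap]
      intro x hx
      rw [Ideal.mem_comap, RingHom.mem_ker, hφq]
      exact hx
  have hI : RingHom.ker φR ^ 2 = ⊥ := by
    rw [hker, ← Ideal.map_pow, eq_bot_iff, Ideal.map_le_iff_le_comap]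
    intro x hx
    rw [Ideal.mem_comap, Ideal.mem_bot]
    exact Ideal.Quotient.eq_zero_iff_mem.mpr (le_sup_right (a := Ideal.map c.hom _) hx)
  -- the point
  set s : Spec (CommRingCat.of (Γ(G.left, U₁) ⧸ J)) ⟶ Spec (CommRingCat.of K) :=
    (Spec.map (CommRingCat.ofHom q) ≫ hU₁.fromSpec) ≫ G.hom with hs
  let v : Over.mk s ⟶ G := Over.homMk (Spec.map (CommRingCat.ofHom q) ≫ hU₁.fromSpec) rfl
  have hvleft : v.left = Spec.map (CommRingCat.ofHom q) ≫ hU₁.fromSpec := rfl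
  have hspre : Spec.preimage s = j₁ ≫ CommRingCat.ofHom q := by
    apply Spec.map_injective
    rw [Spec.map_preimage, hs, Category.assoc, ← hj₁, ← Spec.map_comp]
  have h1 := one_left_eq K G hU₁ a₁ ha₁ s
  have h1U : ∀ x, (1 : Over.mk s ⟶ G).left x ∈ U₁ := by
    intro x
    rw [h1, Scheme.Hom.comp_apply]
    have : hU₁.fromSpec ((Spec.map (a₁ ≫ Spec.preimage s)) x) ∈ Set.range hU₁.fromSpec := ⟨_, rfl⟩
    rw [hU₁.range_fromSpec] at this
    exact this
  have hφqc : CommRingCat.ofHom q ≫ CommRingCat.ofHom φR = a₁ := by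
    ext x
    exact hφq x
  have hv : Spec.map (CommRingCat.ofHom φR) ≫ v.left =
      Spec.map (CommRingCat.ofHom φR) ≫ (1 : Over.mk s ⟶ G).left := by
    rw [hvleft, h1, ← Category.assoc, ← Spec.map_comp, ← Category.assoc, ← Spec.map_comp, hspre,
      Category.assoc, Category.assoc, hφqc, haj₁, Category.comp_id]
  have hvχ : v ≫ χ = 1 := by
    rw [comp_eq_one_iff K G G χ hU₁ hU₂ hle a₂ ha₂ s v (CommRingCat.ofHom q) hvleft, hspre]
    ext y
    simp only [CommRingCat.hom_comp, CommRingCat.hom_ofHom, RingHom.comp_apply]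
    have hy : y - j₂.hom (a₂.hom y) ∈ RingHom.ker a₂.hom := by
      rw [RingHom.mem_ker, map_sub, haj₂', sub_self]
    have h2 : c.hom (y - j₂.hom (a₂.hom y)) ∈ J :=
      le_sup_left (b := RingHom.ker a₁.hom ^ 2) (Ideal.mem_map_of_mem c.hom hy)
    have h3 : q (c.hom (y - j₂.hom (a₂.hom y))) = 0 := Ideal.Quotient.eq_zero_iff_mem.mpr h2
    rw [map_sub, map_sub, sub_eq_zero, hjc'] at h3
    exact h3
  have hvn : v ^ (n : ℤ) = 1 := by
    rw [zpow_natCast, ← hvχ, hχdef, MonObj.comp_pow, Category.comp_id]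
  have hunit : IsUnit ((n : ℤ) : (Γ(G.left, U₁) ⧸ J)) := by
    have h4 : ((n : ℤ) : (Γ(G.left, U₁) ⧸ J)) = (Spec.preimage s).hom ((n : ℤ) : K) :=
      (map_intCast (Spec.preimage s).hom (n : ℤ)).symm
    rw [h4]
    exact (IsUnit.mk0 _ (by exact_mod_cast hn)).map _
  have hv1 := eq_one_of_zpow_eq_one (Γ(G.left, U₁) ⧸ J) s φR hφsurj hI U₁ hU₁ v h1U hv (n : ℤ)
    hunit hvn
  rw [eq_one_iff K G hU₁ a₁ ha₁ s v (CommRingCat.ofHom q) hvleft, hspre] at hv1
  intro x hx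
  have h5 := congrArg (fun t => t.hom x) hv1
  simp only [CommRingCat.hom_comp, CommRingCat.hom_ofHom, RingHom.comp_apply] at h5
  rw [RingHom.mem_ker.mp hx, map_zero, map_zero] at h5
  exact Ideal.Quotient.eq_zero_iff_mem.mp h5

end Cot

end Groth.Agent.Lib.Helper22.PowEt
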