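import Mathlib
import Groth.Agent.Lib.Helper22.PowEtA
import Groth.Agent.Lib.Helper8.EtaleAtFlat

set_option autoImplicit false
universe u

namespace Groth.Agent.Lib.Helper22.PowEt

open IsLocalRing

section RingMain
variable {R S K : Type u} [CommRing R] [CommRing S] [Field K] [Algebra R S]
  (a₂ : R →+* K) (a₁ : S →+* K) (j₂ : K →+* R)
  (hcomp : ∀ r, a₁ (algebraMap R S r) = a₂ r) (haj : ∀ l, a₂ (j₂ l) = l)
  [(RingHom.ker a₂).IsPrime] [(RingHom.ker a₁).IsPrime]

include hcomp in
theorem liesOver_ker : (RingHom.ker a₁).LiesOver (RingHom.ker a₂) := by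
  refine ⟨?_⟩
  ext r
  rw [Ideal.under, Ideal.mem_comap, RingHom.mem_ker, RingHom.mem_ker, hcomp]

variable [IsNoetherianRing S]

include hcomp haj in
theorem local_data
    (hcot : RingHom.ker a₁ ≤ (RingHom.ker a₂).map (algebraMap R S) ⊔ RingHom.ker a₁ ^ 2) :
    haveI : (RingHom.ker a₁).LiesOver (RingHom.ker a₂) := liesOver_ker a₂ a₁ hcomp
    letI := Localization.AtPrime.algebraOfLiesOver (RingHom.ker a₂) (RingHom.ker a₁)
    ((maximalIdeal (Localization.AtPrime (RingHom.ker a₂))).map
        (algebraMap (Localization.AtPrime (RingHom.ker a₂)) (Localization.AtPrime (RingHom.ker a₁))) =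
      maximalIdeal (Localization.AtPrime (RingHom.ker a₁))) ∧
    ∀ b : Localization.AtPrime (RingHom.ker a₁), ∃ a : Localization.AtPrime (RingHom.ker a₂),
      b - algebraMap (Localization.AtPrime (RingHom.ker a₂))
        (Localization.AtPrime (RingHom.ker a₁)) a ∈
        maximalIdeal (Localization.AtPrime (RingHom.ker a₁)) := by
  haveI hlo : (RingHom.ker a₁).LiesOver (RingHom.ker a₂) := liesOver_ker a₂ a₁ hcomp
  letI := Localization.AtPrime.algebraOfLiesOver (RingHom.ker a₂) (RingHom.ker a₁)
  set p := RingHom.ker a₂ with hp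
  set q := RingHom.ker a₁ with hq
  set Rp := Localization.AtPrime p
  set Sq := Localization.AtPrime q
  have hθ : ∀ r : R, algebraMap Rp Sq (algebraMap R Rp r) = algebraMap S Sq (algebraMap R S r) :=
    fun r => Localization.localRingHom_to_map p q (algebraMap R S) Ideal.LiesOver.over r
  have hmq : maximalIdeal Sq = q.map (algebraMap S Sq) :=
    (Localization.AtPrime.map_eq_maximalIdeal (I := q)).symm
  have hmp : maximalIdeal Rp = p.map (algebraMap R Rp) :=
    (Localization.AtPrime.map_eq_maximalIdeal (I := p)).symm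
  have hN : (maximalIdeal Rp).map (algebraMap Rp Sq) =
      (p.map (algebraMap R S)).map (algebraMap S Sq) := by
    rw [hmp, Ideal.map_map, Ideal.map_map]
    congr 1
    ext r
    exact hθ r
  have hpq : p.map (algebraMap R S) ≤ q := by
    rw [Ideal.map_le_iff_le_comap]
    intro r hr
    rw [Ideal.mem_comap, hq, RingHom.mem_ker, hcomp]
    exact hr
  constructor
  · rw [hN]
    apply le_antisymm
    · rw [hmq]
      exact Ideal.map_mono hpq
    · have h1 : maximalIdeal Sq ≤ (p.map (algebraMap R S)).map (algebraMap S Sq) ⊔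
          maximalIdeal Sq • maximalIdeal Sq := by
        have h2 : q.map (algebraMap S Sq) ≤ (p.map (algebraMap R S) ⊔ q ^ 2).map (algebraMap S Sq) :=
          Ideal.map_mono hcot
        rw [Ideal.map_sup, Ideal.map_pow, ← hmq, pow_two] at h2
        exact h2
      exact Submodule.le_of_le_smul_of_le_jacobson_bot (IsNoetherian.noetherian _)
        (IsLocalRing.maximalIdeal_le_jacobson _) h1
  · intro b
    obtain ⟨x₀, s, hxs⟩ := IsLocalization.exists_mk'_eq q.primeCompl b
    have hspec : b * algebraMap S Sq s = algebraMap S Sq x₀ := by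
      rw [← hxs]
      exact IsLocalization.mk'_spec _ x₀ s
    have hs0 : a₁ (s : S) ≠ 0 := by
      intro h
      exact s.2 (RingHom.mem_ker.mpr h)
    refine ⟨algebraMap R Rp (j₂ (a₁ x₀ / a₁ (s : S))), ?_⟩
    rw [hθ]
    have hmem : x₀ - algebraMap R S (j₂ (a₁ x₀ / a₁ (s : S))) * (s : S) ∈ q := by
      change _ ∈ RingHom.ker a₁
      rw [RingHom.mem_ker, map_sub, map_mul, hcomp, haj, div_mul_cancel₀ _ hs0, sub_self]
    have h2 : algebraMap S Sq (x₀ - algebraMap R S (j₂ (a₁ x₀ / a₁ (s : S))) * (s : S)) ∈
        maximalIdeal Sq := by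
      rw [hmq]
      exact Ideal.mem_map_of_mem _ hmem
    have hunit : IsUnit (algebraMap S Sq (s : S)) := IsLocalization.map_units _ s
    have h3 : (b - algebraMap S Sq (algebraMap R S (j₂ (a₁ x₀ / a₁ (s : S))))) *
        algebraMap S Sq (s : S) ∈ maximalIdeal Sq := by
      rw [sub_mul, hspec, ← map_mul, ← map_sub]
      exact h2
    exact (Ideal.IsPrime.mem_or_mem (IsLocalRing.maximalIdeal.isMaximal _).isPrime h3).resolve_right
      (fun h => (IsLocalRing.mem_maximalIdeal _).mp h hunit)


include hcomp haj in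
/-- ring-level main lemma -/
theorem exists_etale_away [Algebra.FinitePresentation R S] [IsNoetherianRing R]
    (hcot : RingHom.ker a₁ ≤ (RingHom.ker a₂).map (algebraMap R S) ⊔ RingHom.ker a₁ ^ 2)
    (ι : Localization.AtPrime (RingHom.ker a₁) ≃+* Localization.AtPrime (RingHom.ker a₂)) :
    ∃ g ∉ RingHom.ker a₁, Algebra.Etale R (Localization.Away g) := by
  haveI hlo : (RingHom.ker a₁).LiesOver (RingHom.ker a₂) := liesOver_ker a₂ a₁ hcomp
  letI := Localization.AtPrime.algebraOfLiesOver (RingHom.ker a₂) (RingHom.ker a₁)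
  obtain ⟨hm, hres⟩ := local_data a₂ a₁ j₂ hcomp haj hcot
  haveI : IsLocalHom (algebraMap (Localization.AtPrime (RingHom.ker a₂))
      (Localization.AtPrime (RingHom.ker a₁))) :=
    Localization.isLocalHom_localRingHom _ _ _ Ideal.LiesOver.over
  haveI : IsNoetherianRing (Localization.AtPrime (RingHom.ker a₂)) :=
    IsLocalization.isNoetherianRing (RingHom.ker a₂).primeCompl _ inferInstance
  have hflat : (algebraMap (Localization.AtPrime (RingHom.ker a₂))
      (Localization.AtPrime (RingHom.ker a₁))).Flat :=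
    flat_of_ringEquiv _ _ _ ι hm hres
  haveI : Module.Flat (Localization.AtPrime (RingHom.ker a₂))
      (Localization.AtPrime (RingHom.ker a₁)) := (RingHom.flat_algebraMap_iff).mp hflat
  haveI : Module.Flat R (Localization.AtPrime (RingHom.ker a₁)) :=
    Module.Flat.trans R (Localization.AtPrime (RingHom.ker a₂)) _
  haveI : Algebra.EssFiniteType (Localization.AtPrime (RingHom.ker a₂))
      (Localization.AtPrime (RingHom.ker a₁)) := .of_comp R _ _
  haveI : Algebra.IsSeparable (ResidueField (Localization.AtPrime (RingHom.ker a₂)))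
      (ResidueField (Localization.AtPrime (RingHom.ker a₁))) := by
    refine ⟨fun x => ?_⟩
    obtain ⟨b, rfl⟩ := IsLocalRing.residue_surjective x
    obtain ⟨a, ha⟩ := hres b
    have h1 : IsLocalRing.residue _ b = algebraMap (ResidueField (Localization.AtPrime (RingHom.ker a₂)))
        (ResidueField (Localization.AtPrime (RingHom.ker a₁))) (IsLocalRing.residue _ a) := by
      rw [IsLocalRing.ResidueField.algebraMap_residue,
        ← sub_eq_zero, ← map_sub, IsLocalRing.residue_eq_zero_iff]
      exact ha
    rw [h1]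
    exact isSeparable_algebraMap _
  haveI : Algebra.FormallyUnramified (Localization.AtPrime (RingHom.ker a₂))
      (Localization.AtPrime (RingHom.ker a₁)) :=
    Algebra.FormallyUnramified.of_map_maximalIdeal hm
  haveI : Algebra.FormallyUnramified R (Localization.AtPrime (RingHom.ker a₂)) :=
    Algebra.FormallyUnramified.of_isLocalization (RingHom.ker a₂).primeCompl
  haveI : Algebra.IsUnramifiedAt R (RingHom.ker a₁) :=
    Algebra.FormallyUnramified.comp R (Localization.AtPrime (RingHom.ker a₂)) _
  exact Groth.Agent.Lib.Helper8.EtaleAtFlat.exists_etale_of_flat R S (RingHom.ker a₁)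

end RingMain

end Groth.Agent.Lib.Helper22.PowEt
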