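import Mathlib
import Groth.Agent.Lib.Helper22.LieGenJ

set_option autoImplicit false
universe u
open CategoryTheory AlgebraicGeometry

noncomputable section
namespace Groth.Agent.Lib.Helper22.PowEt

open Groth.Agent.Lib.Helper22.LieGen

theorem isLocalization_atPrime_of_eq {R S : Type u} [CommRing R] [CommRing S] [Algebra R S]
    (P Q : Ideal R) [hP : P.IsPrime] [hQ : Q.IsPrime] (h : P = Q)
    [hl : IsLocalization.AtPrime S P] : IsLocalization.AtPrime S Q := by
  subst h
  exact hl

section Chart
variable {X : Scheme.{u}} {U : X.Opens} (hU : IsAffineOpen U) (K : Type u) [Field K]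
  (a : Γ(X, U) ⟶ CommRingCat.of K)

include hU in
theorem fromSpec_mem (y : PrimeSpectrum Γ(X, U)) : hU.fromSpec y ∈ U := by
  have : hU.fromSpec y ∈ Set.range hU.fromSpec := ⟨_, rfl⟩
  rw [hU.range_fromSpec] at this
  exact this

/-- the local ring at a rational point of an affine chart is the localization at the kernel of
the evaluation -/
theorem exists_ringEquiv_stalk' [hp : (RingHom.ker a.hom).IsPrime]
    (y : PrimeSpectrum Γ(X, U)) (hyI : y.asIdeal = RingHom.ker a.hom) (x : X)
    (hx : x = hU.fromSpec y) :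
    Nonempty (Localization.AtPrime (RingHom.ker a.hom) ≃+* X.presheaf.stalk x) := by
  subst hx
  have hyU := fromSpec_mem hU y
  letI : Algebra Γ(X, U) (X.presheaf.stalk (hU.fromSpec y)) :=
    TopCat.Presheaf.algebra_section_stalk X.presheaf ⟨hU.fromSpec y, hyU⟩
  haveI h1 : IsLocalization.AtPrime (X.presheaf.stalk (hU.fromSpec y)) y.asIdeal :=
    hU.isLocalization_stalk' _ hyU
  haveI h2 : IsLocalization.AtPrime (X.presheaf.stalk (hU.fromSpec y)) (RingHom.ker a.hom) :=
    isLocalization_atPrime_of_eq _ _ hyI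
  exact ⟨(IsLocalization.algEquiv (RingHom.ker a.hom).primeCompl
    (Localization.AtPrime (RingHom.ker a.hom))
    (X.presheaf.stalk (hU.fromSpec y))).toRingEquiv⟩

theorem exists_ringEquiv_stalk [hp : (RingHom.ker a.hom).IsPrime] (x : X)
    (hx : x = hU.fromSpec (Spec.map a (IsLocalRing.closedPoint K))) :
    Nonempty (Localization.AtPrime (RingHom.ker a.hom) ≃+* X.presheaf.stalk x) :=
  exists_ringEquiv_stalk' hU K a (Spec.map a (IsLocalRing.closedPoint K))
    (asIdeal_specMap_closedPoint K _ a) x hx

end Chart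

end Groth.Agent.Lib.Helper22.PowEt
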