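import Mathlib
import Groth.Agent.Lib.Helper22.PowEtB
import Groth.Agent.Lib.Helper22.PowEtC
import Groth.Agent.Lib.Helper22.PowEtD

set_option autoImplicit false
universe u
open CategoryTheory AlgebraicGeometry MonObj Limits MonoidalCategory CartesianMonoidalCategory

noncomputable section
namespace Groth.Agent.Lib.Helper22.PowEt

open Groth.Agent.Lib.Helper22.LieGen

/-- a morphism from a basic open of an affine chart is étale if the ring map to the localization
is étale -/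
theorem etale_basicOpen_comp {X Y : Scheme.{u}} (f : X ⟶ Y) {U₂ : Y.Opens} {U₁ : X.Opens}
    (hU₂ : IsAffineOpen U₂) (hU₁ : IsAffineOpen U₁) (hle : U₁ ≤ f ⁻¹ᵁ U₂) (g : Γ(X, U₁))
    (h : letI := (f.appLE U₂ U₁ hle).hom.toAlgebra
      Algebra.Etale Γ(Y, U₂) (Localization.Away g)) :
    Etale ((X.basicOpen g).ι ≫ f) := by
  letI : Algebra Γ(Y, U₂) Γ(X, U₁) := (f.appLE U₂ U₁ hle).hom.toAlgebra
  have hW : IsAffineOpen (X.basicOpen g) := hU₁.basicOpen g
  have hWle : X.basicOpen g ≤ f ⁻¹ᵁ U₂ := (X.basicOpen_le g).trans hle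
  have h1 : (X.basicOpen g).ι ≫ f =
      (X.basicOpen g).toSpecΓ ≫ Spec.map (f.appLE U₂ (X.basicOpen g) hWle) ≫ hU₂.fromSpec := by
    rw [hU₂.SpecMap_appLE_fromSpec f hW hWle, ← Category.assoc, hW.toSpecΓ_fromSpec]
  haveI : IsIso (X.basicOpen g).toSpecΓ := by
    rw [← hW.isoSpec_hom]
    infer_instance
  haveI : IsLocalization.Away g Γ(X, X.basicOpen g) := hU₁.isLocalization_basicOpen g
  have h2 : (f.appLE U₂ (X.basicOpen g) hWle).hom.Etale := by
    let e' : Localization.Away g ≃ₐ[Γ(X, U₁)] Γ(X, X.basicOpen g) :=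
      IsLocalization.algEquiv (Submonoid.powers g) _ _
    have h3 : (f.appLE U₂ (X.basicOpen g) hWle).hom =
        (e'.toRingEquiv : Localization.Away g →+* Γ(X, X.basicOpen g)).comp
          (algebraMap Γ(Y, U₂) (Localization.Away g)) := by
      ext r
      rw [RingHom.comp_apply, IsScalarTower.algebraMap_apply Γ(Y, U₂) Γ(X, U₁) (Localization.Away g)]
      have h4 : (e'.toRingEquiv : Localization.Away g →+* Γ(X, X.basicOpen g))
          (algebraMap Γ(X, U₁) (Localization.Away g) (algebraMap Γ(Y, U₂) Γ(X, U₁) r)) =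
          algebraMap Γ(X, U₁) Γ(X, X.basicOpen g) (algebraMap Γ(Y, U₂) Γ(X, U₁) r) :=
        e'.commutes _
      rw [h4]
      have h5 := f.appLE_map hle (homOfLE (X.basicOpen_le g)).op
      have h6 := congrArg (fun t => t.hom r) h5
      simp only [CommRingCat.hom_comp, RingHom.comp_apply] at h6
      exact h6.symm
    rw [h3]
    exact RingHom.Etale.stableUnderComposition _ _ (RingHom.etale_algebraMap.mpr h)
      (RingHom.Etale.of_bijective e'.toRingEquiv.bijective)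
  haveI : Etale (Spec.map (f.appLE U₂ (X.basicOpen g) hWle)) :=
    (HasRingHomProperty.Spec_iff (P := @Etale)).mpr h2
  rw [h1]
  infer_instance


section Grp
variable (K : Type u) [Field K] (G : Over (Spec (CommRingCat.of K))) [GrpObj G]
  [LocallyOfFiniteType G.hom]

set_option backward.isDefEq.respectTransparency false in
/-- the `n`-th power map of an algebraic group is étale near the unit when `n` is invertible -/
theorem exists_etale_nhd (n : ℕ) (hn : (n : K) ≠ 0) :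
    ∃ W : G.left.Opens, η[G].left (IsLocalRing.closedPoint K) ∈ W ∧
      Etale (W.ι ≫ (𝟙 G ^ n : G ⟶ G).left) := by
  haveI : Subsingleton ↥(Spec (CommRingCat.of K)) := by
    change Subsingleton (PrimeSpectrum K)
    infer_instance
  have hχ : η[G] ≫ (𝟙 G ^ n : G ⟶ G) = η[G] := unit_comp_pow K G n
  have he : (𝟙 G ^ n : G ⟶ G).left (η[G].left (IsLocalRing.closedPoint K)) =
      η[G].left (IsLocalRing.closedPoint K) := by
    conv_rhs => rw [← hχ]
    rfl
  obtain ⟨U₂, hU₂, he₂U, -⟩ := exists_isAffineOpen_mem_and_subset (X := G.left)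
    (x := η[G].left (IsLocalRing.closedPoint K)) (U := ⊤) trivial
  obtain ⟨U₁, hU₁, he₁U, hle⟩ := exists_isAffineOpen_mem_and_subset (X := G.left)
    (x := η[G].left (IsLocalRing.closedPoint K)) (U := (𝟙 G ^ n : G ⟶ G).left ⁻¹ᵁ U₂) (by
      change (𝟙 G ^ n : G ⟶ G).left (η[G].left (IsLocalRing.closedPoint K)) ∈ U₂
      rw [he]
      exact he₂U)
  obtain ⟨a₁, j₁, ha₁, hj₁, haj₁⟩ := exists_aug K G hU₁ he₁U
  obtain ⟨a₂, j₂, ha₂, hj₂, haj₂⟩ := exists_aug K G hU₂ he₂U
  have hca := appLE_comp_aug K G G (𝟙 G ^ n : G ⟶ G) hU₁ hU₂ hle a₁ ha₁ a₂ ha₂ hχ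
  have hcot := ker_le_map_sup_sq K G hU₁ hU₂ a₁ j₁ ha₁ hj₁ a₂ j₂ ha₂ hj₂ n hn hle haj₁ haj₂
  haveI : IsLocallyNoetherian G.left := LocallyOfFiniteType.isLocallyNoetherian G.hom
  haveI hfq : LocallyOfFiniteType ((𝟙 G ^ n : G ⟶ G).left ≫ G.hom) := by
    rw [Over.w (𝟙 G ^ n : G ⟶ G)]
    infer_instance
  haveI : LocallyOfFiniteType (𝟙 G ^ n : G ⟶ G).left :=
    locallyOfFiniteType_of_comp (𝟙 G ^ n : G ⟶ G).left G.hom
  haveI : LocallyOfFinitePresentation (𝟙 G ^ n : G ⟶ G).left :=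
    LocallyOfFinitePresentation.iff_locallyOfFiniteType.mpr inferInstance
  letI : Algebra Γ(G.left, U₂) Γ(G.left, U₁) :=
    ((𝟙 G ^ n : G ⟶ G).left.appLE U₂ U₁ hle).hom.toAlgebra
  haveI : Algebra.FinitePresentation Γ(G.left, U₂) Γ(G.left, U₁) :=
    (𝟙 G ^ n : G ⟶ G).left.finitePresentation_appLE hU₂ hU₁ hle
  haveI : IsNoetherianRing Γ(G.left, U₂) := IsLocallyNoetherian.component_noetherian ⟨U₂, hU₂⟩
  haveI : IsNoetherianRing Γ(G.left, U₁) := IsLocallyNoetherian.component_noetherian ⟨U₁, hU₁⟩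
  haveI : (RingHom.ker a₂.hom).IsPrime := RingHom.ker_isPrime _
  haveI : (RingHom.ker a₁.hom).IsPrime := RingHom.ker_isPrime _
  have hx₁ : η[G].left (IsLocalRing.closedPoint K) =
      hU₁.fromSpec (Spec.map a₁ (IsLocalRing.closedPoint K)) := by
    rw [ha₁]
    rfl
  have hx₂ : η[G].left (IsLocalRing.closedPoint K) =
      hU₂.fromSpec (Spec.map a₂ (IsLocalRing.closedPoint K)) := by
    conv_lhs => rw [ha₂]
    rfl
  obtain ⟨ι₁⟩ := exists_ringEquiv_stalk hU₁ K a₁ _ hx₁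
  obtain ⟨ι₂⟩ := exists_ringEquiv_stalk hU₂ K a₂ _ hx₂
  have hcomp : ∀ r, a₁.hom (algebraMap Γ(G.left, U₂) Γ(G.left, U₁) r) = a₂.hom r := by
    intro r
    have := congrArg (fun t => t.hom r) hca
    simp only [CommRingCat.hom_comp, RingHom.comp_apply] at this
    exact this
  have haj : ∀ l, a₂.hom (j₂.hom l) = l := by
    intro l
    have := congrArg (fun t => t.hom l) haj₂
    simpa using this
  obtain ⟨g, hg, hget⟩ := exists_etale_away a₂.hom a₁.hom j₂.hom hcomp haj hcot (ι₁.trans ι₂.symm)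
  refine ⟨G.left.basicOpen g, ?_, etale_basicOpen_comp _ hU₂ hU₁ hle g hget⟩
  rw [hx₁, ← Scheme.Hom.mem_preimage, hU₁.fromSpec_preimage_basicOpen, PrimeSpectrum.mem_basicOpen]
  intro h
  apply hg
  rw [← asIdeal_specMap_closedPoint K _ a₁]
  exact h

end Grp

end Groth.Agent.Lib.Helper22.PowEt
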