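import Mathlib
import Groth.Agent.Lib.Helper3.FlatDescent

set_option autoImplicit false
universe u
open CategoryTheory AlgebraicGeometry MonObj Limits MonoidalCategory CartesianMonoidalCategory

noncomputable section
namespace Groth.Agent.Lib.Helper22.PowEt

section Homog
variable (K : Type u) [Field K] (G : Over (Spec (CommRingCat.of K))) [GrpObj G] [IsCommMonObj G]

/-- `(t, g) ↦ (t, u(t) g)` -/
def shear (u : G ⟶ G) : G ⊗ G ⟶ G ⊗ G := lift (fst G G) ((fst G G ≫ u) * snd G G)

theorem shear_fst (u : G ⟶ G) : shear K G u ≫ fst G G = fst G G := by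
  rw [shear, lift_fst]

theorem shear_snd (u : G ⟶ G) : shear K G u ≫ snd G G = (fst G G ≫ u) * snd G G := by
  rw [shear, lift_snd]

/-- the inverse shear -/
def shearInv (u : G ⟶ G) : G ⊗ G ⟶ G ⊗ G := lift (fst G G) ((fst G G ≫ u)⁻¹ * snd G G)

theorem shear_shearInv (u : G ⟶ G) : shear K G u ≫ shearInv K G u = 𝟙 _ := by
  apply CartesianMonoidalCategory.hom_ext
  · rw [Category.assoc, shearInv, lift_fst, shear_fst, Category.id_comp]
  · rw [Category.assoc, shearInv, lift_snd, MonObj.comp_mul, GrpObj.comp_inv, ← Category.assoc,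
      shear_fst, shear_snd, inv_mul_cancel_left, Category.id_comp]

theorem shearInv_shear (u : G ⟶ G) : shearInv K G u ≫ shear K G u = 𝟙 _ := by
  apply CartesianMonoidalCategory.hom_ext
  · rw [Category.assoc, shear_fst, shearInv, lift_fst, Category.id_comp]
  · rw [Category.assoc, shear_snd, MonObj.comp_mul, ← Category.assoc, shearInv, lift_fst, lift_snd,
      mul_inv_cancel_left, Category.id_comp]

instance (u : G ⟶ G) : IsIso (shear K G u) :=
  ⟨shearInv K G u, shear_shearInv K G u, shearInv_shear K G u⟩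


set_option backward.isDefEq.respectTransparency false in
/-- homogeneity: if the `n`-th power map of a commutative group scheme over a field is flat on an
open neighbourhood of the unit, it is flat -/
theorem flat_pow_of_nhd (n : ℕ) (W : G.left.Opens)
    (heW : η[G].left (IsLocalRing.closedPoint K) ∈ W)
    (hW : Flat (W.ι ≫ (𝟙 G ^ n : G ⟶ G).left)) : Flat (𝟙 G ^ n : G ⟶ G).left := by
  haveI : Subsingleton ↥(Spec (CommRingCat.of K)) := by
    change Subsingleton (PrimeSpectrum K)
    infer_instance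
  set χ : G ⟶ G := 𝟙 G ^ n with hχ
  -- the open subscheme as an object over `K`
  let W' : Over (Spec (CommRingCat.of K)) := Over.mk (W.ι ≫ G.hom)
  let ιW : W' ⟶ G := Over.homMk W.ι rfl
  have hrange : Set.range η[G].left ⊆ Set.range W.ι := by
    rintro _ ⟨p, rfl⟩
    have hp : p = IsLocalRing.closedPoint K :=
      Subsingleton.elim (α := ↥(Spec (CommRingCat.of K))) _ _
    rw [hp, Scheme.Opens.range_ι]
    exact heW
  let ηW : 𝟙_ (Over (Spec (CommRingCat.of K))) ⟶ W' :=
    Over.homMk (IsOpenImmersion.lift W.ι η[G].left hrange) (by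
      change IsOpenImmersion.lift W.ι η[G].left hrange ≫ W.ι ≫ G.hom = _
      rw [← Category.assoc, IsOpenImmersion.lift_fac]
      exact Over.w η[G])
  have hηW : ηW ≫ ιW = η[G] := by
    apply Over.OverMorphism.ext
    exact IsOpenImmersion.lift_fac _ _ _
  -- the maps
  set Ψ : G ⊗ W' ⟶ G ⊗ G := (G ◁ ιW) ≫ shear K G (𝟙 G) with hΨ
  set Θ : G ⊗ W' ⟶ G ⊗ G := (G ◁ (ιW ≫ χ)) ≫ shear K G χ with hΘ
  have hpow : ∀ {T : Over (Spec (CommRingCat.of K))} (a : T ⟶ G), a ≫ χ = a ^ n := by
    intro T a
    rw [hχ, MonObj.comp_pow, Category.comp_id]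
  have key : Ψ ≫ (G ◁ χ) = Θ := by
    apply CartesianMonoidalCategory.hom_ext
    · rw [Category.assoc, whiskerLeft_fst, hΨ, Category.assoc, shear_fst, whiskerLeft_fst, hΘ,
        Category.assoc, shear_fst, whiskerLeft_fst]
    · have h1 : Ψ ≫ snd G G = fst G W' * (snd G W' ≫ ιW) := by
        rw [hΨ, Category.assoc, shear_snd, Category.comp_id, MonObj.comp_mul, whiskerLeft_fst,
          whiskerLeft_snd]
      have h2 : Θ ≫ snd G G = (fst G W' ≫ χ) * ((snd G W' ≫ ιW) ≫ χ) := by
        rw [hΘ, Category.assoc, shear_snd, MonObj.comp_mul, ← Category.assoc, whiskerLeft_fst,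
          whiskerLeft_snd, Category.assoc]
      rw [Category.assoc, whiskerLeft_snd, ← Category.assoc, h1, h2, hpow, hpow, hpow, mul_pow]
  -- flatness facts
  haveI : Flat G.hom := inferInstance
  haveI hsnd : Flat (snd G G).left := by
    rw [Over.snd_left]
    infer_instance
  haveI hoi : IsOpenImmersion (G ◁ ιW).left := by
    rw [Over.whiskerLeft_left]
    exact MorphismProperty.pullbackMap (P := @IsOpenImmersion)
      (inferInstance : IsOpenImmersion (𝟙 G.left)) (inferInstance : IsOpenImmersion W.ι)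
      (Category.id_comp _).symm rfl
  haveI hfl : Flat (G ◁ (ιW ≫ χ)).left := by
    rw [Over.whiskerLeft_left]
    exact MorphismProperty.pullbackMap (P := @Flat)
      (inferInstance : Flat (𝟙 G.left)) hW (Category.id_comp _).symm
      (by rw [Category.assoc]; exact congrArg (W.ι ≫ ·) (Over.w χ).symm)
  haveI : IsIso (shear K G (𝟙 G)).left :=
    (inferInstance : IsIso ((Over.forget _).map (shear K G (𝟙 G))))
  haveI : IsIso (shear K G χ).left :=
    (inferInstance : IsIso ((Over.forget _).map (shear K G χ)))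
  -- `q`
  set q : G ⊗ W' ⟶ G := Ψ ≫ snd G G with hq
  haveI hqflat : Flat q.left := by
    rw [hq, hΨ, Over.comp_left, Over.comp_left]
    infer_instance
  have hqχ : q ≫ χ = Θ ≫ snd G G := by
    rw [hq, Category.assoc, ← whiskerLeft_snd, ← Category.assoc, key]
  haveI hqχflat : Flat (q.left ≫ χ.left) := by
    rw [← Over.comp_left, hqχ, hΘ, Over.comp_left, Over.comp_left]
    infer_instance
  -- surjectivity of `q`
  let s : G ⟶ G ⊗ W' := lift (𝟙 G) (toUnit G ≫ ηW)
  have hsq : s ≫ q = 𝟙 G := by
    have h1 : Ψ ≫ snd G G = fst G W' * (snd G W' ≫ ιW) := by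
      rw [hΨ, Category.assoc, shear_snd, Category.comp_id, MonObj.comp_mul, whiskerLeft_fst,
        whiskerLeft_snd]
    rw [hq, h1, MonObj.comp_mul, lift_fst, ← Category.assoc, lift_snd, Category.assoc, hηW,
      ← Hom.one_def, _root_.mul_one]
  haveI : Surjective q.left := by
    refine ⟨fun x => ⟨s.left x, ?_⟩⟩
    rw [← Scheme.Hom.comp_apply, ← Over.comp_left, hsq]
    rfl
  exact Groth.Agent.Lib.Helper3.flat_of_flat_comp_of_surjective q.left χ.left

end Homog

end Groth.Agent.Lib.Helper22.PowEt
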