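import Mathlib
import Groth.Agent.Lib.Helper22.HomAvoid

/-!
# Affine opens of schemes immersed in `Proj` of a graded ring
-/

set_option autoImplicit false
set_option linter.style.haveILetI false
set_option linter.unusedSectionVars false

universe u

namespace Groth.Agent.Lib.Helper22.ProjAff

open AlgebraicGeometry CategoryTheory

variable {σ : Type*} {A : Type u} [CommRing A] [SetLike σ A] [AddSubgroupClass σ A]
  (𝒜 : ℕ → σ) [GradedRing 𝒜] {X : Scheme.{u}} (ι : X ⟶ Proj 𝒜)

/-- If `h` is homogeneous of positive degree and `ι(X)` is closed in `D₊(h)`, then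
`ι⁻¹(D₊(h))` is affine. -/
theorem isAffineOpen_preimage_basicOpen [IsImmersion ι] (h : A) {d : ℕ} (hd : 0 < d)
    (hh : h ∈ 𝒜 d)
    (hcl : closure (Set.range ι.base) ∩ (Proj.basicOpen 𝒜 h : Set (Proj 𝒜)) ⊆ Set.range ι.base) :
    IsAffineOpen (ι ⁻¹ᵁ Proj.basicOpen 𝒜 h) := by
  have hU : IsAffineOpen (Proj.basicOpen 𝒜 h) := Proj.isAffineOpen_basicOpen 𝒜 h hh hd
  haveI : IsAffine (Proj.basicOpen 𝒜 h).toScheme := hU
  haveI : IsPreimmersion (ι ∣_ (Proj.basicOpen 𝒜 h)) := inferInstance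
  have hrange : IsClosed (Set.range (ι ∣_ (Proj.basicOpen 𝒜 h)).base) := by
    have hr : Set.range (ι ∣_ (Proj.basicOpen 𝒜 h)).base =
        (Subtype.val ⁻¹' Set.range ι.base : Set (Proj.basicOpen 𝒜 h)) := by
      rw [morphismRestrict_base]
      exact Set.range_restrictPreimage ..
    rw [hr]
    have h1 : (Subtype.val ⁻¹' Set.range ι.base : Set (Proj.basicOpen 𝒜 h)) =
        Subtype.val ⁻¹' closure (Set.range ι.base) := by
      ext x; constructor
      · exact fun hx => subset_closure hx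
      · exact fun hx => hcl ⟨hx, x.2⟩
    rw [h1]; exact isClosed_closure.preimage continuous_subtype_val
  haveI : IsClosedImmersion (ι ∣_ (Proj.basicOpen 𝒜 h)) := .of_isPreimmersion _ hrange
  exact isAffine_of_isAffineHom (ι ∣_ (Proj.basicOpen 𝒜 h))

/-- The boundary of the image of an immersion is closed. -/
theorem isClosed_boundary [IsImmersion ι] :
    IsClosed (closure (Set.range ι.base) \ Set.range ι.base) := by
  have h := ι.isLocallyClosed_range.isOpen_coborder
  rw [coborder] at h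
  exact isOpen_compl_iff.1 h

/-- If `h` vanishes on the boundary then `ι(X)` is closed in `D₊(h)`. -/
theorem inter_basicOpen_subset (h : A)
    (hmem : h ∈ ProjectiveSpectrum.vanishingIdeal
      (closure (Set.range ι.base) \ Set.range ι.base : Set (ProjectiveSpectrum 𝒜))) :
    closure (Set.range ι.base) ∩ (Proj.basicOpen 𝒜 h : Set (Proj 𝒜)) ⊆ Set.range ι.base := by
  rintro x ⟨hx1, hx2⟩
  by_contra hx3
  exact hx2 ((ProjectiveSpectrum.mem_vanishingIdeal _ h).1 hmem x ⟨hx1, hx3⟩)

/-- Membership in a closed subset of `Proj` through the vanishing ideal. -/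
theorem mem_of_vanishingIdeal_le (Y : Set (ProjectiveSpectrum 𝒜)) (hY : IsClosed Y)
    (x : ProjectiveSpectrum 𝒜)
    (hle : (ProjectiveSpectrum.vanishingIdeal Y).toIdeal ≤ x.asHomogeneousIdeal.toIdeal) :
    x ∈ Y := by
  have h1 : x ∈ closure Y := by
    rw [← ProjectiveSpectrum.zeroLocus_vanishingIdeal_eq_closure]
    exact hle
  rwa [hY.closure_eq] at h1

theorem exists_affine_of_finite [IsImmersion ι] (E : Set X) (hE : E.Finite) :
    ∃ U : X.Opens, IsAffineOpen U ∧ E ⊆ U := by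
  classical
  have hY : IsClosed (closure (Set.range ι.base) \ Set.range ι.base :
      Set (ProjectiveSpectrum 𝒜)) := isClosed_boundary 𝒜 ι
  have hs : ∀ P ∈ hE.toFinset.image
      (fun e => (show ProjectiveSpectrum 𝒜 from ι.base e).asHomogeneousIdeal.toIdeal),
      P.IsPrime ∧ P.IsHomogeneous 𝒜 ∧
      ¬ (ProjectiveSpectrum.vanishingIdeal
        (closure (Set.range ι.base) \ Set.range ι.base :
          Set (ProjectiveSpectrum 𝒜))).toIdeal ≤ P ∧
      ¬ (HomogeneousIdeal.irrelevant 𝒜).toIdeal ≤ P := by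
    intro P hP
    obtain ⟨e, he, rfl⟩ := Finset.mem_image.1 hP
    refine ⟨(show ProjectiveSpectrum 𝒜 from ι.base e).isPrime,
      (show ProjectiveSpectrum 𝒜 from ι.base e).asHomogeneousIdeal.isHomogeneous, ?_,
      (show ProjectiveSpectrum 𝒜 from ι.base e).not_irrelevant_le⟩
    intro hle
    have h1 := mem_of_vanishingIdeal_le 𝒜 _ hY _ hle
    exact h1.2 ⟨e, rfl⟩
  obtain ⟨d, h, hd, hhd, hhJ, hav⟩ := HomAvoid.exists_homogeneous_notMem_of_finset 𝒜 _
    (ProjectiveSpectrum.vanishingIdeal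
      (closure (Set.range ι.base) \ Set.range ι.base :
        Set (ProjectiveSpectrum 𝒜))).isHomogeneous _ hs
  refine ⟨ι ⁻¹ᵁ Proj.basicOpen 𝒜 h, isAffineOpen_preimage_basicOpen 𝒜 ι h hd hhd
    (inter_basicOpen_subset 𝒜 ι h hhJ), ?_⟩
  intro e he
  show ι.base e ∈ Proj.basicOpen 𝒜 h
  rw [Proj.mem_basicOpen]
  exact hav _ (Finset.mem_image.2 ⟨e, hE.mem_toFinset.2 he, rfl⟩)

end Groth.Agent.Lib.Helper22.ProjAff
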