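import Mathlib
import Groth.Agent.Lib.Helper12.ClosedDim
import Groth.Agent.Lib.Helper22.HomAvoid
import Groth.Agent.Lib.Helper22.ProjAff

/-!
# Covering `X ∖ Y` in `Proj` of a Noetherian graded ring by `dim + 1` hypersurface complements
-/

set_option autoImplicit false
set_option linter.style.haveILetI false
set_option linter.unusedSectionVars false

universe u

namespace Groth.Agent.Lib.Helper22.ProjCover

open AlgebraicGeometry

variable {σ : Type*} {A : Type u} [CommRing A] [SetLike σ A] [AddSubgroupClass σ A]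
  (𝒜 : ℕ → σ) [GradedRing 𝒜]

lemma isHomogeneous_of_mem_minimalPrimes {I P : Ideal A} (hI : I.IsHomogeneous 𝒜)
    (hP : P ∈ I.minimalPrimes) : P.IsHomogeneous 𝒜 := by
  have hPp : P.IsPrime := hP.1.1
  have h1 : (P.homogeneousCore 𝒜).toIdeal.IsPrime := hPp.homogeneousCore
  have h2 : I ≤ (P.homogeneousCore 𝒜).toIdeal := by
    rw [← hI.toIdeal_homogeneousCore_eq_self]
    exact Ideal.homogeneousCore_mono 𝒜 hP.1.2
  have h3 : P ≤ (P.homogeneousCore 𝒜).toIdeal :=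
    hP.2 ⟨h1, h2⟩ (Ideal.toIdeal_homogeneousCore_le 𝒜 P)
  have h4 : (P.homogeneousCore 𝒜).toIdeal = P :=
    le_antisymm (Ideal.toIdeal_homogeneousCore_le 𝒜 P) h3
  rw [← h4]
  exact (P.homogeneousCore 𝒜).isHomogeneous

/-- the prime ideal of a point of `Proj`. -/
noncomputable def pr (x : ↥(Proj 𝒜)) : PrimeSpectrum A :=
  ⟨(show ProjectiveSpectrum 𝒜 from x).asHomogeneousIdeal.toIdeal,
    (show ProjectiveSpectrum 𝒜 from x).isPrime⟩

lemma pr_isHomogeneous (x : ↥(Proj 𝒜)) : (pr 𝒜 x).asIdeal.IsHomogeneous 𝒜 :=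
  (show ProjectiveSpectrum 𝒜 from x).asHomogeneousIdeal.isHomogeneous

lemma not_irrelevant_le_pr (x : ↥(Proj 𝒜)) :
    ¬ (HomogeneousIdeal.irrelevant 𝒜).toIdeal ≤ (pr 𝒜 x).asIdeal :=
  (show ProjectiveSpectrum 𝒜 from x).not_irrelevant_le

/-- a relevant homogeneous prime is a point of `Proj`. -/
noncomputable def mkPt (P : PrimeSpectrum A) (hh : P.asIdeal.IsHomogeneous 𝒜)
    (hne : ¬ (HomogeneousIdeal.irrelevant 𝒜).toIdeal ≤ P.asIdeal) : ↥(Proj 𝒜) :=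
  (⟨⟨P.asIdeal, hh⟩, P.isPrime, hne⟩ : ProjectiveSpectrum 𝒜)

lemma pr_mkPt (P : PrimeSpectrum A) (hh : P.asIdeal.IsHomogeneous 𝒜)
    (hne : ¬ (HomogeneousIdeal.irrelevant 𝒜).toIdeal ≤ P.asIdeal) :
    pr 𝒜 (mkPt 𝒜 P hh hne) = P := rfl

lemma le_iff (x y : ↥(Proj 𝒜)) : x ≤ y ↔ pr 𝒜 y ≤ pr 𝒜 x := by
  rw [Scheme.le_iff_specializes, specializes_iff_mem_closure]
  have h := ProjectiveSpectrum.le_iff_mem_closure (𝒜 := 𝒜)
    (show ProjectiveSpectrum 𝒜 from y) (show ProjectiveSpectrum 𝒜 from x)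
  constructor
  · intro hx
    have h1 := h.2 hx
    exact fun a ha => h1 ha
  · intro hx
    exact h.1 (fun a ha => hx ha)

lemma lt_iff (x y : ↥(Proj 𝒜)) : x < y ↔ pr 𝒜 y < pr 𝒜 x := by
  rw [lt_iff_le_not_ge, lt_iff_le_not_ge, le_iff, le_iff]

/-- the vanishing ideal of a subset of `Proj`. -/
noncomputable def vI (Z : Set ↥(Proj 𝒜)) : Ideal A :=
  (ProjectiveSpectrum.vanishingIdeal (show Set (ProjectiveSpectrum 𝒜) from Z)).toIdeal

lemma vI_isHomogeneous (Z : Set ↥(Proj 𝒜)) : (vI 𝒜 Z).IsHomogeneous 𝒜 :=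
  (ProjectiveSpectrum.vanishingIdeal (show Set (ProjectiveSpectrum 𝒜) from Z)).isHomogeneous

lemma vI_le_of_mem {Z : Set ↥(Proj 𝒜)} {x : ↥(Proj 𝒜)} (hx : x ∈ Z) :
    vI 𝒜 Z ≤ (pr 𝒜 x).asIdeal := by
  intro f hf
  exact (ProjectiveSpectrum.mem_vanishingIdeal _ f).1 hf x hx

lemma mem_of_vI_le {Z : Set ↥(Proj 𝒜)} (hZ : IsClosed Z) {x : ↥(Proj 𝒜)}
    (h : vI 𝒜 Z ≤ (pr 𝒜 x).asIdeal) : x ∈ Z :=
  ProjAff.mem_of_vanishingIdeal_le 𝒜 Z hZ x h

theorem exists_cover_aux [IsNoetherianRing A] (Xb Y : Set ↥(Proj 𝒜)) (hXb : IsClosed Xb)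
    (hY : IsClosed Y) (r : ℕ)
    (hdim : Order.krullDim ↥(Xb \ Y) ≤ (r : WithBot ℕ∞)) (j : ℕ) :
    ∃ h : Fin j → A, (∀ i, ∃ d : ℕ, 0 < d ∧ h i ∈ 𝒜 d) ∧ (∀ i, h i ∈ vI 𝒜 Y) ∧
      ∀ t : ↥(Xb \ Y), (∀ i, h i ∈ (pr 𝒜 t.1).asIdeal) →
        Order.height t + (j : ℕ∞) ≤ (r : ℕ∞) := by
  classical
  induction j with
  | zero =>
    refine ⟨Fin.elim0, fun i => i.elim0, fun i => i.elim0, fun t _ => ?_⟩
    have h1 : ((Order.height t : ℕ∞) : WithBot ℕ∞) ≤ Order.krullDim ↥(Xb \ Y) :=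
      Order.height_le_krullDim t
    have h2 : ((Order.height t : ℕ∞) : WithBot ℕ∞) ≤ ((r : ℕ∞) : WithBot ℕ∞) := le_trans h1 hdim
    have h3 : Order.height t ≤ (r : ℕ∞) := WithBot.coe_le_coe.1 h2
    simpa using h3
  | succ j ih =>
    obtain ⟨h, hdeg, hvan, hht⟩ := ih
    have hJhom : (vI 𝒜 Xb ⊔ Ideal.span (Set.range h)).IsHomogeneous 𝒜 := by
      refine (vI_isHomogeneous 𝒜 Xb).sup (Ideal.homogeneous_span 𝒜 _ ?_)
      rintro _ ⟨i, rfl⟩
      obtain ⟨d, _, hd⟩ := hdeg i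
      exact ⟨d, hd⟩
    have hfin : (vI 𝒜 Xb ⊔ Ideal.span (Set.range h)).minimalPrimes.Finite :=
      Ideal.finite_minimalPrimes_of_isNoetherianRing A _
    have hs : ∀ P ∈ hfin.toFinset.filter
        (fun Q => ¬ vI 𝒜 Y ≤ Q ∧ ¬ (HomogeneousIdeal.irrelevant 𝒜).toIdeal ≤ Q),
        P.IsPrime ∧ P.IsHomogeneous 𝒜 ∧ ¬ vI 𝒜 Y ≤ P ∧
          ¬ (HomogeneousIdeal.irrelevant 𝒜).toIdeal ≤ P := by
      intro P hP
      obtain ⟨hP1, hP2⟩ := Finset.mem_filter.1 hP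
      have hP3 : P ∈ (vI 𝒜 Xb ⊔ Ideal.span (Set.range h)).minimalPrimes :=
        hfin.mem_toFinset.1 hP1
      exact ⟨hP3.1.1, isHomogeneous_of_mem_minimalPrimes 𝒜 hJhom hP3, hP2.1, hP2.2⟩
    obtain ⟨d, h', hd, hh'd, hh'J, hav⟩ := HomAvoid.exists_homogeneous_notMem_of_finset 𝒜
      (vI 𝒜 Y) (vI_isHomogeneous 𝒜 Y) _ hs
    refine ⟨Fin.snoc h h', ?_, ?_, ?_⟩
    · intro i
      refine Fin.lastCases ?_ (fun i => ?_) i
      · rw [Fin.snoc_last]; exact ⟨d, hd, hh'd⟩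
      · rw [Fin.snoc_castSucc]; exact hdeg i
    · intro i
      refine Fin.lastCases ?_ (fun i => ?_) i
      · rw [Fin.snoc_last]; exact hh'J
      · rw [Fin.snoc_castSucc]; exact hvan i
    · intro t ht
      have ht1 : ∀ i, h i ∈ (pr 𝒜 t.1).asIdeal := fun i => by
        have h5 := ht i.castSucc
        rwa [Fin.snoc_castSucc] at h5
      have ht2 : h' ∈ (pr 𝒜 t.1).asIdeal := by
        have h5 := ht (Fin.last j)
        rwa [Fin.snoc_last] at h5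
      have hJle : vI 𝒜 Xb ⊔ Ideal.span (Set.range h) ≤ (pr 𝒜 t.1).asIdeal := by
        refine sup_le (vI_le_of_mem 𝒜 t.2.1) (Ideal.span_le.2 ?_)
        rintro _ ⟨i, rfl⟩
        exact ht1 i
      obtain ⟨Q, hQ, hQle⟩ := Ideal.exists_minimalPrimes_le hJle
      haveI hQp : Q.IsPrime := hQ.1.1
      have hQY : ¬ vI 𝒜 Y ≤ Q := fun hle =>
        t.2.2 (mem_of_vI_le 𝒜 hY (le_trans hle hQle))
      have hQirr : ¬ (HomogeneousIdeal.irrelevant 𝒜).toIdeal ≤ Q := fun hle =>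
        not_irrelevant_le_pr 𝒜 t.1 (le_trans hle hQle)
      have hh'Q : h' ∉ Q :=
        hav Q (Finset.mem_filter.2 ⟨hfin.mem_toFinset.2 hQ, hQY, hQirr⟩)
      have hQhom := isHomogeneous_of_mem_minimalPrimes 𝒜 hJhom hQ
      have hyX : mkPt 𝒜 ⟨Q, hQp⟩ hQhom hQirr ∈ Xb :=
        mem_of_vI_le 𝒜 hXb (by rw [pr_mkPt]; exact le_trans le_sup_left hQ.1.2)
      have hyY : mkPt 𝒜 ⟨Q, hQp⟩ hQhom hQirr ∉ Y := fun hy => hQY (by
        have h5 := vI_le_of_mem 𝒜 hy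
        rwa [pr_mkPt] at h5)
      have hyh : ∀ i, h i ∈ (pr 𝒜 (mkPt 𝒜 ⟨Q, hQp⟩ hQhom hQirr)).asIdeal := fun i => by
        rw [pr_mkPt]
        exact hQ.1.2 (Ideal.mem_sup_right (Ideal.subset_span ⟨i, rfl⟩))
      have h3 := hht ⟨mkPt 𝒜 ⟨Q, hQp⟩ hQhom hQirr, hyX, hyY⟩ hyh
      have hlt : t < ⟨mkPt 𝒜 ⟨Q, hQp⟩ hQhom hQirr, hyX, hyY⟩ := by
        show t.1 < mkPt 𝒜 ⟨Q, hQp⟩ hQhom hQirr
        rw [lt_iff, pr_mkPt]
        refine lt_of_le_of_ne hQle (fun heq => hh'Q ?_)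
        rw [show Q = (pr 𝒜 t.1).asIdeal from congrArg PrimeSpectrum.asIdeal heq]
        exact ht2
      have h4 := Order.height_add_one_le hlt
      calc Order.height t + ((j + 1 : ℕ) : ℕ∞) = (Order.height t + 1) + (j : ℕ∞) := by
            push_cast; ring
        _ ≤ Order.height (⟨mkPt 𝒜 ⟨Q, hQp⟩ hQhom hQirr, hyX, hyY⟩ : ↥(Xb \ Y)) + (j : ℕ∞) :=
            add_le_add_left h4 _
        _ ≤ (r : ℕ∞) := h3

/-- **Hypersurface cover**: if `Xb`, `Y` are closed in `Proj 𝒜` (`𝒜` Noetherian) and `Xb ∖ Y` has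
dimension at most `r`, there are `r + 1` homogeneous elements of positive degree vanishing on `Y`
whose non-vanishing loci cover `Xb ∖ Y`. -/
theorem exists_cover [IsNoetherianRing A] (Xb Y : Set ↥(Proj 𝒜)) (hXb : IsClosed Xb)
    (hY : IsClosed Y) (r : ℕ)
    (hdim : Order.krullDim ↥(Xb \ Y) ≤ (r : WithBot ℕ∞)) :
    ∃ h : Fin (r + 1) → A, (∀ i, ∃ d : ℕ, 0 < d ∧ h i ∈ 𝒜 d) ∧ (∀ i, h i ∈ vI 𝒜 Y) ∧
      ∀ x ∈ Xb \ Y, ∃ i, h i ∉ (pr 𝒜 x).asIdeal := by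
  obtain ⟨h, h1, h2, h3⟩ := exists_cover_aux 𝒜 Xb Y hXb hY r hdim (r + 1)
  refine ⟨h, h1, h2, fun x hx => ?_⟩
  by_contra hcon
  push_neg at hcon
  have h4 := h3 ⟨x, hx⟩ hcon
  have h5 : ((r + 1 : ℕ) : ℕ∞) ≤ (r : ℕ∞) := le_trans le_add_self h4
  have h6 : r + 1 ≤ r := by exact_mod_cast h5
  omega

/-- A scheme of dimension `r` immersed in `Proj` of a Noetherian graded ring is covered by
`r + 1` affine opens. -/
theorem exists_affine_cover [IsNoetherianRing A] {X : Scheme.{u}} (ι : X ⟶ Proj 𝒜)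
    [IsImmersion ι] (r : ℕ) (hX : topologicalKrullDim ↥X = r) :
    ∃ U : Fin (r + 1) → X.Opens, (∀ i, IsAffineOpen (U i)) ∧ ⨆ i, U i = ⊤ := by
  classical
  have hXc : IsClosed (closure (Set.range ι.base)) := isClosed_closure
  have hYc : IsClosed (closure (Set.range ι.base) \ Set.range ι.base) :=
    ProjAff.isClosed_boundary 𝒜 ι
  have hdiff : closure (Set.range ι.base) \ (closure (Set.range ι.base) \ Set.range ι.base) =
      Set.range ι.base := Set.diff_diff_cancel_left subset_closure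
  have hdimX : topologicalKrullDim ↥(Set.range ι.base) = (r : WithBot ℕ∞) := by
    rw [← hX]
    exact (IsHomeomorph.topologicalKrullDim_eq _
      (ι.isEmbedding.toHomeomorph).isHomeomorph).symm
  have hdim : Order.krullDim
      ↥(closure (Set.range ι.base) \ (closure (Set.range ι.base) \ Set.range ι.base)) ≤
      (r : WithBot ℕ∞) := by
    have h1 : Order.krullDim
        ↥(closure (Set.range ι.base) \ (closure (Set.range ι.base) \ Set.range ι.base)) ≤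
        Order.krullDim ↥(Set.range ι.base) :=
      Order.krullDim_le_of_strictMono
        (fun t : ↥(closure (Set.range ι.base) \
            (closure (Set.range ι.base) \ Set.range ι.base)) =>
          (⟨t.1, hdiff.le t.2⟩ : ↥(Set.range ι.base))) (fun _ _ hab => hab)
    refine le_trans h1 ?_
    rw [← Groth.Agent.Lib.Helper12.ClosedDim.topologicalKrullDim_eq_krullDim_of_isLocallyClosed _
      ι.isLocallyClosed_range, hdimX]
  obtain ⟨h, h1, h2, h3⟩ := exists_cover 𝒜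
    (closure (Set.range ι.base)) (closure (Set.range ι.base) \ Set.range ι.base) hXc hYc r hdim
  refine ⟨fun i => ι ⁻¹ᵁ Proj.basicOpen 𝒜 (h i), ?_, ?_⟩
  · intro i
    obtain ⟨d, hd, hhd⟩ := h1 i
    exact ProjAff.isAffineOpen_preimage_basicOpen 𝒜 ι (h i) hd hhd
      (ProjAff.inter_basicOpen_subset 𝒜 ι (h i) (h2 i))
  · rw [eq_top_iff]
    intro x _
    have hx : ι.base x ∈ closure (Set.range ι.base) \
        (closure (Set.range ι.base) \ Set.range ι.base) := by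
      rw [hdiff]; exact ⟨x, rfl⟩
    obtain ⟨i, hi⟩ := h3 _ hx
    exact TopologicalSpace.Opens.mem_iSup.2 ⟨i, hi⟩

end Groth.Agent.Lib.Helper22.ProjCover
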