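import Mathlib
import Groth.Prelude.Def_CohB1
import Groth.Agent.Lib.Helper12.DimFT
import Groth.Agent.Lib.Helper12.ClosedDim
import Groth.Agent.Lib.Helper22.AffDim2b

/-!
# Projective space over a field as the punctured affine cone: points, primes and heights
-/

set_option autoImplicit false
set_option linter.style.haveILetI false
set_option linter.unusedSectionVars false

universe u

namespace Groth.Agent.Lib.Helper22.ProjDim

open MvPolynomial AlgebraicGeometry

variable (k : Type u) [Field k] (n : ℕ)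

local notation "SS" => MvPolynomial (Fin (n + 1)) k
local notation "GG" => CohB1.polyGrading n k

lemma decompose_zero_eq (f : SS) :
    ((DirectSum.decompose GG f) 0 : SS) = C (coeff 0 f) := by
  have h := MvPolynomial.decomposition.decompose'_apply (σ := Fin (n + 1)) (R := k) f 0
  rw [homogeneousComponent_zero] at h
  exact h

/-- the irrelevant maximal ideal as a point of `Spec`. -/
noncomputable def mIrr : PrimeSpectrum SS :=
  ⟨RingHom.ker (constantCoeff : SS →+* k), RingHom.ker_isPrime _⟩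

lemma mem_mIrr (f : SS) : f ∈ (mIrr k n).asIdeal ↔ coeff 0 f = 0 := by
  show f ∈ RingHom.ker (constantCoeff : SS →+* k) ↔ _
  rw [RingHom.mem_ker, constantCoeff_eq]

instance mIrr_isMaximal : (mIrr k n).asIdeal.IsMaximal :=
  RingHom.ker_isMaximal_of_surjective (constantCoeff : SS →+* k)
    (fun a => ⟨C a, constantCoeff_C _ a⟩)

lemma le_mIrr (I : Ideal SS) (hI : I.IsHomogeneous GG) (hne : I ≠ ⊤) :
    I ≤ (mIrr k n).asIdeal := by
  intro f hf
  rw [mem_mIrr]
  by_contra hc
  have h0 : ((DirectSum.decompose GG f) 0 : SS) ∈ I := hI 0 hf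
  rw [decompose_zero_eq] at h0
  have hu : IsUnit (C (coeff 0 f) : SS) := (IsUnit.mk0 _ hc).map C
  exact hne (Ideal.eq_top_of_isUnit_mem _ h0 hu)

lemma irrelevant_eq : (HomogeneousIdeal.irrelevant GG).toIdeal = (mIrr k n).asIdeal := by
  ext a
  rw [mem_mIrr]
  have h : a ∈ (HomogeneousIdeal.irrelevant GG).toIdeal ↔ a ∈ HomogeneousIdeal.irrelevant GG :=
    Iff.rfl
  rw [h, HomogeneousIdeal.mem_irrelevant_iff, GradedRing.proj_apply, decompose_zero_eq]
  exact map_eq_zero_iff C (C_injective _ _)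

lemma mIrr_isHomogeneous : (mIrr k n).asIdeal.IsHomogeneous GG := by
  rw [← irrelevant_eq]
  exact (HomogeneousIdeal.irrelevant GG).isHomogeneous

lemma isHomogeneous_of_mem_minimalPrimes {I P : Ideal SS} (hI : I.IsHomogeneous GG)
    (hP : P ∈ I.minimalPrimes) : P.IsHomogeneous GG := by
  have hPp : P.IsPrime := hP.1.1
  have h1 : (P.homogeneousCore GG).toIdeal.IsPrime := hPp.homogeneousCore
  have h2 : I ≤ (P.homogeneousCore GG).toIdeal := by
    rw [← hI.toIdeal_homogeneousCore_eq_self]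
    exact Ideal.homogeneousCore_mono GG hP.1.2
  have h3 : P ≤ (P.homogeneousCore GG).toIdeal :=
    hP.2 ⟨h1, h2⟩ (Ideal.toIdeal_homogeneousCore_le GG P)
  have h4 : (P.homogeneousCore GG).toIdeal = P :=
    le_antisymm (Ideal.toIdeal_homogeneousCore_le GG P) h3
  rw [← h4]
  exact (P.homogeneousCore GG).isHomogeneous

/-- the prime ideal of a point of `Proj`. -/
noncomputable def pr (x : ↥(Proj GG)) : PrimeSpectrum SS :=
  ⟨(show ProjectiveSpectrum GG from x).asHomogeneousIdeal.toIdeal,
    (show ProjectiveSpectrum GG from x).isPrime⟩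

lemma pr_isHomogeneous (x : ↥(Proj GG)) : (pr k n x).asIdeal.IsHomogeneous GG :=
  (show ProjectiveSpectrum GG from x).asHomogeneousIdeal.isHomogeneous

lemma pr_ne (x : ↥(Proj GG)) : pr k n x ≠ mIrr k n := by
  intro heq
  have hI : (show ProjectiveSpectrum GG from x).asHomogeneousIdeal.toIdeal = (mIrr k n).asIdeal :=
    congrArg PrimeSpectrum.asIdeal heq
  apply (show ProjectiveSpectrum GG from x).not_irrelevant_le
  intro a ha
  have h1 : a ∈ (HomogeneousIdeal.irrelevant GG).toIdeal := ha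
  rw [irrelevant_eq, ← hI] at h1
  exact h1

lemma pr_lt (x : ↥(Proj GG)) : pr k n x < mIrr k n :=
  lt_of_le_of_ne (le_mIrr k n _ (pr_isHomogeneous k n x) (pr k n x).isPrime.ne_top) (pr_ne k n x)

/-- a homogeneous prime different from the irrelevant ideal is a point of `Proj`. -/
noncomputable def mkPt (P : PrimeSpectrum SS) (hh : P.asIdeal.IsHomogeneous GG)
    (hne : P ≠ mIrr k n) : ↥(Proj GG) :=
  (⟨⟨P.asIdeal, hh⟩, P.isPrime, fun hle => hne (by
    have h1 : (mIrr k n).asIdeal ≤ P.asIdeal := by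
      rw [← irrelevant_eq]
      exact hle
    exact PrimeSpectrum.ext ((mIrr_isMaximal k n).eq_of_le P.isPrime.ne_top h1).symm)⟩ :
      ProjectiveSpectrum GG)

lemma pr_mkPt (P : PrimeSpectrum SS) (hh : P.asIdeal.IsHomogeneous GG)
    (hne : P ≠ mIrr k n) : pr k n (mkPt k n P hh hne) = P := rfl

lemma le_iff (x y : ↥(Proj GG)) : x ≤ y ↔ pr k n y ≤ pr k n x := by
  rw [Scheme.le_iff_specializes, specializes_iff_mem_closure]
  have h := ProjectiveSpectrum.le_iff_mem_closure (𝒜 := GG)
    (show ProjectiveSpectrum GG from y) (show ProjectiveSpectrum GG from x)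
  constructor
  · intro hx
    have h1 := h.2 hx
    exact fun a ha => h1 ha
  · intro hx
    exact h.1 (fun a ha => hx ha)

lemma lt_iff (x y : ↥(Proj GG)) : x < y ↔ pr k n y < pr k n x := by
  rw [lt_iff_le_not_ge, lt_iff_le_not_ge, le_iff, le_iff]

lemma exists_covBy (x : ↥(Proj GG)) :
    ∃ q : PrimeSpectrum SS, pr k n x ⋖ q ∧ q.asIdeal.IsHomogeneous GG := by
  classical
  obtain ⟨g, hgm, hgp⟩ := SetLike.exists_of_lt
    (show (pr k n x).asIdeal < (mIrr k n).asIdeal from pr_lt k n x)
  have hex : ∃ i, ((DirectSum.decompose GG g) i : SS) ∉ (pr k n x).asIdeal := by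
    by_contra hcon
    push_neg at hcon
    apply hgp
    rw [← DirectSum.sum_support_decompose GG g]
    exact Ideal.sum_mem _ fun i _ => hcon i
  obtain ⟨i, hi⟩ := hex
  have hfhom : SetLike.IsHomogeneousElem GG ((DirectSum.decompose GG g) i : SS) :=
    ⟨i, SetLike.coe_mem _⟩
  have hfm : ((DirectSum.decompose GG g) i : SS) ∈ (mIrr k n).asIdeal :=
    mIrr_isHomogeneous k n i hgm
  have hJhom : ((pr k n x).asIdeal ⊔ Ideal.span {((DirectSum.decompose GG g) i : SS)}).IsHomogeneous
      GG := by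
    refine (pr_isHomogeneous k n x).sup (Ideal.homogeneous_span GG _ ?_)
    rintro _ rfl
    exact hfhom
  have hJle : (pr k n x).asIdeal ⊔ Ideal.span {((DirectSum.decompose GG g) i : SS)} ≤
      (mIrr k n).asIdeal :=
    sup_le (pr_lt k n x).le ((Ideal.span_singleton_le_iff_mem _).2 hfm)
  obtain ⟨q, hq, -⟩ := Ideal.exists_minimalPrimes_le hJle
  haveI hqp : q.IsPrime := hq.1.1
  have hpq : (pr k n x).asIdeal ≤ q := le_trans le_sup_left hq.1.2
  have hfq : ((DirectSum.decompose GG g) i : SS) ∈ q :=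
    hq.1.2 (Ideal.mem_sup_right (Ideal.mem_span_singleton_self _))
  have hlt : pr k n x < ⟨q, hqp⟩ := by
    refine lt_of_le_of_ne hpq ?_
    intro heq
    apply hi
    rw [heq]
    exact hfq
  refine ⟨⟨q, hqp⟩, ⟨hlt, ?_⟩, isHomogeneous_of_mem_minimalPrimes k n hJhom hq⟩
  intro r hr1 hr2
  have hht := Ideal.map_height_le_one_of_mem_minimalPrimes hq
  have hsurj : Function.Surjective (Ideal.Quotient.mk (pr k n x).asIdeal) :=
    Ideal.Quotient.mk_surjective
  have hker : RingHom.ker (Ideal.Quotient.mk (pr k n x).asIdeal) ≤ q := by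
    rw [Ideal.mk_ker]; exact hpq
  have hkerr : RingHom.ker (Ideal.Quotient.mk (pr k n x).asIdeal) ≤ r.asIdeal := by
    rw [Ideal.mk_ker]; exact hr1.le
  haveI hq' : (q.map (Ideal.Quotient.mk (pr k n x).asIdeal)).IsPrime :=
    Ideal.map_isPrime_of_surjective hsurj hker
  haveI hr' : (r.asIdeal.map (Ideal.Quotient.mk (pr k n x).asIdeal)).IsPrime :=
    Ideal.map_isPrime_of_surjective hsurj hkerr
  have hcm : ∀ I : Ideal SS, RingHom.ker (Ideal.Quotient.mk (pr k n x).asIdeal) ≤ I →
      (I.map (Ideal.Quotient.mk (pr k n x).asIdeal)).comap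
        (Ideal.Quotient.mk (pr k n x).asIdeal) = I := by
    intro I hI
    rw [Ideal.comap_map_of_surjective _ hsurj, ← RingHom.ker_eq_comap_bot]
    exact sup_eq_left.mpr hI
  have hrq' : r.asIdeal.map (Ideal.Quotient.mk (pr k n x).asIdeal) <
      q.map (Ideal.Quotient.mk (pr k n x).asIdeal) := by
    refine lt_of_le_of_ne (Ideal.map_mono hr2.le) ?_
    intro heq
    have h1 := congrArg (Ideal.comap (Ideal.Quotient.mk (pr k n x).asIdeal)) heq
    rw [hcm _ hker, hcm _ hkerr] at h1
    exact hr2.ne (PrimeSpectrum.ext h1)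
  have h0 := (Ideal.height_le_iff (n := 1)).1 (by exact_mod_cast hht) _ hr' hrq'
  have h00 : (r.asIdeal.map (Ideal.Quotient.mk (pr k n x).asIdeal)).height = 0 := by
    have : (r.asIdeal.map (Ideal.Quotient.mk (pr k n x).asIdeal)).height < 1 := by
      exact_mod_cast h0
    exact ENat.lt_one_iff_eq_zero.1 this
  rw [Ideal.height_eq_zero_iff_eq_bot] at h00
  have h2 := hcm _ hkerr
  rw [h00, ← RingHom.ker_eq_comap_bot, Ideal.mk_ker] at h2
  exact hr1.ne (PrimeSpectrum.ext h2)

end Groth.Agent.Lib.Helper22.ProjDim
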