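import Mathlib
import Groth.Agent.Lib.Helper22.ProjDim1

/-!
# The projective dimension theorem
-/

set_option autoImplicit false
set_option linter.style.haveILetI false
set_option linter.unusedSectionVars false

universe u

namespace Groth.Agent.Lib.Helper22.ProjDim

open MvPolynomial AlgebraicGeometry

variable (k : Type u) [Field k] (n : ℕ)

local notation "SS" => MvPolynomial (Fin (n + 1)) k
local notation "GG" => CohB1.polyGrading n k

lemma dimS : Order.krullDim (PrimeSpectrum SS) = ((n + 1 : ℕ) : WithBot ℕ∞) := by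
  have h : ringKrullDim SS = ((n + 1 : ℕ) : WithBot ℕ∞) := by
    rw [MvPolynomial.ringKrullDim_of_isNoetherianRing, ringKrullDim_eq_zero_of_field, Nat.card_fin,
      zero_add]
  exact h

lemma exists_coheight_eq (p : PrimeSpectrum SS) : ∃ m : ℕ, Order.coheight p = (m : ℕ∞) := by
  have h1 := Order.coheight_le_krullDim p
  rw [dimS] at h1
  have h2 : Order.coheight p ≤ ((n + 1 : ℕ) : ℕ∞) := by exact_mod_cast h1
  obtain ⟨m, hm⟩ := ENat.ne_top_iff_exists.1 (ne_top_of_le_ne_top (ENat.coe_ne_top (n + 1)) h2)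
  exact ⟨m, hm.symm⟩

lemma isMax_mIrr : IsMax (mIrr k n) := by
  intro r hr
  have h1 : (mIrr k n).asIdeal ≤ r.asIdeal := hr
  have h2 := (mIrr_isMaximal k n).eq_of_le r.isPrime.ne_top h1
  exact (PrimeSpectrum.ext h2).ge

lemma height_add_one_le_coheight (x : ↥(Proj GG)) :
    Order.height x + 1 ≤ Order.coheight (pr k n x) := by
  let φ : WithBot ↥(Proj GG) → (PrimeSpectrum SS)ᵒᵈ := fun y =>
    WithBot.recBotCoe (OrderDual.toDual (mIrr k n)) (fun y => OrderDual.toDual (pr k n y)) y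
  have hφ : StrictMono φ := by
    intro a b h
    induction a using WithBot.recBotCoe with
    | bot =>
      induction b using WithBot.recBotCoe with
      | bot => exact absurd h (lt_irrefl _)
      | coe b => exact pr_lt k n b
    | coe a =>
      induction b using WithBot.recBotCoe with
      | bot => exact absurd h (not_lt_bot)
      | coe b => exact (lt_iff k n a b).1 (WithBot.coe_lt_coe.1 h)
  have h := Order.height_le_height_apply_of_strictMono φ hφ (x : WithBot ↥(Proj GG))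
  rw [Order.height_coe_withBot] at h
  exact h

lemma le_height_of_coheight_eq (c : ℕ) : ∀ x : ↥(Proj GG),
    Order.coheight (pr k n x) = (c : ℕ∞) + 1 → (c : ℕ∞) ≤ Order.height x := by
  induction c with
  | zero => intro x _; exact zero_le
  | succ c ih =>
    intro x hx
    obtain ⟨q, hcov, hqh⟩ := exists_covBy k n x
    have h1 := Groth.Agent.Lib.Helper12.DimFT.coheight_eq_add_one_of_covBy k SS hcov
    have h2 : Order.coheight (pr k n x) = Order.coheight q + 1 := by exact_mod_cast h1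
    obtain ⟨m, hm⟩ := exists_coheight_eq k n q
    rw [hx, hm] at h2
    have h3 : c + 1 + 1 = m + 1 := by exact_mod_cast h2
    have h4 : m = c + 1 := by omega
    have hne : q ≠ mIrr k n := by
      intro heq
      have h5 : Order.coheight q = 0 := by
        rw [heq]; exact Order.coheight_eq_zero.2 (isMax_mIrr k n)
      rw [hm, h4] at h5
      have : c + 1 = 0 := by exact_mod_cast h5
      omega
    have h6 := ih (mkPt k n q hqh hne) (by
      rw [pr_mkPt, hm, h4]; push_cast; rfl)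
    have hlt : mkPt k n q hqh hne < x := by
      rw [lt_iff, pr_mkPt]
      exact hcov.lt
    have h7 := Order.height_add_one_le hlt
    calc ((c + 1 : ℕ) : ℕ∞) = (c : ℕ∞) + 1 := by push_cast; rfl
      _ ≤ Order.height (mkPt k n q hqh hne) + 1 := add_le_add_left h6 1
      _ ≤ Order.height x := h7

lemma coheight_le_height_add_one (x : ↥(Proj GG)) :
    Order.coheight (pr k n x) ≤ Order.height x + 1 := by
  obtain ⟨m, hm⟩ := exists_coheight_eq k n (pr k n x)
  have h1 := height_add_one_le_coheight k n x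
  have h2 : (1 : ℕ∞) ≤ Order.coheight (pr k n x) := le_trans le_add_self h1
  rw [hm] at h2
  have h3 : 1 ≤ m := by exact_mod_cast h2
  obtain ⟨c, rfl⟩ : ∃ c, m = c + 1 := ⟨m - 1, by omega⟩
  have h4 := le_height_of_coheight_eq k n c x (by rw [hm]; push_cast; rfl)
  rw [hm]
  calc ((c + 1 : ℕ) : ℕ∞) = (c : ℕ∞) + 1 := by push_cast; rfl
    _ ≤ Order.height x + 1 := add_le_add_left h4 1

lemma exists_point_height (X : Set ↥(Proj GG)) (hX : IsClosed X) (r : ℕ)
    (h : (r : WithBot ℕ∞) ≤ topologicalKrullDim X) :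
    ∃ ξ ∈ X, (r : ℕ∞) ≤ Order.height ξ := by
  rw [Groth.Agent.Lib.Helper12.ClosedDim.topologicalKrullDim_eq_krullDim_of_isLocallyClosed X
    hX.isLocallyClosed] at h
  obtain ⟨l, hl⟩ := Order.le_krullDim_iff.1 h
  refine ⟨(l.last).1, (l.last).2, ?_⟩
  have h1 := Order.length_le_height_last
    (p := l.map (fun t : ↥X => (t : ↥(Proj GG))) (fun _ _ hab => hab))
  rw [LTSeries.last_map, LTSeries.map_length, hl] at h1
  exact h1

lemma height_le_dim (Z : Set ↥(Proj GG)) (hZ : IsClosed Z) (ζ : ↥(Proj GG)) (hζ : ζ ∈ Z) :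
    ((Order.height ζ : ℕ∞) : WithBot ℕ∞) ≤ topologicalKrullDim Z := by
  rw [Groth.Agent.Lib.Helper12.ClosedDim.topologicalKrullDim_eq_krullDim_of_isLocallyClosed Z
    hZ.isLocallyClosed, Order.height_eq_krullDim_Iic]
  refine Order.krullDim_le_of_strictMono
    (fun y : Set.Iic ζ => (⟨y.1, ?_⟩ : ↥Z)) (fun _ _ hab => hab)
  have h1 : y.1 ≤ ζ := y.2
  rw [Scheme.le_iff_specializes] at h1
  exact h1.mem_closed hZ hζ

theorem inter_nonempty_and_dim_ge (r s : ℕ) (X Y : Set ↥(Proj GG)) (hX : IsClosed X)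
    (hY : IsClosed Y) (hXr : topologicalKrullDim X = r) (hYs : topologicalKrullDim Y = s)
    (hrs : n ≤ r + s) :
    (X ∩ Y).Nonempty ∧
      ((r + s : ℕ) : WithBot ℕ∞) ≤ topologicalKrullDim ↥(X ∩ Y) + (n : WithBot ℕ∞) := by
  classical
  obtain ⟨ξ, hξX, hξ⟩ := exists_point_height k n X hX r hXr.ge
  obtain ⟨η, hηY, hη⟩ := exists_point_height k n Y hY s hYs.ge
  obtain ⟨a, ha⟩ := exists_coheight_eq k n (pr k n ξ)
  obtain ⟨b, hb⟩ := exists_coheight_eq k n (pr k n η)
  have ha1 : r + 1 ≤ a := by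
    have h1 := le_trans (add_le_add_left hξ 1) (height_add_one_le_coheight k n ξ)
    rw [ha] at h1
    exact_mod_cast h1
  have hb1 : s + 1 ≤ b := by
    have h1 := le_trans (add_le_add_left hη 1) (height_add_one_le_coheight k n η)
    rw [hb] at h1
    exact_mod_cast h1
  have hJle : (pr k n ξ).asIdeal ⊔ (pr k n η).asIdeal ≤ (mIrr k n).asIdeal :=
    sup_le (pr_lt k n ξ).le (pr_lt k n η).le
  have hJhom : ((pr k n ξ).asIdeal ⊔ (pr k n η).asIdeal).IsHomogeneous GG :=
    (pr_isHomogeneous k n ξ).sup (pr_isHomogeneous k n η)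
  obtain ⟨P, hP, -⟩ := Ideal.exists_minimalPrimes_le hJle
  haveI hPp : P.IsPrime := hP.1.1
  have hPhom : P.IsHomogeneous GG := isHomogeneous_of_mem_minimalPrimes k n hJhom hP
  haveI : (pr k n ξ).asIdeal.IsPrime := (pr k n ξ).isPrime
  haveI : (pr k n η).asIdeal.IsPrime := (pr k n η).isPrime
  have hmain := Groth.Agent.Lib.Helper22.AffDim0.add_le_of_mem_minimalPrimes k
    (pr k n ξ).asIdeal (pr k n η).asIdeal P hP
  obtain ⟨m, hm⟩ := exists_coheight_eq k n ⟨P, hPp⟩
  rw [Groth.Agent.Lib.Helper12.DimFT.ringKrullDim_quotient_eq_coheight (pr k n ξ),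
    Groth.Agent.Lib.Helper12.DimFT.ringKrullDim_quotient_eq_coheight (pr k n η),
    show ringKrullDim (SS ⧸ P) = (Order.coheight (⟨P, hPp⟩ : PrimeSpectrum SS) : WithBot ℕ∞) from
      Groth.Agent.Lib.Helper12.DimFT.ringKrullDim_quotient_eq_coheight ⟨P, hPp⟩,
    ha, hb, hm, Fintype.card_fin] at hmain
  have hmain' : a + b ≤ m + (n + 1) := by exact_mod_cast hmain
  have hne : (⟨P, hPp⟩ : PrimeSpectrum SS) ≠ mIrr k n := by
    intro heq
    have h5 : Order.coheight (⟨P, hPp⟩ : PrimeSpectrum SS) = 0 := by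
      rw [heq]; exact Order.coheight_eq_zero.2 (isMax_mIrr k n)
    rw [hm] at h5
    have : m = 0 := by exact_mod_cast h5
    omega
  have hζX : mkPt k n ⟨P, hPp⟩ hPhom hne ∈ X := by
    have h1 : mkPt k n ⟨P, hPp⟩ hPhom hne ≤ ξ := by
      rw [le_iff, pr_mkPt]
      exact (show (pr k n ξ).asIdeal ≤ P from le_trans le_sup_left hP.1.2)
    rw [Scheme.le_iff_specializes] at h1
    exact h1.mem_closed hX hξX
  have hζY : mkPt k n ⟨P, hPp⟩ hPhom hne ∈ Y := by
    have h1 : mkPt k n ⟨P, hPp⟩ hPhom hne ≤ η := by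
      rw [le_iff, pr_mkPt]
      exact (show (pr k n η).asIdeal ≤ P from le_trans le_sup_right hP.1.2)
    rw [Scheme.le_iff_specializes] at h1
    exact h1.mem_closed hY hηY
  refine ⟨⟨_, hζX, hζY⟩, ?_⟩
  have h8 := coheight_le_height_add_one k n (mkPt k n ⟨P, hPp⟩ hPhom hne)
  rw [pr_mkPt, hm] at h8
  have h9 := height_le_dim k n (X ∩ Y) (hX.inter hY) _ ⟨hζX, hζY⟩
  refine le_trans ?_ (add_le_add_left h9 _)
  cases hh : Order.height (mkPt k n ⟨P, hPp⟩ hPhom hne) with
  | top =>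
    have h12 : (((⊤ : ℕ∞) : WithBot ℕ∞) + (n : WithBot ℕ∞)) = ((⊤ : ℕ∞) : WithBot ℕ∞) := by
      have : ((n : ℕ) : WithBot ℕ∞) = (((n : ℕ) : ℕ∞) : WithBot ℕ∞) := rfl
      rw [this, ← WithBot.coe_add, top_add]
    rw [h12]
    have : (((r + s : ℕ) : ℕ∞) : WithBot ℕ∞) ≤ ((⊤ : ℕ∞) : WithBot ℕ∞) :=
      WithBot.coe_le_coe.2 le_top
    exact this
  | coe t =>
    rw [hh] at h8
    have h10 : m ≤ t + 1 := by exact_mod_cast h8
    have h11 : r + s ≤ t + n := by omega
    exact_mod_cast h11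

end Groth.Agent.Lib.Helper22.ProjDim
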