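import Mathlib
import Groth.Agent.Lib.Helper22.ProjDim1
import Groth.Agent.Lib.Helper22.HomAvoid
import Groth.Agent.Lib.Helper22.ProjAff

/-!
# Covering `X ∖ Y` in projective space by `dim + 1` hypersurface complements through `Y`
-/

set_option autoImplicit false
set_option linter.style.haveILetI false
set_option linter.unusedSectionVars false

universe u

namespace Groth.Agent.Lib.Helper22.ProjDim

open MvPolynomial AlgebraicGeometry

variable (k : Type u) [Field k] (n : ℕ)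

local notation "SS" => MvPolynomial (Fin (n + 1)) k
local notation "GG" => CohB1.polyGrading n k

/-- the vanishing ideal of a subset of projective space. -/
noncomputable def vI (Z : Set ↥(Proj GG)) : Ideal SS :=
  (ProjectiveSpectrum.vanishingIdeal (show Set (ProjectiveSpectrum GG) from Z)).toIdeal

lemma vI_isHomogeneous (Z : Set ↥(Proj GG)) : (vI k n Z).IsHomogeneous GG :=
  (ProjectiveSpectrum.vanishingIdeal (show Set (ProjectiveSpectrum GG) from Z)).isHomogeneous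

lemma vI_le_of_mem {Z : Set ↥(Proj GG)} {x : ↥(Proj GG)} (hx : x ∈ Z) :
    vI k n Z ≤ (pr k n x).asIdeal := by
  intro f hf
  exact (ProjectiveSpectrum.mem_vanishingIdeal _ f).1 hf x hx

lemma mem_of_vI_le {Z : Set ↥(Proj GG)} (hZ : IsClosed Z) {x : ↥(Proj GG)}
    (h : vI k n Z ≤ (pr k n x).asIdeal) : x ∈ Z :=
  ProjAff.mem_of_vanishingIdeal_le GG Z hZ x h

lemma not_irrelevant_le_pr (x : ↥(Proj GG)) :
    ¬ (HomogeneousIdeal.irrelevant GG).toIdeal ≤ (pr k n x).asIdeal := by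
  rw [irrelevant_eq]
  intro hle
  exact absurd (pr_lt k n x) (not_lt_of_ge hle)

theorem exists_cover_aux (Xb Y : Set ↥(Proj GG)) (hXb : IsClosed Xb) (hY : IsClosed Y) (r : ℕ)
    (hdim : Order.krullDim ↥(Xb \ Y) ≤ (r : WithBot ℕ∞)) (j : ℕ) :
    ∃ h : Fin j → SS, (∀ i, ∃ d : ℕ, 0 < d ∧ h i ∈ GG d) ∧ (∀ i, h i ∈ vI k n Y) ∧
      ∀ t : ↥(Xb \ Y), (∀ i, h i ∈ (pr k n t.1).asIdeal) →
        Order.height t + (j : ℕ∞) ≤ (r : ℕ∞) := by
  classical
  induction j with
  | zero =>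
    refine ⟨Fin.elim0, fun i => i.elim0, fun i => i.elim0, fun t _ => ?_⟩
    have h1 : ((Order.height t : ℕ∞) : WithBot ℕ∞) ≤ Order.krullDim ↥(Xb \ Y) :=
      Order.height_le_krullDim t
    have h2 : ((Order.height t : ℕ∞) : WithBot ℕ∞) ≤ ((r : ℕ∞) : WithBot ℕ∞) := le_trans h1 hdim
    have h3 : Order.height t ≤ (r : ℕ∞) := WithBot.coe_le_coe.1 h2
    simpa using h3
  | succ j ih =>
    obtain ⟨h, hdeg, hvan, hht⟩ := ih
    have hJhom : (vI k n Xb ⊔ Ideal.span (Set.range h)).IsHomogeneous GG := by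
      refine (vI_isHomogeneous k n Xb).sup (Ideal.homogeneous_span GG _ ?_)
      rintro _ ⟨i, rfl⟩
      obtain ⟨d, _, hd⟩ := hdeg i
      exact ⟨d, hd⟩
    have hfin : (vI k n Xb ⊔ Ideal.span (Set.range h)).minimalPrimes.Finite :=
      Ideal.finite_minimalPrimes_of_isNoetherianRing SS _
    have hs : ∀ P ∈ hfin.toFinset.filter
        (fun Q => ¬ vI k n Y ≤ Q ∧ ¬ (HomogeneousIdeal.irrelevant GG).toIdeal ≤ Q),
        P.IsPrime ∧ P.IsHomogeneous GG ∧ ¬ vI k n Y ≤ P ∧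
          ¬ (HomogeneousIdeal.irrelevant GG).toIdeal ≤ P := by
      intro P hP
      obtain ⟨hP1, hP2⟩ := Finset.mem_filter.1 hP
      have hP3 : P ∈ (vI k n Xb ⊔ Ideal.span (Set.range h)).minimalPrimes :=
        hfin.mem_toFinset.1 hP1
      exact ⟨hP3.1.1, isHomogeneous_of_mem_minimalPrimes k n hJhom hP3, hP2.1, hP2.2⟩
    obtain ⟨d, h', hd, hh'd, hh'J, hav⟩ := HomAvoid.exists_homogeneous_notMem_of_finset GG
      (vI k n Y) (vI_isHomogeneous k n Y) _ hs
    refine ⟨Fin.snoc h h', ?_, ?_, ?_⟩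
    · intro i
      refine Fin.lastCases ?_ (fun i => ?_) i
      · rw [Fin.snoc_last]; exact ⟨d, hd, hh'd⟩
      · rw [Fin.snoc_castSucc]; exact hdeg i
    · intro i
      refine Fin.lastCases ?_ (fun i => ?_) i
      · rw [Fin.snoc_last]; exact hh'J
      · rw [Fin.snoc_castSucc]; exact hvan i
    · intro t ht
      have ht1 : ∀ i, h i ∈ (pr k n t.1).asIdeal := fun i => by
        have h5 := ht i.castSucc
        rwa [Fin.snoc_castSucc] at h5
      have ht2 : h' ∈ (pr k n t.1).asIdeal := by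
        have h5 := ht (Fin.last j)
        rwa [Fin.snoc_last] at h5
      have hJle : vI k n Xb ⊔ Ideal.span (Set.range h) ≤ (pr k n t.1).asIdeal := by
        refine sup_le (vI_le_of_mem k n t.2.1) (Ideal.span_le.2 ?_)
        rintro _ ⟨i, rfl⟩
        exact ht1 i
      obtain ⟨Q, hQ, hQle⟩ := Ideal.exists_minimalPrimes_le hJle
      haveI hQp : Q.IsPrime := hQ.1.1
      have hQY : ¬ vI k n Y ≤ Q := fun hle =>
        t.2.2 (mem_of_vI_le k n hY (le_trans hle hQle))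
      have hQirr : ¬ (HomogeneousIdeal.irrelevant GG).toIdeal ≤ Q := fun hle =>
        not_irrelevant_le_pr k n t.1 (le_trans hle hQle)
      have hh'Q : h' ∉ Q :=
        hav Q (Finset.mem_filter.2 ⟨hfin.mem_toFinset.2 hQ, hQY, hQirr⟩)
      have hQhom := isHomogeneous_of_mem_minimalPrimes k n hJhom hQ
      have hQne : (⟨Q, hQp⟩ : PrimeSpectrum SS) ≠ mIrr k n := by
        intro heq
        apply hQirr
        rw [irrelevant_eq]
        exact (congrArg PrimeSpectrum.asIdeal heq).ge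
      have hyX : mkPt k n ⟨Q, hQp⟩ hQhom hQne ∈ Xb :=
        mem_of_vI_le k n hXb (by rw [pr_mkPt]; exact le_trans le_sup_left hQ.1.2)
      have hyY : mkPt k n ⟨Q, hQp⟩ hQhom hQne ∉ Y := fun hy => hQY (by
        have h5 := vI_le_of_mem k n hy
        rwa [pr_mkPt] at h5)
      have hyh : ∀ i, h i ∈ (pr k n (mkPt k n ⟨Q, hQp⟩ hQhom hQne)).asIdeal := fun i => by
        rw [pr_mkPt]
        exact hQ.1.2 (Ideal.mem_sup_right (Ideal.subset_span ⟨i, rfl⟩))
      have h3 := hht ⟨mkPt k n ⟨Q, hQp⟩ hQhom hQne, hyX, hyY⟩ hyh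
      have hlt : t < ⟨mkPt k n ⟨Q, hQp⟩ hQhom hQne, hyX, hyY⟩ := by
        show t.1 < mkPt k n ⟨Q, hQp⟩ hQhom hQne
        rw [lt_iff, pr_mkPt]
        refine lt_of_le_of_ne hQle (fun heq => hh'Q ?_)
        rw [show Q = (pr k n t.1).asIdeal from congrArg PrimeSpectrum.asIdeal heq]
        exact ht2
      have h4 := Order.height_add_one_le hlt
      calc Order.height t + ((j + 1 : ℕ) : ℕ∞) = (Order.height t + 1) + (j : ℕ∞) := by
            push_cast; ring
        _ ≤ Order.height (⟨mkPt k n ⟨Q, hQp⟩ hQhom hQne, hyX, hyY⟩ : ↥(Xb \ Y)) + (j : ℕ∞) :=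
            add_le_add_left h4 _
        _ ≤ (r : ℕ∞) := h3

/-- **Hypersurface cover**: if `Xb`, `Y` are closed in `P^n_k` and `Xb ∖ Y` has dimension at most
`r`, there are `r + 1` homogeneous forms of positive degree vanishing on `Y` whose non-vanishing
loci cover `Xb ∖ Y`. -/
theorem exists_cover (Xb Y : Set ↥(Proj GG)) (hXb : IsClosed Xb) (hY : IsClosed Y) (r : ℕ)
    (hdim : Order.krullDim ↥(Xb \ Y) ≤ (r : WithBot ℕ∞)) :
    ∃ h : Fin (r + 1) → SS, (∀ i, ∃ d : ℕ, 0 < d ∧ h i ∈ GG d) ∧ (∀ i, h i ∈ vI k n Y) ∧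
      ∀ x ∈ Xb \ Y, ∃ i, h i ∉ (pr k n x).asIdeal := by
  obtain ⟨h, h1, h2, h3⟩ := exists_cover_aux k n Xb Y hXb hY r hdim (r + 1)
  refine ⟨h, h1, h2, fun x hx => ?_⟩
  by_contra hcon
  push_neg at hcon
  have h4 := h3 ⟨x, hx⟩ hcon
  have h5 : ((r + 1 : ℕ) : ℕ∞) ≤ (r : ℕ∞) := le_trans le_add_self h4
  have h6 : r + 1 ≤ r := by exact_mod_cast h5
  omega

end Groth.Agent.Lib.Helper22.ProjDim
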