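import Mathlib

/-!
# Finiteness of the spectrum of a semilocal Prüfer domain of finite Krull dimension
-/

set_option autoImplicit false
universe u

namespace Groth.Agent.Lib.Helper22

/-- A chain in a partial order of finite Krull dimension is finite. -/
theorem finite_of_isChain_of_krullDim_lt_top {α : Type*} [PartialOrder α] (S : Set α)
    (hS : IsChain (· ≤ ·) S) (h : Order.krullDim α < ⊤) : S.Finite := by
  have hh : ∀ x : α, Order.height x < ⊤ := fun x => by
    have h1 := Order.height_le_krullDim x
    have h2 := lt_of_le_of_lt h1 h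
    exact WithBot.coe_lt_coe.mp (by simpa using h2)
  -- a uniform bound
  obtain ⟨n, hn⟩ : ∃ n : ℕ, ∀ x : α, Order.height x ≤ n := by
    by_cases hne : Nonempty α
    · have h0 : Order.krullDim α ≠ ⊥ := Order.krullDim_ne_bot_iff.mpr hne
      obtain ⟨m, hm⟩ := WithBot.ne_bot_iff_exists.mp h0
      have hm' : m ≠ ⊤ := by
        rintro rfl
        rw [← hm] at h
        exact lt_irrefl _ h
      obtain ⟨n, rfl⟩ := ENat.ne_top_iff_exists.mp hm'
      refine ⟨n, fun x => ?_⟩
      have h1 := Order.height_le_krullDim x
      rw [← hm] at h1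
      exact_mod_cast h1
    · exact ⟨0, fun x => (hne ⟨x⟩).elim⟩
  refine Set.Finite.of_injOn (f := fun x => (Order.height x).toNat) (t := Set.Iic n) ?_ ?_
    (Set.finite_Iic n)
  · intro x _
    simp only [Set.mem_Iic]
    exact ENat.toNat_le_of_le_natCast (hn x)
  · intro x hx y hy hxy
    simp only at hxy
    have hxy' : Order.height x = Order.height y := by
      rw [← ENat.natCast_toNat (hh x).ne, ← ENat.natCast_toNat (hh y).ne, hxy]
    by_contra hne
    rcases hS.total hx hy with h1 | h1
    · exact (Order.height_strictMono (lt_of_le_of_ne h1 hne) (hh x)).ne hxy'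
    · exact (Order.height_strictMono (lt_of_le_of_ne h1 (Ne.symm hne)) (hh y)).ne hxy'.symm

/-- In a domain whose localisations at primes are valuation rings, the primes below a given prime
form a chain. -/
theorem isChain_primes_le (R : Type u) [CommRing R] [IsDomain R]
    (hR : ∀ (p : Ideal R) [p.IsPrime], ValuationRing (Localization.AtPrime p))
    (m : Ideal R) [m.IsPrime] :
    IsChain (· ≤ ·) {p : PrimeSpectrum R | p.asIdeal ≤ m} := by
  intro p hp q hq _
  have := hR m
  have hp' : Disjoint (m.primeCompl : Set R) p.asIdeal := by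
    rw [Set.disjoint_left]; intro x hx hx'; exact hx (hp hx')
  have hq' : Disjoint (m.primeCompl : Set R) q.asIdeal := by
    rw [Set.disjoint_left]; intro x hx hx'; exact hx (hq hx')
  have e1 := IsLocalization.under_map_of_isPrime_disjoint m.primeCompl (Localization.AtPrime m)
    p.isPrime hp'
  have e2 := IsLocalization.under_map_of_isPrime_disjoint m.primeCompl (Localization.AtPrime m)
    q.isPrime hq'
  rcases Std.Total.total (r := (· ≤ ·)) (Ideal.map (algebraMap R (Localization.AtPrime m)) p.asIdeal)
    (Ideal.map (algebraMap R (Localization.AtPrime m)) q.asIdeal) with h | h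
  · left
    change p.asIdeal ≤ q.asIdeal
    rw [← e1, ← e2]
    exact Ideal.comap_mono h
  · right
    change q.asIdeal ≤ p.asIdeal
    rw [← e1, ← e2]
    exact Ideal.comap_mono h

/-- A semilocal Prüfer domain of finite Krull dimension has finitely many primes. -/
theorem finite_primeSpectrum_of_semilocal_prufer (R : Type u) [CommRing R] [IsDomain R]
    (hR : ∀ (p : Ideal R) [p.IsPrime], ValuationRing (Localization.AtPrime p))
    (hfin : Finite (MaximalSpectrum R)) (hdim : ringKrullDim R < ⊤) :
    Finite (PrimeSpectrum R) := by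
  have hcover : (Set.univ : Set (PrimeSpectrum R)) =
      ⋃ m : MaximalSpectrum R, {p : PrimeSpectrum R | p.asIdeal ≤ m.asIdeal} := by
    ext p
    simp only [Set.mem_univ, Set.mem_iUnion, Set.mem_ofPred_eq, true_iff]
    obtain ⟨m, hm, hpm⟩ := Ideal.exists_le_maximal p.asIdeal p.isPrime.ne_top
    exact ⟨⟨m, hm⟩, hpm⟩
  rw [← Set.finite_univ_iff, hcover]
  refine Set.finite_iUnion fun m => ?_
  have := m.isMaximal.isPrime
  exact finite_of_isChain_of_krullDim_lt_top _ (isChain_primes_le R hR m.asIdeal) hdim

end Groth.Agent.Lib.Helper22
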