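import Mathlib
import Groth.Prelude.Def_CurvBase
import Groth.Agent.Lib.Helper17.StalkBCAlg

/-!
# Residue field of the image of a closed point of `X_k̄` is finite over `k` (helper22)
-/

set_option autoImplicit false
set_option linter.style.haveILetI false
universe u
open TensorProduct IsLocalRing AlgebraicGeometry CategoryTheory

namespace Groth.Agent.Lib.Helper22.RamD

/-- the residue field of a closed point of a scheme locally of finite type over a field is finite -/
theorem finite_residueField_of_isClosed (k : Type u) [Field k] (X : Scheme.{u})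
    [X.Over (Spec (CommRingCat.of k))] [LocallyOfFiniteType (X ↘ Spec (CommRingCat.of k))]
    (x : X) (hx : IsClosed ({x} : Set X)) :
    letI := Curv2.stalkAlgebra k X x
    Module.Finite k (ResidueField (X.presheaf.stalk x)) := by
  letI := Curv2.stalkAlgebra k X x
  haveI h1 : IsClosedImmersion (X.fromSpecResidueField x) :=
    isClosed_singleton_iff_isClosedImmersion.mp hx
  have h2 : LocallyOfFiniteType (X.fromSpecResidueField x ≫ (X ↘ Spec (CommRingCat.of k))) :=
    inferInstance
  have h3 : X.fromSpecResidueField x ≫ (X ↘ Spec (CommRingCat.of k)) =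
      Spec.map (CommRingCat.ofHom (Curv2.stalkMap k X x) ≫ X.residue x) := by
    rw [Spec.map_comp]
    show (Spec.map (X.residue x) ≫ X.fromSpecStalk x) ≫ _ = _
    rw [Category.assoc, Groth.Agent.Lib.Helper17.StalkBCAlg.fromSpecStalk_comp_over]
  rw [h3] at h2
  have h4 : (CommRingCat.ofHom (Curv2.stalkMap k X x) ≫ X.residue x).hom.FiniteType :=
    (HasRingHomProperty.Spec_iff (P := @LocallyOfFiniteType)).mp h2
  have h4' : (algebraMap k (ResidueField (X.presheaf.stalk x))).FiniteType := h4
  haveI : Algebra.FiniteType k (ResidueField (X.presheaf.stalk x)) :=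
    RingHom.finiteType_algebraMap.mp h4'
  exact finite_of_finite_type_of_isJacobsonRing k (ResidueField (X.presheaf.stalk x))

/-- (RD) -/
theorem finite_residueField_bcFst (k : Type u) [Field k] (X : Scheme.{u})
    [X.Over (Spec (CommRingCat.of k))] [LocallyOfFiniteType (X ↘ Spec (CommRingCat.of k))]
    (xb : ↥(Curv2.bc k X (AlgebraicClosure k)))
    (hxb : IsClosed ({xb} : Set ↥(Curv2.bc k X (AlgebraicClosure k)))) :
    letI := Curv2.stalkAlgebra k X (Curv2.bcFst k X (AlgebraicClosure k) xb)
    Module.Finite k (ResidueField (X.presheaf.stalk (Curv2.bcFst k X (AlgebraicClosure k) xb))) := by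
  apply finite_residueField_of_isClosed
  haveI : IsIntegralHom (Spec.map (CommRingCat.ofHom (algebraMap k (AlgebraicClosure k)))) := by
    rw [IsIntegralHom.SpecMap_iff]
    exact algebraMap_isIntegral_iff.mpr inferInstance
  have hcl : IsClosedMap (Curv2.bcFst k X (AlgebraicClosure k)) :=
    (Curv2.bcFst k X (AlgebraicClosure k)).isClosedMap
  have := hcl _ hxb
  rwa [Set.image_singleton] at this

end Groth.Agent.Lib.Helper22.RamD
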