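import Mathlib

/-!
Final combination for the "length of the local rings of `Ω ⊗[k] κ`" lemma (RF), with the three
ingredients as hypotheses.
-/

set_option autoImplicit false
universe u
open TensorProduct

namespace Groth.Agent.Lib.Helper22.RamF

/-- The length of a ring over itself is invariant under ring isomorphisms. -/
theorem length_self_eq_of_ringEquiv {A B : Type*} [CommRing A] [CommRing B] (e : A ≃+* B) :
    Module.length A A = Module.length B B := by
  letI : Algebra A B := e.toRingHom.toAlgebra
  have h1 : Module.length A B = Module.length B B :=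
    Module.length_eq_of_surjective (S := A) (R := B) (M := B) e.surjective
  let l : A ≃ₗ[A] B :=
    { toFun := e
      map_add' := map_add e
      map_smul' := by
        intro a b
        simp only [smul_eq_mul, map_mul, RingHom.id_apply, Algebra.smul_def]
        rfl
      invFun := e.symm
      left_inv := e.left_inv
      right_inv := e.right_inv }
  rw [← h1]
  exact l.length_eq

theorem length_localization_tensor_of (k κ Ω : Type u) [Field k] [Field κ] [Algebra k κ]
    [FiniteDimensional k κ] [Field Ω] [Algebra k Ω]
    (hEquiv : ∀ (Q Q' : Ideal (Ω ⊗[k] κ)) [Q.IsPrime] [Q'.IsPrime],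
      Nonempty (Localization.AtPrime Q ≃+* Localization.AtPrime Q'))
    (hCard : Nat.card (PrimeSpectrum (Ω ⊗[k] κ)) = Field.finSepDegree k κ)
    (hSum : ∀ [Fintype (PrimeSpectrum (Ω ⊗[k] κ))],
      ∑ Q : PrimeSpectrum (Ω ⊗[k] κ),
        Module.length (Localization.AtPrime Q.asIdeal) (Localization.AtPrime Q.asIdeal) =
          (Module.finrank Ω (Ω ⊗[k] κ) : ℕ∞))
    (Q : Ideal (Ω ⊗[k] κ)) [Q.IsPrime] :
    Module.length (Localization.AtPrime Q) (Localization.AtPrime Q) =
      (Field.finInsepDegree k κ : ℕ∞) := by
  classical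
  have hpos : 0 < Field.finSepDegree k κ := Nat.pos_of_ne_zero (NeZero.ne _)
  haveI : Finite (PrimeSpectrum (Ω ⊗[k] κ)) := by
    apply Nat.finite_of_card_ne_zero
    rw [hCard]; exact hpos.ne'
  letI : Fintype (PrimeSpectrum (Ω ⊗[k] κ)) := Fintype.ofFinite _
  have hS := hSum
  set ℓ := Module.length (Localization.AtPrime Q) (Localization.AtPrime Q) with hℓ
  have hall : ∀ P : PrimeSpectrum (Ω ⊗[k] κ),
      Module.length (Localization.AtPrime P.asIdeal) (Localization.AtPrime P.asIdeal) = ℓ := by
    intro P
    obtain ⟨e⟩ := hEquiv P.asIdeal Q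
    exact length_self_eq_of_ringEquiv e
  rw [Finset.sum_congr rfl (fun P _ => hall P), Finset.sum_const, Finset.card_univ,
    ← Nat.card_eq_fintype_card, hCard, Module.finrank_baseChange,
    ← Field.finSepDegree_mul_finInsepDegree k κ] at hS
  -- hS : finSepDegree • ℓ = (finSepDegree * finInsepDegree : ℕ)
  rw [nsmul_eq_mul] at hS
  have hne : ℓ ≠ ⊤ := by
    intro htop
    rw [htop, ENat.mul_top (by exact_mod_cast hpos.ne')] at hS
    exact ENat.top_ne_coe _ hS
  lift ℓ to ℕ using hne with n hn
  have : Field.finSepDegree k κ * n = Field.finSepDegree k κ * Field.finInsepDegree k κ := by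
    exact_mod_cast hS
  have := Nat.eq_of_mul_eq_mul_left hpos this
  exact_mod_cast this

end Groth.Agent.Lib.Helper22.RamF
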