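import Mathlib
import Groth.Agent.Lib.Helper18.TensorPrimes

/-!
RF-a: the local rings of `Ω ⊗[k] κ` at any two primes are isomorphic (Galois conjugation).
-/

set_option autoImplicit false
universe u
open TensorProduct

namespace Groth.Agent.Lib.Helper22.RamFa

open Groth.Agent.Lib.Helper18.TensorPrimes

/-- two `k`-embeddings of `κ` into a normal extension `Ω` differ by an automorphism of `Ω`. -/
theorem exists_algEquiv_comp (k κ Ω : Type u) [Field k] [Field κ] [Algebra k κ]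
    [Field Ω] [Algebra k Ω] [Normal k Ω] (φ φ' : κ →ₐ[k] Ω) :
    ∃ σ : Ω ≃ₐ[k] Ω, ∀ x, σ (φ x) = φ' x := by
  let χ : φ.fieldRange ≃ₐ[k] φ'.fieldRange :=
    (AlgEquiv.ofInjectiveField φ).symm.trans (AlgEquiv.ofInjectiveField φ')
  refine ⟨χ.liftNormal Ω, fun x => ?_⟩
  have h1 : φ x = algebraMap φ.fieldRange Ω (AlgEquiv.ofInjectiveField φ x) := rfl
  rw [h1, AlgEquiv.liftNormal_commutes]
  have h2 : χ (AlgEquiv.ofInjectiveField φ x) = AlgEquiv.ofInjectiveField φ' x := by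
    change (AlgEquiv.ofInjectiveField φ') ((AlgEquiv.ofInjectiveField φ).symm
      (AlgEquiv.ofInjectiveField φ x)) = _
    rw [AlgEquiv.symm_apply_apply]
  rw [h2]
  rfl

theorem localization_ringEquiv (k κ Ω : Type u) [Field k] [Field κ] [Algebra k κ]
    [FiniteDimensional k κ] [Field Ω] [Algebra k Ω] [IsAlgClosed Ω] [Algebra.IsAlgebraic k Ω]
    (Q Q' : Ideal (Ω ⊗[k] κ)) [hQ : Q.IsPrime] [hQ' : Q'.IsPrime] :
    Nonempty (Localization.AtPrime Q ≃+* Localization.AtPrime Q') := by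
  haveI : IsAlgClosure k Ω := ⟨inferInstance, inferInstance⟩
  haveI : Normal k Ω := IsAlgClosure.normal k Ω
  obtain ⟨φ, hφ⟩ := toPrime_surjective k κ Ω ⟨Q, hQ⟩
  obtain ⟨φ', hφ'⟩ := toPrime_surjective k κ Ω ⟨Q', hQ'⟩
  have hφQ : Q = RingHom.ker (ev k κ Ω φ).toRingHom := by
    have := congrArg PrimeSpectrum.asIdeal hφ
    exact this.symm
  have hφQ' : Q' = RingHom.ker (ev k κ Ω φ').toRingHom := by
    have := congrArg PrimeSpectrum.asIdeal hφ'
    exact this.symm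
  obtain ⟨σ, hσ⟩ := exists_algEquiv_comp k κ Ω φ φ'
  let τ : Ω ⊗[k] κ ≃ₐ[k] Ω ⊗[k] κ := Algebra.TensorProduct.congr σ (AlgEquiv.refl : κ ≃ₐ[k] κ)
  have hcomp : ∀ z : Ω ⊗[k] κ, ev k κ Ω φ' (τ z) = σ (ev k κ Ω φ z) := by
    intro z
    induction z using TensorProduct.induction_on with
    | zero => simp
    | tmul a x =>
      simp only [τ, Algebra.TensorProduct.congr_apply, Algebra.TensorProduct.map_tmul, ev_tmul,
        map_mul, hσ]
      rfl
    | add z w hz hw => simp only [map_add, hz, hw]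
  refine ⟨Localization.localRingEquiv Q Q' τ.toRingEquiv ?_⟩
  ext z
  rw [Ideal.mem_comap, hφQ, hφQ', RingHom.mem_ker, RingHom.mem_ker]
  change ev k κ Ω φ z = 0 ↔ ev k κ Ω φ' (τ z) = 0
  rw [hcomp, map_eq_zero_iff _ σ.injective]

end Groth.Agent.Lib.Helper22.RamFa
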