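import Mathlib
import Groth.Agent.Lib.Helper22.RamF
import Groth.Agent.Lib.Helper22.RamFa
import Groth.Agent.Lib.Helper13.LenSum
import Groth.Agent.Lib.Helper18.TensorPrimes

/-!
RF: the local rings of `Ω ⊗[k] κ` (`κ/k` finite, `Ω` an algebraic closure of `k`) all have length
`[κ : k]_i`.
-/

set_option autoImplicit false
universe u
open TensorProduct

namespace Groth.Agent.Lib.Helper22.RamFin

theorem length_localization_tensor (k κ Ω : Type u) [Field k] [Field κ] [Algebra k κ]
    [FiniteDimensional k κ] [Field Ω] [Algebra k Ω] [IsAlgClosed Ω] [Algebra.IsAlgebraic k Ω]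
    (Q : Ideal (Ω ⊗[k] κ)) [Q.IsPrime] :
    Module.length (Localization.AtPrime Q) (Localization.AtPrime Q) =
      (Field.finInsepDegree k κ : ℕ∞) :=
  Groth.Agent.Lib.Helper22.RamF.length_localization_tensor_of k κ Ω
    (fun Q Q' _ _ => Groth.Agent.Lib.Helper22.RamFa.localization_ringEquiv k κ Ω Q Q')
    (Groth.Agent.Lib.Helper18.TensorPrimes.card_primeSpectrum_tensor k κ Ω)
    (Groth.Agent.Lib.Helper13.LenSum.sum_length_localization Ω (Ω ⊗[k] κ))
    Q

end Groth.Agent.Lib.Helper22.RamFin
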