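import Mathlib

/-!
# Ramification index of a localization of `Ω ⊗[k] R` over `R`: glue lemma (helper22)
-/

set_option autoImplicit false
set_option linter.style.haveILetI false
universe u
open TensorProduct IsLocalRing

namespace Groth.Agent.Lib.Helper22.RamG

attribute [local instance] Algebra.TensorProduct.rightAlgebra in
/-- Glue: a local ring `S` receiving a local homomorphism `φ` from `R` and isomorphic, compatibly
with `r ↦ 1 ⊗ r`, to a localization of `Ω ⊗[k] R` at a prime `q`.  The two inputs `hA` (transport
of the ramification index along an algebra isomorphism) and `hB` (computation for the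
localization) are taken as hypotheses. -/
theorem ram_of_equiv (k Ω R S : Type u) [Field k] [Field Ω] [Algebra k Ω]
    [CommRing R] [IsLocalRing R] [Algebra k R]
    [CommRing S] [IsLocalRing S] (φ : R →+* S) [IsLocalHom φ]
    (q : Ideal (Ω ⊗[k] R)) [q.IsPrime] (e : S ≃+* Localization.AtPrime q)
    (he : ∀ r : R, e (φ r) = algebraMap (Ω ⊗[k] R) (Localization.AtPrime q) ((1 : Ω) ⊗ₜ[k] r))
    (n : ℕ)
    (hA : letI := φ.toAlgebra
      ∀ (_ : S ≃ₐ[R] Localization.AtPrime q),
        Ideal.ramificationIdx (maximalIdeal S) R = Ideal.ramificationIdx q R)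
    (hB : q.under R = maximalIdeal R → Ideal.ramificationIdx q R = n) :
    letI := φ.toAlgebra
    Ideal.ramificationIdx (maximalIdeal S) R = n := by
  letI := φ.toAlgebra
  let e' : S ≃ₐ[R] Localization.AtPrime q :=
    AlgEquiv.ofRingEquiv (f := e) (fun r => by
      rw [IsScalarTower.algebraMap_apply R (Ω ⊗[k] R) (Localization.AtPrime q)]
      exact he r)
  have h1 := hA e'
  have hq' : q.under R = maximalIdeal R := by
    ext x
    rw [Ideal.under_def, Ideal.mem_comap]
    have h3 : algebraMap R (Ω ⊗[k] R) x = (1 : Ω) ⊗ₜ[k] x := rfl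
    rw [h3, ← IsLocalization.AtPrime.to_map_mem_maximal_iff (Localization.AtPrime q) q, ← he x]
    constructor
    · intro h
      by_contra hx
      have hu : IsUnit x := by
        by_contra hnu
        exact hx ((IsLocalRing.mem_maximalIdeal x).2 hnu)
      exact (IsLocalRing.mem_maximalIdeal _).1 h ((hu.map φ).map e)
    · intro h
      rw [IsLocalRing.mem_maximalIdeal, mem_nonunits_iff] at h ⊢
      intro hu
      apply h
      have h4 : IsUnit (φ x) := by
        have := hu.map e.symm
        simpa using this
      exact IsUnit.of_map φ x h4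
  rw [h1]
  exact hB hq'

end Groth.Agent.Lib.Helper22.RamG
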