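import Mathlib
import Groth.Prelude.Def_CurvBase
import Groth.Agent.Lib.Helper22.RamG

/-!
# Ramification index of `O_{X,x} → O_{X_k̄, x̄}` = inseparable degree: assembly (helper22)

The five inputs (RA, RB1, RF, RC, RD) are taken as hypotheses; they are supplied by other seats'
libraries in the statement file.
-/

set_option autoImplicit false
set_option linter.style.haveILetI false
universe u
open TensorProduct IsLocalRing AlgebraicGeometry CategoryTheory

namespace Groth.Agent.Lib.Helper22.RamMain

/-- statement (RA) -/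
def StmtRA : Prop :=
  ∀ {R S T : Type u} [CommRing R] [CommRing S] [CommRing T]
    [Algebra R S] [Algebra R T] [IsLocalRing S] (q : Ideal T) [q.IsPrime]
    (_ : S ≃ₐ[R] Localization.AtPrime q),
    Ideal.ramificationIdx (maximalIdeal S) R = Ideal.ramificationIdx q R

attribute [local instance] Algebra.TensorProduct.rightAlgebra in
/-- statement (RB1) -/
def StmtRB1 : Prop :=
  ∀ (k Ω R : Type u) [Field k] [Field Ω] [Algebra k Ω]
    [CommRing R] [IsLocalRing R] [Algebra k R] (n : ℕ)
    (_ : ∀ (Q : Ideal (Ω ⊗[k] ResidueField R)) [Q.IsPrime],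
      Module.length (Localization.AtPrime Q) (Localization.AtPrime Q) = (n : ℕ∞))
    (q : Ideal (Ω ⊗[k] R)) [q.IsPrime] (_ : q.under R = maximalIdeal R),
    Ideal.ramificationIdx q R = n

/-- statement (RF) -/
def StmtRF : Prop :=
  ∀ (k κ Ω : Type u) [Field k] [Field κ] [Algebra k κ]
    [FiniteDimensional k κ] [Field Ω] [Algebra k Ω] [IsAlgClosed Ω] [Algebra.IsAlgebraic k Ω]
    (Q : Ideal (Ω ⊗[k] κ)) [Q.IsPrime],
    Module.length (Localization.AtPrime Q) (Localization.AtPrime Q) =
      (Field.finInsepDegree k κ : ℕ∞)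

/-- statement (RC) at one point -/
def StmtRC (k : Type u) [Field k] (X : Scheme.{u})
    [X.Over (Spec (CommRingCat.of k))] (K : Type u) [Field K] [Algebra k K]
    (xb : ↥(Curv2.bc k X K)) : Prop :=
  letI := Curv2.stalkAlgebra k X (Curv2.bcFst k X K xb)
  ∃ (q : Ideal (K ⊗[k] X.presheaf.stalk (Curv2.bcFst k X K xb))) (_ : q.IsPrime)
    (e : (Curv2.bc k X K).presheaf.stalk xb ≃+* Localization.AtPrime q),
    ∀ r : X.presheaf.stalk (Curv2.bcFst k X K xb),
      e (((Curv2.bcFst k X K).stalkMap xb).hom r) =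
        algebraMap (K ⊗[k] X.presheaf.stalk (Curv2.bcFst k X K xb)) (Localization.AtPrime q)
          ((1 : K) ⊗ₜ[k] r)

/-- statement (RD) at one point -/
def StmtRD (k : Type u) [Field k] (X : Scheme.{u})
    [X.Over (Spec (CommRingCat.of k))]
    (xb : ↥(Curv2.bc k X (AlgebraicClosure k))) : Prop :=
  letI := Curv2.stalkAlgebra k X (Curv2.bcFst k X (AlgebraicClosure k) xb)
  Module.Finite k (ResidueField (X.presheaf.stalk (Curv2.bcFst k X (AlgebraicClosure k) xb)))

attribute [local instance] Curv2.resAlgebra Algebra.TensorProduct.rightAlgebra in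
theorem main (k : Type u) [Field k] (X : Scheme.{u}) [X.Over (Spec (CommRingCat.of k))]
    (xb : Curv2.bc k X (AlgebraicClosure k))
    (hA : StmtRA.{u}) (hB1 : StmtRB1.{u}) (hF : StmtRF.{u})
    (hC : StmtRC k X (AlgebraicClosure k) xb) (hD : StmtRD k X xb) :
    letI := ((Curv2.bcFst k X (AlgebraicClosure k)).stalkMap xb).hom.toAlgebra
    Ideal.ramificationIdx (IsLocalRing.maximalIdeal ((Curv2.bc k X (AlgebraicClosure k)).presheaf.stalk xb))
        (X.presheaf.stalk (Curv2.bcFst k X (AlgebraicClosure k) xb)) =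
      Field.finInsepDegree k (X.residueField (Curv2.bcFst k X (AlgebraicClosure k) xb)) := by
  letI := Curv2.stalkAlgebra k X (Curv2.bcFst k X (AlgebraicClosure k) xb)
  obtain ⟨q, hq, e, he⟩ := hC
  haveI := hq
  haveI : Module.Finite k (ResidueField
      (X.presheaf.stalk (Curv2.bcFst k X (AlgebraicClosure k) xb))) := hD
  have h := RamG.ram_of_equiv k (AlgebraicClosure k)
    (X.presheaf.stalk (Curv2.bcFst k X (AlgebraicClosure k) xb))
    ((Curv2.bc k X (AlgebraicClosure k)).presheaf.stalk xb)
    ((Curv2.bcFst k X (AlgebraicClosure k)).stalkMap xb).hom q e he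
    (Field.finInsepDegree k (ResidueField
      (X.presheaf.stalk (Curv2.bcFst k X (AlgebraicClosure k) xb))))
    (by
      intro e'
      letI : Algebra (X.presheaf.stalk (Curv2.bcFst k X (AlgebraicClosure k) xb))
          ((Curv2.bc k X (AlgebraicClosure k)).presheaf.stalk xb) :=
        ((Curv2.bcFst k X (AlgebraicClosure k)).stalkMap xb).hom.toAlgebra
      exact hA q e')
    (fun hq' => hB1 k (AlgebraicClosure k) _ _
      (fun Q _ => hF k (ResidueField
        (X.presheaf.stalk (Curv2.bcFst k X (AlgebraicClosure k) xb))) (AlgebraicClosure k) Q) q hq')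
  refine h.trans ?_
  have hinst : (ResidueField.algebra _ : Algebra k (ResidueField
      (X.presheaf.stalk (Curv2.bcFst k X (AlgebraicClosure k) xb)))) =
      Curv2.resAlgebra k X (Curv2.bcFst k X (AlgebraicClosure k) xb) := by
    apply Algebra.algebra_ext
    intro r
    rfl
  rw [hinst]
  rfl

end Groth.Agent.Lib.Helper22.RamMain
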