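import Mathlib
import Groth.Agent.S5019
import Groth.Agent.Lib.Helper1.DerRes
import Groth.Agent.Lib.Helper1.DerFin
import Groth.Agent.Lib.Helper3.LocFreeCrit
import Groth.Agent.Lib.Helper12.Equidim
import Groth.Agent.Lib.Helper22.SmoothRank3

/-!
# Smoothness at a point: flat + `Ω` free of rank the fibre dimension (helper22)

* `flat_atPrime_of_flat_stalkMap`: flatness of the stalk map gives flatness of the localization
  of a chart.
* `exists_free_of_mem_smoothLocus`: at a point of the smooth locus of a morphism locally of finite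
  presentation, any sheaf of differentials is free near `x` of rank `fibreDimAt f x`, and the
  stalk map is flat.
* `mem_smoothLocus_of_flat_of_free`: the converse.
-/

set_option linter.style.haveILetI false
set_option autoImplicit false
set_option maxHeartbeats 400000

universe u

open CategoryTheory AlgebraicGeometry TopologicalSpace TensorProduct

namespace Groth.Agent.Lib.Helper22.SmoothFlatRank

open Groth.Agent.Lib.Helper1 Groth.Agent.Lib.Helper12 Groth.Agent.Lib.Helper3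
open Groth.Agent.Lib.Helper3.FreeBasis

theorem flat_atPrime_of_flat_stalkMap {X Y : Scheme.{u}} {f : X ⟶ Y} {x : X} (U : Y.Opens)
    (hU : IsAffineOpen U) (V : X.Opens) (hV : IsAffineOpen V) (hVU : V ≤ f ⁻¹ᵁ U)
    (hx : x ∈ V) (h : (f.stalkMap x).hom.Flat) :
    letI := (f.appLE U V hVU).hom.toAlgebra
    Module.Flat Γ(Y, U) (Localization.AtPrime (hV.primeIdealOf ⟨x, hx⟩).asIdeal) := by
  let := (f.appLE U V hVU).hom.toAlgebra
  let p := (hU.primeIdealOf ⟨f x, hVU hx⟩).asIdeal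
  let q := (hV.primeIdealOf ⟨x, hx⟩).asIdeal
  have : q.LiesOver p :=
    ⟨congr($(IsAffineOpen.comap_primeIdealOf_appLE U hU V hV hVU hx).1).symm⟩
  let := Localization.AtPrime.algebraOfLiesOver p q
  have h1 : Module.Flat (Localization.AtPrime p) (Localization.AtPrime q) := by
    rw [← RingHom.flat_algebraMap_iff]
    exact (RingHom.Flat.respectsIso.arrow_mk_iso_iff
      (IsAffineOpen.arrowStalkMapIso f U hU V hV hVU hx)).mp h
  exact Module.Flat.trans Γ(Y, U) (Localization.AtPrime p) (Localization.AtPrime q)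

theorem exists_free_of_mem_smoothLocus {X Y : Scheme.{u}} (f : X ⟶ Y)
    [LocallyOfFinitePresentation f] (Ω' : X.Modules) (d : OmegaSh.Der f Ω')
    (hd : OmegaSh.IsUniversal d) (x : X) (hx : x ∈ f.smoothLocus) :
    (f.stalkMap x).hom.Flat ∧
      ∃ (U : X.Opens) (n : ℕ), x ∈ U ∧ Nonempty (Ω'.restrict U.ι ≅ FlatMod.freeMod (↑U) n) ∧
        FlatMor.fibreDimAt f x = (n : WithBot ℕ∞) := by
  haveI : Smooth (f.smoothLocus.ι ≫ f) := by
    rw [← Scheme.Hom.smoothLocus_eq_top_iff, ← Scheme.Hom.preimage_smoothLocus_eq,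
      Scheme.Opens.ι_preimage_self]
  constructor
  · have h1 : ((f.smoothLocus.ι ≫ f).stalkMap ⟨x, hx⟩).hom.Flat := Flat.stalkMap _ _
    rw [Scheme.Hom.stalkMap_comp] at h1
    exact (RingHom.Flat.respectsIso.cancel_right_isIso
      (f.stalkMap (f.smoothLocus.ι ⟨x, hx⟩)) (f.smoothLocus.ι.stalkMap ⟨x, hx⟩)).mp h1
  · obtain ⟨U', n, hxU', ⟨e'⟩, hn⟩ := Groth.Agent.S5019.main (f.smoothLocus.ι ≫ f)
      (Ω'.restrict f.smoothLocus.ι) (DerRes.restrictDer f.smoothLocus.ι f d)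
      (DerRes.isUniversal_restrictDer f.smoothLocus.ι f d hd) ⟨x, hx⟩
    obtain ⟨b, hb⟩ := exists_isBasis_of_iso e'
    have hb' := LocFreeCrit.isBasis_of_isBasis_restrict Ω' f.smoothLocus hb
    refine ⟨f.smoothLocus.ι ''ᵁ U', n, ⟨⟨x, hx⟩, hxU', rfl⟩, nonempty_iso_of_isBasis hb', ?_⟩
    rw [Equidim.fibreDimAt_comp_openImmersion f.smoothLocus.ι f ⟨x, hx⟩] at hn
    exact hn

theorem mem_smoothLocus_of_flat_of_free {X Y : Scheme.{u}} (f : X ⟶ Y)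
    [LocallyOfFinitePresentation f] (Ω' : X.Modules) (d : OmegaSh.Der f Ω')
    (hd : OmegaSh.IsUniversal d) (x : X) (hflat : (f.stalkMap x).hom.Flat)
    (U₁ : X.Opens) (n : ℕ) (hxU₁ : x ∈ U₁) (e₁ : Ω'.restrict U₁.ι ≅ FlatMod.freeMod (↑U₁) n)
    (hdim : FlatMor.fibreDimAt f x = (n : WithBot ℕ∞)) : x ∈ f.smoothLocus := by
  obtain ⟨b, hb⟩ := exists_isBasis_of_iso e₁
  obtain ⟨_, ⟨V₀, hV₀, rfl⟩, hxV₀, -⟩ :=
    Y.isBasis_affineOpens.exists_subset_of_mem_open (Set.mem_univ (f x)) isOpen_univ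
  have hx' : x ∈ (f ⁻¹ᵁ V₀ ⊓ U₁ : X.Opens) := ⟨hxV₀, hxU₁⟩
  obtain ⟨_, ⟨U₀, hU₀, rfl⟩, hxU₀, hU₀le⟩ :=
    X.isBasis_affineOpens.exists_subset_of_mem_open hx' (f ⁻¹ᵁ V₀ ⊓ U₁ : X.Opens).2
  have hUV : U₀ ≤ f ⁻¹ᵁ V₀ := fun y hy => (hU₀le hy).1
  have hUU₁ : U₀ ≤ U₁ := fun y hy => (hU₀le hy).2
  letI alg : Algebra Γ(Y, V₀) Γ(X, U₀) := (f.appLE V₀ U₀ hUV).hom.toAlgebra
  haveI : Algebra.FinitePresentation Γ(Y, V₀) Γ(X, U₀) := f.finitePresentation_appLE hV₀ hU₀ hUV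
  obtain ⟨qx, hqx⟩ : ∃ qx : PrimeSpectrum Γ(X, U₀), qx = hU₀.primeIdealOf ⟨x, hxU₀⟩ := ⟨_, rfl⟩
  rw [Scheme.Hom.mem_smoothLocus, formallySmooth_stalkMap_iff V₀ hV₀ U₀ hU₀ hUV hxU₀, ← hqx]
  have hdimq : TopFibreDim.topFibreDim (PrimeSpectrum.comap (algebraMap Γ(Y, V₀) Γ(X, U₀))) qx =
      (n : WithBot ℕ∞) := by
    have := ChevalleyCor.fibreDimAt_fromSpec f hU₀ hV₀ hUV (hU₀.primeIdealOf ⟨x, hxU₀⟩)
    rw [hU₀.fromSpec_primeIdealOf] at this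
    rw [hqx, ← hdim]
    exact this.symm
  rw [Groth.Agent.Lib.Helper24.FibreLocDim.topFibreDim_eq] at hdimq
  have hQq := congrArg PrimeSpectrum.asIdeal (Chevalley.comap_includeRight_apply
    (PrimeSpectrum.comap (algebraMap Γ(Y, V₀) Γ(X, U₀)) qx) qx rfl)
  haveI : Module.Flat Γ(Y, V₀) (Localization.AtPrime qx.asIdeal) := by
    rw [hqx]
    exact flat_atPrime_of_flat_stalkMap V₀ hV₀ U₀ hU₀ hUV hxU₀ hflat
  have key := Groth.Agent.Lib.Helper22.SmoothRank.isSmoothAt_iff_finrank_le' Γ(Y, V₀) Γ(X, U₀)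
    (PrimeSpectrum.comap (algebraMap Γ(Y, V₀) Γ(X, U₀)) qx).asIdeal
    (PrimeSpectrum.preimageHomeomorphFiber Γ(Y, V₀) Γ(X, U₀)
      (PrimeSpectrum.comap (algebraMap Γ(Y, V₀) Γ(X, U₀)) qx) ⟨qx, rfl⟩).asIdeal qx.asIdeal hQq n
      hdimq
  show Algebra.IsSmoothAt Γ(Y, V₀) qx.asIdeal
  rw [key]
  haveI : Nontrivial Γ(X, U₀) :=
    ⟨⟨0, 1, fun h01 => (hU₀.primeIdealOf ⟨x, hxU₀⟩).isPrime.ne_top
      ((Ideal.eq_top_iff_one _).mpr (h01 ▸ Ideal.zero_mem _))⟩⟩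
  let β : Module.Basis (Fin n) Γ(X, U₀) Γ(Ω', U₀) :=
    NormAlg.basisOfBijective _ (hb.mono hUU₁).self
  let τ : Ω[Γ(X, U₀)⁄Γ(Y, V₀)] ≃ₗ[Γ(X, U₀)] Γ(Ω', U₀) :=
    DerFin.sectEquiv f d hU₀ hV₀ hUV hd
  let β' : Module.Basis (Fin n) Γ(X, U₀) Ω[Γ(X, U₀)⁄Γ(Y, V₀)] := β.map τ.symm
  haveI : Module.Free Γ(X, U₀) Ω[Γ(X, U₀)⁄Γ(Y, V₀)] := Module.Free.of_basis β'
  rw [Module.finrank_baseChange, Module.finrank_eq_card_basis β', Fintype.card_fin]

end Groth.Agent.Lib.Helper22.SmoothFlatRank
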