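import Mathlib
import Groth.Agent.S9386
import Groth.Agent.S2082
import Groth.Agent.Lib.Helper6.FiberStalkIso
import Groth.Agent.Lib.Helper14.HomogDim
import Groth.Agent.Lib.Helper14.GeomRegSmooth
import Groth.Agent.Lib.Helper4.RegCM
import Groth.Agent.Lib.Helper1.DerExists
import Groth.Agent.Lib.Helper1.DerCompat
import Groth.Agent.Lib.Helper17.LocFreeRank
import Groth.Agent.Lib.Helper22.SmoothFlatRank

/-!
# Smoothness over a regular base from freeness of `Ω` and the dimension formula (helper22)

* `isRegularLocalRing_of_quotient`: `B` Noetherian local, `J ≤ 𝔪` generated by `r` elements,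
  `B/J` regular and `r + dim B/J ≤ dim B`: then `B` is regular.
* `isRegularLocalRing_fibreQuot_of_free`: if `Ω_{X/S}` is free near `x` of rank the local
  dimension of the fibre at `x`, the fibre ring `𝒪_{X,x}/𝔪_s 𝒪_{X,x}` is regular.
* `flat_stalkMap_of_free`: over a regular local base, with the dimension formula, `f` is flat at
  `x`.
-/

set_option linter.style.haveILetI false
set_option autoImplicit false
set_option maxHeartbeats 400000

universe u

open CategoryTheory AlgebraicGeometry TopologicalSpace TensorProduct IsLocalRing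

namespace Groth.Agent.Lib.Helper22.RegBaseSmooth

open Groth.Agent.Lib.Helper1 Groth.Agent.Lib.Helper3 Groth.Agent.Lib.Helper6

theorem isRegularLocalRing_of_quotient {B : Type u} [CommRing B] [IsLocalRing B]
    [IsNoetherianRing B] (J : Ideal B) (t : Finset B) (hJt : J = Ideal.span (t : Set B))
    (hJ : J ≤ maximalIdeal B) [IsRegularLocalRing (B ⧸ J)]
    (hdim : (t.card : WithBot ℕ∞) + ringKrullDim (B ⧸ J) ≤ ringKrullDim B) :
    IsRegularLocalRing B := by
  classical
  apply IsRegularLocalRing.of_spanFinrank_maximalIdeal_le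
  have hmk : Function.Surjective (Ideal.Quotient.mk J) := Ideal.Quotient.mk_surjective
  haveI : IsLocalHom (Ideal.Quotient.mk J) := by
    refine ⟨fun a ha => ?_⟩
    by_contra hna
    have ham : a ∈ maximalIdeal B := (mem_maximalIdeal a).mpr hna
    obtain ⟨b, hb⟩ := ha.exists_right_inv
    obtain ⟨b', rfl⟩ := hmk b
    rw [← map_mul, ← map_one (Ideal.Quotient.mk J), Ideal.Quotient.eq] at hb
    have h1 : a * b' - 1 ∈ maximalIdeal B := hJ hb
    have h2 : a * b' ∈ maximalIdeal B := Ideal.mul_mem_right _ _ ham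
    have h3 : (1 : B) ∈ maximalIdeal B := by
      have := Ideal.sub_mem _ h2 h1
      rwa [sub_sub_cancel] at this
    exact (maximalIdeal.isMaximal B).ne_top ((Ideal.eq_top_iff_one _).mpr h3)
  obtain ⟨u, hu1, hu2⟩ := Submodule.FG.exists_span_finset_card_eq_spanFinrank
    (IsNoetherian.noetherian (maximalIdeal (B ⧸ J)))
  let σ : B ⧸ J → B := Function.surjInv hmk
  have hσ : ∀ y, Ideal.Quotient.mk J (σ y) = y := Function.surjInv_eq hmk
  let v : Finset B := u.image σ
  have hvm : ∀ b ∈ v, b ∈ maximalIdeal B := by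
    intro b hb
    obtain ⟨y, hy, rfl⟩ := Finset.mem_image.mp hb
    rw [mem_maximalIdeal]
    intro hunit
    have h1 : IsUnit (Ideal.Quotient.mk J (σ y)) := hunit.map _
    rw [hσ] at h1
    have h2 : y ∈ maximalIdeal (B ⧸ J) := by
      have : y ∈ Submodule.span (B ⧸ J) (u : Set (B ⧸ J)) := Submodule.subset_span hy
      rwa [hu2] at this
    exact (mem_maximalIdeal y).mp h2 h1
  have hmax : maximalIdeal B = Ideal.span ((t ∪ v : Finset B) : Set B) := by
    apply le_antisymm
    · intro m hm
      have h1 : Ideal.Quotient.mk J m ∈ maximalIdeal (B ⧸ J) := by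
        rw [mem_maximalIdeal]
        intro hunit
        exact (mem_maximalIdeal m).mp hm (isUnit_of_map_unit (Ideal.Quotient.mk J) m hunit)
      have h2 : maximalIdeal (B ⧸ J) = (Ideal.span (v : Set B)).map (Ideal.Quotient.mk J) := by
        rw [Ideal.map_span]
        have : (Ideal.Quotient.mk J) '' (v : Set B) = (u : Set (B ⧸ J)) := by
          ext y
          constructor
          · rintro ⟨b, hb, rfl⟩
            obtain ⟨y', hy', rfl⟩ := Finset.mem_image.mp (Finset.mem_coe.mp hb)
            rw [hσ]
            exact hy'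
          · intro hy
            exact ⟨σ y, Finset.mem_coe.mpr (Finset.mem_image.mpr ⟨y, hy, rfl⟩), hσ y⟩
        rw [this]
        exact hu2.symm
      rw [h2] at h1
      obtain ⟨w, hw, hwm⟩ := (Ideal.mem_map_iff_of_surjective _ hmk).mp h1
      have h3 : m - w ∈ J := by
        rw [← Ideal.Quotient.eq, hwm]
      rw [Finset.coe_union, Ideal.span_union]
      have h4 : m = (m - w) + w := by ring
      rw [h4]
      exact Ideal.add_mem _ (Ideal.mem_sup_left (hJt ▸ h3)) (Ideal.mem_sup_right hw)
    · rw [Ideal.span_le]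
      intro b hb
      rcases Finset.mem_union.mp (Finset.mem_coe.mp hb) with h | h
      · exact hJ (hJt ▸ Ideal.subset_span (Finset.mem_coe.mpr h))
      · exact hvm b h
  have hcard : (maximalIdeal B).spanFinrank ≤ t.card + u.card := by
    have h1 : (maximalIdeal B).spanFinrank ≤ ((t ∪ v : Finset B) : Set B).ncard := by
      have := Submodule.spanFinrank_span_le_ncard_of_finite (R := B)
        (Finset.finite_toSet (t ∪ v))
      rw [hmax]
      exact this
    rw [Set.ncard_coe_finset] at h1
    exact h1.trans ((Finset.card_union_le t v).trans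
      (Nat.add_le_add_left Finset.card_image_le _))
  have hu3 : ((u.card : ℕ) : WithBot ℕ∞) = ringKrullDim (B ⧸ J) := by
    rw [hu1]
    exact IsRegularLocalRing.spanFinrank_maximalIdeal
  calc ((maximalIdeal B).spanFinrank : WithBot ℕ∞) ≤ ((t.card + u.card : ℕ) : WithBot ℕ∞) := by
        exact_mod_cast hcard
    _ = (t.card : WithBot ℕ∞) + ringKrullDim (B ⧸ J) := by
        rw [← hu3]
        push_cast
        rfl
    _ ≤ ringKrullDim B := hdim

/-- If `Ω_{X/S}` is free near `x` of rank the local dimension at `x` of the fibre, then the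
local ring of the fibre at `x` is regular. -/
theorem isRegularLocalRing_fibreQuot_of_free {X S : Scheme.{u}} (f : X ⟶ S)
    [LocallyOfFinitePresentation f] (Ω' : X.Modules) (d : OmegaSh.Der f Ω')
    (hd : OmegaSh.IsUniversal d) (x : X) (U : X.Opens) (n : ℕ) (hxU : x ∈ U)
    (e : Ω'.restrict U.ι ≅ FlatMod.freeMod (↑U) n)
    (hn : FlatMor.fibreDimAt f x = (n : WithBot ℕ∞)) :
    IsRegularLocalRing (X.presheaf.stalk x ⧸ fiberIdeal f x) := by
  have hsq : IsPullback (f.fiberι (f.base x)) (f.fiberToSpecResidueField (f.base x)) f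
      (S.fromSpecResidueField (f.base x)) := IsPullback.of_hasPullback f _
  haveI : LocallyOfFinitePresentation (f.fiberToSpecResidueField (f.base x)) := inferInstance
  have hdg := DerExists.isUniversal_dsh (f.fiberToSpecResidueField (f.base x))
  obtain ⟨c, hc, -⟩ := DerCompat.existsUnique_isDiffCompat f
    (f.fiberToSpecResidueField (f.base x)) (f.fiberι (f.base x))
    (S.fromSpecResidueField (f.base x)) hsq.w.symm d
    (DerExists.dsh (f.fiberToSpecResidueField (f.base x))) hd
  haveI : IsIso c := Groth.Agent.S9386.result f (S.fromSpecResidueField (f.base x))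
    (f.fiberι (f.base x)) (f.fiberToSpecResidueField (f.base x)) hsq Ω' d hd _ _ hdg c hc
  obtain ⟨eN⟩ := Groth.Agent.Lib.Helper17.LocFreeRank.restrict_pullback_free
    (f.fiberι (f.base x)) Ω' U n e
  have hx' : f.asFiber x ∈ (f.fiberι (f.base x)) ⁻¹ᵁ U := by
    show (f.fiberι (f.base x)).base (f.asFiber x) ∈ U
    rw [Scheme.Hom.fiberι_asFiber]
    exact hxU
  haveI : Subsingleton ↥(Spec (S.residueField (f.base x))) :=
    inferInstanceAs (Subsingleton (PrimeSpectrum (S.residueField (f.base x))))
  have hdimg : FlatMor.fibreDimAt (f.fiberToSpecResidueField (f.base x)) (f.asFiber x) =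
      (n : WithBot ℕ∞) := by
    rw [Groth.Agent.Lib.Helper14.HomogDim.fibreDimAt_eq_localDim_of_subsingleton]
    exact hn
  have hsm := Groth.Agent.Lib.Helper22.SmoothFlatRank.mem_smoothLocus_of_flat_of_free
    (f.fiberToSpecResidueField (f.base x)) _
    (DerExists.dsh (f.fiberToSpecResidueField (f.base x))) hdg (f.asFiber x)
    (Flat.stalkMap _ _) ((f.fiberι (f.base x)) ⁻¹ᵁ U) n hx'
    ((Scheme.Modules.restrictFunctor ((f.fiberι (f.base x)) ⁻¹ᵁ U).ι).mapIso (asIso c).symm ≪≫ eN)
    hdimg
  have hreg := Groth.Agent.Lib.Helper14.GeomRegSmooth.isRegularLocalRing_stalk_of_mem_smoothLocus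
    (S.residueField (f.base x)) (f.fiberToSpecResidueField (f.base x)) (f.asFiber x) hsm
  exact IsRegularLocalRing.of_ringEquiv (fiberStalkEquiv f x)

/-- Over a regular local base, if `Ω_{X/S}` is free near `x` of rank the local dimension of the
fibre and the dimension formula holds at `x`, then `f` is flat at `x`. -/
theorem flat_stalkMap_of_free {X S : Scheme.{u}} (f : X ⟶ S) [IsLocallyNoetherian S]
    [LocallyOfFiniteType f] [LocallyOfFinitePresentation f] (x : X)
    (hregS : IsRegularLocalRing (S.presheaf.stalk (f.base x)))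
    (Ω' : X.Modules) (d : OmegaSh.Der f Ω') (hd : OmegaSh.IsUniversal d)
    (U : X.Opens) (n : ℕ) (hxU : x ∈ U) (e : Ω'.restrict U.ι ≅ FlatMod.freeMod (↑U) n)
    (hn : FlatMor.fibreDimAt f x = (n : WithBot ℕ∞))
    (hdim : ringKrullDim (X.presheaf.stalk x) =
      ringKrullDim ((f.fiber (f.base x)).presheaf.stalk (f.asFiber x)) +
        ringKrullDim (S.presheaf.stalk (f.base x))) :
    (f.stalkMap x).hom.Flat := by
  classical
  haveI : IsLocallyNoetherian X := LocallyOfFiniteType.isLocallyNoetherian f
  haveI := isRegularLocalRing_fibreQuot_of_free f Ω' d hd x U n hxU e hn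
  haveI := hregS
  letI : Algebra (S.presheaf.stalk (f.base x)) (X.presheaf.stalk x) :=
    (f.stalkMap x).hom.toAlgebra
  haveI : IsLocalHom (algebraMap (S.presheaf.stalk (f.base x)) (X.presheaf.stalk x)) :=
    inferInstanceAs (IsLocalHom (f.stalkMap x).hom)
  obtain ⟨t, ht1, ht2⟩ := Submodule.FG.exists_span_finset_card_eq_spanFinrank
    (IsNoetherian.noetherian (maximalIdeal (S.presheaf.stalk (f.base x))))
  have htA : ((t.card : ℕ) : WithBot ℕ∞) = ringKrullDim (S.presheaf.stalk (f.base x)) := by
    rw [ht1]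
    exact IsRegularLocalRing.spanFinrank_maximalIdeal
  have hJt : fiberIdeal f x = Ideal.span ((t.image (f.stalkMap x).hom : Finset _) : Set _) := by
    unfold fiberIdeal
    have h1 : maximalIdeal (S.presheaf.stalk (f.base x)) = Ideal.span (t : Set _) := ht2.symm
    rw [h1, Ideal.map_span, Finset.coe_image]
  have hF : ringKrullDim ((f.fiber (f.base x)).presheaf.stalk (f.asFiber x)) =
      ringKrullDim (X.presheaf.stalk x ⧸ fiberIdeal f x) :=
    ringKrullDim_eq_of_ringEquiv (fiberStalkEquiv f x)
  have hdim' : (((t.image (f.stalkMap x).hom).card : ℕ) : WithBot ℕ∞) +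
      ringKrullDim (X.presheaf.stalk x ⧸ fiberIdeal f x) ≤ ringKrullDim (X.presheaf.stalk x) := by
    rw [hdim, hF, add_comm]
    have hc : (((t.image (f.stalkMap x).hom).card : ℕ) : WithBot ℕ∞) ≤
        ringKrullDim (S.presheaf.stalk (f.base x)) := by
      rw [← htA]
      exact_mod_cast Finset.card_image_le
    gcongr
  haveI : IsRegularLocalRing (X.presheaf.stalk x) :=
    isRegularLocalRing_of_quotient (fiberIdeal f x) _ hJt (fiberIdeal_le_maximalIdeal f x) hdim'
  haveI : LocCoh.IsCohenMacaulayLocalRing (X.presheaf.stalk x) :=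
    Groth.Agent.Lib.Helper4.RegCM.isCohenMacaulayLocalRing _
  have hflat : Module.Flat (S.presheaf.stalk (f.base x)) (X.presheaf.stalk x) := by
    refine Groth.Agent.S2082.result ?_
    rw [hdim, hF, add_comm]
    rfl
  exact hflat

end Groth.Agent.Lib.Helper22.RegBaseSmooth
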