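import Mathlib
import Groth.Agent.Lib.Helper12.SchemeDimFT3
import Groth.Agent.Lib.Helper12.SchemeDimFT4
import Groth.Prelude.Def_RegImm

/-!
# Dimension of components of the preimage of a subvariety under a regular immersion (helper22)
-/

set_option autoImplicit false
set_option linter.style.haveILetI false
set_option linter.unusedSectionVars false
universe u
open AlgebraicGeometry CategoryTheory CategoryTheory.Limits
open Set.Notation

namespace Groth.Agent.Lib.Helper22.RegImmDim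

open Groth.Agent.Lib.Helper12 Groth.Agent.Lib.Helper12.SchemeDimFT

/-- Krull's height theorem for lists -/
theorem height_le_length {B : Type*} [CommRing B] [IsNoetherianRing B] (rs : List B)
    (q : Ideal B) (hq : q ∈ (Ideal.ofList rs).minimalPrimes) : q.height ≤ rs.length := by
  classical
  have h0 : Ideal.ofList rs = Ideal.span (rs.toFinset : Set B) := by
    rw [List.coe_toFinset]
  rw [h0] at hq
  have h1 := Ideal.height_le_card_of_mem_minimalPrimes_span_finset hq
  exact h1.trans (by exact_mod_cast rs.toFinset_card_le)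

theorem range_morphismRestrict {X Y : Scheme.{u}} (f : X ⟶ Y) (U : Y.Opens) :
    Set.range (f ∣_ U) = ((U : Set Y) ↓∩ Set.range f) := by
  ext x
  constructor
  · rintro ⟨y, hy⟩
    refine ⟨y.1, ?_⟩
    rw [← morphismRestrict_base_coe f U y, hy]
  · rintro ⟨y, hy⟩
    have hyU : f y ∈ U := by rw [hy]; exact x.2
    refine ⟨⟨y, hyU⟩, Subtype.ext ?_⟩
    rw [morphismRestrict_base_coe]
    exact hy

/-- closedness in an open -/
theorem mem_range_of_mem_closure {X Y : Scheme.{u}} (f : X ⟶ Y) (U : Y.Opens)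
    [IsClosedImmersion (f ∣_ U)] (y : Y) (hyU : y ∈ U) (hy : y ∈ closure (Set.range f)) :
    y ∈ Set.range f := by
  have hc : IsClosed ((U : Set Y) ↓∩ Set.range f) := by
    rw [← range_morphismRestrict]
    exact (f ∣_ U).isClosedEmbedding.isClosed_range
  obtain ⟨C, hC, hCeq⟩ := isClosed_induced_iff.mp hc
  have hsub : Set.range f ⊆ C ∪ (U : Set Y)ᶜ := by
    rintro _ ⟨x, rfl⟩
    by_cases hx : f x ∈ U
    · left
      have : (⟨f x, hx⟩ : U) ∈ ((U : Set Y) ↓∩ Set.range f) := ⟨x, rfl⟩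
      rw [← hCeq] at this
      exact this
    · right; exact hx
  have hcl : IsClosed (C ∪ (U : Set Y)ᶜ) := hC.union U.2.isClosed_compl
  have h2 := closure_minimal hsub hcl hy
  rcases h2 with h2 | h2
  · have h3 : (⟨y, hyU⟩ : U) ∈ ((U : Set Y) ↓∩ C) := h2
    rw [hCeq] at h3
    exact h3
  · exact absurd hyU h2

/-- points of an affine open where the kernel vanishes are in the range -/
theorem mem_range_of_forall_notMem {X Y : Scheme.{u}} (f : X ⟶ Y) [QuasiCompact f]
    (U : Y.affineOpens) [IsClosedImmersion (f ∣_ U.1)] (rs : List Γ(Y, U.1))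
    (hker : RingHom.ker (f.app U.1).hom = Ideal.ofList rs) (y : Y) (hyU : y ∈ U.1)
    (hy : ∀ r ∈ rs, y ∉ Y.basicOpen r) : y ∈ Set.range f := by
  apply mem_range_of_mem_closure f U.1 y hyU
  rw [← Scheme.Hom.support_ker]
  show y ∈ f.ker.support
  rw [Scheme.IdealSheafData.mem_support_iff_of_mem (U := U) hyU,
    Scheme.Hom.ker_apply, hker, Ideal.ofList, Scheme.zeroLocus_span, Scheme.mem_zeroLocus_iff]
  exact hy


theorem dim_component_ge (K : Type u) [Field K] (X Y Z : Scheme.{u})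
    (gY : Y ⟶ Spec (CommRingCat.of K)) [LocallyOfFiniteType gY]
    (f : X ⟶ Y) [QuasiCompact f] (c : ℕ)
    (hreg : RegImm.IsRegularImmersionOfCodim RegImm.Kind.regular c f)
    (ι : Z ⟶ Y) [IsClosedImmersion ι] [IsIntegral Z] (d : ℕ) (hd : topologicalKrullDim Z = d)
    (T : Set ↥(pullback f ι)) (hT : T ∈ irreducibleComponents ↥(pullback f ι)) :
    ((d : ℕ) : WithBot ℕ∞) ≤ topologicalKrullDim ↥T + c := by
  haveI : IsImmersion f := hreg.1
  letI : Z.Over (Spec (CommRingCat.of K)) := ⟨ι ≫ gY⟩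
  haveI : LocallyOfFiniteType (Z ↘ Spec (CommRingCat.of K)) :=
    (inferInstance : LocallyOfFiniteType (ι ≫ gY))
  obtain ⟨ξ, hξ, rfl⟩ := (mem_irreducibleComponents_iff T).mp hT
  haveI : IsImmersion (pullback.snd f ι) := inferInstance
  have hxz : f (pullback.fst f ι ξ) = ι (pullback.snd f ι ξ) := by
    have := congrArg (fun φ : pullback f ι ⟶ Y => φ ξ) (pullback.condition (f := f) (g := ι))
    simpa using this
  obtain ⟨U, hxU, hcl, rs, hlen, hrs, hker⟩ := hreg.2 (pullback.fst f ι ξ)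
  haveI := hcl
  have hW : IsAffineOpen (ι ⁻¹ᵁ U.1) := U.2.preimage ι
  have hzW : pullback.snd f ι ξ ∈ ι ⁻¹ᵁ U.1 := by
    show ι (pullback.snd f ι ξ) ∈ U.1
    rw [← hxz]; exact hxU
  have hmem_iff : ∀ (z' : Z) (hz' : z' ∈ ι ⁻¹ᵁ U.1) (r : Γ(Y, U.1)),
      (ι.app U.1).hom r ∈ (hW.primeIdealOf ⟨z', hz'⟩).asIdeal ↔ ι z' ∉ Y.basicOpen r := by
    intro z' hz' r
    rw [← not_iff_not, not_not, ← mem_basicOpen_iff_notMem_primeIdealOf hW ⟨z', hz'⟩,
      ← Scheme.preimage_basicOpen]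
    rfl
  have hxr : ∀ r ∈ rs, f (pullback.fst f ι ξ) ∉ Y.basicOpen r := by
    intro r hr hmem
    have h1 : pullback.fst f ι ξ ∈ f ⁻¹ᵁ Y.basicOpen r := hmem
    rw [Scheme.preimage_basicOpen] at h1
    have h2 : (f.app U.1).hom r = 0 := by
      rw [← RingHom.mem_ker, hker]; exact Ideal.subset_span hr
    rw [h2, Scheme.basicOpen_zero] at h1
    exact h1
  have hle : Ideal.ofList (rs.map (ι.app U.1).hom) ≤
      (hW.primeIdealOf ⟨pullback.snd f ι ξ, hzW⟩).asIdeal := by
    rw [Ideal.ofList, Ideal.span_le]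
    rintro _ hb
    obtain ⟨r, hr, rfl⟩ := List.mem_map.mp hb
    rw [SetLike.mem_coe, hmem_iff _ hzW r, ← hxz]
    exact hxr r hr
  have hmin : (hW.primeIdealOf ⟨pullback.snd f ι ξ, hzW⟩).asIdeal ∈
      (Ideal.ofList (rs.map (ι.app U.1).hom)).minimalPrimes := by
    refine ⟨⟨(hW.primeIdealOf ⟨pullback.snd f ι ξ, hzW⟩).2, hle⟩, ?_⟩
    rintro q' ⟨hq'p, hq'le⟩ hq'q
    obtain ⟨z', hz'⟩ := exists_primeIdealOf_eq hW ⟨q', hq'p⟩
    have hspec : (z' : Z) ⤳ pullback.snd f ι ξ :=
      (primeIdealOf_le_iff hW z' ⟨pullback.snd f ι ξ, hzW⟩).mp (by rw [hz']; exact hq'q)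
    have hz'r : ∀ r ∈ rs, ι z' ∉ Y.basicOpen r := by
      intro r hr
      rw [← hmem_iff z' z'.2 r]
      have h5 : (ι.app U.1).hom r ∈ q' :=
        hq'le (Ideal.subset_span (List.mem_map.mpr ⟨r, hr, rfl⟩))
      rw [← show (hW.primeIdealOf z').asIdeal = q' from congrArg PrimeSpectrum.asIdeal hz'] at h5
      exact h5
    have hrange : ι z' ∈ Set.range f := mem_range_of_forall_notMem f U rs hker (ι z') z'.2 hz'r
    have hrange' : (z' : Z) ∈ Set.range (pullback.snd f ι) := by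
      rw [Scheme.Pullback.range_snd]
      exact hrange
    obtain ⟨ξ', hξ'⟩ := hrange'
    have hspec' : ξ' ⤳ ξ := by
      rw [← (pullback.snd f ι).isEmbedding.isInducing.specializes_iff, hξ']
      exact hspec
    have h6 := hξ ξ' hspec'
    subst h6
    have h7 : z' = ⟨pullback.snd f ι ξ', hzW⟩ := Subtype.ext hξ'.symm
    rw [← h7, hz']
  letI := secAlgebra K Z (ι ⁻¹ᵁ U.1)
  haveI := finiteType_sec K Z (ι ⁻¹ᵁ U.1) hW
  haveI : IsNoetherianRing Γ(Z, ι ⁻¹ᵁ U.1) :=
    Algebra.FiniteType.isNoetherianRing K Γ(Z, ι ⁻¹ᵁ U.1)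
  have hht : (hW.primeIdealOf ⟨pullback.snd f ι ξ, hzW⟩).asIdeal.height ≤ c := by
    have := height_le_length _ _ hmin
    rwa [List.length_map, hlen] at this
  obtain ⟨m, hm⟩ := exists_trdeg_eq K Z (genericPoint Z)
  have hmd : m = d := by
    have h1 := topologicalKrullDim_eq_of_irreducible K Z m hm
    rw [hd] at h1
    exact_mod_cast h1.symm
  subst hmd
  have h1 := localDim_eq_of_irreducible K Z m hm (pullback.snd f ι ξ)
  rw [localDim_eq_primeSpectrum hW ⟨pullback.snd f ι ξ, hzW⟩,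
    DimFT2.localDim_primeSpectrum K Γ(Z, ι ⁻¹ᵁ U.1), tr_eq_coheight K Z _ hW _ hzW,
    ← PrimeSpectrum.height_eq_orderHeight] at h1
  have hlc : IsLocallyClosed ((pullback.snd f ι) '' closure {ξ}) :=
    isClosed_closure.isLocallyClosed.image (pullback.snd f ι).isEmbedding.isInducing
      (pullback.snd f ι).isLocallyClosed_range
  have h2 := le_topologicalKrullDim_of_isLocallyClosed K Z _ hlc (pullback.snd f ι ξ)
    ⟨ξ, subset_closure rfl, rfl⟩
  have h3 : topologicalKrullDim ↥((pullback.snd f ι) '' closure {ξ}) =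
      topologicalKrullDim ↥(closure ({ξ} : Set ↥(pullback f ι))) :=
    (IsHomeomorph.topologicalKrullDim_eq _
      ((pullback.snd f ι).isEmbedding.homeomorphImage (closure {ξ})).isHomeomorph).symm
  rw [h3] at h2
  obtain ⟨a, ha⟩ : ∃ a : ℕ, (hW.primeIdealOf ⟨pullback.snd f ι ξ, hzW⟩).asIdeal.height = a :=
    ENat.ne_top_iff_exists.mp (ne_top_of_le_ne_top (ENat.coe_ne_top c) hht) |>.imp
      fun a h => h.symm
  rw [ha] at h1 hht
  have hac : a ≤ c := by exact_mod_cast hht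
  have h4 : a + tr K Z (pullback.snd f ι ξ) = m := by exact_mod_cast h1
  calc ((m : ℕ) : WithBot ℕ∞) ≤ ((tr K Z (pullback.snd f ι ξ) : ℕ) : WithBot ℕ∞) + (c : ℕ) := by
        exact_mod_cast (by omega : m ≤ tr K Z (pullback.snd f ι ξ) + c)
    _ ≤ topologicalKrullDim ↥(closure ({ξ} : Set ↥(pullback f ι))) + c := by
        gcongr

end Groth.Agent.Lib.Helper22.RegImmDim
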