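import Mathlib
import Groth.Agent.Lib.Helper22.RegCompR
import Groth.Agent.Lib.Helper1.SecSch
import Groth.Agent.Lib.Helper1.RegBC
import Groth.Prelude.Def_Mor2

/-!
# Lifting a regular closed immersion into the base to a smooth scheme over it (helper22)
-/

set_option autoImplicit false
set_option linter.style.haveILetI false
set_option linter.unusedSectionVars false
universe u
open CategoryTheory CategoryTheory.Limits AlgebraicGeometry TopologicalSpace Opposite
open RingTheory.Sequence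

namespace Groth.Agent.Lib.Helper22.RegLift

open Groth.Agent.Lib.Helper1

set_option maxHeartbeats 1600000 in
theorem main {X Y S : Scheme.{u}} (p : X ⟶ S) [Smooth p] (i : Y ⟶ X) (j : Y ⟶ S)
    [IsClosedImmersion i] [IsClosedImmersion j] (h : i ≫ p = j)
    (hj : Mor2.IsRegularClosedImmersion j) : Mor2.IsRegularClosedImmersion i := by
  refine ⟨inferInstance, fun y => ?_⟩
  obtain ⟨U₀, hU₀, hyU₀, rs₀, hrs₀, hker₀⟩ := hj.2 y
  rw [Scheme.Hom.ker_apply] at hker₀
  have hker₀' : RingHom.ker (j.app U₀).hom = Ideal.ofList rs₀ := hker₀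
  have hσw : i ≫ p = 𝟙 Y ≫ j := by rw [h, Category.id_comp]
  have hσ₂ : pullback.lift i (𝟙 Y) hσw ≫ pullback.snd p j = 𝟙 Y := pullback.lift_snd _ _ _
  have hσ₁ : pullback.lift i (𝟙 Y) hσw ≫ pullback.fst p j = i := pullback.lift_fst _ _ _
  haveI : Smooth (pullback.snd p j) := inferInstance
  obtain ⟨D, hD, hyD, hσD, hsD, rsσ, hregσ, hkerσ⟩ :=
    SecSch.exists_chart_of_section (pullback.snd p j) (pullback.lift i (𝟙 Y) hσw) hσ₂ y
  haveI : IsClosedImmersion ((pullback.lift i (𝟙 Y) hσw) ∣_ D) :=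
    SecSch.isClosedImmersion_restrict_of_surjective _ hD hσD hsD
  have hmem : i y ∈ p ⁻¹ᵁ U₀ := by
    show p (i y) ∈ U₀
    have : p (i y) = j y := congrArg (fun φ : Y ⟶ S => φ y) h
    rw [this]; exact hyU₀
  obtain ⟨_, ⟨U' : X.Opens, hU'a, rfl⟩, hyU', hU'le⟩ :=
    X.isBasis_affineOpens.exists_subset_of_mem_open hmem (p ⁻¹ᵁ U₀).2
  have hU'a : IsAffineOpen U' := hU'a
  have hsq : IsPullback (pullback.snd p j) (pullback.fst p j) j p :=
    (IsPullback.of_hasPullback p j).flip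
  obtain ⟨hjU₀, hsj⟩ := ConormMap.good_of_le_coborderRange j hU₀
    (UTKoszul.le_coborderRange_of_isClosedImmersion_restrict j U₀)
  have hker₁ := RegBC.ker_app_of_isPullback hsq hU₀ hjU₀ hsj hU'a hU'le
  rw [hker₀', ← RegComp.ofList_map] at hker₁
  have hflat : (p.appLE U₀ U' hU'le).hom.Flat :=
    HasRingHomProperty.appLE @Flat p inferInstance ⟨U₀, hU₀⟩ ⟨U', hU'a⟩ hU'le
  have hreg₁ : IsWeaklyRegular Γ(X, U') (rs₀.map (p.appLE U₀ U' hU'le).hom) := by
    letI := (p.appLE U₀ U' hU'le).hom.toAlgebra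
    haveI : Module.Flat Γ(S, U₀) Γ(X, U') := hflat
    exact hrs₀.1.of_flat
  haveI : IsClosedImmersion (pullback.fst p j) := inferInstance
  haveI : IsClosedImmersion ((pullback.fst p j) ∣_ U') := inferInstance
  haveI : IsImmersion (pullback.lift i (𝟙 Y) hσw) :=
    SecSch.isImmersion_of_section (pullback.snd p j) _ hσ₂
  have hyU'' : pullback.fst p j (pullback.lift i (𝟙 Y) hσw y) ∈ U' := by
    have : pullback.fst p j (pullback.lift i (𝟙 Y) hσw y) = i y :=
      congrArg (fun φ : Y ⟶ X => φ y) hσ₁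
    rw [this]; exact hyU'
  obtain ⟨U, hU, hyU, -, rs, -, hrs, hker⟩ := RegCompR.comp_chart (pullback.fst p j)
    (pullback.lift i (𝟙 Y) hσw) y hU'a hyU'' _ hreg₁ hker₁ hD hyD rsσ hregσ hkerσ
  have key : ∀ i' : Y ⟶ X, i' = i → i' y ∈ U → RingHom.ker (i'.app U).hom = Ideal.ofList rs →
      ∃ (U : X.Opens) (hU : IsAffineOpen U), i' y ∈ U ∧ ∃ rs : List Γ(X, U),
        RingTheory.Sequence.IsRegular Γ(X, U) rs ∧ i'.ker.ideal ⟨U, hU⟩ = Ideal.ofList rs := by
    intro i' hi' hyU hker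
    haveI : QuasiCompact i' := by rw [hi']; infer_instance
    refine ⟨U, hU, hyU, rs, ⟨hrs, ?_⟩, ?_⟩
    · haveI : Nonempty (i' ⁻¹ᵁ U) := ⟨⟨y, hyU⟩⟩
      intro htop
      have h1 : Ideal.ofList rs • (⊤ : Submodule Γ(X, U) Γ(X, U)) = Ideal.ofList rs := by
        rw [smul_eq_mul, Ideal.mul_top]
      rw [h1, ← hker] at htop
      have h2 : (1 : Γ(X, U)) ∈ RingHom.ker (i'.app U).hom := by rw [← htop]; trivial
      rw [RingHom.mem_ker, map_one] at h2
      exact one_ne_zero h2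
    · rw [Scheme.Hom.ker_apply]
      exact hker
  have h9 := key _ hσ₁ hyU hker
  rw [hσ₁] at h9
  exact h9

end Groth.Agent.Lib.Helper22.RegLift
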