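import Mathlib

/-!
# Derivations of a node preserve the maximal ideal (helper22)
-/

set_option autoImplicit false
universe u
open IsLocalRing

namespace Groth.Agent.Lib.Helper22.RegNodA

variable {K B : Type u} [Field K] [CommRing B] [Algebra K B] [IsLocalRing B]

theorem derivation_pow_mem (D : Derivation K B B) (n : ℕ) :
    ∀ y ∈ maximalIdeal B ^ (n + 1), D y ∈ maximalIdeal B ^ n := by
  induction n with
  | zero => intro y _; simp
  | succ n ih =>
    intro y hy
    rw [pow_succ] at hy
    refine Submodule.mul_induction_on hy ?_ ?_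
    · intro a ha b hb
      rw [Derivation.leibniz, smul_eq_mul, smul_eq_mul]
      refine Ideal.add_mem _ (Ideal.mul_mem_right _ _ ha) ?_
      have h := Ideal.mul_mem_mul (ih a ha) hb
      rw [← pow_succ, mul_comm] at h
      exact h
    · intro a b ha hb
      rw [map_add]
      exact Ideal.add_mem _ ha hb

theorem derivation_mem_maximalIdeal
    (hres : ∀ b : B, ∃ c : K, b - algebraMap K B c ∈ maximalIdeal B)
    (u v : B) (hu : u ∈ maximalIdeal B) (hv : v ∈ maximalIdeal B)
    (huv : u * v ∈ maximalIdeal B ^ 3)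
    (hli : ∀ α β : K, algebraMap K B α * u + algebraMap K B β * v ∈ maximalIdeal B ^ 2 →
      α = 0 ∧ β = 0)
    (hsp : ∀ x ∈ maximalIdeal B, ∃ α β : K,
      x - (algebraMap K B α * u + algebraMap K B β * v) ∈ maximalIdeal B ^ 2)
    (D : Derivation K B B) : ∀ x ∈ maximalIdeal B, D x ∈ maximalIdeal B := by
  obtain ⟨α, hα⟩ := hres (D v)
  obtain ⟨β, hβ⟩ := hres (D u)
  have h1 : D (u * v) ∈ maximalIdeal B ^ 2 := derivation_pow_mem D 2 _ huv
  rw [Derivation.leibniz, smul_eq_mul, smul_eq_mul] at h1
  have h2 : algebraMap K B α * u + algebraMap K B β * v ∈ maximalIdeal B ^ 2 := by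
    have e : algebraMap K B α * u + algebraMap K B β * v =
        (u * D v + v * D u) - (u * (D v - algebraMap K B α) + v * (D u - algebraMap K B β)) := by
      ring
    rw [e]
    refine Ideal.sub_mem _ h1 (Ideal.add_mem _ ?_ ?_)
    · rw [pow_two]; exact Ideal.mul_mem_mul hu hα
    · rw [pow_two]; exact Ideal.mul_mem_mul hv hβ
  obtain ⟨h3, h4⟩ := hli α β h2
  rw [h3, map_zero, sub_zero] at hα
  rw [h4, map_zero, sub_zero] at hβ
  intro x hx
  obtain ⟨a, b, hab⟩ := hsp x hx
  have h5 := derivation_pow_mem D 1 _ hab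
  rw [pow_one] at h5
  have e : D x = D (x - (algebraMap K B a * u + algebraMap K B b * v)) +
      (algebraMap K B a * D u + algebraMap K B b * D v) := by
    rw [map_sub, map_add]
    have e1 : algebraMap K B a * u = a • u := (Algebra.smul_def a u).symm
    have e2 : algebraMap K B b * v = b • v := (Algebra.smul_def b v).symm
    rw [e1, e2, D.map_smul, D.map_smul, Algebra.smul_def, Algebra.smul_def]
    ring
  rw [e]
  exact Ideal.add_mem _ h5 (Ideal.add_mem _ (Ideal.mul_mem_left _ _ hβ) (Ideal.mul_mem_left _ _ hα))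

end Groth.Agent.Lib.Helper22.RegNodA
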