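import Mathlib

/-!
# Extending derivations to localizations of a base change (helper22)
-/

set_option autoImplicit false
set_option linter.style.haveILetI false
universe u
open TensorProduct KaehlerDifferential

namespace Groth.Agent.Lib.Helper22.RegNodB

attribute [local instance] Algebra.TensorProduct.rightAlgebra

variable (k K A : Type u) [Field k] [Field K] [Algebra k K] [CommRing A] [Algebra k A]
  (q : Ideal (K ⊗[k] A)) [q.IsPrime]

theorem exists_derivation_ext (δ : Derivation k A A) :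
    ∃ D' : Derivation K (Localization.AtPrime q) (Localization.AtPrime q),
      ∀ a : A, D' (algebraMap (K ⊗[k] A) (Localization.AtPrime q) (1 ⊗ₜ a)) =
        algebraMap (K ⊗[k] A) (Localization.AtPrime q) (1 ⊗ₜ δ a) := by
  haveI : Algebra.FormallyEtale (K ⊗[k] A) (Localization.AtPrime q) :=
    Algebra.FormallyEtale.of_isLocalization q.primeCompl
  let ψ : Ω[A⁄k] →ₗ[A] A := δ.liftKaehlerDifferential
  let ψ' : Ω[A⁄k] →ₗ[A] Localization.AtPrime q :=
    (Algebra.linearMap A (Localization.AtPrime q)) ∘ₗ ψ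
  let g₁ : (K ⊗[k] A) ⊗[A] Ω[A⁄k] →ₗ[K ⊗[k] A] Localization.AtPrime q :=
    LinearMap.liftBaseChange (K ⊗[k] A) ψ'
  let g₂ : Ω[(K ⊗[k] A)⁄K] →ₗ[K ⊗[k] A] Localization.AtPrime q :=
    g₁ ∘ₗ (tensorKaehlerEquiv k K A (K ⊗[k] A)).symm.toLinearMap
  let g₃ : (Localization.AtPrime q) ⊗[K ⊗[k] A] Ω[(K ⊗[k] A)⁄K] →ₗ[Localization.AtPrime q]
      Localization.AtPrime q := LinearMap.liftBaseChange (Localization.AtPrime q) g₂
  let g₄ : Ω[(Localization.AtPrime q)⁄K] →ₗ[Localization.AtPrime q] Localization.AtPrime q :=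
    g₃ ∘ₗ (tensorKaehlerEquivOfFormallyEtale K (K ⊗[k] A) (Localization.AtPrime q)).symm.toLinearMap
  refine ⟨g₄.compDer (KaehlerDifferential.D K (Localization.AtPrime q)), fun a => ?_⟩
  show g₃ ((tensorKaehlerEquivOfFormallyEtale K (K ⊗[k] A) (Localization.AtPrime q)).symm
    (KaehlerDifferential.D K (Localization.AtPrime q) (algebraMap (K ⊗[k] A) (Localization.AtPrime q) (1 ⊗ₜ a)))) = _
  rw [tensorKaehlerEquivOfFormallyEtale_symm_D_algebraMap]
  show (1 : Localization.AtPrime q) • g₂ (KaehlerDifferential.D K (K ⊗[k] A) (1 ⊗ₜ a)) = _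
  rw [one_smul]
  show g₁ ((tensorKaehlerEquiv k K A (K ⊗[k] A)).symm (KaehlerDifferential.D K (K ⊗[k] A) (1 ⊗ₜ a))) = _
  rw [tensorKaehlerEquiv_symm_D_tmul]
  show (algebraMap K K 1 ⊗ₜ[k] (1 : A)) • ψ' (KaehlerDifferential.D k A a) = _
  have h1 : (algebraMap K K 1 ⊗ₜ[k] (1 : A)) = (1 : K ⊗[k] A) := by
    simp [Algebra.TensorProduct.one_def]
  rw [h1, one_smul]
  show algebraMap A (Localization.AtPrime q) (δ.liftKaehlerDifferential (KaehlerDifferential.D k A a)) = _
  rw [Derivation.liftKaehlerDifferential_comp_D]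
  rw [IsScalarTower.algebraMap_apply A (K ⊗[k] A) (Localization.AtPrime q)]
  rfl

theorem subsingleton_kaehler_loc [Subsingleton Ω[A⁄k]] :
    Subsingleton Ω[(Localization.AtPrime q)⁄K] := by
  haveI : Algebra.FormallyEtale (K ⊗[k] A) (Localization.AtPrime q) :=
    Algebra.FormallyEtale.of_isLocalization q.primeCompl
  haveI : Subsingleton ((K ⊗[k] A) ⊗[A] Ω[A⁄k]) := inferInstance
  haveI : Subsingleton Ω[(K ⊗[k] A)⁄K] :=
    (tensorKaehlerEquiv k K A (K ⊗[k] A)).symm.toEquiv.subsingleton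
  haveI : Subsingleton ((Localization.AtPrime q) ⊗[K ⊗[k] A] Ω[(K ⊗[k] A)⁄K]) := inferInstance
  exact (tensorKaehlerEquivOfFormallyEtale K (K ⊗[k] A) (Localization.AtPrime q)).symm.toEquiv.subsingleton

end Groth.Agent.Lib.Helper22.RegNodB
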