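import Mathlib
import Groth.Agent.Lib.Helper22.RegNodA
import Groth.Agent.Lib.Helper22.RegNodB

/-!
# A node is not the base change of a local ring with a unit-valued derivation (helper22)
-/

set_option autoImplicit false
set_option linter.style.haveILetI false
universe u
open TensorProduct KaehlerDifferential IsLocalRing

namespace Groth.Agent.Lib.Helper22.RegNodC

attribute [local instance] Algebra.TensorProduct.rightAlgebra

theorem no_regular_node (k K A : Type u) [Field k] [Field K] [Algebra k K] [CommRing A]
    [Algebra k A] [Algebra.EssFiniteType k A]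
    (hA : (∃ (δ : Derivation k A A) (a : A), IsUnit (δ a)) ∨ Subsingleton Ω[A⁄k])
    (q : Ideal (K ⊗[k] A)) [q.IsPrime]
    (hres : ∀ b : Localization.AtPrime q, ∃ c : K,
      b - algebraMap K (Localization.AtPrime q) c ∈ maximalIdeal (Localization.AtPrime q))
    (u v : Localization.AtPrime q) (hu : u ∈ maximalIdeal (Localization.AtPrime q))
    (hv : v ∈ maximalIdeal (Localization.AtPrime q))
    (huv : u * v ∈ maximalIdeal (Localization.AtPrime q) ^ 3)
    (hli : ∀ α β : K, algebraMap K (Localization.AtPrime q) α * u +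
        algebraMap K (Localization.AtPrime q) β * v ∈ maximalIdeal (Localization.AtPrime q) ^ 2 →
      α = 0 ∧ β = 0)
    (hsp : ∀ x ∈ maximalIdeal (Localization.AtPrime q), ∃ α β : K,
      x - (algebraMap K (Localization.AtPrime q) α * u +
        algebraMap K (Localization.AtPrime q) β * v) ∈ maximalIdeal (Localization.AtPrime q) ^ 2) :
    False := by
  rcases hA with ⟨δ, a, ha⟩ | hsub
  · obtain ⟨D', hD'⟩ := RegNodB.exists_derivation_ext k K A q δ
    obtain ⟨c, hc⟩ := hres (algebraMap (K ⊗[k] A) (Localization.AtPrime q) (1 ⊗ₜ a))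
    have h1 := RegNodA.derivation_mem_maximalIdeal hres u v hu hv huv hli hsp D' _ hc
    rw [map_sub, hD', Derivation.map_algebraMap, sub_zero] at h1
    have h2 : IsUnit (algebraMap (K ⊗[k] A) (Localization.AtPrime q) (1 ⊗ₜ δ a)) := by
      have : (1 ⊗ₜ[k] δ a : K ⊗[k] A) = algebraMap A (K ⊗[k] A) (δ a) := rfl
      rw [this]
      exact (ha.map (algebraMap A (K ⊗[k] A))).map _
    exact (mem_maximalIdeal _).1 h1 h2
  · haveI := hsub
    haveI : Subsingleton Ω[(Localization.AtPrime q)⁄K] := RegNodB.subsingleton_kaehler_loc k K A q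
    haveI : Algebra.FormallyUnramified K (Localization.AtPrime q) := ⟨inferInstance⟩
    haveI : Algebra.FormallyUnramified K
        (Localization.AtPrime q ⧸ maximalIdeal (Localization.AtPrime q) ^ 2) :=
      Algebra.FormallyUnramified.of_surjective (Ideal.Quotient.mkₐ K _)
        Ideal.Quotient.mk_surjective
    have hred := Algebra.FormallyUnramified.isReduced_of_field K
      (Localization.AtPrime q ⧸ maximalIdeal (Localization.AtPrime q) ^ 2)
    have h1 : Ideal.Quotient.mk (maximalIdeal (Localization.AtPrime q) ^ 2) u = 0 := by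
      refine hred.eq_zero _ ⟨2, ?_⟩
      rw [← map_pow]
      exact Ideal.Quotient.eq_zero_iff_mem.2 (Ideal.pow_mem_pow hu 2)
    rw [Ideal.Quotient.eq_zero_iff_mem] at h1
    have h2 := hli 1 0 (by simpa using h1)
    exact one_ne_zero h2.1

end Groth.Agent.Lib.Helper22.RegNodC
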