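import Mathlib
import Groth.Agent.Lib.Helper9.RegLocal
import Groth.Agent.Lib.Helper23.RegCurve

/-!
# Local rings of a regular scheme with one-dimensional components are PIDs (helper22)
-/

set_option autoImplicit false
set_option linter.style.haveILetI false
universe u
open AlgebraicGeometry CategoryTheory TopologicalSpace

namespace Groth.Agent.Lib.Helper22.RegNodD

/-- closure of a point, as an irreducible closed subset -/
def ptClosure {Z : Type*} [TopologicalSpace Z] (y : Z) : IrreducibleCloseds Z :=
  ⟨closure {y}, isIrreducible_singleton.closure, isClosed_closure⟩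

theorem ptClosure_lt {Z : Type*} [TopologicalSpace Z] {a b : Z} (h1 : b ⤳ a) (h2 : ¬ a ⤳ b) :
    ptClosure a < ptClosure b := by
  have hle : ptClosure a ≤ ptClosure b := by
    show closure {a} ⊆ closure {b}
    exact closure_minimal (Set.singleton_subset_iff.2 (specializes_iff_mem_closure.1 h1))
      isClosed_closure
  refine lt_of_le_of_ne hle ?_
  intro heq
  have : (ptClosure a : Set Z) = ptClosure b := congrArg _ heq
  have hb : b ∈ closure ({a} : Set Z) := by
    show b ∈ (ptClosure a : Set Z)
    rw [this]
    exact subset_closure rfl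
  exact h2 (specializes_iff_mem_closure.2 hb)

theorem coheight_le_one (X : Scheme.{u})
    (hdim : ∀ Z ∈ irreducibleComponents (X : Type u), topologicalKrullDim Z = 1) (x : X) :
    Order.coheight x ≤ 1 := by
  apply Order.coheight_le
  intro p _
  by_contra hlen
  have hlen2 : 2 ≤ p.length := by
    by_contra h
    apply hlen
    have : p.length ≤ 1 := by omega
    exact_mod_cast this
  let a := p ⟨0, by omega⟩
  let b := p ⟨1, by omega⟩
  let c := p ⟨2, by omega⟩
  have hab : a < b := p.strictMono (by simp [Fin.lt_def])
  have hbc : b < c := p.strictMono (by simp [Fin.lt_def])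
  let Z := irreducibleComponent c
  have hZ : Z ∈ irreducibleComponents (X : Type u) := irreducibleComponent_mem_irreducibleComponents c
  have hZcl : IsClosed Z := isClosed_of_mem_irreducibleComponents Z hZ
  have hcZ : c ∈ Z := mem_irreducibleComponent
  have hbZ : b ∈ Z := (hbc.le : c ⤳ b).mem_closed hZcl hcZ
  have haZ : a ∈ Z := (hab.le : b ⤳ a).mem_closed hZcl hbZ
  let a' : Z := ⟨a, haZ⟩
  let b' : Z := ⟨b, hbZ⟩
  let c' : Z := ⟨c, hcZ⟩
  have h1 : ptClosure a' < ptClosure b' := by
    apply ptClosure_lt
    · rw [subtype_specializes_iff]; exact hab.le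
    · rw [subtype_specializes_iff]; exact hab.not_ge
  have h2 : ptClosure b' < ptClosure c' := by
    apply ptClosure_lt
    · rw [subtype_specializes_iff]; exact hbc.le
    · rw [subtype_specializes_iff]; exact hbc.not_ge
  let s : LTSeries (IrreducibleCloseds Z) :=
    ((RelSeries.singleton _ (ptClosure a')).snoc (ptClosure b') (by simpa using h1)).snoc
      (ptClosure c') (by simpa using h2)
  have hs : s.length = 2 := by simp [s]
  have h3 := Order.LTSeries.length_le_krullDim s
  have h4 : topologicalKrullDim Z = 1 := hdim Z hZ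
  unfold topologicalKrullDim at h4
  rw [h4, hs] at h3
  exact absurd h3 (by decide)

theorem pid_stalk (X : Scheme.{u})
    (hdim : ∀ Z ∈ irreducibleComponents (X : Type u), topologicalKrullDim Z = 1) (x : X)
    (hreg : IsRegularLocalRing (X.presheaf.stalk x)) :
    IsDomain (X.presheaf.stalk x) ∧ IsPrincipalIdealRing (X.presheaf.stalk x) := by
  haveI := hreg
  haveI : IsDomain (X.presheaf.stalk x) :=
    Groth.Agent.Lib.Helper9.RegLocal.isDomain_of_isRegularLocalRing _
  refine ⟨inferInstance, ?_⟩
  have hk : Ring.KrullDimLE 1 (X.presheaf.stalk x) :=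
    krullDimLE_of_coheight_le (by exact_mod_cast coheight_le_one X hdim x)
  have hd : Ring.DimensionLEOne (X.presheaf.stalk x) :=
    ⟨fun {p} hp hpp => (Ring.krullDimLE_one_iff_of_noZeroDivisors.mp hk) p hp hpp⟩
  exact Groth.Agent.Lib.Helper23.RegCurve.isPrincipalIdealRing_of_regular _ hd

end Groth.Agent.Lib.Helper22.RegNodD
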