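import Mathlib
import Groth.Prelude.Def_CurvBase
import Groth.Agent.Lib.Helper22.RegNodC
import Groth.Agent.Lib.Helper22.RegNodD
import Groth.Agent.Lib.Helper22.NodH
import Groth.Agent.Lib.Helper20.DerivUnit

/-!
# A regular local ring cannot become a node after base field extension (helper22)
-/

set_option autoImplicit false
set_option linter.style.haveILetI false
universe u
open TensorProduct KaehlerDifferential IsLocalRing

namespace Groth.Agent.Lib.Helper22.RegNodE

attribute [local instance] Algebra.TensorProduct.rightAlgebra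

/-- the statement of the node facts lemma, for one ring -/
def NodeFacts (K B : Type u) [Field K] [CommRing B] [Algebra K B] [IsLocalRing B] : Prop :=
  ∃ u v : B, u ∈ maximalIdeal B ∧ v ∈ maximalIdeal B ∧ u * v ∈ maximalIdeal B ^ 3 ∧
    (∀ α β : K, algebraMap K B α * u + algebraMap K B β * v ∈ maximalIdeal B ^ 2 →
      α = 0 ∧ β = 0) ∧
    (∀ x ∈ maximalIdeal B, ∃ α β : K,
      x - (algebraMap K B α * u + algebraMap K B β * v) ∈ maximalIdeal B ^ 2)

theorem false_of_node (k K A : Type u) [Field k] [Field K] [Algebra k K] [CommRing A]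
    [IsDomain A] [IsLocalRing A] [IsPrincipalIdealRing A] [Algebra k A]
    [Algebra.EssFiniteType k A]
    (B : Type u) [CommRing B] [Algebra K B] [IsLocalRing B] [IsNoetherianRing B]
    (hB : Curv2.IsOrdDoublePt K B) (q : Ideal (K ⊗[k] A)) [q.IsPrime]
    (e : B ≃ₐ[K] Localization.AtPrime q)
    (hN : Curv2.IsOrdDoublePt K (Localization.AtPrime q) → NodeFacts K (Localization.AtPrime q)) :
    False := by
  letI : Algebra (Localization.AtPrime q) B := (e.symm : Localization.AtPrime q →+* B).toAlgebra
  haveI : IsScalarTower K (Localization.AtPrime q) B :=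
    IsScalarTower.of_algebraMap_eq (fun c => (e.symm.commutes c).symm)
  haveI : IsLocalHom (algebraMap (Localization.AtPrime q) B) := by
    refine ⟨fun a ha => ?_⟩
    have h := ha.map e
    have h2 : e (algebraMap (Localization.AtPrime q) B a) = a := e.apply_symm_apply a
    rwa [h2] at h
  haveI : Module.Flat (Localization.AtPrime q) B :=
    RingHom.flat_algebraMap_iff.mp (RingHom.Flat.of_bijective e.symm.bijective)
  have hm : (maximalIdeal (Localization.AtPrime q)).map (algebraMap (Localization.AtPrime q) B) =
      maximalIdeal B := IsLocalRing.map_ringEquiv_maximalIdeal e.symm.toRingEquiv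
  have hB' : Curv2.IsOrdDoublePt K (Localization.AtPrime q) :=
    Nod.isOrdDoublePt_of_flat_rev K hm hB
  obtain ⟨u, v, hu, hv, huv, hli, hsp⟩ := hN hB'
  haveI : IsNoetherianRing (Localization.AtPrime q) :=
    Algebra.EssFiniteType.isNoetherianRing K _
  have hres : ∀ b : Localization.AtPrime q, ∃ c : K,
      b - algebraMap K (Localization.AtPrime q) c ∈ maximalIdeal (Localization.AtPrime q) := by
    intro b
    obtain ⟨c, hc⟩ := Nod.residue_algebraMap_surjective K hB' (residue _ b)
    refine ⟨c, ?_⟩
    rw [← residue_eq_zero_iff, map_sub, sub_eq_zero]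
    exact hc.symm
  exact RegNodC.no_regular_node k K A
    (Groth.Agent.Lib.Helper20.DerivUnit.exists_derivation_or_subsingleton k A) q hres u v hu hv
    huv hli hsp

end Groth.Agent.Lib.Helper22.RegNodE
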