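import Mathlib
import Groth.Prelude.Def_CurvBase
import Groth.Agent.Lib.Helper22.RegNodE
import Groth.Agent.Lib.Helper22.NodP
import Groth.Agent.Lib.Helper1.EssFTStalk

/-!
# At-worst-nodal + regular ⇒ smooth, assuming the two farmed-out lemmas (helper22)
-/

set_option autoImplicit false
set_option linter.style.haveILetI false
universe u
open TensorProduct KaehlerDifferential IsLocalRing AlgebraicGeometry CategoryTheory

namespace Groth.Agent.Lib.Helper22.RegNodF

/-- the statement of the stalk lemma `(S)` -/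
def StalkStmt (k : Type u) [Field k] (X : Scheme.{u})
    [X.Over (Spec (CommRingCat.of k))] (K : Type u) [Field K] [Algebra k K]
    (xb : ↥(Curv2.bc k X K)) : Prop :=
  letI := Curv2.stalkAlgebra k X (Curv2.bcFst k X K xb)
  letI : (Curv2.bc k X K).Over (Spec (CommRingCat.of K)) := ⟨Curv2.bcSnd k X K⟩
  letI := Curv2.stalkAlgebra K (Curv2.bc k X K) xb
  ∃ (q : Ideal (K ⊗[k] X.presheaf.stalk (Curv2.bcFst k X K xb))) (_ : q.IsPrime),
    Nonempty ((Curv2.bc k X K).presheaf.stalk xb ≃ₐ[K] Localization.AtPrime q)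

variable (k : Type u) [Field k] (C : Scheme.{u}) [C.Over (Spec (CommRingCat.of k))]
  [LocallyOfFiniteType (C ↘ Spec (CommRingCat.of k))]

theorem not_isNode_of_regular
    (hdim : ∀ Z ∈ irreducibleComponents (C : Type u), topologicalKrullDim Z = 1)
    (hreg : ∀ x : C, IsRegularLocalRing (C.presheaf.stalk x))
    (hS : ∀ xb : ↥(Curv2.bc k C (AlgebraicClosure k)), StalkStmt k C (AlgebraicClosure k) xb)
    (hN : ∀ (B : Type u) [CommRing B] [Algebra (AlgebraicClosure k) B] [IsLocalRing B]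
      [IsNoetherianRing B], Curv2.IsOrdDoublePt (AlgebraicClosure k) B →
        RegNodE.NodeFacts (AlgebraicClosure k) B)
    (x : C) (hnode : Curv2.IsNode k C x) : False := by
  obtain ⟨-, xb, hxb, hodp⟩ := hnode
  subst hxb
  letI : (Curv2.bc k C (AlgebraicClosure k)).Over (Spec (CommRingCat.of (AlgebraicClosure k))) :=
    ⟨Curv2.bcSnd k C (AlgebraicClosure k)⟩
  letI := Curv2.stalkAlgebra (AlgebraicClosure k) (Curv2.bc k C (AlgebraicClosure k)) xb
  letI := Curv2.stalkAlgebra k C (Curv2.bcFst k C (AlgebraicClosure k) xb)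
  haveI : LocallyOfFiniteType (Curv2.bcSnd k C (AlgebraicClosure k)) := by
    unfold Curv2.bcSnd; infer_instance
  haveI : IsLocallyNoetherian (Curv2.bc k C (AlgebraicClosure k)) :=
    LocallyOfFiniteType.isLocallyNoetherian (Curv2.bcSnd k C (AlgebraicClosure k))
  obtain ⟨q, hq, ⟨e⟩⟩ := hS xb
  haveI := hq
  obtain ⟨hdom, hpid⟩ := RegNodD.pid_stalk C hdim (Curv2.bcFst k C (AlgebraicClosure k) xb)
    (hreg _)
  haveI := hdom
  haveI := hpid
  haveI : Algebra.EssFiniteType k (C.presheaf.stalk (Curv2.bcFst k C (AlgebraicClosure k) xb)) :=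
    Groth.Agent.Lib.Helper1.EssFTStalk.essFiniteType_stalk k C _
  haveI : IsNoetherianRing (Localization.AtPrime q) :=
    Algebra.EssFiniteType.isNoetherianRing (AlgebraicClosure k) _
  exact RegNodE.false_of_node k (AlgebraicClosure k)
    (C.presheaf.stalk (Curv2.bcFst k C (AlgebraicClosure k) xb))
    ((Curv2.bc k C (AlgebraicClosure k)).presheaf.stalk xb) hodp q e (hN _)

theorem smooth_of_regular
    (hdim : ∀ Z ∈ irreducibleComponents (C : Type u), topologicalKrullDim Z = 1)
    (hnod : Curv2.AtWorstNodal k C)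
    (hreg : ∀ x : C, IsRegularLocalRing (C.presheaf.stalk x))
    (hS : ∀ xb : ↥(Curv2.bc k C (AlgebraicClosure k)), StalkStmt k C (AlgebraicClosure k) xb)
    (hN : ∀ (B : Type u) [CommRing B] [Algebra (AlgebraicClosure k) B] [IsLocalRing B]
      [IsNoetherianRing B], Curv2.IsOrdDoublePt (AlgebraicClosure k) B →
        RegNodE.NodeFacts (AlgebraicClosure k) B) :
    Smooth (C ↘ Spec (CommRingCat.of k)) := by
  have F1 : ∀ x : C, IsClosed ({x} : Set C) →
      ∃ U : C.Opens, x ∈ U ∧ Smooth (U.ι ≫ (C ↘ Spec (CommRingCat.of k))) := by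
    intro x hx
    rcases hnod x hx with h | hnode
    · exact h
    · exact (not_isNode_of_regular k C hdim hreg hS hN x hnode).elim
  haveI : JacobsonSpace C := LocallyOfFiniteType.jacobsonSpace (C ↘ Spec (CommRingCat.of k))
  choose U hxU hU using F1
  refine IsZariskiLocalAtSource.of_iSup_eq_top (P := @Smooth)
    (fun x : {x : C // IsClosed ({x} : Set C)} => U x.1 x.2) ?_ (fun x => hU x.1 x.2)
  rw [eq_top_iff]
  intro y _
  by_contra hy
  have hcl : IsClosed ((⨆ x : {x : C // IsClosed ({x} : Set C)}, U x.1 x.2 : C.Opens) : Set C)ᶜ :=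
    (⨆ x : {x : C // IsClosed ({x} : Set C)}, U x.1 x.2 : C.Opens).isOpen.isClosed_compl
  obtain ⟨z, hyz, hz⟩ := Nod.exists_closed_specialization C y
  have hzmem : z ∈ ((⨆ x : {x : C // IsClosed ({x} : Set C)}, U x.1 x.2 : C.Opens) : Set C)ᶜ :=
    hyz.mem_closed hcl hy
  apply hzmem
  exact TopologicalSpace.Opens.mem_iSup.2 ⟨⟨z, hz⟩, hxU z hz⟩

end Groth.Agent.Lib.Helper22.RegNodF
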