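import Mathlib
import Groth.Prelude.Def_CInt
import Groth.Agent.Lib.Helper6.FiberStalkIso
import Groth.Agent.Lib.Helper6.LocalDim
import Groth.Agent.Lib.Helper6.OpenDimSch

/-!
# Helper22: relative codimension does not increase under surjective morphisms
-/

set_option autoImplicit false
universe u

open CategoryTheory CategoryTheory.Limits AlgebraicGeometry TopologicalSpace Opposite IsLocalRing

namespace Groth.Agent.Lib.Helper22.RelCodim

open Groth.Agent.Lib.Helper6

/-- Ring-level inequality: `C → A → B` local homomorphisms of Noetherian local rings such that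
`𝔪_B` is the only prime of `B` over `𝔪_A`.  Then `dim B/𝔪_C B ≤ dim A/𝔪_C A`. -/
theorem ringKrullDim_quot_le {C A B : Type u} [CommRing C] [CommRing A] [CommRing B]
    [IsLocalRing C] [IsLocalRing A] [IsLocalRing B] [IsNoetherianRing A] [IsNoetherianRing B]
    (ψ : C →+* A) (φ : A →+* B) [IsLocalHom ψ] [IsLocalHom φ]
    (hφ : ∀ p : Ideal B, p.IsPrime → p.comap φ = maximalIdeal A → p = maximalIdeal B) :
    ringKrullDim (B ⧸ (maximalIdeal C).map (φ.comp ψ)) ≤
      ringKrullDim (A ⧸ (maximalIdeal C).map ψ) := by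
  set IA := (maximalIdeal C).map ψ with hIA
  set IB := (maximalIdeal C).map (φ.comp ψ) with hIB
  have hIAle : IA ≤ maximalIdeal A :=
    ((IsLocalRing.local_hom_TFAE ψ).out 0 2).mp (inferInstance : IsLocalHom ψ)
  have hIBeq : IB = IA.map φ := by rw [hIB, hIA, Ideal.map_map]
  have hφle : (maximalIdeal A).map φ ≤ maximalIdeal B :=
    ((IsLocalRing.local_hom_TFAE φ).out 0 2).mp (inferInstance : IsLocalHom φ)
  have hIBle : IB ≤ maximalIdeal B := by
    rw [hIBeq]; exact (Ideal.map_mono hIAle).trans hφle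
  have hIAne : IA ≠ ⊤ := fun h =>
    (inferInstance : (maximalIdeal A).IsMaximal).ne_top (top_le_iff.mp (h ▸ hIAle))
  have hIBne : IB ≠ ⊤ := fun h =>
    (inferInstance : (maximalIdeal B).IsMaximal).ne_top (top_le_iff.mp (h ▸ hIBle))
  haveI : Nontrivial (A ⧸ IA) := Ideal.Quotient.nontrivial_iff.mpr hIAne
  haveI : Nontrivial (B ⧸ IB) := Ideal.Quotient.nontrivial_iff.mpr hIBne
  haveI : IsLocalRing (A ⧸ IA) :=
    IsLocalRing.of_surjective' (Ideal.Quotient.mk IA) Ideal.Quotient.mk_surjective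
  haveI : IsLocalRing (B ⧸ IB) :=
    IsLocalRing.of_surjective' (Ideal.Quotient.mk IB) Ideal.Quotient.mk_surjective
  haveI hmkA : IsLocalHom (Ideal.Quotient.mk IA) :=
    IsLocalHom.of_surjective (Ideal.Quotient.mk IA) Ideal.Quotient.mk_surjective
  haveI hmkB : IsLocalHom (Ideal.Quotient.mk IB) :=
    IsLocalHom.of_surjective (Ideal.Quotient.mk IB) Ideal.Quotient.mk_surjective
  have hcomap : IA ≤ IB.comap φ := by
    rw [hIBeq]; exact Ideal.le_comap_map
  let φbar : (A ⧸ IA) →+* (B ⧸ IB) := Ideal.quotientMap IB φ hcomap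
  have hφbar : ∀ a : A, φbar (Ideal.Quotient.mk IA a) = Ideal.Quotient.mk IB (φ a) := fun a =>
    Ideal.quotientMap_mk
  haveI hloc : IsLocalHom φbar := by
    refine ⟨fun abar h => ?_⟩
    obtain ⟨a, rfl⟩ := Ideal.Quotient.mk_surjective abar
    rw [hφbar] at h
    have h1 : IsUnit (φ a) := isUnit_of_map_unit (Ideal.Quotient.mk IB) (φ a) h
    exact (isUnit_of_map_unit φ a h1).map (Ideal.Quotient.mk IA)
  have h1 := ringKrullDim_le_add_quotient_of_isLocalHom φbar
  have h2 : ringKrullDim ((B ⧸ IB) ⧸ (maximalIdeal (A ⧸ IA)).map φbar) ≤ 0 := by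
    haveI : Subsingleton (PrimeSpectrum ((B ⧸ IB) ⧸ (maximalIdeal (A ⧸ IA)).map φbar)) := by
      let π : B →+* ((B ⧸ IB) ⧸ (maximalIdeal (A ⧸ IA)).map φbar) :=
        (Ideal.Quotient.mk _).comp (Ideal.Quotient.mk IB)
      have hπ : Function.Surjective π :=
        Ideal.Quotient.mk_surjective.comp Ideal.Quotient.mk_surjective
      have key : ∀ P : PrimeSpectrum ((B ⧸ IB) ⧸ (maximalIdeal (A ⧸ IA)).map φbar),
          P.asIdeal.comap π = maximalIdeal B := by
        intro P
        apply hφ _ (Ideal.comap_isPrime π P.asIdeal)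
        have hle : maximalIdeal A ≤ (P.asIdeal.comap π).comap φ := by
          intro a ha
          rw [Ideal.mem_comap, Ideal.mem_comap]
          have : π (φ a) = 0 := by
            change Ideal.Quotient.mk _ (Ideal.Quotient.mk IB (φ a)) = 0
            rw [Ideal.Quotient.eq_zero_iff_mem, ← hφbar]
            apply Ideal.mem_map_of_mem
            by_contra hn
            have hu : IsUnit (Ideal.Quotient.mk IA a) :=
              (IsLocalRing.notMem_maximalIdeal).mp hn
            have hu' : IsUnit a := by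
              by_contra hna
              exact hna (isUnit_of_map_unit (Ideal.Quotient.mk IA) a hu)
            exact ((IsLocalRing.mem_maximalIdeal _).mp ha) hu'
          rw [this]
          exact Ideal.zero_mem _
        have hprime : ((P.asIdeal.comap π).comap φ).IsPrime :=
          Ideal.comap_isPrime φ _
        exact ((inferInstance : (maximalIdeal A).IsMaximal).eq_of_le hprime.ne_top hle).symm
      refine ⟨fun P Q => ?_⟩
      apply PrimeSpectrum.ext
      rw [← Ideal.map_comap_of_surjective π hπ P.asIdeal,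
        ← Ideal.map_comap_of_surjective π hπ Q.asIdeal, key P, key Q]
    exact Order.krullDim_nonpos_of_subsingleton
  calc ringKrullDim (B ⧸ IB) ≤ ringKrullDim (A ⧸ IA) +
        ringKrullDim ((B ⧸ IB) ⧸ (maximalIdeal (A ⧸ IA)).map φbar) := h1
    _ ≤ ringKrullDim (A ⧸ IA) + 0 := add_le_add le_rfl h2
    _ = ringKrullDim (A ⧸ IA) := add_zero _

/-- Over every point of the image there is a point which has no proper generization in its
fibre. -/
theorem exists_max_point_over {X' X : Scheme.{u}} (g : X' ⟶ X) (y'' : X') :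
    ∃ y' : X', g y' = g y'' ∧ ∀ z' : X', z' ⤳ y' → g z' = g y' → z' = y' := by
  set φ := (g.stalkMap y'').hom with hφdef
  have hIle : (maximalIdeal (X.presheaf.stalk (g y''))).map φ ≤
      maximalIdeal (X'.presheaf.stalk y'') :=
    ((IsLocalRing.local_hom_TFAE φ).out 0 2).mp (inferInstance : IsLocalHom (g.stalkMap y'').hom)
  obtain ⟨q, hq, hqle⟩ := Ideal.exists_minimalPrimes_le hIle
  haveI hqprime : q.IsPrime := hq.1.1
  have hIq : (maximalIdeal (X.presheaf.stalk (g y''))).map φ ≤ q := hq.1.2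
  -- primes over the maximal ideal
  have comap_eq : ∀ p : Ideal (X'.presheaf.stalk y''), p.IsPrime →
      (maximalIdeal (X.presheaf.stalk (g y''))).map φ ≤ p →
      p.comap φ = maximalIdeal (X.presheaf.stalk (g y'')) := by
    intro p hp hle
    haveI := hp
    exact ((inferInstance : (maximalIdeal (X.presheaf.stalk (g y''))).IsMaximal).eq_of_le
      (Ideal.comap_isPrime φ p).ne_top (Ideal.map_le_iff_le_comap.mp hle)).symm
  -- image of a prime under `g`
  have himg : ∀ Q : Spec (X'.presheaf.stalk y''),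
      g ((X'.fromSpecStalk y'') Q) = (X.fromSpecStalk (g y'')) (Spec.map (g.stalkMap y'') Q) := by
    intro Q
    have h1 : (Spec.map (g.stalkMap y'') ≫ X.fromSpecStalk (g y'')) Q =
        (X'.fromSpecStalk y'' ≫ g) Q := by
      rw [Scheme.SpecMap_stalkMap_fromSpecStalk]
    rw [Scheme.Hom.comp_apply, Scheme.Hom.comp_apply] at h1
    exact h1.symm
  let Q : Spec (X'.presheaf.stalk y'') := ⟨q, hqprime⟩
  have hQ : Spec.map (g.stalkMap y'') Q = closedPoint (X.presheaf.stalk (g y'')) :=
    PrimeSpectrum.ext (comap_eq q hqprime hIq)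
  have hgy' : g ((X'.fromSpecStalk y'') Q) = g y'' := by
    rw [himg, hQ, Scheme.fromSpecStalk_closedPoint]
  refine ⟨(X'.fromSpecStalk y'') Q, hgy', ?_⟩
  intro z' hz' hgz'
  have hy'y'' : (X'.fromSpecStalk y'') Q ⤳ y'' := by
    have : (X'.fromSpecStalk y'') Q ∈ Set.range (X'.fromSpecStalk y'') := ⟨Q, rfl⟩
    rw [Scheme.range_fromSpecStalk] at this
    exact this
  have hz'r : z' ∈ Set.range (X'.fromSpecStalk y'') := by
    rw [Scheme.range_fromSpecStalk]; exact hz'.trans hy'y''
  obtain ⟨Q', rfl⟩ := hz'r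
  have hle : Q'.asIdeal ≤ q :=
    (PrimeSpectrum.le_iff_specializes Q' Q).mpr
      ((X'.fromSpecStalk y'').isEmbedding.isInducing.specializes_iff.mp hz')
  have hQ' : Spec.map (g.stalkMap y'') Q' = closedPoint (X.presheaf.stalk (g y'')) := by
    apply (X.fromSpecStalk (g y'')).isEmbedding.injective
    rw [← himg, hgz', hgy', Scheme.fromSpecStalk_closedPoint]
  have hIQ' : (maximalIdeal (X.presheaf.stalk (g y''))).map φ ≤ Q'.asIdeal := by
    rw [Ideal.map_le_iff_le_comap]
    exact (congrArg PrimeSpectrum.asIdeal hQ').ge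
  have hge : q ≤ Q'.asIdeal := hq.2 ⟨Q'.isPrime, hIQ'⟩ hle
  have : Q' = Q := PrimeSpectrum.ext (le_antisymm hle hge)
  rw [this]

/-- The relative codimension inequality. -/
theorem codim_le {X X' S : Scheme.{u}} [IsLocallyNoetherian X] [IsLocallyNoetherian X']
    [IsLocallyNoetherian S] (f : X ⟶ S) (g : X' ⟶ X) [Surjective g] (Y : Set X) :
    (⨅ y' : (fun x' => g x') ⁻¹' Y, ringKrullDim (CInt.fiberStalk (g ≫ f) y'.1)) ≤
      ⨅ y : Y, ringKrullDim (CInt.fiberStalk f y.1) := by
  refine le_iInf fun y => ?_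
  obtain ⟨y, hyY⟩ := y
  obtain ⟨y'', rfl⟩ := g.surjective y
  obtain ⟨y', hy', hmax⟩ := exists_max_point_over g y''
  have hmem : y' ∈ (fun x' => g x') ⁻¹' Y := by
    show g y' ∈ Y
    rw [hy']; exact hyY
  refine (iInf_le _ ⟨y', hmem⟩).trans ?_
  show ringKrullDim (CInt.fiberStalk (g ≫ f) y') ≤ ringKrullDim (CInt.fiberStalk f (g y''))
  rw [← hy']
  rw [ringKrullDim_eq_of_ringEquiv (fiberStalkEquiv (g ≫ f) y'),
    ringKrullDim_eq_of_ringEquiv (fiberStalkEquiv f (g y'))]
  have hcomp : ((g ≫ f).stalkMap y').hom =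
      (g.stalkMap y').hom.comp (f.stalkMap (g y')).hom := by
    rw [Scheme.Hom.stalkMap_comp]
    rfl
  have key := ringKrullDim_quot_le (f.stalkMap (g y')).hom (g.stalkMap y').hom
    (fun p hp hpm => OpenDim.eq_maximalIdeal_of_comap_eq g y' hmax p hp hpm)
  rw [← hcomp] at key
  exact key

end Groth.Agent.Lib.Helper22.RelCodim
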