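import Mathlib
import Groth.Prelude.Def_CInt
import Groth.Agent.Lib.Helper6.FiberStalkIso
import Groth.Agent.Lib.Helper3.Reduced
import Groth.Agent.Lib.Helper14.GeomRedAt

/-!
# Helper22: relative codimension versus absolute codimension for a closed subscheme flat over
the base
-/

set_option autoImplicit false
set_option linter.style.haveILetI false
set_option linter.unusedVariables false
universe u

open CategoryTheory CategoryTheory.Limits AlgebraicGeometry TopologicalSpace Opposite IsLocalRing

namespace Groth.Agent.Lib.Helper22.RelCodim2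

open Groth.Agent.Lib.Helper6

/-- `A → B ↠ C` local, `C` flat over `A`: some prime of `C` pulls back to a prime of `B` of height
at most `dim B/𝔪_A B`. -/
theorem exists_prime_height_le {A B C : Type u} [CommRing A] [CommRing B] [CommRing C]
    [IsLocalRing A] [IsLocalRing B] [IsLocalRing C] [IsNoetherianRing A] [IsNoetherianRing B]
    [IsNoetherianRing C] (φ : A →+* B) (π : B →+* C) [IsLocalHom φ] [IsLocalHom π]
    (hπ : Function.Surjective π) (hflat : (π.comp φ).Flat) :
    ∃ Q : Ideal C, ∃ _ : Q.IsPrime,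
      ((Q.comap π).height : WithBot ℕ∞) ≤ ringKrullDim (B ⧸ (maximalIdeal A).map φ) := by
  letI algAB : Algebra A B := φ.toAlgebra
  letI algAC : Algebra A C := (π.comp φ).toAlgebra
  haveI : Module.Flat A C := hflat
  have hcmB : (maximalIdeal B).comap φ = maximalIdeal A :=
    ((IsLocalRing.local_hom_TFAE φ).out 0 4).mp ‹IsLocalHom φ›
  haveI loB : (maximalIdeal B).LiesOver (maximalIdeal A) := ⟨hcmB.symm⟩
  haveI hloc : IsLocalHom (π.comp φ) := RingHom.isLocalHom_comp π φ
  have hcmC : (maximalIdeal C).comap (π.comp φ) = maximalIdeal A :=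
    ((IsLocalRing.local_hom_TFAE (π.comp φ)).out 0 4).mp hloc
  haveI loC : (maximalIdeal C).LiesOver (maximalIdeal A) := ⟨hcmC.symm⟩
  obtain ⟨lC, hlC, hlenC⟩ := (maximalIdeal C).exists_ltSeries_length_eq_height
  let l' : LTSeries (PrimeSpectrum B) :=
    lC.map (PrimeSpectrum.comap π) (RingHom.strictMono_comap_of_surjective hπ)
  haveI hP : (lC.head.asIdeal.comap π).IsPrime := Ideal.comap_isPrime π lC.head.asIdeal
  obtain ⟨lP, hlP, hlenP⟩ := (lC.head.asIdeal.comap π).exists_ltSeries_length_eq_height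
  have hhead : lP.last = l'.head := by
    rw [hlP]
    simp only [l', LTSeries.head_map]
    rfl
  have hsm : (lP.smash l' hhead).length = lP.length + lC.length := by simp [l']
  have h1 : ((lP.smash l' hhead).length : WithBot ℕ∞) ≤ ringKrullDim B :=
    Order.LTSeries.length_le_krullDim _
  rw [hsm, ← IsLocalRing.maximalIdeal_height_eq_ringKrullDim] at h1
  have h1' : (lC.head.asIdeal.comap π).height + (maximalIdeal C).height ≤
      (maximalIdeal B).height := by
    rw [← hlenP, ← hlenC]
    exact_mod_cast h1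
  have h2 := Ideal.height_le_height_add_of_liesOver (maximalIdeal A) (maximalIdeal B)
  have h3 := Ideal.height_eq_height_add_of_liesOver_of_hasGoingDown (maximalIdeal A)
    (maximalIdeal C)
  have h3' : (maximalIdeal A).height ≤ (maximalIdeal C).height := by
    rw [h3]; exact le_self_add
  have hCfin : (maximalIdeal C).height ≠ ⊤ :=
    Ideal.height_ne_top (Ideal.IsPrime.ne_top inferInstance)
  have h4 : (lC.head.asIdeal.comap π).height ≤
      ((maximalIdeal B).map (Ideal.Quotient.mk ((maximalIdeal A).map (algebraMap A B)))).height := by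
    have h5 : (lC.head.asIdeal.comap π).height + (maximalIdeal C).height ≤
        ((maximalIdeal B).map
          (Ideal.Quotient.mk ((maximalIdeal A).map (algebraMap A B)))).height +
          (maximalIdeal C).height := by
      calc _ ≤ (maximalIdeal B).height := h1'
        _ ≤ _ := h2
        _ ≤ _ := by rw [add_comm]; gcongr
    exact (ENat.add_le_add_iff_right hCfin).mp h5
  have hIle : (maximalIdeal A).map (algebraMap A B) ≤ maximalIdeal B :=
    ((IsLocalRing.local_hom_TFAE φ).out 0 2).mp ‹IsLocalHom φ›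
  have hne : (maximalIdeal B).map
      (Ideal.Quotient.mk ((maximalIdeal A).map (algebraMap A B))) ≠ ⊤ := by
    intro htop
    have h1m : (1 : B ⧸ (maximalIdeal A).map (algebraMap A B)) ∈ (maximalIdeal B).map
        (Ideal.Quotient.mk ((maximalIdeal A).map (algebraMap A B))) := by
      rw [htop]; trivial
    obtain ⟨b, hb, hb1⟩ := (Ideal.mem_map_iff_of_surjective _ Ideal.Quotient.mk_surjective).mp h1m
    have hb2 : b - 1 ∈ (maximalIdeal A).map (algebraMap A B) := by
      rw [← Ideal.Quotient.eq_zero_iff_mem, map_sub, hb1, map_one, sub_self]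
    have : (1 : B) ∈ maximalIdeal B := by
      have := (maximalIdeal B).sub_mem hb (hIle hb2)
      simpa using this
    exact (Ideal.ne_top_iff_one _).mp (Ideal.IsPrime.ne_top inferInstance) this
  refine ⟨lC.head.asIdeal, lC.head.isPrime, ?_⟩
  calc ((lC.head.asIdeal.comap π).height : WithBot ℕ∞)
      ≤ (((maximalIdeal B).map
          (Ideal.Quotient.mk ((maximalIdeal A).map (algebraMap A B)))).height : WithBot ℕ∞) := by
        exact_mod_cast h4
    _ ≤ ringKrullDim (B ⧸ (maximalIdeal A).map (algebraMap A B)) :=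
        Ideal.height_le_ringKrullDim_of_ne_top hne

/-- The local ring at the image of a prime of `𝒪_{X,y}` has dimension the height of that prime. -/
theorem ringKrullDim_stalk_fromSpecStalk (X : Scheme.{u}) (y : X)
    (Q : Spec (X.presheaf.stalk y)) :
    ringKrullDim (X.presheaf.stalk ((X.fromSpecStalk y) Q)) = (Q.asIdeal.height : WithBot ℕ∞) := by
  haveI := Groth.Agent.Lib.Helper3.flat_fromSpecStalk X y
  have hbij := Groth.Agent.Lib.Helper14.GeomRedAt.stalkMap_bijective_of_flat_of_surjectiveOnStalks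
    (X.fromSpecStalk y) Q
  rw [ringKrullDim_eq_of_ringEquiv (RingEquiv.ofBijective _ hbij)]
  letI : Algebra (X.presheaf.stalk y) ((Spec (X.presheaf.stalk y)).presheaf.stalk Q) :=
    StructureSheaf.stalkAlgebra _ Q
  haveI : IsLocalization.AtPrime ((Spec (X.presheaf.stalk y)).presheaf.stalk Q) Q.asIdeal :=
    StructureSheaf.IsLocalization.to_stalk _ Q
  exact IsLocalization.AtPrime.ringKrullDim_eq_height Q.asIdeal _

/-- For a closed subscheme `Y ⊆ X` flat over `S`, the codimension of `Y` relative to `X → S` equals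
its codimension in `X`. -/
theorem iInf_fiberStalk_eq {X Y S : Scheme.{u}} [IsLocallyNoetherian X] [IsLocallyNoetherian S]
    (f : X ⟶ S) (i : Y ⟶ X) [IsClosedImmersion i] [Flat (i ≫ f)] :
    (⨅ y : Set.range i.base, ringKrullDim ↑(CInt.fiberStalk f y.1)) =
      ⨅ y : Set.range i.base, ringKrullDim ↑(X.presheaf.stalk y.1) := by
  haveI : IsLocallyNoetherian Y := LocallyOfFiniteType.isLocallyNoetherian i
  apply le_antisymm
  · refine iInf_mono fun y => ?_
    rw [ringKrullDim_eq_of_ringEquiv (fiberStalkEquiv f y.1)]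
    exact ringKrullDim_quotient_le _
  · refine le_iInf fun y => ?_
    obtain ⟨y, y₀, rfl⟩ := y
    have hcomp : ((i ≫ f).stalkMap y₀).hom =
        (i.stalkMap y₀).hom.comp (f.stalkMap (i y₀)).hom := by
      rw [Scheme.Hom.stalkMap_comp]
      rfl
    have hflat : ((i.stalkMap y₀).hom.comp (f.stalkMap (i y₀)).hom).Flat := by
      rw [← hcomp]
      exact Flat.stalkMap (i ≫ f) y₀
    obtain ⟨Q₀, hQ₀, hht⟩ := exists_prime_height_le (f.stalkMap (i y₀)).hom (i.stalkMap y₀).hom
      (i.stalkMap_surjective y₀) hflat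
    have himg : i ((Y.fromSpecStalk y₀) ⟨Q₀, hQ₀⟩) =
        (X.fromSpecStalk (i y₀)) (Spec.map (i.stalkMap y₀) ⟨Q₀, hQ₀⟩) := by
      have h1 : (Spec.map (i.stalkMap y₀) ≫ X.fromSpecStalk (i y₀)) ⟨Q₀, hQ₀⟩ =
          (Y.fromSpecStalk y₀ ≫ i) ⟨Q₀, hQ₀⟩ := by
        rw [Scheme.SpecMap_stalkMap_fromSpecStalk]
      rw [Scheme.Hom.comp_apply, Scheme.Hom.comp_apply] at h1
      exact h1.symm
    refine (iInf_le _ ⟨i ((Y.fromSpecStalk y₀) ⟨Q₀, hQ₀⟩), ⟨_, rfl⟩⟩).trans ?_
    show ringKrullDim (X.presheaf.stalk (i ((Y.fromSpecStalk y₀) ⟨Q₀, hQ₀⟩))) ≤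
      ringKrullDim (CInt.fiberStalk f (i y₀))
    rw [himg, ringKrullDim_stalk_fromSpecStalk,
      ringKrullDim_eq_of_ringEquiv (fiberStalkEquiv f (i y₀))]
    exact hht

end Groth.Agent.Lib.Helper22.RelCodim2
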