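import Mathlib
import Groth.Prelude.Def_RegImm
import Groth.Prelude.Def_Flat
import Groth.Agent.Lib.Helper22.SyntBC

/-!
# Descent of relative global complete intersections to finite type `ℤ`-subalgebras (helper22)

* `psi`: the canonical map `R₀[x]/(F₀) → R'[x]/(F₀)` for an `R₀`-algebra `R'`, and
  `topFibreDim_psi`: it preserves fibre dimensions.
* `exists_finset_descent`: if `R'[x]/(F₀)` is a relative global complete intersection, there is a
  finite set of polynomials over `R'` such that every intermediate ring `R₀ → R₁ ⊆ R'` over which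
  they are defined makes `R₁[x]/(F₀)` a relative global complete intersection.
* `main`: statement S9148.
-/

set_option autoImplicit false
set_option maxHeartbeats 400000
set_option linter.style.haveILetI false
set_option linter.unusedSectionVars false
universe u

open TensorProduct MvPolynomial AlgebraicGeometry CategoryTheory Groth.Agent.Lib.Helper12

namespace Groth.Agent.Lib.Helper22.RelGCIDescent

open Groth.Agent.Lib.Helper24 Groth.Agent.Lib.Helper22.SyntBC

section Pres

variable (R : Type u) [CommRing R] (n m : ℕ) (J : Fin m → MvPolynomial (Fin n) R)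
  (κ : Type u) [CommRing κ] [Algebra R κ]

theorem phiT_map (y : MvPolynomial (Fin n) R) :
    phiT R n m J κ (map (algebraMap R κ) y) =
      (1 : κ) ⊗ₜ[R] (Ideal.Quotient.mk (Ideal.span (Set.range J)) y) := by
  unfold phiT
  rw [aeval_map_algebraMap κ]
  have h : (MvPolynomial.aeval (R := R)
      ((Algebra.Presentation.naive (v := J)).baseChange κ).val) =
      (Algebra.TensorProduct.includeRight :
        Synt.RelGCIRing R n m J →ₐ[R] κ ⊗[R] Synt.RelGCIRing R n m J).comp
        (Ideal.Quotient.mkₐ R (Ideal.span (Set.range J))) := by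
    apply MvPolynomial.algHom_ext
    intro i
    rw [aeval_X]
    rfl
  rw [h]
  rfl

theorem bcEquiv_mk (z : MvPolynomial (Fin n) κ) :
    bcEquiv R n m J κ (Ideal.Quotient.mk _ z) = phiT R n m J κ z := rfl

end Pres

section Crit

/-- A presentation all of whose points have fibre dimension at most `n - c` is a relative global
complete intersection (given `c ≤ n`). -/
theorem isRelGCI_of_forall_topFibreDim_le (R : Type u) [CommRing R] (n c : ℕ) (hcn : c ≤ n)
    (F : Fin c → MvPolynomial (Fin n) R)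
    (hall : ∀ q : PrimeSpectrum (Synt.RelGCIRing R n c F),
      TopFibreDim.topFibreDim (PrimeSpectrum.comap (algebraMap R (Synt.RelGCIRing R n c F))) q ≤
        ((n - c : ℕ) : WithBot ℕ∞)) :
    Synt.IsRelGCI R n c F := by
  intro p' hnt
  refine ⟨hcn, ?_⟩
  apply le_antisymm
  · refine DimFT2.ringKrullDim_le_of_minimalPrimes
      (B := p'.asIdeal.Fiber (Synt.RelGCIRing R n c F)) _ (fun P hP hPp => ?_)
    exact (RelGCIAway.dim_quot_le_localDim p'.asIdeal.ResidueField _ ⟨P, hPp⟩).trans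
      (RelGCIAway.localDim_le_of_topFibreDim_le R _ _ hall p' ⟨P, hPp⟩)
  · obtain ⟨P, hP⟩ := RelGCIAway.exists_mem_minimalPrimes
      (p'.asIdeal.Fiber (Synt.RelGCIRing R n c F))
    have h1 := RelGCIAway.fibre_dim_quot_ge R n c F p'.asIdeal.ResidueField AlgEquiv.refl P hP
    exact h1.trans (ringKrullDim_quotient_le P)

/-- If the presented algebra is nontrivial and a relative global complete intersection then
`c ≤ n`. -/
theorem le_of_isRelGCI_of_nontrivial (R : Type u) [CommRing R] (n c : ℕ)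
    (F : Fin c → MvPolynomial (Fin n) R) (h : Synt.IsRelGCI R n c F)
    [Nontrivial (Synt.RelGCIRing R n c F)] : c ≤ n := by
  obtain ⟨x⟩ := (PrimeSpectrum.nonempty_iff_nontrivial (R := Synt.RelGCIRing R n c F)).mpr
    inferInstance
  have hnt₀ : Nontrivial ((PrimeSpectrum.comap (algebraMap R (Synt.RelGCIRing R n c F))
      x).asIdeal.Fiber (Synt.RelGCIRing R n c F)) :=
    (PrimeSpectrum.preimageHomeomorphFiber R (Synt.RelGCIRing R n c F)
      (PrimeSpectrum.comap (algebraMap R (Synt.RelGCIRing R n c F)) x) ⟨x, rfl⟩).nontrivial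
  exact (h _ hnt₀).1

end Crit

section Core

variable (R₀ : Type u) [CommRing R₀] (n c : ℕ) (F₀ : Fin c → MvPolynomial (Fin n) R₀)

/-- the canonical map `R₀[x]/(F₀) → R'[x]/(F₀)` -/
noncomputable def psi (R' : Type u) [CommRing R'] [Algebra R₀ R'] :
    Synt.RelGCIRing R₀ n c F₀ →+*
      Synt.RelGCIRing R' n c (fun j => map (algebraMap R₀ R') (F₀ j)) :=
  ((bcEquiv R₀ n c F₀ R').symm.toRingEquiv : R' ⊗[R₀] Synt.RelGCIRing R₀ n c F₀ →+*
      Synt.RelGCIRing R' n c (fun j => map (algebraMap R₀ R') (F₀ j))).comp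
    (Algebra.TensorProduct.includeRight :
      Synt.RelGCIRing R₀ n c F₀ →ₐ[R₀] R' ⊗[R₀] Synt.RelGCIRing R₀ n c F₀).toRingHom

theorem psi_mk (R' : Type u) [CommRing R'] [Algebra R₀ R'] (y : MvPolynomial (Fin n) R₀) :
    psi R₀ n c F₀ R' (Ideal.Quotient.mk _ y) =
      Ideal.Quotient.mk _ (map (algebraMap R₀ R') y) := by
  show (bcEquiv R₀ n c F₀ R').symm ((1 : R') ⊗ₜ[R₀] (Ideal.Quotient.mk _ y)) = _
  rw [AlgEquiv.symm_apply_eq, bcEquiv_mk, phiT_map]

theorem topFibreDim_psi (R' : Type u) [CommRing R'] [Algebra R₀ R']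
    (q' : PrimeSpectrum (Synt.RelGCIRing R' n c (fun j => map (algebraMap R₀ R') (F₀ j)))) :
    TopFibreDim.topFibreDim (PrimeSpectrum.comap (algebraMap R'
        (Synt.RelGCIRing R' n c (fun j => map (algebraMap R₀ R') (F₀ j))))) q' =
      TopFibreDim.topFibreDim (PrimeSpectrum.comap (algebraMap R₀ (Synt.RelGCIRing R₀ n c F₀)))
        (PrimeSpectrum.comap (psi R₀ n c F₀ R') q') := by
  rw [topFibreDim_algEquiv (A := R' ⊗[R₀] Synt.RelGCIRing R₀ n c F₀)
    (B := Synt.RelGCIRing R' n c (fun j => map (algebraMap R₀ R') (F₀ j)))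
    (bcEquiv R₀ n c F₀ R').symm q', topFibreDim_baseChange]
  rfl

/-- the ideal of the locus of `Spec R₀[x]/(F₀)` where the fibre dimension exceeds `n - c` -/
noncomputable def badIdeal : Ideal (Synt.RelGCIRing R₀ n c F₀) :=
  PrimeSpectrum.vanishingIdeal {q | ¬ TopFibreDim.topFibreDim
    (PrimeSpectrum.comap (algebraMap R₀ (Synt.RelGCIRing R₀ n c F₀))) q ≤
      ((n - c : ℕ) : WithBot ℕ∞)}

theorem le_of_not_badIdeal_le (q : PrimeSpectrum (Synt.RelGCIRing R₀ n c F₀))
    (hq : ¬ badIdeal R₀ n c F₀ ≤ q.asIdeal) :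
    TopFibreDim.topFibreDim (PrimeSpectrum.comap (algebraMap R₀ (Synt.RelGCIRing R₀ n c F₀))) q ≤
      ((n - c : ℕ) : WithBot ℕ∞) := by
  by_contra hbad
  apply hq
  intro a ha
  exact (PrimeSpectrum.mem_vanishingIdeal _ a).mp ha q hbad

theorem not_le_of_badIdeal_le (q : PrimeSpectrum (Synt.RelGCIRing R₀ n c F₀))
    (hq : badIdeal R₀ n c F₀ ≤ q.asIdeal) :
    ¬ TopFibreDim.topFibreDim (PrimeSpectrum.comap (algebraMap R₀ (Synt.RelGCIRing R₀ n c F₀))) q ≤
      ((n - c : ℕ) : WithBot ℕ∞) := by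
  have hopen := FibreLocDim.isOpen_set R₀ (Synt.RelGCIRing R₀ n c F₀) (n - c)
  have hcl : IsClosed {q : PrimeSpectrum (Synt.RelGCIRing R₀ n c F₀) |
      ¬ TopFibreDim.topFibreDim
        (PrimeSpectrum.comap (algebraMap R₀ (Synt.RelGCIRing R₀ n c F₀))) q ≤
          ((n - c : ℕ) : WithBot ℕ∞)} := hopen.isClosed_compl
  have h1 : q ∈ PrimeSpectrum.zeroLocus (badIdeal R₀ n c F₀ : Set (Synt.RelGCIRing R₀ n c F₀)) :=
    hq
  rw [badIdeal, PrimeSpectrum.zeroLocus_vanishingIdeal_eq_closure, hcl.closure_eq] at h1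
  exact h1

theorem map_psi_badIdeal_eq_top (R : Type u) [CommRing R] [Algebra R₀ R]
    (h : Synt.IsRelGCI R n c (fun j => map (algebraMap R₀ R) (F₀ j))) :
    Ideal.map (psi R₀ n c F₀ R) (badIdeal R₀ n c F₀) = ⊤ := by
  by_contra hne
  obtain ⟨m, hm, hle⟩ := Ideal.exists_le_maximal _ hne
  obtain ⟨x, hx⟩ : ∃ x : PrimeSpectrum (Synt.RelGCIRing R n c
      (fun j => map (algebraMap R₀ R) (F₀ j))), x = ⟨m, hm.isPrime⟩ := ⟨_, rfl⟩
  have h1 : badIdeal R₀ n c F₀ ≤ (PrimeSpectrum.comap (psi R₀ n c F₀ R) x).asIdeal := by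
    intro a ha
    show psi R₀ n c F₀ R a ∈ x.asIdeal
    rw [hx]
    exact hle (Ideal.mem_map_of_mem _ ha)
  apply not_le_of_badIdeal_le R₀ n c F₀ _ h1
  rw [← topFibreDim_psi R₀ n c F₀ R x, RelGCIDim.topFibreDim_eq R n c _ h x]

end Core

section Descent

variable (R₀ R : Type u) [CommRing R₀] [CommRing R] [Algebra R₀ R] (n c : ℕ)
  (F₀ : Fin c → MvPolynomial (Fin n) R₀)

theorem exists_finset_descent
    (h : Synt.IsRelGCI R n c (fun j => map (algebraMap R₀ R) (F₀ j))) :
    ∃ S : Finset (MvPolynomial (Fin n) R), ∀ (R₁ : Type u) [CommRing R₁] [Algebra R₀ R₁]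
      [Algebra R₁ R] [IsScalarTower R₀ R₁ R],
      Function.Injective (algebraMap R₁ R) →
      (∀ τ ∈ S, τ ∈ Set.range (map (algebraMap R₁ R) :
        MvPolynomial (Fin n) R₁ → MvPolynomial (Fin n) R)) →
      Synt.IsRelGCI R₁ n c (fun j => map (algebraMap R₀ R₁) (F₀ j)) := by
  classical
  by_cases hT : Subsingleton (Synt.RelGCIRing R n c (fun j => map (algebraMap R₀ R) (F₀ j)))
  · -- the presented algebra is zero
    have h1 : (1 : MvPolynomial (Fin n) R) ∈
        Ideal.span (Set.range (fun j => map (algebraMap R₀ R) (F₀ j))) := by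
      rw [← Ideal.Quotient.eq_zero_iff_mem]
      exact Subsingleton.elim _ _
    obtain ⟨σ, hσ⟩ := Ideal.mem_span_range_iff_exists_fun.mp h1
    refine ⟨Finset.univ.image σ, ?_⟩
    intro R₁ _ _ _ _ hinj hS
    have hσ' : ∀ j, ∃ σ' : MvPolynomial (Fin n) R₁, map (algebraMap R₁ R) σ' = σ j := fun j =>
      hS _ (Finset.mem_image_of_mem _ (Finset.mem_univ j))
    choose σ' hσ' using hσ'
    have hone : ∑ j, σ' j * map (algebraMap R₀ R₁) (F₀ j) = 1 := by
      apply MvPolynomial.map_injective _ hinj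
      rw [map_sum, map_one, ← hσ]
      refine Finset.sum_congr rfl (fun j _ => ?_)
      rw [map_mul, hσ', MvPolynomial.map_map, ← IsScalarTower.algebraMap_eq]
    have htop : Ideal.span (Set.range (fun j => map (algebraMap R₀ R₁) (F₀ j))) = ⊤ := by
      rw [Ideal.eq_top_iff_one, ← hone]
      exact Ideal.sum_mem _ (fun j _ => Ideal.mul_mem_left _ _ (Ideal.subset_span ⟨j, rfl⟩))
    haveI : Subsingleton (Synt.RelGCIRing R₁ n c (fun j => map (algebraMap R₀ R₁) (F₀ j))) :=
      Ideal.Quotient.subsingleton_iff.mpr htop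
    intro p' hnt
    exfalso
    haveI := hnt
    have h0 : ∀ x : p'.asIdeal.Fiber
        (Synt.RelGCIRing R₁ n c (fun j => map (algebraMap R₀ R₁) (F₀ j))), x = 0 := by
      intro x
      induction x using TensorProduct.induction_on with
      | zero => rfl
      | tmul a b =>
        rw [Subsingleton.elim b 0]
        exact TensorProduct.tmul_zero _ _
      | add a b ha hb =>
        rw [ha, hb]
        exact add_zero _
    have hsub : Subsingleton (p'.asIdeal.Fiber
        (Synt.RelGCIRing R₁ n c (fun j => map (algebraMap R₀ R₁) (F₀ j)))) :=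
      ⟨fun a b => by rw [h0 a, h0 b]⟩
    exact not_subsingleton_iff_nontrivial.mpr hnt hsub
  · rw [not_subsingleton_iff_nontrivial] at hT
    haveI := hT
    have hcn : c ≤ n := le_of_isRelGCI_of_nontrivial R n c _ h
    have htop := map_psi_badIdeal_eq_top R₀ n c F₀ R h
    have hker : ∀ y : MvPolynomial (Fin n) R₀,
        (Ideal.Quotient.mk (Ideal.span (Set.range (fun j => map (algebraMap R₀ R) (F₀ j)))))
          (map (algebraMap R₀ R) y) =
        psi R₀ n c F₀ R (Ideal.Quotient.mk (Ideal.span (Set.range F₀)) y) := fun y =>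
      (psi_mk R₀ n c F₀ R y).symm
    have hK : Ideal.map (map (algebraMap R₀ R) : MvPolynomial (Fin n) R₀ →+* MvPolynomial (Fin n) R)
        ((badIdeal R₀ n c F₀).comap (Ideal.Quotient.mk (Ideal.span (Set.range F₀)))) = ⊤ := by
      rw [Ideal.eq_top_iff_one]
      have h1 : (1 : Synt.RelGCIRing R n c (fun j => map (algebraMap R₀ R) (F₀ j))) ∈
          Ideal.map (psi R₀ n c F₀ R) (badIdeal R₀ n c F₀) := by
        rw [htop]; exact Submodule.mem_top
      have h2 : Ideal.map (psi R₀ n c F₀ R) (badIdeal R₀ n c F₀) =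
          Ideal.map (Ideal.Quotient.mk
            (Ideal.span (Set.range (fun j => map (algebraMap R₀ R) (F₀ j)))))
            (Ideal.map (map (algebraMap R₀ R) :
              MvPolynomial (Fin n) R₀ →+* MvPolynomial (Fin n) R)
              ((badIdeal R₀ n c F₀).comap (Ideal.Quotient.mk (Ideal.span (Set.range F₀))))) := by
        rw [Ideal.map_map]
        have h3 : (Ideal.Quotient.mk
            (Ideal.span (Set.range (fun j => map (algebraMap R₀ R) (F₀ j))))).comp
            (map (algebraMap R₀ R) : MvPolynomial (Fin n) R₀ →+* MvPolynomial (Fin n) R) =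
            (psi R₀ n c F₀ R).comp (Ideal.Quotient.mk (Ideal.span (Set.range F₀))) :=
          RingHom.ext hker
        rw [h3, ← Ideal.map_map, Ideal.map_comap_of_surjective _ Ideal.Quotient.mk_surjective]
      rw [h2] at h1
      obtain ⟨k, hk, hk1⟩ := (Ideal.mem_map_iff_of_surjective _ Ideal.Quotient.mk_surjective).mp h1
      have h4 : (1 : MvPolynomial (Fin n) R) - k ∈
          Ideal.span (Set.range (fun j => map (algebraMap R₀ R) (F₀ j))) := by
        rw [← Ideal.Quotient.eq_zero_iff_mem, map_sub, map_one, hk1, sub_self]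
      have h5 : Ideal.span (Set.range (fun j => map (algebraMap R₀ R) (F₀ j))) ≤
          Ideal.map (map (algebraMap R₀ R) :
            MvPolynomial (Fin n) R₀ →+* MvPolynomial (Fin n) R)
            ((badIdeal R₀ n c F₀).comap (Ideal.Quotient.mk (Ideal.span (Set.range F₀)))) := by
        rw [Ideal.span_le]
        rintro _ ⟨j, rfl⟩
        apply Ideal.mem_map_of_mem
        rw [Ideal.mem_comap, Ideal.Quotient.eq_zero_iff_mem.mpr
          (Ideal.subset_span (Set.mem_range_self j))]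
        exact Ideal.zero_mem _
      have h6 : (1 : MvPolynomial (Fin n) R) = (1 - k) + k := by ring
      rw [h6]
      exact Ideal.add_mem _ (h5 h4) hk
    rw [Ideal.map, Ideal.eq_top_iff_one] at hK
    obtain ⟨f, t, hts, -, hsum⟩ := Submodule.mem_span_iff_exists_finset_subset.mp hK
    have hα : ∀ a ∈ t, ∃ α : MvPolynomial (Fin n) R₀,
        Ideal.Quotient.mk (Ideal.span (Set.range F₀)) α ∈ badIdeal R₀ n c F₀ ∧
          map (algebraMap R₀ R) α = a := by
      intro a ha
      obtain ⟨α, hα1, hα2⟩ := hts ha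
      exact ⟨α, hα1, hα2⟩
    choose! α hαJ hαa using hα
    refine ⟨t.image f, ?_⟩
    intro R₁ _ _ _ _ hinj hS
    have hf' : ∀ a ∈ t, ∃ f' : MvPolynomial (Fin n) R₁, map (algebraMap R₁ R) f' = f a :=
      fun a ha => hS _ (Finset.mem_image_of_mem _ ha)
    choose! f' hf' using hf'
    have hone : ∑ a ∈ t, f' a * map (algebraMap R₀ R₁) (α a) = 1 := by
      apply MvPolynomial.map_injective _ hinj
      rw [map_sum, map_one, ← hsum]
      refine Finset.sum_congr rfl (fun a ha => ?_)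
      rw [map_mul, hf' a ha, MvPolynomial.map_map, ← IsScalarTower.algebraMap_eq, hαa a ha,
        smul_eq_mul]
    have htop₁ : Ideal.map (psi R₀ n c F₀ R₁) (badIdeal R₀ n c F₀) = ⊤ := by
      rw [Ideal.eq_top_iff_one]
      have h7 : (1 : Synt.RelGCIRing R₁ n c (fun j => map (algebraMap R₀ R₁) (F₀ j))) =
          ∑ a ∈ t, Ideal.Quotient.mk _ (f' a) *
            psi R₀ n c F₀ R₁ (Ideal.Quotient.mk (Ideal.span (Set.range F₀)) (α a)) := by
        rw [← map_one (Ideal.Quotient.mk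
          (Ideal.span (Set.range (fun j => map (algebraMap R₀ R₁) (F₀ j))))), ← hone, map_sum]
        refine Finset.sum_congr rfl (fun a _ => ?_)
        rw [map_mul, psi_mk]
      rw [h7]
      exact Ideal.sum_mem _ (fun a ha =>
        Ideal.mul_mem_left _ _ (Ideal.mem_map_of_mem _ (hαJ a ha)))
    have hall : ∀ q₁ : PrimeSpectrum (Synt.RelGCIRing R₁ n c
        (fun j => map (algebraMap R₀ R₁) (F₀ j))),
        TopFibreDim.topFibreDim (PrimeSpectrum.comap (algebraMap R₁
          (Synt.RelGCIRing R₁ n c (fun j => map (algebraMap R₀ R₁) (F₀ j))))) q₁ ≤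
          ((n - c : ℕ) : WithBot ℕ∞) := by
      intro q₁
      rw [topFibreDim_psi R₀ n c F₀ R₁ q₁]
      apply le_of_not_badIdeal_le
      intro hle
      have h2 : Ideal.map (psi R₀ n c F₀ R₁) (badIdeal R₀ n c F₀) ≤ q₁.asIdeal :=
        Ideal.map_le_iff_le_comap.mpr hle
      rw [htop₁] at h2
      exact q₁.isPrime.ne_top (top_le_iff.mp h2)
    exact isRelGCI_of_forall_topFibreDim_le R₁ n c hcn _ hall

end Descent

section Main

/-- S9148: a relative global complete intersection descends to a finite type `ℤ`-subalgebra. -/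
theorem main (R : Type u) [CommRing R] (n c : ℕ)
    (F : Fin c → MvPolynomial (Fin n) R) (h : Synt.IsRelGCI R n c F) :
    ∃ (R₀ : Subalgebra ℤ R) (F₀ : Fin c → MvPolynomial (Fin n) R₀), Algebra.FiniteType ℤ R₀ ∧
      (∀ i, MvPolynomial.map (algebraMap R₀ R) (F₀ i) = F i) ∧ Synt.IsRelGCI R₀ n c F₀ := by
  classical
  obtain ⟨E₀, hE₀⟩ : ∃ E₀ : Finset R, E₀ = Finset.univ.biUnion (fun j => (F j).coeffs) :=
    ⟨_, rfl⟩
  have hlift₀ : ∀ j, ∃ p : MvPolynomial (Fin n) (Algebra.adjoin ℤ (E₀ : Set R)),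
      map (algebraMap (Algebra.adjoin ℤ (E₀ : Set R)) R) p = F j := by
    intro j
    apply MvPolynomial.mem_range_map_iff_coeffs_subset.2
    intro a ha
    have haE : a ∈ E₀ := by
      rw [hE₀]
      simp only [Finset.mem_biUnion, Finset.mem_univ, true_and]
      exact ⟨j, ha⟩
    exact ⟨⟨a, Algebra.subset_adjoin haE⟩, rfl⟩
  choose G₀ hG₀ using hlift₀
  have h' : Synt.IsRelGCI R n c
      (fun j => map (algebraMap (Algebra.adjoin ℤ (E₀ : Set R)) R) (G₀ j)) := by
    have : (fun j => map (algebraMap (Algebra.adjoin ℤ (E₀ : Set R)) R) (G₀ j)) = F :=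
      funext hG₀
    rw [this]
    exact h
  obtain ⟨S, hS⟩ := exists_finset_descent (Algebra.adjoin ℤ (E₀ : Set R)) R n c G₀ h'
  obtain ⟨E₁, hE₁⟩ : ∃ E₁ : Finset R, E₁ = E₀ ∪ S.biUnion (fun τ => τ.coeffs) := ⟨_, rfl⟩
  have hle : Algebra.adjoin ℤ (E₀ : Set R) ≤ Algebra.adjoin ℤ (E₁ : Set R) := by
    apply Algebra.adjoin_mono
    rw [hE₁]
    intro x hx
    exact Finset.mem_union_left _ hx
  letI : Algebra (Algebra.adjoin ℤ (E₀ : Set R)) (Algebra.adjoin ℤ (E₁ : Set R)) :=
    (Subalgebra.inclusion hle).toRingHom.toAlgebra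
  haveI : IsScalarTower (Algebra.adjoin ℤ (E₀ : Set R)) (Algebra.adjoin ℤ (E₁ : Set R)) R :=
    IsScalarTower.of_algebraMap_eq (fun x => rfl)
  have hinj : Function.Injective (algebraMap (Algebra.adjoin ℤ (E₁ : Set R)) R) :=
    Subtype.val_injective
  have hSl : ∀ τ ∈ S, τ ∈ Set.range (map (algebraMap (Algebra.adjoin ℤ (E₁ : Set R)) R) :
      MvPolynomial (Fin n) (Algebra.adjoin ℤ (E₁ : Set R)) → MvPolynomial (Fin n) R) := by
    intro τ hτ
    apply MvPolynomial.mem_range_map_iff_coeffs_subset.2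
    intro a ha
    have haE : a ∈ E₁ := by
      rw [hE₁]
      apply Finset.mem_union_right
      simp only [Finset.mem_biUnion]
      exact ⟨τ, hτ, ha⟩
    exact ⟨⟨a, Algebra.subset_adjoin haE⟩, rfl⟩
  have hrel := hS (Algebra.adjoin ℤ (E₁ : Set R)) hinj hSl
  refine ⟨Algebra.adjoin ℤ (E₁ : Set R), fun j => map (algebraMap (Algebra.adjoin ℤ (E₀ : Set R))
    (Algebra.adjoin ℤ (E₁ : Set R))) (G₀ j), ?_, ?_, hrel⟩
  · exact (Subalgebra.fg_iff_finiteType _).mp (Subalgebra.fg_adjoin_finset E₁)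
  · intro i
    rw [MvPolynomial.map_map, ← IsScalarTower.algebraMap_eq, hG₀]

end Main

section Sch

attribute [local instance] Algebra.TensorProduct.rightAlgebra

open Limits

theorem isPullback_psi (R₀ R : Type u) [CommRing R₀] [CommRing R] [Algebra R₀ R] (n c : ℕ)
    (F₀ : Fin c → MvPolynomial (Fin n) R₀) :
    IsPullback (Spec.map (CommRingCat.ofHom (psi R₀ n c F₀ R)))
      (Spec.map (CommRingCat.ofHom (algebraMap R
        (Synt.RelGCIRing R n c (fun j => map (algebraMap R₀ R) (F₀ j))))))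
      (Spec.map (CommRingCat.ofHom (algebraMap R₀ (Synt.RelGCIRing R₀ n c F₀))))
      (Spec.map (CommRingCat.ofHom (algebraMap R₀ R))) := by
  letI : Algebra (Synt.RelGCIRing R₀ n c F₀)
      (Synt.RelGCIRing R n c (fun j => map (algebraMap R₀ R) (F₀ j))) :=
    (psi R₀ n c F₀ R).toAlgebra
  haveI : IsScalarTower R₀ (Synt.RelGCIRing R₀ n c F₀)
      (Synt.RelGCIRing R n c (fun j => map (algebraMap R₀ R) (F₀ j))) := by
    refine IsScalarTower.of_algebraMap_eq (R := R₀) (S := Synt.RelGCIRing R₀ n c F₀)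
      (A := Synt.RelGCIRing R n c (fun j => map (algebraMap R₀ R) (F₀ j))) (fun r => ?_)
    show _ = psi R₀ n c F₀ R (Ideal.Quotient.mk _ (C r))
    rw [psi_mk, map_C]
    rfl
  have hpo : Algebra.IsPushout R₀ R (Synt.RelGCIRing R₀ n c F₀)
      (Synt.RelGCIRing R n c (fun j => map (algebraMap R₀ R) (F₀ j))) :=
    Algebra.IsPushout.of_equiv (R := R₀) (R' := R) (S := Synt.RelGCIRing R₀ n c F₀)
      (S' := R ⊗[R₀] Synt.RelGCIRing R₀ n c F₀) (bcEquiv R₀ n c F₀ R).symm rfl
  haveI : Algebra.IsPushout R₀ (Synt.RelGCIRing R₀ n c F₀) R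
      (Synt.RelGCIRing R n c (fun j => map (algebraMap R₀ R) (F₀ j))) := hpo.symm
  exact isPullback_SpecMap_of_isPushout _ _ _ _
    (CommRingCat.isPushout_of_isPushout R₀ (Synt.RelGCIRing R₀ n c F₀) R
      (Synt.RelGCIRing R n c (fun j => map (algebraMap R₀ R) (F₀ j))))

/-- S9736: a standard syntomic morphism of affine schemes is a base change of a standard syntomic
morphism of finite type over a finite type `ℤ`-algebra. -/
theorem main9736 {X S : Scheme.{u}} (f : X ⟶ S) (hf : Synt.IsStandardSyntomic f) :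
    ∃ (X₀ S₀ : Scheme.{u}) (f₀ : X₀ ⟶ S₀) (g : S ⟶ S₀) (g' : X ⟶ X₀), IsAffine X₀ ∧
      IsAffine S₀ ∧ IsPullback g' f f₀ g ∧
      Algebra.FiniteType ℤ Γ(S₀, ⊤) ∧ LocallyOfFiniteType f₀ ∧ Synt.IsStandardSyntomic f₀ := by
  obtain ⟨R, _, n, c, F, hrel, e₁, e₂, hcomm⟩ := hf
  obtain ⟨R₀, F₀, hft, hF, hrel₀⟩ := main R n c F hrel
  obtain rfl : F = fun i => map (algebraMap R₀ R) (F₀ i) := funext (fun i => (hF i).symm)
  refine ⟨Spec (CommRingCat.of (Synt.RelGCIRing R₀ n c F₀)), Spec (CommRingCat.of R₀),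
    Spec.map (CommRingCat.ofHom (algebraMap R₀ (Synt.RelGCIRing R₀ n c F₀))),
    e₂.hom ≫ Spec.map (CommRingCat.ofHom (algebraMap R₀ R)),
    e₁.hom ≫ Spec.map (CommRingCat.ofHom (psi R₀ n c F₀ R)), inferInstance, inferInstance,
    ?_, ?_, ?_, ?_⟩
  · refine (isPullback_psi R₀ R n c F₀).of_iso e₁.symm (Iso.refl _) e₂.symm (Iso.refl _)
      (by simp) ?_ (by simp) (by simp)
    rw [Iso.symm_hom, Iso.symm_hom, Iso.eq_inv_comp, ← Category.assoc, hcomm, Category.assoc,
      Iso.hom_inv_id, Category.comp_id]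
  · exact Algebra.FiniteType.equiv hft
      (Scheme.ΓSpecIso (.of R₀)).symm.commRingCatIsoToRingEquiv.toIntAlgEquiv
  · rw [HasRingHomProperty.Spec_iff (P := @LocallyOfFiniteType)]
    exact RingHom.finiteType_algebraMap.2 inferInstance
  · exact ⟨R₀, inferInstance, n, c, F₀, hrel₀, Iso.refl _, Iso.refl _, by simp⟩

end Sch

end Groth.Agent.Lib.Helper22.RelGCIDescent
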