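/-
Helper22 library: a relative global complete intersection is, locally, presented by a regular
sequence in a polynomial ring (after adjoining an inverse).
-/
import Mathlib
import Groth.Prelude.Def_RegImm
import Groth.Agent.Lib.Helper22.RelGCIReg
import Groth.Agent.Lib.Helper24.SyntRelGCI

set_option autoImplicit false
universe u
open RingTheory.Sequence
open scoped Pointwise

namespace Groth.Agent.Lib.Helper22.RelGCIRegSeq

/-- `c X - 1` is a non-zero-divisor in `R[X]`. -/
theorem isSMulRegular_C_mul_X_sub_one {R : Type u} [CommRing R] (c : R) :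
    IsSMulRegular (Polynomial R) (Polynomial.C c * Polynomial.X - 1) := by
  intro p₁ p₂ h
  have h0 : (Polynomial.C c * Polynomial.X - 1) * p₁ = (Polynomial.C c * Polynomial.X - 1) * p₂ := h
  have h' : (Polynomial.C c * Polynomial.X - 1) * (p₁ - p₂) = 0 := by
    rw [mul_sub, h0, sub_self]
  rw [← sub_eq_zero]
  obtain ⟨d, hd⟩ : ∃ d, d = p₁ - p₂ := ⟨_, rfl⟩
  rw [← hd] at h' ⊢
  have h2 : Polynomial.C c * (Polynomial.X * d) = d := by linear_combination h'
  have key : ∀ k, d.coeff k = 0 := by
    intro k
    induction k with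
    | zero =>
      have := congrArg (fun p => Polynomial.coeff p 0) h2
      simp only [Polynomial.coeff_C_mul, Polynomial.coeff_X_mul_zero, mul_zero] at this
      exact this.symm
    | succ k ih =>
      have := congrArg (fun p => Polynomial.coeff p (k + 1)) h2
      simp only [Polynomial.coeff_C_mul, Polynomial.coeff_X_mul, ih, mul_zero] at this
      exact this.symm
  exact Polynomial.ext fun k => by rw [key k, Polynomial.coeff_zero]

/-- a sequence regular in `R[1/c₀]` gives a regular sequence `c₀ X - 1, rs` in `R[X]`. -/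
theorem isRegular_cons_of_away {R : Type u} [CommRing R] (c₀ : R) (rs : List R)
    (hreg : IsRegular (Localization.Away c₀) (rs.map (algebraMap R (Localization.Away c₀)))) :
    IsRegular (Polynomial R) ((Polynomial.C c₀ * Polynomial.X - 1) :: rs.map Polynomial.C) := by
  rw [isRegular_cons_iff]
  refine ⟨isSMulRegular_C_mul_X_sub_one c₀, ?_⟩
  have hsm : ((Polynomial.C c₀ * Polynomial.X - 1) •
      (⊤ : Submodule (Polynomial R) (Polynomial R)) : Submodule (Polynomial R) (Polynomial R)) =
      (Ideal.span {Polynomial.C c₀ * Polynomial.X - 1} : Ideal (Polynomial R)) := by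
    rw [← Submodule.ideal_span_singleton_smul]
    exact Ideal.mul_top _
  let e₀ : QuotSMulTop (Polynomial.C c₀ * Polynomial.X - 1) (Polynomial R) ≃ₗ[Polynomial R]
      (Polynomial R ⧸ (Ideal.span {Polynomial.C c₀ * Polynomial.X - 1} : Ideal (Polynomial R))) :=
    Submodule.quotEquivOfEq _ _ hsm
  let e : QuotSMulTop (Polynomial.C c₀ * Polynomial.X - 1) (Polynomial R) ≃+
      Localization.Away c₀ :=
    e₀.toAddEquiv.trans (Localization.awayEquivAdjoin c₀).symm.toAddEquiv
  have he : ∀ (t : Polynomial R)
      (x : QuotSMulTop (Polynomial.C c₀ * Polynomial.X - 1) (Polynomial R)),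
      e (t • x) = (Localization.awayEquivAdjoin c₀).symm
        (AdjoinRoot.mk (Polynomial.C c₀ * Polynomial.X - 1) t) * e x := by
    intro t x
    obtain ⟨t', rfl⟩ := Submodule.Quotient.mk_surjective _ x
    rw [← Submodule.Quotient.mk_smul]
    show (Localization.awayEquivAdjoin c₀).symm
        (AdjoinRoot.mk (Polynomial.C c₀ * Polynomial.X - 1) (t * t')) =
      (Localization.awayEquivAdjoin c₀).symm
        (AdjoinRoot.mk (Polynomial.C c₀ * Polynomial.X - 1) t) *
      (Localization.awayEquivAdjoin c₀).symm
        (AdjoinRoot.mk (Polynomial.C c₀ * Polynomial.X - 1) t')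
    rw [map_mul, map_mul]
  refine (AddEquiv.isRegular_congr (e := e) ?_).mpr hreg
  rw [List.forall₂_map_right_iff, List.forall₂_map_left_iff]
  refine List.forall₂_same.mpr fun r _ x => ?_
  rw [he, smul_eq_mul]
  congr 1
  rw [AdjoinRoot.mk_C, ← AdjoinRoot.algebraMap_eq, AlgEquiv.commutes]

open MvPolynomial in
/-- **A relative global complete intersection is locally presented by a regular sequence.** -/
theorem exists_regular_presentation (A : Type u) [CommRing A] (n c : ℕ)
    (F : Fin c → MvPolynomial (Fin n) A) (hF : Synt.IsRelGCI A n c F)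
    (Q₁ : Ideal (Synt.RelGCIRing A n c F)) [Q₁.IsPrime] :
    ∃ h : Synt.RelGCIRing A n c F, h ∉ Q₁ ∧
      ∃ P' : Fin (c + 1) → MvPolynomial (Fin (n + 1)) A,
        IsRegular (MvPolynomial (Fin (n + 1)) A) (List.ofFn P') ∧
        Nonempty (Localization.Away h ≃ₐ[A]
          (MvPolynomial (Fin (n + 1)) A ⧸ Ideal.ofList (List.ofFn P'))) := by
  haveI hQp : (Q₁.comap (Ideal.Quotient.mk (Ideal.span (Set.range F)))).IsPrime :=
    Ideal.IsPrime.comap _
  have hJQ : Ideal.span (Set.range F) ≤
      Q₁.comap (Ideal.Quotient.mk (Ideal.span (Set.range F))) := by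
    intro x hx
    rw [Ideal.mem_comap, Ideal.Quotient.eq_zero_iff_mem.mpr hx]
    exact Q₁.zero_mem
  have hgs : ∀ i, F i ∈ Q₁.comap (Ideal.Quotient.mk (Ideal.span (Set.range F))) :=
    fun i => hJQ (Ideal.subset_span ⟨i, rfl⟩)
  obtain ⟨c₀, hc₀, hw, -⟩ := Groth.Agent.Lib.Helper22.RelGCIReg.exists_away F _ hgs
    (Groth.Agent.Lib.Helper22.RelGCIReg.fibre_hreg A n c F hF _ hJQ)
  refine ⟨Ideal.Quotient.mk _ c₀, hc₀, ?_⟩
  have hofList : ∀ {m : ℕ} (f : Fin m → MvPolynomial (Fin (n + 1)) A),
      Ideal.ofList (List.ofFn f) = Ideal.span (Set.range f) := by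
    intro m f
    unfold Ideal.ofList
    congr 1
    ext x
    simp [List.mem_ofFn]
  refine ⟨Fin.cons (rename Fin.castSucc c₀ * X (Fin.last n) - 1)
    (fun i => rename Fin.castSucc (F i)), ?_, ?_⟩
  · let Φ : MvPolynomial (Fin (n + 1)) A ≃ₐ[A] Polynomial (MvPolynomial (Fin n) A) :=
      (MvPolynomial.renameEquiv A finSuccEquivLast).trans (MvPolynomial.optionEquivLeft A (Fin n))
    have hΦren : ∀ p : MvPolynomial (Fin n) A, Φ (rename Fin.castSucc p) = Polynomial.C p := by
      intro p
      have h1 : (Φ : MvPolynomial (Fin (n + 1)) A →ₐ[A] _).comp (rename Fin.castSucc) =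
          IsScalarTower.toAlgHom A (MvPolynomial (Fin n) A)
            (Polynomial (MvPolynomial (Fin n) A)) := by
        apply MvPolynomial.algHom_ext
        intro i
        simp [Φ, MvPolynomial.optionEquivLeft_X_some, finSuccEquivLast_castSucc]
      have h2 := AlgHom.congr_fun h1 p
      simpa using h2
    have hΦX : Φ (X (Fin.last n)) = Polynomial.X := by
      simp [Φ, MvPolynomial.optionEquivLeft_X_none, finSuccEquivLast_last]
    have hΦg : Φ (rename Fin.castSucc c₀ * X (Fin.last n) - 1) =
        Polynomial.C c₀ * Polynomial.X - 1 := by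
      rw [map_sub, map_mul, map_one, hΦren, hΦX]
    have hlist : (List.ofFn (Fin.cons (rename Fin.castSucc c₀ * X (Fin.last n) - 1)
        (fun i => rename Fin.castSucc (F i)) : Fin (c + 1) → MvPolynomial (Fin (n + 1)) A)).map Φ =
        (Polynomial.C c₀ * Polynomial.X - 1) :: (List.ofFn F).map Polynomial.C := by
      rw [List.ofFn_succ]
      simp only [Fin.cons_zero, Fin.cons_succ, List.map_cons, hΦg, List.map_ofFn]
      congr 2
      funext i
      exact hΦren (F i)
    refine (AddEquiv.isRegular_congr (e := Φ.toAddEquiv)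
      (bs := (List.ofFn (Fin.cons (rename Fin.castSucc c₀ * X (Fin.last n) - 1)
        (fun i => rename Fin.castSucc (F i)) :
          Fin (c + 1) → MvPolynomial (Fin (n + 1)) A)).map Φ) ?_).mpr ?_
    · rw [List.forall₂_map_right_iff]
      exact List.forall₂_same.mpr fun r _ x => map_mul Φ r x
    · rw [hlist]
      apply isRegular_cons_of_away
      refine ⟨?_, ?_⟩
      · rw [List.map_ofFn]
        exact hw
      · intro htop
        have h1 : Ideal.ofList ((List.ofFn F).map
            (algebraMap (MvPolynomial (Fin n) A) (Localization.Away c₀))) ≤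
            (Q₁.comap (Ideal.Quotient.mk (Ideal.span (Set.range F)))).map
              (algebraMap (MvPolynomial (Fin n) A) (Localization.Away c₀)) := by
          unfold Ideal.ofList
          rw [Ideal.span_le]
          intro y hy
          obtain ⟨x, hx, rfl⟩ := List.mem_map.mp hy
          obtain ⟨i, rfl⟩ := (List.mem_ofFn).mp hx
          exact Ideal.mem_map_of_mem _ (hgs i)
        have h3 : Ideal.ofList ((List.ofFn F).map
            (algebraMap (MvPolynomial (Fin n) A) (Localization.Away c₀))) •
            (⊤ : Submodule (Localization.Away c₀) (Localization.Away c₀)) =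
            Ideal.ofList ((List.ofFn F).map
              (algebraMap (MvPolynomial (Fin n) A) (Localization.Away c₀))) := Ideal.mul_top _
        rw [h3] at htop
        exact Groth.Agent.Lib.Helper22.RelGCIReg.map_away_ne_top _ c₀ hc₀
          (top_le_iff.mp (htop ▸ h1))
  · obtain ⟨e⟩ := Groth.Agent.Lib.Helper24.RelGCIAway.exists_awayEquiv n c F c₀
    refine ⟨e.trans (Ideal.quotientEquivAlgOfEq A ?_)⟩
    rw [hofList]
    congr 1
    ext x
    constructor
    · rintro ⟨i, rfl⟩
      induction i using Fin.lastCases with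
      | last => exact ⟨0, by simp⟩
      | cast i => exact ⟨i.succ, by simp⟩
    · rintro ⟨i, rfl⟩
      induction i using Fin.cases with
      | zero => exact ⟨Fin.last c, by simp⟩
      | succ i => exact ⟨i.castSucc, by simp⟩

/-- localizing an algebra isomorphic to a localization `B_g` at an element not in a given prime is
again a basic localization of `B`. -/
theorem exists_away_equiv {A B B₁ : Type u} [CommRing A] [CommRing B] [CommRing B₁] [Algebra A B]
    [Algebra A B₁] (g : B) (e₁ : Localization.Away g ≃ₐ[A] B₁) (q : Ideal B) [hq : q.IsPrime]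
    (hg : g ∉ q) :
    ∃ (Q₁ : Ideal B₁) (_ : Q₁.IsPrime), ∀ h₁ : B₁, h₁ ∉ Q₁ →
      ∃ b : B, b ∉ q ∧ Nonempty (Localization.Away b ≃ₐ[A] Localization.Away h₁) := by
  have hdisj : Disjoint (Submonoid.powers g : Set B) (q : Set B) := by
    rw [Set.disjoint_left]
    rintro x ⟨k, rfl⟩ hx
    exact hg (hq.mem_of_pow_mem k hx)
  haveI hQ' : (q.map (algebraMap B (Localization.Away g))).IsPrime :=
    IsLocalization.isPrime_of_isPrime_disjoint (Submonoid.powers g) _ q hq hdisj
  refine ⟨(q.map (algebraMap B (Localization.Away g))).comap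
    (e₁.symm : B₁ →+* Localization.Away g), Ideal.IsPrime.comap _, ?_⟩
  intro h₁ hh₁
  have hh' : e₁.symm h₁ ∉ q.map (algebraMap B (Localization.Away g)) := hh₁
  have hassoc : Associated (algebraMap B (Localization.Away g)
      (IsLocalization.Away.sec g (e₁.symm h₁)).1) (e₁.symm h₁) :=
    IsLocalization.Away.associated_sec_fst g (e₁.symm h₁)
  have hz : (IsLocalization.Away.sec g (e₁.symm h₁)).1 ∉ q := by
    intro hzq
    apply hh'
    obtain ⟨u, hu⟩ := hassoc
    rw [← hu]
    exact Ideal.mul_mem_right _ _ (Ideal.mem_map_of_mem _ hzq)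
  refine ⟨g * (IsLocalization.Away.sec g (e₁.symm h₁)).1,
    fun hmem => (hq.mem_or_mem hmem).elim hg hz, ?_⟩
  letI algST : Algebra (Localization.Away g) (Localization.Away h₁) :=
    ((algebraMap B₁ (Localization.Away h₁)).comp
      (e₁.symm.toRingEquiv).symm.toRingHom).toAlgebra
  letI algBT : Algebra B (Localization.Away h₁) :=
    ((algebraMap (Localization.Away g) (Localization.Away h₁)).comp
      (algebraMap B (Localization.Away g))).toAlgebra
  haveI : IsScalarTower B (Localization.Away g) (Localization.Away h₁) :=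
    IsScalarTower.of_algebraMap_eq fun _ => rfl
  haveI : IsLocalization.Away (e₁.symm h₁) (Localization.Away h₁) := by
    have h0 := IsLocalization.isLocalization_of_base_ringEquiv (Submonoid.powers h₁)
      (Localization.Away h₁) (e₁.symm.toRingEquiv)
    rw [Submonoid.map_powers] at h0
    exact h0
  haveI : IsLocalization.Away (g * (IsLocalization.Away.sec g (e₁.symm h₁)).1)
      (Localization.Away h₁) :=
    IsLocalization.Away.mul_of_associated g _ (e₁.symm h₁) hassoc
  haveI : IsScalarTower A B (Localization.Away h₁) := by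
    refine IsScalarTower.of_algebraMap_eq fun a => ?_
    show algebraMap A (Localization.Away h₁) a = algebraMap B₁ (Localization.Away h₁)
      (e₁ (algebraMap B (Localization.Away g) (algebraMap A B a)))
    rw [← IsScalarTower.algebraMap_apply A B (Localization.Away g), e₁.commutes,
      ← IsScalarTower.algebraMap_apply A B₁ (Localization.Away h₁)]
  exact ⟨(IsLocalization.algEquiv
    (Submonoid.powers (g * (IsLocalization.Away.sec g (e₁.symm h₁)).1))
    (Localization.Away (g * (IsLocalization.Away.sec g (e₁.symm h₁)).1))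
    (Localization.Away h₁)).restrictScalars A⟩

end Groth.Agent.Lib.Helper22.RelGCIRegSeq
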