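import Mathlib

/-!
# The Hilbert function of the Stanley–Reisner ring of the order complex of a finite poset
-/

namespace Groth.Agent.Lib.Helper22.SRHilb

open MvPolynomial

universe u v

variable (K : Type u) [Field K] (L : Type v) [PartialOrder L]

/-- the face ideal of the order complex. -/
noncomputable def srI : Ideal (MvPolynomial L K) :=
  Ideal.span {f : MvPolynomial L K | ∃ a b : L, ¬ a ≤ b ∧ ¬ b ≤ a ∧ f = X a * X b}

/-- the exponents of the generators. -/
def gens : Set (L →₀ ℕ) :=
  {s | ∃ a b : L, ¬ a ≤ b ∧ ¬ b ≤ a ∧ s = Finsupp.single a 1 + Finsupp.single b 1}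

lemma srI_eq : srI K L = Ideal.span ((fun s => monomial s (1 : K)) '' gens L) := by
  unfold srI
  congr 1
  ext f
  constructor
  · rintro ⟨a, b, h1, h2, rfl⟩
    refine ⟨_, ⟨a, b, h1, h2, rfl⟩, ?_⟩
    simp only [MvPolynomial.X, MvPolynomial.monomial_mul, mul_one]
  · rintro ⟨s, ⟨a, b, h1, h2, rfl⟩, rfl⟩
    refine ⟨a, b, h1, h2, ?_⟩
    simp only [MvPolynomial.X, MvPolynomial.monomial_mul, mul_one]

variable {L}

lemma not_isChain_of_gen_le {s₀ s : L →₀ ℕ} (h₀ : s₀ ∈ gens L) (hle : s₀ ≤ s) :
    ¬ IsChain (· ≤ ·) (s.support : Set L) := by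
  classical
  obtain ⟨a, b, h1, h2, rfl⟩ := h₀
  intro hch
  have hane : a ≠ b := fun h => h1 (h ▸ le_rfl)
  have ha : a ∈ s.support := by
    rw [Finsupp.mem_support_iff]
    have := hle a
    simp only [Finsupp.coe_add, Pi.add_apply, Finsupp.single_eq_same] at this
    omega
  have hb : b ∈ s.support := by
    rw [Finsupp.mem_support_iff]
    have := hle b
    simp only [Finsupp.coe_add, Pi.add_apply, Finsupp.single_eq_same] at this
    omega
  rcases hch (Finset.mem_coe.2 ha) (Finset.mem_coe.2 hb) hane with h | h
  · exact h1 h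
  · exact h2 h

lemma exists_gen_le_of_not_isChain {s : L →₀ ℕ} (h : ¬ IsChain (· ≤ ·) (s.support : Set L)) :
    ∃ s₀ ∈ gens L, s₀ ≤ s := by
  classical
  unfold IsChain Set.Pairwise at h
  push Not at h
  obtain ⟨a, ha, b, hb, hab, h3⟩ := h
  refine ⟨_, ⟨a, b, h3.1, h3.2, rfl⟩, ?_⟩
  intro c
  simp only [Finsupp.coe_add, Pi.add_apply, Finsupp.single_apply]
  have ha' : 1 ≤ s a := Nat.one_le_iff_ne_zero.2 (Finsupp.mem_support_iff.1 (Finset.mem_coe.1 ha))
  have hb' : 1 ≤ s b := Nat.one_le_iff_ne_zero.2 (Finsupp.mem_support_iff.1 (Finset.mem_coe.1 hb))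
  by_cases h1 : a = c
  · by_cases h2 : b = c
    · exact absurd (h1.trans h2.symm) hab
    · rw [if_pos h1, if_neg h2, ← h1]; simpa using ha'
  · by_cases h2 : b = c
    · rw [if_neg h1, if_pos h2, ← h2]; simpa using hb'
    · rw [if_neg h1, if_neg h2]; simp

lemma monomial_mem_srI_of_not_isChain {s : L →₀ ℕ} (h : ¬ IsChain (· ≤ ·) (s.support : Set L)) :
    monomial s (1 : K) ∈ srI K L := by
  classical
  rw [srI_eq, MvPolynomial.mem_ideal_span_monomial_image]
  intro ν hν
  rw [MvPolynomial.support_monomial, if_neg one_ne_zero, Finset.mem_singleton] at hν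
  subst hν
  exact exists_gen_le_of_not_isChain h

/-- a combination of monomials with chain supports lying in the face ideal vanishes. -/
lemma eq_zero_of_mem_srI (F : MvPolynomial L K) (hF : F ∈ srI K L)
    (hsupp : ∀ ν ∈ F.support, IsChain (· ≤ ·) (ν.support : Set L)) : F = 0 := by
  classical
  rw [srI_eq, MvPolynomial.mem_ideal_span_monomial_image] at hF
  by_contra hne
  obtain ⟨ν, hν⟩ := (MvPolynomial.support_nonempty.2 hne).exists_mem
  obtain ⟨s₀, hs₀, hle⟩ := hF ν hν
  exact not_isChain_of_gen_le hs₀ hle (hsupp ν hν)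

section Finite

variable [Fintype L] [DecidableEq L]

/-- the exponents of degree `m` with chain support. -/
noncomputable def Mon (L : Type v) [PartialOrder L] [Fintype L] [DecidableEq L] (m : ℕ) :
    Finset (L →₀ ℕ) :=
  @Finset.filter _ (fun s => IsChain (· ≤ ·) (s.support : Set L)) (Classical.decPred _)
    ((Finset.univ : Finset L).finsuppAntidiag m)

lemma mem_Mon {m : ℕ} {s : L →₀ ℕ} :
    s ∈ Mon L m ↔ s.degree = m ∧ IsChain (· ≤ ·) (s.support : Set L) := by
  unfold Mon
  rw [@Finset.mem_filter _ _ (Classical.decPred _), Finset.mem_finsuppAntidiag,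
    Finsupp.degree_eq_sum]
  simp

/-- the classes of the chain monomials of degree `m`. -/
noncomputable def bM (m : ℕ) (s : Mon L m) : MvPolynomial L K ⧸ srI K L :=
  Ideal.Quotient.mk _ (monomial s.1 (1 : K))

theorem linearIndependent_bM (m : ℕ) : LinearIndependent K (bM K (L := L) m) := by
  classical
  rw [linearIndependent_iff']
  intro t a hsum
  set F : MvPolynomial L K := ∑ s ∈ t, a s • monomial s.1 (1 : K) with hF
  have hFmem : F ∈ srI K L := by
    rw [← Ideal.Quotient.eq_zero_iff_mem, hF, map_sum, ← hsum]
    refine Finset.sum_congr rfl (fun c _ => ?_)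
    exact map_smul (Ideal.Quotient.mkₐ K (srI K L)) _ _
  have hLI : LinearIndependent K (fun s : Mon L m => (monomial s.1 (1 : K) : MvPolynomial L K)) := by
    have := (MvPolynomial.basisMonomials L K).linearIndependent.comp
      (fun s : Mon L m => s.1) Subtype.val_injective
    rw [MvPolynomial.coe_basisMonomials] at this
    exact this
  have hF0 : F = 0 := by
    refine eq_zero_of_mem_srI K F hFmem (fun ν hν => ?_)
    have hcoeff : coeff ν F ≠ 0 := MvPolynomial.mem_support_iff.1 hν
    rw [hF, MvPolynomial.coeff_sum] at hcoeff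
    obtain ⟨s, _, hs⟩ := Finset.exists_ne_zero_of_sum_ne_zero hcoeff
    rw [MvPolynomial.coeff_smul, MvPolynomial.coeff_monomial] at hs
    have hsν : s.1 = ν := by
      by_contra h
      rw [if_neg h, smul_zero] at hs
      exact hs rfl
    rw [← hsν]
    exact (mem_Mon.1 s.2).2
  exact (linearIndependent_iff'.1 hLI) t a hF0

theorem map_homogeneous_eq_span (m : ℕ) :
    (MvPolynomial.homogeneousSubmodule L K m).map (Ideal.Quotient.mkₐ K (srI K L)).toLinearMap =
      Submodule.span K (Set.range (bM K (L := L) m)) := by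
  classical
  apply le_antisymm
  · rintro _ ⟨φ, hφ, rfl⟩
    have hφ' : φ.IsHomogeneous m := hφ
    rw [φ.as_sum, map_sum]
    refine Submodule.sum_mem _ (fun s hs => ?_)
    have hdeg : s.degree = m := by
      have := hφ' (MvPolynomial.mem_support_iff.1 hs)
      rwa [Finsupp.degree_eq_weight_one] 
    have hmon : (monomial s (coeff s φ) : MvPolynomial L K) = coeff s φ • monomial s (1 : K) := by
      rw [MvPolynomial.smul_monomial, smul_eq_mul, mul_one]
    rw [hmon, map_smul]
    refine Submodule.smul_mem _ _ ?_
    by_cases hch : IsChain (· ≤ ·) (s.support : Set L)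
    · exact Submodule.subset_span ⟨⟨s, mem_Mon.2 ⟨hdeg, hch⟩⟩, rfl⟩
    · have : (Ideal.Quotient.mkₐ K (srI K L)).toLinearMap (monomial s (1 : K)) = 0 :=
        Ideal.Quotient.eq_zero_iff_mem.2 (monomial_mem_srI_of_not_isChain K hch)
      rw [this]
      exact Submodule.zero_mem _
  · rw [Submodule.span_le]
    rintro _ ⟨s, rfl⟩
    refine ⟨monomial s.1 1, ?_, rfl⟩
    exact MvPolynomial.isHomogeneous_monomial (R := K) (d := s.1) (1 : K) (n := m)
      (mem_Mon.1 s.2).1

theorem finrank_eq_card (m : ℕ) :
    Module.finrank K ((MvPolynomial.homogeneousSubmodule L K m).map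
      (Ideal.Quotient.mkₐ K (srI K L)).toLinearMap) = (Mon L m).card := by
  rw [map_homogeneous_eq_span, finrank_span_eq_card (linearIndependent_bM K m), Fintype.card_coe]

/-- the indicator exponent of a finite set. -/
noncomputable def ind (C : Finset L) : L →₀ ℕ := Finsupp.indicator C (fun _ _ => 1)

omit [PartialOrder L] [Fintype L] in
lemma ind_apply (C : Finset L) (a : L) : ind C a = if a ∈ C then 1 else 0 := by
  unfold ind
  rw [Finsupp.indicator_apply]
  split_ifs <;> rfl

omit [PartialOrder L] [Fintype L] in
/-- exponents of total degree `m` with support exactly `C`. -/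
lemma card_support_eq (C : Finset L) (hC : C.Nonempty) (m : ℕ) (hm : 1 ≤ m) :
    ((C.finsuppAntidiag m).filter (fun s => s.support = C)).card =
      Nat.choose (m - 1) (C.card - 1) := by
  classical
  have hCpos : 1 ≤ C.card := Finset.card_pos.2 hC
  by_cases hle : C.card ≤ m
  · have himg : (C.finsuppAntidiag m).filter (fun s => s.support = C) =
        (C.finsuppAntidiag (m - C.card)).image (fun t => t + ind C) := by
      ext s
      rw [Finset.mem_filter, Finset.mem_finsuppAntidiag, Finset.mem_image]
      constructor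
      · rintro ⟨⟨hsum, _⟩, hsupp⟩
        have hind : ind C ≤ s := by
          intro a
          rw [ind_apply]
          split_ifs with ha
          · rw [← hsupp, Finsupp.mem_support_iff] at ha
            exact Nat.one_le_iff_ne_zero.2 ha
          · exact Nat.zero_le _
        refine ⟨s - ind C, ?_, tsub_add_cancel_of_le hind⟩
        rw [Finset.mem_finsuppAntidiag]
        constructor
        · have h1 : C.sum (⇑(s - ind C)) + C.card = m := by
            rw [← hsum, Finset.card_eq_sum_ones, ← Finset.sum_add_distrib]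
            refine Finset.sum_congr rfl (fun a ha => ?_)
            have := hind a
            rw [ind_apply, if_pos ha] at this
            rw [Finsupp.tsub_apply, ind_apply, if_pos ha]
            omega
          omega
        · intro a ha
          rw [Finsupp.mem_support_iff, Finsupp.tsub_apply] at ha
          rw [← hsupp, Finsupp.mem_support_iff]
          omega
      · rintro ⟨t, ht, rfl⟩
        rw [Finset.mem_finsuppAntidiag] at ht
        obtain ⟨htsum, htsupp⟩ := ht
        have hsupp : (t + ind C).support = C := by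
          ext a
          rw [Finsupp.mem_support_iff, Finsupp.add_apply, ind_apply]
          by_cases ha : a ∈ C
          · simp [ha]
          · have : t a = 0 := by
              by_contra h
              exact ha (htsupp (Finsupp.mem_support_iff.2 h))
            simp [ha, this]
        refine ⟨⟨?_, hsupp.le⟩, hsupp⟩
        have : C.sum (fun a => (t + ind C) a) = C.sum (fun a => t a) + C.card := by
          rw [Finset.card_eq_sum_ones, ← Finset.sum_add_distrib]
          refine Finset.sum_congr rfl (fun a ha => ?_)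
          rw [Finsupp.add_apply, ind_apply, if_pos ha]
        rw [this, htsum]
        omega
    rw [himg, Finset.card_image_of_injective _ (add_left_injective (ind C)),
      Finset.card_finsuppAntidiag_nat_eq_choose]
    have h1 : C.card + (m - C.card) - 1 = m - 1 := by omega
    rw [h1]
    have h2 : m - C.card = (m - 1) - (C.card - 1) := by omega
    rw [h2, Nat.choose_symm (by omega)]
  · have hempty : (C.finsuppAntidiag m).filter (fun s => s.support = C) = ∅ := by
      rw [Finset.filter_eq_empty_iff]
      intro s hs hsupp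
      rw [Finset.mem_finsuppAntidiag] at hs
      have : C.card ≤ m := by
        rw [← hs.1, Finset.card_eq_sum_ones]
        refine Finset.sum_le_sum (fun a ha => ?_)
        rw [← hsupp, Finsupp.mem_support_iff] at ha
        exact Nat.one_le_iff_ne_zero.2 ha
      exact hle this
    rw [hempty, Finset.card_empty, Nat.choose_eq_zero_of_lt (by omega)]

theorem card_Mon (m : ℕ) (hm : 1 ≤ m) :
    (Mon L m).card =
      ∑ᶠ C : {C : Finset L // C.Nonempty ∧ IsChain (fun a b : L => a ≤ b) (↑C : Set L)},
        Nat.choose (m - 1) (C.1.card - 1) := by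
  classical
  rw [finsum_eq_sum_of_fintype]
  rw [Finset.card_eq_sum_card_fiberwise (f := fun s : L →₀ ℕ => s.support)
    (t := (Finset.univ : Finset (Finset L))) (fun _ _ => Finset.mem_univ _)]
  rw [← Finset.sum_subtype ((Finset.univ : Finset (Finset L)).filter
    (fun C : Finset L => C.Nonempty ∧ IsChain (fun a b : L => a ≤ b) (↑C : Set L)))
    (by intro C; simp) (fun C : Finset L => Nat.choose (m - 1) (C.card - 1)), Finset.sum_filter]
  refine Finset.sum_congr rfl (fun C _ => ?_)
  have hfib : ∀ s : L →₀ ℕ, s.support = C → (s.degree = m ↔ C.sum s = m) := by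
    intro s hs
    rw [Finsupp.degree_eq_sum, ← hs]
    have : (Finset.univ : Finset L).sum s = s.support.sum s := by
      symm
      refine Finset.sum_subset (Finset.subset_univ _) (fun a _ ha => ?_)
      simpa using ha
    rw [this]
  split_ifs with hC
  · rw [← card_support_eq C hC.1 m hm]
    congr 1
    ext s
    simp only [Finset.mem_filter, mem_Mon, Finset.mem_finsuppAntidiag]
    constructor
    · rintro ⟨⟨hd, _⟩, hs⟩
      exact ⟨⟨(hfib s hs).1 hd, hs.le⟩, hs⟩
    · rintro ⟨⟨hd, _⟩, hs⟩
      refine ⟨⟨(hfib s hs).2 hd, ?_⟩, hs⟩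
      rw [hs]; exact hC.2
  · rw [Finset.card_eq_zero, Finset.filter_eq_empty_iff]
    intro s hs hsupp
    rw [mem_Mon] at hs
    apply hC
    refine ⟨?_, by rw [← hsupp]; exact hs.2⟩
    rw [Finset.nonempty_iff_ne_empty]
    intro h0
    rw [h0, Finsupp.support_eq_empty] at hsupp
    rw [hsupp] at hs
    have := hs.1
    simp at this
    omega

theorem finrank_eq_finsum (m : ℕ) (hm : 1 ≤ m) :
    Module.finrank K ((MvPolynomial.homogeneousSubmodule L K m).map
      (Ideal.Quotient.mkₐ K (srI K L)).toLinearMap) =
      ∑ᶠ C : {C : Finset L // C.Nonempty ∧ IsChain (fun a b : L => a ≤ b) (↑C : Set L)},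
        Nat.choose (m - 1) (C.1.card - 1) := by
  rw [finrank_eq_card, card_Mon m hm]

end Finite

end Groth.Agent.Lib.Helper22.SRHilb
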