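import Mathlib
import Groth.Agent.Lib.Helper22.Samuel17

/-!
# The degree of a homogeneous ideal is the sum over top-dimensional components
-/

set_option autoImplicit false
set_option linter.unusedSectionVars false

universe u

namespace Groth.Agent.Lib.Helper22.Samuel

open Groth.Agent.Lib.Helper22.HS Module PrimeSpectrum Order

variable {A : Type u} [CommRing A] [IsNoetherianRing A]

/-- the top-dimensional primes where `X` has nonzero length are minimal over the annihilator. -/
lemma mem_minimalPrimes_of_lenLoc_ne_zero {d : ℕ} (X : Type u) [AddCommGroup X] [Module A X]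
    [Module.Finite A X] (hX : supportDim A X ≤ (d : WithBot ℕ∞)) (p : PrimeSpectrum A)
    (hp : ringKrullDim (A ⧸ p.asIdeal) = d) (hne : lenLoc p X ≠ 0) :
    p.asIdeal ∈ (annihilator A X).minimalPrimes := by
  have hle : annihilator A X ≤ p.asIdeal := by
    by_contra hnle
    exact hne (lenLoc_eq_zero_of_not_le p X hnle)
  refine ⟨⟨p.2, hle⟩, fun q hq hqp => ?_⟩
  by_contra hnot
  have := hq.1
  exact not_lt_of_dim hX p hp q hq.2 (lt_of_le_of_ne hqp (fun h => hnot h.ge))

lemma fwdDiff_chi (I : Ideal A) [IsArtinianRing (A ⧸ I)] (M : Type u) [AddCommGroup M]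
    [Module A M] [Module.Finite A M] : fwdDiff 1 (chi I M) = hgr I M := by
  funext n
  rw [fwdDiff, chi_succ]
  ring

end Groth.Agent.Lib.Helper22.Samuel

namespace Groth.Agent.Lib.Helper22.GrSamuel

open Groth.Agent.Lib.Helper22.HS Groth.Agent.Lib.Helper22.Samuel Module MvPolynomial Filter Topology
open Polynomial

variable {k : Type u} [Field k] {N : ℕ}

attribute [local instance] MvPolynomial.gradedAlgebra

/-- minimal primes over a homogeneous ideal are homogeneous. -/
lemma isHomogeneous_of_mem_minimalPrimes {I q : Ideal (PR k N)}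
    (hI : I.IsHomogeneous (homogeneousSubmodule (Fin N) k)) (hq : q ∈ I.minimalPrimes) :
    q.IsHomogeneous (homogeneousSubmodule (Fin N) k) := by
  have hqp : q.IsPrime := hq.1.1
  have hcore := hqp.homogeneousCore (𝒜 := homogeneousSubmodule (Fin N) k)
  have h1 : I ≤ (q.homogeneousCore (homogeneousSubmodule (Fin N) k)).toIdeal :=
    hI.toIdeal_homogeneousCore_eq_self.symm.trans_le (Ideal.homogeneousCore_mono _ hq.1.2)
  have h2 := hq.2 ⟨hcore, h1⟩ (Ideal.toIdeal_homogeneousCore_le _ q)
  have h3 : (q.homogeneousCore (homogeneousSubmodule (Fin N) k)).toIdeal = q :=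
    le_antisymm (Ideal.toIdeal_homogeneousCore_le _ q) h2
  rw [← h3]
  exact (q.homogeneousCore (homogeneousSubmodule (Fin N) k)).isHomogeneous

lemma HF_nonneg (J : Ideal (PR k N)) (t : ℕ) : 0 ≤ HF J t := by
  simp only [HF]
  have : Module.finrank k ↥(Submodule.restrictScalars k J ⊓ homogeneousSubmodule (Fin N) k t) ≤
      Module.finrank k ↥(homogeneousSubmodule (Fin N) k t) :=
    Submodule.finrank_mono inf_le_right
  omega

/-- **The degree formula, integer form.** -/
theorem degree_formula_int (I : Ideal (PR k N))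
    (hIh : I.IsHomogeneous (homogeneousSubmodule (Fin N) k))
    (P : ℚ[X]) (hP : ∃ m₀ : ℕ, ∀ m : ℕ, m₀ ≤ m → P.eval (m : ℚ) = (HF I m : ℚ))
    (hdim : supportDim (PR k N) (PR k N ⧸ I) ≤ ((P.natDegree + 1 : ℕ) : WithBot ℕ∞))
    (r : ℕ) (p : Fin r → Ideal (PR k N)) [hp : ∀ i, (p i).IsPrime] (hpinj : Function.Injective p)
    (hpmin : ∀ q : Ideal (PR k N), q ∈ I.minimalPrimes ↔ ∃ i, q = p i)
    (Qp : Fin r → ℚ[X])
    (hQp : ∀ i, ∃ m₀ : ℕ, ∀ m : ℕ, m₀ ≤ m → (Qp i).eval (m : ℚ) = (HF (p i) m : ℚ)) :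
    ∃ (cI : ℤ) (c : Fin r → ℤ), (cI : ℚ) = (P.natDegree.factorial : ℚ) * P.leadingCoeff ∧
      (∀ i, (c i : ℚ) = ((Qp i).natDegree.factorial : ℚ) * (Qp i).leadingCoeff) ∧
      cI = ∑ i : Fin r, if (Qp i).natDegree = P.natDegree then
        c i * ((Module.length (Localization.AtPrime (p i))
          (LocalizedModule (p i).primeCompl (PR k N ⧸ I))).toNat : ℤ) else 0 := by
  classical
  set s := P.natDegree with hs
  set d := s + 1 with hd
  obtain ⟨m₀, hm₀⟩ := hP
  obtain ⟨cI, hcI, hlimI, hEI⟩ := tendsto_nchi_of_hilbPoly hIh P m₀ hm₀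
  have hmin : ∀ i, p i ∈ I.minimalPrimes := fun i => (hpmin (p i)).2 ⟨i, rfl⟩
  have hph : ∀ i, (p i).IsHomogeneous (homogeneousSubmodule (Fin N) k) := fun i =>
    isHomogeneous_of_mem_minimalPrimes hIh (hmin i)
  choose mi hmi using hQp
  choose c hc hlim hE using fun i => tendsto_nchi_of_hilbPoly (hph i) (Qp i) (mi i) (hmi i)
  refine ⟨cI, c, hcI, hc, ?_⟩
  -- the quotient maps
  have hIle : ∀ i, I ≤ p i := fun i => (hmin i).1.2
  have hsupp : ∀ i, supportDim (PR k N) (PR k N ⧸ p i) ≤ (d : WithBot ℕ∞) := fun i =>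
    (Module.supportDim_le_of_surjective (Submodule.factor (hIle i))
      (Submodule.factor_surjective (hIle i))).trans hdim
  have hEi : ∀ i, EvPoly (s + 2) (chi (irr k N) (PR k N ⧸ p i)) := by
    intro i
    refine EvPoly.of_le ⟨_, hE i⟩ hEI 0 (fun n _ => ⟨chi_nonneg _ _ n, ?_⟩)
    exact chi_le_of_surjective (irr k N) (Submodule.factor (hIle i))
      (Submodule.factor_surjective (hIle i)) n
  have hsi_le : ∀ i, (Qp i).natDegree ≤ s := by
    intro i
    by_cases hQ0 : Qp i = 0
    · rw [hQ0, natDegree_zero]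
      exact Nat.zero_le _
    · have h1 : EvPoly (s + 1) (hgr (irr k N) (PR k N ⧸ p i)) := by
        rw [← fwdDiff_chi, ← evPoly_succ_iff]
        exact hEi i
      have h2 := (evPoly_iff_natDegree_lt (P := Qp i) (f := hgr (irr k N) (PR k N ⧸ p i))
        (N := mi i) hQ0 (fun m hm => by rw [hmi i m hm, hgr_eq_HF (hph i)])
        (fun m => hgr_nonneg _ _ m)).1 h1
      omega
  -- the multiplicity data
  have hexe : ∀ q : PrimeSpectrum (PR k N), ∃ e : ℝ,
      ringKrullDim (PR k N ⧸ q.asIdeal) = d →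
        Tendsto (nchi (irr k N) d (PR k N ⧸ q.asIdeal)) atTop (𝓝 e) := by
    intro q
    by_cases hq : ringKrullDim (PR k N ⧸ q.asIdeal) = d
    · obtain ⟨c', hc', -⟩ := exists_tendsto_nchi (irr k N) (PR k N ⧸ q.asIdeal) d
        (by rw [Module.supportDim_quotient_eq_ringKrullDim, hq])
      exact ⟨c', fun _ => hc'⟩
    · exact ⟨0, fun h => absurd h hq⟩
  choose e he using hexe
  have hΦ := tendsto_nchi_Phi (irr k N) d e he (PR k N ⧸ I) hdim
  have hΦeq : (cI : ℝ) = Phi d e (PR k N ⧸ I) := tendsto_nhds_unique hlimI hΦ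
  -- the support of the sum
  set pt : Fin r → PrimeSpectrum (PR k N) := fun i => ⟨p i, hp i⟩ with hpt
  have hptinj : Function.Injective pt := by
    intro i j hij
    apply hpinj
    exact congrArg PrimeSpectrum.asIdeal hij
  have hsuppF : (Function.support fun q : PrimeSpectrum (PR k N) =>
      (if ringKrullDim (PR k N ⧸ q.asIdeal) = d then lenLoc q (PR k N ⧸ I) * e q else 0)) ⊆
      ↑(Finset.univ.image pt) := by
    intro q hq
    rw [Function.mem_support] at hq
    by_cases hqd : ringKrullDim (PR k N ⧸ q.asIdeal) = d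
    · rw [if_pos hqd] at hq
      have hne : lenLoc q (PR k N ⧸ I) ≠ 0 := fun h0 => hq (by rw [h0, zero_mul])
      have hmem := mem_minimalPrimes_of_lenLoc_ne_zero (PR k N ⧸ I) hdim q hqd hne
      rw [Ideal.annihilator_quotient] at hmem
      obtain ⟨i, hi⟩ := (hpmin q.asIdeal).1 hmem
      rw [Finset.coe_image, Finset.coe_univ, Set.image_univ]
      exact ⟨i, PrimeSpectrum.ext hi.symm⟩
    · rw [if_neg hqd] at hq
      exact absurd rfl hq
  have hPhi : Phi d e (PR k N ⧸ I) = ∑ i : Fin r,
      (if ringKrullDim (PR k N ⧸ p i) = d then lenLoc (pt i) (PR k N ⧸ I) * e (pt i) else 0) := by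
    simp only [Phi]
    rw [finsum_eq_sum_of_support_subset _ hsuppF, Finset.sum_image (fun i _ j _ h => hptinj h)]
  -- termwise
  have hterm : ∀ i : Fin r,
      (if ringKrullDim (PR k N ⧸ p i) = d then lenLoc (pt i) (PR k N ⧸ I) * e (pt i) else 0) =
      (((if (Qp i).natDegree = s then
        c i * ((Module.length (Localization.AtPrime (p i))
          (LocalizedModule (p i).primeCompl (PR k N ⧸ I))).toNat : ℤ) else 0 : ℤ)) : ℝ) := by
    intro i
    have hlen : lenLoc (pt i) (PR k N ⧸ I) = (((Module.length (Localization.AtPrime (p i))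
        (LocalizedModule (p i).primeCompl (PR k N ⧸ I))).toNat : ℤ) : ℝ) := by
      simp only [lenLoc]
      push_cast
      rfl
    by_cases hsi : (Qp i).natDegree = s
    · rw [if_pos hsi]
      have hlim' : Tendsto (nchi (irr k N) d (PR k N ⧸ p i)) atTop (𝓝 (c i : ℝ)) := by
        have := hlim i
        rwa [hsi] at this
      by_cases hdi : ringKrullDim (PR k N ⧸ p i) = d
      · rw [if_pos hdi]
        have h1 : e (pt i) = (c i : ℝ) := tendsto_nhds_unique (he (pt i) hdi) hlim'
        rw [h1, hlen]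
        push_cast
        ring
      · rw [if_neg hdi]
        have hlt : supportDim (PR k N) (PR k N ⧸ p i) ≤ (s : WithBot ℕ∞) := by
          have h1 := hsupp i
          rw [Module.supportDim_quotient_eq_ringKrullDim] at h1 ⊢
          have h2 : ringKrullDim (PR k N ⧸ p i) < (d : WithBot ℕ∞) := lt_of_le_of_ne h1 hdi
          by_cases hbot : ringKrullDim (PR k N ⧸ p i) = ⊥
          · rw [hbot]
            exact bot_le
          · obtain ⟨x, hx⟩ : ∃ x : ℕ∞, ringKrullDim (PR k N ⧸ p i) = (x : WithBot ℕ∞) :=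
              ⟨(ringKrullDim (PR k N ⧸ p i)).unbot hbot, by simp⟩
            rw [hx] at h2 ⊢
            have h3 : x < ((s + 1 : ℕ) : ℕ∞) := by exact_mod_cast h2
            have h4 : x ≤ (s : ℕ∞) := by
              push_cast at h3
              exact (ENat.lt_add_one_iff (ENat.natCast_ne_top s)).1 h3
            exact_mod_cast h4
        have h0 := tendsto_nchi_zero_of_lt (irr k N) (PR k N ⧸ p i) s hlt
        have h1 : (c i : ℝ) = 0 := tendsto_nhds_unique hlim' h0
        have h2 : c i = 0 := by exact_mod_cast h1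
        rw [h2]
        simp
    · rw [if_neg hsi]
      have hlt : (Qp i).natDegree < s := lt_of_le_of_ne (hsi_le i) hsi
      by_cases hdi : ringKrullDim (PR k N ⧸ p i) = d
      · rw [if_pos hdi]
        have hE' : EvPoly d (chi (irr k N) (PR k N ⧸ p i)) := (hE i).mono (by omega)
        have h0 := (tendsto_div_pow_of_evPoly hE').const_mul ((d.factorial : ℕ) : ℝ)
        rw [mul_zero] at h0
        have h0' : Tendsto (nchi (irr k N) d (PR k N ⧸ p i)) atTop (𝓝 0) := by
          refine h0.congr (fun n => ?_)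
          simp only [nchi]
          ring
        have h1 : e (pt i) = 0 := tendsto_nhds_unique (he (pt i) hdi) h0'
        rw [h1]
        simp
      · rw [if_neg hdi]
        simp
  have hfinal : (cI : ℝ) = ((∑ i : Fin r, if (Qp i).natDegree = s then
        c i * ((Module.length (Localization.AtPrime (p i))
          (LocalizedModule (p i).primeCompl (PR k N ⧸ I))).toNat : ℤ) else 0 : ℤ) : ℝ) := by
    rw [hΦeq, hPhi, Int.cast_sum]
    exact Finset.sum_congr rfl (fun i _ => hterm i)
  exact_mod_cast hfinal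

end Groth.Agent.Lib.Helper22.GrSamuel
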