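import Mathlib
import Groth.Agent.Lib.Helper22.Samuel18
import Groth.Agent.Lib.Helper12.DimFT

/-!
# Hypersurface sections of affine domains: dimension of components; existence of Hilbert polynomials
-/

set_option autoImplicit false
set_option linter.unusedSectionVars false

universe u

namespace Groth.Agent.Lib.Helper22.GrSamuel

open Groth.Agent.Lib.Helper22.HS Groth.Agent.Lib.Helper22.Samuel Module MvPolynomial
open Polynomial

/-- in a finite type algebra over a field, a minimal prime over `I + (f)`, with `I` prime and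
`f ∉ I`, has dimension one less than `I`. -/
theorem ringKrullDim_quotient_add_one (k : Type u) [Field k] (S : Type u) [CommRing S]
    [Algebra k S] [Algebra.FiniteType k S] (I : Ideal S) [hIp : I.IsPrime] (f : S) (hf : f ∉ I)
    (q : Ideal S) (hq : q ∈ (I ⊔ Ideal.span {f}).minimalPrimes) (D : ℕ)
    (hD : ringKrullDim (S ⧸ I) = D) : ringKrullDim (S ⧸ q) + 1 = D := by
  have hIq : I ≤ q := le_sup_left.trans hq.1.2
  have hfq : f ∈ q := hq.1.2 (Ideal.mem_sup_right (Ideal.mem_span_singleton_self f))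
  haveI hqp : q.IsPrime := hq.1.1
  haveI : IsNoetherianRing S := Algebra.FiniteType.isNoetherianRing k S
  haveI : Algebra.FiniteType k (S ⧸ I) :=
    Algebra.FiniteType.of_surjective (Ideal.Quotient.mkₐ k I) Ideal.Quotient.mk_surjective
  set y : Ideal (S ⧸ I) := q.map (Ideal.Quotient.mk I) with hy
  haveI hyp : y.IsPrime :=
    Ideal.map_isPrime_of_surjective Ideal.Quotient.mk_surjective (by rwa [Ideal.mk_ker])
  let yp : PrimeSpectrum (S ⧸ I) := ⟨y, hyp⟩
  have h1 : y.height ≤ 1 := Ideal.map_height_le_one_of_mem_minimalPrimes hq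
  have hne : y ≠ ⊥ := by
    intro hbot
    have : Ideal.Quotient.mk I f ∈ y := Ideal.mem_map_of_mem _ hfq
    rw [hbot, Ideal.mem_bot, Ideal.Quotient.eq_zero_iff_mem] at this
    exact hf this
  have h0 : Order.height yp ≠ 0 := by
    rw [Ne, Order.height_eq_zero]
    intro hmin
    let b : PrimeSpectrum (S ⧸ I) := ⟨⊥, Ideal.isPrime_bot⟩
    have hb : b ≤ yp := fun a ha => by
      have : a = 0 := ha
      rw [this]
      exact zero_mem _
    have := hmin hb
    exact hne (le_bot_iff.mp this)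
  have hheight : Order.height yp = ((1 : ℕ) : ℕ∞) := by
    have h2 : Order.height yp ≤ 1 := by
      rw [← yp.height_eq_orderHeight]
      exact h1
    have h3 : 1 ≤ Order.height yp := Order.one_le_iff_ne_zero.2 h0
    exact_mod_cast le_antisymm h2 h3
  have hsum := Groth.Agent.Lib.Helper12.DimFT.height_add_coheight k (S ⧸ I) D hD 1 yp hheight
  have hco := Groth.Agent.Lib.Helper12.DimFT.ringKrullDim_quotient_eq_coheight yp
  have e : ((S ⧸ I) ⧸ y) ≃+* S ⧸ q := DoubleQuot.quotQuotEquivQuotOfLE hIq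
  rw [← ringKrullDim_eq_of_ringEquiv e]
  have hco' : ringKrullDim ((S ⧸ I) ⧸ y) = (Order.coheight yp : WithBot ℕ∞) := hco
  rw [hco']
  rw [hheight] at hsum
  have : (Order.coheight yp : ℕ∞) + 1 = (D : ℕ∞) := by
    rw [add_comm]
    exact_mod_cast hsum
  exact_mod_cast this

variable {k : Type u} [Field k] {N : ℕ}

attribute [local instance] MvPolynomial.gradedAlgebra

/-- existence of the Hilbert polynomial of a homogeneous ideal. -/
theorem exists_hilbPoly {J : Ideal (PR k N)}
    (hJ : J.IsHomogeneous (homogeneousSubmodule (Fin N) k)) :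
    ∃ (Q : ℚ[X]) (m₀ : ℕ), ∀ m : ℕ, m₀ ≤ m → Q.eval (m : ℚ) = (HF J m : ℚ) := by
  obtain ⟨s, hs⟩ := exists_evPoly_hgr (irr k N) (PR k N ⧸ J)
  obtain ⟨Q, m₀, hQ⟩ := hs.exists_polynomial
  refine ⟨Q, m₀, fun m hm => ?_⟩
  rw [← hQ m hm, hgr_eq_HF hJ]

end Groth.Agent.Lib.Helper22.GrSamuel
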