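import Mathlib
import Groth.Agent.Lib.Helper22.SmoothJZ

/-!
# Smoothness of a function to the affine line at a point, via its differential (helper22)

* `exists_forall_ne_zero`: over an infinite field, finitely many nonzero linear maps have a common
  vector at which none of them vanishes.
* `formallySmooth_polynomial`: `C` local, formally smooth and essentially of finite type over a
  field `k`, `k[X] → C` a `k`-algebra structure with `1 ⊗ d(X) ≠ 0` in `κ ⊗ Ω[C/k]`; then `C` is
  formally smooth over `k[X]`.
-/

set_option autoImplicit false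
set_option linter.style.haveILetI false
set_option linter.unusedSectionVars false
universe u

open TensorProduct KaehlerDifferential Polynomial

namespace Groth.Agent.Lib.Helper22.SmMap

/-- over an infinite field, finitely many nonzero linear maps do not vanish at a common vector -/
theorem exists_forall_ne_zero {k E : Type*} [Field k] [Infinite k] [AddCommGroup E] [Module k E]
    {ι : Type*} [Finite ι] {V : ι → Type*} [∀ i, AddCommGroup (V i)] [∀ i, Module k (V i)]
    (L : ∀ i, E →ₗ[k] V i) (hL : ∀ i, L i ≠ 0) : ∃ v : E, ∀ i, L i v ≠ 0 := by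
  by_contra hcon
  push Not at hcon
  have hcov : ⋃ i, ((LinearMap.ker (L i) : Subspace k E) : Set E) = Set.univ := by
    ext v
    simp only [Set.mem_iUnion, SetLike.mem_coe, LinearMap.mem_ker, Set.mem_univ, iff_true]
    exact hcon v
  obtain ⟨i, hi⟩ := Subspace.exists_eq_top_of_iUnion_eq_univ hcov
  exact hL i (LinearMap.ker_eq_top.mp hi)

section Core

variable (k C : Type u) [Field k] [CommRing C] [Algebra k C] [IsLocalRing C]
  [Algebra k[X] C] [IsScalarTower k k[X] C]

theorem exists_smul_eq (m : IsLocalRing.ResidueField C ⊗[C] (C ⊗[k[X]] Ω[k[X]⁄k])) :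
    ∃ c : C, m = c • ((1 : IsLocalRing.ResidueField C) ⊗ₜ[C]
      ((1 : C) ⊗ₜ[k[X]] (D k k[X] (X : k[X])))) := by
  induction m using TensorProduct.induction_on with
  | zero => exact ⟨0, by rw [zero_smul]⟩
  | add a b ha hb =>
    obtain ⟨c₁, rfl⟩ := ha
    obtain ⟨c₂, rfl⟩ := hb
    exact ⟨c₁ + c₂, by rw [add_smul]⟩
  | tmul r z =>
    obtain ⟨c', rfl⟩ := IsLocalRing.residue_surjective r
    suffices h : ∃ c : C, z = c • ((1 : C) ⊗ₜ[k[X]] (D k k[X] (X : k[X]))) by
      obtain ⟨c, rfl⟩ := h
      refine ⟨c' * c, ?_⟩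
      rw [TensorProduct.tmul_smul, mul_smul, TensorProduct.smul_tmul', TensorProduct.smul_tmul',
        TensorProduct.smul_tmul', smul_smul]
      congr 1
      rw [Algebra.smul_def, Algebra.smul_def, mul_one, IsLocalRing.ResidueField.algebraMap_eq,
        map_mul, mul_comm]
    induction z using TensorProduct.induction_on with
    | zero => exact ⟨0, by rw [zero_smul]⟩
    | add a b ha hb =>
      obtain ⟨c₁, h₁⟩ := ha
      obtain ⟨c₂, h₂⟩ := hb
      exact ⟨c₁ + c₂, by rw [add_smul, ← h₁, ← h₂]⟩
    | tmul c ω =>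
      have hω : ω = (polynomialEquiv k ω) • D k k[X] (X : k[X]) := by
        rw [← polynomialEquiv_symm, LinearEquiv.symm_apply_apply]
      refine ⟨algebraMap k[X] C (polynomialEquiv k ω) * c, ?_⟩
      conv_lhs => rw [hω]
      rw [← TensorProduct.smul_tmul, TensorProduct.smul_tmul', Algebra.smul_def, smul_eq_mul,
        mul_one]

/-- the Jacobi–Zariski criterion for a function to the affine line -/
theorem formallySmooth_polynomial [Algebra.FormallySmooth k C] [Algebra.EssFiniteType k C]
    (hD : (1 : IsLocalRing.ResidueField C) ⊗ₜ[C] (D k C (algebraMap k[X] C X)) ≠ 0) :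
    Algebra.FormallySmooth k[X] C := by
  haveI : Module.Finite C Ω[C⁄k] := inferInstance
  haveI : Module.Free C Ω[C⁄k] := Module.free_of_flat_of_isLocalRing
  haveI : Module.Finite k[X] Ω[k[X]⁄k] := inferInstance
  apply Groth.Agent.Lib.Helper22.SmoothJZ.formallySmooth_of_lTensor_injective k k[X] C
  rw [injective_iff_map_eq_zero]
  intro m hm
  obtain ⟨c, rfl⟩ := exists_smul_eq k C m
  rw [map_smul, LinearMap.lTensor_tmul, mapBaseChange_tmul, one_smul, map_D] at hm
  have h1 : c • ((1 : IsLocalRing.ResidueField C) ⊗ₜ[C] (D k C (algebraMap k[X] C X))) =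
      (IsLocalRing.residue C c) • ((1 : IsLocalRing.ResidueField C) ⊗ₜ[C]
        (D k C (algebraMap k[X] C X))) := by
    rw [TensorProduct.smul_tmul', TensorProduct.smul_tmul', Algebra.smul_def, smul_eq_mul,
      IsLocalRing.ResidueField.algebraMap_eq]
  rw [h1] at hm
  have h2 : IsLocalRing.residue C c = 0 := by
    rcases smul_eq_zero.mp hm with h | h
    · exact h
    · exact absurd h hD
  rw [TensorProduct.smul_tmul', Algebra.smul_def, IsLocalRing.ResidueField.algebraMap_eq, h2,
    zero_mul, TensorProduct.zero_tmul]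

end Core

end Groth.Agent.Lib.Helper22.SmMap
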