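import Mathlib

/-!
# Nonvanishing of differentials at non-closed points (helper22)

`exists_tmul_D_ne_zero`: `R` a `k`-algebra, `q` a non-maximal prime, `C = R_q` essentially of finite
type over the field `k`, `u ∉ q`.  Then some `d(r u)` is nonzero in `κ(q) ⊗ Ω[C/k]`.
-/

set_option autoImplicit false
set_option linter.style.haveILetI false
set_option linter.unusedSectionVars false
universe u

open TensorProduct KaehlerDifferential

namespace Groth.Agent.Lib.Helper22.SmMap

variable (k R C : Type u) [Field k] [CommRing R] [CommRing C] [Algebra k R] [Algebra R C]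
  [Algebra k C] [IsScalarTower k R C] [IsLocalRing C]

theorem tmul_smul_eq (c : C) (ω : Ω[C⁄k]) :
    (1 : IsLocalRing.ResidueField C) ⊗ₜ[C] (c • ω) =
      c • ((1 : IsLocalRing.ResidueField C) ⊗ₜ[C] ω) := by
  rw [TensorProduct.tmul_smul]

theorem eq_zero_of_isUnit_smul (c : C) (hc : IsUnit c)
    (z : IsLocalRing.ResidueField C ⊗[C] Ω[C⁄k]) (h : c • z = 0) : z = 0 := by
  obtain ⟨c', rfl⟩ := hc
  have := congrArg (fun w => (↑c'⁻¹ : C) • w) h
  simpa [smul_smul] using this

variable (q : Ideal R) [q.IsPrime] [IsLocalization.AtPrime C q]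

/-- if all `d(r u)` vanish in `κ ⊗ Ω[C/k]` then `Ω[C/k] = 0` -/
theorem subsingleton_kaehler_of_forall [Algebra.EssFiniteType k C] (u : R) (hu : u ∉ q)
    (h : ∀ r : R, (1 : IsLocalRing.ResidueField C) ⊗ₜ[C] D k C (algebraMap R C (r * u)) = 0) :
    Subsingleton Ω[C⁄k] := by
  have huC : IsUnit (algebraMap R C u) :=
    IsLocalization.map_units C (⟨u, hu⟩ : q.primeCompl)
  have hu0 : (1 : IsLocalRing.ResidueField C) ⊗ₜ[C] D k C (algebraMap R C u) = 0 := by
    have := h 1
    rwa [one_mul] at this
  -- all `d r` vanish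
  have h1 : ∀ r : R, (1 : IsLocalRing.ResidueField C) ⊗ₜ[C] D k C (algebraMap R C r) = 0 := by
    intro r
    have h2 := h r
    rw [map_mul, Derivation.leibniz, TensorProduct.tmul_add, tmul_smul_eq, tmul_smul_eq, hu0,
      smul_zero, zero_add] at h2
    exact eq_zero_of_isUnit_smul k C _ huC _ h2
  -- all `d c` vanish
  have h2 : ∀ c : C, (1 : IsLocalRing.ResidueField C) ⊗ₜ[C] D k C c = 0 := by
    intro c
    obtain ⟨⟨r, s⟩, hrs⟩ := IsLocalization.surj q.primeCompl c
    have hs : IsUnit (algebraMap R C s.1) := IsLocalization.map_units C s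
    have h3 := h1 r
    rw [← hrs, Derivation.leibniz, TensorProduct.tmul_add, tmul_smul_eq, tmul_smul_eq, h1 s.1,
      smul_zero, zero_add] at h3
    exact eq_zero_of_isUnit_smul k C _ hs _ h3
  have h3 : Subsingleton (IsLocalRing.ResidueField C ⊗[C] Ω[C⁄k]) := by
    refine ⟨fun a b => ?_⟩
    suffices H : ∀ z : IsLocalRing.ResidueField C ⊗[C] Ω[C⁄k], z = 0 by rw [H a, H b]
    intro z
    induction z using TensorProduct.induction_on with
    | zero => rfl
    | add a b ha hb => rw [ha, hb, add_zero]
    | tmul r ω =>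
      obtain ⟨c', rfl⟩ := IsLocalRing.residue_surjective r
      have hω : ω ∈ Submodule.span C (Set.range (D k C)) := by
        rw [KaehlerDifferential.span_range_derivation]; trivial
      induction hω using Submodule.span_induction with
      | mem x hx =>
        obtain ⟨c, rfl⟩ := hx
        have : (IsLocalRing.residue C c') ⊗ₜ[C] D k C c =
            c' • ((1 : IsLocalRing.ResidueField C) ⊗ₜ[C] D k C c) := by
          rw [TensorProduct.smul_tmul', Algebra.smul_def, mul_one,
            IsLocalRing.ResidueField.algebraMap_eq]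
        rw [this, h2 c, smul_zero]
      | zero => rw [TensorProduct.tmul_zero]
      | add x y _ _ hx hy => rw [TensorProduct.tmul_add, hx, hy, add_zero]
      | smul a x _ hx => rw [TensorProduct.tmul_smul, hx, smul_zero]
  haveI : Module.Finite C Ω[C⁄k] := inferInstance
  exact (IsLocalRing.subsingleton_tensorProduct (R := C) (M := Ω[C⁄k])).mp h3

/-- a prime at which the localization is unramified and essentially of finite type over a field
is maximal -/
theorem isMaximal_of_subsingleton_kaehler [Algebra.EssFiniteType k C]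
    (h : Subsingleton Ω[C⁄k]) : q.IsMaximal := by
  haveI : Algebra.FormallyUnramified k C := ⟨h⟩
  haveI : Module.Finite k C := Algebra.FormallyUnramified.finite_of_free k C
  -- `R/q` embeds into the residue field of `C`
  let ψ : R →ₐ[k] IsLocalRing.ResidueField C :=
    (IsScalarTower.toAlgHom k C (IsLocalRing.ResidueField C)).comp (IsScalarTower.toAlgHom k R C)
  have hker : RingHom.ker (ψ : R →+* IsLocalRing.ResidueField C) = q := by
    ext r
    rw [RingHom.mem_ker]
    show algebraMap C (IsLocalRing.ResidueField C) (algebraMap R C r) = 0 ↔ r ∈ q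
    rw [IsLocalRing.ResidueField.algebraMap_eq, IsLocalRing.residue_eq_zero_iff,
      IsLocalization.AtPrime.to_map_mem_maximal_iff C q]
  haveI : Module.Finite k (IsLocalRing.ResidueField C) :=
    Module.Finite.of_surjective (IsScalarTower.toAlgHom k C (IsLocalRing.ResidueField C)).toLinearMap
      IsLocalRing.residue_surjective
  let ψ' : (R ⧸ RingHom.ker (ψ : R →+* IsLocalRing.ResidueField C)) →ₐ[k]
      IsLocalRing.ResidueField C := Ideal.kerLiftAlg ψ
  have hinj : Function.Injective ψ' := Ideal.kerLiftAlg_injective ψ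
  haveI : Module.Finite k (R ⧸ RingHom.ker (ψ : R →+* IsLocalRing.ResidueField C)) :=
    Module.Finite.of_injective ψ'.toLinearMap hinj
  haveI : (RingHom.ker (ψ : R →+* IsLocalRing.ResidueField C)).IsPrime := by
    rw [hker]; infer_instance
  haveI : Algebra.IsIntegral k (R ⧸ RingHom.ker (ψ : R →+* IsLocalRing.ResidueField C)) :=
    Algebra.IsIntegral.of_finite k _
  have hf : IsField (R ⧸ RingHom.ker (ψ : R →+* IsLocalRing.ResidueField C)) :=
    isField_of_isIntegral_of_isField' (Field.toIsField k)
  rw [← hker]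
  exact Ideal.Quotient.maximal_of_isField _ hf

theorem exists_tmul_D_ne_zero [Algebra.EssFiniteType k C] (u : R) (hu : u ∉ q)
    (hq : ¬ q.IsMaximal) :
    ∃ r : R, (1 : IsLocalRing.ResidueField C) ⊗ₜ[C] D k C (algebraMap R C (r * u)) ≠ 0 := by
  by_contra hcon
  push Not at hcon
  exact hq (isMaximal_of_subsingleton_kaehler k R C q
    (subsingleton_kaehler_of_forall k R C q u hu hcon))

end Groth.Agent.Lib.Helper22.SmMap
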