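import Mathlib
import Groth.Agent.Lib.Helper22.SmMapA
import Groth.Agent.Lib.Helper22.SmMapB
import Groth.Agent.Lib.Helper22.OmegaGen2

/-!
# Local rings of a scheme of finite type over a field: algebra structure and differentials (helper22)
-/

set_option autoImplicit false
set_option linter.style.haveILetI false

universe u

open CategoryTheory Limits AlgebraicGeometry TopologicalSpace Opposite TensorProduct
  KaehlerDifferential

namespace Groth.Agent.Lib.Helper22.SmMap

variable {k : Type u} [Field k] {X : Scheme.{u}} (f : X ⟶ Spec (CommRingCat.of k))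

/-- the `k`-algebra structure on a local ring of a `k`-scheme -/
@[reducible] noncomputable def stalkAlg (y : X) : Algebra k (X.presheaf.stalk y) :=
  ((Scheme.ΓSpecIso (CommRingCat.of k)).inv ≫ f.appTop ≫
    X.presheaf.germ ⊤ y trivial).hom.toAlgebra

/-- the `k`-algebra structure on sections of a `k`-scheme -/
@[reducible] noncomputable def secAlg (U : X.Opens) : Algebra k Γ(X, U) :=
  ((Scheme.ΓSpecIso (CommRingCat.of k)).inv ≫ f.appLE ⊤ U le_top).hom.toAlgebra

theorem stalkAlg_hom_eq (y : X) :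
    (Scheme.ΓSpecIso (CommRingCat.of k)).inv ≫ f.appTop ≫ X.presheaf.germ ⊤ y trivial =
      ((Scheme.ΓSpecIso (CommRingCat.of k)).inv ≫
        (Spec (CommRingCat.of k)).presheaf.germ ⊤ (f y) trivial) ≫ f.stalkMap y := by
  rw [Category.assoc, Scheme.Hom.germ_stalkMap]
  rfl

theorem formallySmooth_stalk [LocallyOfFinitePresentation f] (y : X) (hy : y ∈ f.smoothLocus) :
    @Algebra.FormallySmooth k (X.presheaf.stalk y) _ _ (stalkAlg f y) := by
  have h1 : (f.stalkMap y).hom.FormallySmooth := hy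
  have hτ := Groth.Agent.Lib.Helper22.OmegaGen2.toStalk_bijective_of_field k (f y)
  have h2 : (((Scheme.ΓSpecIso (CommRingCat.of k)).inv ≫
      (Spec (CommRingCat.of k)).presheaf.germ ⊤ (f y) trivial) ≫
        f.stalkMap y).hom.FormallySmooth := by
    rw [CommRingCat.hom_comp]
    exact RingHom.FormallySmooth.comp (RingHom.FormallySmooth.of_bijective hτ) h1
  show ((Scheme.ΓSpecIso (CommRingCat.of k)).inv ≫ f.appTop ≫
    X.presheaf.germ ⊤ y trivial).hom.FormallySmooth
  rw [stalkAlg_hom_eq]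
  exact h2

theorem essFiniteType_stalk [LocallyOfFiniteType f] (y : X) :
    @Algebra.EssFiniteType k (X.presheaf.stalk y) _ _ (stalkAlg f y) := by
  have h1 : (f.stalkMap y).hom.EssFiniteType := LocallyOfFiniteType.stalkMap f y
  have hτ := Groth.Agent.Lib.Helper22.OmegaGen2.toStalk_bijective_of_field k (f y)
  haveI isoτ : IsIso ((Scheme.ΓSpecIso (CommRingCat.of k)).inv ≫
      (Spec (CommRingCat.of k)).presheaf.germ ⊤ (f y) trivial) :=
    (ConcreteCategory.isIso_iff_bijective _).mpr hτ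
  have h2 : (((Scheme.ΓSpecIso (CommRingCat.of k)).inv ≫
      (Spec (CommRingCat.of k)).presheaf.germ ⊤ (f y) trivial) ≫
        f.stalkMap y).hom.EssFiniteType :=
    (RingHom.EssFiniteType.respectsIso.cancel_left_isIso
      ((Scheme.ΓSpecIso (CommRingCat.of k)).inv ≫
        (Spec (CommRingCat.of k)).presheaf.germ ⊤ (f y) trivial) (f.stalkMap y)).mpr h1
  show ((Scheme.ΓSpecIso (CommRingCat.of k)).inv ≫ f.appTop ≫
    X.presheaf.germ ⊤ y trivial).hom.EssFiniteType
  rw [stalkAlg_hom_eq]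
  exact h2

theorem isScalarTower_stalk (U : X.Opens) (y : X) (hy : y ∈ U) :
    @IsScalarTower k Γ(X, U) (X.presheaf.stalk y) (secAlg f U).toSMul
      (TopCat.Presheaf.algebra_section_stalk X.presheaf ⟨y, hy⟩).toSMul (stalkAlg f y).toSMul := by
  letI := secAlg f U
  letI := stalkAlg f y
  letI := TopCat.Presheaf.algebra_section_stalk X.presheaf ⟨y, hy⟩
  refine IsScalarTower.of_algebraMap_eq (fun a => ?_)
  show (X.presheaf.germ ⊤ y trivial).hom (f.appTop.hom
      ((Scheme.ΓSpecIso (CommRingCat.of k)).inv.hom a)) =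
    (X.presheaf.germ U y hy).hom ((f.appLE ⊤ U le_top).hom
      ((Scheme.ΓSpecIso (CommRingCat.of k)).inv.hom a))
  simp only [Scheme.Hom.appLE, CommRingCat.hom_comp, RingHom.coe_comp,
    Function.comp_apply, X.presheaf.germ_res_apply]
  rfl

theorem mem_basicOpen_iff_notMem_primeIdealOf {U : X.Opens} (hU : IsAffineOpen U)
    (x : U) (a : Γ(X, U)) : (x : X) ∈ X.basicOpen a ↔ a ∉ (hU.primeIdealOf x).asIdeal := by
  have h1 : hU.fromSpec (hU.primeIdealOf x) = (x : X) := hU.fromSpec_primeIdealOf x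
  have h2 := hU.fromSpec_preimage_basicOpen a
  have h3 : hU.primeIdealOf x ∈ hU.fromSpec ⁻¹ᵁ X.basicOpen a ↔
      hU.primeIdealOf x ∈ PrimeSpectrum.basicOpen a := by rw [h2]; exact Iff.rfl
  rw [← h1]
  exact h3

theorem not_isMaximal_primeIdealOf {U : X.Opens} (hU : IsAffineOpen U) (y x : X) (hy : y ∈ U)
    (hx : x ∈ U) (h : y ⤳ x) (v : Γ(X, U)) (hvy : y ∈ X.basicOpen v) (hvx : x ∉ X.basicOpen v) :
    ¬ (hU.primeIdealOf ⟨y, hy⟩).asIdeal.IsMaximal := by
  intro hmax
  have hle : (hU.primeIdealOf ⟨y, hy⟩).asIdeal ≤ (hU.primeIdealOf ⟨x, hx⟩).asIdeal := by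
    intro r hr
    by_contra hcon
    have hxr : x ∈ X.basicOpen r := (mem_basicOpen_iff_notMem_primeIdealOf hU ⟨x, hx⟩ r).mpr hcon
    have hyr : y ∈ X.basicOpen r := h.mem_open (X.basicOpen r).2 hxr
    exact (mem_basicOpen_iff_notMem_primeIdealOf hU ⟨y, hy⟩ r).mp hyr hr
  have heq := hmax.eq_of_le (hU.primeIdealOf ⟨x, hx⟩).isPrime.ne_top hle
  have h1 : v ∉ (hU.primeIdealOf ⟨y, hy⟩).asIdeal :=
    (mem_basicOpen_iff_notMem_primeIdealOf hU ⟨y, hy⟩ v).mp hvy
  have h2 : v ∈ (hU.primeIdealOf ⟨x, hx⟩).asIdeal := by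
    by_contra hcon
    exact hvx ((mem_basicOpen_iff_notMem_primeIdealOf hU ⟨x, hx⟩ v).mpr hcon)
  rw [heq] at h1
  exact h1 h2

end Groth.Agent.Lib.Helper22.SmMap
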