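import Mathlib
import Groth.Agent.Lib.Helper22.SmMapC

/-!
# Choosing a unit multiple of a function with nonvanishing differential at finitely many
generizations (helper22)
-/

set_option autoImplicit false
set_option linter.style.haveILetI false

universe u

open CategoryTheory Limits AlgebraicGeometry TopologicalSpace Opposite TensorProduct
  KaehlerDifferential

namespace Groth.Agent.Lib.Helper22.SmMap

/-- the `k`-subspace of `r ∈ R` with `1 ⊗ d(r v) = 0` in `κ(C) ⊗ Ω[C/k]` -/
def kerSub (k R C : Type u) [Field k] [CommRing R] [CommRing C] [Algebra k R] [Algebra R C]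
    [Algebra k C] [IsScalarTower k R C] [IsLocalRing C] (v : R) : Submodule k R where
  carrier := {r | (1 : IsLocalRing.ResidueField C) ⊗ₜ[C] D k C (algebraMap R C (r * v)) = 0}
  zero_mem' := by simp
  add_mem' := by
    intro a b ha hb
    simp only [Set.mem_setOf_eq] at *
    rw [add_mul, map_add, map_add, tmul_add, ha, hb, add_zero]
  smul_mem' := by
    intro c a ha
    simp only [Set.mem_setOf_eq] at *
    rw [smul_mul_assoc, ← IsScalarTower.toAlgHom_apply k R C, map_smul, Derivation.map_smul,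
      ← algebraMap_smul C c, tmul_smul, IsScalarTower.toAlgHom_apply, ha, smul_zero]

theorem mem_kerSub (k R C : Type u) [Field k] [CommRing R] [CommRing C] [Algebra k R] [Algebra R C]
    [Algebra k C] [IsScalarTower k R C] [IsLocalRing C] (v r : R) :
    r ∈ kerSub k R C v ↔
      (1 : IsLocalRing.ResidueField C) ⊗ₜ[C] D k C (algebraMap R C (r * v)) = 0 := Iff.rfl

variable {k : Type u} [Field k] {X : Scheme.{u}} (f : X ⟶ Spec (CommRingCat.of k))

theorem exists_section [Infinite k] [LocallyOfFiniteType f]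
    {U : X.Opens} (hU : IsAffineOpen U) (v : Γ(X, U)) (x : X) (hxU : x ∈ U)
    (hxv : x ∉ X.basicOpen v) {ι : Type} [Finite ι] (y : ι → X)
    (hyv : ∀ i, y i ∈ X.basicOpen v) (hgen : ∀ i, y i ⤳ x) :
    ∃ e₀ : Γ(X, U), x ∈ X.basicOpen e₀ ∧ ∀ i,
      letI := stalkAlg f (y i)
      (1 : IsLocalRing.ResidueField (X.presheaf.stalk (y i))) ⊗ₜ[X.presheaf.stalk (y i)]
        D k (X.presheaf.stalk (y i))
          ((X.presheaf.germ U (y i) (X.basicOpen_le v (hyv i))).hom (e₀ * v)) ≠ 0 := by
  classical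
  letI algR := secAlg f U
  have hyU : ∀ i, y i ∈ U := fun i => X.basicOpen_le v (hyv i)
  let p₀ : Submodule k Γ(X, U) := (hU.primeIdealOf ⟨x, hxU⟩).asIdeal.restrictScalars k
  let pi : ι → Submodule k Γ(X, U) := fun i =>
    letI := stalkAlg f (y i)
    letI := TopCat.Presheaf.algebra_section_stalk X.presheaf ⟨y i, hyU i⟩
    haveI := isScalarTower_stalk f U (y i) (hyU i)
    kerSub k Γ(X, U) (X.presheaf.stalk (y i)) v
  let p : Option ι → Submodule k Γ(X, U) := fun o => o.elim p₀ pi
  by_contra hcon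
  push Not at hcon
  have hcov : ⋃ o, (p o : Set Γ(X, U)) = Set.univ := by
    ext r
    simp only [Set.mem_iUnion, Set.mem_univ, iff_true]
    by_cases hr : x ∈ X.basicOpen r
    · obtain ⟨i, hi⟩ := hcon r hr
      exact ⟨some i, hi⟩
    · refine ⟨none, ?_⟩
      show r ∈ (hU.primeIdealOf ⟨x, hxU⟩).asIdeal
      by_contra h
      exact hr ((mem_basicOpen_iff_notMem_primeIdealOf hU ⟨x, hxU⟩ r).mpr h)
  obtain ⟨o, ho⟩ := Subspace.exists_eq_top_of_iUnion_eq_univ hcov
  cases o with
  | none =>
    have h1 : (1 : Γ(X, U)) ∈ p₀ := by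
      rw [show p₀ = p none from rfl, ho]
      trivial
    exact (hU.primeIdealOf ⟨x, hxU⟩).isPrime.ne_top ((Ideal.eq_top_iff_one _).mpr h1)
  | some i =>
    letI := stalkAlg f (y i)
    letI := TopCat.Presheaf.algebra_section_stalk X.presheaf ⟨y i, hyU i⟩
    haveI := isScalarTower_stalk f U (y i) (hyU i)
    haveI := hU.isLocalization_stalk ⟨y i, hyU i⟩
    haveI := essFiniteType_stalk f (y i)
    have hv : v ∉ (hU.primeIdealOf ⟨y i, hyU i⟩).asIdeal :=
      (mem_basicOpen_iff_notMem_primeIdealOf hU ⟨y i, hyU i⟩ v).mp (hyv i)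
    have hnm := not_isMaximal_primeIdealOf hU (y i) x (hyU i) hxU (hgen i) v (hyv i) hxv
    obtain ⟨r, hr⟩ := exists_tmul_D_ne_zero k Γ(X, U) (X.presheaf.stalk (y i))
      (hU.primeIdealOf ⟨y i, hyU i⟩).asIdeal v hv hnm
    have hmem : r ∈ pi i := by
      rw [show pi i = p (some i) from rfl, ho]
      trivial
    exact hr hmem

end Groth.Agent.Lib.Helper22.SmMap
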