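import Mathlib
import Groth.Agent.Lib.Helper22.SmMapC

/-!
# Smoothness of a function to the affine line at a point of a smooth `k`-scheme (helper22)
-/

set_option autoImplicit false
set_option linter.style.haveILetI false

universe u

open CategoryTheory Limits AlgebraicGeometry TopologicalSpace Opposite TensorProduct
  KaehlerDifferential

namespace Groth.Agent.Lib.Helper22.SmMap

variable {k : Type u} [Field k] {X : Scheme.{u}} (f : X ⟶ Spec (CommRingCat.of k))

theorem ι_appTop_germ_stalkIso (X' : X.Opens) (y : X) (hy : y ∈ X') :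
    X'.ι.appTop ≫ (↑X' : Scheme.{u}).presheaf.germ ⊤ ⟨y, hy⟩ trivial ≫
      (X'.stalkIso ⟨y, hy⟩).hom = X.presheaf.germ ⊤ y trivial := by
  rw [Scheme.Opens.germ_stalkIso_hom, Scheme.Opens.ι_appTop]
  exact X.presheaf.germ_res _ _ _

theorem germ_stalkIso_eq_topIso (X' : X.Opens) (y : X) (hy : y ∈ X') :
    (↑X' : Scheme.{u}).presheaf.germ ⊤ ⟨y, hy⟩ trivial ≫ (X'.stalkIso ⟨y, hy⟩).hom =
      X'.topIso.hom ≫ X.presheaf.germ X' y hy := by
  rw [Scheme.Opens.germ_stalkIso_hom]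
  exact (X.presheaf.germ_res (eqToIso X'.ι_image_top.symm).hom y hy).symm


open Polynomial in
theorem mem_smoothLocus_of_tmul_D_ne_zero [LocallyOfFiniteType f] [LocallyOfFinitePresentation f]
    (X' : X.Opens) (g : (↑X' : Scheme.{u}) ⟶ Spec (CommRingCat.of k[X]))
    [LocallyOfFinitePresentation g]
    (hg : g ≫ Spec.map (CommRingCat.ofHom (Polynomial.C : k →+* k[X])) = X'.ι ≫ f)
    (y : X) (hy : y ∈ X') (hsm : y ∈ f.smoothLocus)
    (hD : letI := stalkAlg f y
      (1 : IsLocalRing.ResidueField (X.presheaf.stalk y)) ⊗ₜ[X.presheaf.stalk y]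
        D k (X.presheaf.stalk y) ((X.presheaf.germ X' y hy).hom (X'.topIso.hom.hom
          (g.appTop.hom ((Scheme.ΓSpecIso (CommRingCat.of k[X])).inv.hom
            (Polynomial.X : k[X]))))) ≠ 0) :
    (⟨y, hy⟩ : ↑X') ∈ g.smoothLocus := by
  letI algk : Algebra k (X.presheaf.stalk y) := stalkAlg f y
  haveI : Algebra.FormallySmooth k (X.presheaf.stalk y) := formallySmooth_stalk f y hsm
  haveI : Algebra.EssFiniteType k (X.presheaf.stalk y) := essFiniteType_stalk f y
  -- the map `k[X] → 𝒪_{X,y}`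
  let ψ : CommRingCat.of k[X] ⟶ X.presheaf.stalk y :=
    (Scheme.ΓSpecIso (CommRingCat.of k[X])).inv ≫ g.appTop ≫
      (↑X' : Scheme.{u}).presheaf.germ ⊤ ⟨y, hy⟩ trivial ≫ (X'.stalkIso ⟨y, hy⟩).hom
  letI algP : Algebra k[X] (X.presheaf.stalk y) := ψ.hom.toAlgebra
  have hψC : CommRingCat.ofHom (Polynomial.C : k →+* k[X]) ≫ ψ =
      (Scheme.ΓSpecIso (CommRingCat.of k)).inv ≫ f.appTop ≫ X.presheaf.germ ⊤ y trivial := by
    have h1 := congrArg Scheme.Hom.appTop hg
    rw [Scheme.Hom.comp_appTop, Scheme.Hom.comp_appTop] at h1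
    show CommRingCat.ofHom (Polynomial.C : k →+* k[X]) ≫
      (Scheme.ΓSpecIso (CommRingCat.of k[X])).inv ≫ g.appTop ≫
      (↑X' : Scheme.{u}).presheaf.germ ⊤ ⟨y, hy⟩ trivial ≫ (X'.stalkIso ⟨y, hy⟩).hom = _
    rw [← Category.assoc, Scheme.ΓSpecIso_inv_naturality, Category.assoc, ← Category.assoc _ g.appTop,
      h1, Category.assoc, ι_appTop_germ_stalkIso]
  haveI : IsScalarTower k k[X] (X.presheaf.stalk y) := by
    refine IsScalarTower.of_algebraMap_eq (fun a => ?_)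
    have := congrArg (fun φ => φ.hom a) hψC
    exact this.symm
  have hX : algebraMap k[X] (X.presheaf.stalk y) Polynomial.X =
      (X.presheaf.germ X' y hy).hom (X'.topIso.hom.hom
          (g.appTop.hom ((Scheme.ΓSpecIso (CommRingCat.of k[X])).inv.hom
            (Polynomial.X : k[X])))) := by
    have h2 := germ_stalkIso_eq_topIso X' y hy
    show ((Scheme.ΓSpecIso (CommRingCat.of k[X])).inv ≫ g.appTop ≫
      (↑X' : Scheme.{u}).presheaf.germ ⊤ ⟨y, hy⟩ trivial ≫ (X'.stalkIso ⟨y, hy⟩).hom).hom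
        Polynomial.X = _
    rw [h2]
    rfl
  haveI : Algebra.FormallySmooth k[X] (X.presheaf.stalk y) :=
    formallySmooth_polynomial k (X.presheaf.stalk y) (by rw [hX]; exact hD)
  show (g.stalkMap ⟨y, hy⟩).hom.FormallySmooth
  have h1 : (g.stalkMap ⟨y, hy⟩ ≫ (X'.stalkIso ⟨y, hy⟩).hom).hom.FormallySmooth := by
    letI : Algebra k[X] ((Spec (CommRingCat.of k[X])).presheaf.stalk (g ⟨y, hy⟩)) :=
      StructureSheaf.stalkAlgebra _ (g ⟨y, hy⟩)
    haveI : IsLocalization.AtPrime ((Spec (CommRingCat.of k[X])).presheaf.stalk (g ⟨y, hy⟩))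
        (g ⟨y, hy⟩).asIdeal := StructureSheaf.IsLocalization.to_stalk _ (g ⟨y, hy⟩)
    letI : Algebra ((Spec (CommRingCat.of k[X])).presheaf.stalk (g ⟨y, hy⟩))
        (X.presheaf.stalk y) := (g.stalkMap ⟨y, hy⟩ ≫ (X'.stalkIso ⟨y, hy⟩).hom).hom.toAlgebra
    haveI : IsScalarTower k[X] ((Spec (CommRingCat.of k[X])).presheaf.stalk (g ⟨y, hy⟩))
        (X.presheaf.stalk y) := by
      refine IsScalarTower.of_algebraMap_eq (fun a => ?_)
      have h3 : ψ = ((Scheme.ΓSpecIso (CommRingCat.of k[X])).inv ≫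
          (Spec (CommRingCat.of k[X])).presheaf.germ ⊤ (g ⟨y, hy⟩) trivial) ≫
            (g.stalkMap ⟨y, hy⟩ ≫ (X'.stalkIso ⟨y, hy⟩).hom) := by
        show (Scheme.ΓSpecIso (CommRingCat.of k[X])).inv ≫ g.appTop ≫
          (↑X' : Scheme.{u}).presheaf.germ ⊤ ⟨y, hy⟩ trivial ≫ (X'.stalkIso ⟨y, hy⟩).hom = _
        rw [Category.assoc, ← Category.assoc _ (g.stalkMap ⟨y, hy⟩), Scheme.Hom.germ_stalkMap]
        simp only [Category.assoc]
        rfl
      have := congrArg (fun φ => φ.hom a) h3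
      exact this
    exact Algebra.FormallySmooth.localization_base (g ⟨y, hy⟩).asIdeal.primeCompl
  exact (RingHom.FormallySmooth.respectsIso.cancel_right_isIso _ (X'.stalkIso ⟨y, hy⟩).hom).mp h1

end Groth.Agent.Lib.Helper22.SmMap
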