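import Mathlib
import Groth.Prelude.Def_CInt
import Groth.Agent.Lib.Helper1.SmoothRegQuot
import Groth.Agent.Lib.Helper22.QRegNoeth

/-! Regular ideals: transport along isomorphisms; formal smoothness from a regular quotient at the
level of local rings (helper22). -/

universe u

namespace Groth.Agent.Lib.Helper22.SmReg

open CategoryTheory RingTheory.Sequence

theorem isRegular_map_ringEquiv {R R' : Type u} [CommRing R] [CommRing R'] (e : R ≃+* R')
    (rs : List R) (h : IsRegular R rs) : IsRegular R' (rs.map e) := by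
  refine (AddEquiv.isRegular_congr (e := e.toAddEquiv) ?_).mp h
  rw [List.forall₂_map_right_iff]
  exact List.forall₂_same.mpr fun r _ x => map_mul e r x

theorem isRegularIdeal_map_ringEquiv {R R' : Type u} [CommRing R] [CommRing R'] (e : R ≃+* R')
    (I : Ideal R) (h : CInt.IsRegularIdeal I) : CInt.IsRegularIdeal (I.map (e : R →+* R')) := by
  obtain ⟨rs, hrs, rfl⟩ := h
  refine ⟨rs.map e, isRegular_map_ringEquiv e rs hrs, ?_⟩
  rw [Ideal.map_ofList]
  rfl

/-- Regular ideals are invariant under isomorphisms of arrows. -/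
theorem isRegularIdeal_ker_of_arrowIso {R T R' T' : CommRingCat.{u}} (φ : R ⟶ T) (φ' : R' ⟶ T')
    (e : Arrow.mk φ ≅ Arrow.mk φ') (h : CInt.IsRegularIdeal (RingHom.ker φ.hom)) :
    CInt.IsRegularIdeal (RingHom.ker φ'.hom) := by
  let eL : R ≅ R' := (Arrow.leftFunc).mapIso e
  let eR : T ≅ T' := (Arrow.rightFunc).mapIso e
  have hw : eL.hom ≫ φ' = φ ≫ eR.hom := e.hom.w
  have hker : RingHom.ker φ'.hom =
      (RingHom.ker φ.hom).map (eL.commRingCatIsoToRingEquiv : R →+* R') := by
    ext x
    obtain ⟨y, rfl⟩ := eL.commRingCatIsoToRingEquiv.surjective x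
    rw [RingHom.mem_ker]
    have h1 : φ'.hom (eL.commRingCatIsoToRingEquiv y) = eR.hom.hom (φ.hom y) := by
      have := congrArg (fun g => g.hom y) hw
      exact this
    rw [h1]
    constructor
    · intro h0
      have h2 : φ.hom y = 0 := by
        have := congrArg eR.inv.hom h0
        simpa using this
      exact Ideal.mem_map_of_mem _ (RingHom.mem_ker.mpr h2)
    · intro hy
      have h3 : y ∈ RingHom.ker φ.hom := by
        have := (Ideal.mem_map_of_equiv (eL.commRingCatIsoToRingEquiv) _).mp hy
        obtain ⟨z, hz, hzy⟩ := this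
        rw [eL.commRingCatIsoToRingEquiv.injective hzy] at hz
        exact hz
      rw [RingHom.mem_ker.mp h3, map_zero]
  rw [hker]
  exact isRegularIdeal_map_ringEquiv _ _ h

open CAlgX in
/-- A regular sequence is `H_1`-regular. -/
theorem isH1Regular_of_isRegular {A : Type u} [CommRing A] (rs : List A)
    (h : IsWeaklyRegular A rs) : IsH1Regular rs.get := by
  have h1 : LCI.IsKoszulRegularSeq A rs :=
    Groth.Agent.Lib.Helper1.SecReg.isKoszulRegularSeq_of_isWeaklyRegular rs h
  exact fun a ha => H10KL.h1_of_isZero_homology A rs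
    (h1 (-1) (by norm_num)) a ha

end Groth.Agent.Lib.Helper22.SmReg
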