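import Mathlib
import Groth.Agent.Lib.Helper22.SmRegA
import Groth.Agent.Lib.Helper22.RelRegBC

/-! Smoothness of the ambient scheme from a smooth closed subscheme cut out, at the level of local
rings, by a regular sequence (helper22). -/

universe u

set_option linter.style.haveILetI false

namespace Groth.Agent.Lib.Helper22.SmReg

open CategoryTheory CategoryTheory.Limits AlgebraicGeometry TopologicalSpace RingTheory.Sequence
open Groth.Agent.Lib.Helper1

section Ring

variable {A B C : Type u} [CommRing A] [CommRing B] [CommRing C] [Algebra A B] [Algebra B C]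
  [Algebra A C] [IsScalarTower A B C] [Algebra.FinitePresentation A B]

theorem isSmoothAt_of_regular_local (hBC : Function.Surjective (algebraMap B C))
    (𝔮' : Ideal C) [𝔮'.IsPrime] (𝔮 : Ideal B) [𝔮.IsPrime]
    (h𝔮 : 𝔮 = 𝔮'.comap (algebraMap B C))
    (rs : List (Localization.AtPrime 𝔮)) (hrs : IsWeaklyRegular (Localization.AtPrime 𝔮) rs)
    (hker : RingHom.ker (Localization.localRingHom 𝔮 𝔮' (algebraMap B C) h𝔮) = Ideal.ofList rs)
    (hsm : Algebra.IsSmoothAt A 𝔮') : Algebra.IsSmoothAt A 𝔮 := by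
  classical
  have hT : Submonoid.map (algebraMap B C) 𝔮.primeCompl = 𝔮'.primeCompl := by
    ext x
    constructor
    · rintro ⟨b, hb, rfl⟩
      intro hx
      exact hb (by rw [h𝔮]; exact hx)
    · intro hx
      obtain ⟨b, rfl⟩ := hBC x
      exact ⟨b, fun hb => hx (by rw [h𝔮] at hb; exact hb), rfl⟩
  have hy : 𝔮.primeCompl ≤ Submonoid.comap (algebraMap B C) 𝔮'.primeCompl := by
    rw [← hT]; exact Submonoid.le_comap_map _
  let S := Localization.AtPrime 𝔮
  let T := Localization.AtPrime 𝔮'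
  let g : S →+* T := Localization.localRingHom 𝔮 𝔮' (algebraMap B C) h𝔮
  have hgsurj : Function.Surjective g :=
    SmoothRegQuot.map_surjective_of_map_eq (algebraMap B C) hBC _ _ hT S T hy
  have hgS : ∀ b : B, g (algebraMap B S b) = algebraMap C T (algebraMap B C b) :=
    fun b => Localization.localRingHom_to_map _ _ _ _ b
  letI : Algebra S T := g.toAlgebra
  haveI : IsScalarTower A S T := IsScalarTower.of_algebraMap_eq fun a => by
    change algebraMap A T a = g (algebraMap A S a)
    rw [IsScalarTower.algebraMap_apply A B S, hgS, ← IsScalarTower.algebraMap_apply A B C,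
      ← IsScalarTower.algebraMap_apply A C T]
  obtain ⟨n, M', fP, hf₁, hfP⟩ :=
    SmoothRegQuot.exists_presentation (R := A) (P := B) (S := S) 𝔮.primeCompl
  letI : Algebra (Localization M') S := fP.toRingHom.toAlgebra
  haveI : IsScalarTower A (Localization M') S :=
    IsScalarTower.of_algebraMap_eq' fP.comp_algebraMap.symm
  letI : Algebra (Localization M') T :=
    ((algebraMap S T).comp (algebraMap (Localization M') S)).toAlgebra
  haveI : IsScalarTower (Localization M') S T := IsScalarTower.of_algebraMap_eq' rfl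
  haveI : IsScalarTower A (Localization M') T :=
    IsScalarTower.of_algebraMap_eq (R := A) (S := Localization M') (A := T) fun a => by
    change algebraMap A T a = algebraMap S T (algebraMap (Localization M') S
      (algebraMap A (Localization M') a))
    rw [← IsScalarTower.algebraMap_apply A (Localization M') S,
      ← IsScalarTower.algebraMap_apply A S T]
  haveI : Algebra.FormallyEtale (MvPolynomial (Fin n) A) (Localization M') :=
    .of_isLocalization M'
  haveI : Algebra.FormallySmooth A (Localization M') := .comp _ (MvPolynomial (Fin n) A) _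
  haveI : Module.Free (Localization M') Ω[Localization M'⁄A] :=
    .of_equiv (KaehlerDifferential.tensorKaehlerEquivOfFormallyEtale A (MvPolynomial (Fin n) A)
      (Localization M'))
  haveI : Algebra.FormallySmooth A T := hsm
  have hgker : RingHom.ker (algebraMap S T) = Ideal.span (Set.range rs.get) := by
    rw [Groth.Agent.Lib.Helper22.RelRegBC.span_range_get]
    exact hker
  exact SmoothRegQuot.formallySmooth_of_h1_quotient (R := A) (P := Localization M') (S := S)
    (T := T) hf₁ hfP hgsurj rs.get (isH1Regular_of_isRegular rs hrs) hgker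

end Ring

theorem mem_smoothLocus_of_regular {X Y S : Scheme.{u}} (f : X ⟶ S) (j : Y ⟶ X)
    [LocallyOfFinitePresentation f] [LocallyOfFinitePresentation (j ≫ f)] [IsClosedImmersion j]
    (y : Y) (hy : y ∈ (j ≫ f).smoothLocus)
    (hreg : CInt.IsRegularIdeal (RingHom.ker (j.stalkMap y).hom)) : j y ∈ f.smoothLocus := by
  obtain ⟨_, ⟨W, hW, rfl⟩, hsW, -⟩ :=
    S.isBasis_affineOpens.exists_subset_of_mem_open (Set.mem_univ (f (j y))) isOpen_univ
  obtain ⟨_, ⟨U', hU', rfl⟩, hx, hU'W⟩ :=
    X.isBasis_affineOpens.exists_subset_of_mem_open hsW (W.2.preimage f.continuous)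
  have hV' : IsAffineOpen (j ⁻¹ᵁ U') := hU'.preimage j
  have hV'W : j ⁻¹ᵁ U' ≤ (j ≫ f) ⁻¹ᵁ W := fun z hz => hU'W hz
  have hyV : y ∈ j ⁻¹ᵁ U' := hx
  have h1 := (formallySmooth_stalkMap_iff W hW (j ⁻¹ᵁ U') hV' hV'W hyV).mp hy
  refine (formallySmooth_stalkMap_iff W hW U' hU' hU'W hx).mpr ?_
  letI : Algebra Γ(S, W) Γ(X, U') := (f.appLE W U' hU'W).hom.toAlgebra
  letI : Algebra Γ(X, U') Γ(Y, j ⁻¹ᵁ U') := (j.appLE U' (j ⁻¹ᵁ U') le_rfl).hom.toAlgebra
  letI : Algebra Γ(S, W) Γ(Y, j ⁻¹ᵁ U') := ((j ≫ f).appLE W (j ⁻¹ᵁ U') hV'W).hom.toAlgebra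
  haveI : IsScalarTower Γ(S, W) Γ(X, U') Γ(Y, j ⁻¹ᵁ U') := IsScalarTower.of_algebraMap_eq' (by
    change ((j ≫ f).appLE W (j ⁻¹ᵁ U') hV'W).hom =
      (j.appLE U' (j ⁻¹ᵁ U') le_rfl).hom.comp (f.appLE W U' hU'W).hom
    rw [← CommRingCat.hom_comp, Scheme.Hom.appLE_comp_appLE])
  haveI : Algebra.FinitePresentation Γ(S, W) Γ(X, U') := f.finitePresentation_appLE hW hU' hU'W
  have happ : j.appLE U' (j ⁻¹ᵁ U') le_rfl = j.app U' := (Scheme.Hom.app_eq_appLE j).symm
  have hsurj : Function.Surjective (algebraMap Γ(X, U') Γ(Y, j ⁻¹ᵁ U')) := by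
    change Function.Surjective (j.appLE U' (j ⁻¹ᵁ U') le_rfl).hom
    rw [happ]
    exact j.app_surjective U' hU'
  have h𝔮 := congr($(IsAffineOpen.comap_primeIdealOf_appLE U' hU' (j ⁻¹ᵁ U') hV' le_rfl hyV).1).symm
  have e := IsAffineOpen.arrowStalkMapIso j U' hU' (j ⁻¹ᵁ U') hV' le_rfl hyV
  obtain ⟨rs, hrs, hker⟩ := isRegularIdeal_ker_of_arrowIso _ _ e hreg
  exact isSmoothAt_of_regular_local (A := Γ(S, W)) (B := Γ(X, U')) (C := Γ(Y, j ⁻¹ᵁ U')) hsurj
    _ _ h𝔮 rs hrs.1 hker.symm h1

end Groth.Agent.Lib.Helper22.SmReg
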