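import Mathlib
import Groth.Agent.Lib.Helper22.SmRegA
import Groth.Agent.Lib.Helper22.RegStalk
import Groth.Agent.Lib.Helper1.SmDesc3
import Groth.Agent.Lib.Helper1.RegMore
import Groth.Agent.Lib.Helper1.KoszulConcat
import Groth.Agent.Lib.Helper24.CICover

/-! A smooth closed subscheme of a scheme smooth over the base is regularly immersed, at the
level of local rings (helper22). -/

universe u

set_option linter.style.haveILetI false

namespace Groth.Agent.Lib.Helper22.SmReg

open CategoryTheory CategoryTheory.Limits AlgebraicGeometry TopologicalSpace RingTheory.Sequence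
open Groth.Agent.Lib.Helper1 Groth.Agent.Lib.Helper22.RegStalk

/-- A Koszul-regular immersion into a locally Noetherian scheme: the kernel of each stalk map is
generated by a regular sequence. -/
theorem isRegularIdeal_ker_stalkMap_of_koszul {Z X : Scheme.{u}} [IsLocallyNoetherian X]
    (i : Z ⟶ X) (h : RegImm.IsRegularImmersion RegImm.Kind.koszul i) (z : Z) :
    CInt.IsRegularIdeal (RingHom.ker (i.stalkMap z).hom) := by
  obtain ⟨U, hzU, hcl, rs, hrs, hker⟩ := h.2 z
  have hrs' : LCI.IsKoszulRegularSeq Γ(X, U.1) rs := hrs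
  haveI := hcl
  have hU : IsAffineOpen U.1 := U.2
  have hV := isAffineOpen_preimage_of_isClosedImmersion_restrict i hU
  have hsurj := app_surjective_of_isClosedImmersion_restrict i hU
  letI alg := X.presheaf.algebra_section_stalk ⟨i z, hzU⟩
  have loc := hU.isLocalization_stalk ⟨i z, hzU⟩
  have hJ : RingHom.ker (i.stalkMap z).hom =
      (Ideal.ofList rs).map (algebraMap Γ(X, U.1) (X.presheaf.stalk (i z))) := by
    rw [← hker]
    exact ker_stalkMap_eq_map_ker' i hU hV hsurj z hzU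
  have hJtop : RingHom.ker (i.stalkMap z).hom ≠ ⊤ := RingHom.ker_ne_top _
  haveI : Module.Flat Γ(X, U.1) (X.presheaf.stalk (i z)) :=
    IsLocalization.flat _ (hU.primeIdealOf ⟨i z, hzU⟩).asIdeal.primeCompl
  have hK : LCI.IsKoszulRegularSeq (X.presheaf.stalk (i z))
      (rs.map (algebraMap Γ(X, U.1) (X.presheaf.stalk (i z)))) :=
    KoszulConcat.isKoszulRegularSeq_map_of_flat rs hrs'
  rw [Ideal.map_ofList] at hJ
  refine ⟨_, Groth.Agent.Lib.Helper24.CICover.isRegular_of_koszul _ hK ?_, hJ.symm⟩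
  rw [← hJ]
  exact hJtop

theorem isRegularIdeal_of_mem_smoothLocus {X Y S : Scheme.{u}} [IsLocallyNoetherian X]
    (f : X ⟶ S) (j : Y ⟶ X) [LocallyOfFinitePresentation f]
    [LocallyOfFinitePresentation (j ≫ f)] [IsClosedImmersion j]
    (y : Y) (hy : y ∈ (j ≫ f).smoothLocus) (hx : j y ∈ f.smoothLocus) :
    CInt.IsRegularIdeal (RingHom.ker (j.stalkMap y).hom) := by
  let UX := f.smoothLocus
  let W : Y.Opens := (j ≫ f).smoothLocus ⊓ j ⁻¹ᵁ UX
  have hyW : y ∈ W := ⟨hy, hx⟩
  haveI hsmX : Smooth (UX.ι ≫ f) := by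
    rw [← Scheme.Hom.smoothLocus_eq_top_iff, ← Scheme.Hom.preimage_smoothLocus_eq,
      Scheme.Opens.ι_preimage_self]
  haveI hlfp : LocallyOfFinitePresentation (W.ι ≫ j ≫ f) := inferInstance
  haveI hsmW : Smooth (W.ι ≫ j ≫ f) := by
    rw [← Scheme.Hom.smoothLocus_eq_top_iff, ← Scheme.Hom.preimage_smoothLocus_eq]
    ext z
    constructor
    · intro _; trivial
    · intro _; exact z.2.1
  have hrange : Set.range (W.ι ≫ j).base ⊆ Set.range UX.ι.base := by
    rintro _ ⟨z, rfl⟩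
    rw [Scheme.Opens.range_ι]
    exact z.2.2
  let i : (W : Scheme.{u}) ⟶ (UX : Scheme.{u}) := IsOpenImmersion.lift UX.ι (W.ι ≫ j) hrange
  have hi : i ≫ UX.ι = W.ι ≫ j := IsOpenImmersion.lift_fac _ _ _
  haveI : IsImmersion (i ≫ UX.ι) := by rw [hi]; infer_instance
  haveI : IsImmersion i := IsImmersion.of_comp i UX.ι
  have hK : ∀ w : (W : Scheme.{u}), Synt.IsKoszulAt (W.ι ≫ j ≫ f) w := by
    intro w
    haveI : IsIso (⊤ : (W : Scheme.{u}).Opens).ι :=
      inferInstanceAs (IsIso (W : Scheme.{u}).topIso.hom)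
    exact ⟨⊤, W, (⊤ : (W : Scheme.{u}).Opens).ι, W.ι ≫ j ≫ f, trivial, inferInstance,
      RegMore.isRegularImmersion_of_isIso _, inferInstance, rfl⟩
  have hreg := SmDesc.isRegularImmersion_of_isKoszulAt (W.ι ≫ j ≫ f) hK (UX.ι ≫ f) i
    (by rw [← Category.assoc, hi, Category.assoc])
  haveI : IsLocallyNoetherian (UX : Scheme.{u}) := isLocallyNoetherian_of_isOpenImmersion UX.ι
  let w₀ : (W : Scheme.{u}) := ⟨y, hyW⟩
  have h1 := isRegularIdeal_ker_stalkMap_of_koszul i hreg w₀
  have key : CInt.IsRegularIdeal (RingHom.ker (j.stalkMap (W.ι w₀)).hom) := by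
    refine isRegularIdeal_ker_of_arrowIso (i.stalkMap w₀) (j.stalkMap (W.ι w₀)) ?_ h1
    haveI : IsIso (UX.ι.stalkMap (i w₀)) := inferInstance
    haveI : IsIso (W.ι.stalkMap w₀) := inferInstance
    have hpt : (i ≫ UX.ι) w₀ = (W.ι ≫ j) w₀ := by rw [hi]
    let b := X.presheaf.stalkCongr (.of_eq hpt)
    refine Arrow.isoMk ((asIso (UX.ι.stalkMap (i w₀))).symm ≪≫ b)
      (asIso (W.ι.stalkMap w₀)).symm ?_
    simp only [Iso.trans_hom, Iso.symm_hom, asIso_inv, Category.assoc, Arrow.mk_hom]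
    rw [IsIso.inv_comp_eq, ← Category.assoc, IsIso.eq_comp_inv, Category.assoc,
      ← Scheme.Hom.stalkMap_comp, ← Scheme.Hom.stalkMap_comp]
    exact (Scheme.Hom.stalkMap_congr_hom _ _ hi w₀).symm
  exact key

end Groth.Agent.Lib.Helper22.SmReg
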