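import Mathlib
import Groth.Agent.Lib.Helper6.FiberStalkIso
import Groth.Agent.Lib.Helper26.RegularSch
import Groth.Agent.Lib.Helper4.RegCM
import Groth.Agent.Lib.Helper4.FlatRing

/-!
# The closed fibre ring of a morphism smooth at a point is regular (helper22)
-/

set_option autoImplicit false
set_option linter.style.haveILetI false
set_option linter.unusedSectionVars false
universe u
open CategoryTheory CategoryTheory.Limits AlgebraicGeometry TopologicalSpace

namespace Groth.Agent.Lib.Helper22.SmoothFibre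

/-- The restriction of the fibre to the smooth locus is smooth over the residue field. -/
theorem smooth_fibre_restrict {X Y : Scheme.{u}} (f : X ⟶ Y) (y : Y) (U : X.Opens)
    [Smooth (U.ι ≫ f)] :
    Smooth (((f.fiberι y) ⁻¹ᵁ U).ι ≫ f.fiberToSpecResidueField y) := by
  have h1 := isPullback_morphismRestrict (f.fiberι y) U
  have h2 : IsPullback (f.fiberι y) (f.fiberToSpecResidueField y) f
      (Y.fromSpecResidueField y) := IsPullback.of_hasPullback f (Y.fromSpecResidueField y)
  have h3 := h1.paste_vert h2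
  exact MorphismProperty.of_isPullback (P := @Smooth) h3 inferInstance

/-- The closed fibre ring `𝒪_{X,x} ⧸ 𝔪_y 𝒪_{X,x}` of a morphism smooth near `x` is a regular
local ring. -/
theorem isRegularLocalRing_fibreQuot {X Y : Scheme.{u}} (f : X ⟶ Y) (x : X) (U : X.Opens)
    (hxU : x ∈ U) [Smooth (U.ι ≫ f)] :
    IsRegularLocalRing (X.presheaf.stalk x ⧸
      (IsLocalRing.maximalIdeal (Y.presheaf.stalk (f.base x))).map (f.stalkMap x).hom) := by
  set y := f.base x with hy
  let V : (f.fiber y).Opens := (f.fiberι y) ⁻¹ᵁ U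
  haveI := smooth_fibre_restrict f y U
  have hx' : f.asFiber x ∈ V := by
    show (f.fiberι y).base (f.asFiber x) ∈ U
    rw [Scheme.Hom.fiberι_asFiber]
    exact hxU
  have hreg : IsRegularLocalRing (V.toScheme.presheaf.stalk ⟨f.asFiber x, hx'⟩) :=
    Groth.Agent.Lib.Helper26.RegularSch.isRegularLocalRing_stalk_of_smooth_field
      (Y.residueField y) (V.ι ≫ f.fiberToSpecResidueField y) ⟨f.asFiber x, hx'⟩
  let e : (f.fiber y).presheaf.stalk (f.asFiber x) ≃+*
      V.toScheme.presheaf.stalk ⟨f.asFiber x, hx'⟩ :=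
    (asIso (V.ι.stalkMap ⟨f.asFiber x, hx'⟩)).commRingCatIsoToRingEquiv
  have hreg2 : IsRegularLocalRing ((f.fiber y).presheaf.stalk (f.asFiber x)) :=
    IsRegularLocalRing.of_ringEquiv e.symm
  exact IsRegularLocalRing.of_ringEquiv (Groth.Agent.Lib.Helper6.fiberStalkEquiv f x)

end Groth.Agent.Lib.Helper22.SmoothFibre
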