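import Mathlib
import Groth.Agent.Lib.Helper8.SmoothNormal

/-!
# Integral elements of a smooth algebra over a field have zero differential

* `D_eq_zero_of_perfect`: `L` perfect field, `B'` reduced `L`-algebra, `b'` integral over `L`
  ⇒ `D L B' b' = 0`.
* `isReduced_of_smooth_field`: a smooth algebra over a field is reduced.
* `D_eq_zero_of_isIntegral`: `k` field, `B` smooth over `k`, `b` integral over `k` ⇒ `D k B b = 0`.
* `D_eq_zero_of_ringHom`: `RingHom` form over a ring which `IsField`.
-/

set_option autoImplicit false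
universe u
open TensorProduct Polynomial

namespace Groth.Agent.Lib.Helper22.SmoothIntD

theorem D_eq_zero_of_perfect (L B' : Type*) [Field L] [PerfectField L] [CommRing B'] [Algebra L B']
    [IsReduced B'] (b' : B') (hb : IsIntegral L b') : KaehlerDifferential.D L B' b' = 0 := by
  by_cases hnt : Nontrivial B'
  swap
  · haveI : Subsingleton B' := not_nontrivial_iff_subsingleton.mp hnt
    haveI : Subsingleton (Ω[B'⁄L]) := Module.subsingleton B' _
    exact Subsingleton.elim _ _
  set Q := minpoly L b' with hQ
  have hQ0 : Q ≠ 0 := minpoly.ne_zero hb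
  have hsq : Squarefree Q := by
    intro R hR
    obtain ⟨S, hS⟩ := hR
    have h1 : aeval b' (R * S) = 0 := by
      have h2 : (aeval b' (R * S)) ^ 2 = 0 := by
        have h3 : (R * S) ^ 2 = Q * S := by rw [hS]; ring
        rw [← map_pow, h3, map_mul, hQ, minpoly.aeval, zero_mul]
      exact IsReduced.eq_zero _ ⟨2, h2⟩
    have h2 : Q ∣ R * S := minpoly.dvd L b' h1
    have hRS : R * S ≠ 0 := by
      intro h
      apply hQ0
      rw [hS, mul_assoc, h, mul_zero]
    rw [hS, mul_assoc] at h2
    obtain ⟨c, hc⟩ := h2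
    have h4 : (R * S) * 1 = (R * S) * (R * c) := by
      rw [mul_one]
      nth_rewrite 1 [hc]
      ring
    have h5 := mul_left_cancel₀ hRS h4
    exact IsUnit.of_mul_eq_one c h5.symm
  have hsep : Q.Separable := PerfectField.separable_iff_squarefree.mpr hsq
  obtain ⟨u, v, huv⟩ := hsep
  have h3 : aeval b' v * aeval b' (derivative Q) = 1 := by
    have h := congrArg (aeval b') huv
    rw [map_add, map_mul, map_mul, hQ, minpoly.aeval, mul_zero, zero_add, map_one] at h
    exact h
  have h4 : aeval b' (derivative Q) • KaehlerDifferential.D L B' b' = 0 := by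
    rw [← Derivation.map_aeval, hQ, minpoly.aeval, map_zero]
  calc KaehlerDifferential.D L B' b'
      = (aeval b' v * aeval b' (derivative Q)) • KaehlerDifferential.D L B' b' := by
        rw [h3, one_smul]
    _ = 0 := by rw [mul_smul, h4, smul_zero]

theorem isReduced_of_smooth_field (L B' : Type u) [Field L] [CommRing B'] [Algebra L B']
    [Algebra.Smooth L B'] : IsReduced B' := by
  apply isReduced_ofLocalizationMaximal
  intro J hJ
  haveI := hJ.isPrime
  haveI : IsDomain (Localization.AtPrime J) :=
    (Groth.Agent.Lib.Helper8.SmoothNormal.isDomain_isIntegrallyClosed_of_smooth L B' J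
      (Localization.AtPrime J)).1
  infer_instance

attribute [local instance] Algebra.TensorProduct.rightAlgebra in
theorem D_eq_zero_of_isIntegral (k B : Type u) [Field k] [CommRing B] [Algebra k B]
    [Algebra.Smooth k B] (b : B) (hb : IsIntegral k b) : KaehlerDifferential.D k B b = 0 := by
  let L := AlgebraicClosure k
  haveI : IsReduced (L ⊗[k] B) := isReduced_of_smooth_field L (L ⊗[k] B)
  have h1 : IsIntegral k ((1 : L) ⊗ₜ[k] b : L ⊗[k] B) :=
    hb.map (Algebra.TensorProduct.includeRight : B →ₐ[k] L ⊗[k] B)
  have hb' : IsIntegral L ((1 : L) ⊗ₜ[k] b : L ⊗[k] B) := h1.tower_top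
  have h0 := D_eq_zero_of_perfect L (L ⊗[k] B) _ hb'
  have h2 : KaehlerDifferential.tensorKaehlerEquivBase k L B (L ⊗[k] B)
      ((1 : L) ⊗ₜ[k] KaehlerDifferential.D k B b) = 0 := by
    rw [KaehlerDifferential.tensorKaehlerEquivBase_tmul, one_smul, KaehlerDifferential.map_D]
    exact h0
  have h3 : (1 : L) ⊗ₜ[k] KaehlerDifferential.D k B b = 0 :=
    (KaehlerDifferential.tensorKaehlerEquivBase k L B (L ⊗[k] B)).injective
      (h2.trans (map_zero _).symm)
  have hinj := Module.Flat.tensorProduct_mk_injective k (Ω[B⁄k]) L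
  apply hinj
  rw [map_zero]
  exact h3

theorem D_eq_zero_of_isField (A B : Type u) [CommRing A] [CommRing B] [Algebra A B]
    (hA : IsField A) [Algebra.Smooth A B] (b : B) (hb : IsIntegral A b) :
    KaehlerDifferential.D A B b = 0 := by
  letI := hA.toField
  exact D_eq_zero_of_isIntegral A B b hb

theorem D_eq_zero_of_ringHom {A B : Type u} [CommRing A] [CommRing B] (φ : A →+* B)
    (hA : IsField A) (hφ : φ.Smooth) (b : B) (hb : φ.IsIntegralElem b) :
    letI := φ.toAlgebra
    KaehlerDifferential.D A B b = 0 := by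
  let _ := φ.toAlgebra
  haveI : Algebra.Smooth A B := hφ
  exact D_eq_zero_of_isField A B hA b hb

end Groth.Agent.Lib.Helper22.SmoothIntD
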