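import Mathlib
import Groth.Agent.Lib.Helper22.SmoothRank3
import Groth.Agent.Lib.Helper12.Chevalley
import Groth.Agent.Lib.Helper12.ChevalleyCor
import Groth.Agent.Lib.Helper12.ValDim4
import Groth.Agent.Lib.Helper24.FibreLocDim

/-!
# Smoothness specializes when the fibre rank of differentials does not jump (helper22)

`isSmoothAt_of_le`: `A` flat of finite presentation over `R`, `q ≤ p` primes of `A`, `A` smooth
over `R` at `q`, and `dim κ(p) ⊗ Ω ≤ dim κ(q) ⊗ Ω`; then `A` is smooth over `R` at `p`.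
(Chevalley semicontinuity of the fibre dimension plus the fibre rank criterion.)
-/

set_option autoImplicit false
set_option maxHeartbeats 1600000
set_option linter.style.haveILetI false
universe u

open TensorProduct

namespace Groth.Agent.Lib.Helper22.SmoothSpec

open Groth.Agent.Lib.Helper12 Groth.Agent.Lib.Helper12.TopFibreDim

theorem exists_nat_eq (t : WithBot ℕ∞) (m : ℕ) (h0 : 0 ≤ t) (hm : t ≤ (m : WithBot ℕ∞)) :
    ∃ n : ℕ, t = (n : WithBot ℕ∞) := by
  induction t using WithBot.recBotCoe with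
  | bot => exact absurd h0 (not_le.mpr (WithBot.bot_lt_coe 0))
  | coe a =>
    induction a using ENat.recTopCoe with
    | top =>
      exfalso
      have h1 : ((⊤ : ℕ∞) : WithBot ℕ∞) ≤ ((m : ℕ∞) : WithBot ℕ∞) := hm
      rw [WithBot.coe_le_coe] at h1
      exact absurd h1 (not_le.mpr (ENat.coe_lt_top m))
    | coe n => exact ⟨n, rfl⟩

theorem exists_topFibreDim_eq (R A : Type u) [CommRing R] [CommRing A] [Algebra R A]
    [Algebra.FiniteType R A] (q : PrimeSpectrum A) :
    ∃ n : ℕ, topFibreDim (PrimeSpectrum.comap (algebraMap R A)) q = (n : WithBot ℕ∞) := by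
  obtain ⟨m, φ, hφs⟩ := Algebra.FiniteType.iff_quotient_mvPolynomial''.mp
    (inferInstance : Algebra.FiniteType R A)
  have h1 := ChevalleyCor.topFibreDim_le_of_surjective m φ hφs q
  have h0 : 0 ≤ topFibreDim (PrimeSpectrum.comap (algebraMap R A)) q :=
    Groth.Agent.Lib.Helper12.ValDim.zero_le_localDim _
  exact exists_nat_eq _ m h0 h1

theorem isSmoothAt_iff_finrank_le_topFibreDim (R A : Type u) [CommRing R] [CommRing A]
    [Algebra R A] [Algebra.FinitePresentation R A] (q : PrimeSpectrum A)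
    [Module.Flat R (Localization.AtPrime q.asIdeal)] (d : ℕ)
    (hdim : topFibreDim (PrimeSpectrum.comap (algebraMap R A)) q = (d : WithBot ℕ∞)) :
    Algebra.IsSmoothAt R q.asIdeal ↔
      Module.finrank q.asIdeal.ResidueField (q.asIdeal.ResidueField ⊗[A] Ω[A⁄R]) ≤ d := by
  rw [Groth.Agent.Lib.Helper24.FibreLocDim.topFibreDim_eq] at hdim
  have hQq := congrArg PrimeSpectrum.asIdeal (Chevalley.comap_includeRight_apply
    (PrimeSpectrum.comap (algebraMap R A) q) q rfl)
  exact Groth.Agent.Lib.Helper22.SmoothRank.isSmoothAt_iff_finrank_le' R A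
    (PrimeSpectrum.comap (algebraMap R A) q).asIdeal
    (PrimeSpectrum.preimageHomeomorphFiber R A
      (PrimeSpectrum.comap (algebraMap R A) q) ⟨q, rfl⟩).asIdeal q.asIdeal hQq d hdim

/-- smoothness specializes when the fibre rank of differentials does not jump. -/
theorem isSmoothAt_of_le (R A : Type u) [CommRing R] [CommRing A] [Algebra R A]
    [Algebra.FinitePresentation R A] [Module.Flat R A]
    (q p : Ideal A) [hq : q.IsPrime] [hp : p.IsPrime] (hqp : q ≤ p)
    (hsm : Algebra.IsSmoothAt R q)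
    (hrank : Module.finrank p.ResidueField (p.ResidueField ⊗[A] Ω[A⁄R]) ≤
      Module.finrank q.ResidueField (q.ResidueField ⊗[A] Ω[A⁄R])) :
    Algebra.IsSmoothAt R p := by
  haveI : Algebra.FiniteType R A := inferInstance
  obtain ⟨n, hn⟩ := exists_topFibreDim_eq R A ⟨p, hp⟩
  obtain ⟨m, hm⟩ := exists_topFibreDim_eq R A ⟨q, hq⟩
  have hmn : m ≤ n := by
    have hopen := Chevalley.isOpen_setOf_topFibreDim_le (A := R) (B := A) n
    have hspec : (⟨q, hq⟩ : PrimeSpectrum A) ⤳ ⟨p, hp⟩ :=
      (PrimeSpectrum.le_iff_specializes _ _).mp hqp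
    have hmem : (⟨q, hq⟩ : PrimeSpectrum A) ∈
        {x | topFibreDim (PrimeSpectrum.comap (algebraMap R A)) x ≤ (n : WithBot ℕ∞)} :=
      hspec.mem_open hopen (by show topFibreDim (PrimeSpectrum.comap (algebraMap R A)) ⟨p, hp⟩ ≤ (n : WithBot ℕ∞); rw [hn])
    have h3 : (m : WithBot ℕ∞) ≤ n := by rw [← hm]; exact hmem
    exact_mod_cast h3
  haveI : Module.Flat R (Localization.AtPrime q) := Module.Flat.trans R A _
  haveI : Module.Flat R (Localization.AtPrime p) := Module.Flat.trans R A _
  have kq := (isSmoothAt_iff_finrank_le_topFibreDim R A ⟨q, hq⟩ m hm).mp hsm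
  exact (isSmoothAt_iff_finrank_le_topFibreDim R A ⟨p, hp⟩ n hn).mpr
    (hrank.trans (kq.trans hmn))

end Groth.Agent.Lib.Helper22.SmoothSpec
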