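import Mathlib

/-!
# Splitting of commutative extensions with a scheme-theoretic section whose factor set is constant
-/

set_option autoImplicit false
universe v u

open CategoryTheory MonoidalCategory CartesianMonoidalCategory MonObj GrpObj Limits

namespace Groth.Agent.Lib.Helper22

variable {C : Type u} [Category.{v} C] [CartesianMonoidalCategory C]

/-- A multiplicative map between group objects is a monoid homomorphism. -/
theorem isMonHom_of_mul {B G : C} [GrpObj B] [GrpObj G] (s : B ⟶ G)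
    (hmul : μ[B] ≫ s = (fst B B ≫ s) * (snd B B ≫ s)) : IsMonHom s := by
  refine ⟨?_, ?_⟩
  · have h1 : lift η[B] η[B] ≫ μ[B] = η[B] := by
      rw [← Hom.mul_def, MonObj.one_eq_one, _root_.one_mul]
    have h2 : (η[B] ≫ s) * (η[B] ≫ s) = η[B] ≫ s := by
      calc (η[B] ≫ s) * (η[B] ≫ s)
          = lift η[B] η[B] ≫ ((fst B B ≫ s) * (snd B B ≫ s)) := by
            rw [MonObj.comp_mul, lift_fst_assoc, lift_snd_assoc]
        _ = η[B] ≫ s := by rw [← hmul, ← Category.assoc, h1]
    rw [MonObj.one_eq_one (M := G)]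
    exact mul_eq_left.mp h2
  · rw [hmul, Hom.mul_def, tensorHom_def']
    congr 1
    ext <;> simp

/-- If `i` is the kernel of the homomorphism `π` of commutative group objects, `π` has a section `s`
and every map `B ⊗ B ⟶ L` is constant, then `π` has a homomorphic section. -/
theorem exists_hom_section [BraidedCategory C] {L G B : C} [GrpObj L] [GrpObj G] [GrpObj B]
    [IsCommMonObj G] [IsCommMonObj B]
    (i : L ⟶ G) (π : G ⟶ B) [IsMonHom π] (hker : IsPullback i (toUnit L) π η[B])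
    (hconst : ∀ f : B ⊗ B ⟶ L, ∃ l : 𝟙_ C ⟶ L, f = toUnit (B ⊗ B) ≫ l)
    (s : B ⟶ G) (hs : s ≫ π = 𝟙 B) :
    ∃ s' : B ⟶ G, IsMonHom s' ∧ s' ≫ π = 𝟙 B := by
  let c : B ⊗ B ⟶ G := (μ[B] ≫ s) * (fst B B ≫ s)⁻¹ * (snd B B ≫ s)⁻¹
  have hc : c ≫ π = toUnit (B ⊗ B) ≫ η[B] := by
    rw [← Hom.one_def]
    simp only [c, MonObj.mul_comp, GrpObj.inv_comp, Category.assoc, hs, Category.comp_id]
    rw [MonObj.mul_eq_mul]
    rw [mul_comm (fst B B) (snd B B), mul_inv_cancel_right, mul_inv_cancel]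
  obtain ⟨l, hl⟩ := hconst (hker.lift c (toUnit _) hc)
  have hcE : c = toUnit (B ⊗ B) ≫ l ≫ i := by
    rw [← Category.assoc, ← hl, hker.lift_fst]
  have hiπ : (l ≫ i) ≫ π = η[B] := by
    rw [Category.assoc, hker.w, ← Category.assoc]
    have : l ≫ toUnit L = 𝟙 _ := toUnit_unique _ _
    rw [this, Category.id_comp]
  refine ⟨s * (toUnit B ≫ l ≫ i), ?_, ?_⟩
  · apply isMonHom_of_mul
    have hμs : μ[B] ≫ s = (toUnit (B ⊗ B) ≫ l ≫ i) * (snd B B ≫ s) * (fst B B ≫ s) := by
      rw [← hcE]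
      simp only [c]
      rw [inv_mul_cancel_right, inv_mul_cancel_right]
    have ht : ∀ (f : B ⊗ B ⟶ B), f ≫ toUnit B ≫ l ≫ i = toUnit (B ⊗ B) ≫ l ≫ i := by
      intro f
      rw [← Category.assoc]
      congr 1
      exact toUnit_unique _ _
    simp only [MonObj.comp_mul, ht, hμs]
    ac_rfl
  · rw [MonObj.mul_comp, hs, Category.assoc, hiπ, ← Hom.one_def, _root_.mul_one]

end Groth.Agent.Lib.Helper22
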