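import Mathlib
import Groth.Agent.Lib.Helper22.ClosedSpec

set_option autoImplicit false
set_option linter.style.haveILetI false
set_option linter.unusedSectionVars false

/-!
# The stalk at a generization is a localization of the stalk at a specialization
-/

universe u

namespace Groth.Agent.Lib.Helper22.StalkSpec

open AlgebraicGeometry CategoryTheory TopologicalSpace Groth.Agent.Lib.Helper22.ClosedSpec

theorem exists_ringEquiv_localization {X : Scheme.{u}} {x x' : X} (h : x ⤳ x') :
    ∃ (q : Ideal (X.presheaf.stalk x')) (_ : q.IsPrime),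
      Nonempty (Localization.AtPrime q ≃+* X.presheaf.stalk x) := by
  obtain ⟨_, ⟨W, hW, rfl⟩, hx'W, -⟩ :=
    X.isBasis_affineOpens.exists_subset_of_mem_open (Set.mem_univ x') isOpen_univ
  have hW' : IsAffineOpen W := hW
  have hxW : x ∈ W := h.mem_open W.isOpen hx'W
  set P := hW'.primeIdealOf ⟨x, hxW⟩ with hP
  set P' := hW'.primeIdealOf ⟨x', hx'W⟩ with hP'
  have hPP' : P.asIdeal ≤ P'.asIdeal := by
    rw [← fromSpec_specializes_iff hW', hW'.fromSpec_primeIdealOf, hW'.fromSpec_primeIdealOf]
    exact h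
  letI alg' : Algebra Γ(X, W) (X.presheaf.stalk x') :=
    TopCat.Presheaf.algebra_section_stalk X.presheaf ⟨x', hx'W⟩
  letI alg : Algebra Γ(X, W) (X.presheaf.stalk x) :=
    TopCat.Presheaf.algebra_section_stalk X.presheaf ⟨x, hxW⟩
  haveI loc' : IsLocalization.AtPrime (X.presheaf.stalk x') P'.asIdeal :=
    hW'.isLocalization_stalk ⟨x', hx'W⟩
  haveI loc : IsLocalization.AtPrime (X.presheaf.stalk x) P.asIdeal :=
    hW'.isLocalization_stalk ⟨x, hxW⟩
  have hdisj : Disjoint (P'.asIdeal.primeCompl : Set Γ(X, W)) (P.asIdeal : Set Γ(X, W)) := by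
    rw [Set.disjoint_left]
    intro a ha haP
    exact ha (hPP' haP)
  let q : Ideal (X.presheaf.stalk x') := Ideal.map (algebraMap Γ(X, W) (X.presheaf.stalk x')) P.asIdeal
  haveI hq : q.IsPrime :=
    IsLocalization.isPrime_of_isPrime_disjoint P'.asIdeal.primeCompl _ _ P.2 hdisj
  have hcomap : q.comap (algebraMap Γ(X, W) (X.presheaf.stalk x')) = P.asIdeal :=
    IsLocalization.comap_map_of_isPrime_disjoint P'.asIdeal.primeCompl _ P.2 hdisj
  refine ⟨q, hq, ?_⟩
  have h1 : IsLocalization.AtPrime (Localization.AtPrime q)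
      (q.comap (algebraMap Γ(X, W) (X.presheaf.stalk x'))) :=
    IsLocalization.isLocalization_isLocalization_atPrime_isLocalization P'.asIdeal.primeCompl
      (Localization.AtPrime q) q
  have hpc : (q.comap (algebraMap Γ(X, W) (X.presheaf.stalk x'))).primeCompl =
      P.asIdeal.primeCompl := by
    ext a
    rw [Ideal.mem_primeCompl_iff, Ideal.mem_primeCompl_iff, hcomap]
  have h2 : IsLocalization P.asIdeal.primeCompl (Localization.AtPrime q) := hpc ▸ h1
  exact ⟨(IsLocalization.algEquiv P.asIdeal.primeCompl (Localization.AtPrime q)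
    (X.presheaf.stalk x)).toRingEquiv⟩

end Groth.Agent.Lib.Helper22.StalkSpec
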