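import Mathlib

/-!
# Syntomic lifting, part A (helper22): slicing a lift of `A₀[X]` by lifts of the variables —
elementary algebra
-/

set_option autoImplicit false
set_option linter.style.haveILetI false

universe u

open MvPolynomial

namespace Groth.Agent.Lib.Helper22.SyLiftA

section Poly

variable {A₀ : Type u} [CommRing A₀] {σ : Type*}

/-- `X_k` is a nonzerodivisor modulo `(X_j : j ∈ s)` when `k ∉ s` -/
theorem X_mul_mem_span_X_image (s : Set σ) (k : σ) (hk : k ∉ s) (P : MvPolynomial σ A₀)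
    (h : X k * P ∈ Ideal.span ((X : σ → MvPolynomial σ A₀) '' s)) :
    P ∈ Ideal.span ((X : σ → MvPolynomial σ A₀) '' s) := by
  classical
  rw [mem_ideal_span_X_image] at h ⊢
  intro d hd
  have hd' : d + Finsupp.single k 1 ∈ (X k * P).support := by
    rw [mem_support_iff, mul_comm, coeff_mul_X]
    exact mem_support_iff.mp hd
  obtain ⟨i, his, hi⟩ := h _ hd'
  refine ⟨i, his, ?_⟩
  have hik : i ≠ k := fun h => hk (h ▸ his)
  rw [Finsupp.add_apply, Finsupp.single_apply, if_neg (Ne.symm hik), add_zero] at hi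
  exact hi

/-- `X_k` is a nonzerodivisor modulo `𝔟[X] + (X_j : j ∈ s)` when `k ∉ s` -/
theorem X_mul_mem_sup (𝔟 : Ideal A₀) (s : Set σ) (k : σ) (hk : k ∉ s) (P : MvPolynomial σ A₀)
    (h : X k * P ∈ 𝔟.map (C : A₀ →+* MvPolynomial σ A₀) ⊔
      Ideal.span ((X : σ → MvPolynomial σ A₀) '' s)) :
    P ∈ 𝔟.map (C : A₀ →+* MvPolynomial σ A₀) ⊔
      Ideal.span ((X : σ → MvPolynomial σ A₀) '' s) := by
  set μ : MvPolynomial σ A₀ →+* MvPolynomial σ (A₀ ⧸ 𝔟) := map (Ideal.Quotient.mk 𝔟) with hμ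
  have hμsurj : Function.Surjective μ := map_surjective _ Ideal.Quotient.mk_surjective
  have hμker : RingHom.ker μ = 𝔟.map (C : A₀ →+* MvPolynomial σ A₀) := by
    rw [hμ, ker_map, Ideal.mk_ker]
  have hμspan : (Ideal.span ((X : σ → MvPolynomial σ A₀) '' s)).map μ =
      Ideal.span ((X : σ → MvPolynomial σ (A₀ ⧸ 𝔟)) '' s) := by
    rw [Ideal.map_span, Set.image_image]
    congr 1
    ext x
    simp only [Set.mem_image, hμ, map_X]
  have key : ∀ x : MvPolynomial σ A₀, x ∈ 𝔟.map (C : A₀ →+* MvPolynomial σ A₀) ⊔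
      Ideal.span ((X : σ → MvPolynomial σ A₀) '' s) ↔
      μ x ∈ Ideal.span ((X : σ → MvPolynomial σ (A₀ ⧸ 𝔟)) '' s) := by
    intro x
    rw [← hμspan, ← Ideal.mem_comap, Ideal.comap_map_of_surjective μ hμsurj,
      ← RingHom.ker_eq_comap_bot, hμker, sup_comm]
  rw [key] at h ⊢
  rw [map_mul] at h
  have hX : μ (X k) = X k := by rw [hμ, map_X]
  rw [hX] at h
  exact X_mul_mem_span_X_image s k hk _ h

end Poly

section Loc

/-- a nonzerodivisor modulo an ideal stays one modulo the extended ideal in a localization -/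
theorem mul_mem_map_of_isLocalization {S : Type u} [CommRing S] (M : Submonoid S) (S' : Type u)
    [CommRing S'] [Algebra S S'] [IsLocalization M S'] (K : Ideal S) (a : S)
    (ha : ∀ e : S, a * e ∈ K → e ∈ K) (w : S')
    (hw : algebraMap S S' a * w ∈ K.map (algebraMap S S')) : w ∈ K.map (algebraMap S S') := by
  obtain ⟨⟨e, s⟩, hes⟩ := IsLocalization.surj M w
  simp only at hes
  rw [IsLocalization.mem_map_algebraMap_iff M S'] at hw ⊢
  obtain ⟨⟨y, t⟩, hyt⟩ := hw
  simp only at hyt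
  -- `a e t = y s` in `S'`
  have h1 : algebraMap S S' (a * e * t) = algebraMap S S' (y * s) := by
    rw [map_mul, map_mul, map_mul, ← hes, ← hyt]
    ring
  obtain ⟨s', hs'⟩ := (IsLocalization.eq_iff_exists M S').mp h1
  have h2 : a * (s' * e * t) ∈ K := by
    have : a * (s' * e * t) = s' * (a * e * t) := by ring
    rw [this, hs']
    exact K.mul_mem_left _ (K.mul_mem_right _ y.2)
  have h3 := ha _ h2
  refine ⟨⟨⟨s' * e * t, h3⟩, s * (s' * t)⟩, ?_⟩
  simp only [Submonoid.coe_mul, map_mul]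
  rw [← hes]
  ring

end Loc

end Groth.Agent.Lib.Helper22.SyLiftA
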