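import Mathlib
import Groth.Agent.Lib.Helper22.SyLiftA

/-!
# Syntomic lifting, part B (helper22): the slicing data `(E, φ, u)`

`E` an `R`-algebra, `φ : E → A₀[X_1..X_m]` surjective with kernel `IE`, `φ (u i) = X i`.
-/

set_option autoImplicit false
set_option linter.style.haveILetI false
set_option linter.unusedSectionVars false

universe u

open MvPolynomial

namespace Groth.Agent.Lib.Helper22.SyLiftB

open Groth.Agent.Lib.Helper22.SyLiftA

section Slice

variable {R : Type u} [CommRing R] (I : Ideal R) {E : Type u} [CommRing E] [Algebra R E] {m : ℕ}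
  (u : Fin m → E) {A₀ : Type u} [CommRing A₀] [Algebra (R ⧸ I) A₀]
  (φ : E →+* MvPolynomial (Fin m) A₀)
  (hsurj : Function.Surjective φ) (hker : RingHom.ker φ = I.map (algebraMap R E))
  (halg : ∀ r, φ (algebraMap R E r) = C (algebraMap (R ⧸ I) A₀ (Ideal.Quotient.mk I r)))
  (hu : ∀ i, φ (u i) = X i)

include hsurj hker halg hu in
/-- `u k` is a nonzerodivisor modulo `𝔭 E + (u j : j < k)` for `𝔭 ⊇ I` -/
theorem nzd (𝔭 : Ideal R) (h𝔭 : I ≤ 𝔭) (k : Fin m) (e : E)
    (he : u k * e ∈ 𝔭.map (algebraMap R E) ⊔ Ideal.span (u '' {j : Fin m | j < k})) :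
    e ∈ 𝔭.map (algebraMap R E) ⊔ Ideal.span (u '' {j : Fin m | j < k}) := by
  set K : Ideal E := 𝔭.map (algebraMap R E) ⊔ Ideal.span (u '' {j : Fin m | j < k}) with hK
  let ρ : R →+* A₀ := (algebraMap (R ⧸ I) A₀).comp (Ideal.Quotient.mk I)
  have hφalg : φ.comp (algebraMap R E) = (C : A₀ →+* MvPolynomial (Fin m) A₀).comp ρ := by
    refine RingHom.ext fun r => ?_
    exact halg r
  have hKmap : K.map φ = (𝔭.map ρ).map (C : A₀ →+* MvPolynomial (Fin m) A₀) ⊔
      Ideal.span ((X : Fin m → MvPolynomial (Fin m) A₀) '' {j : Fin m | j < k}) := by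
    rw [hK, Ideal.map_sup, Ideal.map_map, hφalg, ← Ideal.map_map, Ideal.map_span, Set.image_image]
    congr 2
    ext x
    simp only [Set.mem_image, hu]
  have h1 : X k * φ e ∈ K.map φ := by
    have := Ideal.mem_map_of_mem φ he
    rwa [map_mul, hu] at this
  rw [hKmap] at h1
  have h2 := X_mul_mem_sup (𝔭.map ρ) {j : Fin m | j < k} k (lt_irrefl k) (φ e) h1
  rw [← hKmap, Ideal.mem_map_iff_of_surjective φ hsurj] at h2
  obtain ⟨e', he', hee'⟩ := h2
  have h3 : e - e' ∈ K := by
    have : e - e' ∈ RingHom.ker φ := by rw [RingHom.mem_ker, map_sub, hee', sub_self]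
    rw [hker] at this
    exact Ideal.mem_sup_left (Ideal.map_mono h𝔭 this)
  have : e = (e - e') + e' := by ring
  rw [this]
  exact K.add_mem h3 he'

include hsurj hker halg hu in
/-- fibrewise regularity of `u` at a prime of `E` over `V(I)` -/
theorem hreg (Q : Ideal E) [Q.IsPrime] (hIQ : I.map (algebraMap R E) ≤ Q) :
    ∀ (k : Fin m) (w : Localization.AtPrime Q),
      u k • w ∈ ((Q.comap (algebraMap R E)).map (algebraMap R E) ⊔
        Ideal.span (u '' {j : Fin m | j < k})) •
          (⊤ : Submodule E (Localization.AtPrime Q)) →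
      w ∈ ((Q.comap (algebraMap R E)).map (algebraMap R E) ⊔
        Ideal.span (u '' {j : Fin m | j < k})) •
          (⊤ : Submodule E (Localization.AtPrime Q)) := by
  intro k w hw
  have h𝔭 : I ≤ Q.comap (algebraMap R E) := by
    intro r hr
    rw [Ideal.mem_comap]
    exact hIQ (Ideal.mem_map_of_mem _ hr)
  rw [Ideal.smul_top_eq_map, Submodule.restrictScalars_mem] at hw ⊢
  rw [Algebra.smul_def] at hw
  exact mul_mem_map_of_isLocalization Q.primeCompl (Localization.AtPrime Q) _ (u k)
    (fun e he => nzd I u φ hsurj hker halg hu _ h𝔭 k e he) w hw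

/-- the augmentation `E → A₀` -/
noncomputable def chi : E →+* A₀ := (constantCoeff : MvPolynomial (Fin m) A₀ →+* A₀).comp φ

theorem chi_apply (e : E) : chi φ e = constantCoeff (φ e) := rfl

include hsurj in
theorem chi_surjective : Function.Surjective (chi φ) := by
  intro a
  obtain ⟨e, he⟩ := hsurj (C a)
  exact ⟨e, by rw [chi_apply, he, constantCoeff_C]⟩

include halg in
theorem chi_algebraMap (r : R) :
    chi φ (algebraMap R E r) = algebraMap (R ⧸ I) A₀ (Ideal.Quotient.mk I r) := by
  rw [chi_apply, halg, constantCoeff_C]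

include hu in
theorem chi_u (i : Fin m) : chi φ (u i) = 0 := by
  rw [chi_apply, hu, constantCoeff_X]

include hsurj hker hu in
theorem ker_chi : RingHom.ker (chi φ) =
    I.map (algebraMap R E) ⊔ Ideal.span (Set.range u) := by
  classical
  apply le_antisymm
  · intro e he
    rw [RingHom.mem_ker, chi_apply] at he
    have h1 : φ e ∈ Ideal.span ((X : Fin m → MvPolynomial (Fin m) A₀) '' Set.univ) := by
      rw [mem_ideal_span_X_image]
      intro d hd
      by_contra hne
      have hd0 : d = 0 := by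
        ext i
        by_contra hi
        exact hne ⟨i, Set.mem_univ i, hi⟩
      rw [hd0, mem_support_iff] at hd
      exact hd he
    rw [Set.image_univ] at h1
    obtain ⟨cf, hcf⟩ := Ideal.mem_span_range_iff_exists_fun.mp h1
    choose e' he' using fun i => hsurj (cf i)
    have h2 : e - ∑ i, e' i * u i ∈ RingHom.ker φ := by
      rw [RingHom.mem_ker, map_sub, map_sum, ← hcf, sub_eq_zero]
      refine Finset.sum_congr rfl fun i _ => ?_
      rw [map_mul, he', hu]
    rw [hker] at h2
    have : e = (e - ∑ i, e' i * u i) + ∑ i, e' i * u i := by ring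
    rw [this]
    exact Ideal.add_mem _ (Ideal.mem_sup_left h2)
      (Ideal.mem_sup_right (Ideal.sum_mem _ fun i _ =>
        Ideal.mul_mem_left _ _ (Ideal.subset_span (Set.mem_range_self i))))
  · rw [sup_le_iff, Ideal.span_le]
    constructor
    · rw [← hker]
      intro e he
      rw [RingHom.mem_ker] at he ⊢
      rw [chi_apply, he, map_zero]
    · rintro _ ⟨i, rfl⟩
      exact chi_u u φ hu i

end Slice

section Final

/-- a surjection `A → A₀` with kernel `IA`, compatible with the structure maps, identifies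
`A/IA` with `A₀` as `R/I`-algebras -/
theorem nonempty_algEquiv {R : Type u} [CommRing R] (I : Ideal R) (A A₀ : Type u) [CommRing A]
    [Algebra R A] [CommRing A₀] [Algebra (R ⧸ I) A₀] (χ : A →+* A₀)
    (hsurj : Function.Surjective χ) (hker : RingHom.ker χ = I.map (algebraMap R A))
    (halg : ∀ r, χ (algebraMap R A r) = algebraMap (R ⧸ I) A₀ (Ideal.Quotient.mk I r)) :
    Nonempty ((A ⧸ I.map (algebraMap R A)) ≃ₐ[R ⧸ I] A₀) := by
  let θ : A ⧸ I.map (algebraMap R A) →+* A₀ :=
    Ideal.Quotient.lift _ χ (fun a ha => by rw [← hker] at ha; exact ha)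
  have hθ : ∀ a, θ (Ideal.Quotient.mk _ a) = χ a := fun a => rfl
  have hbij : Function.Bijective θ := by
    constructor
    · rw [injective_iff_map_eq_zero]
      intro y hy
      obtain ⟨a, rfl⟩ := Ideal.Quotient.mk_surjective y
      rw [hθ] at hy
      rw [Ideal.Quotient.eq_zero_iff_mem, ← hker]
      exact hy
    · intro z
      obtain ⟨a, rfl⟩ := hsurj z
      exact ⟨Ideal.Quotient.mk _ a, hθ a⟩
  let θa : (A ⧸ I.map (algebraMap R A)) →ₐ[R ⧸ I] A₀ :=
    { θ with
      commutes' := fun rb => by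
        obtain ⟨r, rfl⟩ := Ideal.Quotient.mk_surjective rb
        show θ (Ideal.Quotient.mk _ (algebraMap R A r)) = _
        rw [hθ, halg] }
  exact ⟨AlgEquiv.ofBijective θa hbij⟩

end Final

end Groth.Agent.Lib.Helper22.SyLiftB
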