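import Mathlib
import Groth.Agent.Lib.Helper22.SyLiftB
import Groth.Agent.Lib.Helper22.RelGCIReg
import Groth.Agent.Lib.Helper24.FlatLCISynt
import Groth.Agent.Lib.Helper14.LCF.SliceSeq
import Groth.Agent.Lib.Helper1.SecReg
import Groth.Agent.Lib.Helper1.KRegIdeal12

/-!
# Syntomic lifting, part C (helper22): slicing

Let `E` be a syntomic `R`-algebra with a surjection `φ : E → A₀[X_1..X_m]` whose kernel is `IE`
(compatible with `R → R/I → A₀`) and `u_i ∈ E` with `φ (u_i) = X_i`.  Then there is `g ∈ E` with
`g ≡ 1` modulo `IE + (u)` such that `A = E_g/(u)` is syntomic over `R`, and `A/IA ≅ A₀`.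
-/

set_option autoImplicit false
set_option maxHeartbeats 400000
set_option linter.style.haveILetI false
set_option linter.unusedSectionVars false

universe u

open MvPolynomial RingTheory.Sequence

namespace Groth.Agent.Lib.Helper22.SyLiftC

open Groth.Agent.Lib.Helper22.SyLiftB Groth.Agent.Lib.Helper1 Groth.Agent.Lib.Helper24

theorem exists_syntomic_of_slice {R : Type u} [CommRing R] (I : Ideal R) (E : Type u) [CommRing E]
    [Algebra R E] (hE : Synt.IsSyntomic R E) (m : ℕ) (u : Fin m → E)
    (A₀ : Type u) [CommRing A₀] [Algebra (R ⧸ I) A₀]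
    (φ : E →+* MvPolynomial (Fin m) A₀)
    (hsurj : Function.Surjective φ) (hker : RingHom.ker φ = I.map (algebraMap R E))
    (halg : ∀ r, φ (algebraMap R E r) = C (algebraMap (R ⧸ I) A₀ (Ideal.Quotient.mk I r)))
    (hu : ∀ i, φ (u i) = X i) :
    ∃ (A : Type u) (_ : CommRing A) (_ : Algebra R A), Synt.IsSyntomic R A ∧
      Nonempty ((A ⧸ I.map (algebraMap R A)) ≃ₐ[R ⧸ I] A₀) := by
  classical
  haveI : Module.Flat R E := hE.1
  haveI : Algebra.FinitePresentation R E := hE.2.1
  -- the good elements
  let 𝒮 : Set E := {c | ∀ (c' : E) (E' : Type u) [CommRing E'] [Algebra E E'] [Algebra R E']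
    [IsScalarTower R E E'] [IsLocalization.Away (c * c') E'],
    IsWeaklyRegular E' (List.ofFn fun i => algebraMap E E' (u i)) ∧
      Module.Flat R (E' ⧸ Ideal.span (Set.range fun i => algebraMap E E' (u i)))}
  have h𝒮 : ∀ (Q : Ideal E) [Q.IsPrime], I.map (algebraMap R E) ≤ Q → (∀ i, u i ∈ Q) →
      ∃ c ∈ 𝒮, c ∉ Q := by
    intro Q _ hIQ huQ
    haveI : Module.Flat R (Localization.AtPrime Q) := Module.Flat.trans R E _
    obtain ⟨c, hc, H⟩ := Groth.Agent.Lib.Helper14.LCF.exists_away_regular_seq' (A := R) (C := E)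
      Q u huQ (Algebra.linearMap E (Localization.AtPrime Q))
      (hreg I u φ hsurj hker halg hu Q hIQ)
    exact ⟨c, fun c' E' _ _ _ _ _ => H c' E', hc⟩
  -- `span 𝒮 + IE + (u) = 1`
  have htop : Ideal.span 𝒮 ⊔ (I.map (algebraMap R E) ⊔ Ideal.span (Set.range u)) = ⊤ := by
    by_contra hne
    obtain ⟨M, hM, hle⟩ := Ideal.exists_le_maximal _ hne
    haveI := hM.isPrime
    obtain ⟨c, hc, hcM⟩ := h𝒮 M (le_trans (le_trans le_sup_left le_sup_right) hle)
      (fun i => hle (Ideal.mem_sup_right (Ideal.mem_sup_right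
        (Ideal.subset_span (Set.mem_range_self i)))))
    exact hcM (hle (Ideal.mem_sup_left (Ideal.subset_span hc)))
  obtain ⟨g, hg, z, hz, hgz⟩ := Submodule.mem_sup.mp ((Ideal.eq_top_iff_one _).mp htop)
  -- the ring `S = E_g` and the quotient `A = S/(u)`
  let S := Localization.Away g
  let gs : Fin m → S := fun i => algebraMap E S (u i)
  have hloc : ∀ (Q' : Ideal S) [Q'.IsPrime], ∃ c ∈ 𝒮, algebraMap E S c ∉ Q' := by
    intro Q' _
    have hgQ : g ∉ Q'.comap (algebraMap E S) := by
      intro hmem
      exact (Ideal.IsPrime.ne_top inferInstance) (Ideal.eq_top_of_isUnit_mem Q' hmem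
        (IsLocalization.Away.algebraMap_isUnit g))
    by_contra hcon
    push Not at hcon
    apply hgQ
    have : Ideal.span 𝒮 ≤ Q'.comap (algebraMap E S) := by
      rw [Ideal.span_le]
      intro c hc
      exact hcon c hc
    exact this hg
  have hcS : ∀ c ∈ 𝒮,
      IsWeaklyRegular (Localization.Away (algebraMap E S c))
        (List.ofFn fun i => algebraMap S (Localization.Away (algebraMap E S c)) (gs i)) ∧
      Module.Flat R (Localization.Away (algebraMap E S c) ⧸
        Ideal.span (Set.range fun i => algebraMap S (Localization.Away (algebraMap E S c)) (gs i))) := by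
    intro c hc
    haveI : IsLocalization.Away (c * g) (Localization.Away (algebraMap E S c)) :=
      IsLocalization.Away.mul S _ g c
    have h1 := hc g (Localization.Away (algebraMap E S c))
    have h2 : (fun i => algebraMap E (Localization.Away (algebraMap E S c)) (u i)) =
        fun i => algebraMap S (Localization.Away (algebraMap E S c)) (gs i) := by
      funext i
      exact IsScalarTower.algebraMap_apply E S _ (u i)
    rw [h2] at h1
    exact h1
  -- flatness
  have hflat : Module.Flat R (S ⧸ Ideal.span (Set.range gs)) := by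
    refine Groth.Agent.Lib.Helper22.RelGCIReg.flat_quot_of_forall_away gs ?_
    intro Q' _ _
    obtain ⟨c, hc, hcQ⟩ := hloc Q'
    exact ⟨algebraMap E S c, hcQ, (hcS c hc).2⟩
  -- lci
  have hK : LCI.IsKoszulRegularIdeal (Ideal.span (Set.range gs)) := by
    rw [KRegIdeal.isKoszulRegularIdeal_iff]
    intro p _
    obtain ⟨c, hc, hcQ⟩ := hloc p.asIdeal
    refine ⟨algebraMap E S c, hcQ, m, Localization.Away (algebraMap E S c), inferInstance,
      inferInstance, inferInstance,
      List.ofFn fun i => algebraMap S (Localization.Away (algebraMap E S c)) (gs i),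
      List.length_ofFn, SecReg.isKoszulRegularSeq_of_isWeaklyRegular _ (hcS c hc).1, ?_⟩
    exact (Groth.Agent.Lib.Helper22.RelGCIReg.ofList_ofFn_map gs).symm
  have h1 : LCI.IsLCI R E := FlatLCISynt.isLCI_of_isSyntomic R E hE
  have h2 : LCI.IsLCI E S := KRegIdeal.isLCI_of_smooth E S
  have h3 : LCI.IsLCI R S := KRegIdeal.isLCI_comp R E S h1 h2
  have h4 : LCI.IsLCI S (S ⧸ Ideal.span (Set.range gs)) := by
    refine KRegIdeal.isLCI_of_surjective (A := S) (C := S ⧸ Ideal.span (Set.range gs))
      Ideal.Quotient.mk_surjective ?_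
    have : RingHom.ker (algebraMap S (S ⧸ Ideal.span (Set.range gs))) =
        Ideal.span (Set.range gs) := Ideal.mk_ker
    rw [this]
    exact hK
  have h5 : LCI.IsLCI R (S ⧸ Ideal.span (Set.range gs)) := KRegIdeal.isLCI_comp R S _ h3 h4
  refine ⟨S ⧸ Ideal.span (Set.range gs), inferInstance, inferInstance,
    FlatLCISynt.isSyntomic_of_flat_of_isLCI R _ hflat h5, ?_⟩
  -- the reduction
  have hkerχ := ker_chi I u φ hsurj hker hu
  have hχg : chi φ g = 1 := by
    have hz0 : chi φ z = 0 := by
      rw [← RingHom.mem_ker, hkerχ]; exact hz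
    have : g = 1 - z := by rw [← hgz]; ring
    rw [this, map_sub, map_one, hz0, sub_zero]
  have hunit : IsUnit (chi φ g) := by rw [hχg]; exact isUnit_one
  let χ' : S →+* A₀ := IsLocalization.Away.lift g hunit
  have hχ' : ∀ e, χ' (algebraMap E S e) = chi φ e := fun e => IsLocalization.Away.lift_eq g hunit e
  have hχ'gs : ∀ x ∈ Ideal.span (Set.range gs), χ' x = 0 := by
    have : Ideal.span (Set.range gs) ≤ RingHom.ker χ' := by
      rw [Ideal.span_le]
      rintro _ ⟨i, rfl⟩
      show χ' (algebraMap E S (u i)) = 0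
      rw [hχ', chi_u u φ hu]
    exact fun x hx => this hx
  let χ'' : S ⧸ Ideal.span (Set.range gs) →+* A₀ := Ideal.Quotient.lift _ χ' hχ'gs
  have hχ'' : ∀ s, χ'' (Ideal.Quotient.mk _ s) = χ' s := fun s => rfl
  have hRA : ∀ r : R, algebraMap R (S ⧸ Ideal.span (Set.range gs)) r =
      Ideal.Quotient.mk _ (algebraMap E S (algebraMap R E r)) := by
    intro r
    rw [IsScalarTower.algebraMap_apply R S (S ⧸ Ideal.span (Set.range gs)),
      IsScalarTower.algebraMap_apply R E S]
    rfl
  have hχ''alg : ∀ r, χ'' (algebraMap R (S ⧸ Ideal.span (Set.range gs)) r) =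
      algebraMap (R ⧸ I) A₀ (Ideal.Quotient.mk I r) := by
    intro r
    rw [hRA, hχ'', hχ', chi_algebraMap I φ halg]
  refine nonempty_algEquiv I _ A₀ χ'' ?_ ?_ hχ''alg
  · intro a
    obtain ⟨e, rfl⟩ := chi_surjective φ hsurj a
    exact ⟨Ideal.Quotient.mk _ (algebraMap E S e), by rw [hχ'', hχ']⟩
  · apply le_antisymm
    · intro x hx
      rw [RingHom.mem_ker] at hx
      obtain ⟨s, rfl⟩ := Ideal.Quotient.mk_surjective x
      rw [hχ''] at hx
      obtain ⟨k, a, hka⟩ := IsLocalization.Away.surj g s
      have ha : chi φ a = 0 := by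
        rw [← hχ', ← hka, map_mul, hx, zero_mul]
      have ha' : a ∈ I.map (algebraMap R E) ⊔ Ideal.span (Set.range u) := by
        rw [← hkerχ]; exact ha
      -- the image of `a` in `A` lies in `IA`
      have hmem : Ideal.Quotient.mk (Ideal.span (Set.range gs)) (algebraMap E S a) ∈
          I.map (algebraMap R (S ⧸ Ideal.span (Set.range gs))) := by
        have hle : (I.map (algebraMap R E) ⊔ Ideal.span (Set.range u)) ≤
            (I.map (algebraMap R (S ⧸ Ideal.span (Set.range gs)))).comap
              ((Ideal.Quotient.mk (Ideal.span (Set.range gs))).comp (algebraMap E S)) := by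
          rw [sup_le_iff]
          constructor
          · rw [Ideal.map_le_iff_le_comap]
            intro r hr
            rw [Ideal.mem_comap, Ideal.mem_comap, RingHom.comp_apply, ← hRA]
            exact Ideal.mem_map_of_mem _ hr
          · rw [Ideal.span_le]
            rintro _ ⟨i, rfl⟩
            rw [SetLike.mem_coe, Ideal.mem_comap, RingHom.comp_apply]
            have : Ideal.Quotient.mk (Ideal.span (Set.range gs)) (algebraMap E S (u i)) = 0 :=
              Ideal.Quotient.eq_zero_iff_mem.mpr (Ideal.subset_span ⟨i, rfl⟩)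
            rw [this]
            exact Ideal.zero_mem _
        exact hle ha'
      rw [← hka, map_mul, map_pow] at hmem
      have hgu : IsUnit (Ideal.Quotient.mk (Ideal.span (Set.range gs)) (algebraMap E S g)) :=
        (IsLocalization.Away.algebraMap_isUnit g).map _
      exact (Ideal.mul_unit_mem_iff_mem _ (hgu.pow k)).mp hmem
    · rw [Ideal.map_le_iff_le_comap]
      intro r hr
      rw [Ideal.mem_comap, RingHom.mem_ker, hχ''alg, Ideal.Quotient.eq_zero_iff_mem.mpr hr,
        map_zero]

end Groth.Agent.Lib.Helper22.SyLiftC
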