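import Mathlib
import Groth.Agent.Lib.Helper22.SyLiftC
import Groth.Agent.Lib.Helper24.RelGCIQuot
import Groth.Agent.Lib.Helper27.SmoothLiftG
import Groth.Agent.Lib.Helper6.SyntCover

/-!
# Syntomic lifting, part D (helper22): lifting along `R → R/I`

If `A₀[X_1..X_m]` is smooth over a relative global complete intersection `C₀` over `R/I`, then `A₀`
lifts to a syntomic `R`-algebra.
-/

set_option autoImplicit false
set_option maxHeartbeats 400000
set_option linter.style.haveILetI false
set_option linter.unusedSectionVars false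

universe u

open MvPolynomial

namespace Groth.Agent.Lib.Helper22.SyLiftD

open Groth.Agent.Lib.Helper22.SyLiftB Groth.Agent.Lib.Helper22.SyLiftC
open Groth.Agent.Lib.Helper1 Groth.Agent.Lib.Helper24

/-- extending a reduction map to a localization at an element congruent to a unit -/
theorem away_lift_ker {R : Type u} [CommRing R] (I : Ideal R) {S T : Type u} [CommRing S]
    [Algebra R S] [CommRing T] (hS : S) (γ₀ : S →+* T) (hsurj : Function.Surjective γ₀)
    (hker : RingHom.ker γ₀ = I.map (algebraMap R S)) (hunit : IsUnit (γ₀ hS)) :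
    Function.Surjective (IsLocalization.Away.lift (S := Localization.Away hS) hS hunit) ∧
    RingHom.ker (IsLocalization.Away.lift (S := Localization.Away hS) hS hunit) =
      I.map (algebraMap R (Localization.Away hS)) := by
  set γ : Localization.Away hS →+* T := IsLocalization.Away.lift hS hunit with hγdef
  have hγ : ∀ s, γ (algebraMap S (Localization.Away hS) s) = γ₀ s :=
    fun s => IsLocalization.Away.lift_eq hS hunit s
  have hRA : ∀ r : R, algebraMap R (Localization.Away hS) r =
      algebraMap S (Localization.Away hS) (algebraMap R S r) :=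
    fun r => IsScalarTower.algebraMap_apply R S _ r
  refine ⟨fun t => ?_, ?_⟩
  · obtain ⟨s, rfl⟩ := hsurj t
    exact ⟨algebraMap S _ s, hγ s⟩
  · apply le_antisymm
    · intro x hx
      rw [RingHom.mem_ker] at hx
      obtain ⟨k, a, hka⟩ := IsLocalization.Away.surj hS x
      have ha : γ₀ a = 0 := by
        rw [← hγ, ← hka, map_mul, hx, zero_mul]
      have ha' : a ∈ I.map (algebraMap R S) := by rw [← hker]; exact ha
      have hmem : algebraMap S (Localization.Away hS) a ∈
          I.map (algebraMap R (Localization.Away hS)) := by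
        have hle : I.map (algebraMap R S) ≤ (I.map (algebraMap R (Localization.Away hS))).comap
            (algebraMap S (Localization.Away hS)) := by
          rw [Ideal.map_le_iff_le_comap]
          intro r hr
          rw [Ideal.mem_comap, Ideal.mem_comap, ← hRA]
          exact Ideal.mem_map_of_mem _ hr
        exact hle ha'
      rw [← hka] at hmem
      exact (Ideal.mul_unit_mem_iff_mem _
        ((IsLocalization.Away.algebraMap_isUnit hS).pow k)).mp hmem
    · rw [Ideal.map_le_iff_le_comap]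
      intro r hr
      rw [Ideal.mem_comap, RingHom.mem_ker, hRA, hγ]
      have : algebraMap R S r ∈ RingHom.ker γ₀ := by
        rw [hker]; exact Ideal.mem_map_of_mem _ hr
      exact this

/-- a relative global complete intersection over `R/I` lifts to a syntomic `R`-algebra -/
theorem exists_lift_relGCI {R : Type u} [CommRing R] (I : Ideal R)
    (n c : ℕ) (Fb : Fin c → MvPolynomial (Fin n) (R ⧸ I))
    (hFb : Synt.IsRelGCI (R ⧸ I) n c Fb) :
    ∃ (Cl : Type u) (_ : CommRing Cl) (_ : Algebra R Cl), Synt.IsSyntomic R Cl ∧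
      ∃ γ : Cl →+* Synt.RelGCIRing (R ⧸ I) n c Fb, Function.Surjective γ ∧
        RingHom.ker γ = I.map (algebraMap R Cl) ∧
        ∀ r, γ (algebraMap R Cl r) =
          algebraMap (R ⧸ I) (Synt.RelGCIRing (R ⧸ I) n c Fb) (Ideal.Quotient.mk I r) := by
  classical
  -- lift the equations
  let μ : MvPolynomial (Fin n) R →+* MvPolynomial (Fin n) (R ⧸ I) := map (Ideal.Quotient.mk I)
  have hms : Function.Surjective μ := map_surjective _ Ideal.Quotient.mk_surjective
  have hμker : RingHom.ker μ = I.map (C : R →+* MvPolynomial (Fin n) R) := by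
    show RingHom.ker (map (Ideal.Quotient.mk I)) = _
    rw [ker_map, Ideal.mk_ker]
  choose F hF using fun i => hms (Fb i)
  have hI : Synt.IsRelGCI (R ⧸ I) n c (fun i => map (Ideal.Quotient.mk I) (F i)) := by
    have : (fun i => map (Ideal.Quotient.mk I) (F i)) = Fb := funext hF
    rw [this]; exact hFb
  obtain ⟨h, h1, hrel, ⟨e⟩⟩ := RelGCIQuot.main9172 R n c F I hI
  -- the lift `Cl` of `C₀`
  have hCl : Synt.IsSyntomic R
      (Localization.Away (Ideal.Quotient.mk (Ideal.span (Set.range F)) h)) :=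
    Groth.Agent.Lib.Helper6.SyntCover.isSyntomic_of_algEquiv e.symm
      (Groth.Agent.Lib.Helper22.RelGCIReg.isSyntomic R _ _ _ hrel)
  have hmap : Ideal.span (Set.range Fb) = (Ideal.span (Set.range F)).map μ := by
    rw [Ideal.map_span, ← Set.range_comp]
    congr 2
    funext i
    exact (hF i).symm
  let γ₀ : Synt.RelGCIRing R n c F →+* Synt.RelGCIRing (R ⧸ I) n c Fb :=
    Ideal.Quotient.lift _ ((Ideal.Quotient.mk (Ideal.span (Set.range Fb))).comp μ) (by
      intro a ha
      rw [RingHom.comp_apply, Ideal.Quotient.eq_zero_iff_mem, hmap]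
      exact Ideal.mem_map_of_mem _ ha)
  have hγ₀ : ∀ P, γ₀ (Ideal.Quotient.mk _ P) = Ideal.Quotient.mk _ (μ P) := fun P => rfl
  have hγ₀surj : Function.Surjective γ₀ := by
    intro y
    obtain ⟨Pb, rfl⟩ := Ideal.Quotient.mk_surjective y
    obtain ⟨P, rfl⟩ := hms Pb
    exact ⟨Ideal.Quotient.mk _ P, hγ₀ P⟩
  have hγ₀alg : ∀ r, γ₀ (algebraMap R (Synt.RelGCIRing R n c F) r) =
      algebraMap (R ⧸ I) (Synt.RelGCIRing (R ⧸ I) n c Fb) (Ideal.Quotient.mk I r) := by
    intro r
    show γ₀ (Ideal.Quotient.mk _ (C r)) = Ideal.Quotient.mk _ (C (Ideal.Quotient.mk I r))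
    rw [hγ₀]
    congr 1
    exact map_C _ r
  have hγ₀ker : RingHom.ker γ₀ = I.map (algebraMap R (Synt.RelGCIRing R n c F)) := by
    apply le_antisymm
    · intro x hx
      obtain ⟨P, rfl⟩ := Ideal.Quotient.mk_surjective x
      rw [RingHom.mem_ker, hγ₀, Ideal.Quotient.eq_zero_iff_mem, hmap,
        Ideal.mem_map_iff_of_surjective μ hms] at hx
      obtain ⟨P', hP', hPP'⟩ := hx
      have hk : P - P' ∈ I.map (C : R →+* MvPolynomial (Fin n) R) := by
        rw [← hμker, RingHom.mem_ker, map_sub, hPP', sub_self]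
      have h2 : Ideal.Quotient.mk (Ideal.span (Set.range F)) P =
          Ideal.Quotient.mk (Ideal.span (Set.range F)) (P - P') := by
        rw [map_sub, Ideal.Quotient.eq_zero_iff_mem.mpr hP', sub_zero]
      rw [h2]
      have h3 : (I.map (C : R →+* MvPolynomial (Fin n) R)).map
          (Ideal.Quotient.mk (Ideal.span (Set.range F))) =
          I.map (algebraMap R (Synt.RelGCIRing R n c F)) := by
        rw [Ideal.map_map]
        rfl
      rw [← h3]
      exact Ideal.mem_map_of_mem _ hk
    · rw [Ideal.map_le_iff_le_comap]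
      intro r hr
      rw [Ideal.mem_comap, RingHom.mem_ker, hγ₀alg, Ideal.Quotient.eq_zero_iff_mem.mpr hr,
        map_zero]
  have hγ₀hS : γ₀ (Ideal.Quotient.mk (Ideal.span (Set.range F)) h) = 1 := by
    have : Ideal.Quotient.mk (Ideal.span (Set.range F)) h - 1 ∈ RingHom.ker γ₀ := by
      rw [hγ₀ker, ← Ideal.Quotient.eq_zero_iff_mem, map_sub, h1, map_one, sub_self]
    rw [RingHom.mem_ker, map_sub, map_one, sub_eq_zero] at this
    exact this
  have hunit : IsUnit (γ₀ (Ideal.Quotient.mk (Ideal.span (Set.range F)) h)) := by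
    rw [hγ₀hS]; exact isUnit_one
  obtain ⟨hγsurj, hγker⟩ := away_lift_ker I _ γ₀ hγ₀surj hγ₀ker hunit
  have hγ : ∀ s, (IsLocalization.Away.lift (S := Localization.Away
      (Ideal.Quotient.mk (Ideal.span (Set.range F)) h)) _ hunit)
      (algebraMap _ _ s) = γ₀ s := fun s => IsLocalization.Away.lift_eq _ hunit s
  refine ⟨Localization.Away (Ideal.Quotient.mk (Ideal.span (Set.range F)) h), inferInstance,
    inferInstance, hCl, _, hγsurj, hγker, fun r => ?_⟩
  rw [IsScalarTower.algebraMap_apply R (Synt.RelGCIRing R n c F), hγ, hγ₀alg]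

/-- lifting, abstract form -/
theorem exists_syntomic_lift_aux {R : Type u} [CommRing R] (I : Ideal R) (A₀ : Type u)
    [CommRing A₀] [Algebra (R ⧸ I) A₀] (C₀ : Type u) [CommRing C₀] [Algebra (R ⧸ I) C₀] (m : ℕ)
    (β : C₀ →ₐ[R ⧸ I] MvPolynomial (Fin m) A₀) (hβ : β.toRingHom.Smooth)
    (Cl : Type u) [CommRing Cl] [Algebra R Cl] (hCl : Synt.IsSyntomic R Cl)
    (γ : Cl →+* C₀) (hγsurj : Function.Surjective γ)
    (hγker : RingHom.ker γ = I.map (algebraMap R Cl))
    (hγalg : ∀ r, γ (algebraMap R Cl r) = algebraMap (R ⧸ I) C₀ (Ideal.Quotient.mk I r)) :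
    ∃ (A : Type u) (_ : CommRing A) (_ : Algebra R A), Synt.IsSyntomic R A ∧
      Nonempty ((A ⧸ I.map (algebraMap R A)) ≃ₐ[R ⧸ I] A₀) := by
  classical
  obtain ⟨IC, hIC⟩ : ∃ IC : Ideal Cl, IC = I.map (algebraMap R Cl) := ⟨_, rfl⟩
  rw [← hIC] at hγker
  let γb : Cl ⧸ IC →+* C₀ := Ideal.Quotient.lift IC γ (fun a ha => by
    rw [← hγker] at ha; exact ha)
  have hγb : ∀ a, γb (Ideal.Quotient.mk IC a) = γ a := fun a => rfl
  have hγbbij : Function.Bijective γb := by
    constructor
    · rw [injective_iff_map_eq_zero]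
      intro y hy
      obtain ⟨a, rfl⟩ := Ideal.Quotient.mk_surjective y
      rw [hγb] at hy
      rw [Ideal.Quotient.eq_zero_iff_mem, ← hγker]
      exact hy
    · intro z
      obtain ⟨a, rfl⟩ := hγsurj z
      exact ⟨Ideal.Quotient.mk IC a, hγb a⟩
  let β' : Cl ⧸ IC →+* MvPolynomial (Fin m) A₀ := β.toRingHom.comp γb
  have hβ' : β'.Smooth := (RingHom.Smooth.of_bijective hγbbij).comp hβ
  letI algP : Algebra (Cl ⧸ IC) (MvPolynomial (Fin m) A₀) := β'.toAlgebra
  haveI : Algebra.Smooth (Cl ⧸ IC) (MvPolynomial (Fin m) A₀) := hβ'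
  obtain ⟨E, _, _, hsm, ⟨ε⟩⟩ := Groth.Agent.Lib.Helper27.SmoothLiftG.main (R := Cl)
    (A₀ := MvPolynomial (Fin m) A₀) IC
  haveI := hsm
  letI algRE : Algebra R E := ((algebraMap Cl E).comp (algebraMap R Cl)).toAlgebra
  haveI : IsScalarTower R Cl E := IsScalarTower.of_algebraMap_eq (fun r => rfl)
  haveI : Module.Flat R Cl := hCl.1
  haveI : Module.Flat Cl E := Algebra.Smooth.flat Cl E
  have hE : Synt.IsSyntomic R E :=
    FlatLCISynt.isSyntomic_of_flat_of_isLCI R E (Module.Flat.trans R Cl E)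
      (KRegIdeal.isLCI_comp R Cl E (FlatLCISynt.isLCI_of_isSyntomic R Cl hCl)
        (KRegIdeal.isLCI_of_smooth Cl E))
  let φ : E →+* MvPolynomial (Fin m) A₀ :=
    (ε : (E ⧸ IC.map (algebraMap Cl E)) →+* MvPolynomial (Fin m) A₀).comp
      (Ideal.Quotient.mk (IC.map (algebraMap Cl E)))
  have hφ : ∀ x, φ x = ε (Ideal.Quotient.mk _ x) := fun x => rfl
  have hφsurj : Function.Surjective φ := ε.surjective.comp Ideal.Quotient.mk_surjective
  have hφker : RingHom.ker φ = I.map (algebraMap R E) := by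
    have h1 : I.map (algebraMap R E) = IC.map (algebraMap Cl E) := by
      rw [hIC, Ideal.map_map]
      rfl
    rw [h1]
    ext x
    rw [RingHom.mem_ker, hφ, map_eq_zero_iff ε ε.injective, Ideal.Quotient.eq_zero_iff_mem]
  have hφalg : ∀ r, φ (algebraMap R E r) =
      C (algebraMap (R ⧸ I) A₀ (Ideal.Quotient.mk I r)) := by
    intro r
    have h1 : Ideal.Quotient.mk (IC.map (algebraMap Cl E)) (algebraMap R E r) =
        algebraMap (Cl ⧸ IC) (E ⧸ IC.map (algebraMap Cl E))
          (Ideal.Quotient.mk IC (algebraMap R Cl r)) := rfl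
    rw [hφ, h1, ε.commutes]
    show β (γb (Ideal.Quotient.mk IC (algebraMap R Cl r))) = _
    rw [hγb, hγalg, β.commutes, MvPolynomial.algebraMap_apply]
  choose u hu using fun i : Fin m => hφsurj (X i)
  exact exists_syntomic_of_slice I E hE m u A₀ φ hφsurj hφker hφalg hu

/-- **lifting**: if `A₀[X_1..X_m]` is smooth over a relative global complete intersection over
`R/I`, then `A₀` lifts to a syntomic `R`-algebra -/
theorem exists_syntomic_lift {R : Type u} [CommRing R] (I : Ideal R) (A₀ : Type u) [CommRing A₀]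
    [Algebra (R ⧸ I) A₀] (n c : ℕ) (Fb : Fin c → MvPolynomial (Fin n) (R ⧸ I))
    (hFb : Synt.IsRelGCI (R ⧸ I) n c Fb) (m : ℕ)
    (β : Synt.RelGCIRing (R ⧸ I) n c Fb →ₐ[R ⧸ I] MvPolynomial (Fin m) A₀)
    (hβ : β.toRingHom.Smooth) :
    ∃ (A : Type u) (_ : CommRing A) (_ : Algebra R A), Synt.IsSyntomic R A ∧
      Nonempty ((A ⧸ I.map (algebraMap R A)) ≃ₐ[R ⧸ I] A₀) := by
  obtain ⟨Cl, _, _, hCl, γ, hγsurj, hγker, hγalg⟩ := exists_lift_relGCI I n c Fb hFb
  exact exists_syntomic_lift_aux I A₀ _ m β hβ Cl hCl γ hγsurj hγker hγalg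

end Groth.Agent.Lib.Helper22.SyLiftD
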