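import Mathlib

/-!
# Syntomic retract, part A (helper22): idempotent matrix data for a projective conormal module

For an ideal `J = (f_1, …, f_m)` of a ring `P₀` with `J/J²` projective over `P₀/J`, there is a
matrix `G` over `P₀`, idempotent modulo `J²`, fixing `f` modulo `J²`, and such that every relation
`∑ w_i f_i ∈ J²` gives `w G ∈ J`.
-/

set_option autoImplicit false

universe u

namespace Groth.Agent.Lib.Helper22.SyRetA

variable {P₀ : Type u} [CommRing P₀] {m : ℕ}

/-- all entries of the matrix lie in the ideal -/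
def EntriesIn (I : Ideal P₀) (M : Matrix (Fin m) (Fin m) P₀) : Prop := ∀ i j, M i j ∈ I

theorem EntriesIn.mul {I I' : Ideal P₀} {A B : Matrix (Fin m) (Fin m) P₀}
    (hA : EntriesIn I A) (hB : EntriesIn I' B) : EntriesIn (I * I') (A * B) := by
  intro i j
  rw [Matrix.mul_apply]
  exact Ideal.sum_mem _ fun k _ => Ideal.mul_mem_mul (hA i k) (hB k j)

theorem EntriesIn.mul_right {I : Ideal P₀} {A : Matrix (Fin m) (Fin m) P₀}
    (hA : EntriesIn I A) (B : Matrix (Fin m) (Fin m) P₀) : EntriesIn I (A * B) := by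
  intro i j
  rw [Matrix.mul_apply]
  exact Ideal.sum_mem _ fun k _ => Ideal.mul_mem_right _ _ (hA i k)

theorem newton_identity (g : Matrix (Fin m) (Fin m) P₀) :
    (3 • (g * g) - 2 • (g * g * g)) * (3 • (g * g) - 2 • (g * g * g)) -
        (3 • (g * g) - 2 • (g * g * g)) =
      (g * g - g) * (g * g - g) * ((1 - 2 • g) * (1 - 2 • g) - 4 • (1 : Matrix (Fin m) (Fin m) P₀)) := by
  noncomm_ring

theorem newton_identity' (g : Matrix (Fin m) (Fin m) P₀) :
    (3 • (g * g) - 2 • (g * g * g)) - g = (g * g - g) * (1 - 2 • g) := by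
  noncomm_ring

theorem newton (J : Ideal P₀) (g : Matrix (Fin m) (Fin m) P₀) (hg : EntriesIn J (g * g - g)) :
    EntriesIn (J ^ 2) ((3 • (g * g) - 2 • (g * g * g)) * (3 • (g * g) - 2 • (g * g * g)) -
        (3 • (g * g) - 2 • (g * g * g))) ∧
      EntriesIn J ((3 • (g * g) - 2 • (g * g * g)) - g) := by
  constructor
  · rw [newton_identity, pow_two]
    exact (hg.mul hg).mul_right _
  · rw [newton_identity']
    exact hg.mul_right _

theorem exists_matrix (f : Fin m → P₀)
    (hproj : Module.Projective (P₀ ⧸ Ideal.span (Set.range f))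
      (Ideal.span (Set.range f)).Cotangent) :
    ∃ G : Matrix (Fin m) (Fin m) P₀,
      (∀ i j, (G * G - G) i j ∈ (Ideal.span (Set.range f)) ^ 2) ∧
      (∀ i, f i - ∑ j, G i j * f j ∈ (Ideal.span (Set.range f)) ^ 2) ∧
      (∀ w : Fin m → P₀, ∑ i, w i * f i ∈ (Ideal.span (Set.range f)) ^ 2 →
        ∀ j, ∑ i, w i * G i j ∈ Ideal.span (Set.range f)) := by
  classical
  set J : Ideal P₀ := Ideal.span (Set.range f) with hJ
  let fJ : Fin m → J := fun i => ⟨f i, Ideal.subset_span (Set.mem_range_self i)⟩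
  let A' := P₀ ⧸ J
  let v : Fin m → J.Cotangent := fun i => J.toCotangent (fJ i)
  let π : (Fin m → A') →ₗ[A'] J.Cotangent := Fintype.linearCombination A' v
  have hπ_apply : ∀ w : Fin m → A', π w = ∑ i, w i • v i := fun w =>
    Fintype.linearCombination_apply A' v w
  -- `toCotangent` of a combination
  have hcomb : ∀ (w : Fin m → P₀),
      J.toCotangent (∑ i, w i • fJ i) = π (fun i => Ideal.Quotient.mk J (w i)) := by
    intro w
    rw [hπ_apply, map_sum]
    refine Finset.sum_congr rfl fun i _ => ?_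
    rw [map_smul]
    show w i • v i = Ideal.Quotient.mk J (w i) • v i
    rw [← Ideal.Quotient.algebraMap_eq, algebraMap_smul]
  -- surjectivity of `π`
  have hπsurj : Function.Surjective π := by
    intro x
    obtain ⟨y, rfl⟩ := J.toCotangent_surjective x
    obtain ⟨c, hc⟩ := Ideal.mem_span_range_iff_exists_fun.mp y.2
    have hy : y = ∑ i, c i • fJ i := by
      apply Subtype.ext
      rw [← hc]
      simp [fJ]
    exact ⟨fun i => Ideal.Quotient.mk J (c i), by rw [hy, hcomb]⟩
  obtain ⟨s, hs⟩ := Module.projective_lifting_property π LinearMap.id hπsurj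
  have hs' : ∀ x, π (s x) = x := fun x => LinearMap.congr_fun hs x
  -- the matrix `a`
  let a : Fin m → Fin m → A' := fun i j => s (v i) j
  choose g hg using fun i j => Ideal.Quotient.mk_surjective (a i j)
  let gM : Matrix (Fin m) (Fin m) P₀ := Matrix.of g
  have hgM : ∀ i j, Ideal.Quotient.mk J (gM i j) = a i j := fun i j => hg i j
  -- (F3) for `g`
  have hF3 : ∀ w : Fin m → P₀, ∑ i, w i * f i ∈ J ^ 2 → ∀ j, ∑ i, w i * gM i j ∈ J := by
    intro w hw j
    have h1 : J.toCotangent (∑ i, w i • fJ i) = 0 := by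
      rw [Ideal.toCotangent_eq_zero]
      convert hw using 1
      simp [fJ]
    rw [hcomb] at h1
    have h2 : s (π (fun i => Ideal.Quotient.mk J (w i))) = 0 := by rw [h1, map_zero]
    rw [hπ_apply, map_sum] at h2
    have h3 : ∑ i, (Ideal.Quotient.mk J (w i) • s (v i)) j = 0 := by
      have := congrFun h2 j
      simpa using this
    rw [← Ideal.Quotient.eq_zero_iff_mem, map_sum, ← h3]
    refine Finset.sum_congr rfl fun i _ => ?_
    rw [map_mul, hgM]
    rfl
  -- (F1) for `g`
  have hF1 : ∀ i, f i - ∑ j, gM i j * f j ∈ J ^ 2 := by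
    intro i
    have h1 := hs' (v i)
    rw [hπ_apply] at h1
    have h2 : J.toCotangent (fJ i - ∑ j, gM i j • fJ j) = 0 := by
      rw [map_sub, hcomb, hπ_apply, sub_eq_zero]
      show v i = _
      conv_lhs => rw [← h1]
      refine Finset.sum_congr rfl fun j _ => ?_
      rw [hgM]
    rw [Ideal.toCotangent_eq_zero] at h2
    convert h2 using 1
    simp [fJ]
  -- (F2) for `g`
  have hF2 : EntriesIn J (gM * gM - gM) := by
    intro i k
    rw [← Ideal.Quotient.eq_zero_iff_mem, Matrix.sub_apply, Matrix.mul_apply, map_sub, map_sum,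
      sub_eq_zero]
    have h1 : s (v i) = s (π (s (v i))) := by rw [hs']
    rw [hπ_apply, map_sum] at h1
    have h2 : s (v i) k = ∑ j, (s (v i) j • s (v j)) k := by
      have := congrFun h1 k
      simpa using this
    rw [hgM]
    show _ = s (v i) k
    rw [h2]
    refine Finset.sum_congr rfl fun j _ => ?_
    rw [map_mul, hgM, hgM]
    rfl
  obtain ⟨hN1, hN2⟩ := newton J gM hF2
  refine ⟨3 • (gM * gM) - 2 • (gM * gM * gM), hN1, ?_, ?_⟩
  · intro i
    have hdec : f i - ∑ j, (3 • (gM * gM) - 2 • (gM * gM * gM)) i j * f j =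
        (f i - ∑ j, gM i j * f j) -
          ∑ j, ((3 • (gM * gM) - 2 • (gM * gM * gM)) - gM) i j * f j := by
      have : ∀ j, (3 • (gM * gM) - 2 • (gM * gM * gM)) i j * f j = gM i j * f j +
          ((3 • (gM * gM) - 2 • (gM * gM * gM)) - gM) i j * f j := by
        intro j
        rw [Matrix.sub_apply (3 • (gM * gM) - 2 • (gM * gM * gM)) gM]
        ring
      simp only [this, Finset.sum_add_distrib]
      ring
    rw [hdec]
    refine Ideal.sub_mem _ (hF1 i) (Ideal.sum_mem _ fun j _ => ?_)
    rw [pow_two]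
    exact Ideal.mul_mem_mul (hN2 i j) (Ideal.subset_span (Set.mem_range_self j))
  · intro w hw j
    have hdec : ∑ i, w i * (3 • (gM * gM) - 2 • (gM * gM * gM)) i j =
        ∑ i, w i * gM i j +
          ∑ i, w i * ((3 • (gM * gM) - 2 • (gM * gM * gM)) - gM) i j := by
      rw [← Finset.sum_add_distrib]
      refine Finset.sum_congr rfl fun i _ => ?_
      rw [Matrix.sub_apply (3 • (gM * gM) - 2 • (gM * gM * gM)) gM]
      ring
    rw [hdec]
    exact Ideal.add_mem _ (hF3 w hw j)
      (Ideal.sum_mem _ fun i _ => Ideal.mul_mem_left _ _ (hN2 i j))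

end Groth.Agent.Lib.Helper22.SyRetA
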