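import Mathlib

/-!
# Syntomic retract, part B (helper22): the polynomial construction

`Pn = R[x_1..x_n]`, `PN = R[x_1..x_n, y_1..y_m]`, `J = (f_1..f_m) ⊆ Pn`, `G` an `m × m` matrix over
`Pn` idempotent modulo `J²` and fixing `f` modulo `J²`.  `L_i = y_i - ∑ G_ij y_j`,
`F_i = f_i + L_i`, `J' = (f, L)`.  Then `J' ≤ (F) + J'²`, hence there is `h ∈ 1 + J'` with
`h J' ⊆ (F)`.
-/

set_option autoImplicit false

universe u

open MvPolynomial
open scoped Pointwise

namespace Groth.Agent.Lib.Helper22.SyRetB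

variable (R : Type u) [CommRing R] (n m : ℕ)

/-- the inclusion `R[x] → R[x,y]` -/
noncomputable def inc : MvPolynomial (Fin n) R →ₐ[R] MvPolynomial (Fin (n + m)) R :=
  rename (Fin.castAdd m)

/-- the variables `y_j` -/
noncomputable def Y (j : Fin m) : MvPolynomial (Fin (n + m)) R := X (Fin.natAdd n j)

variable {R n m}
variable (f : Fin m → MvPolynomial (Fin n) R) (G : Matrix (Fin m) (Fin m) (MvPolynomial (Fin n) R))

/-- the linear forms `L_i = y_i - ∑_j G_ij y_j` -/
noncomputable def L (i : Fin m) : MvPolynomial (Fin (n + m)) R :=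
  Y R n m i - ∑ j, inc R n m (G i j) * Y R n m j

/-- the equations `F_i = f_i + L_i` -/
noncomputable def F (i : Fin m) : MvPolynomial (Fin (n + m)) R :=
  inc R n m (f i) + L G i

/-- the ideal `J' = (f, L)` -/
noncomputable def J' : Ideal (MvPolynomial (Fin (n + m)) R) :=
  Ideal.span (Set.range fun i => inc R n m (f i)) ⊔ Ideal.span (Set.range (L G))

theorem inc_f_mem (i : Fin m) : inc R n m (f i) ∈ J' f G :=
  Ideal.mem_sup_left (Ideal.subset_span (Set.mem_range_self i))

theorem L_mem (i : Fin m) : L G i ∈ J' f G :=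
  Ideal.mem_sup_right (Ideal.subset_span (Set.mem_range_self i))

theorem inc_mem {x : MvPolynomial (Fin n) R} (hx : x ∈ Ideal.span (Set.range f)) :
    inc R n m x ∈ J' f G := by
  have h1 : (Ideal.span (Set.range f)).map (inc R n m).toRingHom ≤ J' f G := by
    rw [Ideal.map_span, Ideal.span_le]
    rintro _ ⟨_, ⟨i, rfl⟩, rfl⟩
    exact inc_f_mem f G i
  exact h1 (Ideal.mem_map_of_mem _ hx)

theorem inc_mem_sq {x : MvPolynomial (Fin n) R} (hx : x ∈ (Ideal.span (Set.range f)) ^ 2) :
    inc R n m x ∈ (J' f G) ^ 2 := by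
  have h1 : (Ideal.span (Set.range f)).map (inc R n m).toRingHom ≤ J' f G := by
    rw [Ideal.map_span, Ideal.span_le]
    rintro _ ⟨_, ⟨i, rfl⟩, rfl⟩
    exact inc_f_mem f G i
  have h2 : ((Ideal.span (Set.range f)) ^ 2).map (inc R n m).toRingHom ≤ (J' f G) ^ 2 := by
    rw [Ideal.map_pow]
    exact Ideal.pow_right_mono h1 2
  exact h2 (Ideal.mem_map_of_mem _ hx)

theorem F_mem (i : Fin m) : F f G i ∈ J' f G :=
  Ideal.add_mem _ (inc_f_mem f G i) (L_mem f G i)

theorem span_F_le : Ideal.span (Set.range (F f G)) ≤ J' f G := by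
  rw [Ideal.span_le]
  rintro _ ⟨i, rfl⟩
  exact F_mem f G i

/-- the key computation: `∑_j G_ij F_j = f_i - (f_i - ∑ G_ij f_j) - ∑_k (G² - G)_ik y_k` -/
theorem sum_G_F (i : Fin m) :
    ∑ j, inc R n m (G i j) * F f G j =
      inc R n m (f i) - inc R n m (f i - ∑ j, G i j * f j) -
        ∑ k, inc R n m ((G * G - G) i k) * Y R n m k := by
  have h1 : ∑ j, inc R n m (G i j) * F f G j =
      ∑ j, inc R n m (G i j) * inc R n m (f j) + ∑ j, inc R n m (G i j) * L G j := by
    rw [← Finset.sum_add_distrib]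
    refine Finset.sum_congr rfl fun j _ => ?_
    rw [F]; ring
  have h2 : ∑ j, inc R n m (G i j) * inc R n m (f j) =
      inc R n m (f i) - inc R n m (f i - ∑ j, G i j * f j) := by
    rw [map_sub, map_sum]
    simp only [map_mul]
    ring
  have h3 : ∑ j, inc R n m (G i j) * L G j =
      - ∑ k, inc R n m ((G * G - G) i k) * Y R n m k := by
    have h4 : ∀ k, inc R n m ((G * G - G) i k) =
        ∑ j, inc R n m (G i j) * inc R n m (G j k) - inc R n m (G i k) := by
      intro k
      rw [Matrix.sub_apply, Matrix.mul_apply, map_sub, map_sum]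
      simp only [map_mul]
    simp only [h4, L, mul_sub, sub_mul, Finset.sum_sub_distrib, Finset.mul_sum, Finset.sum_mul]
    rw [Finset.sum_comm]
    have : ∀ j k, inc R n m (G i j) * (inc R n m (G j k) * Y R n m k) =
        inc R n m (G i j) * inc R n m (G j k) * Y R n m k := fun j k => by ring
    simp only [this]
    ring
  rw [h1, h2, h3]
  ring

variable (hG1 : ∀ i j, (G * G - G) i j ∈ (Ideal.span (Set.range f)) ^ 2)
  (hG2 : ∀ i, f i - ∑ j, G i j * f j ∈ (Ideal.span (Set.range f)) ^ 2)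

include hG1 hG2 in
theorem le_sup_sq : J' f G ≤ Ideal.span (Set.range (F f G)) ⊔ (J' f G) ^ 2 := by
  have hf : ∀ i, inc R n m (f i) ∈ Ideal.span (Set.range (F f G)) ⊔ (J' f G) ^ 2 := by
    intro i
    have h := sum_G_F f G i
    have h1 : inc R n m (f i) = ∑ j, inc R n m (G i j) * F f G j +
        (inc R n m (f i - ∑ j, G i j * f j) +
          ∑ k, inc R n m ((G * G - G) i k) * Y R n m k) := by
      rw [h]; ring
    rw [h1]
    refine Ideal.add_mem _ (Ideal.mem_sup_left ?_) (Ideal.mem_sup_right ?_)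
    · exact Ideal.sum_mem _ fun j _ =>
        Ideal.mul_mem_left _ _ (Ideal.subset_span (Set.mem_range_self j))
    · refine Ideal.add_mem _ (inc_mem_sq f G (hG2 i)) (Ideal.sum_mem _ fun k _ => ?_)
      exact Ideal.mul_mem_right _ _ (inc_mem_sq f G (hG1 i k))
  rw [J', sup_le_iff, Ideal.span_le, Ideal.span_le]
  constructor
  · rintro _ ⟨i, rfl⟩
    exact hf i
  · rintro _ ⟨i, rfl⟩
    have h1 : L G i = F f G i - inc R n m (f i) := by rw [F]; ring
    rw [h1]
    exact Ideal.sub_mem _ (Ideal.mem_sup_left (Ideal.subset_span (Set.mem_range_self i))) (hf i)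

theorem J'_fg : (J' f G).FG := by
  rw [J']
  exact Submodule.FG.sup (Submodule.fg_span (Set.finite_range _))
    (Submodule.fg_span (Set.finite_range _))

include hG1 hG2 in
theorem exists_h : ∃ h : MvPolynomial (Fin (n + m)) R, h - 1 ∈ J' f G ∧
    ∀ x ∈ J' f G, h * x ∈ Ideal.span (Set.range (F f G)) := by
  have h1 : J' f G ≤ Ideal.span (Set.range (F f G)) ⊔ (J' f G) • (J' f G) := by
    have := le_sup_sq f G hG1 hG2
    rwa [pow_two] at this
  obtain ⟨r, hr1, hr2⟩ := Submodule.exists_sub_one_mem_and_smul_le_of_fg_of_le_sup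
    (I := J' f G) (N := Ideal.span (Set.range (F f G))) (N' := J' f G) (P := J' f G)
    (J'_fg f G) le_rfl h1
  refine ⟨r, hr1, fun x hx => ?_⟩
  have : r • x ∈ r • (J' f G : Submodule _ _) := Submodule.smul_mem_pointwise_smul x r _ hx
  exact hr2 this

variable (hG3 : ∀ w : Fin m → MvPolynomial (Fin n) R,
    ∑ i, w i * f i ∈ (Ideal.span (Set.range f)) ^ 2 →
      ∀ j, ∑ i, w i * G i j ∈ Ideal.span (Set.range f))

include hG3 in
theorem key_rel (w : Fin m → MvPolynomial (Fin n) R)
    (hw : ∑ i, w i * f i ∈ (Ideal.span (Set.range f)) ^ 2) :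
    ∑ i, inc R n m (w i) * Y R n m i ∈ J' f G := by
  have h1 : ∑ i, inc R n m (w i) * Y R n m i =
      ∑ i, inc R n m (w i) * L G i + ∑ j, inc R n m (∑ i, w i * G i j) * Y R n m j := by
    simp only [L, mul_sub, Finset.sum_sub_distrib, map_sum, map_mul, Finset.sum_mul,
      Finset.mul_sum]
    rw [Finset.sum_comm]
    have : ∀ i j, inc R n m (w i) * (inc R n m (G i j) * Y R n m j) =
        inc R n m (w i) * inc R n m (G i j) * Y R n m j := fun i j => by ring
    simp only [this]
    ring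
  rw [h1]
  refine Ideal.add_mem _ (Ideal.sum_mem _ fun i _ => Ideal.mul_mem_left _ _ (L_mem f G i))
    (Ideal.sum_mem _ fun j _ => Ideal.mul_mem_right _ _ (inc_mem f G (hG3 w hw j)))

end Groth.Agent.Lib.Helper22.SyRetB
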