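import Mathlib
import Groth.Agent.Lib.Helper22.SyRetB

/-!
# Syntomic retract, part C (helper22): `C = R[x,y]/J'` is smooth over `A' = R[x]/J` with a retraction
-/

set_option autoImplicit false
set_option linter.style.haveILetI false

universe u

open MvPolynomial

namespace Groth.Agent.Lib.Helper22.SyRetC

open Groth.Agent.Lib.Helper22.SyRetB

variable {R : Type u} [CommRing R] {n m : ℕ}
variable (f : Fin m → MvPolynomial (Fin n) R) (G : Matrix (Fin m) (Fin m) (MvPolynomial (Fin n) R))

/-- `A' = R[x]/(f)` -/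
abbrev A' : Type u := MvPolynomial (Fin n) R ⧸ Ideal.span (Set.range f)

/-- `C = R[x,y]/J'` -/
abbrev Cq : Type u := MvPolynomial (Fin (n + m)) R ⧸ J' f G

/-- the structure map `A' → C` -/
noncomputable def algMap : A' f →+* Cq f G :=
  Ideal.Quotient.lift (Ideal.span (Set.range f))
    ((Ideal.Quotient.mk (J' f G)).comp (inc R n m).toRingHom) (fun x hx => by
      rw [RingHom.comp_apply]
      exact Ideal.Quotient.eq_zero_iff_mem.mpr (inc_mem f G hx))

theorem algMap_mk (x : MvPolynomial (Fin n) R) :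
    algMap f G (Ideal.Quotient.mk _ x) = Ideal.Quotient.mk _ (inc R n m x) := rfl

theorem inc_C (r : R) : inc R n m (C r) = C r := by
  rw [inc]; exact rename_C _ r

theorem inc_X (i : Fin n) : inc R n m (X i) = X (Fin.castAdd m i) := by
  rw [inc]; exact rename_X _ i

/-- the retraction at the polynomial level -/
noncomputable def rho₀ : MvPolynomial (Fin (n + m)) R →ₐ[R] A' f :=
  aeval (Fin.addCases (fun i => Ideal.Quotient.mk _ (X i)) (fun _ => 0))

theorem rho₀_inc (x : MvPolynomial (Fin n) R) :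
    rho₀ (m := m) f (inc R n m x) = Ideal.Quotient.mk _ x := by
  have h : (rho₀ (m := m) f).comp (inc R n m) = Ideal.Quotient.mkₐ R _ := by
    apply MvPolynomial.algHom_ext
    intro i
    rw [AlgHom.comp_apply, inc_X, rho₀, aeval_X, Fin.addCases_left]
    rfl
  exact congrArg (fun φ : MvPolynomial (Fin n) R →ₐ[R] A' f => φ x) h

theorem rho₀_Y (j : Fin m) : rho₀ (m := m) f (Y R n m j) = 0 := by
  rw [rho₀, Y, aeval_X, Fin.addCases_right]

theorem rho₀_J' (x : MvPolynomial (Fin (n + m)) R) (hx : x ∈ J' f G) : rho₀ (m := m) f x = 0 := by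
  have h1 : J' f G ≤ RingHom.ker (rho₀ (m := m) f).toRingHom := by
    rw [J', sup_le_iff, Ideal.span_le, Ideal.span_le]
    constructor
    · rintro _ ⟨i, rfl⟩
      show rho₀ (m := m) f (inc R n m (f i)) = 0
      rw [rho₀_inc]
      exact Ideal.Quotient.eq_zero_iff_mem.mpr (Ideal.subset_span (Set.mem_range_self i))
    · rintro _ ⟨i, rfl⟩
      show rho₀ (m := m) f (L G i) = 0
      rw [L, map_sub, map_sum, rho₀_Y]
      simp only [map_mul, rho₀_Y, mul_zero, Finset.sum_const_zero, sub_zero]
  exact h1 hx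

/-- the retraction `C → A'` -/
noncomputable def rho : Cq f G →ₐ[R] A' f :=
  Ideal.Quotient.liftₐ (J' f G) (rho₀ (m := m) f) (rho₀_J' f G)

theorem rho_algMap (a : A' f) : rho f G (algMap f G a) = a := by
  obtain ⟨x, rfl⟩ := Ideal.Quotient.mk_surjective a
  rw [algMap_mk]
  show rho₀ (m := m) f (inc R n m x) = _
  rw [rho₀_inc]

/-- the section at the polynomial level -/
noncomputable def sig₀ : MvPolynomial (Fin (n + m)) R →ₐ[R] MvPolynomial (Fin m) (A' f) :=
  aeval (Fin.addCases (fun i => C (Ideal.Quotient.mk _ (X i)))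
    (fun j => ∑ k, C (Ideal.Quotient.mk _ (G j k)) * X k))

theorem sig₀_inc (x : MvPolynomial (Fin n) R) :
    sig₀ f G (inc R n m x) = C (Ideal.Quotient.mk _ x) := by
  have h : (sig₀ f G).comp (inc R n m) =
      (IsScalarTower.toAlgHom R (A' f) (MvPolynomial (Fin m) (A' f))).comp
        (Ideal.Quotient.mkₐ R _) := by
    apply MvPolynomial.algHom_ext
    intro i
    rw [AlgHom.comp_apply, inc_X, sig₀, aeval_X, Fin.addCases_left]
    rfl
  exact congrArg (fun φ : MvPolynomial (Fin n) R →ₐ[R] MvPolynomial (Fin m) (A' f) => φ x) h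

theorem sig₀_Y (j : Fin m) :
    sig₀ f G (Y R n m j) = ∑ k, C (Ideal.Quotient.mk _ (G j k)) * X k := by
  rw [sig₀, Y, aeval_X, Fin.addCases_right]

variable (hidem : ∀ i j, (G * G - G) i j ∈ Ideal.span (Set.range f))

include hidem in
theorem sig₀_J' (x : MvPolynomial (Fin (n + m)) R) (hx : x ∈ J' f G) : sig₀ f G x = 0 := by
  have h1 : J' f G ≤ RingHom.ker (sig₀ f G).toRingHom := by
    rw [J', sup_le_iff, Ideal.span_le, Ideal.span_le]
    constructor
    · rintro _ ⟨i, rfl⟩
      show sig₀ f G (inc R n m (f i)) = 0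
      rw [sig₀_inc, Ideal.Quotient.eq_zero_iff_mem.mpr (Ideal.subset_span (Set.mem_range_self i)),
        map_zero]
    · rintro _ ⟨i, rfl⟩
      show sig₀ f G (L G i) = 0
      rw [L, map_sub, map_sum, sig₀_Y, sub_eq_zero]
      have h2 : ∀ j, sig₀ f G (inc R n m (G i j) * Y R n m j) =
          ∑ k, C (Ideal.Quotient.mk (Ideal.span (Set.range f)) (G i j * G j k)) *
            (X k : MvPolynomial (Fin m) (A' f)) := by
        intro j
        rw [map_mul, sig₀_inc, sig₀_Y, Finset.mul_sum]
        refine Finset.sum_congr rfl fun k _ => ?_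
        rw [map_mul, C_mul]; ring
      rw [Finset.sum_congr rfl (fun j _ => h2 j), Finset.sum_comm]
      refine Finset.sum_congr rfl fun k _ => ?_
      rw [← Finset.sum_mul, ← map_sum, ← map_sum]
      congr 2
      rw [← sub_eq_zero, ← map_sub]
      have h3 : G i k - ∑ j, G i j * G j k = - (G * G - G) i k := by
        rw [Matrix.sub_apply, Matrix.mul_apply]; ring
      rw [h3, map_neg, Ideal.Quotient.eq_zero_iff_mem.mpr (hidem i k), neg_zero]
  exact h1 hx

/-- the section `C → A'[y]` as an `R`-algebra map -/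
noncomputable def sigR : Cq f G →ₐ[R] MvPolynomial (Fin m) (A' f) :=
  Ideal.Quotient.liftₐ (J' f G) (sig₀ f G) (sig₀_J' f G hidem)

theorem sigR_mk (x : MvPolynomial (Fin (n + m)) R) :
    sigR f G hidem (Ideal.Quotient.mk _ x) = sig₀ f G x := rfl

/-- the algebra structure of `C` over `A'` -/
@[reducible] noncomputable def algInst : Algebra (A' f) (Cq f G) := (algMap f G).toAlgebra

attribute [local instance] algInst

theorem algebraMap_eq (a : A' f) : algebraMap (A' f) (Cq f G) a = algMap f G a := rfl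

instance tower : IsScalarTower R (A' f) (Cq f G) := by
  refine IsScalarTower.of_algebraMap_eq (R := R) (S := A' f) (A := Cq f G) (fun r => ?_)
  rw [algebraMap_eq]
  show _ = algMap f G (Ideal.Quotient.mk _ (C r))
  rw [algMap_mk, inc_C]
  rfl

/-- the projection `A'[y] → C` -/
noncomputable def piA : MvPolynomial (Fin m) (A' f) →ₐ[A' f] Cq f G :=
  aeval (fun j => Ideal.Quotient.mk (J' f G) (Y R n m j))

theorem piA_C (a : MvPolynomial (Fin n) R) :
    piA f G (C (Ideal.Quotient.mk _ a)) = Ideal.Quotient.mk _ (inc R n m a) := by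
  have h1 : (C (Ideal.Quotient.mk (Ideal.span (Set.range f)) a) : MvPolynomial (Fin m) (A' f)) =
      algebraMap (A' f) _ (Ideal.Quotient.mk _ a) := rfl
  rw [h1, AlgHom.commutes, algebraMap_eq, algMap_mk]

theorem piA_X (j : Fin m) : piA f G (X j) = Ideal.Quotient.mk _ (Y R n m j) := by
  rw [piA, aeval_X]

theorem piA_sig₀ (x : MvPolynomial (Fin (n + m)) R) :
    piA f G (sig₀ f G x) = Ideal.Quotient.mk (J' f G) x := by
  have key : ((piA f G).toRingHom.comp (sig₀ f G).toRingHom) = Ideal.Quotient.mk (J' f G) := by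
    apply MvPolynomial.ringHom_ext
    · intro r
      show piA f G (sig₀ f G (C r)) = Ideal.Quotient.mk _ (C r)
      have h1 : (C r : MvPolynomial (Fin (n + m)) R) = inc R n m (C r) := (inc_C r).symm
      rw [h1, sig₀_inc, piA_C]
    · intro k
      show piA f G (sig₀ f G (X k)) = Ideal.Quotient.mk _ (X k)
      induction k using Fin.addCases with
      | left i => rw [← inc_X, sig₀_inc, piA_C]
      | right j =>
        have h1 : (X (Fin.natAdd n j) : MvPolynomial (Fin (n + m)) R) = Y R n m j := rfl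
        rw [h1, sig₀_Y, map_sum]
        have h2 : ∀ k, piA f G (C (Ideal.Quotient.mk (Ideal.span (Set.range f)) (G j k)) * X k) =
            Ideal.Quotient.mk (J' f G) (inc R n m (G j k) * Y R n m k) := by
          intro k
          rw [map_mul, piA_X, piA_C, map_mul]
        rw [Finset.sum_congr rfl (fun k _ => h2 k), ← map_sum, eq_comm, ← sub_eq_zero, ← map_sub]
        exact Ideal.Quotient.eq_zero_iff_mem.mpr (L_mem f G j)
  exact congrArg (fun φ : MvPolynomial (Fin (n + m)) R →+* Cq f G => φ x) key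

/-- the section as an `A'`-algebra map -/
noncomputable def sigA : Cq f G →ₐ[A' f] MvPolynomial (Fin m) (A' f) :=
  { (sigR f G hidem).toRingHom with
    commutes' := fun a => by
      obtain ⟨x, rfl⟩ := Ideal.Quotient.mk_surjective a
      show sigR f G hidem (algMap f G (Ideal.Quotient.mk _ x)) = _
      rw [algMap_mk, sigR_mk, sig₀_inc]
      rfl }

theorem piA_sigA (c : Cq f G) : piA f G (sigA f G hidem c) = c := by
  obtain ⟨x, rfl⟩ := Ideal.Quotient.mk_surjective c
  show piA f G (sig₀ f G x) = _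
  exact piA_sig₀ f G x

include hidem in
theorem formallySmooth : Algebra.FormallySmooth (A' f) (Cq f G) := by
  refine Algebra.FormallySmooth.of_comp_surjective ?_
  intro B _ _ I hI φ
  obtain ⟨ψ, hψ⟩ := Algebra.FormallySmooth.exists_lift (R := A' f)
    (A := MvPolynomial (Fin m) (A' f)) I ⟨2, hI⟩ (φ.comp (piA f G))
  refine ⟨ψ.comp (sigA f G hidem), ?_⟩
  apply AlgHom.ext
  intro c
  have h1 := congrArg (fun θ : MvPolynomial (Fin m) (A' f) →ₐ[A' f] B ⧸ I =>
    θ (sigA f G hidem c)) hψ
  simp only [AlgHom.comp_apply] at h1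
  rw [AlgHom.comp_apply, AlgHom.comp_apply, h1, piA_sigA]

theorem finitePresentation : Algebra.FinitePresentation (A' f) (Cq f G) := by
  haveI : Algebra.FinitePresentation R (Cq f G) :=
    Algebra.FinitePresentation.quotient (R := R) (J'_fg f G)
  haveI : Algebra.FiniteType R (A' f) :=
    Algebra.FiniteType.of_surjective (Ideal.Quotient.mkₐ R _) (Ideal.Quotient.mkₐ_surjective R _)
  exact Algebra.FinitePresentation.of_restrict_scalars_finitePresentation R (A' f) (Cq f G)

include hidem in
theorem exists_smooth_retract :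
    ∃ (_ : Algebra (A' f) (Cq f G)) (_ : IsScalarTower R (A' f) (Cq f G)),
      (∀ x : MvPolynomial (Fin n) R, algebraMap (A' f) (Cq f G) (Ideal.Quotient.mk _ x) =
        Ideal.Quotient.mk _ (inc R n m x)) ∧
      Algebra.Smooth (A' f) (Cq f G) ∧
      ∃ ρ : Cq f G →ₐ[R] A' f, ∀ a, ρ (algebraMap (A' f) (Cq f G) a) = a :=
  ⟨algInst f G, tower f G, fun x => algMap_mk f G x,
    ⟨formallySmooth f G hidem, finitePresentation f G⟩, rho f G, fun a => rho_algMap f G a⟩

end Groth.Agent.Lib.Helper22.SyRetC
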