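import Mathlib

/-!
# Syntomic retract, part D (helper22): `(P/I)_h ≅ P/I'` when `h ∈ 1 + I'` and `h I' ⊆ I ⊆ I'`
-/

set_option autoImplicit false
set_option linter.style.haveILetI false

universe u

namespace Groth.Agent.Lib.Helper22.SyRetD

theorem exists_awayEquiv_quot {R P : Type u} [CommRing R] [CommRing P] [Algebra R P]
    (I I' : Ideal P) (hle : I ≤ I') (h : P) (h1 : h - 1 ∈ I') (h2 : ∀ x ∈ I', h * x ∈ I) :
    Nonempty (Localization.Away (Ideal.Quotient.mk I h) ≃ₐ[R] P ⧸ I') := by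
  letI alg : Algebra (P ⧸ I) (P ⧸ I') := (Ideal.Quotient.factor hle).toAlgebra
  have halg : ∀ p : P, algebraMap (P ⧸ I) (P ⧸ I') (Ideal.Quotient.mk I p) =
      Ideal.Quotient.mk I' p := fun p => rfl
  haveI tower : IsScalarTower R (P ⧸ I) (P ⧸ I') := by
    refine IsScalarTower.of_algebraMap_eq (R := R) (S := P ⧸ I) (A := P ⧸ I') (fun r => ?_)
    rfl
  have hg1 : algebraMap (P ⧸ I) (P ⧸ I') (Ideal.Quotient.mk I h) = 1 := by
    rw [halg, ← sub_eq_zero, ← map_one (Ideal.Quotient.mk I'), ← map_sub]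
    exact Ideal.Quotient.eq_zero_iff_mem.mpr h1
  haveI : IsLocalization.Away (Ideal.Quotient.mk I h) (P ⧸ I') := by
    refine ⟨?_, ?_, ?_⟩
    · rintro ⟨_, k, rfl⟩
      rw [map_pow, hg1, one_pow]
      exact isUnit_one
    · intro z
      obtain ⟨p, rfl⟩ := Ideal.Quotient.mk_surjective z
      refine ⟨⟨Ideal.Quotient.mk I p, 1⟩, ?_⟩
      simp only [OneMemClass.coe_one, map_one, mul_one]
      exact (halg p).symm
    · intro x y hxy
      obtain ⟨p, rfl⟩ := Ideal.Quotient.mk_surjective x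
      obtain ⟨q, rfl⟩ := Ideal.Quotient.mk_surjective y
      rw [halg, halg, Ideal.Quotient.eq] at hxy
      refine ⟨⟨Ideal.Quotient.mk I h, 1, pow_one _⟩, ?_⟩
      show Ideal.Quotient.mk I h * Ideal.Quotient.mk I p =
        Ideal.Quotient.mk I h * Ideal.Quotient.mk I q
      rw [← map_mul, ← map_mul, Ideal.Quotient.eq, ← mul_sub]
      exact h2 _ hxy
  let e₁ : Localization.Away (Ideal.Quotient.mk I h) ≃ₐ[P ⧸ I] P ⧸ I' :=
    IsLocalization.algEquiv (Submonoid.powers (Ideal.Quotient.mk I h)) _ _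
  exact ⟨e₁.restrictScalars R⟩

end Groth.Agent.Lib.Helper22.SyRetD
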