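import Mathlib

/-!
# Syntomic retract, part E (helper22): dimension bounds by local generation
-/

set_option autoImplicit false
set_option linter.style.haveILetI false

universe u

namespace Groth.Agent.Lib.Helper22.SyRetE

/-- the dimension can be bounded on a cover by basic opens -/
theorem ringKrullDim_le_of_forall_away {T : Type u} [CommRing T] (d : WithBot ℕ∞)
    (h : ∀ P : Ideal T, P.IsPrime → ∃ t : T, t ∉ P ∧ ringKrullDim (Localization.Away t) ≤ d) :
    ringKrullDim T ≤ d := by
  rw [ringKrullDim_le_iff_height_le]
  intro P hP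
  obtain ⟨t, htP, hdim⟩ := h P hP
  have hdisj : Disjoint (Submonoid.powers t : Set T) (P : Set T) := by
    rw [Set.disjoint_left]
    rintro _ ⟨k, rfl⟩ hk
    exact htP (hP.mem_of_pow_mem k hk)
  have h1 := IsLocalization.height_map_of_disjoint (S := Localization.Away t)
    (Submonoid.powers t) P hdisj
  haveI : (P.map (algebraMap T (Localization.Away t))).IsPrime :=
    IsLocalization.isPrime_of_isPrime_disjoint (Submonoid.powers t) _ P hP hdisj
  rw [← h1]
  exact (Ideal.height_le_ringKrullDim_of_isPrime).trans hdim

/-- the dimension of a basic open is bounded by the coheights of its points -/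
theorem ringKrullDim_away_le {S : Type u} [CommRing S] (g : S) (d : ℕ∞)
    (h : ∀ q : PrimeSpectrum S, g ∉ q.asIdeal → Order.coheight q ≤ d) :
    ringKrullDim (Localization.Away g) ≤ d := by
  rw [ringKrullDim, Order.krullDim_eq_iSup_coheight]
  refine iSup_le fun x => ?_
  have hmono : StrictMono (PrimeSpectrum.comap (algebraMap S (Localization.Away g))) := by
    apply Monotone.strictMono_of_injective
    · intro a b hab
      exact Ideal.comap_mono hab
    · exact PrimeSpectrum.localization_comap_injective (Localization.Away g) (Submonoid.powers g)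
  have h1 := Order.coheight_le_coheight_apply_of_strictMono _ hmono x
  have h2 : g ∉ (PrimeSpectrum.comap (algebraMap S (Localization.Away g)) x).asIdeal := by
    intro hmem
    have h3 : algebraMap S (Localization.Away g) g ∈ x.asIdeal := hmem
    exact x.isPrime.ne_top (Ideal.eq_top_of_isUnit_mem _ h3
      (IsLocalization.Away.algebraMap_isUnit g))
  exact WithBot.coe_le_coe.mpr (h1.trans (h _ h2))

/-- a ring which is locally a quotient of a polynomial ring in `c` variables over a Noetherian
ring of dimension `≤ d` with `d + c ≤ n` has dimension `≤ n` -/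
theorem ringKrullDim_le_of_locally_generated {T : Type u} [CommRing T] (n : ℕ)
    (h : ∀ P : Ideal T, P.IsPrime → ∃ t : T, t ∉ P ∧
      ∃ (D : Type u) (_ : CommRing D) (_ : IsNoetherianRing D) (c d : ℕ),
        ringKrullDim D ≤ (d : WithBot ℕ∞) ∧ d + c ≤ n ∧
        ∃ ψ : MvPolynomial (Fin c) D →+* Localization.Away t, Function.Surjective ψ) :
    ringKrullDim T ≤ (n : WithBot ℕ∞) := by
  apply ringKrullDim_le_of_forall_away
  intro P hP
  obtain ⟨t, htP, D, _, _, c, d, hD, hcd, ψ, hψ⟩ := h P hP
  refine ⟨t, htP, ?_⟩
  refine (ringKrullDim_le_of_surjective ψ hψ).trans ?_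
  rw [MvPolynomial.ringKrullDim_of_isNoetherianRing, Nat.card_fin]
  calc ringKrullDim D + (c : WithBot ℕ∞) ≤ (d : WithBot ℕ∞) + (c : WithBot ℕ∞) :=
        add_le_add_left hD _
    _ = ((d + c : ℕ) : WithBot ℕ∞) := by push_cast; rfl
    _ ≤ (n : WithBot ℕ∞) := by exact_mod_cast hcd

end Groth.Agent.Lib.Helper22.SyRetE
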