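import Mathlib
import Groth.Agent.Lib.Helper24.FlatLCISynt

/-!
# Syntomic retract, part F (helper22): base change of `IsKRegNear` to a field, keeping the length

Adapted from `Helper24.FlatLCISynt.isKoszulRegularIdeal_map_tensor / _map_residue`.
-/

set_option autoImplicit false
set_option maxHeartbeats 400000
set_option linter.style.haveILetI false
set_option linter.unusedSectionVars false

universe u

open MvPolynomial TensorProduct

namespace Groth.Agent.Lib.Helper22.SyRetF

open Groth.Agent.Lib.Helper12 Groth.Agent.Lib.Helper1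

variable (A : Type u) [CommRing A] (n : ℕ) (I : Ideal (MvPolynomial (Fin n) A))
  (κ : Type u) [Field κ] [Algebra A κ]

theorem isKRegNear_map_tensor
    (hflI : Module.Flat A (MvPolynomial (Fin n) A ⧸ I)) (g : MvPolynomial (Fin n) A) (N : ℕ)
    (hK : KRegIdeal.IsKRegNear I g N) :
    KRegIdeal.IsKRegNear (I.map (algebraMap (MvPolynomial (Fin n) A)
      (MvPolynomial (Fin n) A ⊗[A] κ)))
      (algebraMap (MvPolynomial (Fin n) A) (MvPolynomial (Fin n) A ⊗[A] κ) g) N := by
  obtain ⟨l, hlen, hl, hspan⟩ := hK.forall_loc (Localization.Away g)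
  haveI hfl1 : Module.Flat A (Localization.Away g) :=
    Module.Flat.trans A (MvPolynomial (Fin n) A) (Localization.Away g)
  haveI hfl2 : Module.Flat A (Localization.Away g ⧸ Ideal.ofList l) := by
    haveI : IsScalarTower A (MvPolynomial (Fin n) A ⧸ I)
        (Localization.Away g ⧸ I.map (algebraMap (MvPolynomial (Fin n) A)
          (Localization.Away g))) := by
      refine IsScalarTower.of_algebraMap_eq (R := A) (S := MvPolynomial (Fin n) A ⧸ I)
        (A := Localization.Away g ⧸ I.map (algebraMap (MvPolynomial (Fin n) A)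
          (Localization.Away g))) (fun a => ?_)
      rw [IsScalarTower.algebraMap_apply A (MvPolynomial (Fin n) A) (MvPolynomial (Fin n) A ⧸ I),
        IsScalarTower.algebraMap_apply A (Localization.Away g)
          (Localization.Away g ⧸ I.map (algebraMap (MvPolynomial (Fin n) A)
            (Localization.Away g))),
        IsScalarTower.algebraMap_apply A (MvPolynomial (Fin n) A) (Localization.Away g)]
      rfl
    haveI : Module.Flat (MvPolynomial (Fin n) A ⧸ I)
        (Localization.Away g ⧸ I.map (algebraMap (MvPolynomial (Fin n) A)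
          (Localization.Away g))) :=
      IsLocalization.flat _ (Algebra.algebraMapSubmonoid (MvPolynomial (Fin n) A ⧸ I)
        (Submonoid.powers g))
    have h3 : Module.Flat A
        (Localization.Away g ⧸ I.map (algebraMap (MvPolynomial (Fin n) A)
          (Localization.Away g))) :=
      Module.Flat.trans A (MvPolynomial (Fin n) A ⧸ I) _
    rw [hspan] at h3
    exact h3
  have hreg1 := Groth.Agent.Lib.Helper4.GorLCI.koszulRegular_tensor (A := A)
    (B := Localization.Away g) l
    ((Groth.Agent.Lib.Helper14.KoszulFun.isKoszulRegularSeq_iff _ l).mp hl) κ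
  obtain ⟨algTR, htower, hloc1⟩ := Groth.Agent.Lib.Helper4.GorLCI.exists_algebra_away A n κ g
  letI := algTR
  haveI := htower
  haveI := hloc1
  refine ⟨Localization.Away g ⊗[A] κ, inferInstance, algTR, hloc1,
    l.map (algebraMap (Localization.Away g) (Localization.Away g ⊗[A] κ)), by simpa using hlen,
    (Groth.Agent.Lib.Helper14.KoszulFun.isKoszulRegularSeq_iff _ _).mpr hreg1, ?_⟩
  calc (I.map (algebraMap (MvPolynomial (Fin n) A) (MvPolynomial (Fin n) A ⊗[A] κ))).map
        (algebraMap (MvPolynomial (Fin n) A ⊗[A] κ) (Localization.Away g ⊗[A] κ))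
      = I.map (algebraMap (MvPolynomial (Fin n) A) (Localization.Away g ⊗[A] κ)) := by
        rw [Ideal.map_map, ← IsScalarTower.algebraMap_eq]
    _ = (I.map (algebraMap (MvPolynomial (Fin n) A) (Localization.Away g))).map
          (algebraMap (Localization.Away g) (Localization.Away g ⊗[A] κ)) := by
        rw [Ideal.map_map, ← IsScalarTower.algebraMap_eq]
    _ = Ideal.ofList (l.map (algebraMap (Localization.Away g)
          (Localization.Away g ⊗[A] κ))) := by
        rw [hspan]
        exact Ideal.map_ofList _ l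

theorem isKRegNear_bot {B : Type u} [CommRing B] (G : B) :
    KRegIdeal.IsKRegNear (⊥ : Ideal B) G 0 :=
  ⟨Localization.Away G, inferInstance, inferInstance, inferInstance, [], rfl,
    RegMore.isKoszulRegularSeq_nil _, by rw [Ideal.map_bot, Ideal.ofList_nil]⟩

theorem isKRegNear_map_residue
    (hflI : Module.Flat A (MvPolynomial (Fin n) A ⧸ I)) (g : MvPolynomial (Fin n) A) (N : ℕ)
    (hK : KRegIdeal.IsKRegNear I g N) :
    KRegIdeal.IsKRegNear (I.map (map (algebraMap A κ) :
      MvPolynomial (Fin n) A →+* MvPolynomial (Fin n) κ)) (map (algebraMap A κ) g) N := by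
  have h1 := isKRegNear_map_tensor A n I κ hflI g N hK
  let eT : MvPolynomial (Fin n) κ ≃+* MvPolynomial (Fin n) A ⊗[A] κ :=
    ((MvPolynomial.algebraTensorAlgEquiv (σ := Fin n) A κ).symm.toRingEquiv).trans
      (Algebra.TensorProduct.comm A κ (MvPolynomial (Fin n) A)).toRingEquiv
  have heT : ∀ y : MvPolynomial (Fin n) A, eT (map (algebraMap A κ) y) = y ⊗ₜ[A] (1 : κ) := by
    intro y
    show (Algebra.TensorProduct.comm A κ _)
      ((algebraTensorAlgEquiv (σ := Fin n) A κ).symm (map (algebraMap A κ) y)) = _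
    have h0 : (algebraTensorAlgEquiv (σ := Fin n) A κ).symm (map (algebraMap A κ) y) =
        (1 : κ) ⊗ₜ[A] y := by
      rw [AlgEquiv.symm_apply_eq, algebraTensorAlgEquiv_tmul, one_smul]
    rw [h0, Algebra.TensorProduct.comm_tmul]
  have halg : ∀ y : MvPolynomial (Fin n) A, algebraMap (MvPolynomial (Fin n) A)
      (MvPolynomial (Fin n) A ⊗[A] κ) y = y ⊗ₜ[A] (1 : κ) := fun y => rfl
  have hker : RingHom.ker (eT : MvPolynomial (Fin n) κ →+* MvPolynomial (Fin n) A ⊗[A] κ) = ⊥ :=
    (RingHom.injective_iff_ker_eq_bot _).mp eT.injective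
  have hG : (eT : MvPolynomial (Fin n) κ →+* MvPolynomial (Fin n) A ⊗[A] κ)
      (map (algebraMap A κ) g) =
      algebraMap (MvPolynomial (Fin n) A) (MvPolynomial (Fin n) A ⊗[A] κ) g := by
    show eT _ = _
    rw [heT, halg]
  rw [← hG] at h1
  have h2 := KRegIdeal.IsKRegNear.comap'
    (eT : MvPolynomial (Fin n) κ →+* MvPolynomial (Fin n) A ⊗[A] κ) eT.surjective _
    (map (algebraMap A κ) g) 0 N (by rw [hker]; exact isKRegNear_bot _) h1
  rw [add_zero] at h2
  convert h2 using 1
  apply le_antisymm
  · rw [Ideal.map_le_iff_le_comap]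
    intro y hy
    rw [Ideal.mem_comap, Ideal.mem_comap]
    show eT (map (algebraMap A κ) y) ∈ _
    rw [heT, ← halg]
    exact Ideal.mem_map_of_mem _ hy
  · intro x hx
    rw [Ideal.mem_comap] at hx
    have h3 : I.map (algebraMap (MvPolynomial (Fin n) A) (MvPolynomial (Fin n) A ⊗[A] κ)) ≤
        (I.map (map (algebraMap A κ) : MvPolynomial (Fin n) A →+* MvPolynomial (Fin n) κ)).comap
          (eT.symm : MvPolynomial (Fin n) A ⊗[A] κ →+* MvPolynomial (Fin n) κ) := by
      rw [Ideal.map_le_iff_le_comap]
      intro y hy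
      rw [Ideal.mem_comap, Ideal.mem_comap]
      have h4 : (eT.symm : MvPolynomial (Fin n) A ⊗[A] κ →+* MvPolynomial (Fin n) κ)
          (algebraMap (MvPolynomial (Fin n) A) (MvPolynomial (Fin n) A ⊗[A] κ) y) =
          map (algebraMap A κ) y := by
        show eT.symm _ = _
        rw [RingEquiv.symm_apply_eq, heT, halg]
      rw [h4]
      exact Ideal.mem_map_of_mem _ hy
    have h5 := h3 hx
    rw [Ideal.mem_comap] at h5
    have h6 : (eT.symm : MvPolynomial (Fin n) A ⊗[A] κ →+* MvPolynomial (Fin n) κ)
        ((eT : MvPolynomial (Fin n) κ →+* MvPolynomial (Fin n) A ⊗[A] κ) x) = x :=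
      eT.symm_apply_apply x
    rw [h6] at h5
    exact h5

end Groth.Agent.Lib.Helper22.SyRetF
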