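import Mathlib
import Groth.Agent.Lib.Helper22.SyRetC
import Groth.Agent.Lib.Helper22.SyRetE
import Groth.Agent.Lib.Helper22.SyRetF
import Groth.Agent.Lib.Helper24.SyntRelGCI
import Groth.Agent.Lib.Helper24.CIGen

/-!
# Syntomic retract, part G (helper22): the fibres of `C = R[x,y]/J'` over `R` have dimension `≤ n`
-/

set_option autoImplicit false
set_option maxHeartbeats 400000
set_option linter.style.haveILetI false
set_option linter.unusedSectionVars false

universe u

open MvPolynomial TensorProduct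

namespace Groth.Agent.Lib.Helper22.SyRetG

open Groth.Agent.Lib.Helper22.SyRetB Groth.Agent.Lib.Helper22.SyRetC
open Groth.Agent.Lib.Helper12 Groth.Agent.Lib.Helper1 Groth.Agent.Lib.Helper24

section Gen

variable {R : Type u} [CommRing R] {n m : ℕ}
variable (f : Fin m → MvPolynomial (Fin n) R) (G : Matrix (Fin m) (Fin m) (MvPolynomial (Fin n) R))

variable (hG3 : ∀ w : Fin m → MvPolynomial (Fin n) R,
    ∑ i, w i * f i ∈ (Ideal.span (Set.range f)) ^ 2 →
      ∀ j, ∑ i, w i * G i j ∈ Ideal.span (Set.range f))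

include hG3 in
/-- local generation of the `y`-part of `C` by `c` elements -/
theorem exists_gen (g₀ : MvPolynomial (Fin n) R) (c : ℕ)
    (hK : KRegIdeal.IsKRegNear (Ideal.span (Set.range f)) g₀ c) :
    ∃ (u : Fin c → Cq f G) (N : ℕ), ∀ j : Fin m, ∃ a : Fin c → MvPolynomial (Fin n) R,
      (Ideal.Quotient.mk (J' f G) (inc R n m g₀)) ^ N * Ideal.Quotient.mk (J' f G) (Y R n m j) =
        ∑ k, Ideal.Quotient.mk (J' f G) (inc R n m (a k)) * u k := by
  classical
  obtain ⟨kl, hklen, hgen⟩ := hK.exists_genAway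
  rw [KRegIdeal.genAway_iff] at hgen
  subst hklen
  have hset : Ideal.ofList (kl.map Subtype.val) =
      Ideal.span (Set.range fun i : Fin kl.length => ((kl.get i).val : MvPolynomial (Fin n) R)) := by
    unfold Ideal.ofList
    congr 1
    ext x
    simp only [Set.mem_ofPred_eq, List.mem_map, Set.mem_range]
    constructor
    · rintro ⟨a, ha, rfl⟩
      obtain ⟨i, rfl⟩ := List.mem_iff_get.mp ha
      exact ⟨i, rfl⟩
    · rintro ⟨i, rfl⟩
      exact ⟨kl.get i, List.get_mem _ _, rfl⟩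
  rw [hset] at hgen
  set l : Fin kl.length → MvPolynomial (Fin n) R := fun i => (kl.get i).val with hl
  -- exponents
  have h1 : ∀ j : Fin m, ∃ N : ℕ, g₀ ^ N * f j ∈ Ideal.span (Set.range l) :=
    fun j => hgen (f j) (Ideal.subset_span (Set.mem_range_self j))
  choose Nj hNj using h1
  set N : ℕ := ∑ j, Nj j with hN
  have h2 : ∀ j : Fin m, g₀ ^ N * f j ∈ Ideal.span (Set.range l) := by
    intro j
    have hle : Nj j ≤ N := Finset.single_le_sum (f := Nj) (fun _ _ => Nat.zero_le _)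
      (Finset.mem_univ j)
    have : g₀ ^ N * f j = g₀ ^ (N - Nj j) * (g₀ ^ Nj j * f j) := by
      rw [← mul_assoc, ← pow_add, Nat.sub_add_cancel hle]
    rw [this]
    exact Ideal.mul_mem_left _ _ (hNj j)
  -- the `l k` in terms of `f`
  have h3 : ∀ k : Fin kl.length, ∃ β : Fin m → MvPolynomial (Fin n) R, ∑ j, β j * f j = l k :=
    fun k => Ideal.mem_span_range_iff_exists_fun.mp (kl.get k).2
  choose β hβ using h3
  refine ⟨fun k => ∑ j, Ideal.Quotient.mk (J' f G) (inc R n m (β k j)) *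
    Ideal.Quotient.mk (J' f G) (Y R n m j), N, fun j => ?_⟩
  obtain ⟨α, hα⟩ := Ideal.mem_span_range_iff_exists_fun.mp (h2 j)
  refine ⟨α, ?_⟩
  set w : Fin m → MvPolynomial (Fin n) R :=
    fun j' => (if j' = j then g₀ ^ N else 0) - ∑ k, α k * β k j' with hw
  have hw0 : ∑ j', w j' * f j' = 0 := by
    simp only [hw, sub_mul, Finset.sum_sub_distrib, ite_mul, zero_mul, Finset.sum_ite_eq',
      Finset.mem_univ, if_true, Finset.sum_mul]
    rw [Finset.sum_comm, ← hα, sub_eq_zero]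
    refine Finset.sum_congr rfl fun k _ => ?_
    rw [← hβ k, Finset.mul_sum]
    refine Finset.sum_congr rfl fun j' _ => ?_
    ring
  have hkey := key_rel f G hG3 w (by rw [hw0]; exact zero_mem _)
  have hpoly : ∑ i, inc R n m (w i) * Y R n m i =
      inc R n m g₀ ^ N * Y R n m j -
        ∑ k, inc R n m (α k) * ∑ i, inc R n m (β k i) * Y R n m i := by
    simp only [hw, map_sub, map_sum, map_mul, sub_mul, Finset.sum_sub_distrib, apply_ite
      (inc R n m), map_pow, map_zero, ite_mul, zero_mul, Finset.sum_ite_eq', Finset.mem_univ,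
      if_true, Finset.sum_mul, Finset.mul_sum]
    rw [Finset.sum_comm]
    congr 1
    refine Finset.sum_congr rfl fun k _ => Finset.sum_congr rfl fun i _ => ?_
    ring
  rw [hpoly] at hkey
  have h4 := Ideal.Quotient.eq_zero_iff_mem.mpr hkey
  rw [map_sub, sub_eq_zero] at h4
  simp only [map_mul, map_pow, map_sum] at h4
  simp only [map_mul, map_pow, map_sum]
  exact h4

end Gen

section Dim

variable (κ : Type u) [Field κ] (n : ℕ) (I : Ideal (MvPolynomial (Fin n) κ))

theorem coheight_le (g : MvPolynomial (Fin n) κ) (c : ℕ) (hK : KRegIdeal.IsKRegNear I g c)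
    (q : PrimeSpectrum (MvPolynomial (Fin n) κ ⧸ I)) (hq : Ideal.Quotient.mk I g ∉ q.asIdeal) :
    c ≤ n ∧ Order.coheight q ≤ ((n - c : ℕ) : ℕ∞) := by
  haveI := q.isPrime
  have hQ : g ∉ q.asIdeal.comap (Ideal.Quotient.mk I) := hq
  have hIQ := CIGen.le_comap_mk κ n I q.asIdeal
  have hloc := KDesc.IsKRegNear.locLen hK (q.asIdeal.comap (Ideal.Quotient.mk I)) hQ
  have hh := SyntRelGCI.height_of_locLen I (q.asIdeal.comap (Ideal.Quotient.mk I)) hIQ c hloc
  rw [Ideal.map_comap_of_surjective _ Ideal.Quotient.mk_surjective] at hh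
  obtain ⟨h1, h2⟩ := CIGen.height_add_coheight_eq κ n I q.asIdeal c hh
  refine ⟨h1, ?_⟩
  rw [← h2]
  exact le_add_self

theorem ringKrullDim_away_le (g : MvPolynomial (Fin n) κ) (c : ℕ)
    (hK : KRegIdeal.IsKRegNear I g c) :
    ringKrullDim (Localization.Away (Ideal.Quotient.mk I g)) ≤ (((n - c : ℕ) : ℕ∞) : WithBot ℕ∞) :=
  SyRetE.ringKrullDim_away_le _ _ fun q hq => (coheight_le κ n I g c hK q hq).2

end Dim

section Sub

theorem away_mem {T : Type u} [CommRing T] (t : T) (S' : Subring (Localization.Away t))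
    (h1 : ∀ x : T, algebraMap T (Localization.Away t) x ∈ S')
    (h2 : ∃ z ∈ S', algebraMap T (Localization.Away t) t * z = 1) (y : Localization.Away t) :
    y ∈ S' := by
  obtain ⟨z, hz, hz1⟩ := h2
  obtain ⟨k, a, ha⟩ := IsLocalization.Away.surj t y
  have h3 : y = algebraMap T (Localization.Away t) a * z ^ k := by
    rw [← ha, mul_assoc, ← mul_pow, hz1, one_pow, mul_one]
  rw [h3]
  exact S'.mul_mem (h1 a) (S'.pow_mem hz k)

theorem tensor_mem {R κ C T' : Type u} [CommRing R] [CommRing κ] [CommRing C] [CommRing T']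
    [Algebra R κ] [Algebra R C] (θ : κ ⊗[R] C →+* T') (S' : Subring T')
    (h1 : ∀ a : κ, θ (a ⊗ₜ[R] (1 : C)) ∈ S') (h2 : ∀ c : C, θ ((1 : κ) ⊗ₜ[R] c) ∈ S')
    (x : κ ⊗[R] C) : θ x ∈ S' := by
  induction x using TensorProduct.induction_on with
  | zero => rw [map_zero]; exact S'.zero_mem
  | tmul a c =>
    have : a ⊗ₜ[R] c = (a ⊗ₜ[R] (1 : C)) * ((1 : κ) ⊗ₜ[R] c) := by
      rw [Algebra.TensorProduct.tmul_mul_tmul, mul_one, one_mul]
    rw [this, map_mul]
    exact S'.mul_mem (h1 a) (h2 c)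
  | add x y hx hy => rw [map_add]; exact S'.add_mem hx hy

theorem mvPolynomial_mem {R T' : Type u} {σ : Type*} [CommRing R] [CommRing T']
    (θ : MvPolynomial σ R →+* T') (S' : Subring T')
    (h1 : ∀ r : R, θ (C r) ∈ S') (h2 : ∀ i : σ, θ (X i) ∈ S') (P : MvPolynomial σ R) :
    θ P ∈ S' := by
  induction P using MvPolynomial.induction_on with
  | C r => exact h1 r
  | add p q hp hq => rw [map_add]; exact S'.add_mem hp hq
  | mul_X p i hp => rw [map_mul]; exact S'.mul_mem hp (h2 i)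

end Sub

section Main

variable {R : Type u} [CommRing R] {n m : ℕ}
variable (f : Fin m → MvPolynomial (Fin n) R) (G : Matrix (Fin m) (Fin m) (MvPolynomial (Fin n) R))
variable (Cc : Type u) [CommRing Cc] [Algebra R Cc]
  (π : MvPolynomial (Fin (n + m)) R →ₐ[R] Cc)
variable (κ : Type u) [Field κ] [Algebra R κ]

/-- `x ↦ 1 ⊗ [inc x]` -/
noncomputable def iota : MvPolynomial (Fin n) R →+* κ ⊗[R] Cc :=
  (Algebra.TensorProduct.includeRight (R := R) (A := κ) (B := Cc)).toRingHom.comp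
    (π.toRingHom.comp (inc R n m).toRingHom)

theorem iota_apply (x : MvPolynomial (Fin n) R) :
    iota Cc π κ x = (1 : κ) ⊗ₜ[R] π (inc R n m x) := rfl

/-- `κ[x] → κ ⊗ C` -/
noncomputable def phi1 : MvPolynomial (Fin n) κ →+* κ ⊗[R] Cc :=
  eval₂Hom (algebraMap κ (κ ⊗[R] Cc)) (fun i => iota Cc π κ (X i))

theorem phi1_C (a : κ) : phi1 Cc π κ (C a) = a ⊗ₜ[R] (1 : Cc) := by
  rw [phi1, eval₂Hom_C, Algebra.TensorProduct.algebraMap_apply]
  rfl

theorem phi1_X (i : Fin n) : phi1 Cc π κ (X i) = iota Cc π κ (X i) := by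
  rw [phi1, eval₂Hom_X']

theorem phi1_map (x : MvPolynomial (Fin n) R) :
    phi1 Cc π κ (map (algebraMap R κ) x) = iota Cc π κ x := by
  induction x using MvPolynomial.induction_on with
  | C r =>
    rw [map_C, phi1_C, iota_apply, inc_C]
    have h1 : π (C r) = r • (1 : Cc) := by
      rw [← Algebra.algebraMap_eq_smul_one, ← MvPolynomial.algebraMap_eq, AlgHom.commutes]
    rw [h1, Algebra.algebraMap_eq_smul_one, TensorProduct.smul_tmul]
  | add p q hp hq => rw [map_add, map_add, map_add, hp, hq]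
  | mul_X p i hp => rw [map_mul, map_mul, map_mul, hp, map_X, phi1_X]

variable (hπ : ∀ x, x ∈ J' f G → π x = 0)

include hπ in
theorem iota_mem (x : MvPolynomial (Fin n) R) (hx : x ∈ Ideal.span (Set.range f)) :
    iota Cc π κ x = 0 := by
  rw [iota_apply, hπ _ (inc_mem f G hx), tmul_zero]

include hπ in
theorem phi1_mem (x : MvPolynomial (Fin n) κ)
    (hx : x ∈ (Ideal.span (Set.range f)).map (map (algebraMap R κ) :
      MvPolynomial (Fin n) R →+* MvPolynomial (Fin n) κ)) : phi1 Cc π κ x = 0 := by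
  have h1 : (Ideal.span (Set.range f)).map (map (algebraMap R κ) :
      MvPolynomial (Fin n) R →+* MvPolynomial (Fin n) κ) ≤ RingHom.ker (phi1 Cc π κ) := by
    rw [Ideal.map_le_iff_le_comap]
    intro y hy
    rw [Ideal.mem_comap, RingHom.mem_ker, phi1_map]
    exact iota_mem f G Cc π κ hπ y hy
  exact h1 hx

/-- `κ[x]/J̄ → κ ⊗ C` -/
noncomputable def phi2 : (MvPolynomial (Fin n) κ ⧸ (Ideal.span (Set.range f)).map
    (map (algebraMap R κ) : MvPolynomial (Fin n) R →+* MvPolynomial (Fin n) κ)) →+*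
    κ ⊗[R] Cc :=
  Ideal.Quotient.lift _ (phi1 Cc π κ) (phi1_mem f G Cc π κ hπ)

theorem phi2_mk (x : MvPolynomial (Fin n) κ) :
    phi2 f G Cc π κ hπ (Ideal.Quotient.mk _ x) = phi1 Cc π κ x := rfl

variable (hG3 : ∀ w : Fin m → MvPolynomial (Fin n) R,
    ∑ i, w i * f i ∈ (Ideal.span (Set.range f)) ^ 2 →
      ∀ j, ∑ i, w i * G i j ∈ Ideal.span (Set.range f))

include hG3 hπ in
theorem exists_gen' (g₀ : MvPolynomial (Fin n) R) (c : ℕ)
    (hK : KRegIdeal.IsKRegNear (Ideal.span (Set.range f)) g₀ c) :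
    ∃ (u : Fin c → Cc) (N : ℕ), ∀ j : Fin m, ∃ a : Fin c → MvPolynomial (Fin n) R,
      (π (inc R n m g₀)) ^ N * π (Y R n m j) = ∑ k, π (inc R n m (a k)) * u k := by
  obtain ⟨u, N, hu⟩ := exists_gen f G hG3 g₀ c hK
  let lam : Cq f G →ₐ[R] Cc := Ideal.Quotient.liftₐ (J' f G) π hπ
  have hlam : ∀ x, lam (Ideal.Quotient.mk (J' f G) x) = π x := fun x => rfl
  refine ⟨fun k => lam (u k), N, fun j => ?_⟩
  obtain ⟨a, ha⟩ := hu j
  refine ⟨a, ?_⟩
  have h1 := congrArg lam ha
  simp only [map_mul, map_pow, map_sum, hlam] at h1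
  exact h1

include hG3 hπ in
/-- the fibres of `C` over `R` have dimension at most `n` -/
theorem ringKrullDim_fibre_le (hsurj : Function.Surjective π)
    (hK : LCI.IsKoszulRegularIdeal (Ideal.span (Set.range f)))
    (hfl : Module.Flat R (MvPolynomial (Fin n) R ⧸ Ideal.span (Set.range f))) :
    ringKrullDim (κ ⊗[R] Cc) ≤ (n : WithBot ℕ∞) := by
  apply SyRetE.ringKrullDim_le_of_locally_generated n
  intro 𝔓 h𝔓
  haveI := h𝔓
  -- the prime of `R[x]`
  have hJQ : Ideal.span (Set.range f) ≤ 𝔓.comap (iota Cc π κ) := by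
    intro x hx
    rw [Ideal.mem_comap, iota_mem f G Cc π κ hπ x hx]
    exact 𝔓.zero_mem
  obtain ⟨g₀, hg₀, c, hK'⟩ := (KRegIdeal.isKoszulRegularIdeal_iff _).mp hK
    ⟨𝔓.comap (iota Cc π κ), inferInstance⟩ hJQ
  have ht : iota Cc π κ g₀ ∉ 𝔓 := hg₀
  obtain ⟨u, N, hu⟩ := exists_gen' f G Cc π hπ hG3 g₀ c hK'
  have hK'' := SyRetF.isKRegNear_map_residue R n (Ideal.span (Set.range f)) κ hfl g₀ c hK'
  set Jb : Ideal (MvPolynomial (Fin n) κ) := (Ideal.span (Set.range f)).map
    (map (algebraMap R κ) : MvPolynomial (Fin n) R →+* MvPolynomial (Fin n) κ) with hJb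
  set gb : MvPolynomial (Fin n) κ ⧸ Jb := Ideal.Quotient.mk Jb (map (algebraMap R κ) g₀) with hgb
  have hgbt : phi2 f G Cc π κ hπ gb = iota Cc π κ g₀ := by
    rw [hgb, phi2_mk, phi1_map]
  -- `c ≤ n`
  have hgbq : gb ∉ 𝔓.comap (phi2 f G Cc π κ hπ) := by
    rw [Ideal.mem_comap, hgbt]
    exact ht
  obtain ⟨hcn, -⟩ := coheight_le κ n Jb _ c hK''
    ⟨𝔓.comap (phi2 f G Cc π κ hπ), inferInstance⟩ hgbq
  have hD := ringKrullDim_away_le κ n Jb _ c hK''
  refine ⟨iota Cc π κ g₀, ht, Localization.Away gb, inferInstance, inferInstance, c, n - c, hD,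
    by omega, ?_⟩
  set t : κ ⊗[R] Cc := iota Cc π κ g₀ with htdef
  have hunit : IsUnit (((algebraMap (κ ⊗[R] Cc) (Localization.Away t)).comp
      (phi2 f G Cc π κ hπ)) gb) := by
    rw [RingHom.comp_apply, hgbt]
    exact IsLocalization.Away.algebraMap_isUnit t
  let φ₃ : Localization.Away gb →+* Localization.Away t := IsLocalization.Away.lift gb hunit
  have hφ₃ : ∀ b, φ₃ (algebraMap _ (Localization.Away gb) b) =
      algebraMap (κ ⊗[R] Cc) (Localization.Away t) (phi2 f G Cc π κ hπ b) :=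
    fun b => IsLocalization.Away.lift_eq gb hunit b
  let ψ : MvPolynomial (Fin c) (Localization.Away gb) →+* Localization.Away t :=
    eval₂Hom φ₃ (fun k => algebraMap (κ ⊗[R] Cc) (Localization.Away t) ((1 : κ) ⊗ₜ[R] u k))
  have hψC : ∀ d, ψ (C d) = φ₃ d := fun d => eval₂Hom_C _ _ d
  have hψX : ∀ k, ψ (X k) =
      algebraMap (κ ⊗[R] Cc) (Localization.Away t) ((1 : κ) ⊗ₜ[R] u k) :=
    fun k => eval₂Hom_X' _ _ k
  refine ⟨ψ, ?_⟩
  -- (a)
  have ha : ∀ P : MvPolynomial (Fin n) κ,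
      algebraMap (κ ⊗[R] Cc) (Localization.Away t) (phi1 Cc π κ P) ∈ ψ.range := by
    intro P
    refine ⟨C (algebraMap _ (Localization.Away gb) (Ideal.Quotient.mk Jb P)), ?_⟩
    rw [hψC, hφ₃, phi2_mk]
  have ha' : ∀ x : MvPolynomial (Fin n) R,
      algebraMap (κ ⊗[R] Cc) (Localization.Away t) (iota Cc π κ x) ∈ ψ.range := by
    intro x
    rw [← phi1_map]
    exact ha _
  -- (c)
  have hc : ∃ z ∈ ψ.range, algebraMap (κ ⊗[R] Cc) (Localization.Away t) t * z = 1 := by
    refine ⟨φ₃ (IsLocalization.Away.invSelf gb), ⟨C (IsLocalization.Away.invSelf gb), hψC _⟩, ?_⟩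
    have h0 : algebraMap (κ ⊗[R] Cc) (Localization.Away t) t =
        φ₃ (algebraMap _ (Localization.Away gb) gb) := by
      rw [hφ₃, hgbt]
    rw [h0, ← map_mul, IsLocalization.Away.mul_invSelf, map_one]
  obtain ⟨z, hz, hz1⟩ := hc
  -- (d)
  have hd : ∀ j : Fin m, algebraMap (κ ⊗[R] Cc) (Localization.Away t)
      ((1 : κ) ⊗ₜ[R] π (Y R n m j)) ∈ ψ.range := by
    intro j
    obtain ⟨a, hja⟩ := hu j
    have h1 := congrArg (fun y => algebraMap (κ ⊗[R] Cc) (Localization.Away t)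
      ((Algebra.TensorProduct.includeRight (R := R) (A := κ) (B := Cc)) y)) hja
    simp only [map_mul, map_pow, map_sum] at h1
    have h2 : algebraMap (κ ⊗[R] Cc) (Localization.Away t)
        ((1 : κ) ⊗ₜ[R] π (Y R n m j)) =
        z ^ N * (algebraMap (κ ⊗[R] Cc) (Localization.Away t) t ^ N *
          algebraMap (κ ⊗[R] Cc) (Localization.Away t)
            ((1 : κ) ⊗ₜ[R] π (Y R n m j))) := by
      rw [← mul_assoc, ← mul_pow, mul_comm z, hz1, one_pow, one_mul]
    rw [h2]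
    refine Subring.mul_mem _ (Subring.pow_mem _ hz N) ?_
    have h3 : algebraMap (κ ⊗[R] Cc) (Localization.Away t) t ^ N *
          algebraMap (κ ⊗[R] Cc) (Localization.Away t)
            ((1 : κ) ⊗ₜ[R] π (Y R n m j)) =
        ∑ k, algebraMap (κ ⊗[R] Cc) (Localization.Away t) (iota Cc π κ (a k)) *
          algebraMap (κ ⊗[R] Cc) (Localization.Away t) ((1 : κ) ⊗ₜ[R] u k) := h1
    rw [h3]
    exact Subring.sum_mem _ fun k _ => Subring.mul_mem _ (ha' _) ⟨X k, hψX k⟩
  -- (e)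
  have he : ∀ P : MvPolynomial (Fin (n + m)) R,
      algebraMap (κ ⊗[R] Cc) (Localization.Away t) ((1 : κ) ⊗ₜ[R] π P) ∈ ψ.range := by
    intro P
    refine mvPolynomial_mem ((algebraMap (κ ⊗[R] Cc) (Localization.Away t)).comp
      ((Algebra.TensorProduct.includeRight (R := R) (A := κ) (B := Cc)).toRingHom.comp
        π.toRingHom)) ψ.range ?_ ?_ P
    · intro r
      have := ha' (C r)
      rw [iota_apply, inc_C] at this
      exact this
    · intro i
      refine Fin.addCases (fun i' => ?_) (fun j => ?_) i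
      · have := ha' (X i')
        rw [iota_apply, inc_X] at this
        exact this
      · exact hd j
  intro y
  refine away_mem t ψ.range (fun x => ?_) ⟨z, hz, hz1⟩ y
  refine tensor_mem (algebraMap (κ ⊗[R] Cc) (Localization.Away t)) ψ.range ?_ ?_ x
  · intro a
    have := ha (C a)
    rwa [phi1_C] at this
  · intro c'
    obtain ⟨P, rfl⟩ := hsurj c'
    exact he P

end Main

end Groth.Agent.Lib.Helper22.SyRetG
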