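import Mathlib
import Groth.Agent.Lib.Helper22.SyRetA
import Groth.Agent.Lib.Helper22.SyRetC
import Groth.Agent.Lib.Helper22.SyRetD
import Groth.Agent.Lib.Helper22.SyRetG
import Groth.Agent.Lib.Helper22.RelGCIReg
import Groth.Agent.Lib.Helper22.SyntBC
import Groth.Agent.Lib.Helper24.RelGCIAway
import Groth.Agent.Lib.Helper24.FlatLCISynt
import Groth.Agent.Lib.Helper19.KRegCot

/-!
# Syntomic retract, part H (helper22): assembly

A syntomic `R → A` admits a smooth `A → C` with an `R`-retraction `C → A`, where `C` is a relative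
global complete intersection, flat over `R`.
-/

set_option autoImplicit false
set_option maxHeartbeats 400000
set_option linter.style.haveILetI false
set_option linter.unusedSectionVars false

universe u

open MvPolynomial TensorProduct

namespace Groth.Agent.Lib.Helper22.SyRetH

open Groth.Agent.Lib.Helper22.SyRetB Groth.Agent.Lib.Helper22.SyRetC
open Groth.Agent.Lib.Helper12 Groth.Agent.Lib.Helper1 Groth.Agent.Lib.Helper24

/-- converse transfer of fibre dimensions to a basic open -/
theorem topFibreDim_le_of_algEquiv_away' (R S T : Type u) [CommRing R] [CommRing S] [CommRing T]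
    [Algebra R S] [Algebra R T] (g : S) (e : Localization.Away g ≃ₐ[R] T) (m : WithBot ℕ∞)
    (hT : ∀ q' : PrimeSpectrum T,
      TopFibreDim.topFibreDim (PrimeSpectrum.comap (algebraMap R T)) q' ≤ m)
    (q : PrimeSpectrum S) (hq : g ∉ q.asIdeal) :
    TopFibreDim.topFibreDim (PrimeSpectrum.comap (algebraMap R S)) q ≤ m := by
  let ψ : S →+* T := (e : Localization.Away g →+* T).comp (algebraMap S (Localization.Away g))
  letI : Algebra S T := ψ.toAlgebra
  let e' : Localization.Away g ≃ₐ[S] T :=
    AlgEquiv.ofRingEquiv (f := e.toRingEquiv) (fun x => rfl)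
  haveI : IsLocalization.Away g T :=
    IsLocalization.isLocalization_of_algEquiv (Submonoid.powers g) e'
  have hj : Topology.IsOpenEmbedding (PrimeSpectrum.comap (algebraMap S T)) :=
    PrimeSpectrum.localization_away_isOpenEmbedding T g
  have hcomp : (algebraMap S T).comp (algebraMap R S) = algebraMap R T := by
    ext a
    show e (algebraMap S (Localization.Away g) (algebraMap R S a)) = algebraMap R T a
    rw [← IsScalarTower.algebraMap_apply R S (Localization.Away g), e.commutes]
  have hfj : (PrimeSpectrum.comap (algebraMap R S)) ∘ (PrimeSpectrum.comap (algebraMap S T)) =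
      PrimeSpectrum.comap (algebraMap R T) := by
    funext x
    rw [Function.comp_apply, ← PrimeSpectrum.comap_comp_apply, hcomp]
  have hrange : q ∈ Set.range (PrimeSpectrum.comap (algebraMap S T)) := by
    rw [PrimeSpectrum.localization_away_comap_range T g]
    exact hq
  obtain ⟨q', rfl⟩ := hrange
  rw [← TopFibreDim.topFibreDim_comp_isOpenEmbedding _ _ hj q',
    TopFibreDim.topFibreDim_congr hfj q']
  exact hT q'

theorem main {R A : Type u} [CommRing R] [CommRing A] [Algebra R A]
    (h : Synt.IsSyntomic R A) :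
    ∃ (n c : ℕ) (F : Fin c → MvPolynomial (Fin n) R), Synt.IsRelGCI R n c F ∧
      Module.Flat R (Synt.RelGCIRing R n c F) ∧
      ∃ (_ : Algebra A (Synt.RelGCIRing R n c F)) (_ : IsScalarTower R A (Synt.RelGCIRing R n c F)),
        Algebra.Smooth A (Synt.RelGCIRing R n c F) ∧
        ∃ ρ : Synt.RelGCIRing R n c F →ₐ[R] A,
          ∀ a : A, ρ (algebraMap A (Synt.RelGCIRing R n c F) a) = a := by
  obtain ⟨-, n, α, hα, hK⟩ := FlatLCISynt.isLCI_of_isSyntomic R A h
  haveI : Algebra.FinitePresentation R A := h.2.1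
  haveI : Module.Flat R A := h.1
  have hJfg : (RingHom.ker α.toRingHom).FG := Algebra.FinitePresentation.ker_fG_of_surjective α hα
  obtain ⟨m, f, hf⟩ := Submodule.fg_iff_exists_fin_generating_family.mp hJfg
  have hf' : Ideal.span (Set.range f) = RingHom.ker α.toRingHom := hf
  -- `A' ≃ A`
  let e : A' f ≃ₐ[R] A :=
    (Ideal.quotientEquivAlgOfEq R hf').trans (Ideal.quotientKerAlgEquivOfSurjective hα)
  have hKf : LCI.IsKoszulRegularIdeal (Ideal.span (Set.range f)) := by
    rw [hf']; exact hK
  have hflat : Module.Flat R (MvPolynomial (Fin n) R ⧸ Ideal.span (Set.range f)) :=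
    Module.Flat.of_linearEquiv e.toLinearEquiv
  -- the conormal module is projective
  have hker : RingHom.ker (algebraMap (MvPolynomial (Fin n) R)
      (MvPolynomial (Fin n) R ⧸ Ideal.span (Set.range f))) = Ideal.span (Set.range f) :=
    Ideal.mk_ker
  obtain ⟨-, hproj⟩ := Groth.Agent.Lib.Helper19.KRegCot.finite_projective_of_koszulRegular
    (R := MvPolynomial (Fin n) R) (S := MvPolynomial (Fin n) R ⧸ Ideal.span (Set.range f))
    (M := (Ideal.span (Set.range f)).Cotangent) Ideal.Quotient.mk_surjective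
    (Ideal.span (Set.range f)) hker (Ideal.span (Set.range f)).toCotangent
    (Ideal.toCotangent_surjective _) (fun x => Ideal.toCotangent_eq_zero _ x) hKf
  obtain ⟨G, hG1, hG2, hG3⟩ := SyRetA.exists_matrix f hproj
  have hidem : ∀ i j, (G * G - G) i j ∈ Ideal.span (Set.range f) :=
    fun i j => Ideal.pow_le_self two_ne_zero (hG1 i j)
  obtain ⟨hh, hh1, hh2⟩ := SyRetB.exists_h f G hG1 hG2
  obtain ⟨e₀⟩ := SyRetD.exists_awayEquiv_quot (R := R) (Ideal.span (Set.range (F f G))) (J' f G)
    (span_F_le f G) hh hh1 hh2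
  obtain ⟨e₁⟩ := RelGCIAway.exists_awayEquiv (R := R) (n + m) m (F f G) hh
  -- fibre dimension
  haveI : Algebra.FiniteType R (Cq f G) :=
    Algebra.FiniteType.of_surjective (Ideal.Quotient.mkₐ R _) (Ideal.Quotient.mkₐ_surjective R _)
  have hdim : ∀ p' : PrimeSpectrum R,
      ringKrullDim (p'.asIdeal.Fiber (Cq f G)) ≤ (n : WithBot ℕ∞) := fun p' =>
    SyRetG.ringKrullDim_fibre_le f G (Cq f G) (Ideal.Quotient.mkₐ R (J' f G))
      p'.asIdeal.ResidueField
      (fun x hx => Ideal.Quotient.eq_zero_iff_mem.mpr hx) hG3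
      (Ideal.Quotient.mkₐ_surjective R _) hKf hflat
  have hT : ∀ q' : PrimeSpectrum (Cq f G),
      TopFibreDim.topFibreDim (PrimeSpectrum.comap (algebraMap R (Cq f G))) q' ≤
        (((n + m - m : ℕ) : ℕ∞) : WithBot ℕ∞) := by
    intro q'
    rw [Nat.add_sub_cancel]
    exact RelGCIAway.topFibreDim_le_of_fibre_dim_le R (Cq f G) _ n (hdim _) q' rfl
  have hrel := RelGCIAway.isRelGCI_of_algEquiv_away R (n + m) m (n + m + 1) (m + 1) (by omega)
    (by omega) (F f G) _ _ e₁
    (fun q hq => topFibreDim_le_of_algEquiv_away' R _ (Cq f G) _ e₀ _ hT q hq)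
  refine ⟨n + m + 1, m + 1, _, hrel, RelGCIReg.flat R _ _ _ hrel, ?_⟩
  -- the algebra structure
  obtain ⟨algC, towerC, -, hsm, ρ', hρ'⟩ := SyRetC.exists_smooth_retract f G hidem
  letI := algC
  haveI := towerC
  let ε := e₀.symm.trans e₁
  let θ : A →+* Synt.RelGCIRing R (n + m + 1) (m + 1) (Fin.snoc (fun i => rename Fin.castSucc (F f G i))
      (rename Fin.castSucc hh * X (Fin.last (n + m)) - 1)) :=
    ((ε : Cq f G →+* _).comp (algebraMap (A' f) (Cq f G))).comp (e.symm : A →+* A' f)
  have hθ : ∀ a, θ a = ε (algebraMap (A' f) (Cq f G) (e.symm a)) := fun a => rfl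
  refine ⟨θ.toAlgebra, ?_, ?_, ?_⟩
  · letI := θ.toAlgebra
    refine IsScalarTower.of_algebraMap_eq (fun r => ?_)
    show _ = θ (algebraMap R A r)
    rw [hθ, e.symm.commutes, ← IsScalarTower.algebraMap_apply R (A' f) (Cq f G), ε.commutes]
  · have h1 : (e.symm : A →+* A' f).Smooth := RingHom.Smooth.of_bijective e.symm.bijective
    have h2 : (algebraMap (A' f) (Cq f G)).Smooth := RingHom.smooth_algebraMap.mpr hsm
    have h3 : (ε : Cq f G →+* Synt.RelGCIRing R (n + m + 1) (m + 1)
        (Fin.snoc (fun i => rename Fin.castSucc (F f G i))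
          (rename Fin.castSucc hh * X (Fin.last (n + m)) - 1))).Smooth :=
      RingHom.Smooth.of_bijective ε.bijective
    exact (h1.comp h2).comp h3
  · letI := θ.toAlgebra
    refine ⟨(e : A' f →ₐ[R] A).comp (ρ'.comp (ε.symm : _ →ₐ[R] Cq f G)), fun a => ?_⟩
    show e (ρ' (ε.symm (θ a))) = a
    rw [hθ, ε.symm_apply_apply, hρ', e.apply_symm_apply]

end Groth.Agent.Lib.Helper22.SyRetH
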