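import Mathlib
import Groth.Agent.Lib.Helper22.SyRetC

/-!
# Syntomic retract, part I (helper22): `A'[w]` is smooth over `C = R[x,y]/J'`

`β = sigR : C → A'[w_1..w_m]`, `ȳ_i ↦ ∑_j Ḡ_ij w_j`, makes `A'[w]` a retract of `C[w]` as a
`C`-algebra, hence a smooth `C`-algebra.
-/

set_option autoImplicit false
set_option maxHeartbeats 400000
set_option linter.style.haveILetI false
set_option linter.unusedSectionVars false

universe u

open MvPolynomial

namespace Groth.Agent.Lib.Helper22.SyRetI

open Groth.Agent.Lib.Helper22.SyRetB Groth.Agent.Lib.Helper22.SyRetC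

variable {R : Type u} [CommRing R] {n m : ℕ}
variable (f : Fin m → MvPolynomial (Fin n) R) (G : Matrix (Fin m) (Fin m) (MvPolynomial (Fin n) R))
variable (hidem : ∀ i j, (G * G - G) i j ∈ Ideal.span (Set.range f))

/-- the class of `y_j` in `C` -/
noncomputable def yb (j : Fin m) : Cq f G := Ideal.Quotient.mk (J' f G) (Y R n m j)

/-- the class of a polynomial in `x` in `C` -/
noncomputable def cb (x : MvPolynomial (Fin n) R) : Cq f G :=
  Ideal.Quotient.mk (J' f G) (inc R n m x)

theorem cb_add (x y : MvPolynomial (Fin n) R) : cb f G (x + y) = cb f G x + cb f G y := by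
  rw [cb, cb, cb, map_add, map_add]

theorem cb_mul (x y : MvPolynomial (Fin n) R) : cb f G (x * y) = cb f G x * cb f G y := by
  rw [cb, cb, cb, map_mul, map_mul]

theorem cb_sum {ι : Type*} (s : Finset ι) (x : ι → MvPolynomial (Fin n) R) :
    cb f G (∑ i ∈ s, x i) = ∑ i ∈ s, cb f G (x i) := by
  simp only [cb, map_sum]

theorem cb_mem (x : MvPolynomial (Fin n) R) (hx : x ∈ Ideal.span (Set.range f)) :
    cb f G x = 0 :=
  Ideal.Quotient.eq_zero_iff_mem.mpr (inc_mem f G hx)

theorem yb_rel (j : Fin m) : yb f G j = ∑ k, cb f G (G j k) * yb f G k := by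
  have h := Ideal.Quotient.eq_zero_iff_mem.mpr (L_mem f G j)
  rw [L, map_sub, sub_eq_zero, map_sum] at h
  simp only [map_mul] at h
  exact h

include hidem in
theorem cb_G_one_sub (j l : Fin m) : ∑ k, cb f G (G j k) * cb f G ((1 - G) k l) = 0 := by
  have h1 : ∑ k, cb f G (G j k) * cb f G ((1 - G) k l) = cb f G ((G * (1 - G)) j l) := by
    rw [Matrix.mul_apply, cb_sum]
    refine Finset.sum_congr rfl fun k _ => ?_
    rw [cb_mul]
  rw [h1]
  apply cb_mem
  have h2 : (G * (1 - G)) j l = - (G * G - G) j l := by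
    rw [Matrix.mul_sub, Matrix.mul_one, Matrix.sub_apply, Matrix.sub_apply]; ring
  rw [h2]
  exact neg_mem (hidem j l)

/-- the embedding `A'[w] → C[w]` -/
noncomputable def i₀ : MvPolynomial (Fin m) (A' f) →+* MvPolynomial (Fin m) (Cq f G) :=
  eval₂Hom ((C : Cq f G →+* MvPolynomial (Fin m) (Cq f G)).comp (algMap f G))
    (fun j => C (yb f G j) + ∑ k, C (cb f G ((1 - G) j k)) * X k)

theorem i₀_C (x : MvPolynomial (Fin n) R) :
    i₀ f G (C (Ideal.Quotient.mk _ x)) = C (cb f G x) := by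
  rw [i₀, eval₂Hom_C, RingHom.comp_apply, algMap_mk]
  rfl

theorem i₀_X (j : Fin m) :
    i₀ f G (X j) = C (yb f G j) + ∑ k, C (cb f G ((1 - G) j k)) * X k := by
  rw [i₀, eval₂Hom_X']

include hidem in
theorem i₀_sig₀_Y (j : Fin m) : i₀ f G (sig₀ f G (Y R n m j)) = C (yb f G j) := by
  rw [sig₀_Y, map_sum]
  have h1 : ∀ k, i₀ f G (C (Ideal.Quotient.mk (Ideal.span (Set.range f)) (G j k)) * X k) =
      C (cb f G (G j k) * yb f G k) + ∑ l, C (cb f G (G j k) * cb f G ((1 - G) k l)) * X l := by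
    intro k
    rw [map_mul, i₀_C, i₀_X, mul_add, Finset.mul_sum, C_mul]
    congr 1
    refine Finset.sum_congr rfl fun l _ => ?_
    rw [C_mul]; ring
  rw [Finset.sum_congr rfl (fun k _ => h1 k), Finset.sum_add_distrib, ← map_sum, ← yb_rel,
    Finset.sum_comm]
  have h2 : ∀ l, ∑ k, C (cb f G (G j k) * cb f G ((1 - G) k l)) * (X l : MvPolynomial (Fin m) (Cq f G))
      = 0 := by
    intro l
    rw [← Finset.sum_mul, ← map_sum, cb_G_one_sub f G hidem, map_zero, zero_mul]
  rw [Finset.sum_congr rfl (fun l _ => h2 l), Finset.sum_const_zero, add_zero]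

include hidem in
theorem i₀_sig₀ (x : MvPolynomial (Fin (n + m)) R) :
    i₀ f G (sig₀ f G x) = C (Ideal.Quotient.mk (J' f G) x) := by
  induction x using MvPolynomial.induction_on with
  | C r =>
    have h1 : (C r : MvPolynomial (Fin (n + m)) R) = inc R n m (C r) := (inc_C r).symm
    rw [h1, sig₀_inc, i₀_C]
    rfl
  | add p q hp hq => rw [map_add, map_add, hp, hq, map_add, map_add]
  | mul_X p k hp =>
    rw [map_mul, map_mul, hp, map_mul, map_mul]
    congr 1
    induction k using Fin.addCases with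
    | left i =>
      rw [← inc_X, sig₀_inc, i₀_C]
      rfl
    | right j =>
      have h1 : (X (Fin.natAdd n j) : MvPolynomial (Fin (n + m)) R) = Y R n m j := rfl
      rw [h1, i₀_sig₀_Y f G hidem]
      rfl

/-- the projection `C[w] → A'[w]` -/
noncomputable def p₀ : MvPolynomial (Fin m) (Cq f G) →+* MvPolynomial (Fin m) (A' f) :=
  eval₂Hom (sigR f G hidem).toRingHom X

theorem p₀_C (c : Cq f G) : p₀ f G hidem (C c) = sigR f G hidem c := by
  rw [p₀, eval₂Hom_C]
  rfl

theorem p₀_X (j : Fin m) : p₀ f G hidem (X j) = X j := by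
  rw [p₀, eval₂Hom_X']

theorem sigR_cb (x : MvPolynomial (Fin n) R) :
    sigR f G hidem (cb f G x) = C (Ideal.Quotient.mk _ x) := by
  rw [cb, sigR_mk, sig₀_inc]

theorem sigR_yb (j : Fin m) :
    sigR f G hidem (yb f G j) = ∑ k, C (Ideal.Quotient.mk _ (G j k)) * X k := by
  rw [yb, sigR_mk, sig₀_Y]

theorem p₀_i₀ (x : MvPolynomial (Fin m) (A' f)) : p₀ f G hidem (i₀ f G x) = x := by
  classical
  induction x using MvPolynomial.induction_on with
  | C a =>
    obtain ⟨y, rfl⟩ := Ideal.Quotient.mk_surjective a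
    rw [i₀_C, p₀_C, sigR_cb]
  | add p q hp hq => rw [map_add, map_add, hp, hq]
  | mul_X p j hp =>
    rw [map_mul, map_mul, hp]
    congr 1
    rw [i₀_X, map_add, p₀_C, sigR_yb, map_sum]
    have h1 : ∀ k, p₀ f G hidem (C (cb f G ((1 - G) j k)) * X k) =
        C (Ideal.Quotient.mk (Ideal.span (Set.range f)) ((1 - G) j k)) * X k := by
      intro k
      rw [map_mul, p₀_C, p₀_X, sigR_cb]
    rw [Finset.sum_congr rfl (fun k _ => h1 k), ← Finset.sum_add_distrib]
    have h2 : ∀ k, C (Ideal.Quotient.mk (Ideal.span (Set.range f)) (G j k)) *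
        (X k : MvPolynomial (Fin m) (A' f)) +
        C (Ideal.Quotient.mk (Ideal.span (Set.range f)) ((1 - G) j k)) * X k =
        if j = k then X k else 0 := by
      intro k
      rw [← add_mul, ← C_add, ← map_add, Matrix.sub_apply, add_sub_cancel, Matrix.one_apply]
      split_ifs with h
      · rw [map_one, C_1, one_mul]
      · rw [map_zero, C_0, zero_mul]
    rw [Finset.sum_congr rfl (fun k _ => h2 k), Finset.sum_ite_eq, if_pos (Finset.mem_univ j)]

/-- `A'[w]` as a `C`-algebra via `sigR` -/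
@[reducible] noncomputable def algP : Algebra (Cq f G) (MvPolynomial (Fin m) (A' f)) :=
  (sigR f G hidem).toRingHom.toAlgebra

include hidem in
theorem formallySmooth :
    @Algebra.FormallySmooth (Cq f G) (MvPolynomial (Fin m) (A' f)) _ _ (algP f G hidem) := by
  letI := algP f G hidem
  have halg : ∀ c, algebraMap (Cq f G) (MvPolynomial (Fin m) (A' f)) c = sigR f G hidem c :=
    fun c => rfl
  let iA : MvPolynomial (Fin m) (A' f) →ₐ[Cq f G] MvPolynomial (Fin m) (Cq f G) :=
    { i₀ f G with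
      commutes' := fun c => by
        obtain ⟨x, rfl⟩ := Ideal.Quotient.mk_surjective c
        show i₀ f G (sigR f G hidem (Ideal.Quotient.mk _ x)) = _
        rw [sigR_mk, i₀_sig₀ f G hidem]
        rfl }
  let pA : MvPolynomial (Fin m) (Cq f G) →ₐ[Cq f G] MvPolynomial (Fin m) (A' f) :=
    { p₀ f G hidem with
      commutes' := fun c => by
        show p₀ f G hidem (C c) = _
        rw [p₀_C, halg] }
  have hpi : ∀ x, pA (iA x) = x := fun x => p₀_i₀ f G hidem x
  refine Algebra.FormallySmooth.of_comp_surjective ?_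
  intro B _ _ I hI φ
  obtain ⟨ψ, hψ⟩ := Algebra.FormallySmooth.exists_lift (R := Cq f G)
    (A := MvPolynomial (Fin m) (Cq f G)) I ⟨2, hI⟩ (φ.comp pA)
  refine ⟨ψ.comp iA, ?_⟩
  apply AlgHom.ext
  intro x
  have h1 := congrArg (fun θ : MvPolynomial (Fin m) (Cq f G) →ₐ[Cq f G] B ⧸ I => θ (iA x)) hψ
  simp only [AlgHom.comp_apply] at h1
  rw [AlgHom.comp_apply, AlgHom.comp_apply, h1, hpi]

end Groth.Agent.Lib.Helper22.SyRetI
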