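import Mathlib
import Groth.Agent.Lib.Helper22.SyRetH
import Groth.Agent.Lib.Helper22.SyRetI
import Groth.Agent.Lib.Helper22.SyLiftD

/-!
# Syntomic lifting along `R → R/I` (helper22): assembly
-/

set_option autoImplicit false
set_option maxHeartbeats 400000
set_option linter.style.haveILetI false
set_option linter.unusedSectionVars false

universe u

open MvPolynomial TensorProduct

namespace Groth.Agent.Lib.Helper22.SyRetJ

open Groth.Agent.Lib.Helper22.SyRetB Groth.Agent.Lib.Helper22.SyRetC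
open Groth.Agent.Lib.Helper22.SyRetH
open Groth.Agent.Lib.Helper12 Groth.Agent.Lib.Helper1 Groth.Agent.Lib.Helper24

section Smooth

variable {R : Type u} [CommRing R] {n m : ℕ}
variable (f : Fin m → MvPolynomial (Fin n) R) (G : Matrix (Fin m) (Fin m) (MvPolynomial (Fin n) R))
variable (hidem : ∀ i j, (G * G - G) i j ∈ Ideal.span (Set.range f))

include hidem in
theorem sigR_smooth : @RingHom.Smooth (Cq f G) (MvPolynomial (Fin m) (A' f)) _ _
    (sigR f G hidem).toRingHom := by
  letI := SyRetI.algP f G hidem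
  haveI := SyRetI.formallySmooth f G hidem
  letI := algInst f G
  haveI : IsScalarTower (A' f) (Cq f G) (MvPolynomial (Fin m) (A' f)) := by
    refine IsScalarTower.of_algebraMap_eq (fun a => ?_)
    obtain ⟨x, rfl⟩ := Ideal.Quotient.mk_surjective a
    show C (Ideal.Quotient.mk _ x) = sigR f G hidem (algMap f G (Ideal.Quotient.mk _ x))
    rw [algMap_mk]
    exact (SyRetI.sigR_cb f G hidem x).symm
  haveI : Algebra.FinitePresentation (A' f) (Cq f G) := finitePresentation f G
  haveI : Algebra.FiniteType (A' f) (Cq f G) := inferInstance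
  haveI : Algebra.FinitePresentation (Cq f G) (MvPolynomial (Fin m) (A' f)) :=
    Algebra.FinitePresentation.of_restrict_scalars_finitePresentation (A' f) (Cq f G)
      (MvPolynomial (Fin m) (A' f))
  exact ⟨inferInstance, inferInstance⟩

end Smooth

/-- the data extracted from the proof of the retract theorem -/
theorem core {R A : Type u} [CommRing R] [CommRing A] [Algebra R A]
    (h : Synt.IsSyntomic R A) :
    ∃ (n m : ℕ) (f : Fin m → MvPolynomial (Fin n) R)
      (G : Matrix (Fin m) (Fin m) (MvPolynomial (Fin n) R))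
      (_ : ∀ i j, (G * G - G) i j ∈ Ideal.span (Set.range f))
      (_ : A' f ≃ₐ[R] A) (hh : MvPolynomial (Fin (n + m)) R),
      Synt.IsRelGCI R (n + m + 1) (m + 1)
        (Fin.snoc (fun i => rename Fin.castSucc (F f G i))
          (rename Fin.castSucc hh * X (Fin.last (n + m)) - 1)) ∧
      Nonempty (Cq f G ≃ₐ[R] Synt.RelGCIRing R (n + m + 1) (m + 1)
        (Fin.snoc (fun i => rename Fin.castSucc (F f G i))
          (rename Fin.castSucc hh * X (Fin.last (n + m)) - 1))) := by
  obtain ⟨-, n, α, hα, hK⟩ := FlatLCISynt.isLCI_of_isSyntomic R A h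
  haveI : Algebra.FinitePresentation R A := h.2.1
  haveI : Module.Flat R A := h.1
  have hJfg : (RingHom.ker α.toRingHom).FG := Algebra.FinitePresentation.ker_fG_of_surjective α hα
  obtain ⟨m, f, hf⟩ := Submodule.fg_iff_exists_fin_generating_family.mp hJfg
  have hf' : Ideal.span (Set.range f) = RingHom.ker α.toRingHom := hf
  -- `A' ≃ A`
  let e : A' f ≃ₐ[R] A :=
    (Ideal.quotientEquivAlgOfEq R hf').trans (Ideal.quotientKerAlgEquivOfSurjective hα)
  have hKf : LCI.IsKoszulRegularIdeal (Ideal.span (Set.range f)) := by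
    rw [hf']; exact hK
  have hflat : Module.Flat R (MvPolynomial (Fin n) R ⧸ Ideal.span (Set.range f)) :=
    Module.Flat.of_linearEquiv e.toLinearEquiv
  -- the conormal module is projective
  have hker : RingHom.ker (algebraMap (MvPolynomial (Fin n) R)
      (MvPolynomial (Fin n) R ⧸ Ideal.span (Set.range f))) = Ideal.span (Set.range f) :=
    Ideal.mk_ker
  obtain ⟨-, hproj⟩ := Groth.Agent.Lib.Helper19.KRegCot.finite_projective_of_koszulRegular
    (R := MvPolynomial (Fin n) R) (S := MvPolynomial (Fin n) R ⧸ Ideal.span (Set.range f))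
    (M := (Ideal.span (Set.range f)).Cotangent) Ideal.Quotient.mk_surjective
    (Ideal.span (Set.range f)) hker (Ideal.span (Set.range f)).toCotangent
    (Ideal.toCotangent_surjective _) (fun x => Ideal.toCotangent_eq_zero _ x) hKf
  obtain ⟨G, hG1, hG2, hG3⟩ := SyRetA.exists_matrix f hproj
  have hidem : ∀ i j, (G * G - G) i j ∈ Ideal.span (Set.range f) :=
    fun i j => Ideal.pow_le_self two_ne_zero (hG1 i j)
  obtain ⟨hh, hh1, hh2⟩ := SyRetB.exists_h f G hG1 hG2
  obtain ⟨e₀⟩ := SyRetD.exists_awayEquiv_quot (R := R) (Ideal.span (Set.range (F f G))) (J' f G)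
    (span_F_le f G) hh hh1 hh2
  obtain ⟨e₁⟩ := RelGCIAway.exists_awayEquiv (R := R) (n + m) m (F f G) hh
  -- fibre dimension
  haveI : Algebra.FiniteType R (Cq f G) :=
    Algebra.FiniteType.of_surjective (Ideal.Quotient.mkₐ R _) (Ideal.Quotient.mkₐ_surjective R _)
  have hdim : ∀ p' : PrimeSpectrum R,
      ringKrullDim (p'.asIdeal.Fiber (Cq f G)) ≤ (n : WithBot ℕ∞) := fun p' =>
    SyRetG.ringKrullDim_fibre_le f G (Cq f G) (Ideal.Quotient.mkₐ R (J' f G))
      p'.asIdeal.ResidueField
      (fun x hx => Ideal.Quotient.eq_zero_iff_mem.mpr hx) hG3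
      (Ideal.Quotient.mkₐ_surjective R _) hKf hflat
  have hT : ∀ q' : PrimeSpectrum (Cq f G),
      TopFibreDim.topFibreDim (PrimeSpectrum.comap (algebraMap R (Cq f G))) q' ≤
        (((n + m - m : ℕ) : ℕ∞) : WithBot ℕ∞) := by
    intro q'
    rw [Nat.add_sub_cancel]
    exact RelGCIAway.topFibreDim_le_of_fibre_dim_le R (Cq f G) _ n (hdim _) q' rfl
  have hrel := RelGCIAway.isRelGCI_of_algEquiv_away R (n + m) m (n + m + 1) (m + 1) (by omega)
    (by omega) (F f G) _ _ e₁
    (fun q hq => topFibreDim_le_of_algEquiv_away' R _ (Cq f G) _ e₀ _ hT q hq)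
  exact ⟨n, m, f, G, hidem, e, hh, hrel, ⟨e₀.symm.trans e₁⟩⟩

/-- a syntomic algebra `A` admits a relative global complete intersection `C` over `R` and a
smooth `R`-algebra map `C → A[w_1..w_m]` -/
theorem exists_data {R A : Type u} [CommRing R] [CommRing A] [Algebra R A]
    (h : Synt.IsSyntomic R A) :
    ∃ (n c : ℕ) (F : Fin c → MvPolynomial (Fin n) R) (_ : Synt.IsRelGCI R n c F) (m : ℕ)
      (β : Synt.RelGCIRing R n c F →ₐ[R] MvPolynomial (Fin m) A), β.toRingHom.Smooth := by
  obtain ⟨n, m, f, G, hidem, e, hh, hrel, ⟨ε⟩⟩ := core h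
  let r1 : Synt.RelGCIRing R (n + m + 1) (m + 1)
      (Fin.snoc (fun i => rename Fin.castSucc (F f G i))
        (rename Fin.castSucc hh * X (Fin.last (n + m)) - 1)) →ₐ[R] Cq f G := ε.symm
  let r3 : MvPolynomial (Fin m) (A' f) →ₐ[R] MvPolynomial (Fin m) A :=
    (MvPolynomial.mapAlgEquiv (Fin m) e : MvPolynomial (Fin m) (A' f) ≃ₐ[R] MvPolynomial (Fin m) A)
  let β : Synt.RelGCIRing R (n + m + 1) (m + 1)
      (Fin.snoc (fun i => rename Fin.castSucc (F f G i))
        (rename Fin.castSucc hh * X (Fin.last (n + m)) - 1)) →ₐ[R] MvPolynomial (Fin m) A :=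
    r3.comp ((sigR f G hidem).comp r1)
  refine ⟨n + m + 1, m + 1, _, hrel, m, β, ?_⟩
  have h1 : r1.toRingHom.Smooth := RingHom.Smooth.of_bijective (f := r1.toRingHom) ε.symm.bijective
  have h2 := sigR_smooth f G hidem
  have h3 : @RingHom.Smooth (MvPolynomial (Fin m) (A' f)) (MvPolynomial (Fin m) A) _ _
      r3.toRingHom :=
    @RingHom.Smooth.of_bijective (MvPolynomial (Fin m) (A' f)) (MvPolynomial (Fin m) A) _ _
      r3.toRingHom (MvPolynomial.mapAlgEquiv (Fin m) e).bijective
  exact (h1.comp h2).comp h3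

/-- **syntomic algebras lift along `R → R/I`** -/
theorem main6826 {R A₀ : Type u} [CommRing R] (I : Ideal R) [CommRing A₀]
    [Algebra (R ⧸ I) A₀] (h : Synt.IsSyntomic (R ⧸ I) A₀) :
    ∃ (A : Type u) (_ : CommRing A) (_ : Algebra R A), Synt.IsSyntomic R A ∧
      Nonempty ((A ⧸ I.map (algebraMap R A)) ≃ₐ[R ⧸ I] A₀) := by
  obtain ⟨n, c, F, hF, m, β, hβ⟩ := exists_data h
  exact Groth.Agent.Lib.Helper22.SyLiftD.exists_syntomic_lift I A₀ n c F hF m β hβ

end Groth.Agent.Lib.Helper22.SyRetJ
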