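import Mathlib
import Groth.Agent.Lib.Helper3.PEmb3
import Groth.Agent.Lib.Helper3.PIso

/-!
# The multiplication map `(s τ + t) · a(τ)` on polynomial rings, as a graded ring homomorphism
-/

set_option autoImplicit false
set_option linter.unusedSectionVars false
universe u
open CategoryTheory CategoryTheory.Limits AlgebraicGeometry
open scoped HomogeneousIdeal

namespace Groth.Agent.Lib.Helper22.SymMap

open MvPolynomial Groth.Agent.Lib.Helper3.PEmb2

variable (n : ℕ) {A : Type u} [CommRing A]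

lemma pred_lt {m : ℕ} (j : Fin (m + 1 + 1)) : (j : ℕ) - 1 < m + 1 := by
  have := j.isLt
  omega

/-- the linear form `s a_j + t a_{j-1}` -/
noncomputable def lin (s t : A) (j : Fin (n + 1 + 1)) : MvPolynomial (Fin (n + 1)) A :=
  (if h : (j : ℕ) < n + 1 then C s * X ⟨j, h⟩ else 0) +
    (if 0 < (j : ℕ) then C t * X ⟨(j : ℕ) - 1, pred_lt j⟩ else 0)

lemma lin_isHomogeneous (s t : A) (j : Fin (n + 1 + 1)) : (lin n s t j).IsHomogeneous 1 := by
  unfold lin
  refine IsHomogeneous.add ?_ ?_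
  · split_ifs
    · exact (isHomogeneous_X _ _).C_mul _
    · exact isHomogeneous_zero _ _ _
  · split_ifs
    · exact (isHomogeneous_X _ _).C_mul _
    · exact isHomogeneous_zero _ _ _

lemma lin_castSucc (s t : A) (i : Fin (n + 1)) (hi : 0 < (i : ℕ)) :
    lin n s t (Fin.castSucc i) = C s * X i + C t * X ⟨(i : ℕ) - 1, lt_of_le_of_lt (Nat.sub_le _ _) i.isLt⟩ := by
  unfold lin
  have h1 : ((Fin.castSucc i : Fin (n + 1 + 1)) : ℕ) < n + 1 := i.isLt
  have h2 : 0 < ((Fin.castSucc i : Fin (n + 1 + 1)) : ℕ) := hi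
  rw [dif_pos h1, if_pos h2]
  rfl

lemma lin_zero (s t : A) : lin n s t 0 = C s * X 0 := by
  unfold lin
  have h1 : ((0 : Fin (n + 1 + 1)) : ℕ) < n + 1 := Nat.succ_pos n
  have h2 : ¬ 0 < ((0 : Fin (n + 1 + 1)) : ℕ) := by simp
  rw [dif_pos h1, if_neg h2, add_zero]
  rfl

lemma lin_succ (s t : A) (i : Fin (n + 1)) (hi : (i : ℕ) + 1 < n + 1) :
    lin n s t (Fin.succ i) = C s * X ⟨(i : ℕ) + 1, hi⟩ + C t * X i := by
  unfold lin
  have h1 : ((Fin.succ i : Fin (n + 1 + 1)) : ℕ) < n + 1 := hi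
  have h2 : 0 < ((Fin.succ i : Fin (n + 1 + 1)) : ℕ) := Nat.succ_pos _
  rw [dif_pos h1, if_pos h2]
  congr 2

lemma lin_last (s t : A) : lin n s t (Fin.last (n + 1)) = C t * X (Fin.last n) := by
  unfold lin
  have h1 : ¬ ((Fin.last (n + 1) : Fin (n + 1 + 1)) : ℕ) < n + 1 := lt_irrefl (n + 1)
  have h2 : 0 < ((Fin.last (n + 1) : Fin (n + 1 + 1)) : ℕ) := Nat.succ_pos n
  rw [dif_neg h1, if_pos h2, zero_add]
  congr 2

/-- the graded ring homomorphism `c_j ↦ s a_j + t a_{j-1}` -/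
noncomputable def Fhom (s t : A) :
    CohB1.polyGrading (n + 1) (ULift.{u} ℤ) →+*ᵍ CohB1.polyGrading n A where
  toRingHom := eval₂Hom (C.comp (θ₀ A)) (lin n s t)
  map_mem := fun {i x} hx => by
    have h := IsHomogeneous.eval₂ (n := 1) hx (C.comp (θ₀ A)) (lin n s t)
      (fun r => isHomogeneous_C _ _) (lin_isHomogeneous n s t)
    rw [one_mul] at h
    exact h

lemma Fhom_X (s t : A) (j : Fin (n + 1 + 1)) : Fhom n s t (X j) = lin n s t j := by
  change eval₂Hom (C.comp (θ₀ A)) (lin n s t) (X j) = _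
  rw [coe_eval₂Hom, eval₂_X]

lemma Fhom_C (s t : A) (r : ULift.{u} ℤ) : Fhom n s t (C r) = C (θ₀ A r) := by
  change eval₂Hom (C.comp (θ₀ A)) (lin n s t) (C r) = _
  rw [coe_eval₂Hom, eval₂_C]
  rfl


/-- the recursion recovering the variables from the linear forms -/
theorem X_mem_of_lin_mem (s t : A) (h : s = 1 ∨ t = 1)
    (S : AddSubgroup (MvPolynomial (Fin (n + 1)) A))
    (hS : ∀ j, lin n s t j ∈ S) (hs : ∀ p ∈ S, C s * p ∈ S) (ht : ∀ p ∈ S, C t * p ∈ S) :
    ∀ k : Fin (n + 1), X k ∈ S := by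
  rcases h with h | h
  · subst h
    have key : ∀ (k : ℕ) (hk : k < n + 1), (X ⟨k, hk⟩ : MvPolynomial (Fin (n + 1)) A) ∈ S := by
      intro k
      induction k with
      | zero =>
        intro hk
        have h0 := hS 0
        rw [lin_zero, C_1, one_mul] at h0
        exact h0
      | succ k ih =>
        intro hk
        have hk' : k < n + 1 := by omega
        have h1 := hS (Fin.succ ⟨k, hk'⟩)
        rw [lin_succ n 1 t ⟨k, hk'⟩ hk, C_1, one_mul] at h1
        have h2 := S.sub_mem h1 (ht _ (ih hk'))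
        rwa [add_sub_cancel_right] at h2
    intro k
    exact key k.1 k.2
  · subst h
    have key : ∀ (m : ℕ) (hm : m ≤ n),
        (X ⟨n - m, by omega⟩ : MvPolynomial (Fin (n + 1)) A) ∈ S := by
      intro m
      induction m with
      | zero =>
        intro hm
        have h0 := hS (Fin.last (n + 1))
        rw [lin_last, C_1, one_mul] at h0
        exact h0
      | succ m ih =>
        intro hm
        have hm' : m ≤ n := by omega
        have hi : (n - (m + 1)) + 1 < n + 1 := by omega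
        have h1 := hS (Fin.succ ⟨n - (m + 1), by omega⟩)
        rw [lin_succ n s 1 ⟨n - (m + 1), by omega⟩ hi, C_1, one_mul] at h1
        have e : (⟨(n - (m + 1)) + 1, hi⟩ : Fin (n + 1)) = ⟨n - m, by omega⟩ := by
          apply Fin.ext
          change n - (m + 1) + 1 = n - m
          omega
        rw [e] at h1
        have h2 := S.sub_mem h1 (hs _ (ih hm'))
        rwa [add_sub_cancel_left] at h2
    intro k
    have hk := k.2
    have e : k = ⟨n - (n - k.1), by omega⟩ := by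
      apply Fin.ext
      change k.1 = n - (n - k.1)
      omega
    rw [e]
    exact key (n - k.1) (by omega)

theorem irr_Fhom (s t : A) (h : s = 1 ∨ t = 1) :
    (CohB1.polyGrading n A)₊ ≤
      ((CohB1.polyGrading (n + 1) (ULift.{u} ℤ))₊).map (Fhom n s t) := by
  rw [HomogeneousIdeal.irrelevant_le]
  intro i hi b hb
  change b ∈ Ideal.map (Fhom n s t) ((CohB1.polyGrading (n + 1) (ULift.{u} ℤ))₊).toIdeal
  set J := Ideal.map (Fhom n s t) ((CohB1.polyGrading (n + 1) (ULift.{u} ℤ))₊).toIdeal with hJ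
  have hX : ∀ k : Fin (n + 1), (X k : MvPolynomial (Fin (n + 1)) A) ∈ J := by
    refine X_mem_of_lin_mem n s t h J.toAddSubgroup (fun j => ?_)
      (fun p hp => J.mul_mem_left _ hp) (fun p hp => J.mul_mem_left _ hp)
    change lin n s t j ∈ J
    rw [← Fhom_X]
    refine Ideal.mem_map_of_mem _ ?_
    exact HomogeneousIdeal.mem_irrelevant_of_mem _ Nat.one_pos (isHomogeneous_X _ j)
  have hb' : b.IsHomogeneous i := hb
  rw [← support_sum_monomial_coeff b]
  refine sum_mem (fun μ hμ => ?_)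
  have hdeg : μ.degree = i := by
    by_contra hne
    exact (mem_support_iff.mp hμ) (hb'.coeff_eq_zero hne)
  obtain ⟨k, hk⟩ : ∃ k, μ k ≠ 0 := by
    by_contra hne
    push Not at hne
    have : μ = 0 := Finsupp.ext hne
    rw [this] at hdeg
    simp at hdeg
    omega
  have e : μ = (μ - Finsupp.single k 1) + Finsupp.single k 1 := by
    ext j
    by_cases hj : j = k
    · subst hj
      simp only [Finsupp.coe_add, Finsupp.coe_tsub, Pi.add_apply, Pi.sub_apply,
        Finsupp.single_eq_same]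
      omega
    · simp [Finsupp.single_apply, Ne.symm hj]
  rw [e, monomial_add_single, pow_one]
  exact J.mul_mem_left _ (hX k)

lemma comp_θ₀ {A' : Type u} [CommRing A'] (ρ : A →+* A') : ρ.comp (θ₀ A) = θ₀ A' := by
  ext r
  change ρ (θ₀ A r) = θ₀ A' r
  unfold θ₀
  simp

lemma map_lin {A' : Type u} [CommRing A'] (ρ : A →+* A') (s t : A) (j : Fin (n + 1 + 1)) :
    MvPolynomial.map ρ (lin n s t j) = lin n (ρ s) (ρ t) j := by
  unfold lin
  split_ifs <;> simp

/-- naturality in the coefficient ring -/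
theorem mapG_comp_Fhom {A' : Type u} [CommRing A'] (ρ : A →+* A') (s t : A) :
    (mapG n ρ).comp (Fhom n s t) = Fhom n (ρ s) (ρ t) := by
  have hring : (MvPolynomial.map ρ).comp (Fhom n s t).toRingHom = (Fhom n (ρ s) (ρ t)).toRingHom := by
    apply MvPolynomial.ringHom_ext
    · intro r
      change MvPolynomial.map ρ (Fhom n s t (C r)) = Fhom n (ρ s) (ρ t) (C r)
      rw [Fhom_C, Fhom_C, map_C]
      congr 1
      exact congrArg (fun φ : ULift.{u} ℤ →+* A' => φ r) (comp_θ₀ ρ)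
    · intro j
      change MvPolynomial.map ρ (Fhom n s t (X j)) = Fhom n (ρ s) (ρ t) (X j)
      rw [Fhom_X, Fhom_X, map_lin]
  exact GradedRingHom.ext (fun x => congrArg (fun φ : _ →+* _ => φ x) hring)

lemma lin_smul (l s t : A) (j : Fin (n + 1 + 1)) :
    lin n (l * s) (l * t) j = C l * lin n s t j := by
  unfold lin
  split_ifs <;> simp [mul_add, mul_assoc]

/-- the universal relation: `-t/s` is a root of the product -/
theorem sum_lin_mul (s t : A) :
    ∑ j : Fin (n + 1 + 1), lin n s t j * C ((-t) ^ (n + 1 - (j : ℕ)) * s ^ (j : ℕ)) = 0 := by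
  let P : Fin (n + 1 + 1) → MvPolynomial (Fin (n + 1)) A := fun j =>
    if h : (j : ℕ) < n + 1 then C s * X ⟨j, h⟩ * C ((-t) ^ (n + 1 - (j : ℕ)) * s ^ (j : ℕ)) else 0
  let Q : Fin (n + 1 + 1) → MvPolynomial (Fin (n + 1)) A := fun j =>
    if 0 < (j : ℕ) then C t * X ⟨(j : ℕ) - 1, pred_lt j⟩ *
        C ((-t) ^ (n + 1 - (j : ℕ)) * s ^ (j : ℕ)) else 0
  have h1 : ∀ j : Fin (n + 1 + 1), lin n s t j * C ((-t) ^ (n + 1 - (j : ℕ)) * s ^ (j : ℕ)) =
      P j + Q j := by
    intro j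
    unfold lin
    rw [add_mul]
    congr 1
    · change _ = dite _ _ _
      split_ifs <;> simp
    · change _ = ite _ _ _
      split_ifs <;> simp
  rw [Finset.sum_congr rfl (fun j _ => h1 j), Finset.sum_add_distrib, Fin.sum_univ_castSucc P,
    Fin.sum_univ_succ Q]
  have h2 : P (Fin.last (n + 1)) = 0 := dif_neg (lt_irrefl (n + 1))
  have h3 : Q 0 = 0 := if_neg (lt_irrefl 0)
  rw [h2, h3, add_zero, zero_add, ← Finset.sum_add_distrib]
  refine Finset.sum_eq_zero (fun i _ => ?_)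
  have h4 : ((Fin.castSucc i : Fin (n + 1 + 1)) : ℕ) < n + 1 := i.isLt
  have h5 : 0 < ((Fin.succ i : Fin (n + 1 + 1)) : ℕ) := Nat.succ_pos _
  have e1 : P (Fin.castSucc i) = C s * X i * C ((-t) ^ (n + 1 - (i : ℕ)) * s ^ (i : ℕ)) :=
    dif_pos h4
  have e2' : (⟨((Fin.succ i : Fin (n + 1 + 1)) : ℕ) - 1, pred_lt _⟩ : Fin (n + 1)) = i := by
    apply Fin.ext
    change (i : ℕ) + 1 - 1 = i
    omega
  have e2 : Q (Fin.succ i) = C t * X i * C ((-t) ^ (n + 1 - ((i : ℕ) + 1)) * s ^ ((i : ℕ) + 1)) := by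
    have h6 : Q (Fin.succ i) = C t * X ⟨((Fin.succ i : Fin (n + 1 + 1)) : ℕ) - 1, pred_lt _⟩ *
        C ((-t) ^ (n + 1 - ((Fin.succ i : Fin (n + 1 + 1)) : ℕ)) *
          s ^ ((Fin.succ i : Fin (n + 1 + 1)) : ℕ)) := if_pos h5
    rw [h6, e2']
    rfl
  rw [e1, e2]
  have hi := i.isLt
  have e5 : n + 1 - (i : ℕ) = (n - (i : ℕ)) + 1 := by omega
  have e6 : n + 1 - ((i : ℕ) + 1) = n - (i : ℕ) := by omega
  rw [e5, e6, pow_succ, pow_succ]
  simp only [map_mul, map_neg, map_pow]
  ring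

end Groth.Agent.Lib.Helper22.SymMap
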