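import Groth.Agent.Lib.Helper22.SymMapA

/-!
# The morphisms `P^n_A ⟶ P^{n+1}_ℤ` given by multiplication with a linear form
-/

set_option autoImplicit false
set_option linter.unusedSectionVars false
universe u
open CategoryTheory CategoryTheory.Limits AlgebraicGeometry TopologicalSpace Opposite
open scoped HomogeneousIdeal

namespace Groth.Agent.Lib.Helper22.SymMap

open MvPolynomial Groth.Agent.Lib.Helper3 Groth.Agent.Lib.Helper3.PEmb2
  Groth.Agent.Lib.Helper3.PEmb1
  Groth.Agent.Lib.Helper3.QCSec Groth.Agent.Lib.Helper3.ProjFrac Groth.Agent.Lib.Helper3.ToProj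
  Groth.Agent.Lib.Helper3.ProjHet Groth.Agent.Lib.Helper3.VAConv

variable (n : ℕ) {A : Type u} [CommRing A]

/-- the morphism `P^n_A ⟶ P^{n+1}_ℤ` -/
noncomputable def psi (s t : A) (h : s = 1 ∨ t = 1) :
    Proj (CohB1.polyGrading n A) ⟶ Proj (CohB1.polyGrading (n + 1) (ULift.{u} ℤ)) :=
  Proj.map (Fhom n s t) (irr_Fhom n s t h)

theorem psi_congr {s t s' t' : A} (hs : s = s') (ht : t = t') (h : s = 1 ∨ t = 1)
    (h' : s' = 1 ∨ t' = 1) : psi n s t h = psi n s' t' h' := by
  subst hs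
  subst ht
  rfl

/-- naturality of `psi` in the coefficient ring -/
theorem map_mapG_psi {A' : Type u} [CommRing A'] (ρ : A →+* A') (s t : A) (h : s = 1 ∨ t = 1)
    (h' : ρ s = 1 ∨ ρ t = 1) :
    Proj.map (mapG n ρ) (irr_mapG n ρ) ≫ psi n s t h = psi n (ρ s) (ρ t) h' := by
  unfold psi
  rw [← Proj.map_comp]
  have e := mapG_comp_Fhom n ρ s t
  have key : ∀ (G G' : CohB1.polyGrading (n + 1) (ULift.{u} ℤ) →+*ᵍ CohB1.polyGrading n A')
      (hG : (CohB1.polyGrading n A')₊ ≤ ((CohB1.polyGrading (n + 1) (ULift.{u} ℤ))₊).map G)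
      (hG' : (CohB1.polyGrading n A')₊ ≤ ((CohB1.polyGrading (n + 1) (ULift.{u} ℤ))₊).map G'),
      G = G' → Proj.map G hG = Proj.map G' hG' := by
    intro G G' hG hG' hGG
    subst hGG
    rfl
  exact key _ _ _ _ e

/-- scaling the linear form by a scalar does not change the morphism -/
theorem psi_smul (l s t : A) (h : s = 1 ∨ t = 1) (h' : l * s = 1 ∨ l * t = 1) :
    psi n (l * s) (l * t) h' = psi n s t h := by
  unfold psi
  set G := Fhom n (l * s) (l * t) with hG
  set G' := Fhom n s t with hG'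
  have hGX : ∀ j, G (X j) = C l * G' (X j) := by
    intro j
    rw [hG, hG', Fhom_X, Fhom_X, lin_smul]
  have e : ∀ k : κ.{u} (n + 1),
      Proj.basicOpen (CohB1.polyGrading n A) (G (X k.down)) ≤
        Proj.map G (irr_Fhom n _ _ h') ⁻¹ᵁ
          Proj.basicOpen (CohB1.polyGrading (n + 1) (ULift.{u} ℤ)) (X k.down) :=
    fun k => le_of_eq rfl
  have e' : ∀ k : κ.{u} (n + 1),
      Proj.basicOpen (CohB1.polyGrading n A) (G (X k.down)) ≤
        Proj.map G' (irr_Fhom n _ _ h) ⁻¹ᵁ
          Proj.basicOpen (CohB1.polyGrading (n + 1) (ULift.{u} ℤ)) (X k.down) := by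
    intro k
    have h1 : Proj.map G' (irr_Fhom n _ _ h) ⁻¹ᵁ
        Proj.basicOpen (CohB1.polyGrading (n + 1) (ULift.{u} ℤ)) (X k.down) =
        Proj.basicOpen (CohB1.polyGrading n A) (G' (X k.down)) := rfl
    rw [h1, hGX, Proj.basicOpen_mul]
    exact inf_le_right
  refine hom_ext_of_deh (𝒜 := CohB1.polyGrading (n + 1) (ULift.{u} ℤ)) _ _
    (fun k : κ.{u} (n + 1) => (X k.down : MvPolynomial (Fin (n + 1 + 1)) (ULift.{u} ℤ)))
    (fun k => hXZ (n + 1) k.down)
    (fun k => Proj.basicOpen (CohB1.polyGrading n A) (G (X k.down))) (fun y => ?_) e e'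
    (fun k b => ?_)
  · obtain ⟨j, hj⟩ := exists_mem_basicOpen_X (ULift.{u} ℤ) (n + 1)
      ((Proj.map G (irr_Fhom n _ _ h')) y)
    exact ⟨⟨j⟩, hj⟩
  · have hring : ((Proj.map G (irr_Fhom n _ _ h')).appLE _ _ (e k)).hom.comp
        (deh (hXZ (n + 1) k.down)) =
        ((Proj.map G' (irr_Fhom n _ _ h)).appLE _ _ (e' k)).hom.comp
          (deh (hXZ (n + 1) k.down)) := by
      apply MvPolynomial.ringHom_ext
      · intro c
        exact congrArg (fun φ => φ c) (VAChart.ulift_int_hom_ext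
          ((((Proj.map G (irr_Fhom n _ _ h')).appLE _ _ (e k)).hom.comp
            (deh (hXZ (n + 1) k.down))).comp MvPolynomial.C)
          ((((Proj.map G' (irr_Fhom n _ _ h)).appLE _ _ (e' k)).hom.comp
            (deh (hXZ (n + 1) k.down))).comp MvPolynomial.C))
      · intro j
        have hgood : Good (Proj.basicOpen (CohB1.polyGrading (n + 1) (ULift.{u} ℤ)) (X k.down))
            (X j : MvPolynomial (Fin (n + 1 + 1)) (ULift.{u} ℤ)) (X k.down) :=
          good_of_mem (hXZ (n + 1) j) (hXZ (n + 1) k.down) (fun x => x.2)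
        have h1 : deh (hXZ (n + 1) k.down) (X j) =
            fn (Proj.basicOpen (CohB1.polyGrading (n + 1) (ULift.{u} ℤ)) (X k.down))
              (X j : MvPolynomial (Fin (n + 1 + 1)) (ULift.{u} ℤ)) (X k.down) := by
          rw [deh_of_mem (hXZ (n + 1) k.down) (hXZ (n + 1) j), pow_one]
        change (Proj.map G (irr_Fhom n _ _ h')).appLE _ _ (e k) (deh (hXZ (n + 1) k.down) (X j)) =
          (Proj.map G' (irr_Fhom n _ _ h)).appLE _ _ (e' k) (deh (hXZ (n + 1) k.down) (X j))
        rw [h1, appLE_eq_rres, appLE_eq_rres, app_fn G _ hgood, app_fn G' _ hgood,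
          rres_fn (e k) (good_map G _ hgood), rres_fn (e' k) (good_map G' _ hgood)]
        refine fn_eq ((good_map G _ hgood).mono (e k)) ((good_map G' _ hgood).mono (e' k)) ?_
        rw [hGX, hGX]
        ring
    exact congrArg (fun φ => φ b) hring

end Groth.Agent.Lib.Helper22.SymMap
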