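import Groth.Agent.Lib.Helper22.SymMapB
import Groth.Agent.Lib.Helper3.QProj
import Groth.Agent.Lib.Helper6.ProjSpaceGamma

/-!
# Gluing the multiplication morphism `P^1 × P^n ⟶ P^{n+1}` over `ℤ`
-/

set_option autoImplicit false
set_option linter.unusedSectionVars false
universe u
open CategoryTheory CategoryTheory.Limits AlgebraicGeometry TopologicalSpace Opposite
open scoped HomogeneousIdeal

namespace Groth.Agent.Lib.Helper22.SymMap

open MvPolynomial Groth.Agent.Lib.Helper3 Groth.Agent.Lib.Helper3.PEmb2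
  Groth.Agent.Lib.Helper3.PEmb1 Groth.Agent.Lib.Helper3.PEmb3 HomogeneousLocalization

/-- the structure morphism of `P^m_ℤ` -/
noncomputable abbrev tS (m : ℕ) :
    Proj (CohB1.polyGrading m (ULift.{u} ℤ)) ⟶ Spec (CommRingCat.of (ULift.{u} ℤ)) :=
  CohB1.ProjSpace.toSpec m (ULift.{u} ℤ)

/-- the two homogeneous coordinates of `P^1` -/
noncomputable abbrev xx (i : Fin (1 + 1)) : MvPolynomial (Fin (1 + 1)) (ULift.{u} ℤ) := X i

/-- the coordinate ring of the chart `x_i ≠ 0` -/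
abbrev Ach (i : Fin (1 + 1)) : Type u :=
  Away (CohB1.polyGrading 1 (ULift.{u} ℤ)) (xx i)

/-- the coordinate ring of the overlap `x_i x_j ≠ 0` -/
abbrev Aov (i j : Fin (1 + 1)) : Type u :=
  Away (CohB1.polyGrading 1 (ULift.{u} ℤ)) (xx i * xx j)

lemma hx1 (k : Fin (1 + 1)) : xx.{u} k ∈ CohB1.polyGrading 1 (ULift.{u} ℤ) (1 • 1) := by
  simpa using hXZ.{u} 1 k

lemma hxx (i j : Fin (1 + 1)) :
    xx.{u} i * xx j ∈ CohB1.polyGrading 1 (ULift.{u} ℤ) (1 + 1) :=
  SetLike.mul_mem_graded (hXZ.{u} 1 i) (hXZ.{u} 1 j)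

/-- the function `x_k / x_i` -/
noncomputable def co (i k : Fin (1 + 1)) : Ach.{u} i :=
  Away.mk _ (hXZ.{u} 1 i) 1 (xx k) (hx1 k)

lemma co_self (i : Fin (1 + 1)) : co.{u} i i = 1 := by
  apply HomogeneousLocalization.val_injective
  rw [co, Away.val_mk, HomogeneousLocalization.val_one, ← Localization.mk_one]
  exact Localization.mk_eq_mk_iff.mpr (Localization.r_of_eq (by simp))

lemma co_one_or (i : Fin (1 + 1)) : co.{u} i 0 = 1 ∨ co.{u} i 1 = 1 := by
  fin_cases i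
  · exact Or.inl (co_self 0)
  · exact Or.inr (co_self 1)

/-- restriction from the chart `i` to the overlap -/
noncomputable def rhoL (i j : Fin (1 + 1)) : Ach.{u} i →+* Aov.{u} i j :=
  awayMap (CohB1.polyGrading 1 (ULift.{u} ℤ)) (hXZ.{u} 1 j) rfl

/-- restriction from the chart `j` to the overlap -/
noncomputable def rhoR (i j : Fin (1 + 1)) : Ach.{u} j →+* Aov.{u} i j :=
  awayMap (CohB1.polyGrading 1 (ULift.{u} ℤ)) (hXZ.{u} 1 i) (mul_comm (xx i) (xx j))

/-- the transition function `x_j / x_i` on the overlap -/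
noncomputable def ll (i j : Fin (1 + 1)) : Aov.{u} i j :=
  Away.mk _ (hxx i j) 1 (xx j * xx j) (by simpa using hxx.{u} j j)

theorem rhoL_co (i j k : Fin (1 + 1)) :
    rhoL.{u} i j (co i k) = ll i j * rhoR i j (co j k) := by
  apply HomogeneousLocalization.val_injective
  rw [HomogeneousLocalization.val_mul]
  unfold co rhoL rhoR ll
  rw [awayMap_mk, awayMap_mk, Away.val_mk, Away.val_mk, Away.val_mk, Localization.mk_mul]
  refine Localization.mk_eq_mk_iff.mpr (Localization.r_of_eq ?_)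
  simp only [Submonoid.coe_mul, pow_one]
  ring


section Glue

variable (n : ℕ)

/-- `P^1_ℤ × P^n_ℤ` -/
noncomputable abbrev XX : Scheme.{u} := pullback (tS.{u} 1) (tS.{u} n)

noncomputable abbrev pr1 : XX.{u} n ⟶ Proj (CohB1.polyGrading 1 (ULift.{u} ℤ)) := pullback.fst _ _

noncomputable abbrev pr2 : XX.{u} n ⟶ Proj (CohB1.polyGrading n (ULift.{u} ℤ)) := pullback.snd _ _

/-- the chart `x_i ≠ 0` of `P^1` -/
noncomputable abbrev ιc (i : Fin (1 + 1)) :
    Spec (CommRingCat.of (Ach.{u} i)) ⟶ Proj (CohB1.polyGrading 1 (ULift.{u} ℤ)) :=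
  Proj.awayι _ (xx i) (hXZ.{u} 1 i) Nat.one_pos

/-- the preimage of the chart in the product -/
noncomputable abbrev Pc (i : Fin (1 + 1)) : Scheme.{u} := pullback (pr1.{u} n) (ιc.{u} i)

noncomputable abbrev fc (i : Fin (1 + 1)) : Pc.{u} n i ⟶ XX.{u} n := pullback.fst _ _

noncomputable abbrev qc (i : Fin (1 + 1)) : Pc.{u} n i ⟶ Spec (CommRingCat.of (Ach.{u} i)) :=
  pullback.snd _ _

noncomputable abbrev rc (i : Fin (1 + 1)) :
    Pc.{u} n i ⟶ Proj (CohB1.polyGrading n (ULift.{u} ℤ)) := fc n i ≫ pr2 n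

/-- the identification of the chart with `P^n` over the coordinate ring of the chart -/
noncomputable def ec (i : Fin (1 + 1)) : Pc.{u} n i ⟶ Proj (CohB1.polyGrading n (Ach.{u} i)) :=
  iZ n (qc n i) (rc n i)

/-- the multiplication morphism on a chart -/
noncomputable def mc (i : Fin (1 + 1)) :
    Pc.{u} n i ⟶ Proj (CohB1.polyGrading (n + 1) (ULift.{u} ℤ)) :=
  ec n i ≫ psi n (co i 0) (co i 1) (co_one_or i)

theorem glue_cond (i j : Fin (1 + 1)) :
    pullback.fst (fc.{u} n i) (fc n j) ≫ mc n i = pullback.snd (fc n i) (fc n j) ≫ mc n j := by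
  set a := pullback.fst (fc.{u} n i) (fc n j) with ha
  set b := pullback.snd (fc.{u} n i) (fc n j) with hb
  have hab : a ≫ fc n i = b ≫ fc n j := pullback.condition
  have ci : fc.{u} n i ≫ pr1 n = qc n i ≫ ιc i := pullback.condition
  have cj : fc.{u} n j ≫ pr1 n = qc n j ≫ ιc j := pullback.condition
  have h0 : (a ≫ qc n i) ≫ ιc i = (b ≫ qc n j) ≫ ιc j := by
    rw [Category.assoc, Category.assoc, ← ci, ← cj, ← Category.assoc, ← Category.assoc, hab]
  let iso := Proj.pullbackAwayιIso (CohB1.polyGrading 1 (ULift.{u} ℤ)) (hXZ.{u} 1 i) Nat.one_pos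
    (hXZ.{u} 1 j) Nat.one_pos (rfl : xx i * xx j = xx i * xx j)
  let q' : pullback (fc.{u} n i) (fc n j) ⟶ Spec (CommRingCat.of (Aov.{u} i j)) :=
    pullback.lift (a ≫ qc n i) (b ≫ qc n j) h0 ≫ iso.hom
  let r' : pullback (fc.{u} n i) (fc n j) ⟶ Proj (CohB1.polyGrading n (ULift.{u} ℤ)) :=
    a ≫ rc n i
  have hq1 : a ≫ qc n i = q' ≫ Spec.map (CommRingCat.ofHom (rhoL i j)) := by
    change _ = (pullback.lift _ _ h0 ≫ iso.hom) ≫ _
    rw [Category.assoc]
    have := Proj.pullbackAwayιIso_hom_SpecMap_awayMap_left (CohB1.polyGrading 1 (ULift.{u} ℤ))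
      (hXZ.{u} 1 i) Nat.one_pos (hXZ.{u} 1 j) Nat.one_pos (rfl : xx i * xx j = xx i * xx j)
    change _ = pullback.lift _ _ h0 ≫ (Proj.pullbackAwayιIso (CohB1.polyGrading 1 (ULift.{u} ℤ))
      (hXZ.{u} 1 i) Nat.one_pos (hXZ.{u} 1 j) Nat.one_pos
      (rfl : xx i * xx j = xx i * xx j)).hom ≫ Spec.map (CommRingCat.ofHom
        (awayMap (CohB1.polyGrading 1 (ULift.{u} ℤ)) (hXZ.{u} 1 j) rfl))
    rw [this, pullback.lift_fst]
  have hq2 : b ≫ qc n j = q' ≫ Spec.map (CommRingCat.ofHom (rhoR i j)) := by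
    change _ = (pullback.lift _ _ h0 ≫ iso.hom) ≫ _
    rw [Category.assoc]
    have := Proj.pullbackAwayιIso_hom_SpecMap_awayMap_right (CohB1.polyGrading 1 (ULift.{u} ℤ))
      (hXZ.{u} 1 i) Nat.one_pos (hXZ.{u} 1 j) Nat.one_pos (rfl : xx i * xx j = xx i * xx j)
    change _ = pullback.lift _ _ h0 ≫ (Proj.pullbackAwayιIso (CohB1.polyGrading 1 (ULift.{u} ℤ))
      (hXZ.{u} 1 i) Nat.one_pos (hXZ.{u} 1 j) Nat.one_pos
      (rfl : xx i * xx j = xx i * xx j)).hom ≫ Spec.map (CommRingCat.ofHom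
        (awayMap (CohB1.polyGrading 1 (ULift.{u} ℤ)) (hXZ.{u} 1 i)
          ((rfl : xx i * xx j = xx i * xx j).trans (mul_comm _ _))))
    rw [this, pullback.lift_snd]
  have hr2 : b ≫ rc n j = r' := by
    change b ≫ fc n j ≫ pr2 n = a ≫ fc n i ≫ pr2 n
    rw [← Category.assoc, ← hab, Category.assoc]
  have e1 : a ≫ ec n i = iZ n q' r' ≫ Proj.map (mapG n (rhoL i j)) (irr_mapG n _) :=
    iZ_comp n (rhoL i j) (qc n i) (rc n i) q' r' a rfl hq1
  have e2 : b ≫ ec n j = iZ n q' r' ≫ Proj.map (mapG n (rhoR i j)) (irr_mapG n _) :=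
    iZ_comp n (rhoR i j) (qc n j) (rc n j) q' r' b hr2 hq2
  unfold mc
  rw [← Category.assoc, e1, ← Category.assoc, e2, Category.assoc, Category.assoc]
  congr 1
  have hL : rhoL i j (co i 0) = 1 ∨ rhoL i j (co i 1) = 1 := by
    rcases co_one_or i with h | h
    · left; rw [h, map_one]
    · right; rw [h, map_one]
  have hR : rhoR i j (co j 0) = 1 ∨ rhoR i j (co j 1) = 1 := by
    rcases co_one_or j with h | h
    · left; rw [h, map_one]
    · right; rw [h, map_one]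
  rw [map_mapG_psi n (rhoL i j) _ _ (co_one_or i) hL,
    map_mapG_psi n (rhoR i j) _ _ (co_one_or j) hR]
  have hL' : ll i j * rhoR i j (co j 0) = 1 ∨ ll i j * rhoR i j (co j 1) = 1 := by
    rw [← rhoL_co, ← rhoL_co]
    exact hL
  rw [psi_congr n (rhoL_co i j 0) (rhoL_co i j 1) hL hL']
  exact psi_smul n _ _ _ hR hL'


/-- the standard cover of `P^1` -/
noncomputable def cov1 : (Proj (CohB1.polyGrading 1 (ULift.{u} ℤ))).OpenCover :=
  (Proj.affineOpenCoverOfIrrelevantLESpan (CohB1.polyGrading 1 (ULift.{u} ℤ))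
    (fun i : Fin (1 + 1) => xx.{u} i) (m := fun _ => 1) (fun i => hXZ.{u} 1 i)
    (fun _ => Nat.one_pos)
    (Groth.Agent.Lib.Helper6.ProjSpaceGamma.irrelevant_le 1 (ULift.{u} ℤ))).openCover

/-- the induced cover of the product -/
noncomputable def covX : (XX.{u} n).OpenCover := (cov1.{u}).pullback₁ (pr1 n)

/-- the multiplication morphism `P^1 × P^n ⟶ P^{n+1}` -/
noncomputable def mu : XX.{u} n ⟶ Proj (CohB1.polyGrading (n + 1) (ULift.{u} ℤ)) :=
  (covX n).glueMorphisms (fun i => mc n i) (fun i j => glue_cond n i j)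

theorem fc_mu (i : Fin (1 + 1)) : fc.{u} n i ≫ mu n = mc n i :=
  (covX n).ι_glueMorphisms _ _ i

instance isProper_mu : IsProper (mu.{u} n) := by
  have h1 : mu.{u} n ≫ tS (n + 1) = pr1 n ≫ tS 1 := specULiftZIsTerminal.hom_ext _ _
  haveI : IsProper (tS.{u} n) := Groth.Agent.Lib.Helper3.QProj.isProper_toSpec _ _
  haveI : IsProper (tS.{u} 1) := Groth.Agent.Lib.Helper3.QProj.isProper_toSpec _ _
  haveI : IsProper (tS.{u} (n + 1)) := Groth.Agent.Lib.Helper3.QProj.isProper_toSpec _ _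
  haveI : IsProper (pr1.{u} n) := inferInstance
  haveI : IsProper (mu.{u} n ≫ tS (n + 1)) := by
    rw [h1]
    infer_instance
  exact IsProper.of_comp (mu n) (tS (n + 1))

end Glue

end Groth.Agent.Lib.Helper22.SymMap
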