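import Groth.Agent.Lib.Helper22.SymMapC
import Groth.Agent.Lib.Helper22.GradedAway

/-!
# Quasi-finiteness of the multiplication morphism
-/

set_option autoImplicit false
set_option linter.unusedSectionVars false
universe u
open CategoryTheory CategoryTheory.Limits AlgebraicGeometry TopologicalSpace Opposite
open scoped HomogeneousIdeal TensorProduct

namespace Groth.Agent.Lib.Helper22.SymMap

/-- an algebra generated by one element which is a root of a polynomial with a unit coefficient
is quasi-finite -/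
theorem quasiFinite_of_adjoin_singleton {R S : Type*} [CommRing R] [CommRing S] [Algebra R S]
    (y : S) (hy : Algebra.adjoin R {y} = ⊤) (P : Polynomial R) (hP : Polynomial.aeval y P = 0)
    (d : ℕ) (hd : IsUnit (P.coeff d)) : Algebra.QuasiFinite R S := by
  refine ⟨fun 𝔭 _ => ?_⟩
  let y' : 𝔭.Fiber S := 1 ⊗ₜ y
  have hy' : Algebra.adjoin 𝔭.ResidueField {y'} = ⊤ := by
    have := Algebra.TensorProduct.adjoin_one_tmul_image_eq_top (A := 𝔭.ResidueField)
      ({y} : Set S) hy
    simpa using this
  let P' : Polynomial 𝔭.ResidueField := P.map (algebraMap R 𝔭.ResidueField)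
  have hP' : Polynomial.aeval y' P' = 0 := by
    rw [Polynomial.aeval_map_algebraMap]
    have h1 : Polynomial.aeval y' P =
        (Algebra.TensorProduct.includeRight : S →ₐ[R] 𝔭.ResidueField ⊗[R] S)
          (Polynomial.aeval y P) :=
      Polynomial.aeval_algHom_apply
        (Algebra.TensorProduct.includeRight : S →ₐ[R] 𝔭.ResidueField ⊗[R] S) y P
    rw [h1, hP, map_zero]
  have hP'0 : P' ≠ 0 := by
    intro h0
    have h2 : P'.coeff d = 0 := by rw [h0]; simp
    rw [Polynomial.coeff_map] at h2
    exact (hd.map (algebraMap R 𝔭.ResidueField)).ne_zero h2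
  have hint : IsIntegral 𝔭.ResidueField y' :=
    (isAlgebraic_iff_isIntegral).mp ⟨P', hP'0, hP'⟩
  have hfg : (Algebra.adjoin 𝔭.ResidueField {y'}).toSubmodule.FG := hint.fg_adjoin_singleton
  rw [hy', Algebra.top_toSubmodule] at hfg
  exact ⟨hfg⟩


section Dh

open LaurentPolynomial Groth.Agent.Lib.Helper22.GrAway HomogeneousLocalization

variable {K : Type u} [CommRing K] {R : Type u} [CommRing R] [Algebra K R]
  (𝒜 : ℕ → Submodule K R) [GradedAlgebra 𝒜] {g : R} (hg : g ∈ 𝒜 1)

/-- dehomogenization with respect to an element of degree one -/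
noncomputable def dh : R →+* Away 𝒜 g :=
  (LaurentPolynomial.eval₂ (RingHom.id (Away 𝒜 g)) (1 : (Away 𝒜 g)ˣ)).comp (lamR 𝒜 hg)

lemma dh_of_mem (i : ℕ) (a : R) (ha : a ∈ 𝒜 i) : dh 𝒜 hg a = mkA 𝒜 hg i a ha := by
  unfold dh
  rw [RingHom.comp_apply, lamR_of_mem 𝒜 hg i a ha, LaurentPolynomial.eval₂_C_mul_T_n]
  simp

lemma dh_self : dh 𝒜 hg g = 1 := by
  rw [dh_of_mem 𝒜 hg 1 g hg, mkA_self]

lemma dh_surjective : Function.Surjective (dh 𝒜 hg) := by
  intro z
  obtain ⟨m, a, ha, rfl⟩ := Away.mk_surjective 𝒜 hg z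
  have ha' : a ∈ 𝒜 m := by simpa using ha
  exact ⟨a, by rw [dh_of_mem 𝒜 hg m a ha']; rfl⟩

end Dh


section QF

open MvPolynomial HomogeneousLocalization Groth.Agent.Lib.Helper22.GrAway
  Groth.Agent.Lib.Helper3.PEmb1 Groth.Agent.Lib.Helper3.ToProj

variable (n : ℕ) {A : Type u} [CommRing A] (s t : A)

lemma hgk (k : Fin (n + 1 + 1)) : Fhom n s t (X k) ∈ CohB1.polyGrading n A 1 :=
  (Fhom n s t).map_mem (hXZ.{u} (n + 1) k)

/-- the ring map of the chart `c_k ≠ 0` -/
noncomputable abbrev phi (k : Fin (n + 1 + 1)) :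
    Away (CohB1.polyGrading (n + 1) (ULift.{u} ℤ)) (X k) →+*
      Away (CohB1.polyGrading n A) (Fhom n s t (X k)) :=
  Away.map (Fhom n s t) (X k)

lemma phi_dh (k : Fin (n + 1 + 1)) (p : MvPolynomial (Fin (n + 1 + 1)) (ULift.{u} ℤ)) :
    phi n s t k (dh (CohB1.polyGrading (n + 1) (ULift.{u} ℤ)) (hXZ.{u} (n + 1) k) p) =
      dh (CohB1.polyGrading n A) (hgk n s t k) (Fhom n s t p) := by
  have : (phi n s t k).comp (dh _ (hXZ.{u} (n + 1) k)) =
      (dh _ (hgk n s t k)).comp (Fhom n s t).toRingHom := by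
    apply ringHom_ext_of_homogeneous (𝒜 := CohB1.polyGrading (n + 1) (ULift.{u} ℤ))
    intro m b hb
    change phi n s t k (dh _ _ b) = dh _ _ (Fhom n s t b)
    have hb' : Fhom n s t b ∈ CohB1.polyGrading n A m := (Fhom n s t).map_mem hb
    rw [dh_of_mem _ _ m b hb, dh_of_mem (CohB1.polyGrading n A) (hgk n s t k) m _ hb']
    unfold mkA
    exact Away.map_mk (Fhom n s t) (X k) (hXZ.{u} (n + 1) k) m b _
  exact congrArg (fun ψ => ψ p) this

theorem quasiFinite_phi (h : s = 1 ∨ t = 1) (hA : Subring.closure ({s, t} : Set A) = ⊤)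
    (k : Fin (n + 1 + 1)) : (phi n s t k).QuasiFinite := by
  letI := (phi n s t k).toAlgebra
  change Algebra.QuasiFinite _ _
  set dB := dh (CohB1.polyGrading n A) (hgk n s t k) with hdB
  set dC := dh (CohB1.polyGrading (n + 1) (ULift.{u} ℤ)) (hXZ.{u} (n + 1) k) with hdC
  set ys := dB (C s) with hys
  set yt := dB (C t) with hyt
  have halg : ∀ z, algebraMap (Away (CohB1.polyGrading (n + 1) (ULift.{u} ℤ)) (X k))
      (Away (CohB1.polyGrading n A) (Fhom n s t (X k))) z = phi n s t k z := fun z => rfl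
  have hgen : ∀ S : Subalgebra (Away (CohB1.polyGrading (n + 1) (ULift.{u} ℤ)) (X k))
      (Away (CohB1.polyGrading n A) (Fhom n s t (X k))), ys ∈ S → yt ∈ S → S = ⊤ := by
    intro S hs' ht'
    rw [eq_top_iff]
    intro z _
    obtain ⟨p, rfl⟩ := dh_surjective _ (hgk n s t k) z
    have hC : ∀ α : A, dB (C α) ∈ S := by
      intro α
      have hle : Subring.closure ({s, t} : Set A) ≤ S.toSubring.comap (dB.comp C) := by
        refine Subring.closure_le.mpr ?_
        rintro x hx
        rcases hx with rfl | rfl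
        · exact hs'
        · exact ht'
      exact hle (by rw [hA]; exact Subring.mem_top α)
    have hX : ∀ i, dB (X i) ∈ S := by
      refine X_mem_of_lin_mem n s t h
        (AddSubgroup.comap dB.toAddMonoidHom S.toSubring.toAddSubgroup) ?_ ?_ ?_
      · intro j
        change dB (lin n s t j) ∈ S
        rw [← Fhom_X, hdB, ← phi_dh, ← halg]
        exact S.algebraMap_mem _
      · intro p hp
        change dB (C s * p) ∈ S
        rw [map_mul]
        exact S.mul_mem hs' hp
      · intro p hp
        change dB (C t * p) ∈ S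
        rw [map_mul]
        exact S.mul_mem ht' hp
    induction p using MvPolynomial.induction_on with
    | C α => exact hC α
    | add p q hp hq =>
      rw [map_add]
      exact S.add_mem (hp trivial) (hq trivial)
    | mul_X p i hp =>
      rw [map_mul]
      exact S.mul_mem (hp trivial) (hX i)
  have hrel : ∑ j : Fin (n + 1 + 1),
      phi n s t k (dC (X j)) * ((-yt) ^ (n + 1 - (j : ℕ)) * ys ^ (j : ℕ)) = 0 := by
    have h0 := congrArg dB (sum_lin_mul n s t)
    rw [map_sum, map_zero] at h0
    refine (Finset.sum_congr rfl fun j _ => ?_).trans h0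
    rw [map_mul, ← Fhom_X, hdB, ← phi_dh]
    congr 1
    simp only [map_mul, map_pow, map_neg]
    rfl
  have hzk : dC (X k) = 1 := dh_self _ _
  rcases h with h | h
  · have hCs : (C s : MvPolynomial (Fin (n + 1)) A) = 1 := by rw [h, C_1]
    have hys1 : ys = 1 := by rw [hys, hCs, map_one]
    refine quasiFinite_of_adjoin_singleton yt
      (hgen _ (by rw [hys1]; exact one_mem _) (Algebra.subset_adjoin rfl))
      (∑ j : Fin (n + 1 + 1), Polynomial.monomial (n + 1 - (j : ℕ))
        (dC (X j) * (-1) ^ (n + 1 - (j : ℕ)))) ?_ (n + 1 - (k : ℕ)) ?_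
    · rw [map_sum]
      refine (Finset.sum_congr rfl fun j _ => ?_).trans hrel
      rw [Polynomial.aeval_monomial, halg, map_mul, map_pow, map_neg, map_one, hys1, one_pow,
        mul_one, mul_assoc, ← neg_one_mul yt, mul_pow]
    · rw [Polynomial.finset_sum_coeff, Finset.sum_eq_single k]
      · rw [Polynomial.coeff_monomial, if_pos rfl, hzk, one_mul]
        have hu : IsUnit ((-1 : Away (CohB1.polyGrading (n + 1) (ULift.{u} ℤ)) (X k))) :=
          @IsUnit.neg (Away (CohB1.polyGrading (n + 1) (ULift.{u} ℤ)) (X k)) _ _ 1 isUnit_one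
        exact hu.pow _
      · intro j _ hjk
        rw [Polynomial.coeff_monomial, if_neg]
        intro hcon
        apply hjk
        apply Fin.ext
        have := j.isLt
        have := k.isLt
        omega
      · intro hk
        exact absurd (Finset.mem_univ k) hk
  · have hCt : (C t : MvPolynomial (Fin (n + 1)) A) = 1 := by rw [h, C_1]
    have hyt1 : yt = 1 := by rw [hyt, hCt, map_one]
    refine quasiFinite_of_adjoin_singleton ys
      (hgen _ (Algebra.subset_adjoin rfl) (by rw [hyt1]; exact one_mem _))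
      (∑ j : Fin (n + 1 + 1), Polynomial.monomial (j : ℕ)
        (dC (X j) * (-1) ^ (n + 1 - (j : ℕ)))) ?_ (k : ℕ) ?_
    · rw [map_sum]
      refine (Finset.sum_congr rfl fun j _ => ?_).trans hrel
      rw [Polynomial.aeval_monomial, halg, map_mul, map_pow, map_neg, map_one, hyt1, mul_assoc]
    · rw [Polynomial.finset_sum_coeff, Finset.sum_eq_single k]
      · rw [Polynomial.coeff_monomial, if_pos rfl, hzk, one_mul]
        have hu : IsUnit ((-1 : Away (CohB1.polyGrading (n + 1) (ULift.{u} ℤ)) (X k))) :=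
          @IsUnit.neg (Away (CohB1.polyGrading (n + 1) (ULift.{u} ℤ)) (X k)) _ _ 1 isUnit_one
        exact hu.pow _
      · intro j _ hjk
        rw [Polynomial.coeff_monomial, if_neg]
        intro hcon
        exact hjk (Fin.ext hcon)
      · intro hk
        exact absurd (Finset.mem_univ k) hk

end QF

end Groth.Agent.Lib.Helper22.SymMap
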