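import Groth.Agent.Lib.Helper22.SymMapD

/-!
# Finiteness of the multiplication morphism `P^1 × P^n ⟶ P^{n+1}`
-/

set_option autoImplicit false
set_option linter.unusedSectionVars false
universe u
open CategoryTheory CategoryTheory.Limits AlgebraicGeometry TopologicalSpace Opposite
open scoped HomogeneousIdeal

namespace Groth.Agent.Lib.Helper22.SymMap

open MvPolynomial Groth.Agent.Lib.Helper3 Groth.Agent.Lib.Helper3.PEmb2
  Groth.Agent.Lib.Helper3.PEmb1 Groth.Agent.Lib.Helper3.PEmb3 HomogeneousLocalization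
  Groth.Agent.Lib.Helper22.GrAway

/-- the coordinate ring of a chart of `P^1` is generated by the two coordinate functions -/
theorem closure_co (i : Fin (1 + 1)) :
    Subring.closure ({co.{u} i 0, co.{u} i 1} : Set (Ach.{u} i)) = ⊤ := by
  rw [eq_top_iff]
  intro z _
  obtain ⟨p, rfl⟩ := dh_surjective (CohB1.polyGrading 1 (ULift.{u} ℤ)) (hXZ.{u} 1 i) z
  set S := Subring.closure ({co.{u} i 0, co.{u} i 1} : Set (Ach.{u} i)) with hS
  have hX : ∀ k : Fin (1 + 1),
      dh (CohB1.polyGrading 1 (ULift.{u} ℤ)) (hXZ.{u} 1 i) (X k) ∈ S := by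
    intro k
    have e : dh (CohB1.polyGrading 1 (ULift.{u} ℤ)) (hXZ.{u} 1 i) (X k) = co i k := by
      rw [dh_of_mem _ _ 1 _ (hXZ.{u} 1 k)]
      rfl
    rw [e]
    apply Subring.subset_closure
    fin_cases k
    · exact Or.inl rfl
    · exact Or.inr rfl
  have hC : ∀ r : ULift.{u} ℤ,
      dh (CohB1.polyGrading 1 (ULift.{u} ℤ)) (hXZ.{u} 1 i) (C r) ∈ S := by
    intro r
    have e := congrArg (fun φ : ULift.{u} ℤ →+* Ach.{u} i => φ r) (VAChart.ulift_int_hom_ext
      ((dh (CohB1.polyGrading 1 (ULift.{u} ℤ)) (hXZ.{u} 1 i)).comp C)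
      ((Int.castRingHom (Ach.{u} i)).comp (ULift.ringEquiv : ULift.{u} ℤ ≃+* ℤ).toRingHom))
    change dh _ _ (C r) = ((ULift.ringEquiv r : ℤ) : Ach.{u} i) at e
    rw [e]
    exact intCast_mem S _
  induction p using MvPolynomial.induction_on with
  | C r => exact hC r
  | add p q hp hq =>
    rw [map_add]
    exact S.add_mem (hp trivial) (hq trivial)
  | mul_X p k hp =>
    rw [map_mul]
    exact S.mul_mem (hp trivial) (hX k)

section Iso

variable (n : ℕ) {R : Type u} [CommRing R]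

theorem isIso_iZ {P : Scheme.{u}} (a : P ⟶ CohB1.ProjSpace n (ULift.{u} ℤ))
    (b : P ⟶ Spec (CommRingCat.of R))
    (hP : IsPullback a b (CohB1.ProjSpace.toSpec n (ULift.{u} ℤ))
      (specULiftZIsTerminal.from (Spec (CommRingCat.of R)))) : IsIso (iZ n b a) := by
  haveI := PIso.isIso_lift n a b hP
  set c := hP.lift (gmap n R) (CohB1.ProjSpace.toSpec n R) (specULiftZIsTerminal.hom_ext _ _)
    with hc
  have h1 : c ≫ iZ n b a = 𝟙 _ := by
    apply PIso.hom_ext_gmap_toSpec
    · rw [Category.assoc, iZ_gmap, hP.lift_fst, Category.id_comp]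
    · rw [Category.assoc, iZ_toSpec, hP.lift_snd, Category.id_comp]
  have h2 : iZ n b a = inv c := by
    rw [← cancel_epi c, h1, IsIso.hom_inv_id]
  rw [h2]
  infer_instance

end Iso

section Fin

variable (n : ℕ)

theorem isPullback_chart (i : Fin (1 + 1)) :
    IsPullback (rc.{u} n i) (qc n i) (CohB1.ProjSpace.toSpec n (ULift.{u} ℤ))
      (specULiftZIsTerminal.from (Spec (CommRingCat.of (Ach.{u} i)))) := by
  have hA : IsPullback (fc.{u} n i) (qc n i) (pr1 n) (ιc i) := IsPullback.of_hasPullback _ _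
  have hB : IsPullback (pr2.{u} n) (pr1 n) (tS n) (tS 1) :=
    (IsPullback.of_hasPullback (tS.{u} 1) (tS n)).flip
  have hAB := hA.paste_horiz hB
  have h1 : ιc.{u} i ≫ tS 1 = specULiftZIsTerminal.from _ := specULiftZIsTerminal.hom_ext _ _
  rw [h1] at hAB
  exact hAB

instance isIso_ec (i : Fin (1 + 1)) : IsIso (ec.{u} n i) :=
  isIso_iZ n _ _ (isPullback_chart n i)

theorem lqf_psi {A : Type u} [CommRing A] (s t : A) (h : s = 1 ∨ t = 1)
    (hA : Subring.closure ({s, t} : Set A) = ⊤) : LocallyQuasiFinite (psi n s t h) := by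
  have hspan : ((CohB1.polyGrading n A)₊).toIdeal ≤
      Ideal.span (Set.range fun k : Fin (n + 1 + 1) => Fhom n s t (X k)) := by
    have h1 : ((CohB1.polyGrading n A)₊).toIdeal ≤
        Ideal.map (Fhom n s t) ((CohB1.polyGrading (n + 1) (ULift.{u} ℤ))₊).toIdeal :=
      irr_Fhom n s t h
    refine h1.trans ?_
    have h2 := Ideal.map_mono (f := (Fhom n s t))
      (Groth.Agent.Lib.Helper6.ProjSpaceGamma.irrelevant_le (n + 1) (ULift.{u} ℤ))
    refine h2.trans ?_
    rw [Ideal.map_span, ← Set.range_comp]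
    rfl
  let 𝒱 := (Proj.affineOpenCoverOfIrrelevantLESpan (CohB1.polyGrading n A)
    (fun k : Fin (n + 1 + 1) => Fhom n s t (X k)) (m := fun _ => 1) (fun k => hgk n s t k)
    (fun _ => Nat.one_pos) hspan).openCover
  refine (IsZariskiLocalAtSource.iff_of_openCover (P := @LocallyQuasiFinite) 𝒱).mpr (fun k => ?_)
  change LocallyQuasiFinite (Proj.awayι _ (Fhom n s t (X k)) (hgk n s t k) Nat.one_pos ≫
    Proj.map (Fhom n s t) (irr_Fhom n s t h))
  rw [Proj.awayι_comp_map (Fhom n s t) (irr_Fhom n s t h) Nat.one_pos (X k) (hXZ.{u} (n + 1) k)]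
  haveI : LocallyQuasiFinite (Spec.map (CommRingCat.ofHom
      (Away.map (Fhom n s t) (X k : MvPolynomial (Fin (n + 1 + 1)) (ULift.{u} ℤ))))) := by
    rw [HasRingHomProperty.Spec_iff (P := @LocallyQuasiFinite)]
    exact quasiFinite_phi n s t h hA k
  infer_instance

instance lqf_mu : LocallyQuasiFinite (mu.{u} n) := by
  refine (IsZariskiLocalAtSource.iff_of_openCover (P := @LocallyQuasiFinite) (covX n)).mpr
    (fun i => ?_)
  change LocallyQuasiFinite (fc.{u} n i ≫ mu n)
  rw [fc_mu]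
  unfold mc
  haveI := lqf_psi n (co.{u} i 0) (co i 1) (co_one_or i) (closure_co i)
  infer_instance

instance isFinite_mu : IsFinite (mu.{u} n) :=
  IsFinite.of_isProper_of_locallyQuasiFinite _

end Fin

end Groth.Agent.Lib.Helper22.SymMap
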