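import Groth.Agent.Lib.Helper22.SymMapE

/-!
# Surjectivity of the multiplication morphism `P^1 × P^n ⟶ P^{n+1}`
-/

set_option autoImplicit false
set_option linter.unusedSectionVars false
universe u
open CategoryTheory CategoryTheory.Limits AlgebraicGeometry TopologicalSpace Opposite
open scoped HomogeneousIdeal

namespace Groth.Agent.Lib.Helper22.SymMap

/-- over an algebraically closed field every polynomial of degree at most `n + 1` is the product
of a linear form and a polynomial of degree at most `n` (in homogeneous form) -/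
theorem exists_factor {K : Type*} [Field K] [IsAlgClosed K] (n : ℕ) (γ : Fin (n + 1 + 1) → K) :
    ∃ (s t : K) (a : Fin (n + 1) → K), (s = 1 ∨ (s = 0 ∧ t = 1)) ∧ ∀ j : Fin (n + 1 + 1),
      (if h : (j : ℕ) < n + 1 then s * a ⟨j, h⟩ else 0) +
        (if 0 < (j : ℕ) then t * a ⟨(j : ℕ) - 1, pred_lt j⟩ else 0) = γ j := by
  by_cases h0 : γ 0 = 0
  · refine ⟨0, 1, fun j => γ (Fin.succ j), Or.inr ⟨rfl, rfl⟩, fun j => ?_⟩
    simp only [zero_mul, dite_eq_ite, ite_self, zero_add, one_mul]
    split_ifs with hj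
    · congr 1
      apply Fin.ext
      change (j : ℕ) - 1 + 1 = j
      omega
    · have hj0 : j = 0 := Fin.ext (by simpa using hj)
      rw [hj0, h0]
  · let γ' : ℕ → K := fun j => if h : j < n + 1 + 1 then γ ⟨j, h⟩ else 0
    let Γ : Polynomial K :=
      ∑ i ∈ Finset.range (n + 2), Polynomial.C (γ' i) * Polynomial.X ^ (n + 1 - i)
    have hγ'0 : γ' 0 = γ 0 := by
      have : (0 : ℕ) < n + 1 + 1 := by omega
      simp only [γ', this, dite_true]
      rfl
    have hc : Γ.coeff (n + 1) ≠ 0 := by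
      have : Γ.coeff (n + 1) = γ' 0 := by
        simp only [Γ, Polynomial.finset_sum_coeff, Polynomial.coeff_C_mul, Polynomial.coeff_X_pow]
        rw [Finset.sum_eq_single 0]
        · simp
        · intro i hi hi0
          have hi' : i < n + 2 := Finset.mem_range.mp hi
          have : ¬ (n + 1 = n + 1 - i) := by omega
          simp [this]
        · intro h
          exact absurd (Finset.mem_range.mpr (by omega)) h
      rw [this, hγ'0]
      exact h0
    have hdeg : Γ.degree ≠ 0 := by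
      have hnd : n + 1 ≤ Γ.natDegree := Polynomial.le_natDegree_of_ne_zero hc
      intro hd
      have := Polynomial.natDegree_eq_of_degree_eq_some (n := 0) (by simpa using hd)
      omega
    obtain ⟨ρ, hρ⟩ := IsAlgClosed.exists_root Γ hdeg
    let hh : ℕ → K := fun j => ∑ i ∈ Finset.range (j + 1), γ' i * ρ ^ (j - i)
    have hh0 : hh 0 = γ 0 := by
      simp only [hh, zero_add, Finset.range_one, Finset.sum_singleton, Nat.sub_self, pow_zero,
        mul_one]
      exact hγ'0
    have hhs : ∀ j, hh (j + 1) = γ' (j + 1) + ρ * hh j := by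
      intro j
      simp only [hh]
      rw [Finset.sum_range_succ, Finset.mul_sum, Nat.sub_self, pow_zero, mul_one, add_comm]
      congr 1
      refine Finset.sum_congr rfl (fun i hi => ?_)
      have hij : i ≤ j := by
        have := Finset.mem_range.mp hi
        omega
      rw [show j + 1 - i = (j - i) + 1 by omega, pow_succ]
      ring
    have hlast : hh (n + 1) = 0 := by
      have h1 : Polynomial.eval ρ Γ = hh (n + 1) := by
        simp only [Γ, hh, Polynomial.eval_finset_sum, Polynomial.eval_mul, Polynomial.eval_C,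
          Polynomial.eval_pow, Polynomial.eval_X]
      rw [← h1]
      exact hρ
    refine ⟨1, -ρ, fun j => hh j, Or.inl rfl, fun j => ?_⟩
    obtain ⟨j, hj⟩ := j
    simp only [one_mul]
    rcases Nat.eq_zero_or_pos j with rfl | hpos
    · have h1 : (0 : ℕ) < n + 1 := by omega
      simp only [h1, dite_true, lt_irrefl, if_false, add_zero]
      exact hh0
    · obtain ⟨j', rfl⟩ : ∃ j', j = j' + 1 := ⟨j - 1, by omega⟩
      have hγ : γ' (j' + 1) = γ ⟨j' + 1, hj⟩ := by
        simp only [γ', hj, dite_true]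
      by_cases hlt : j' + 1 < n + 1
      · simp only [hlt, dite_true, hpos, if_true, Nat.add_sub_cancel]
        rw [hhs j', hγ]
        ring
      · have hjn : j' = n := by omega
        subst hjn
        have h2 := hhs j'
        rw [hlast, hγ] at h2
        simp only [hlt, dite_false, hpos, if_true, Nat.add_sub_cancel, zero_add]
        linear_combination h2


section Lift

open HomogeneousLocalization Groth.Agent.Lib.Helper22.GrAway Groth.Agent.Lib.Helper3.ToProj

variable {K' : Type u} [CommRing K'] {R : Type u} [CommRing R] [Algebra K' R]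
  (𝒜 : ℕ → Submodule K' R) [GradedAlgebra 𝒜] {g : R} (hg : g ∈ 𝒜 1)
  {L : Type*} [CommRing L] (ev : R →+* L) (hev : ev g = 1)

/-- the ring homomorphism out of the degree zero localization induced by a ring homomorphism
sending the inverted element to `1` -/
noncomputable def awayEval : Away 𝒜 g →+* L :=
  (Localization.awayLift ev g (isUnit_iff_exists_inv.mpr ⟨1, by rw [hev, one_mul]⟩)).comp
    (algebraMap (Away 𝒜 g) (Localization.Away g))

include hg in
lemma awayEval_mkA (i : ℕ) (a : R) (ha : a ∈ 𝒜 i) :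
    awayEval 𝒜 ev hev (mkA 𝒜 hg i a ha) = ev a := by
  unfold awayEval
  rw [RingHom.comp_apply, HomogeneousLocalization.algebraMap_apply, val_mkA,
    Localization.awayLift_mk ev g a 1 (by rw [hev, one_mul]) i, one_pow, mul_one]

include hg in
lemma awayEval_dh (p : R) : awayEval 𝒜 ev hev (dh 𝒜 hg p) = ev p := by
  have : (awayEval 𝒜 ev hev).comp (dh 𝒜 hg) = ev := by
    apply ringHom_ext_of_homogeneous (𝒜 := 𝒜)
    intro m b hb
    change awayEval 𝒜 ev hev (dh 𝒜 hg b) = ev b
    rw [dh_of_mem 𝒜 hg m b hb, awayEval_mkA 𝒜 hg]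
  exact congrArg (fun φ => φ p) this

end Lift

section Points

open MvPolynomial HomogeneousLocalization Groth.Agent.Lib.Helper22.GrAway
  Groth.Agent.Lib.Helper3 Groth.Agent.Lib.Helper3.PEmb1 Groth.Agent.Lib.Helper3.ToProj
  Groth.Agent.Lib.Helper3.VAConv

theorem exists_alpha {K : Type u} [Field K] (i : Fin (1 + 1)) (sb tb : K)
    (h : (i = 0 → sb = 1) ∧ (i = 1 → tb = 1)) :
    ∃ α : Ach.{u} i →+* K, α (co i 0) = sb ∧ α (co i 1) = tb := by
  let ev0 : MvPolynomial (Fin (1 + 1)) (ULift.{u} ℤ) →+* K :=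
    eval₂Hom ((Int.castRingHom K).comp (ULift.ringEquiv : ULift.{u} ℤ ≃+* ℤ).toRingHom)
      ![sb, tb]
  have hev : ∀ k : Fin (1 + 1), ev0 (xx k) = ![sb, tb] k := by
    intro k
    simp only [ev0, xx, coe_eval₂Hom, eval₂_X]
  have hunit : ev0 (xx i) = 1 := by
    rw [hev]
    fin_cases i
    · simpa using h.1 rfl
    · simpa using h.2 rfl
  refine ⟨awayEval (CohB1.polyGrading 1 (ULift.{u} ℤ)) ev0 hunit, ?_, ?_⟩
  · have e : co.{u} i 0 = mkA (CohB1.polyGrading 1 (ULift.{u} ℤ)) (hXZ.{u} 1 i) 1 (xx 0)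
        (hXZ.{u} 1 0) := rfl
    rw [e, awayEval_mkA _ (hXZ.{u} 1 i), hev]
    rfl
  · have e : co.{u} i 1 = mkA (CohB1.polyGrading 1 (ULift.{u} ℤ)) (hXZ.{u} 1 i) 1 (xx 1)
        (hXZ.{u} 1 1) := rfl
    rw [e, awayEval_mkA _ (hXZ.{u} 1 i), hev]
    rfl

theorem exists_prime_over (n : ℕ) (k : Fin (n + 1 + 1))
    (𝔭 : Ideal (Away (CohB1.polyGrading (n + 1) (ULift.{u} ℤ)) (X k))) [𝔭.IsPrime] :
    ∃ (i : Fin (1 + 1)) (𝔮 : Ideal (Away (CohB1.polyGrading n (Ach.{u} i))
        (Fhom n (co i 0) (co i 1) (X k)))),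
      𝔮.IsPrime ∧ 𝔮.comap (phi n (co.{u} i 0) (co i 1) k) = 𝔭 := by
  let F₀ := FractionRing (Away (CohB1.polyGrading (n + 1) (ULift.{u} ℤ)) (X k) ⧸ 𝔭)
  let K := AlgebraicClosure F₀
  let χ : Away (CohB1.polyGrading (n + 1) (ULift.{u} ℤ)) (X k) →+* K :=
    ((algebraMap F₀ K).comp (algebraMap
      (Away (CohB1.polyGrading (n + 1) (ULift.{u} ℤ)) (X k) ⧸ 𝔭) F₀)).comp (Ideal.Quotient.mk 𝔭)
  have hker : RingHom.ker χ = 𝔭 := by
    ext z
    rw [RingHom.mem_ker]
    change algebraMap F₀ K (algebraMap _ F₀ (Ideal.Quotient.mk 𝔭 z)) = 0 ↔ _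
    rw [map_eq_zero_iff _ (algebraMap F₀ K).injective,
      map_eq_zero_iff _ (IsFractionRing.injective _ F₀), Ideal.Quotient.eq_zero_iff_mem]
  set dC := dh (CohB1.polyGrading (n + 1) (ULift.{u} ℤ)) (hXZ.{u} (n + 1) k) with hdC
  let γ : Fin (n + 1 + 1) → K := fun j => χ (dC (X j))
  obtain ⟨sb, tb, a, hst, hfac⟩ := exists_factor n γ
  obtain ⟨i, hi⟩ : ∃ i : Fin (1 + 1), (i = 0 → sb = 1) ∧ (i = 1 → tb = 1) := by
    rcases hst with h | ⟨h1, h2⟩
    · exact ⟨0, fun _ => h, fun h' => absurd h' (by decide)⟩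
    · exact ⟨1, fun h' => absurd h' (by decide), fun _ => h2⟩
  obtain ⟨α, hα0, hα1⟩ := exists_alpha i sb tb hi
  let ev : MvPolynomial (Fin (n + 1)) (Ach.{u} i) →+* K := eval₂Hom α a
  have hevlin : ∀ j, ev (Fhom n (co.{u} i 0) (co i 1) (X j)) = γ j := by
    intro j
    rw [Fhom_X]
    unfold lin
    rw [map_add, ← hfac j]
    congr 1
    · split_ifs with h
      · simp only [ev, map_mul, coe_eval₂Hom, eval₂_C, eval₂_X, hα0]
      · exact map_zero _
    · split_ifs with h
      · simp only [ev, map_mul, coe_eval₂Hom, eval₂_C, eval₂_X, hα1]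
      · exact map_zero _
  have hevg : ev (Fhom n (co.{u} i 0) (co i 1) (X k)) = 1 := by
    rw [hevlin]
    change χ (dC (X k)) = 1
    rw [hdC, dh_self, map_one]
  let β := awayEval (CohB1.polyGrading n (Ach.{u} i)) ev hevg
  have hβφ : β.comp (phi n (co.{u} i 0) (co i 1) k) = χ := by
    have h1 : (β.comp (phi n (co.{u} i 0) (co i 1) k)).comp dC = χ.comp dC := by
      apply MvPolynomial.ringHom_ext
      · intro r
        exact congrArg (fun φ => φ r) (VAChart.ulift_int_hom_ext
          (((β.comp (phi n (co.{u} i 0) (co i 1) k)).comp dC).comp C) ((χ.comp dC).comp C))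
      · intro j
        change β (phi n (co.{u} i 0) (co i 1) k (dC (X j))) = χ (dC (X j))
        rw [hdC, phi_dh, awayEval_dh _ (hgk n _ _ k), hevlin]
    ext z
    obtain ⟨p, rfl⟩ := dh_surjective _ (hXZ.{u} (n + 1) k) z
    exact congrArg (fun φ => φ p) h1
  refine ⟨i, RingHom.ker β, RingHom.ker_isPrime β, ?_⟩
  rw [RingHom.comap_ker, hβφ, hker]

end Points

end Groth.Agent.Lib.Helper22.SymMap
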