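import Groth.Agent.Lib.Helper22.SymMapF

/-!
# The multiplication morphism `P^1 × P^n ⟶ P^{n+1}` is finite and surjective
-/

set_option autoImplicit false
set_option linter.unusedSectionVars false
universe u
open CategoryTheory CategoryTheory.Limits AlgebraicGeometry TopologicalSpace Opposite
open scoped HomogeneousIdeal

namespace Groth.Agent.Lib.Helper22.SymMap

open MvPolynomial Groth.Agent.Lib.Helper3 Groth.Agent.Lib.Helper3.PEmb2
  Groth.Agent.Lib.Helper3.PEmb1 Groth.Agent.Lib.Helper3.PEmb3 HomogeneousLocalization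
  Groth.Agent.Lib.Helper22.GrAway

variable (n : ℕ)

instance surjective_mu : Surjective (mu.{u} n) := by
  refine ⟨fun x => ?_⟩
  obtain ⟨k, hk⟩ := VAConv.exists_mem_basicOpen_X (ULift.{u} ℤ) (n + 1) x
  rw [← Proj.opensRange_awayι (CohB1.polyGrading (n + 1) (ULift.{u} ℤ)) (X k)
    (hXZ.{u} (n + 1) k) Nat.one_pos] at hk
  obtain ⟨𝔭, rfl⟩ := hk
  obtain ⟨i, 𝔮, h𝔮, hcomap⟩ := exists_prime_over n k 𝔭.asIdeal
  let y : Spec (CommRingCat.of (Away (CohB1.polyGrading n (Ach.{u} i))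
      (Fhom n (co i 0) (co i 1) (X k)))) := ⟨𝔮, h𝔮⟩
  have hy : (Spec.map (CommRingCat.ofHom (phi n (co.{u} i 0) (co i 1) k))) y = 𝔭 :=
    PrimeSpectrum.ext hcomap
  have hsq := Proj.awayι_comp_map (Fhom n (co.{u} i 0) (co i 1))
    (irr_Fhom n _ _ (co_one_or i)) Nat.one_pos (X k) (hXZ.{u} (n + 1) k)
  set w := (inv (ec.{u} n i))
    ((Proj.awayι (CohB1.polyGrading n (Ach.{u} i)) (Fhom n (co i 0) (co i 1) (X k))
      (hgk n _ _ k) Nat.one_pos) y) with hw
  refine ⟨(fc n i) w, ?_⟩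
  rw [← Scheme.Hom.comp_apply, fc_mu]
  unfold mc
  rw [hw, ← Scheme.Hom.comp_apply, ← Scheme.Hom.comp_apply]
  rw [IsIso.inv_hom_id_assoc]
  unfold psi
  rw [hsq, Scheme.Hom.comp_apply]
  exact congrArg _ hy

end Groth.Agent.Lib.Helper22.SymMap
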