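import Groth.Agent.Lib.Helper22.SymMapG
import Groth.Agent.S3581

/-!
# Base change of the multiplication morphism and the iterated multiplication morphism
`P^1_S ×_S ⋯ ×_S P^1_S ⟶ P^n_S`
-/

set_option autoImplicit false
set_option linter.unusedSectionVars false
universe u
open CategoryTheory CategoryTheory.Limits AlgebraicGeometry TopologicalSpace Opposite

namespace Groth.Agent.Lib.Helper22.SymMap

section BaseChange

variable (S : Scheme.{u}) (n : ℕ)

/-- the projection `P^m_S ⟶ P^m_ℤ` -/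
noncomputable abbrev pz (m : ℕ) :
    CohB1.ProjSpaceOver m S ⟶ Proj (CohB1.polyGrading m (ULift.{u} ℤ)) :=
  pullback.fst (CohB1.ProjSpace.toSpec m (ULift.{u} ℤ)) (specULiftZIsTerminal.from S)

/-- the structure morphism `P^m_S ⟶ S` -/
noncomputable abbrev tb (m : ℕ) : CohB1.ProjSpaceOver m S ⟶ S := CohB1.ProjSpaceOver.toBase m S

theorem isPullback_over (m : ℕ) :
    IsPullback (pz S m) (tb S m) (tS.{u} m) (specULiftZIsTerminal.from S) :=
  IsPullback.of_hasPullback _ _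

/-- `P^1_S ×_S P^n_S` -/
noncomputable abbrev WW : Scheme.{u} := pullback (tb S 1) (tb S n)

/-- the projection to `P^1_ℤ × P^n_ℤ` -/
noncomputable def gW : WW S n ⟶ XX.{u} n :=
  pullback.lift (pullback.fst (tb S 1) (tb S n) ≫ pz S 1)
    (pullback.snd (tb S 1) (tb S n) ≫ pz S n) (specULiftZIsTerminal.hom_ext _ _)

theorem isPullback_gW :
    IsPullback (gW S n) (pullback.fst (tb S 1) (tb S n) ≫ tb S 1) (pr1.{u} n ≫ tS 1)
      (specULiftZIsTerminal.from S) := by
  have h2 : IsPullback (pullback.snd (tb S 1) (tb S n)) (pullback.fst (tb S 1) (tb S n))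
      (tb S n) (tb S 1) := (IsPullback.of_hasPullback _ _).flip
  have h12 := h2.paste_horiz (isPullback_over S n)
  have e1 : tb S 1 ≫ specULiftZIsTerminal.from S = pz S 1 ≫ tS.{u} 1 :=
    specULiftZIsTerminal.hom_ext _ _
  rw [e1] at h12
  have hX : IsPullback (pr2.{u} n) (pr1 n) (tS n) (tS 1) :=
    (IsPullback.of_hasPullback (tS.{u} 1) (tS n)).flip
  have e2 : gW S n ≫ pr2 n = pullback.snd (tb S 1) (tb S n) ≫ pz S n :=
    pullback.lift_snd _ _ _
  have e3 : gW S n ≫ pr1 n = pullback.fst (tb S 1) (tb S n) ≫ pz S 1 :=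
    pullback.lift_fst _ _ _
  rw [← e2] at h12
  have hL : IsPullback (gW S n) (pullback.fst (tb S 1) (tb S n)) (pr1 n) (pz S 1) :=
    IsPullback.of_right h12 e3 hX
  exact hL.paste_vert (isPullback_over S 1)

/-- the multiplication morphism over `S` -/
noncomputable def muS : WW S n ⟶ CohB1.ProjSpaceOver (n + 1) S :=
  pullback.lift (gW S n ≫ mu.{u} n) (pullback.fst (tb S 1) (tb S n) ≫ tb S 1)
    (specULiftZIsTerminal.hom_ext _ _)

theorem muS_tb : muS S n ≫ tb S (n + 1) = pullback.fst (tb S 1) (tb S n) ≫ tb S 1 :=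
  pullback.lift_snd _ _ _

theorem muS_pz : muS S n ≫ pz S (n + 1) = gW S n ≫ mu.{u} n :=
  pullback.lift_fst _ _ _

theorem isPullback_muS : IsPullback (gW S n) (muS S n) (mu.{u} n) (pz S (n + 1)) := by
  have h := isPullback_gW S n
  have e : pr1.{u} n ≫ tS 1 = mu n ≫ tS (n + 1) := specULiftZIsTerminal.hom_ext _ _
  rw [e, ← muS_tb] at h
  exact IsPullback.of_bot h (muS_pz S n).symm (isPullback_over S (n + 1))

instance isFinite_muS : IsFinite (muS S n) :=
  MorphismProperty.of_isPullback (P := @IsFinite) (isPullback_muS S n) (isFinite_mu n)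

instance surjective_muS : Surjective (muS S n) :=
  MorphismProperty.of_isPullback (P := @Surjective) (isPullback_muS S n) (surjective_mu n)

end BaseChange

section Induct

variable (S : Scheme.{u})

/-- the `m`-fold fibre power of `P^1_S` -/
noncomputable abbrev WP (m : ℕ) : Scheme.{u} :=
  widePullback S (fun _ : Fin m => CohB1.ProjSpaceOver 1 S)
    (fun _ => CohB1.ProjSpaceOver.toBase 1 S)

noncomputable abbrev bs (m : ℕ) : WP S m ⟶ S :=
  WidePullback.base (fun _ : Fin m => CohB1.ProjSpaceOver.toBase 1 S)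

noncomputable abbrev pj (m : ℕ) (j : Fin m) : WP S m ⟶ CohB1.ProjSpaceOver 1 S :=
  WidePullback.π (fun _ : Fin m => CohB1.ProjSpaceOver.toBase 1 S) j

theorem pj_tb (m : ℕ) (j : Fin m) : pj S m j ≫ tb S 1 = bs S m :=
  WidePullback.π_arrow (fun _ : Fin m => CohB1.ProjSpaceOver.toBase 1 S) j

/-- forgetting the first factor -/
noncomputable def rr (m : ℕ) : WP S (m + 1) ⟶ WP S m :=
  WidePullback.lift (bs S (m + 1)) (fun j => pj S (m + 1) j.succ)
    (fun j => pj_tb S (m + 1) j.succ)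

theorem rr_pj (m : ℕ) (j : Fin m) : rr S m ≫ pj S m j = pj S (m + 1) j.succ :=
  WidePullback.lift_π _ _ _ _ _

theorem rr_bs (m : ℕ) : rr S m ≫ bs S m = bs S (m + 1) :=
  WidePullback.lift_base _ _ _ _

/-- the family of morphisms obtained by adding one morphism in front -/
noncomputable def cf {Z : Scheme.{u}} (m : ℕ) (a : Z ⟶ CohB1.ProjSpaceOver 1 S) (b : Z ⟶ WP S m)
    (j : Fin (m + 1)) : Z ⟶ CohB1.ProjSpaceOver 1 S :=
  Fin.cases (motive := fun _ => Z ⟶ CohB1.ProjSpaceOver 1 S) a (fun j' => b ≫ pj S m j') j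

theorem cf_zero {Z : Scheme.{u}} (m : ℕ) (a : Z ⟶ CohB1.ProjSpaceOver 1 S) (b : Z ⟶ WP S m) :
    cf S m a b 0 = a := rfl

theorem cf_succ {Z : Scheme.{u}} (m : ℕ) (a : Z ⟶ CohB1.ProjSpaceOver 1 S) (b : Z ⟶ WP S m)
    (j : Fin m) : cf S m a b j.succ = b ≫ pj S m j := by
  unfold cf
  rw [Fin.cases_succ]

theorem cf_tb {Z : Scheme.{u}} (m : ℕ) (a : Z ⟶ CohB1.ProjSpaceOver 1 S) (b : Z ⟶ WP S m)
    (h : a ≫ tb S 1 = b ≫ bs S m) (j : Fin (m + 1)) : cf S m a b j ≫ tb S 1 = a ≫ tb S 1 := by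
  refine Fin.cases ?_ (fun j' => ?_) j
  · rw [cf_zero]
  · rw [cf_succ, Category.assoc, pj_tb, h]

/-- the morphism to the fibre power induced by a first component and the rest -/
noncomputable def lf {Z : Scheme.{u}} (m : ℕ) (a : Z ⟶ CohB1.ProjSpaceOver 1 S) (b : Z ⟶ WP S m)
    (h : a ≫ tb S 1 = b ≫ bs S m) : Z ⟶ WP S (m + 1) :=
  WidePullback.lift (a ≫ tb S 1) (cf S m a b) (fun j => cf_tb S m a b h j)

theorem lf_pj {Z : Scheme.{u}} (m : ℕ) (a : Z ⟶ CohB1.ProjSpaceOver 1 S) (b : Z ⟶ WP S m)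
    (h : a ≫ tb S 1 = b ≫ bs S m) (j : Fin (m + 1)) :
    lf S m a b h ≫ pj S (m + 1) j = cf S m a b j :=
  WidePullback.lift_π _ _ _ _ _

theorem lf_bs {Z : Scheme.{u}} (m : ℕ) (a : Z ⟶ CohB1.ProjSpaceOver 1 S) (b : Z ⟶ WP S m)
    (h : a ≫ tb S 1 = b ≫ bs S m) : lf S m a b h ≫ bs S (m + 1) = a ≫ tb S 1 :=
  WidePullback.lift_base _ _ _ _

theorem isPullback_WP (m : ℕ) :
    IsPullback (pj S (m + 1) 0) (rr S m) (tb S 1) (bs S m) := by
  have w : pj S (m + 1) 0 ≫ tb S 1 = rr S m ≫ bs S m := by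
    rw [rr_bs, pj_tb]
  refine IsPullback.mk ⟨w⟩ ⟨PullbackCone.IsLimit.mk w
    (fun s => lf S m s.fst s.snd s.condition)
    (fun s => ?_) (fun s => ?_) (fun s g h1 h2 => ?_)⟩
  · rw [lf_pj, cf_zero]
  · apply WidePullback.hom_ext
    · intro j
      rw [Category.assoc, rr_pj, lf_pj, cf_succ]
    · rw [Category.assoc, rr_bs, lf_bs, s.condition]
  · apply WidePullback.hom_ext
    · intro j
      refine Fin.cases ?_ (fun j' => ?_) j
      · rw [lf_pj, cf_zero]
        exact h1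
      · rw [lf_pj, cf_succ, ← h2, Category.assoc, rr_pj]
    · rw [lf_bs, ← h1, Category.assoc, pj_tb]

theorem step (m : ℕ) (φ : WP S m ⟶ CohB1.ProjSpaceOver m S) (hf : IsFinite φ)
    (hs : Surjective φ) (hb : φ ≫ tb S m = bs S m) :
    ∃ φ' : WP S (m + 1) ⟶ CohB1.ProjSpaceOver (m + 1) S, IsFinite φ' ∧ Surjective φ' ∧
      φ' ≫ tb S (m + 1) = bs S (m + 1) := by
  have hc : pj S (m + 1) 0 ≫ tb S 1 = (rr S m ≫ φ) ≫ tb S m := by
    rw [Category.assoc, hb, rr_bs, pj_tb]
  set θ : WP S (m + 1) ⟶ WW S m := pullback.lift (pj S (m + 1) 0) (rr S m ≫ φ) hc with hθdef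
  have e1 : θ ≫ pullback.fst (tb S 1) (tb S m) = pj S (m + 1) 0 := pullback.lift_fst _ _ _
  have e2 : θ ≫ pullback.snd (tb S 1) (tb S m) = rr S m ≫ φ := pullback.lift_snd _ _ _
  have hO : IsPullback (θ ≫ pullback.fst (tb S 1) (tb S m)) (rr S m) (tb S 1) (φ ≫ tb S m) := by
    rw [e1, hb]
    exact isPullback_WP S m
  have hθ : IsPullback θ (rr S m) (pullback.snd (tb S 1) (tb S m)) φ :=
    IsPullback.of_right hO e2 (IsPullback.of_hasPullback _ _)
  haveI : IsFinite θ := MorphismProperty.of_isPullback (P := @IsFinite) hθ.flip hf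
  haveI : Surjective θ := MorphismProperty.of_isPullback (P := @Surjective) hθ.flip hs
  refine ⟨θ ≫ muS S m, inferInstance, inferInstance, ?_⟩
  rw [Category.assoc, muS_tb, ← Category.assoc, e1, pj_tb]

theorem isIso_bs_zero : IsIso (bs S 0) := by
  refine ⟨WidePullback.lift (𝟙 S) (fun j => j.elim0) (fun j => j.elim0), ?_, ?_⟩
  · apply WidePullback.hom_ext
    · intro j
      exact j.elim0
    · rw [Category.assoc, WidePullback.lift_base, Category.comp_id, Category.id_comp]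
  · exact WidePullback.lift_base _ _ _ _

theorem isIso_tb_zero : IsIso (tb S 0) := by
  haveI : IsIso (CohB1.ProjSpace.toSpec 0 (ULift.{u} ℤ)) := Groth.Agent.S3581.result _
  change IsIso (pullback.snd (CohB1.ProjSpace.toSpec 0 (ULift.{u} ℤ))
    (specULiftZIsTerminal.from S))
  infer_instance

theorem main (n : ℕ) :
    ∃ φ : WP S n ⟶ CohB1.ProjSpaceOver n S, IsFinite φ ∧ Surjective φ ∧
      φ ≫ tb S n = bs S n := by
  induction n with
  | zero =>
    haveI := isIso_bs_zero S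
    haveI := isIso_tb_zero S
    refine ⟨bs S 0 ≫ inv (tb S 0), inferInstance, inferInstance, ?_⟩
    rw [Category.assoc, IsIso.inv_hom_id, Category.comp_id]
  | succ m ih =>
    obtain ⟨φ, hf, hs, hb⟩ := ih
    exact step S m φ hf hs hb

end Induct

end Groth.Agent.Lib.Helper22.SymMap
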