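import Mathlib
import Groth.Prelude.Def_SymTen
import Groth.Prelude.Def_PolLaw2
import Groth.Prelude.Def_W4c5normfunctorschNorm

/-!
# Symmetric tensors of a free algebra: retraction onto `TS`, determinant functional
-/

namespace Groth.Agent.Lib.Helper22.SymTenFree

open scoped TensorProduct
open Module PiTensorProduct

universe u

section abstract

/-- an abstract projection lemma: a linear map sending the basis vector of the chosen
representative of each class to the class sum, and the others to zero, fixes every vector whose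
coordinates are constant on classes. -/
theorem proj_fix {S V X : Type*} [CommSemiring S] [AddCommMonoid V] [Module S V] [Fintype X]
    [DecidableEq X] (r : X → X → Prop) [DecidableRel r] (hsymm : ∀ g g', r g g' → r g' g)
    (rep : X → X) (h1 : ∀ g, r (rep g) g) (h2 : ∀ g g', r g g' → rep g = rep g')
    (β : Basis X S V) (P : V →ₗ[S] V)
    (hP : ∀ g, P (β g) = if rep g = g then ∑ g' ∈ Finset.univ.filter (fun g' => r g' g), β g'
      else 0)
    (z : V) (hz : ∀ g g', r g g' → β.repr z g = β.repr z g') : P z = z := by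
  apply β.repr.injective
  ext g₀
  conv_lhs => rw [← β.sum_repr z]
  rw [map_sum, map_sum, Finsupp.finset_sum_apply]
  rw [Finset.sum_eq_single (rep g₀)]
  · rw [map_smul, hP, if_pos (h2 _ _ (h1 g₀)), map_smul, Finsupp.smul_apply, map_sum,
      Finsupp.finset_sum_apply, Finset.sum_eq_single g₀]
    · rw [Basis.repr_self, Finsupp.single_eq_same, smul_eq_mul, mul_one]
      exact hz _ _ (h1 g₀)
    · intro g' _ hg'
      rw [Basis.repr_self, Finsupp.single_eq_of_ne hg'.symm]
    · intro hg₀
      exfalso
      apply hg₀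
      rw [Finset.mem_filter]
      exact ⟨Finset.mem_univ _, hsymm _ _ (h1 g₀)⟩
  · intro g _ hg
    rw [map_smul, hP]
    split_ifs with hrep
    · rw [map_smul, Finsupp.smul_apply, map_sum, Finsupp.finset_sum_apply, Finset.sum_eq_zero,
        smul_zero]
      intro g' hg'
      rw [Finset.mem_filter] at hg'
      rw [Basis.repr_self, Finsupp.single_eq_of_ne]
      rintro rfl
      apply hg
      rw [← hrep]
      exact (h2 _ _ hg'.2).symm
    · simp
  · intro h
    exact absurd (Finset.mem_univ _) h

end abstract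

section basis

variable {R : Type u} [CommRing R] {R' : Type u} [CommRing R'] [Algebra R R'] {d : ℕ}
  (e : Basis (Fin d) R R')

/-- the basis of the tensor power. -/
noncomputable def bT : Basis (Fin d → Fin d) R (⨂[R] _ : Fin d, R') :=
  Basis.piTensorProduct (fun _ => e)

lemma bT_apply (g : Fin d → Fin d) : bT e g = tprod R (fun j => e (g j)) := by
  rw [bT, Basis.piTensorProduct_apply]

lemma perm_bT (σ : Equiv.Perm (Fin d)) (g : Fin d → Fin d) :
    SymTen.perm R R' d σ (bT e g) = bT e (g ∘ σ.symm) := by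
  rw [bT_apply, bT_apply, SymTen.perm_tprod]
  rfl

/-- the orbit relation. -/
def rel (g g' : Fin d → Fin d) : Prop := ∃ σ : Equiv.Perm (Fin d), g' = g ∘ σ

lemma rel_refl (g : Fin d → Fin d) : rel g g := ⟨1, rfl⟩

lemma rel_symm {g g' : Fin d → Fin d} (h : rel g g') : rel g' g := by
  obtain ⟨σ, rfl⟩ := h
  refine ⟨σ⁻¹, ?_⟩
  ext j
  simp

lemma rel_trans {g g' g'' : Fin d → Fin d} (h : rel g g') (h' : rel g' g'') : rel g g'' := by
  obtain ⟨σ, rfl⟩ := h
  obtain ⟨σ', rfl⟩ := h'
  exact ⟨σ * σ', by ext j; simp⟩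

/-- the orbit setoid. -/
def relSetoid (d : ℕ) : Setoid (Fin d → Fin d) := ⟨rel, ⟨rel_refl, rel_symm, rel_trans⟩⟩

/-- chosen representative. -/
noncomputable def rep (g : Fin d → Fin d) : Fin d → Fin d :=
  Quotient.out (Quotient.mk (relSetoid d) g)

lemma rel_rep (g : Fin d → Fin d) : rel (rep g) g :=
  Quotient.exact (Quotient.out_eq (Quotient.mk (relSetoid d) g))

lemma rep_eq {g g' : Fin d → Fin d} (h : rel g g') : rep g = rep g' := by
  unfold rep
  rw [Quotient.sound (s := relSetoid d) h]

open Classical in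
/-- the orbit sum. -/
noncomputable def orb (g : Fin d → Fin d) : ⨂[R] _ : Fin d, R' :=
  ∑ g' ∈ Finset.univ.filter (fun g' => rel g' g), bT e g'

open Classical in
lemma perm_orb (σ : Equiv.Perm (Fin d)) (g : Fin d → Fin d) :
    SymTen.perm R R' d σ (orb e g) = orb e g := by
  unfold orb
  rw [map_sum]
  simp only [perm_bT]
  refine Finset.sum_equiv ⟨fun g' => g' ∘ σ.symm, fun g' => g' ∘ σ, fun g' => by ext; simp,
    fun g' => by ext; simp⟩ ?_ (fun _ _ => rfl)
  intro g'
  simp only [Finset.mem_filter, Finset.mem_univ, true_and, Equiv.coe_fn_mk]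
  constructor
  · intro h
    exact rel_trans (rel_symm ⟨σ.symm, rfl⟩) h
  · intro h
    exact rel_trans ⟨σ.symm, rfl⟩ h

open Classical in
/-- the retraction onto the symmetric tensors, as an endomorphism. -/
noncomputable def ρ₀ : (⨂[R] _ : Fin d, R') →ₗ[R] (⨂[R] _ : Fin d, R') :=
  (bT e).constr R (fun g => if rep g = g then orb e g else 0)

open Classical in
lemma ρ₀_bT (g : Fin d → Fin d) : ρ₀ e (bT e g) = if rep g = g then orb e g else 0 := by
  rw [ρ₀, Basis.constr_basis]

lemma ρ₀_mem (t : ⨂[R] _ : Fin d, R') : ρ₀ e t ∈ SymTen.TS R R' d := by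
  classical
  rw [← (bT e).sum_repr t, map_sum]
  refine Subalgebra.sum_mem _ (fun g _ => ?_)
  rw [map_smul]
  refine Subalgebra.smul_mem _ ?_ _
  rw [ρ₀_bT]
  split_ifs
  · intro σ
    rw [← SymTen.perm_apply, perm_orb]
  · exact Subalgebra.zero_mem _

open Classical in
/-- coordinates of an invariant vector are constant on orbits; hence the projection fixes it. -/
theorem fix_of_inv {S V : Type*} [CommSemiring S] [AddCommMonoid V] [Module S V]
    (β : Basis (Fin d → Fin d) S V) (P : V →ₗ[S] V)
    (hP : ∀ g, P (β g) = if rep g = g then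
      ∑ g' ∈ Finset.univ.filter (fun g' => rel g' g), β g' else 0)
    (p : Equiv.Perm (Fin d) → V →ₗ[S] V) (hp : ∀ σ g, p σ (β g) = β (g ∘ σ.symm))
    (z : V) (hz : ∀ σ, p σ z = z) : P z = z := by
  classical
  refine proj_fix rel (fun _ _ => rel_symm) rep rel_rep (fun _ _ => rep_eq) β P ?_ z ?_
  · intro g
    rw [hP g]
  · rintro g _ ⟨σ, rfl⟩
    have key : ∀ v : V, β.repr (p σ v) g = β.repr v (g ∘ σ) := by
      intro v
      have : (Finsupp.lapply g ∘ₗ β.repr.toLinearMap) ∘ₗ p σ =
          Finsupp.lapply (g ∘ σ) ∘ₗ β.repr.toLinearMap := by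
        apply β.ext
        intro h
        simp only [LinearMap.comp_apply, hp, LinearEquiv.coe_coe, Basis.repr_self,
          Finsupp.lapply_apply]
        rw [Finsupp.single_apply, Finsupp.single_apply]
        congr 1
        apply propext
        constructor
        · intro hh
          rw [← hh]
          ext j
          simp
        · intro hh
          rw [hh]
          ext j
          simp
      exact LinearMap.congr_fun this v
    rw [← key z, hz σ]

lemma ρ₀_of_mem {t : ⨂[R] _ : Fin d, R'} (ht : t ∈ SymTen.TS R R' d) : ρ₀ e t = t := by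
  classical
  refine fix_of_inv (bT e) (ρ₀ e) (fun g => ?_) (fun σ => (SymTen.perm R R' d σ).toLinearMap)
    (fun σ g => perm_bT e σ g) t (fun σ => ?_)
  · rw [ρ₀_bT]
    rfl
  · rw [AlgHom.toLinearMap_apply, SymTen.perm_apply]
    exact ht σ

lemma ρ₀_baseChange_of_inv (S : Type u) [CommSemiring S] [Algebra R S]
    (z : S ⊗[R] (⨂[R] _ : Fin d, R'))
    (hz : ∀ σ : Equiv.Perm (Fin d), (SymTen.perm R R' d σ).toLinearMap.lTensor S z = z) :
    (ρ₀ e).lTensor S z = z := by
  classical
  have := fix_of_inv (Algebra.TensorProduct.basis S (bT e)) ((ρ₀ e).baseChange S) (fun g => ?_)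
    (fun σ => (SymTen.perm R R' d σ).toLinearMap.baseChange S) (fun σ g => ?_) z (fun σ => ?_)
  · rw [← LinearMap.baseChange_eq_ltensor]
    exact this
  · rw [Algebra.TensorProduct.basis_apply, LinearMap.baseChange_tmul, ρ₀_bT]
    split_ifs
    · unfold orb
      rw [TensorProduct.tmul_sum]
      refine Finset.sum_congr rfl (fun g' _ => ?_)
      rw [Algebra.TensorProduct.basis_apply]
    · rw [TensorProduct.tmul_zero]
  · rw [Algebra.TensorProduct.basis_apply, LinearMap.baseChange_tmul, Algebra.TensorProduct.basis_apply,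
      AlgHom.toLinearMap_apply, perm_bT]
  · rw [LinearMap.baseChange_eq_ltensor]
    exact hz σ

/-- the retraction onto the symmetric tensors. -/
noncomputable def ρ : (⨂[R] _ : Fin d, R') →ₗ[R] SymTen.TS R R' d :=
  (ρ₀ e).codRestrict (Subalgebra.toSubmodule (SymTen.TS R R' d)) (ρ₀_mem e)

lemma val_ρ (t : ⨂[R] _ : Fin d, R') : ((ρ e t : SymTen.TS R R' d) : ⨂[R] _ : Fin d, R') = ρ₀ e t :=
  rfl

lemma ρ_val (t : SymTen.TS R R' d) : ρ e (t : ⨂[R] _ : Fin d, R') = t :=
  Subtype.ext (ρ₀_of_mem e t.2)

end basis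

section law

variable {R : Type u} [CommRing R] {R' : Type u} [CommRing R'] [Algebra R R'] {d : ℕ}

lemma perm_comp_single (σ : Equiv.Perm (Fin d)) (j : Fin d) :
    (SymTen.perm R R' d σ).comp (PiTensorProduct.singleAlgHom (R := R) (A := fun _ : Fin d => R') j) =
      PiTensorProduct.singleAlgHom (R := R) (A := fun _ : Fin d => R') (σ j) := by
  ext b
  rw [AlgHom.comp_apply, PiTensorProduct.singleAlgHom_apply, PiTensorProduct.singleAlgHom_apply,
    SymTen.perm_tprod]
  congr 1
  ext i
  simp only [MonoidHom.mulSingle_apply, Pi.mulSingle_apply]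
  by_cases h : i = σ j
  · rw [if_pos h, if_pos (by rw [h]; simp)]
  · rw [if_neg h, if_neg (fun h' => h (by rw [← h']; simp))]

lemma tpowLaw_inv (S : Type u) [CommSemiring S] [Algebra R S] (x : S ⊗[R] R')
    (σ : Equiv.Perm (Fin d)) :
    (SymTen.perm R R' d σ).toLinearMap.lTensor S ((SymTen.tpowLaw R R' d).law.toFun' S x) =
      (SymTen.tpowLaw R R' d).law.toFun' S x := by
  rw [PolLaw.lTensor_algHom_apply]
  unfold SymTen.tpowLaw
  rw [PolLaw.MulLaw.prodMap_toFun', map_prod]
  have : ∀ j : Fin d, (Algebra.TensorProduct.map (AlgHom.id S S) (SymTen.perm R R' d σ))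
      ((Algebra.TensorProduct.map (AlgHom.id S S)
        (PiTensorProduct.singleAlgHom (R := R) (A := fun _ : Fin d => R') j)) x) =
      (Algebra.TensorProduct.map (AlgHom.id S S)
        (PiTensorProduct.singleAlgHom (R := R) (A := fun _ : Fin d => R') (σ j))) x := by
    intro j
    rw [← AlgHom.comp_apply, ← Algebra.TensorProduct.map_id_comp, perm_comp_single]
  simp only [this]
  exact Equiv.prod_comp σ (fun j => (Algebra.TensorProduct.map (AlgHom.id S S)
        (PiTensorProduct.singleAlgHom (R := R) (A := fun _ : Fin d => R') j)) x)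

variable (e : Basis (Fin d) R R')

/-- the tensor power law with values in the symmetric tensors. -/
noncomputable def τ : PolLaw.MulLaw R R' (SymTen.TS R R' d) d where
  law := PolLaw.postcomp (ρ e) (SymTen.tpowLaw R R' d).law
  homog := by
    intro S _ _ s x
    change (ρ e).lTensor S ((SymTen.tpowLaw R R' d).law.toFun' S (s • x)) =
      s ^ d • (ρ e).lTensor S ((SymTen.tpowLaw R R' d).law.toFun' S x)
    rw [(SymTen.tpowLaw R R' d).homog S s x, ← LinearMap.baseChange_eq_ltensor, map_smul]
  mult := by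
    intro S _ _
    have hval : ∀ z : S ⊗[R] (⨂[R] _ : Fin d, R'),
        (∀ σ : Equiv.Perm (Fin d), (SymTen.perm R R' d σ).toLinearMap.lTensor S z = z) →
        (SymTen.TS R R' d).val.toLinearMap.lTensor S ((ρ e).lTensor S z) = z := by
      intro z hz
      rw [← LinearMap.comp_apply, ← LinearMap.lTensor_comp]
      have : (SymTen.TS R R' d).val.toLinearMap ∘ₗ ρ e = ρ₀ e := by
        ext t
        rfl
      rw [this]
      exact ρ₀_baseChange_of_inv e S z hz
    have hinj : Function.Injective ((SymTen.TS R R' d).val.toLinearMap.lTensor S) := by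
      have : (ρ e).lTensor S ∘ₗ (SymTen.TS R R' d).val.toLinearMap.lTensor S = LinearMap.id := by
        rw [← LinearMap.lTensor_comp]
        have : ρ e ∘ₗ (SymTen.TS R R' d).val.toLinearMap = LinearMap.id := by
          ext t
          exact congrArg Subtype.val (ρ_val e t)
        rw [this, LinearMap.lTensor_id]
      exact Function.LeftInverse.injective (fun z => LinearMap.congr_fun this z)
    refine ⟨hinj ?_, fun x y => hinj ?_⟩
    · change (SymTen.TS R R' d).val.toLinearMap.lTensor S
        ((ρ e).lTensor S ((SymTen.tpowLaw R R' d).law.toFun' S 1)) = _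
      rw [hval _ (tpowLaw_inv S 1), PolLaw.lTensor_algHom_apply, map_one,
        ((SymTen.tpowLaw R R' d).mult S).1]
    · change (SymTen.TS R R' d).val.toLinearMap.lTensor S
        ((ρ e).lTensor S ((SymTen.tpowLaw R R' d).law.toFun' S (x * y))) =
        (SymTen.TS R R' d).val.toLinearMap.lTensor S
          ((ρ e).lTensor S ((SymTen.tpowLaw R R' d).law.toFun' S x) *
            (ρ e).lTensor S ((SymTen.tpowLaw R R' d).law.toFun' S y))
      rw [hval _ (tpowLaw_inv S (x * y) ), PolLaw.lTensor_algHom_apply, map_mul,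
        ← PolLaw.lTensor_algHom_apply, ← PolLaw.lTensor_algHom_apply,
        hval _ (tpowLaw_inv S x), hval _ (tpowLaw_inv S y),
        ((SymTen.tpowLaw R R' d).mult S).2]

lemma val_τ : PolLaw.MulLaw.postcomp (SymTen.TS R R' d).val (τ e) = SymTen.tpowLaw R R' d := by
  apply PolLaw.MulLaw.ext
  ext S _ _ x
  change (SymTen.TS R R' d).val.toLinearMap.lTensor S
    ((ρ e).lTensor S ((SymTen.tpowLaw R R' d).law.toFun' S x)) = _
  rw [← LinearMap.comp_apply, ← LinearMap.lTensor_comp]
  have : (SymTen.TS R R' d).val.toLinearMap ∘ₗ ρ e = ρ₀ e := by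
    ext t
    rfl
  rw [this]
  exact ρ₀_baseChange_of_inv e S _ (tpowLaw_inv S x)

end law

section det

variable {R : Type u} [CommRing R] {R' : Type u} [CommRing R'] [Algebra R R'] {d : ℕ}
  (e : Basis (Fin d) R R')

/-- the determinant functional on the tensor power. -/
noncomputable def D : (⨂[R] _ : Fin d, R') →ₗ[R] R :=
  PiTensorProduct.lift (e.det : R' [⋀^Fin d]→ₗ[R] R).toMultilinearMap

lemma D_tprod (v : Fin d → R') : D e (tprod R v) = e.det v := by
  rw [D, PiTensorProduct.lift.tprod]
  rfl

lemma D_altSpan {y : ⨂[R] _ : Fin d, R'} (hy : y ∈ SymTen.altSpan R R' d) : D e y = 0 := by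
  induction hy using Submodule.span_induction with
  | mem y hy =>
    obtain ⟨p, i, j, hij, hp, rfl⟩ := hy
    rw [D_tprod]
    exact e.det.map_eq_zero_of_eq p hp hij
  | zero => exact map_zero _
  | add x y _ _ hx hy => rw [map_add, hx, hy, add_zero]
  | smul a x _ hx => rw [map_smul, hx, smul_zero]

/-- the class of a pure tensor modulo `altSpan`, as an alternating map. -/
noncomputable def altQ : R' [⋀^Fin d]→ₗ[R] ((⨂[R] _ : Fin d, R') ⧸ SymTen.altSpan R R' d) :=
  { (SymTen.altSpan R R' d).mkQ.compMultilinearMap (tprod R) with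
    map_eq_zero_of_eq' := by
      intro v i j hv hij
      change (SymTen.altSpan R R' d).mkQ (tprod R v) = 0
      rw [Submodule.mkQ_apply, Submodule.Quotient.mk_eq_zero]
      exact Submodule.subset_span ⟨v, i, j, hij, hv, rfl⟩ }

lemma altQ_apply (v : Fin d → R') :
    (altQ (R := R) (R' := R') (d := d)) v = (SymTen.altSpan R R' d).mkQ (tprod R v) := rfl

lemma sub_D_smul_mem (z : ⨂[R] _ : Fin d, R') :
    z - D e z • bT e id ∈ SymTen.altSpan R R' d := by
  classical
  rw [← Submodule.Quotient.mk_eq_zero, ← Submodule.mkQ_apply, map_sub, map_smul, sub_eq_zero]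
  have : (SymTen.altSpan R R' d).mkQ =
      ((LinearMap.toSpanSingleton R _ ((SymTen.altSpan R R' d).mkQ (bT e id))) ∘ₗ D e) := by
    apply (bT e).ext
    intro g
    rw [LinearMap.comp_apply, LinearMap.toSpanSingleton_apply, bT_apply, bT_apply, D_tprod,
      ← altQ_apply, ← altQ_apply]
    by_cases hg : Function.Injective g
    · have hbij : Function.Bijective g := Finite.injective_iff_bijective.1 hg
      set σ : Equiv.Perm (Fin d) := Equiv.ofBijective g hbij with hσ
      have h1 : (fun j => e (g j)) = (fun j => e j) ∘ σ := by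
        ext j
        rfl
      rw [h1, AlternatingMap.map_perm, AlternatingMap.map_perm]
      have h2 : (fun j => e (id j)) = fun j => e j := rfl
      rw [h2]
      have h3 : e.det (fun j => e j) = 1 := e.det_self
      rw [h3, smul_assoc, one_smul]
    · rw [AlternatingMap.map_eq_zero_of_not_injective _ _ (fun h => hg (fun a b hab => h
        (congrArg e hab))),
        AlternatingMap.map_eq_zero_of_not_injective _ _ (fun h => hg (fun a b hab => h
        (congrArg e hab))), zero_smul]
  conv_lhs => rw [this]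
  rfl

lemma mem_altSpan_iff (z : ⨂[R] _ : Fin d, R') : z ∈ SymTen.altSpan R R' d ↔ D e z = 0 := by
  constructor
  · exact D_altSpan e
  · intro h
    have := sub_D_smul_mem e z
    rwa [h, zero_smul, sub_zero] at this

lemma D_bT_id : D e (bT e id) = 1 := by
  rw [bT_apply, D_tprod]
  exact e.det_self

end det

section lam

variable {R : Type u} [CommRing R] {R' : Type u} [CommRing R'] [Algebra R R'] {d : ℕ}
  (e : Basis (Fin d) R R')

lemma repr_perm (σ : Equiv.Perm (Fin d)) (z : ⨂[R] _ : Fin d, R') (g : Fin d → Fin d) :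
    (bT e).repr (SymTen.perm R R' d σ z) g = (bT e).repr z (g ∘ σ) := by
  classical
  have : (Finsupp.lapply g ∘ₗ (bT e).repr.toLinearMap) ∘ₗ (SymTen.perm R R' d σ).toLinearMap =
      Finsupp.lapply (g ∘ σ) ∘ₗ (bT e).repr.toLinearMap := by
    apply (bT e).ext
    intro h
    simp only [LinearMap.comp_apply, AlgHom.toLinearMap_apply, perm_bT, LinearEquiv.coe_coe,
      Basis.repr_self, Finsupp.lapply_apply]
    rw [Finsupp.single_apply, Finsupp.single_apply]
    congr 1
    apply propext
    constructor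
    · intro hh
      rw [← hh]
      ext j
      simp
    · intro hh
      rw [hh]
      ext j
      simp
  exact LinearMap.congr_fun this z

lemma D_bT_comp_swap (g : Fin d → Fin d) {a b : Fin d} (hab : a ≠ b) :
    D e (bT e (g ∘ Equiv.swap a b)) = - D e (bT e g) := by
  rw [bT_apply, bT_apply, D_tprod, D_tprod]
  exact e.det.map_swap (v := fun j => e (g j)) hab

lemma D_bT_of_eq (g : Fin d → Fin d) {a b : Fin d} (hab : a ≠ b) (h : g a = g b) :
    D e (bT e g) = 0 := by
  rw [bT_apply, D_tprod]
  exact e.det.map_eq_zero_of_eq _ (by simp only [h]) hab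

include e in
/-- a tensor invariant under a transposition lies in `altSpan`. -/
lemma mem_altSpan_of_swap_inv {a b : Fin d} (hab : a ≠ b) (z : ⨂[R] _ : Fin d, R')
    (hz : SymTen.perm R R' d (Equiv.swap a b) z = z) : z ∈ SymTen.altSpan R R' d := by
  classical
  rw [mem_altSpan_iff e]
  have hc : ∀ g, (bT e).repr z (g ∘ Equiv.swap a b) = (bT e).repr z g := by
    intro g
    rw [← repr_perm, hz]
  rw [← (bT e).sum_repr z, map_sum]
  refine Finset.sum_ninvolution (fun g => g ∘ Equiv.swap a b) (fun g => ?_) (fun g hg hfix => ?_)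
    (fun g => Finset.mem_univ _) (fun g => ?_)
  · rw [map_smul, map_smul, hc, D_bT_comp_swap e g hab, smul_neg, add_neg_cancel]
  · apply hg
    have : g a = g b := by
      have := congrFun hfix a
      simpa using this.symm
    rw [map_smul, D_bT_of_eq e g hab this, smul_zero]
  · ext j
    simp

omit [CommRing R'] [Algebra R R'] in
lemma tprod_comp_swap_of_eq (p : Fin d → R') {a b : Fin d} (h : p a = p b) :
    (fun i => p ((Equiv.swap a b).symm i)) = p := by
  ext i
  rw [Equiv.symm_swap]
  by_cases hia : i = a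
  · rw [hia, Equiv.swap_apply_left, h]
  · by_cases hib : i = b
    · rw [hib, Equiv.swap_apply_right, h]
    · rw [Equiv.swap_apply_of_ne_of_ne hia hib]

include e in
lemma mul_mem_altSpan {t : ⨂[R] _ : Fin d, R'} (ht : t ∈ SymTen.TS R R' d)
    {y : ⨂[R] _ : Fin d, R'} (hy : y ∈ SymTen.altSpan R R' d) : t * y ∈ SymTen.altSpan R R' d := by
  induction hy using Submodule.span_induction with
  | mem y hy =>
    obtain ⟨p, a, b, hab, hp, rfl⟩ := hy
    apply mem_altSpan_of_swap_inv e hab
    rw [map_mul, SymTen.perm_tprod, tprod_comp_swap_of_eq p hp, SymTen.perm_apply, ht]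
  | zero => rw [mul_zero]; exact Submodule.zero_mem _
  | add x y _ _ hx hy => rw [mul_add]; exact Submodule.add_mem _ hx hy
  | smul c x _ hx => rw [mul_smul_comm]; exact Submodule.smul_mem _ _ hx

lemma D_mul {t : ⨂[R] _ : Fin d, R'} (ht : t ∈ SymTen.TS R R' d) (x : ⨂[R] _ : Fin d, R') :
    D e (t * x) = D e (t * bT e id) * D e x := by
  have h1 := mul_mem_altSpan e ht (sub_D_smul_mem e x)
  rw [mem_altSpan_iff e, mul_sub, mul_smul_comm, map_sub, map_smul, sub_eq_zero, smul_eq_mul] at h1
  rw [h1, mul_comm]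

/-- the character of the symmetric tensors given by the action on the top exterior power. -/
noncomputable def lam : SymTen.TS R R' d →ₐ[R] R :=
  AlgHom.ofLinearMap ((D e ∘ₗ LinearMap.mulRight R (bT e id)) ∘ₗ (SymTen.TS R R' d).val.toLinearMap)
    (by
      simp only [LinearMap.comp_apply, AlgHom.toLinearMap_apply, Subalgebra.coe_val,
        LinearMap.mulRight_apply, OneMemClass.coe_one, one_mul]
      exact D_bT_id e)
    (by
      intro t t'
      simp only [LinearMap.comp_apply, AlgHom.toLinearMap_apply, Subalgebra.coe_val,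
        LinearMap.mulRight_apply, MulMemClass.coe_mul]
      rw [mul_assoc, D_mul e t.2])

lemma lam_apply (t : SymTen.TS R R' d) :
    lam e t = D e ((t : ⨂[R] _ : Fin d, R') * bT e id) := rfl

lemma tpowAct_eq_mul (t x : ⨂[R] _ : Fin d, R') : SymTen.tpowAct R R' R' d t x = t * x := by
  induction t using PiTensorProduct.induction_on with
  | smul_tprod r a =>
    induction x using PiTensorProduct.induction_on with
    | smul_tprod r' p =>
      simp only [map_smul, LinearMap.smul_apply, smul_mul_assoc, mul_smul_comm]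
      congr 2
      rw [SymTen.tpowAct, PiTensorProduct.lift.tprod]
      simp only [MultilinearMap.compLinearMap_apply, PiTensorProduct.mapMultilinear_apply,
        PiTensorProduct.map_tprod, AlgHom.toLinearMap_apply, Algebra.lsmul_coe, smul_eq_mul,
        PiTensorProduct.tprod_mul_tprod]
      rfl
    | add x y hx hy => rw [map_add, hx, hy, mul_add]
  | add t t' ht ht' => rw [map_add, LinearMap.add_apply, ht, ht', add_mul]

/-- the key property: a symmetric tensor acts on the top exterior power by the scalar `lam`. -/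
theorem tpowAct_sub_lam_mem (t : SymTen.TS R R' d) (x : ⨂[R] _ : Fin d, R') :
    SymTen.tpowAct R R' R' d (t : ⨂[R] _ : Fin d, R') x - lam e t • x ∈ SymTen.altSpan R R' d := by
  rw [tpowAct_eq_mul, mem_altSpan_iff e, map_sub, map_smul, D_mul e t.2, lam_apply, smul_eq_mul,
    sub_self]

end lam

section extRing

/-- polynomial laws over a ring agreeing on all ring test algebras are equal. -/
theorem law_ext_ring {R : Type u} [CommRing R] {M N : Type*} [AddCommGroup M] [Module R M]
    [AddCommGroup N] [Module R N] (F G : M →ₚₗ[R] N)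
    (h : ∀ (S : Type u) [CommRing S] [Algebra R S] (x : S ⊗[R] M), F.toFun' S x = G.toFun' S x) :
    F = G := by
  ext S _ _ x
  obtain ⟨n, ψ, p, rfl⟩ := PolynomialLaw.exists_lift x
  rw [← PolynomialLaw.isCompat_apply', ← PolynomialLaw.isCompat_apply',
    h (MvPolynomial (Fin n) R) p]

end extRing

section norm

variable {R : Type u} [CommRing R] {R' : Type u} [CommRing R'] [Algebra R R'] {d : ℕ}
  (e : Basis (Fin d) R R')

lemma prod_single (v : Fin d → R') :
    ∏ j, PiTensorProduct.singleAlgHom (R := R) (A := fun _ : Fin d => R') j (v j) = tprod R v := by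
  simp only [PiTensorProduct.singleAlgHom_apply, MonoidHom.mulSingle_apply]
  rw [← PiTensorProduct.tprod_prod]
  exact congrArg _ (Finset.univ_prod_mulSingle v)

lemma prod_tmul {S A : Type*} [CommSemiring S] [Algebra R S] [CommSemiring A] [Algebra R A]
    {ι : Type*} (s : Finset ι) (a : ι → S) (b : ι → A) :
    ∏ j ∈ s, (a j ⊗ₜ[R] b j) = (∏ j ∈ s, a j) ⊗ₜ[R] (∏ j ∈ s, b j) := by
  classical
  induction s using Finset.induction_on with
  | empty => simp [Algebra.TensorProduct.one_def]
  | insert j s hj ih =>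
    rw [Finset.prod_insert hj, Finset.prod_insert hj, Finset.prod_insert hj, ih,
      Algebra.TensorProduct.tmul_mul_tmul]

/-- the tensor power law on a sum of pure tensors. -/
theorem tpowLaw_sum (S : Type u) [CommSemiring S] [Algebra R S] {n : ℕ} (s : Fin n → S)
    (b : Fin n → R') :
    (SymTen.tpowLaw R R' d).law.toFun' S (∑ i, s i ⊗ₜ[R] b i) =
      ∑ c : Fin d → Fin n, (∏ j, s (c j)) ⊗ₜ[R] tprod R (fun j => b (c j)) := by
  unfold SymTen.tpowLaw
  rw [PolLaw.MulLaw.prodMap_toFun']
  simp only [map_sum, Algebra.TensorProduct.map_tmul, AlgHom.id_apply]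
  rw [Finset.prod_univ_sum, Fintype.piFinset_univ]
  refine Finset.sum_congr rfl (fun c _ => ?_)
  rw [prod_tmul, prod_single]

lemma det_baseChange (S : Type u) [CommRing S] [Algebra R S] (v : Fin d → R') :
    (Algebra.TensorProduct.basis S e).det (fun j => (1 : S) ⊗ₜ[R] v j) =
      algebraMap R S (e.det v) := by
  rw [Basis.det_apply, Basis.det_apply, RingHom.map_det]
  congr 1
  ext i j
  rw [Basis.toMatrix_apply, Algebra.TensorProduct.basis_repr_tmul, one_smul, Finsupp.mapRange_apply,
    RingHom.mapMatrix_apply, Matrix.map_apply, Basis.toMatrix_apply]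

lemma norm_eq_sum (S : Type u) [CommRing S] [Algebra R S] (s : Fin d → S) :
    Algebra.norm S (∑ i, s i ⊗ₜ[R] e i) =
      ∑ c : Fin d → Fin d, (∏ j, s (c j)) * algebraMap R S (e.det (fun j => e (c j) * e j)) := by
  classical
  set eS := Algebra.TensorProduct.basis S e with heS
  set x := ∑ i, s i ⊗ₜ[R] e i with hx
  have h1 : Algebra.norm S x = eS.det (fun j => x * eS j) := by
    rw [Algebra.norm_apply]
    have := eS.det_comp (Algebra.lmul S _ x) eS
    rw [eS.det_self, mul_one] at this
    rw [← this]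
    rfl
  have h2 : ∀ j, x * eS j = ∑ i, s i • ((1 : S) ⊗ₜ[R] (e i * e j)) := by
    intro j
    rw [heS, Algebra.TensorProduct.basis_apply, hx, Finset.sum_mul]
    refine Finset.sum_congr rfl (fun i _ => ?_)
    rw [Algebra.TensorProduct.tmul_mul_tmul, mul_one, TensorProduct.smul_tmul', smul_eq_mul, mul_one]
  rw [h1]
  simp only [h2]
  have h3 := eS.det.toMultilinearMap.map_sum (fun j i => s i • ((1 : S) ⊗ₜ[R] (e i * e j)))
  change eS.det (fun j => ∑ i, s i • ((1 : S) ⊗ₜ[R] (e i * e j))) = _ at h3
  rw [h3]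
  refine Finset.sum_congr rfl (fun c _ => ?_)
  change eS.det (fun j => s (c j) • ((1 : S) ⊗ₜ[R] (e (c j) * e j))) = _
  have h4 := eS.det.toMultilinearMap.map_smul_univ (fun j => s (c j))
    (fun j => ((1 : S) ⊗ₜ[R] (e (c j) * e j)))
  change eS.det (fun j => s (c j) • ((1 : S) ⊗ₜ[R] (e (c j) * e j))) = _ at h4
  rw [h4, smul_eq_mul]
  congr 1
  exact det_baseChange e S (fun j => e (c j) * e j)

variable [Module.Free R R'] [Module.Finite R R']

theorem lam_τ (hd : Module.finrank R R' = d) :
    PolLaw.MulLaw.postcomp (lam e) (τ e) = PolLaw.normLaw R R' d hd := by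
  apply PolLaw.MulLaw.ext
  apply law_ext_ring
  intro S _ _ x
  rw [PolLaw.normLaw_apply]
  change (lam e).toLinearMap.lTensor S
    ((ρ e).lTensor S ((SymTen.tpowLaw R R' d).law.toFun' S x)) = _
  rw [← LinearMap.comp_apply, ← LinearMap.lTensor_comp]
  have hcomp : (lam e).toLinearMap ∘ₗ ρ e =
      (D e ∘ₗ LinearMap.mulRight R (bT e id)) ∘ₗ ρ₀ e := by
    ext t
    rfl
  rw [hcomp, LinearMap.lTensor_comp, LinearMap.comp_apply,
    ρ₀_baseChange_of_inv e S _ (tpowLaw_inv S x)]
  -- expand x in the basis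
  obtain ⟨s, rfl⟩ : ∃ s : Fin d → S, x = ∑ i, s i ⊗ₜ[R] e i := by
    refine ⟨fun i => (Algebra.TensorProduct.basis S e).repr x i, ?_⟩
    conv_lhs => rw [← (Algebra.TensorProduct.basis S e).sum_repr x]
    refine Finset.sum_congr rfl (fun i _ => ?_)
    rw [Algebra.TensorProduct.basis_apply, TensorProduct.smul_tmul', smul_eq_mul, mul_one]
  rw [tpowLaw_sum, map_sum, norm_eq_sum, TensorProduct.sum_tmul]
  refine Finset.sum_congr rfl (fun c _ => ?_)
  rw [LinearMap.lTensor_tmul, LinearMap.comp_apply, LinearMap.mulRight_apply, bT_apply,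
    PiTensorProduct.tprod_mul_tprod, D_tprod]
  have hfun : ((fun j => e (c j)) * fun j => e (id j)) = fun j => e (c j) * e j := rfl
  rw [hfun, mul_comm (∏ j, s (c j)) _, ← Algebra.smul_def, TensorProduct.smul_tmul, smul_eq_mul,
    mul_one]

end norm

section main

variable {R : Type u} [CommRing R] {R' : Type u} [CommRing R'] [Algebra R R'] {d : ℕ}

lemma postcomp_comp {M N P Q : Type u} [AddCommGroup M] [Module R M] [AddCommGroup N] [Module R N]
    [AddCommGroup P] [Module R P] [AddCommGroup Q] [Module R Q]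
    (g : P →ₗ[R] Q) (f : N →ₗ[R] P) (F : M →ₚₗ[R] N) :
    PolLaw.postcomp (g ∘ₗ f) F = PolLaw.postcomp g (PolLaw.postcomp f F) := by
  ext S _ _ x
  change (g ∘ₗ f).lTensor S (F.toFun' S x) = g.lTensor S (f.lTensor S (F.toFun' S x))
  rw [LinearMap.lTensor_comp, LinearMap.comp_apply]

variable [Module.Free R R'] [Module.Finite R R']

theorem main (hd : Module.finrank R R' = d)
    {C : Type u} [CommRing C] [Algebra R C] (γ : PolLaw.MulLaw R R' C d) (hγ : PolLaw.IsGammaD γ)
    (φ : C →ₐ[R] (⨂[R] _ : Fin d, R')) (hφ : PolLaw.MulLaw.postcomp φ γ = SymTen.tpowLaw R R' d)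
    (π : C →ₐ[R] R) (hπ : PolLaw.MulLaw.postcomp π γ = PolLaw.normLaw R R' d hd)
    (c : C) (x : ⨂[R] _ : Fin d, R') :
    SymTen.tpowAct R R' R' d (φ c) x - π c • x ∈ SymTen.altSpan R R' d := by
  classical
  rcases subsingleton_or_nontrivial R with hR | hR
  · have : Subsingleton (⨂[R] _ : Fin d, R') := Module.subsingleton R _
    rw [Subsingleton.elim (SymTen.tpowAct R R' R' d (φ c) x - π c • x) 0]
    exact Submodule.zero_mem _
  let e : Basis (Fin d) R R' := Module.finBasisOfFinrankEq R R' hd
  obtain ⟨f, hf, -⟩ := hγ (SymTen.TS R R' d) (τ e)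
  have hf' : PolLaw.postcomp f.toLinearMap γ.law = (τ e).law := hf
  have h1 : (SymTen.TS R R' d).val.comp f = φ := by
    obtain ⟨g, -, hg⟩ := hγ (⨂[R] _ : Fin d, R') (SymTen.tpowLaw R R' d)
    rw [hg ((SymTen.TS R R' d).val.comp f) ?_, hg φ ?_]
    · exact congrArg PolLaw.MulLaw.law hφ
    · change PolLaw.postcomp ((SymTen.TS R R' d).val.toLinearMap ∘ₗ f.toLinearMap) γ.law = _
      rw [postcomp_comp, hf']
      exact congrArg PolLaw.MulLaw.law (val_τ e)
  have h2 : (lam e).comp f = π := by
    obtain ⟨g, -, hg⟩ := hγ R (PolLaw.normLaw R R' d hd)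
    rw [hg ((lam e).comp f) ?_, hg π ?_]
    · exact congrArg PolLaw.MulLaw.law hπ
    · change PolLaw.postcomp ((lam e).toLinearMap ∘ₗ f.toLinearMap) γ.law = _
      rw [postcomp_comp, hf']
      exact congrArg PolLaw.MulLaw.law (lam_τ e hd)
  rw [← h1, ← h2]
  exact tpowAct_sub_lam_mem e (f c) x

end main

end Groth.Agent.Lib.Helper22.SymTenFree
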