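import Mathlib
import Groth.Agent.Lib.Helper22.SymTenFree

/-!
# The linearised norm on symmetric tensors
-/

namespace Groth.Agent.Lib.Helper22.SymTenNorm

open scoped TensorProduct
open Module PiTensorProduct Groth.Agent.Lib.Helper22.SymTenFree

universe u

section polar

variable {A : Type u} [CommRing A] {R : Type u} [CommRing R] [Algebra A R] {n : ℕ}

/-- polarization: the symmetrization of a pure tensor is an alternating sum of diagonal tensors. -/
theorem sum_perm_tprod (v : Fin n → R) :
    ∑ σ : Equiv.Perm (Fin n), SymTen.perm A R n σ (tprod A v) =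
      ∑ t ∈ (Finset.univ : Finset (Fin n)).powerset,
        (-1 : ℤ) ^ t.card • tprod A (fun _ : Fin n => ∑ i ∈ tᶜ, v i) := by
  classical
  -- step a: sum over permutations = sum over surjective maps
  have ha : ∑ σ : Equiv.Perm (Fin n), SymTen.perm A R n σ (tprod A v) =
      ∑ c ∈ (Finset.univ : Finset (Fin n → Fin n)).filter Function.Surjective,
        tprod A (fun j => v (c j)) := by
    simp only [SymTen.perm_tprod]
    refine Finset.sum_bij (fun σ _ => ⇑σ.symm) (fun σ _ => ?_) (fun σ _ τ _ h => ?_)
      (fun c hc => ?_) (fun σ _ => rfl)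
    · rw [Finset.mem_filter]
      exact ⟨Finset.mem_univ _, σ.symm.surjective⟩
    · have : σ.symm = τ.symm := DFunLike.coe_injective h
      exact Equiv.symm_bijective.injective this
    · rw [Finset.mem_filter] at hc
      have hb : Function.Bijective c := Finite.surjective_iff_bijective.1 hc.2
      refine ⟨(Equiv.ofBijective c hb).symm, Finset.mem_univ _, ?_⟩
      rw [Equiv.symm_symm]
      rfl
  rw [ha]
  -- step b: inclusion-exclusion
  set S : Fin n → Finset (Fin n → Fin n) := fun i => Finset.univ.filter (fun c => ∀ j, c j ≠ i)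
    with hS
  have hb : (Finset.univ : Finset (Fin n → Fin n)).filter Function.Surjective =
      (Finset.univ : Finset (Fin n)).inf (fun i => (S i)ᶜ) := by
    ext c
    simp only [Finset.mem_filter, Finset.mem_univ, true_and, Finset.mem_inf, Finset.mem_compl, hS,
      not_forall, not_not]
    exact ⟨fun h i _ => h i, fun h i => h i trivial⟩
  rw [hb, Finset.inclusion_exclusion_sum_inf_compl]
  refine Finset.sum_congr rfl (fun t _ => ?_)
  congr 1
  have hc : t.inf S = Fintype.piFinset (fun _ : Fin n => tᶜ) := by
    ext c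
    simp only [Finset.mem_inf, hS, Finset.mem_filter, Finset.mem_univ, true_and,
      Fintype.mem_piFinset, Finset.mem_compl]
    constructor
    · intro h j hj
      exact h _ hj j rfl
    · intro h i hi j hji
      exact h j (hji ▸ hi)
  rw [hc]
  exact ((PiTensorProduct.tprod A).map_sum_finset (fun _ j => v j) (fun _ : Fin n => tᶜ)).symm

end polar

section main

variable {A : Type u} [CommRing A] {R : Type u} [CommRing R] [Algebra A R] {n : ℕ}

lemma lam_tpow (e : Basis (Fin n) A R) (r : R) :
    lam e (SymTen.tpow A R n r) = Algebra.norm A r := by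
  rw [lam_apply]
  change D e (tprod A (fun _ => r) * bT e id) = _
  rw [bT_apply, PiTensorProduct.tprod_mul_tprod, D_tprod, Algebra.norm_apply]
  have := e.det_comp (Algebra.lmul A R r) e
  rw [e.det_self, mul_one] at this
  rw [← this]
  rfl

lemma perm_perm (τ σ : Equiv.Perm (Fin n)) (x : ⨂[A] _ : Fin n, R) :
    SymTen.perm A R n τ (SymTen.perm A R n σ x) = SymTen.perm A R n (τ * σ) x := by
  induction x using PiTensorProduct.induction_on with
  | smul_tprod r f =>
    simp only [map_smul, SymTen.perm_tprod]
    rfl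
  | add x y hx hy => simp only [map_add, hx, hy]

/-- symmetrization, with values in the symmetric tensors. -/
noncomputable def symm : (⨂[A] _ : Fin n, R) →ₗ[A] SymTen.TS A R n :=
  (∑ σ : Equiv.Perm (Fin n), (SymTen.perm A R n σ).toLinearMap).codRestrict
    (Subalgebra.toSubmodule (SymTen.TS A R n)) (by
      intro x τ
      rw [← SymTen.perm_apply, LinearMap.sum_apply, map_sum]
      simp only [AlgHom.toLinearMap_apply, perm_perm]
      exact Equiv.sum_comp (Equiv.mulLeft τ) (fun σ => SymTen.perm A R n σ x))

lemma symm_val (x : ⨂[A] _ : Fin n, R) :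
    ((symm x : SymTen.TS A R n) : ⨂[A] _ : Fin n, R) = ∑ σ : Equiv.Perm (Fin n), SymTen.perm A R n σ x := by
  change (∑ σ : Equiv.Perm (Fin n), (SymTen.perm A R n σ).toLinearMap) x = _
  rw [LinearMap.sum_apply]
  rfl

lemma symm_tprod (v : Fin n → R) :
    symm (tprod A v) = ∑ t ∈ (Finset.univ : Finset (Fin n)).powerset,
        (-1 : ℤ) ^ t.card • SymTen.tpow A R n (∑ i ∈ tᶜ, v i) := by
  apply Subtype.ext
  rw [symm_val, sum_perm_tprod]
  rw [AddSubmonoidClass.coe_finset_sum]
  refine Finset.sum_congr rfl (fun t _ => ?_)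
  rfl

lemma symm_of_mem (t : SymTen.TS A R n) :
    symm (t : ⨂[A] _ : Fin n, R) = (n.factorial : ℕ) • t := by
  apply Subtype.ext
  rw [symm_val]
  have : ∀ σ : Equiv.Perm (Fin n), SymTen.perm A R n σ (t : ⨂[A] _ : Fin n, R) = t := by
    intro σ
    rw [SymTen.perm_apply]
    exact t.2 σ
  simp only [this]
  rw [Finset.sum_const, Finset.card_univ, Fintype.card_perm, Fintype.card_fin]
  rfl

theorem algHom_unique (hfact : IsUnit ((n.factorial : ℕ) : A)) (φ φ' : SymTen.TS A R n →ₐ[A] A)
    (h : ∀ r, φ (SymTen.tpow A R n r) = φ' (SymTen.tpow A R n r)) : φ = φ' := by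
  have key : ∀ x : ⨂[A] _ : Fin n, R, φ (symm x) = φ' (symm x) := by
    intro x
    induction x using PiTensorProduct.induction_on with
    | smul_tprod r v =>
      rw [map_smul, map_smul, map_smul, symm_tprod, map_sum, map_sum]
      congr 1
      refine Finset.sum_congr rfl (fun t _ => ?_)
      rw [map_zsmul, map_zsmul, h]
    | add x y hx hy => rw [map_add, map_add, map_add, hx, hy]
  ext t
  have h1 := key (t : ⨂[A] _ : Fin n, R)
  rw [symm_of_mem, map_nsmul, map_nsmul, nsmul_eq_mul, nsmul_eq_mul] at h1
  exact hfact.mul_left_cancel h1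

end main

end Groth.Agent.Lib.Helper22.SymTenNorm
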