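/-
Helper22 library: flat + locally finitely presented + syntomic fibres => syntomic
(following Mathlib's `Smooth.of_smooth_fiberToSpecResidueField`).
-/
import Mathlib
import Groth.Agent.Lib.Helper24.SyntLocalSch

set_option autoImplicit false
universe u

open CategoryTheory Limits AlgebraicGeometry TensorProduct

namespace Groth.Agent.Lib.Helper22.SyntFib

open Groth.Agent.Lib.Helper24.SyntLocalSch Groth.Agent.Lib.Helper24.SyntLocal

/-- over a field, syntomic means local complete intersection. -/
theorem isLCIOver_of_isSyntomic_field (K B : Type u) [Field K] [CommRing B] [Algebra K B]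
    (h : Synt.IsSyntomic K B) : Synt.IsLCIOver K B := by
  have h1 := h.2.2 ⟨⊥, Ideal.isPrime_bot⟩
  haveI : (⊥ : Ideal K).IsMaximal := Ideal.bot_isMaximal
  have hbij : Function.Bijective (algebraMap K (⊥ : Ideal K).ResidueField) :=
    ⟨(algebraMap K (⊥ : Ideal K).ResidueField).injective,
      Ideal.algebraMap_residueField_surjective _⟩
  let σ₀ : K ≃ₐ[K] (⊥ : Ideal K).ResidueField :=
    AlgEquiv.ofBijective (Algebra.ofId K _) hbij
  let e : (⊥ : Ideal K).Fiber B ≃ₐ[K] B :=
    (Algebra.TensorProduct.congr σ₀.symm AlgEquiv.refl).trans (Algebra.TensorProduct.lid K B)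
  refine isLCIOver_of_semilinearEquiv σ₀.symm.toRingEquiv e.toRingEquiv ?_ h1
  intro x
  show e (algebraMap _ _ x) = algebraMap K B (σ₀.symm x)
  rw [Algebra.TensorProduct.algebraMap_apply]
  simp [e, Algebra.smul_def]

set_option backward.isDefEq.respectTransparency false in
theorem P_of_fiber {X Y : Scheme.{u}} (f : X ⟶ Y) [LocallyOfFinitePresentation f] [Flat f]
    (h : ∀ y, P (f.fiberToSpecResidueField y)) : P f := by
  wlog hY : ∃ R, Y = Spec R
  · rw [IsZariskiLocalAtTarget.iff_of_openCover (P := P) Y.affineCover]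
    intro i
    dsimp [Scheme.Cover.pullbackHom]
    refine this _ (fun y ↦ ?_) ⟨_, rfl⟩
    have hpb := isPullback_fiberToSpecResidueField_of_isPullback
      (IsPullback.of_hasPullback f (Y.affineCover.f i)) y
    haveI := hpb.isIso_fst_of_isIso
    rw [← MorphismProperty.cancel_right_of_respectsIso (P := P) _
      (Spec.map ((Y.affineCover.f i).residueFieldMap y)), ← hpb.w,
      MorphismProperty.cancel_left_of_respectsIso (P := P)]
    exact h _
  obtain ⟨R, rfl⟩ := hY
  wlog hX : ∃ S, X = Spec S generalizing f X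
  · rw [IsZariskiLocalAtSource.iff_of_openCover (P := P) X.affineCover]
    intro i
    refine this _ (fun y ↦ ?_) ⟨_, rfl⟩
    rw [Scheme.Hom.fiberToSpecResidueField, ← pullbackRightPullbackFstIso_inv_snd_snd,
      MorphismProperty.cancel_left_of_respectsIso (P := P)]
    exact IsZariskiLocalAtSource.comp (P := P) (h y) _
  obtain ⟨S, rfl⟩ := hX
  obtain ⟨φ, rfl⟩ := Spec.map_surjective f
  refine (HasRingHomProperty.Spec_iff (P := P)).mpr ?_
  have hflat : φ.hom.Flat := (HasRingHomProperty.Spec_iff (P := @Flat)).mp inferInstance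
  have hfp : φ.hom.FinitePresentation :=
    (HasRingHomProperty.Spec_iff (P := @LocallyOfFinitePresentation)).mp inferInstance
  let _ := φ.hom.toAlgebra
  refine ⟨hflat, hfp, fun p => ?_⟩
  have h1 : P (Spec.map (CommRingCat.ofHom
      (algebraMap p.asIdeal.ResidueField (p.asIdeal.Fiber S)))) :=
    (MorphismProperty.arrow_mk_iso_iff (P := P) (Spec.fiberToSpecResidueFieldIso R S p)).mp (h p)
  have h2 := (HasRingHomProperty.Spec_iff (P := P)).mp h1
  have h3 : Synt.IsSyntomic p.asIdeal.ResidueField (p.asIdeal.Fiber S) :=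
    isSyntomic_congr_algebra
      (algebraMap p.asIdeal.ResidueField (p.asIdeal.Fiber S)).toAlgebra _ (fun _ => rfl) h2
  exact isLCIOver_of_isSyntomic_field _ _ h3

end Groth.Agent.Lib.Helper22.SyntFib
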