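import Mathlib
import Groth.Agent.Lib.Helper24.RelGCIQuot
import Groth.Agent.Lib.Helper24.SyntRelGCI

/-!
# Lifting a syntomic algebra over `R/I` locally to a relative global complete intersection over `R`
(helper22)
-/

set_option autoImplicit false
universe u

namespace Groth.Agent.Lib.Helper22.SyntQuotLift

open Synt MvPolynomial Groth.Agent.Lib.Helper24

/-- `A/J ≃ A_a / J A_a` when `a ≡ 1 mod J`. -/
theorem exists_quot_away_equiv {R A B : Type u} [CommRing R] [CommRing A] [Algebra R A]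
    [CommRing B] [Algebra R B] [Algebra A B] [IsScalarTower R A B] (a : A)
    [IsLocalization.Away a B] (J : Ideal A) (ha : a - 1 ∈ J) :
    Nonempty ((A ⧸ J) ≃ₐ[R] (B ⧸ J.map (algebraMap A B))) := by
  have hpow : ∀ k : ℕ, a ^ k - 1 ∈ J := by
    intro k
    have h1 : Ideal.Quotient.mk J a = 1 := by
      rw [← sub_eq_zero, ← map_one (Ideal.Quotient.mk J), ← map_sub]
      exact Ideal.Quotient.eq_zero_iff_mem.mpr ha
    rw [← Ideal.Quotient.eq_zero_iff_mem, map_sub, map_pow, map_one, h1, one_pow, sub_self]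
  let ψ : A →ₐ[R] (B ⧸ J.map (algebraMap A B)) :=
    (Ideal.Quotient.mkₐ R (J.map (algebraMap A B))).comp (IsScalarTower.toAlgHom R A B)
  have hψ : ∀ s, ψ s = Ideal.Quotient.mk (J.map (algebraMap A B)) (algebraMap A B s) :=
    fun s => rfl
  have hsurj : Function.Surjective ψ := by
    intro y
    obtain ⟨b, rfl⟩ := Ideal.Quotient.mk_surjective y
    obtain ⟨⟨s, ⟨_, k, rfl⟩⟩, hs⟩ := IsLocalization.surj (Submonoid.powers a) b
    have hs' : b * algebraMap A B (a ^ k) = algebraMap A B s := hs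
    refine ⟨s, ?_⟩
    rw [hψ, ← hs', ← sub_eq_zero, ← map_sub, Ideal.Quotient.eq_zero_iff_mem]
    have h2 : b * algebraMap A B (a ^ k) - b = b * algebraMap A B (a ^ k - 1) := by
      rw [map_sub, map_one]; ring
    rw [h2]
    exact Ideal.mul_mem_left _ _ (Ideal.mem_map_of_mem _ (hpow k))
  have hker : J = RingHom.ker ψ := by
    ext s
    rw [RingHom.mem_ker, hψ, Ideal.Quotient.eq_zero_iff_mem]
    constructor
    · intro hs; exact Ideal.mem_map_of_mem _ hs
    · intro hs
      obtain ⟨⟨j, ⟨_, k, rfl⟩⟩, hj⟩ :=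
        (IsLocalization.mem_map_algebraMap_iff (Submonoid.powers a) B).mp hs
      have hj' : algebraMap A B s * algebraMap A B (a ^ k) = algebraMap A B (j : A) := hj
      rw [← map_mul] at hj'
      obtain ⟨⟨_, m, rfl⟩, hm⟩ := (IsLocalization.eq_iff_exists (Submonoid.powers a) B).mp hj'
      have hm' : a ^ m * (s * a ^ k) = a ^ m * (j : A) := hm
      have h1 : s = a ^ m * (j : A) - (a ^ (m + k) - 1) * s := by
        rw [← hm', pow_add]; ring
      rw [h1]
      exact J.sub_mem (J.mul_mem_left _ j.2) (J.mul_mem_right _ (hpow _))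
  exact ⟨(Ideal.quotientEquivAlgOfEq R hker).trans (Ideal.quotientKerAlgEquivOfSurjective hsurj)⟩

theorem exists_local (R : Type u) [CommRing R] (I : Ideal R) (Sb : Type u) [CommRing Sb]
    [Algebra R Sb] [Algebra (R ⧸ I) Sb] [IsScalarTower R (R ⧸ I) Sb]
    (h : Synt.IsSyntomic (R ⧸ I) Sb) (q : Ideal Sb) [q.IsPrime] :
    ∃ g : Sb, g ∉ q ∧ ∃ (n c : ℕ) (F : Fin c → MvPolynomial (Fin n) R), Synt.IsRelGCI R n c F ∧
        Nonempty (Localization.Away g ≃ₐ[R]
          (Synt.RelGCIRing R n c F ⧸ I.map (algebraMap R (Synt.RelGCIRing R n c F)))) := by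
  obtain ⟨g, hg, N, K, G, hG, ⟨e⟩⟩ := SyntRelGCI.exists_relGCI_away (R ⧸ I) Sb h q
  have hex : ∀ i, ∃ Fi : MvPolynomial (Fin N) R,
      MvPolynomial.map (Ideal.Quotient.mk I) Fi = G i :=
    fun i => MvPolynomial.map_surjective _ Ideal.Quotient.mk_surjective (G i)
  choose F hF using hex
  obtain rfl : G = fun i => MvPolynomial.map (Ideal.Quotient.mk I) (F i) := (funext hF).symm
  obtain ⟨hh, h1, hrel, ⟨e2⟩⟩ := RelGCIQuot.main9172 R N K F I hG
  refine ⟨g, hg, N + 1, K + 1, _, hrel, ?_⟩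
  let qm : RelGCIRing R N K F →ₐ[R]
      RelGCIRing (R ⧸ I) N K (fun i => MvPolynomial.map (Ideal.Quotient.mk I) (F i)) :=
    { RelGCIQuot.quotMap R N K F I with
      commutes' := fun a => by
        show RelGCIQuot.quotMap R N K F I (algebraMap R _ a) = _
        rw [RelGCIQuot.quotMap_algebraMap]
        exact (IsScalarTower.algebraMap_apply R (R ⧸ I) _ a).symm }
  have hqm : ∀ s, qm s = RelGCIQuot.quotMap R N K F I s := fun s => rfl
  have hqms : Function.Surjective qm := RelGCIQuot.quotMap_surjective R N K F I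
  have hqmk : I.map (algebraMap R (RelGCIRing R N K F)) = RingHom.ker qm := by
    apply le_antisymm
    · rw [Ideal.map_le_iff_le_comap]
      intro a ha
      rw [Ideal.mem_comap, RingHom.mem_ker, hqm, RelGCIQuot.quotMap_algebraMap,
        Ideal.Quotient.eq_zero_iff_mem.mpr ha, map_zero]
    · intro s hs
      apply RelGCIQuot.ker_quotMap_le R N K F I
      rw [RingHom.mem_ker] at hs ⊢
      rw [← hqm]; exact hs
  let eb : (RelGCIRing R N K F ⧸ I.map (algebraMap R (RelGCIRing R N K F))) ≃ₐ[R]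
      RelGCIRing (R ⧸ I) N K (fun i => MvPolynomial.map (Ideal.Quotient.mk I) (F i)) :=
    (Ideal.quotientEquivAlgOfEq R hqmk).trans (Ideal.quotientKerAlgEquivOfSurjective hqms)
  have h1' : Ideal.Quotient.mk (Ideal.span (Set.range F)) hh - 1 ∈
      I.map (algebraMap R (RelGCIRing R N K F)) := by
    rw [← Ideal.Quotient.eq_zero_iff_mem, map_sub, h1, map_one, sub_self]
  obtain ⟨ec⟩ := exists_quot_away_equiv (R := R) (A := RelGCIRing R N K F)
    (B := Localization.Away (Ideal.Quotient.mk (Ideal.span (Set.range F)) hh))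
    (Ideal.Quotient.mk (Ideal.span (Set.range F)) hh)
    (I.map (algebraMap R (RelGCIRing R N K F))) h1'
  have hmapI : I.map (algebraMap R (RelGCIRing R (N + 1) (K + 1)
        (Fin.snoc (fun i => rename Fin.castSucc (F i))
          (rename Fin.castSucc hh * X (Fin.last N) - 1)))) =
      ((I.map (algebraMap R (RelGCIRing R N K F))).map
        (algebraMap (RelGCIRing R N K F)
          (Localization.Away (Ideal.Quotient.mk (Ideal.span (Set.range F)) hh)))).map
        (e2 : Localization.Away (Ideal.Quotient.mk (Ideal.span (Set.range F)) hh) →+* _) := by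
    rw [Ideal.map_map, Ideal.map_map]
    congr 1
    ext a
    rw [RingHom.comp_apply, RingHom.comp_apply, ← IsScalarTower.algebraMap_apply R
      (RelGCIRing R N K F) (Localization.Away (Ideal.Quotient.mk (Ideal.span (Set.range F)) hh))]
    exact (e2.commutes a).symm
  let ed := Ideal.quotientEquivAlg _ _ e2 hmapI
  exact ⟨((e.restrictScalars R).trans eb.symm).trans (ec.trans ed)⟩

theorem main (R : Type u) [CommRing R] (I : Ideal R) (Sb : Type u) [CommRing Sb]
    [Algebra R Sb] [Algebra (R ⧸ I) Sb] [IsScalarTower R (R ⧸ I) Sb]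
    (h : Synt.IsSyntomic (R ⧸ I) Sb) :
    ∃ s : Finset Sb, Ideal.span (s : Set Sb) = ⊤ ∧ ∀ g ∈ s,
      ∃ (n c : ℕ) (F : Fin c → MvPolynomial (Fin n) R), Synt.IsRelGCI R n c F ∧
        Nonempty (Localization.Away g ≃ₐ[R]
          (Synt.RelGCIRing R n c F ⧸ I.map (algebraMap R (Synt.RelGCIRing R n c F)))) := by
  classical
  obtain ⟨𝒢, h𝒢⟩ : ∃ 𝒢 : Set Sb, 𝒢 = {g | ∃ (n c : ℕ) (F : Fin c → MvPolynomial (Fin n) R),
      Synt.IsRelGCI R n c F ∧ Nonempty (Localization.Away g ≃ₐ[R]
        (Synt.RelGCIRing R n c F ⧸ I.map (algebraMap R (Synt.RelGCIRing R n c F))))} := ⟨_, rfl⟩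
  have hspan : Ideal.span 𝒢 = ⊤ := by
    by_contra hne
    obtain ⟨M, hM, hle⟩ := Ideal.exists_le_maximal _ hne
    haveI := hM.isPrime
    obtain ⟨g, hg, hg'⟩ := exists_local R I Sb h M
    refine hg (hle (Ideal.subset_span ?_))
    rw [h𝒢]; exact hg'
  obtain ⟨s, hs, hs'⟩ := (Ideal.span_eq_top_iff_finite _).mp hspan
  refine ⟨s, hs', fun g hg => ?_⟩
  have := hs hg
  rw [h𝒢] at this
  exact this

end Groth.Agent.Lib.Helper22.SyntQuotLift
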