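/-
Helper22 library: base change of `T¹ = Ext¹(Ω_{P/A}, P)` along a closed embedding of the base, for
a flat local complete intersection algebra with generically smooth fibres over a Noetherian ring.
-/
import Mathlib
import Groth.Prelude.Def_LCI2
import Groth.Agent.Lib.Helper22.H1Ass
import Groth.Agent.Lib.Helper22.ExtOne
import Groth.Agent.Lib.Helper4.FlatFibre
import Groth.Agent.Lib.Helper19.KRegCot

set_option autoImplicit false
universe u
open TensorProduct IsLocalRing CategoryTheory

namespace Groth.Agent.Lib.Helper22.T1BC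

/-- local step: for a flat local homomorphism `B' → C'` of Noetherian local rings and an ideal `I`
of `B'` such that the maximal ideal of `C'` is the annihilator of an element of `C'/IC'`, the
closed fibre has depth `0`. -/
theorem depth_fibre_eq_zero {B' C' : Type u} [CommRing B'] [CommRing C'] [IsLocalRing B']
    [IsLocalRing C'] [IsNoetherianRing B'] [IsNoetherianRing C'] [Algebra B' C']
    [IsLocalHom (algebraMap B' C')] [Module.Flat B' C'] (I : Ideal B') (x' : C')
    (hx' : ∀ y : C', y ∈ maximalIdeal C' ↔ y * x' ∈ I.map (algebraMap B' C'))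
    (K : Ideal C') (hK : K = (maximalIdeal B').map (algebraMap B' C')) [IsLocalRing (C' ⧸ K)] :
    LocCoh.depth (C' ⧸ K) (C' ⧸ K) = 0 := by
  have hJle : I.map (algebraMap B' C') ≤ maximalIdeal C' := fun y hy =>
    (hx' y).mpr (Ideal.mul_mem_right _ _ hy)
  have hJne : I.map (algebraMap B' C') ≠ ⊤ := fun h =>
    (IsLocalRing.maximalIdeal.isMaximal C').ne_top (top_le_iff.mp (h ▸ hJle))
  have hIne : I ≠ ⊤ := fun h => hJne (by rw [h, Ideal.map_top])
  haveI : Nontrivial (B' ⧸ I) := Ideal.Quotient.nontrivial_iff.mpr hIne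
  haveI : IsLocalRing (B' ⧸ I) :=
    IsLocalRing.of_surjective' (Ideal.Quotient.mk I) Ideal.Quotient.mk_surjective
  haveI : Nontrivial (C' ⧸ I.map (algebraMap B' C')) := Ideal.Quotient.nontrivial_iff.mpr hJne
  haveI : IsLocalRing (C' ⧸ I.map (algebraMap B' C')) :=
    IsLocalRing.of_surjective' (Ideal.Quotient.mk _) Ideal.Quotient.mk_surjective
  have hm : maximalIdeal (C' ⧸ I.map (algebraMap B' C')) ∈
      associatedPrimes (C' ⧸ I.map (algebraMap B' C')) (C' ⧸ I.map (algebraMap B' C')) := by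
    rw [AssociatedPrimes.mem_iff, isAssociatedPrime_iff]
    refine ⟨inferInstance, Ideal.Quotient.mk _ x', ?_⟩
    ext yb
    obtain ⟨y, rfl⟩ := Ideal.Quotient.mk_surjective yb
    rw [Submodule.mem_colon_singleton, Submodule.mem_bot, smul_eq_mul, ← map_mul,
      Ideal.Quotient.eq_zero_iff_mem, ← hx' y,
      ← IsLocalRing.map_maximalIdeal_of_surjective
        (Ideal.Quotient.mk (I.map (algebraMap B' C'))) Ideal.Quotient.mk_surjective,
      Ideal.mem_quotient_iff_mem hJle]
  have hd0 := Groth.Agent.Lib.Helper4.depth_eq_zero_iff_maximalIdeal_mem_associatedPrimes.mpr hm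
  obtain ⟨hdep, -⟩ := Groth.Agent.Lib.Helper4.FlatFibre.trans_local I
    (I.map (algebraMap B' C')) K rfl hK
  rw [hd0] at hdep
  exact (add_eq_zero.mp hdep.symm).2

/-- over a flat algebra with Cohen–Macaulay fibres, an associated prime of `P/JP` is a generic point
of its fibre. -/
theorem fibre_minimal {A P : Type u} [CommRing A] [CommRing P] [Algebra A P]
    [IsNoetherianRing A] [IsNoetherianRing P] [Module.Flat A P]
    (hcm : ∀ (p : Ideal A) [p.IsPrime], LocCoh.IsCohenMacaulayRing (p.Fiber P))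
    (J : Ideal A) (𝔔 : Ideal P) [h𝔔 : 𝔔.IsPrime] (x : P)
    (hx : ∀ c : P, c ∈ 𝔔 ↔ c * x ∈ J.map (algebraMap A P))
    (𝔔' : Ideal P) [𝔔'.IsPrime] (hle : 𝔔' ≤ 𝔔)
    (hc : 𝔔'.comap (algebraMap A P) = 𝔔.comap (algebraMap A P)) : 𝔔' = 𝔔 := by
  haveI : (𝔔.comap (algebraMap A P)).IsPrime := Ideal.IsPrime.comap _
  haveI : (𝔔'.comap (algebraMap A P)).IsPrime := Ideal.IsPrime.comap _
  haveI : 𝔔.LiesOver (𝔔.comap (algebraMap A P)) := ⟨rfl⟩
  letI := Localization.AtPrime.algebraOfLiesOver (𝔔.comap (algebraMap A P)) 𝔔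
  haveI : IsLocalHom (algebraMap (Localization.AtPrime (𝔔.comap (algebraMap A P)))
      (Localization.AtPrime 𝔔)) :=
    Localization.isLocalHom_localRingHom (𝔔.comap (algebraMap A P)) 𝔔 (algebraMap A P)
      Ideal.LiesOver.over
  haveI : IsNoetherianRing (Localization.AtPrime 𝔔) :=
    IsLocalization.isNoetherianRing 𝔔.primeCompl _ inferInstance
  haveI : IsNoetherianRing (Localization.AtPrime (𝔔.comap (algebraMap A P))) :=
    IsLocalization.isNoetherianRing (𝔔.comap (algebraMap A P)).primeCompl _ inferInstance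
  have hstower : (algebraMap (Localization.AtPrime (𝔔.comap (algebraMap A P)))
        (Localization.AtPrime 𝔔)).comp
      (algebraMap A (Localization.AtPrime (𝔔.comap (algebraMap A P)))) =
      (algebraMap P (Localization.AtPrime 𝔔)).comp (algebraMap A P) := by
    rw [← IsScalarTower.algebraMap_eq, ← IsScalarTower.algebraMap_eq]
  have hJC : (J.map (algebraMap A (Localization.AtPrime (𝔔.comap (algebraMap A P))))).map
      (algebraMap (Localization.AtPrime (𝔔.comap (algebraMap A P))) (Localization.AtPrime 𝔔)) =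
      (J.map (algebraMap A P)).map (algebraMap P (Localization.AtPrime 𝔔)) := by
    rw [Ideal.map_map, Ideal.map_map, hstower]
  have hx' : ∀ y : Localization.AtPrime 𝔔, y ∈ maximalIdeal (Localization.AtPrime 𝔔) ↔
      y * algebraMap P (Localization.AtPrime 𝔔) x ∈
        (J.map (algebraMap A (Localization.AtPrime (𝔔.comap (algebraMap A P))))).map
          (algebraMap (Localization.AtPrime (𝔔.comap (algebraMap A P)))
            (Localization.AtPrime 𝔔)) := by
    intro y
    rw [hJC]
    obtain ⟨⟨c, s⟩, rfl⟩ := IsLocalization.mk'_surjective 𝔔.primeCompl y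
    rw [IsLocalization.AtPrime.mk'_mem_maximal_iff (Localization.AtPrime 𝔔) 𝔔 c s,
      IsLocalization.mem_map_algebraMap_iff 𝔔.primeCompl (Localization.AtPrime 𝔔)]
    constructor
    · intro hcQ
      refine ⟨(⟨c * x, (hx c).mp hcQ⟩, s), ?_⟩
      show IsLocalization.mk' (Localization.AtPrime 𝔔) c s *
        algebraMap P (Localization.AtPrime 𝔔) x * algebraMap P (Localization.AtPrime 𝔔) s =
        algebraMap P (Localization.AtPrime 𝔔) (c * x)
      rw [mul_right_comm, IsLocalization.mk'_spec, map_mul]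
    · rintro ⟨⟨⟨a, ha⟩, t⟩, hat⟩
      replace hat : IsLocalization.mk' (Localization.AtPrime 𝔔) c s *
        algebraMap P (Localization.AtPrime 𝔔) x * algebraMap P (Localization.AtPrime 𝔔) t =
        algebraMap P (Localization.AtPrime 𝔔) a := hat
      have h1 : algebraMap P (Localization.AtPrime 𝔔) (c * x * t) =
          algebraMap P (Localization.AtPrime 𝔔) (a * s) := by
        rw [map_mul, map_mul, map_mul, ← hat,
          ← IsLocalization.mk'_spec (Localization.AtPrime 𝔔) c s]
        ring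
      obtain ⟨t', ht'⟩ :=
        (IsLocalization.eq_iff_exists 𝔔.primeCompl (Localization.AtPrime 𝔔)).mp h1
      have h2 : ((t' : P) * t * c) * x ∈ J.map (algebraMap A P) := by
        have h3 : ((t' : P) * t * c) * x = t' * (a * s) := by rw [← ht']; ring
        rw [h3]
        exact Ideal.mul_mem_left _ _ (Ideal.mul_mem_right _ _ ha)
      have h4 := (hx _).mpr h2
      rcases h𝔔.mem_or_mem h4 with h5 | h5
      · rcases h𝔔.mem_or_mem h5 with h6 | h6
        · exact absurd h6 t'.2
        · exact absurd h6 t.2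
      · exact h5
  have hK : (𝔔.comap (algebraMap A P)).map (algebraMap A (Localization.AtPrime 𝔔)) =
      (maximalIdeal (Localization.AtPrime (𝔔.comap (algebraMap A P)))).map
        (algebraMap (Localization.AtPrime (𝔔.comap (algebraMap A P)))
          (Localization.AtPrime 𝔔)) := by
    rw [← Localization.AtPrime.map_eq_maximalIdeal, Ideal.map_map,
      ← IsScalarTower.algebraMap_eq]
  have hfib0 : LocCoh.depth (EGA4.FibLocRing A P 𝔔) (EGA4.FibLocRing A P 𝔔) = 0 :=
    depth_fibre_eq_zero
      (J.map (algebraMap A (Localization.AtPrime (𝔔.comap (algebraMap A P)))))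
      (algebraMap P (Localization.AtPrime 𝔔) x) hx' _ hK
  obtain ⟨-, hdepth, -⟩ := Groth.Agent.Lib.Helper4.FlatRing.exists_local_data A P 𝔔
  obtain ⟨c, -, hht, hdep⟩ :=
    Groth.Agent.Lib.Helper14.CMFieldBC.local_formulas_of_cm_fibre A P 𝔔 (hcm _)
  obtain ⟨c', -, hht', -⟩ :=
    Groth.Agent.Lib.Helper14.CMFieldBC.local_formulas_of_cm_fibre A P 𝔔' (hcm _)
  rw [hfib0, add_zero] at hdepth
  have hfin : LocCoh.depth (Localization.AtPrime (𝔔.comap (algebraMap A P)))
      (Localization.AtPrime (𝔔.comap (algebraMap A P))) ≠ ⊤ :=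
    ne_top_of_le_ne_top Ideal.height_ne_top_of_isPrime
      Groth.Agent.Lib.Helper4.FlatRing.depth_self_le_height
  have hc0 : c = 0 := by
    rw [hdepth] at hdep
    exact (ENat.add_right_injective_of_ne_top hfin
      (show _ + c = _ + 0 by rw [add_zero]; exact hdep.symm))
  rw [hc0, add_zero] at hht
  by_contra hne
  have hlt : 𝔔' < 𝔔 := lt_of_le_of_ne hle hne
  have h1 := Ideal.height_add_one_le_of_lt_of_isPrime hlt
  rw [hht, hht', hc] at h1
  have hfin' : (𝔔.comap (algebraMap A P)).height ≠ ⊤ := Ideal.height_ne_top_of_isPrime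
  have h2 : (𝔔.comap (algebraMap A P)).height + 1 ≤ (𝔔.comap (algebraMap A P)).height :=
    le_trans (add_le_add_left le_self_add 1) h1
  exact lt_irrefl _ ((ENat.add_one_le_iff hfin').mp h2)

/-- the base change to `P/JP` of an injective map of finite projective modules whose cokernel is
projective at all generic points of fibres is injective (flat algebra with CM fibres). -/
theorem baseChange_injective {A P : Type u} [CommRing A] [CommRing P] [Algebra A P]
    [IsNoetherianRing A] [IsNoetherianRing P] [Module.Flat A P]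
    (hcm : ∀ (p : Ideal A) [p.IsPrime], LocCoh.IsCohenMacaulayRing (p.Fiber P))
    (J : Ideal A) {N F M : Type u} [AddCommGroup N] [Module P N] [AddCommGroup F] [Module P F]
    [AddCommGroup M] [Module P M] [Module.Finite P N] [Module.Projective P N]
    [Module.Finite P M] (u : N →ₗ[P] F) (π : F →ₗ[P] M) (hu : Function.Injective u)
    (hπ : Function.Surjective π) (hex : Function.Exact u π)
    (hfree : ∀ 𝔔 : PrimeSpectrum P,
      (∀ 𝔔' : PrimeSpectrum P, 𝔔' ≤ 𝔔 →
          𝔔'.asIdeal.comap (algebraMap A P) = 𝔔.asIdeal.comap (algebraMap A P) → 𝔔' = 𝔔) →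
        Module.Projective (Localization.AtPrime 𝔔.asIdeal)
          (LocalizedModule 𝔔.asIdeal.primeCompl M)) :
    Function.Injective (u.baseChange (P ⧸ J.map (algebraMap A P))) := by
  rw [← LinearMap.ker_eq_bot]
  by_contra hne
  haveI : Nontrivial (LinearMap.ker (u.baseChange (P ⧸ J.map (algebraMap A P)))) :=
    Submodule.nontrivial_iff_ne_bot.mpr hne
  obtain ⟨𝔔, h𝔔⟩ := associatedPrimes.nonempty (P ⧸ J.map (algebraMap A P))
    (LinearMap.ker (u.baseChange (P ⧸ J.map (algebraMap A P))))
  haveI h𝔔p : 𝔔.IsPrime := h𝔔.isPrime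
  have h𝔔' := h𝔔
  rw [AssociatedPrimes.mem_iff, isAssociatedPrime_iff] at h𝔔'
  obtain ⟨-, z, hz⟩ := h𝔔'
  have h1 : 𝔔 ∈ associatedPrimes (P ⧸ J.map (algebraMap A P))
      ((P ⧸ J.map (algebraMap A P)) ⊗[P] N) :=
    associatedPrimes.subset_of_injective
      (f := (LinearMap.ker (u.baseChange (P ⧸ J.map (algebraMap A P)))).subtype)
      Subtype.val_injective h𝔔
  obtain ⟨m, f, g, -, hg, -⟩ := Module.Finite.exists_comp_eq_id_of_projective
    (P ⧸ J.map (algebraMap A P)) ((P ⧸ J.map (algebraMap A P)) ⊗[P] N)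
  have h2 : 𝔔 ∈ associatedPrimes (P ⧸ J.map (algebraMap A P))
      (Fin m → (P ⧸ J.map (algebraMap A P))) :=
    associatedPrimes.subset_of_injective (f := g) hg h1
  have h3 : 𝔔 ∈ associatedPrimes (P ⧸ J.map (algebraMap A P)) (P ⧸ J.map (algebraMap A P)) :=
    Groth.Agent.Lib.Helper22.H1Ass.ass_self_of_ass_pi h2
  rw [AssociatedPrimes.mem_iff, isAssociatedPrime_iff] at h3
  obtain ⟨-, xb, hxb⟩ := h3
  obtain ⟨x, rfl⟩ := Ideal.Quotient.mk_surjective xb
  haveI h𝔔₀ : (𝔔.comap (Ideal.Quotient.mk (J.map (algebraMap A P)))).IsPrime :=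
    Ideal.IsPrime.comap _
  have hx : ∀ c : P, c ∈ 𝔔.comap (Ideal.Quotient.mk (J.map (algebraMap A P))) ↔
      c * x ∈ J.map (algebraMap A P) := by
    intro c
    rw [Ideal.mem_comap, hxb, Submodule.mem_colon_singleton, Submodule.mem_bot, smul_eq_mul,
      ← map_mul, Ideal.Quotient.eq_zero_iff_mem]
  have hmin : ∀ 𝔔' : PrimeSpectrum P,
      𝔔' ≤ ⟨𝔔.comap (Ideal.Quotient.mk (J.map (algebraMap A P))), h𝔔₀⟩ →
      𝔔'.asIdeal.comap (algebraMap A P) =
        (𝔔.comap (Ideal.Quotient.mk (J.map (algebraMap A P)))).comap (algebraMap A P) →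
      𝔔' = ⟨𝔔.comap (Ideal.Quotient.mk (J.map (algebraMap A P))), h𝔔₀⟩ := by
    intro 𝔔' hle hc
    apply PrimeSpectrum.ext
    exact fibre_minimal hcm J _ x hx 𝔔'.asIdeal hle hc
  haveI := hfree ⟨𝔔.comap (Ideal.Quotient.mk (J.map (algebraMap A P))), h𝔔₀⟩ hmin
  haveI : Module.FinitePresentation P M := Module.finitePresentation_of_finite P M
  obtain ⟨s, hs, σ, hσ⟩ := Groth.Agent.Lib.Helper22.ExtOne.exists_section
    (𝔔.comap (Ideal.Quotient.mk (J.map (algebraMap A P)))).primeCompl π hπ
  obtain ⟨ρ, hρ⟩ := Groth.Agent.Lib.Helper22.ExtOne.exists_retraction u π hu hex s σ hσ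
  have h5 : (ρ.baseChange (P ⧸ J.map (algebraMap A P)))
      ((u.baseChange (P ⧸ J.map (algebraMap A P))) z.1) =
      (Ideal.Quotient.mk (J.map (algebraMap A P)) s) • z.1 := by
    rw [← LinearMap.comp_apply, ← LinearMap.baseChange_comp, hρ, LinearMap.baseChange_smul,
      LinearMap.baseChange_id, LinearMap.smul_apply, LinearMap.id_apply]
    exact (algebraMap_smul (P ⧸ J.map (algebraMap A P)) s z.1).symm
  have h4 : (Ideal.Quotient.mk (J.map (algebraMap A P)) s) • z = 0 := by
    apply Subtype.ext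
    show (Ideal.Quotient.mk (J.map (algebraMap A P)) s) • z.1 = 0
    rw [← h5, LinearMap.mem_ker.mp z.2, map_zero]
  have h6 : Ideal.Quotient.mk (J.map (algebraMap A P)) s ∈ 𝔔 := by
    rw [hz, Submodule.mem_colon_singleton, Submodule.mem_bot]
    exact h4
  exact hs h6

/-- **Base change of `T¹`** for a flat lci algebra with generically smooth fibres over a
Noetherian ring, along `A → A/J`. -/
theorem main {A P : Type u} [CommRing A] [CommRing P] [Algebra A P] [IsNoetherianRing A]
    [Module.Flat A P] (hlci : LCI.IsLCI A P)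
    (hgs : ∀ 𝔓 : PrimeSpectrum P,
      (∀ 𝔔 : PrimeSpectrum P, 𝔔 ≤ 𝔓 →
          𝔔.asIdeal.comap (algebraMap A P) = 𝔓.asIdeal.comap (algebraMap A P) → 𝔔 = 𝔓) →
        𝔓 ∈ Algebra.smoothLocus A P)
    (J : Ideal A) :
    Nonempty
      ((P ⧸ J.map (algebraMap A P)) ⊗[P]
          Abelian.Ext.{u} (ModuleCat.of P (KaehlerDifferential A P)) (ModuleCat.of P P) 1
            ≃ₗ[P ⧸ J.map (algebraMap A P)]
        Abelian.Ext.{u}
          (ModuleCat.of (P ⧸ J.map (algebraMap A P))
            (KaehlerDifferential A (P ⧸ J.map (algebraMap A P))))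
          (ModuleCat.of (P ⧸ J.map (algebraMap A P)) (P ⧸ J.map (algebraMap A P))) 1) := by
  have hH1 : Subsingleton (Algebra.H1Cotangent A P) :=
    Groth.Agent.Lib.Helper22.H1Ass.main hlci hgs
  obtain ⟨hft, n, f, hf, hK⟩ := hlci
  haveI := hft
  haveI : IsNoetherianRing P := Algebra.FiniteType.isNoetherianRing A P
  haveI : Algebra.FinitePresentation A P := Algebra.FinitePresentation.of_finiteType.mp hft
  have hcm : ∀ (p : Ideal A) [p.IsPrime], LocCoh.IsCohenMacaulayRing (p.Fiber P) :=
    fun p _ => Groth.Agent.Lib.Helper22.H1Ass.cm_fiber_of_flat_lci f hf hK p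
  obtain ⟨E, hE⟩ : ∃ E : Algebra.Extension.{u} A P, E = Algebra.Extension.ofSurjective f hf :=
    ⟨_, rfl⟩
  have hEker : LCI.IsKoszulRegularIdeal E.ker := by
    subst hE
    exact hK
  haveI : Algebra.FormallySmooth A E.Ring := by
    subst hE
    exact inferInstanceAs (Algebra.FormallySmooth A (MvPolynomial (Fin n) A))
  obtain ⟨hNfin, hNproj⟩ :=
    Groth.Agent.Lib.Helper19.KRegCot.extension_cotangent_finite_projective E hEker
  haveI := hNfin
  haveI := hNproj
  have hu : Function.Injective E.cotangentComplex := by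
    rw [← LinearMap.ker_eq_bot]
    have h0 : Subsingleton E.H1Cotangent :=
      E.equivH1CotangentOfFormallySmooth.injective.subsingleton
    haveI : Subsingleton ↥(LinearMap.ker E.cotangentComplex) := h0
    exact Submodule.eq_bot_of_subsingleton
  have hπ : Function.Surjective E.toKaehler := E.toKaehler_surjective
  have hex : Function.Exact E.cotangentComplex E.toKaehler := E.exact_cotangentComplex_toKaehler
  have hfree : ∀ 𝔔 : PrimeSpectrum P,
      (∀ 𝔔' : PrimeSpectrum P, 𝔔' ≤ 𝔔 →
          𝔔'.asIdeal.comap (algebraMap A P) = 𝔔.asIdeal.comap (algebraMap A P) → 𝔔' = 𝔔) →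
        Module.Projective (Localization.AtPrime 𝔔.asIdeal)
          (LocalizedModule 𝔔.asIdeal.primeCompl (KaehlerDifferential A P)) := by
    intro 𝔔 hmin
    have h2 := hgs 𝔔 hmin
    rw [Algebra.smoothLocus_eq_compl_support_inter] at h2
    haveI : Module.Free (Localization.AtPrime 𝔔.asIdeal)
        (LocalizedModule 𝔔.asIdeal.primeCompl (KaehlerDifferential A P)) :=
      Module.mem_freeLocus.mp h2.2
    exact Module.Projective.of_free
  have hu' : Function.Injective (E.cotangentComplex.baseChange (P ⧸ J.map (algebraMap A P))) :=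
    baseChange_injective hcm J E.cotangentComplex E.toKaehler hu hπ hex hfree
  have hbij := Groth.Agent.Lib.Helper22.ExtOne.mapBaseChange_bijective (A := A) (P := P) J
  have hexbc : Function.Exact (E.cotangentComplex.baseChange (P ⧸ J.map (algebraMap A P)))
      (E.toKaehler.baseChange (P ⧸ J.map (algebraMap A P))) := by
    have h := lTensor_exact (P ⧸ J.map (algebraMap A P)) hex hπ
    intro y
    exact h y
  have hπbc : Function.Surjective (E.toKaehler.baseChange (P ⧸ J.map (algebraMap A P))) :=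
    LinearMap.lTensor_surjective _ hπ
  obtain ⟨π', hπ'def⟩ : ∃ π' : (P ⧸ J.map (algebraMap A P)) ⊗[P] E.CotangentSpace
      →ₗ[P ⧸ J.map (algebraMap A P)] KaehlerDifferential A (P ⧸ J.map (algebraMap A P)),
      π' = (KaehlerDifferential.mapBaseChange A P (P ⧸ J.map (algebraMap A P))) ∘ₗ
        (E.toKaehler.baseChange (P ⧸ J.map (algebraMap A P))) := ⟨_, rfl⟩
  have hπ' : Function.Surjective π' := by
    rw [hπ'def]
    exact hbij.2.comp hπbc
  have hex' : Function.Exact (E.cotangentComplex.baseChange (P ⧸ J.map (algebraMap A P))) π' := by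
    intro y
    rw [hπ'def, LinearMap.comp_apply, ← hexbc y]
    constructor
    · intro h
      exact hbij.1 (h.trans (map_zero _).symm)
    · intro h
      rw [h, map_zero]
  obtain ⟨δ, hδ, hδk⟩ := Groth.Agent.Lib.Helper22.ExtOne.exists_connecting (G := P)
    E.cotangentComplex E.toKaehler hu hπ hex
  obtain ⟨δ', hδ', hδ'k⟩ := Groth.Agent.Lib.Helper22.ExtOne.exists_connecting
    (R := P ⧸ J.map (algebraMap A P)) (G := P ⧸ J.map (algebraMap A P))
    (E.cotangentComplex.baseChange (P ⧸ J.map (algebraMap A P))) π' hu' hπ' hex'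
  letI : Module P (Abelian.Ext.{u}
      (ModuleCat.of (P ⧸ J.map (algebraMap A P))
        (KaehlerDifferential A (P ⧸ J.map (algebraMap A P))))
      (ModuleCat.of (P ⧸ J.map (algebraMap A P)) (P ⧸ J.map (algebraMap A P))) 1) :=
    Module.compHom _ (algebraMap P (P ⧸ J.map (algebraMap A P)))
  haveI : IsScalarTower P (P ⧸ J.map (algebraMap A P)) (Abelian.Ext.{u}
      (ModuleCat.of (P ⧸ J.map (algebraMap A P))
        (KaehlerDifferential A (P ⧸ J.map (algebraMap A P))))
      (ModuleCat.of (P ⧸ J.map (algebraMap A P)) (P ⧸ J.map (algebraMap A P))) 1) :=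
    ⟨fun r s x => by
      show (r • s) • x = algebraMap P (P ⧸ J.map (algebraMap A P)) r • (s • x)
      rw [Algebra.smul_def, mul_smul]⟩
  exact Groth.Agent.Lib.Helper22.ExtOne.bc_abs (J.map (algebraMap A P)) E.cotangentComplex
    δ hδ hδk δ' hδ' hδ'k

end Groth.Agent.Lib.Helper22.T1BC
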