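import Mathlib
import Groth.Agent.Lib.Helper22.TFCurv19
import Groth.Agent.Lib.Helper4.LD1

/-!
# `Ext¹(M, M)` for an overring `M` of a Gorenstein curve singularity
-/

set_option autoImplicit false
set_option linter.style.haveILetI false
set_option linter.unusedSectionVars false
set_option linter.overlappingInstances false

namespace Groth.Agent.Lib.Helper22.TFCurv

open Function IsLocalRing CategoryTheory Abelian Groth.Agent.Lib.Helper4.LC

universe u

variable {O : Type u} [CommRing O] [IsDomain O] [IsNoetherianRing O] [IsLocalRing O]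
  (K : Type u) [Field K] [Algebra O K] [IsFractionRing O K]

/-- the isomorphism in `ModuleCat` attached to a linear equivalence. -/
noncomputable def isoOfEquiv (X Y : Type u) [AddCommGroup X] [Module O X] [AddCommGroup Y]
    [Module O Y] (e : X ≃ₗ[O] Y) : ModuleCat.of O X ≅ ModuleCat.of O Y := e.toModuleIso

theorem hasInjectiveDimensionLT_one [hG : LocCoh.IsGorensteinLocalRing O]
    (hdim : ringKrullDim O = 1) :
    HasInjectiveDimensionLT (ModuleCat.of O O) 2 ∧
      HasInjectiveDimensionLT (ModuleCat.of O ↥(1 : Submodule O K)) 2 := by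
  haveI : LocCoh.IsGorensteinRing O :=
    { isGorensteinLocalRing_localization := fun p _ =>
        Groth.Agent.Lib.Helper4.StalkDual.gor_isGorensteinLocalRing_localization O p }
  have h1 : HasInjectiveDimensionLT (ModuleCat.of O O) 2 :=
    Groth.Agent.Lib.Helper4.LC.hasInjectiveDimensionLT_of_gorenstein inferInstance 1
      (by rw [hdim]; rfl)
  refine ⟨h1, ?_⟩
  haveI := h1
  exact hasInjectiveDimensionLT_of_iso
    (LinearEquiv.toModuleIso (oneEquiv (O := O) (K := K)).symm) 2

theorem overring_ext [hG : LocCoh.IsGorensteinLocalRing O] (hdim : ringKrullDim O = 1)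
    (hfin : Module.Finite O ↥(integralClosure O K)) (hinf : Infinite (O ⧸ maximalIdeal O))
    (Ms : Submodule O K) (h1M : (1 : K) ∈ Ms) (hmul : ∀ a ∈ Ms, ∀ b ∈ Ms, a * b ∈ Ms)
    (hM : Ms ≤ Subalgebra.toSubmodule (integralClosure O K)) :
    Nonempty (Ext.{u} (ModuleCat.of O ↥Ms) (ModuleCat.of O ↥Ms) 1 ≃+
      (↥((1 : Submodule O K) / Ms) →ₗ[O]
        (O ⧸ Submodule.comap (Algebra.linearMap O K) ((1 : Submodule O K) / Ms)))) := by
  obtain ⟨hO2, hω1inj⟩ := hasInjectiveDimensionLT_one K (O := O) hdim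
  haveI := hfin
  haveI hNoeth : IsNoetherian O ↥(Subalgebra.toSubmodule (integralClosure O K)) :=
    isNoetherian_of_isNoetherianRing_of_finite O ↥(integralClosure O K)
  have h1le : (1 : Submodule O K) ≤ Ms := Submodule.one_le.mpr h1M
  haveI : Module.Finite O ↥Ms :=
    Module.Finite.of_injective (Submodule.inclusion hM) (Submodule.inclusion_injective hM)
  haveI := noZeroSMulDivisors_submodule K Ms
  set I' : Submodule O K := (1 : Submodule O K) / Ms with hI'
  set I : Submodule O O := Submodule.comap (Algebra.linearMap O K) I' with hI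
  have hI'le : I' ≤ 1 := by
    intro u hu
    have := Submodule.mem_div_iff_forall_mul_mem.mp hu 1 h1M
    rwa [mul_one] at this
  haveI : Module.Finite O ↥(1 : Submodule O K) := Module.Finite.equiv (oneEquiv (K := K)).symm
  haveI : Module.Finite O ↥I' :=
    Module.Finite.of_injective (Submodule.inclusion hI'le) (Submodule.inclusion_injective hI'le)
  haveI := noZeroSMulDivisors_submodule K I'
  -- step 1: duality
  obtain ⟨ed⟩ := ext_duality_canonical K hdim hfin hinf (1 : Submodule O K)
    (by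
      intro h
      have : (1 : K) ∈ (⊥ : Submodule O K) := h ▸ Submodule.one_le.mp le_rfl
      exact one_ne_zero ((Submodule.mem_bot O).mp this))
    (Module.Finite.iff_fg.mp inferInstance) hω1inj ↥Ms ↥Ms 1
  -- step 2: `M* ≅ I'`
  have hφ : ∀ (φ : ↥Ms →ₗ[O] ↥(1 : Submodule O K)) (x : ↥Ms),
      (φ x : K) = (φ ⟨1, h1M⟩ : K) * (x : K) := by
    intro φ x
    have := hom_eq_mul Ms 1 one_ne_zero h1M 1 φ x
    rwa [div_one] at this
  let e₁f : (↥Ms →ₗ[O] ↥(1 : Submodule O K)) →ₗ[O] ↥I' :=
    { toFun := fun φ => ⟨(φ ⟨1, h1M⟩ : K), by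
        rw [hI', Submodule.mem_div_iff_forall_mul_mem]
        intro m hm
        rw [← hφ φ ⟨m, hm⟩]
        exact (φ ⟨m, hm⟩).2⟩
      map_add' := fun a b => rfl
      map_smul' := fun a b => rfl }
  have he₁ : Bijective e₁f := by
    constructor
    · rw [injective_iff_map_eq_zero]
      intro φ h0
      have h0' : (φ ⟨1, h1M⟩ : K) = 0 := congrArg Subtype.val h0
      apply LinearMap.ext
      intro x
      apply Subtype.ext
      rw [hφ φ x, h0', zero_mul]
      rfl
    · intro u
      have hu : ∀ y ∈ Ms, (LinearMap.mulLeft O (u : K)) y ∈ (1 : Submodule O K) := by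
        intro y hy
        exact Submodule.mem_div_iff_forall_mul_mem.mp u.2 y hy
      refine ⟨(LinearMap.mulLeft O (u : K)).restrict hu, ?_⟩
      apply Subtype.ext
      show (u : K) * 1 = u
      rw [mul_one]
  let e₁ : (↥Ms →ₗ[O] ↥(1 : Submodule O K)) ≃ₗ[O] ↥I' := LinearEquiv.ofBijective e₁f he₁
  -- step 3: `I ≅ I'`
  let e₂f : ↥I →ₗ[O] ↥I' := (Algebra.linearMap O K).restrict (fun x hx => hx)
  have he₂ : Bijective e₂f := by
    constructor
    · intro a b hab
      apply Subtype.ext
      exact IsFractionRing.injective O K (congrArg Subtype.val hab)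
    · intro u
      obtain ⟨r, hr⟩ := Submodule.mem_one.mp (hI'le u.2)
      refine ⟨⟨r, ?_⟩, Subtype.ext hr⟩
      show algebraMap O K r ∈ I'
      rw [hr]
      exact u.2
  let e₂ : ↥I ≃ₗ[O] ↥I' := LinearEquiv.ofBijective e₂f he₂
  -- step 4: transport
  let t1 := (extCongrLeft (isoOfEquiv (↥Ms →ₗ[O] ↥(1 : Submodule O K)) ↥I' e₁)
    (ModuleCat.of O (↥Ms →ₗ[O] ↥(1 : Submodule O K))) 1).toAddEquiv
  let t2 := (extCongrRight (ModuleCat.of O ↥I') (isoOfEquiv (↥Ms →ₗ[O] ↥(1 : Submodule O K)) ↥I (e₁.trans e₂.symm)) 1).toAddEquiv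
  -- step 5: the connecting map
  have hexI := LinearMap.exact_subtype_mkQ I
  have hjI : Injective I.subtype := Submodule.injective_subtype _
  have hpI : Surjective I.mkQ := Submodule.mkQ_surjective _
  obtain ⟨c, hc0, hcC⟩ := exists_mem_conductor K hfin
  have hcK : algebraMap O K c ≠ 0 :=
    (map_ne_zero_iff _ (IsFractionRing.injective O K)).mpr hc0
  have hcI' : algebraMap O K c ∈ I' := by
    rw [hI', Submodule.mem_div_iff_forall_mul_mem]
    intro m hm
    rw [← Algebra.smul_def]
    exact Submodule.mem_colon.mp hcC m (hM hm)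
  have hcM : algebraMap O K c ∈ Ms := h1le (Submodule.mem_one.mpr ⟨c, rfl⟩)
  have hrefl : (1 : Submodule O K) / I' = Ms :=
    div_div_eq K hdim hfin 1 le_rfl (h1le.trans hM) hω1inj c hc0 hcC Ms hcM hM
  have hδ : Bijective (deltaCov I.subtype I.mkQ hjI hpI hexI ↥I') := by
    constructor
    · rw [injective_iff_map_eq_zero]
      intro φ h0
      obtain ⟨ψ, rfl⟩ := (deltaCov_eq_zero_iff _ _ _ _ _ _ φ).mp h0
      apply LinearMap.ext
      intro y
      rw [LinearMap.comp_apply, LinearMap.zero_apply, Submodule.mkQ_apply,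
        Submodule.Quotient.mk_eq_zero]
      show algebraMap O K (ψ y) ∈ I'
      let ψ' : ↥I' →ₗ[O] ↥(1 : Submodule O K) := (oneEquiv (K := K)).symm.toLinearMap ∘ₗ ψ
      have hψ' : ∀ z : ↥I', (ψ' z : K) = algebraMap O K (ψ z) := by
        intro z
        rw [← algebraMap_oneEquiv (ψ' z)]
        simp [ψ']
      set u : K := (ψ' ⟨algebraMap O K c, hcI'⟩ : K) / algebraMap O K c with hu
      have hmul' : ∀ z : ↥I', (ψ' z : K) = u * (z : K) :=
        fun z => hom_eq_mul I' _ hcK hcI' 1 ψ' z
      have huM : u ∈ Ms := by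
        rw [← hrefl, Submodule.mem_div_iff_forall_mul_mem]
        intro z hz
        rw [← hmul' ⟨z, hz⟩]
        exact (ψ' ⟨z, hz⟩).2
      rw [← hψ' y, hmul' y]
      show u * (y : K) ∈ (1 : Submodule O K) / Ms
      rw [Submodule.mem_div_iff_forall_mul_mem]
      intro m hm
      have h3 : u * (y : K) * m = (y : K) * (u * m) := by ring
      rw [h3]
      exact Submodule.mem_div_iff_forall_mul_mem.mp y.2 _ (hmul u huM m hm)
    · haveI : NoZeroSMulDivisors O O := inferInstance
      exact deltaCov_surjective _ _ _ _ _ _ (ext_one_subsingleton_of_torsionFree O hO2 ↥I')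
  exact ⟨ed.trans (t1.trans (t2.trans (AddEquiv.ofBijective _ hδ).symm))⟩

end Groth.Agent.Lib.Helper22.TFCurv
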