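import Mathlib
import Groth.Agent.Lib.Helper22.TFCurv20

/-!
# Duality of lattices in `K^n` over a Gorenstein curve singularity
-/

set_option autoImplicit false
set_option linter.style.haveILetI false
set_option linter.unusedSectionVars false
set_option linter.overlappingInstances false

namespace Groth.Agent.Lib.Helper22.TFCurv

open Function IsLocalRing

universe u

variable {O : Type u} [CommRing O] [IsDomain O] [IsNoetherianRing O] [IsLocalRing O]
  {K : Type u} [Field K] [Algebra O K] [IsFractionRing O K] {n : ℕ}

/-- `P` contains `d O^n` and `d P ⊆ O^n`. -/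
structure IsLat (d : O) (P : Submodule O (Fin n → K)) : Prop where
  single_mem : ∀ i : Fin n, (Pi.single i (algebraMap O K d) : Fin n → K) ∈ P
  smul_mem_one : ∀ x ∈ P, ∀ i : Fin n, algebraMap O K d * x i ∈ (1 : Submodule O K)

theorem IsLat.dual {d : O} {P : Submodule O (Fin n → K)} (h : IsLat d P) :
    IsLat d (dualLattice P) where
  single_mem i := by
    intro x hx
    rw [dotProduct_single, mul_comm]
    exact h.smul_mem_one x hx i
  smul_mem_one y hy i := by
    have := hy _ (h.single_mem i)
    rwa [single_dotProduct] at this

theorem IsLat.of_le {d : O} {P L P' : Submodule O (Fin n → K)} (h : IsLat d P)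
    (h' : IsLat d P') (h1 : P ≤ L) (h2 : L ≤ P') : IsLat d L where
  single_mem i := h1 (h.single_mem i)
  smul_mem_one x hx i := h'.smul_mem_one x (h2 hx) i

theorem dualLattice_antitone {P P' : Submodule O (Fin n → K)} (h : P ≤ P') :
    dualLattice P' ≤ dualLattice P := fun _ hy x hx => hy x (h hx)

theorem le_dualLattice_dualLattice (P : Submodule O (Fin n → K)) :
    P ≤ dualLattice (dualLattice P) := by
  intro x hx y hy
  rw [dotProduct_comm]
  exact hy x hx

/-- the functional attached to a vector of the dual lattice is bijective for lattices. -/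
theorem dualFun_bijective' {d : O} (hd : d ≠ 0) {P : Submodule O (Fin n → K)} (h : IsLat d P) :
    Bijective (dualFun P) := by
  have hinjK := IsFractionRing.injective O K
  have hdK : algebraMap O K d ≠ 0 := (map_ne_zero_iff _ hinjK).mpr hd
  let e : Fin n → ↥P := fun i => ⟨Pi.single i (algebraMap O K d), h.single_mem i⟩
  constructor
  · rw [injective_iff_map_eq_zero]
    intro y hy
    apply Subtype.ext
    ext i
    have h1 := algebraMap_dualFun P y (e i)
    rw [hy, LinearMap.zero_apply, map_zero] at h1
    simp only [e, single_dotProduct] at h1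
    exact (mul_eq_zero.mp h1.symm).resolve_left hdK
  · intro φ
    set y : Fin n → K := fun i => algebraMap O K (φ (e i)) / algebraMap O K d with hy
    have key : ∀ x : ↥P, algebraMap O K (φ x) = (x : Fin n → K) ⬝ᵥ y := by
      intro x
      have hs' : ∀ i, ∃ r : O, algebraMap O K r = algebraMap O K d * (x : Fin n → K) i :=
        fun i => Submodule.mem_one.mp (h.smul_mem_one x x.2 i)
      choose r hr using hs'
      have h1 : (d * d) • x = ∑ i, r i • e i := by
        apply Subtype.ext
        ext j
        simp only [Submodule.coe_smul, Pi.smul_apply, Submodule.coe_sum, Finset.sum_apply, e,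
          Pi.single_apply, smul_ite, smul_zero]
        rw [Finset.sum_ite_eq]
        simp only [Finset.mem_univ, if_true]
        rw [Algebra.smul_def, Algebra.smul_def, hr j, map_mul]
        ring
      have h2 : (d * d) • φ x = ∑ i, r i • φ (e i) := by
        rw [← map_smul, h1, map_sum]
        simp only [map_smul]
      have h3 : algebraMap O K (d * d) * algebraMap O K (φ x) =
          algebraMap O K (d * d) * ((x : Fin n → K) ⬝ᵥ y) := by
        rw [← map_mul, ← smul_eq_mul, h2, map_sum, dotProduct, Finset.mul_sum]
        refine Finset.sum_congr rfl (fun i _ => ?_)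
        rw [smul_eq_mul, map_mul (algebraMap O K) (r i), hr i, hy, map_mul]
        field_simp
      have hdd : algebraMap O K (d * d) ≠ 0 := by
        rw [map_mul]
        exact mul_ne_zero hdK hdK
      exact mul_left_cancel₀ hdd h3
    have hymem : y ∈ dualLattice P := by
      intro x hx
      rw [← key ⟨x, hx⟩]
      exact Submodule.mem_one.mpr ⟨_, rfl⟩
    refine ⟨⟨y, hymem⟩, ?_⟩
    ext x
    apply hinjK
    rw [algebraMap_dualFun, key x]

theorem IsLat.finite {d : O} (hd : d ≠ 0) {P : Submodule O (Fin n → K)} (h : IsLat d P) :
    Module.Finite O ↥P := by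
  have hinjK := IsFractionRing.injective O K
  have hdK : algebraMap O K d ≠ 0 := (map_ne_zero_iff _ hinjK).mpr hd
  let g : ↥P →ₗ[O] (Fin n → O) :=
    { toFun := fun x i => oneEquiv ⟨algebraMap O K d * (x : Fin n → K) i, h.smul_mem_one x x.2 i⟩
      map_add' := by
        intro a b
        ext i
        apply hinjK
        simp only [Pi.add_apply, map_add, algebraMap_oneEquiv]
        simp [mul_add]
      map_smul' := by
        intro a b
        ext i
        apply hinjK
        simp only [Pi.smul_apply, smul_eq_mul, map_mul, algebraMap_oneEquiv, RingHom.id_apply]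
        simp [Algebra.smul_def]
        ring }
  have hg : Injective g := by
    intro a b hab
    apply Subtype.ext
    ext i
    have h1 := congrArg (algebraMap O K) (congrFun hab i)
    simp only [g, LinearMap.coe_mk, AddHom.coe_mk, algebraMap_oneEquiv] at h1
    exact mul_left_cancel₀ hdK h1
  exact Module.Finite.of_injective g hg

section gorenstein

variable [hG : LocCoh.IsGorensteinLocalRing O]

/-- lattices are reflexive. -/
theorem IsLat.dual_dual (hdim : ringKrullDim O = 1) {d : O} (hd : d ≠ 0)
    {P : Submodule O (Fin n → K)} (h : IsLat d P) :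
    dualLattice (dualLattice P) = P := by
  refine le_antisymm ?_ (le_dualLattice_dualLattice P)
  have hinjK := IsFractionRing.injective O K
  have hdK : algebraMap O K d ≠ 0 := (map_ne_zero_iff _ hinjK).mpr hd
  obtain ⟨hO2, -⟩ := hasInjectiveDimensionLT_one K (O := O) hdim
  haveI := h.finite hd
  haveI : NoZeroSMulDivisors O ↥P := by
    rw [noZeroSMulDivisors_iff_right_eq_zero_of_smul]
    intro r hr m hm
    apply Subtype.ext
    ext i
    have h1 : algebraMap O K r * (m : Fin n → K) i = 0 := by
      have := congrFun (congrArg Subtype.val hm) i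
      simpa [Algebra.smul_def] using this
    rcases mul_eq_zero.mp h1 with h' | h'
    · exact absurd ((map_eq_zero_iff _ hinjK).mp h') hr
    · exact h'
  have hrefl := applyₗ_bijective O hO2
    (fun φ => ⟨φ 1, by
      apply LinearMap.ext
      intro x
      have : x = x • (1 : O) := by simp
      conv_lhs => rw [this, map_smul]
      simp [mul_comm]⟩) ↥P
  intro z hz
  let eP := LinearEquiv.ofBijective (dualFun P) (dualFun_bijective' hd h)
  let Λ : (↥P →ₗ[O] O) →ₗ[O] O :=
    (dualFun (dualLattice P) ⟨z, hz⟩) ∘ₗ eP.symm.toLinearMap
  obtain ⟨x, hx⟩ := hrefl.2 Λ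
  have hxz : ∀ y : ↥(dualLattice P), (y : Fin n → K) ⬝ᵥ z = (x : Fin n → K) ⬝ᵥ (y : Fin n → K) := by
    intro y
    have h1 := LinearMap.congr_fun hx (eP y)
    rw [LinearMap.applyₗ_apply_apply] at h1
    have h2 : Λ (eP y) = dualFun (dualLattice P) ⟨z, hz⟩ y := by
      simp [Λ]
    rw [h2] at h1
    have h3 := congrArg (algebraMap O K) h1
    rw [algebraMap_dualFun] at h3
    rw [← h3]
    exact algebraMap_dualFun P y x
  have hzx : z = (x : Fin n → K) := by
    ext i
    have := hxz ⟨_, h.dual.single_mem i⟩
    simp only [single_dotProduct, dotProduct_single] at this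
    rw [mul_comm] at this
    exact mul_right_cancel₀ hdK this
  rw [hzx]
  exact x.2

/-- duality preserves lengths. -/
theorem length_dual (hdim : ringKrullDim O = 1) {d : O} (hd : d ≠ 0)
    {P P' : Submodule O (Fin n → K)} (h : IsLat d P) (h' : IsLat d P') (hle : P ≤ P') :
    Module.length O (↥P' ⧸ P.comap P'.subtype) =
      Module.length O (↥(dualLattice P) ⧸ (dualLattice P').comap (dualLattice P).subtype) := by
  have hle' := dualLattice_antitone hle
  let e : Set.Icc P P' ≃o (Set.Icc (dualLattice P') (dualLattice P))ᵒᵈ :=
    { toFun := fun L => OrderDual.toDual ⟨dualLattice L.1, dualLattice_antitone L.2.2,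
        dualLattice_antitone L.2.1⟩
      invFun := fun L' => ⟨dualLattice (OrderDual.ofDual L').1, by
        have := dualLattice_antitone (OrderDual.ofDual L').2.2
        rwa [h.dual_dual hdim hd] at this, by
        have := dualLattice_antitone (OrderDual.ofDual L').2.1
        rwa [h'.dual_dual hdim hd] at this⟩
      left_inv := fun L => by
        apply Subtype.ext
        exact (IsLat.of_le h h' L.2.1 L.2.2).dual_dual hdim hd
      right_inv := fun L' => by
        apply Subtype.ext
        exact (IsLat.of_le h'.dual h.dual (OrderDual.ofDual L').2.1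
          (OrderDual.ofDual L').2.2).dual_dual hdim hd
      map_rel_iff' := by
        intro L₁ L₂
        show dualLattice L₂.1 ≤ dualLattice L₁.1 ↔ L₁.1 ≤ L₂.1
        constructor
        · intro hh
          have := dualLattice_antitone hh
          rwa [(IsLat.of_le h h' L₁.2.1 L₁.2.2).dual_dual hdim hd,
            (IsLat.of_le h h' L₂.2.1 L₂.2.2).dual_dual hdim hd] at this
        · exact fun hh => dualLattice_antitone hh }
  apply WithBot.coe_injective
  rw [length_quot_eq_krullDim_Icc _ _ hle, length_quot_eq_krullDim_Icc _ _ hle',
    Order.krullDim_eq_of_orderIso e, Order.krullDim_orderDual]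

end gorenstein

end Groth.Agent.Lib.Helper22.TFCurv
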