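import Mathlib
import Groth.Agent.Lib.Helper22.TFCurv21

/-!
# Lengths of standard lattices in `K^n`
-/

set_option autoImplicit false
set_option linter.style.haveILetI false
set_option linter.unusedSectionVars false
set_option linter.overlappingInstances false

namespace Groth.Agent.Lib.Helper22.TFCurv

open Function IsLocalRing

universe u

section general

variable {R : Type*} [Ring R] {V W : Type*} [AddCommGroup V] [Module R V] [AddCommGroup W]
  [Module R W]

/-- injective linear maps preserve the lengths of subquotients. -/
theorem length_map_quot (g : V →ₗ[R] W) (hg : Injective g) (A B : Submodule R V) :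
    Module.length R (↥(B.map g) ⧸ (A.map g).comap (B.map g).subtype) =
      Module.length R (↥B ⧸ A.comap B.subtype) := by
  symm
  refine LinearEquiv.length_eq
    (Submodule.Quotient.equiv _ _ (Submodule.equivMapOfInjective g hg B) ?_)
  ext ⟨y, hy⟩
  simp only [Submodule.mem_map, Submodule.mem_comap, Submodule.subtype_apply]
  constructor
  · rintro ⟨x, hx, hxy⟩
    refine ⟨x, hx, ?_⟩
    have := congrArg Subtype.val hxy
    simpa using this
  · rintro ⟨x, hx, hxy⟩
    obtain ⟨b, hb, hby⟩ := hy
    have : x = b := hg (hxy.trans hby.symm)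
    subst this
    exact ⟨⟨x, hb⟩, hx, Subtype.ext (by simpa using hxy)⟩

theorem length_top_quot (A : Submodule R V) :
    Module.length R (↥(⊤ : Submodule R V) ⧸ A.comap (⊤ : Submodule R V).subtype) =
      Module.length R (V ⧸ A) := by
  refine LinearEquiv.length_eq
    (Submodule.Quotient.equiv _ _ (Submodule.topEquiv (R := R) (M := V)) ?_)
  ext y
  simp only [Submodule.mem_map, Submodule.mem_comap, Submodule.subtype_apply]
  constructor
  · rintro ⟨x, hx, rfl⟩
    exact hx
  · intro hy
    exact ⟨⟨y, trivial⟩, hy, rfl⟩

end general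

variable {O : Type u} [CommRing O] [IsDomain O] [IsNoetherianRing O] [IsLocalRing O]
  {K : Type u} [Field K] [Algebra O K] [IsFractionRing O K] {n : ℕ}

theorem dualLattice_pi_one :
    dualLattice (Submodule.pi Set.univ (fun _ : Fin n => (1 : Submodule O K))) =
      Submodule.pi Set.univ (fun _ : Fin n => (1 : Submodule O K)) := by
  refine le_antisymm (dualLattice_le_pi_one le_rfl) ?_
  intro y hy x hx
  rw [dotProduct]
  refine Submodule.sum_mem _ (fun i _ => ?_)
  obtain ⟨r, hr⟩ := Submodule.mem_one.mp (hx i trivial)
  obtain ⟨s, hs⟩ := Submodule.mem_one.mp (hy i trivial)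
  rw [← hr, ← hs, ← map_mul]
  exact Submodule.mem_one.mpr ⟨_, rfl⟩

theorem dualLattice_pi_closure :
    dualLattice (Submodule.pi Set.univ
      (fun _ : Fin n => (Subalgebra.toSubmodule (integralClosure O K)))) =
    Submodule.pi Set.univ (fun _ : Fin n =>
      (((1 : Submodule O K).colon (Subalgebra.toSubmodule (integralClosure O K))) •
        (1 : Submodule O K))) := by
  refine le_antisymm ?_ (pi_conductor_le_dualLattice le_rfl)
  intro y hy i _
  have h1 : ∀ b : K, b ∈ integralClosure O K → b * y i ∈ (1 : Submodule O K) := by
    intro b hb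
    have hmem : (Pi.single i b : Fin n → K) ∈ Submodule.pi Set.univ
        (fun _ : Fin n => (Subalgebra.toSubmodule (integralClosure O K))) := by
      intro j _
      by_cases h : j = i
      · subst h
        rw [Pi.single_eq_same]
        exact hb
      · rw [Pi.single_eq_of_ne h]
        exact Submodule.zero_mem _
    have := hy _ hmem
    rwa [single_dotProduct] at this
  obtain ⟨r, hr⟩ := Submodule.mem_one.mp (by simpa using h1 1 (one_mem _))
  refine (mem_smul_one_iff _ _).mpr ⟨r, ?_, hr⟩
  rw [Submodule.mem_colon]
  intro b hb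
  have := h1 b hb
  rw [← hr, mul_comm, ← Algebra.smul_def] at this
  exact this

theorem mem_conductor_mul {c : O}
    (hc : c ∈ (1 : Submodule O K).colon (Subalgebra.toSubmodule (integralClosure O K)))
    {b : K} (hb : b ∈ integralClosure O K) : algebraMap O K c * b ∈ (1 : Submodule O K) := by
  have := Submodule.mem_colon.mp hc b hb
  rwa [Algebra.smul_def] at this

theorem isLat_pi_one {c : O}
    (_hc : c ∈ (1 : Submodule O K).colon (Subalgebra.toSubmodule (integralClosure O K))) :
    IsLat (c * c) (Submodule.pi Set.univ (fun _ : Fin n => (1 : Submodule O K))) where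
  single_mem i := by
    intro j _
    by_cases h : j = i
    · subst h
      rw [Pi.single_eq_same]
      exact Submodule.mem_one.mpr ⟨_, rfl⟩
    · rw [Pi.single_eq_of_ne h]
      exact Submodule.zero_mem _
  smul_mem_one x hx i := by
    obtain ⟨r, hr⟩ := Submodule.mem_one.mp (hx i trivial)
    rw [← hr, ← map_mul]
    exact Submodule.mem_one.mpr ⟨_, rfl⟩

theorem isLat_pi_closure {c : O}
    (hc : c ∈ (1 : Submodule O K).colon (Subalgebra.toSubmodule (integralClosure O K))) :
    IsLat (c * c) (Submodule.pi Set.univ
      (fun _ : Fin n => (Subalgebra.toSubmodule (integralClosure O K)))) where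
  single_mem i := by
    intro j _
    by_cases h : j = i
    · subst h
      rw [Pi.single_eq_same]
      exact Subalgebra.algebraMap_mem _ _
    · rw [Pi.single_eq_of_ne h]
      exact Submodule.zero_mem _
  smul_mem_one x hx i := by
    obtain ⟨r, hr⟩ := Submodule.mem_one.mp (mem_conductor_mul hc (hx i trivial))
    rw [map_mul, mul_assoc, ← hr, ← map_mul]
    exact Submodule.mem_one.mpr ⟨_, rfl⟩

theorem pi_conductor_le_pi_one :
    Submodule.pi Set.univ (fun _ : Fin n =>
      (((1 : Submodule O K).colon (Subalgebra.toSubmodule (integralClosure O K))) •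
        (1 : Submodule O K))) ≤
      Submodule.pi Set.univ (fun _ : Fin n => (1 : Submodule O K)) := by
  intro x hx i _
  exact Submodule.smul_le_right (hx i trivial)

theorem pi_one_le_pi_closure :
    Submodule.pi Set.univ (fun _ : Fin n => (1 : Submodule O K)) ≤
      Submodule.pi Set.univ
        (fun _ : Fin n => (Subalgebra.toSubmodule (integralClosure O K))) := by
  intro x hx i _
  obtain ⟨r, hr⟩ := Submodule.mem_one.mp (hx i trivial)
  rw [← hr]
  exact Subalgebra.algebraMap_mem _ _

theorem isLat_pi_conductor {c : O}
    (hc : c ∈ (1 : Submodule O K).colon (Subalgebra.toSubmodule (integralClosure O K))) :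
    IsLat (c * c) (Submodule.pi Set.univ (fun _ : Fin n =>
      (((1 : Submodule O K).colon (Subalgebra.toSubmodule (integralClosure O K))) •
        (1 : Submodule O K)))) where
  single_mem i := by
    intro j _
    by_cases h : j = i
    · subst h
      rw [Pi.single_eq_same]
      exact (mem_smul_one_iff _ _).mpr ⟨c * c, Ideal.mul_mem_left _ _ hc, rfl⟩
    · rw [Pi.single_eq_of_ne h]
      exact Submodule.zero_mem _
  smul_mem_one x hx i := (isLat_pi_one hc).smul_mem_one x (pi_conductor_le_pi_one hx) i

/-- `ℓ(O^n / C^n) = n ℓ(O/C)`. -/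
theorem length_pi_one_quot (I : Ideal O) :
    Module.length O (↥(Submodule.pi Set.univ (fun _ : Fin n => (1 : Submodule O K))) ⧸
      Submodule.comap (Submodule.pi Set.univ (fun _ : Fin n => (1 : Submodule O K))).subtype
        (Submodule.pi Set.univ (fun _ : Fin n => I • (1 : Submodule O K)))) =
      (n : ℕ∞) * Module.length O (O ⧸ I) := by
  classical
  have hinjK := IsFractionRing.injective O K
  let g : (Fin n → O) →ₗ[O] (Fin n → K) := (Algebra.linearMap O K).compLeft (Fin n)
  have hg : Injective g := by
    intro a b hab
    ext i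
    exact hinjK (congrFun hab i)
  have h1 : (⊤ : Submodule O (Fin n → O)).map g =
      Submodule.pi Set.univ (fun _ : Fin n => (1 : Submodule O K)) := by
    ext y
    constructor
    · rintro ⟨x, -, rfl⟩ i _
      exact Submodule.mem_one.mpr ⟨x i, rfl⟩
    · intro hy
      have : ∀ i, ∃ r : O, algebraMap O K r = y i := fun i => Submodule.mem_one.mp (hy i trivial)
      choose r hr using this
      exact ⟨r, trivial, funext hr⟩
  have h2 : (Submodule.pi Set.univ (fun _ : Fin n => I)).map g =
      Submodule.pi Set.univ (fun _ : Fin n => I • (1 : Submodule O K)) := by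
    ext y
    constructor
    · rintro ⟨x, hx, rfl⟩ i _
      exact (mem_smul_one_iff _ _).mpr ⟨x i, hx i trivial, rfl⟩
    · intro hy
      have : ∀ i, ∃ r ∈ I, algebraMap O K r = y i :=
        fun i => (mem_smul_one_iff I (y i)).mp (hy i trivial)
      choose r hrI hr using this
      exact ⟨r, fun i _ => hrI i, funext hr⟩
  rw [← h1, ← h2, length_map_quot g hg, length_top_quot,
    (Submodule.quotientPi (fun _ : Fin n => I)).length_eq, Module.length_pi_of_fintype]
  simp

section gorenstein

variable [hG : LocCoh.IsGorensteinLocalRing O]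

/-- `ℓ(Õ^n / O^n) = n ℓ(O/C)` for a Gorenstein curve singularity. -/
theorem length_pi_closure_quot (hdim : ringKrullDim O = 1) {c : O} (hc0 : c ≠ 0)
    (hc : c ∈ (1 : Submodule O K).colon (Subalgebra.toSubmodule (integralClosure O K))) :
    Module.length O (↥(Submodule.pi Set.univ
        (fun _ : Fin n => (Subalgebra.toSubmodule (integralClosure O K)))) ⧸
      Submodule.comap (Submodule.pi Set.univ
        (fun _ : Fin n => (Subalgebra.toSubmodule (integralClosure O K)))).subtype
        (Submodule.pi Set.univ (fun _ : Fin n => (1 : Submodule O K)))) =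
      (n : ℕ∞) * Module.length O
        (O ⧸ ((1 : Submodule O K).colon (Subalgebra.toSubmodule (integralClosure O K)))) := by
  have hd : c * c ≠ 0 := mul_ne_zero hc0 hc0
  rw [length_dual hdim hd (isLat_pi_one hc) (isLat_pi_closure hc) pi_one_le_pi_closure,
    dualLattice_pi_one, dualLattice_pi_closure, length_pi_one_quot]

end gorenstein

end Groth.Agent.Lib.Helper22.TFCurv
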