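import Mathlib
import Groth.Agent.Lib.Helper22.TFCurv22

/-!
# A large `Õ`-stable sublattice of a lattice `O^n ⊆ M ⊆ Õ^n`
-/

set_option autoImplicit false
set_option linter.style.haveILetI false
set_option linter.unusedSectionVars false
set_option linter.overlappingInstances false

namespace Groth.Agent.Lib.Helper22.TFCurv

open Function IsLocalRing

universe u

variable {O : Type u} [CommRing O] [IsDomain O] [IsNoetherianRing O] [IsLocalRing O]
  {K : Type u} [Field K] [Algebra O K] [IsFractionRing O K] {n : ℕ}

/-- stability under the normalisation. -/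
def IsStable (N : Submodule O (Fin n → K)) : Prop :=
  ∀ b ∈ integralClosure O K, ∀ x ∈ N, b • x ∈ N

theorem span_eq_top_of_isLat {d : O} (hd : d ≠ 0) {P : Submodule O (Fin n → K)}
    (h : IsLat d P) : Submodule.span K (P : Set (Fin n → K)) = ⊤ := by
  have hinjK := IsFractionRing.injective O K
  have hdK : algebraMap O K d ≠ 0 := (map_ne_zero_iff _ hinjK).mpr hd
  rw [eq_top_iff]
  intro x _
  have hx : x = ∑ i, (x i / algebraMap O K d) • (Pi.single i (algebraMap O K d) : Fin n → K) := by
    ext j
    simp only [Finset.sum_apply, Pi.smul_apply, Pi.single_apply, smul_eq_mul, mul_ite, mul_zero]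
    rw [Finset.sum_ite_eq]
    simp only [Finset.mem_univ, if_true]
    field_simp
  rw [hx]
  exact Submodule.sum_mem _ (fun i _ => Submodule.smul_mem _ _
    (Submodule.subset_span (h.single_mem i)))

section gorenstein

variable [hG : LocCoh.IsGorensteinLocalRing O]

theorem exists_stable_sublattice (hdim : ringKrullDim O = 1)
    (hfin : Module.Finite O ↥(integralClosure O K)) (hinf : Infinite (O ⧸ maximalIdeal O))
    {c : O} (hc0 : c ≠ 0)
    (hc : c ∈ (1 : Submodule O K).colon (Subalgebra.toSubmodule (integralClosure O K)))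
    (M₁ : Submodule O (Fin n → K))
    (h1 : Submodule.pi Set.univ (fun _ : Fin n => (1 : Submodule O K)) ≤ M₁)
    (h2 : M₁ ≤ Submodule.pi Set.univ
        (fun _ : Fin n => (Subalgebra.toSubmodule (integralClosure O K)))) :
    ∃ C₁ : Submodule O (Fin n → K),
      Submodule.pi Set.univ (fun _ : Fin n =>
        (((1 : Submodule O K).colon (Subalgebra.toSubmodule (integralClosure O K))) •
          (1 : Submodule O K))) ≤ C₁ ∧ C₁ ≤ M₁ ∧ IsStable C₁ ∧
      Module.length O (↥M₁ ⧸ C₁.comap M₁.subtype) ≤
        (n : ℕ∞) * Module.length O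
          (O ⧸ ((1 : Submodule O K).colon (Subalgebra.toSubmodule (integralClosure O K)))) := by
  classical
  have hinjK := IsFractionRing.injective O K
  have hd : c * c ≠ 0 := mul_ne_zero hc0 hc0
  have hM1 : IsLat (c * c) M₁ := IsLat.of_le (isLat_pi_one hc) (isLat_pi_closure hc) h1 h2
  set P := dualLattice M₁ with hPdef
  have hP : IsLat (c * c) P := hM1.dual
  have hP1 : P ≤ Submodule.pi Set.univ (fun _ : Fin n => (1 : Submodule O K)) :=
    dualLattice_le_pi_one h1
  have hPfg : P.FG := by
    haveI := hP.finite hd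
    exact Module.Finite.iff_fg.mp inferInstance
  have hspan := span_eq_top_of_isLat hd hP
  obtain ⟨e, heP, hframe⟩ := exists_frame K hdim hfin hinf n (Fin n → K) (by simp) P hPfg hspan
  let h : (Fin n → K) →ₗ[K] (Fin n → K) := Fintype.linearCombination K e
  have hh : ∀ x, h x = ∑ i, x i • e i := fun x => Fintype.linearCombination_apply K e x
  have hsurj : Surjective h := by
    rw [← LinearMap.range_eq_top, eq_top_iff, ← hspan, Submodule.span_le]
    intro m hm
    obtain ⟨a, ha⟩ := hframe m hm
    exact ⟨fun i => (a i : K), by rw [hh, ha]⟩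
  have hinj : Injective h := LinearMap.injective_iff_surjective.mpr hsurj
  let hO : (Fin n → K) →ₗ[O] (Fin n → K) := h.restrictScalars O
  have hOinj : Injective hO := hinj
  set E := (Submodule.pi Set.univ
    (fun _ : Fin n => (Subalgebra.toSubmodule (integralClosure O K)))).map hO with hEdef
  set F := (Submodule.pi Set.univ (fun _ : Fin n => (1 : Submodule O K))).map hO with hFdef
  have hPE : P ≤ E := by
    intro m hm
    obtain ⟨a, ha⟩ := hframe m hm
    refine ⟨fun i => (a i : K), fun i _ => (a i).2, ?_⟩
    show h _ = m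
    rw [hh, ha]
  have hFP : F ≤ P := by
    rintro _ ⟨x, hx, rfl⟩
    show h x ∈ P
    rw [hh]
    refine Submodule.sum_mem _ (fun i _ => ?_)
    obtain ⟨r, hr⟩ := Submodule.mem_one.mp (hx i trivial)
    rw [← hr, algebraMap_smul]
    exact P.smul_mem r (heP i)
  have hEcl : E ≤ Submodule.pi Set.univ
      (fun _ : Fin n => (Subalgebra.toSubmodule (integralClosure O K))) := by
    rintro _ ⟨x, hx, rfl⟩ j _
    show h x j ∈ integralClosure O K
    rw [hh, Finset.sum_apply]
    refine Subalgebra.sum_mem _ (fun i _ => ?_)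
    rw [Pi.smul_apply, smul_eq_mul]
    refine Subalgebra.mul_mem _ (hx i trivial) ?_
    obtain ⟨r, hr⟩ := Submodule.mem_one.mp (hP1 (heP i) j trivial)
    rw [← hr]
    exact Subalgebra.algebraMap_mem _ _
  have hE : IsLat (c * c) E := IsLat.of_le hP (isLat_pi_closure hc) hPE hEcl
  have hEstab : ∀ b ∈ integralClosure O K, ∀ x ∈ E, b • x ∈ E := by
    rintro b hb _ ⟨x, hx, rfl⟩
    refine ⟨b • x, fun i _ => ?_, ?_⟩
    · show b • x i ∈ integralClosure O K
      rw [smul_eq_mul]
      exact Subalgebra.mul_mem _ hb (hx i trivial)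
    · show h (b • x) = b • h x
      rw [map_smul]
  refine ⟨dualLattice E, pi_conductor_le_dualLattice hEcl, ?_, ?_, ?_⟩
  · have := dualLattice_antitone hPE
    rwa [hPdef, hM1.dual_dual hdim hd] at this
  · intro b hb y hy x hx
    rw [dotProduct_smul, ← smul_dotProduct]
    exact hy _ (hEstab b hb x hx)
  · have hlen := length_dual hdim hd hP hE hPE
    have hPdd : dualLattice P = M₁ := by rw [hPdef, hM1.dual_dual hdim hd]
    rw [hPdd] at hlen
    rw [← hlen]
    have hadd := length_quot_add F P E hFP hPE
    have hmap := length_map_quot hO hOinj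
      (Submodule.pi Set.univ (fun _ : Fin n => (1 : Submodule O K)))
      (Submodule.pi Set.univ (fun _ : Fin n => (Subalgebra.toSubmodule (integralClosure O K))))
    rw [length_pi_closure_quot hdim hc0 hc] at hmap
    rw [← hmap, hadd]
    exact le_add_self

end gorenstein

end Groth.Agent.Lib.Helper22.TFCurv
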