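import Mathlib
import Groth.Agent.Lib.Helper22.TFCurv23

/-!
# Chains of `Õ`-stable lattices with simple steps
-/

set_option autoImplicit false
set_option linter.style.haveILetI false
set_option linter.unusedSectionVars false
set_option linter.overlappingInstances false

namespace Groth.Agent.Lib.Helper22.TFCurv

open Function IsLocalRing

universe u

section lemmaS

variable {O : Type u} [CommRing O] [IsLocalRing O]
  {B : Type u} [CommRing B] [Algebra O B] [Algebra.IsIntegral O B]

theorem exists_sub_mem [IsAlgClosed (ResidueField O)] (𝔫 : Ideal B) [h𝔫 : 𝔫.IsMaximal] (b : B) :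
    ∃ r : O, b - algebraMap O B r ∈ 𝔫 := by
  haveI hmax : (𝔫.under O).IsMaximal := Ideal.isMaximal_comap_of_isIntegral_of_isMaximal 𝔫
  haveI : 𝔫.LiesOver (maximalIdeal O) := ⟨(eq_maximalIdeal hmax).symm⟩
  letI : Field (B ⧸ 𝔫) := Ideal.Quotient.field 𝔫
  letI : Algebra (ResidueField O) (B ⧸ 𝔫) :=
    inferInstanceAs (Algebra (O ⧸ maximalIdeal O) (B ⧸ 𝔫))
  haveI : Algebra.IsIntegral (ResidueField O) (B ⧸ 𝔫) :=
    inferInstanceAs (Algebra.IsIntegral (O ⧸ maximalIdeal O) (B ⧸ 𝔫))
  obtain ⟨x, hx⟩ := (IsAlgClosed.algebraMap_bijective_of_isIntegral (k := ResidueField O)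
    (K := B ⧸ 𝔫)).2 (Ideal.Quotient.mk 𝔫 b)
  obtain ⟨r, rfl⟩ := Ideal.Quotient.mk_surjective x
  refine ⟨r, ?_⟩
  rw [← Ideal.Quotient.eq_zero_iff_mem, map_sub, ← hx]
  exact sub_self _

/-- simple modules over the normalisation are simple over `O`. -/
theorem isSimpleModule_of_tower [IsAlgClosed (ResidueField O)] (T : Type*) [AddCommGroup T]
    [Module B T] [Module O T] [IsScalarTower O B T] [hT : IsSimpleModule B T] :
    IsSimpleModule O T := by
  obtain ⟨𝔫, h𝔫, ⟨e⟩⟩ := isSimpleModule_iff_quot_maximal.mp hT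
  have hann : ∀ ν ∈ 𝔫, ∀ t : T, ν • t = 0 := by
    intro ν hν t
    apply e.injective
    rw [map_smul, map_zero]
    obtain ⟨b', hb'⟩ := Submodule.Quotient.mk_surjective _ (e t)
    rw [← hb', ← Submodule.Quotient.mk_smul, Submodule.Quotient.mk_eq_zero]
    exact 𝔫.mul_mem_right _ hν
  rw [isSimpleModule_iff_toSpanSingleton_surjective]
  refine ⟨IsSimpleModule.nontrivial B T, ?_⟩
  intro t ht t'
  obtain ⟨b, hb⟩ := (isSimpleModule_iff_toSpanSingleton_surjective.mp hT).2 t ht t'
  obtain ⟨r, hr⟩ := exists_sub_mem (O := O) 𝔫 b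
  refine ⟨r, ?_⟩
  have := hann _ hr t
  rw [sub_smul, algebraMap_smul, sub_eq_zero] at this
  simp only [LinearMap.toSpanSingleton_apply] at hb ⊢
  rw [← this, hb]

end lemmaS

variable {O : Type u} [CommRing O] [IsDomain O] [IsNoetherianRing O] [IsLocalRing O]
  {K : Type u} [Field K] [Algebra O K] [IsFractionRing O K] {n : ℕ}

/-- the submodule over the normalisation attached to a stable lattice. -/
def IsStable.toSub {N : Submodule O (Fin n → K)} (hN : IsStable N) :
    Submodule ↥(integralClosure O K) (Fin n → K) where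
  carrier := N
  add_mem' := N.add_mem
  zero_mem' := N.zero_mem
  smul_mem' := fun b x hx => hN b.1 b.2 x hx

theorem IsStable.mem_toSub {N : Submodule O (Fin n → K)} (hN : IsStable N) (x : Fin n → K) :
    x ∈ hN.toSub ↔ x ∈ N := Iff.rfl

theorem exists_step [IsAlgClosed (ResidueField O)] (N' N : Submodule O (Fin n → K))
    (hN' : IsStable N') (hN : IsStable N) (hle : N' ≤ N) (hne : N' ≠ N) (hfg : N.FG) :
    ∃ N₁ : Submodule O (Fin n → K), IsStable N₁ ∧ N' ≤ N₁ ∧ N₁ ≤ N ∧
      Module.length O (↥N ⧸ N₁.comap N.subtype) = 1 := by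
  classical
  let Ñ := hN.toSub
  let Ñ' := hN'.toSub
  haveI : Module.Finite ↥(integralClosure O K) ↥Ñ := by
    obtain ⟨s, hs⟩ := hfg
    refine Module.Finite.iff_fg.mpr ⟨s, le_antisymm ?_ ?_⟩
    · rw [Submodule.span_le]
      intro x hx
      show x ∈ N
      rw [← hs]
      exact Submodule.subset_span hx
    · intro x hx
      have hx' : x ∈ Submodule.span O (s : Set (Fin n → K)) := by rw [hs]; exact hx
      refine Submodule.span_induction ?_ ?_ ?_ ?_ hx'
      · intro y hy
        exact Submodule.subset_span hy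
      · exact Submodule.zero_mem _
      · intro y z _ _ hy hz
        exact Submodule.add_mem _ hy hz
      · intro r y _ hy
        have : r • y = (algebraMap O ↥(integralClosure O K) r) • y := by
          ext i
          simp [Algebra.smul_def, Subalgebra.smul_def]
        rw [this]
        exact Submodule.smul_mem _ _ hy
  let Q₀ : Submodule ↥(integralClosure O K) ↥Ñ := Ñ'.comap Ñ.subtype
  have hQ₀ : Q₀ ≠ ⊤ := by
    intro h
    apply hne
    refine le_antisymm hle ?_
    intro x hx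
    have : (⟨x, hx⟩ : ↥Ñ) ∈ Q₀ := by rw [h]; trivial
    exact this
  obtain ⟨Q, hQ, hQ₀Q⟩ := (eq_top_or_exists_le_coatom Q₀).resolve_left hQ₀
  haveI : IsSimpleModule ↥(integralClosure O K) (↥Ñ ⧸ Q) := isSimpleModule_iff_isCoatom.mpr hQ
  haveI : IsSimpleModule O (↥Ñ ⧸ Q) :=
    isSimpleModule_of_tower (O := O) (B := ↥(integralClosure O K)) (↥Ñ ⧸ Q)
  refine ⟨(Q.map Ñ.subtype).restrictScalars O, ?_, ?_, ?_, ?_⟩
  · intro b hb x hx
    exact (Q.map Ñ.subtype).smul_mem (⟨b, hb⟩ : ↥(integralClosure O K)) hx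
  · intro x hx
    exact ⟨⟨x, hle hx⟩, hQ₀Q (show (⟨x, hle hx⟩ : ↥Ñ) ∈ Q₀ from hx), rfl⟩
  · rintro _ ⟨x, -, rfl⟩
    exact x.2
  · let e₀ : ↥N ≃ₗ[O] ↥Ñ :=
      { toFun := fun x => ⟨x.1, x.2⟩
        invFun := fun x => ⟨x.1, x.2⟩
        map_add' := fun _ _ => rfl
        map_smul' := fun _ _ => rfl
        left_inv := fun _ => rfl
        right_inv := fun _ => rfl }
    have hmap : Submodule.map (e₀ : ↥N →ₗ[O] ↥Ñ)
        (Submodule.comap N.subtype ((Q.map Ñ.subtype).restrictScalars O)) =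
        Q.restrictScalars O := by
      ext y
      constructor
      · rintro ⟨x, ⟨q, hq, hqx⟩, rfl⟩
        have : q = e₀ x := Subtype.ext hqx
        show e₀ x ∈ Q
        rw [← this]
        exact hq
      · intro hy
        exact ⟨e₀.symm y, ⟨y, hy, rfl⟩, e₀.apply_symm_apply y⟩
    let e := (Submodule.Quotient.equiv _ _ e₀ hmap).trans
      (Submodule.Quotient.restrictScalarsEquiv O Q)
    rw [e.length_eq]
    exact Module.length_eq_one_iff.mpr inferInstance

end Groth.Agent.Lib.Helper22.TFCurv
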