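import Mathlib
import Groth.Agent.Lib.Helper22.TFCurv24

/-!
# Normal form of a torsion-free module over a Gorenstein curve singularity:
`C^n ⊆ M' ⊆ Õ^n` with `ℓ(M'/C^n) = n ℓ(O/C)`
-/

set_option autoImplicit false
set_option linter.style.haveILetI false
set_option linter.unusedSectionVars false
set_option linter.overlappingInstances false

namespace Groth.Agent.Lib.Helper22.TFCurv

open Function IsLocalRing

universe u

variable {O : Type u} [CommRing O] [IsDomain O] [IsNoetherianRing O] [IsLocalRing O]
  {K : Type u} [Field K] [Algebra O K] [IsFractionRing O K] {n : ℕ}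

theorem length_quot_self {R : Type*} [Ring R] {V : Type*} [AddCommGroup V] [Module R V]
    (N : Submodule R V) : Module.length R (↥N ⧸ N.comap N.subtype) = 0 := by
  rw [Module.length_eq_zero_iff, Submodule.Quotient.subsingleton_iff]
  rw [eq_top_iff]
  intro x _
  exact x.2

/-- between two stable lattices there are stable lattices of any intermediate colength. -/
theorem exists_stable_of_length [IsAlgClosed (ResidueField O)] (N' N : Submodule O (Fin n → K))
    (hN' : IsStable N') (hN : IsStable N) (hle : N' ≤ N) (hfg : N.FG) :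
    ∀ j : ℕ, (j : ℕ∞) ≤ Module.length O (↥N ⧸ N'.comap N.subtype) →
      ∃ N₁ : Submodule O (Fin n → K), IsStable N₁ ∧ N' ≤ N₁ ∧ N₁ ≤ N ∧
        Module.length O (↥N ⧸ N₁.comap N.subtype) = j := by
  intro j
  induction j with
  | zero =>
    intro _
    exact ⟨N, hN, hle, le_rfl, by rw [length_quot_self]; rfl⟩
  | succ j ih =>
    intro hj
    have hj' : (j : ℕ∞) ≤ Module.length O (↥N ⧸ N'.comap N.subtype) := by
      refine le_trans ?_ hj
      exact_mod_cast Nat.le_succ j
    obtain ⟨N₁, hN₁, h1, h2, hlen⟩ := ih hj'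
    have hne : N' ≠ N₁ := by
      intro h
      rw [← h, ] at hlen
      rw [hlen] at hj
      have : j + 1 ≤ j := by exact_mod_cast hj
      omega
    obtain ⟨N₂, hN₂, h3, h4, hlen2⟩ := exists_step N' N₁ hN' hN₁ h1 hne (hfg.of_le h2)
    refine ⟨N₂, hN₂, h3, h4.trans h2, ?_⟩
    rw [length_quot_add N₂ N₁ N h4 h2, hlen2, hlen]
    push_cast
    rw [add_comm]

/-- characterisation of the conductor inside `K`. -/
theorem mem_conductor_smul_one_iff (y : K) :
    y ∈ ((1 : Submodule O K).colon (Subalgebra.toSubmodule (integralClosure O K))) •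
      (1 : Submodule O K) ↔ ∀ b ∈ integralClosure O K, y * b ∈ (1 : Submodule O K) := by
  rw [mem_smul_one_iff]
  constructor
  · rintro ⟨r, hr, rfl⟩ b hb
    have := Submodule.mem_colon.mp hr b hb
    rwa [Algebra.smul_def] at this
  · intro h
    obtain ⟨r, hr⟩ := Submodule.mem_one.mp (by simpa using h 1 (one_mem _))
    refine ⟨r, ?_, hr⟩
    rw [Submodule.mem_colon]
    intro b hb
    have := h b hb
    rwa [← hr, ← Algebra.smul_def] at this

/-- the conductor is a principal ideal of the normalisation. -/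
theorem exists_conductor_generator (hdim : ringKrullDim O = 1)
    (hfin : Module.Finite O ↥(integralClosure O K)) :
    ∃ c₀ : K, c₀ ≠ 0 ∧ ∀ y : K,
      y ∈ ((1 : Submodule O K).colon (Subalgebra.toSubmodule (integralClosure O K))) •
        (1 : Submodule O K) ↔ ∃ b ∈ integralClosure O K, y = c₀ * b := by
  haveI := isDedekindDomain_integralClosure K hdim hfin
  haveI : IsPrincipalIdealRing ↥(integralClosure O K) :=
    IsPrincipalIdealRing.of_finite_maximals (finite_maximals K hfin)
  have hinjK := IsFractionRing.injective O K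
  let Cs : Submodule O K :=
    ((1 : Submodule O K).colon (Subalgebra.toSubmodule (integralClosure O K))) •
      (1 : Submodule O K)
  let I : Ideal ↥(integralClosure O K) :=
    { carrier := {b | (b : K) ∈ Cs}
      add_mem' := by
        intro a b ha hb
        show ((a + b : ↥(integralClosure O K)) : K) ∈ Cs
        rw [Subalgebra.coe_add]
        exact Cs.add_mem ha hb
      zero_mem' := by
        show ((0 : ↥(integralClosure O K)) : K) ∈ Cs
        exact Cs.zero_mem
      smul_mem' := by
        intro b' b hb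
        have hb' : (b : K) ∈ Cs := hb
        show ((b' • b : ↥(integralClosure O K)) : K) ∈ Cs
        simp only [Cs] at hb' ⊢
        rw [mem_conductor_smul_one_iff] at hb' ⊢
        intro z hz
        have := hb' ((b' : K) * z) (Subalgebra.mul_mem _ b'.2 hz)
        rw [smul_eq_mul, Subalgebra.coe_mul]
        convert this using 1
        ring }
  obtain ⟨g, hg⟩ : ∃ g, I = Ideal.span {g} := (IsPrincipalIdealRing.principal I).principal
  obtain ⟨c, hc0, hc⟩ := exists_mem_conductor K hfin
  have hcI : (⟨algebraMap O K c, Subalgebra.algebraMap_mem _ _⟩ : ↥(integralClosure O K)) ∈ I :=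
    (mem_smul_one_iff _ _).mpr ⟨c, hc, rfl⟩
  have hg0 : (g : K) ≠ 0 := by
    intro h0
    have hg0' : g = 0 := Subtype.ext h0
    rw [hg, hg0', Ideal.mem_span_singleton, zero_dvd_iff] at hcI
    have := congrArg Subtype.val hcI
    exact hc0 ((map_eq_zero_iff _ hinjK).mp this)
  refine ⟨(g : K), hg0, fun y => ⟨?_, ?_⟩⟩
  · intro hy
    have hy1 : y ∈ integralClosure O K := by
      obtain ⟨r, -, rfl⟩ := (mem_smul_one_iff _ _).mp hy
      exact Subalgebra.algebraMap_mem _ _
    have hyI : (⟨y, hy1⟩ : ↥(integralClosure O K)) ∈ I := hy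
    rw [hg, Ideal.mem_span_singleton] at hyI
    obtain ⟨b, hb⟩ := hyI
    exact ⟨(b : K), b.2, by simpa using congrArg Subtype.val hb⟩
  · rintro ⟨b, hb, rfl⟩
    have hgI : g ∈ I := by rw [hg]; exact Ideal.mem_span_singleton_self g
    have : g * ⟨b, hb⟩ ∈ I := I.mul_mem_right _ hgI
    exact this

section gorenstein

variable [hG : LocCoh.IsGorensteinLocalRing O]

theorem exists_conductor_normal_form [IsAlgClosed (ResidueField O)]
    (hdim : ringKrullDim O = 1) (hfin : Module.Finite O ↥(integralClosure O K))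
    (M : Type u) [AddCommGroup M] [Module O M] [Module.Finite O M] [NoZeroSMulDivisors O M]
    (n : ℕ) (hn : Module.finrank K (TensorProduct O K M) = n) :
    ∃ M' : Submodule O (Fin n → K),
      Submodule.pi Set.univ (fun _ : Fin n =>
        (((1 : Submodule O K).colon (Subalgebra.toSubmodule (integralClosure O K))) •
          (1 : Submodule O K))) ≤ M' ∧
      M' ≤ Submodule.pi Set.univ
        (fun _ : Fin n => (Subalgebra.toSubmodule (integralClosure O K))) ∧
      Nonempty (M ≃ₗ[O] ↥M') ∧
      Module.length O (↥M' ⧸ Submodule.comap M'.subtype (Submodule.pi Set.univ (fun _ : Fin n =>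
        (((1 : Submodule O K).colon (Subalgebra.toSubmodule (integralClosure O K))) •
          (1 : Submodule O K))))) =
        (n : ℕ∞) * Module.length O
          (O ⧸ ((1 : Submodule O K).colon (Subalgebra.toSubmodule (integralClosure O K)))) := by
  classical
  have hinf : Infinite (O ⧸ maximalIdeal O) :=
    show Infinite (ResidueField O) from inferInstance
  have hinjK := IsFractionRing.injective O K
  obtain ⟨M₁, h1, h2, ⟨e₁⟩⟩ := exists_normal_form K hdim hfin hinf M n hn
  obtain ⟨c, hc0, hc⟩ := exists_mem_conductor K hfin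
  have hd : c * c ≠ 0 := mul_ne_zero hc0 hc0
  set Cn := Submodule.pi Set.univ (fun _ : Fin n =>
        (((1 : Submodule O K).colon (Subalgebra.toSubmodule (integralClosure O K))) •
          (1 : Submodule O K))) with hCn
  set L := (n : ℕ∞) * Module.length O
          (O ⧸ ((1 : Submodule O K).colon (Subalgebra.toSubmodule (integralClosure O K))))
    with hL
  have hM1 : IsLat (c * c) M₁ := IsLat.of_le (isLat_pi_one hc) (isLat_pi_closure hc) h1 h2
  have hCnO : Cn ≤ Submodule.pi Set.univ (fun _ : Fin n => (1 : Submodule O K)) :=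
    pi_conductor_le_pi_one
  have hlenOC : Module.length O (↥(Submodule.pi Set.univ (fun _ : Fin n => (1 : Submodule O K))) ⧸
      Submodule.comap (Submodule.pi Set.univ (fun _ : Fin n => (1 : Submodule O K))).subtype
        Cn) = L := length_pi_one_quot _
  have hlenM1 : Module.length O (↥M₁ ⧸ Cn.comap M₁.subtype) =
      L + Module.length O (↥M₁ ⧸ Submodule.comap M₁.subtype
        (Submodule.pi Set.univ (fun _ : Fin n => (1 : Submodule O K)))) := by
    rw [length_quot_add Cn _ M₁ hCnO h1, hlenOC]
  by_cases hLtop : L = ⊤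
  · refine ⟨M₁, hCnO.trans h1, h2, ⟨e₁⟩, ?_⟩
    rw [hlenM1, hLtop, top_add]
  obtain ⟨l, hl⟩ := ENat.ne_top_iff_exists.mp hLtop
  obtain ⟨C₁, hC1, hC1M, hC1s, hlen1⟩ := exists_stable_sublattice hdim hfin hinf hc0 hc M₁ h1 h2
  rw [← hL, ← hl] at hlen1
  obtain ⟨a, ha⟩ := ENat.ne_top_iff_exists.mp (ne_top_of_le_ne_top (ENat.natCast_ne_top l) hlen1)
  rw [← ha] at hlen1
  have hal : a ≤ l := by exact_mod_cast hlen1
  have hCnstab : IsStable Cn := by
    intro b hb x hx i _
    have hxi : x i ∈ ((1 : Submodule O K).colon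
        (Subalgebra.toSubmodule (integralClosure O K))) • (1 : Submodule O K) := hx i trivial
    show (b • x) i ∈ ((1 : Submodule O K).colon
        (Subalgebra.toSubmodule (integralClosure O K))) • (1 : Submodule O K)
    rw [mem_conductor_smul_one_iff] at hxi ⊢
    intro z hz
    have := hxi (b * z) (Subalgebra.mul_mem _ hb hz)
    rw [Pi.smul_apply, smul_eq_mul]
    convert this using 1
    ring
  have hfgM1 : M₁.FG := by
    haveI := hM1.finite hd
    exact Module.Finite.iff_fg.mp inferInstance
  have hsplit := length_quot_add Cn C₁ M₁ hC1 hC1M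
  have hj : ((l - a : ℕ) : ℕ∞) ≤ Module.length O (↥C₁ ⧸ Cn.comap C₁.subtype) := by
    by_cases htop : Module.length O (↥C₁ ⧸ Cn.comap C₁.subtype) = ⊤
    · rw [htop]; exact le_top
    obtain ⟨q, hq⟩ := ENat.ne_top_iff_exists.mp htop
    rw [← hq]
    have h3 : (l : ℕ∞) ≤ (q : ℕ∞) + (a : ℕ∞) := by
      rw [hq, ha, ← hsplit, hlenM1, ← hl]
      exact le_self_add
    have h4 : l ≤ q + a := by exact_mod_cast h3
    have : l - a ≤ q := by omega
    exact_mod_cast this
  obtain ⟨C₂, hC2s, hC2a, hC2b, hlen2⟩ :=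
    exists_stable_of_length Cn C₁ hCnstab hC1s hC1 (hfgM1.of_le hC1M) (l - a) hj
  have hlenM1C2 : Module.length O (↥M₁ ⧸ C₂.comap M₁.subtype) = L := by
    rw [length_quot_add C₂ C₁ M₁ hC2b hC1M, hlen2, ← ha, ← hl]
    have : l - a + a = l := by omega
    exact_mod_cast this
  -- frame of `C₂`
  have hC2cl : C₂ ≤ Submodule.pi Set.univ
      (fun _ : Fin n => (Subalgebra.toSubmodule (integralClosure O K))) :=
    (hC2b.trans hC1M).trans h2
  have hC2lat : IsLat (c * c) C₂ :=
    IsLat.of_le (isLat_pi_conductor hc) (isLat_pi_closure hc) hC2a hC2cl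
  have hC2fg : C₂.FG := hfgM1.of_le (hC2b.trans hC1M)
  have hspan := span_eq_top_of_isLat hd hC2lat
  obtain ⟨e, heC, hframe⟩ := exists_frame K hdim hfin hinf n (Fin n → K) (by simp) C₂ hC2fg hspan
  let h : (Fin n → K) →ₗ[K] (Fin n → K) := Fintype.linearCombination K e
  have hh : ∀ x, h x = ∑ i, x i • e i := fun x => Fintype.linearCombination_apply K e x
  have hsurj : Surjective h := by
    rw [← LinearMap.range_eq_top, eq_top_iff, ← hspan, Submodule.span_le]
    intro m hm
    obtain ⟨a, ha⟩ := hframe m hm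
    exact ⟨fun i => (a i : K), by rw [hh, ha]⟩
  have hinj : Injective h := LinearMap.injective_iff_surjective.mpr hsurj
  let he : (Fin n → K) ≃ₗ[K] (Fin n → K) := LinearEquiv.ofBijective h ⟨hinj, hsurj⟩
  have hC2eq : ∀ x : Fin n → K, x ∈ C₂ ↔ ∃ b : Fin n → K,
      (∀ i, b i ∈ integralClosure O K) ∧ h b = x := by
    intro x
    constructor
    · intro hx
      obtain ⟨a, ha⟩ := hframe x hx
      exact ⟨fun i => (a i : K), fun i => (a i).2, by rw [hh, ha]⟩
    · rintro ⟨b, hb, rfl⟩
      rw [hh]
      exact Submodule.sum_mem _ (fun i _ => hC2s (b i) (hb i) (e i) (heC i))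
  obtain ⟨c₀, hc₀, hc₀C⟩ := exists_conductor_generator (O := O) (K := K) hdim hfin
  let g : (Fin n → K) →ₗ[O] (Fin n → K) := (c₀ • he.symm.toLinearMap).restrictScalars O
  have hg : ∀ x, g x = c₀ • he.symm x := fun x => rfl
  have hginj : Injective g := by
    intro x y hxy
    rw [hg, hg] at hxy
    exact he.symm.injective (smul_right_injective _ hc₀ hxy)
  have hgh : ∀ b, g (h b) = c₀ • b := by
    intro b
    rw [hg]
    congr 1
    exact he.symm_apply_apply b
  have hmapC2 : C₂.map g = Cn := by
    ext y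
    constructor
    · rintro ⟨x, hx, rfl⟩
      obtain ⟨b, hb, rfl⟩ := (hC2eq x).mp hx
      rw [hgh]
      intro i _
      exact (hc₀C _).mpr ⟨b i, hb i, rfl⟩
    · intro hy
      have : ∀ i, ∃ b ∈ integralClosure O K, y i = c₀ * b := fun i => (hc₀C _).mp (hy i trivial)
      choose b hb hyb using this
      refine ⟨h b, (hC2eq _).mpr ⟨b, hb, rfl⟩, ?_⟩
      rw [hgh]
      ext i
      rw [Pi.smul_apply, smul_eq_mul, hyb]
  refine ⟨M₁.map g, ?_, ?_, ⟨e₁.trans (Submodule.equivMapOfInjective g hginj M₁)⟩, ?_⟩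
  · rw [← hmapC2]
    exact Submodule.map_mono (hC2b.trans hC1M)
  · rintro _ ⟨x, hx, rfl⟩
    have hx' := h2 hx
    have h5 : c₀ • x ∈ Cn := by
      intro i _
      exact (hc₀C _).mpr ⟨x i, hx' i trivial, rfl⟩
    obtain ⟨b, hb, hbx⟩ := (hC2eq _).mp (hC2a h5)
    have h6 : g x = b := by
      rw [hg, ← map_smul, ← hbx]
      exact he.symm_apply_apply b
    rw [h6]
    intro i _
    exact hb i
  · rw [← hmapC2, length_map_quot g hginj, hlenM1C2]

end gorenstein

end Groth.Agent.Lib.Helper22.TFCurv
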