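import Mathlib
import Groth.Agent.Lib.Helper22.TFCurv3

/-!
# Number of generators of torsion-free modules over a one-dimensional local domain
-/

set_option linter.style.haveILetI false

namespace Groth.Agent.Lib.Helper22.TFCurv

open Groth.Agent.Lib.Helper22.AssocLen Function IsLocalRing Groth.Agent.Lib.Helper22.FilterReg

universe u

variable {O : Type u} [CommRing O] [IsLocalRing O]

/-- `μ(M) = ℓ(M/𝔪M)`. -/
theorem spanFinrank_eq_length (M : Type*) [AddCommGroup M] [Module O M] [Module.Finite O M] :
    ((⊤ : Submodule O M).spanFinrank : ℕ∞) =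
      Module.length O (M ⧸ (maximalIdeal O • (⊤ : Submodule O M))) := by
  haveI : IsScalarTower O (O ⧸ maximalIdeal O) (V O M) :=
    IsScalarTower.of_algebraMap_smul fun r v => mk_smul r v
  rw [← finrank_eq_spanFinrank,
    Module.length_eq_of_surjective (S := O) (R := O ⧸ maximalIdeal O) (M := V O M)
      Ideal.Quotient.mk_surjective,
    Module.length_eq_finrank]

/-- `μ(M) ≤ ℓ(M/xM)` for `x ∈ 𝔪`. -/
theorem spanFinrank_le_length_Ct (M : Type*) [AddCommGroup M] [Module O M] [Module.Finite O M]
    (x : O) (hx : x ∈ maximalIdeal O) :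
    ((⊤ : Submodule O M).spanFinrank : ℕ∞) ≤ Module.length O (Ct x M) := by
  rw [spanFinrank_eq_length]
  have hle : LinearMap.range (LinearMap.lsmul O M x) ≤
      Submodule.comap LinearMap.id (maximalIdeal O • (⊤ : Submodule O M)) := by
    rintro _ ⟨y, rfl⟩
    exact Submodule.smul_mem_smul hx trivial
  refine Module.length_le_of_surjective (Submodule.mapQ _ _ LinearMap.id hle) ?_
  intro v
  obtain ⟨y, rfl⟩ := Submodule.Quotient.mk_surjective _ v
  exact ⟨Submodule.Quotient.mk y, rfl⟩

variable [IsDomain O] [IsNoetherianRing O] (K : Type u) [Field K] [Algebra O K]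
  [IsFractionRing O K]

theorem main (hdim : ringKrullDim O = 1) (hinf : Infinite (O ⧸ maximalIdeal O))
    (hfin : Module.Finite O ↥(integralClosure O K)) (M : Type u) [AddCommGroup M] [Module O M]
    [Module.Finite O M] [NoZeroSMulDivisors O M] :
    ((⊤ : Submodule O M).spanFinrank : ℕ∞) ≤
      (Module.finrank K (TensorProduct O K M) : ℕ∞) *
        Module.length O (↥(integralClosure O K) ⧸
          (maximalIdeal O) • (⊤ : Submodule O ↥(integralClosure O K))) := by
  obtain ⟨x, hxm, hx0, hx⟩ := exists_superficial K hdim hfin hinf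
  have hrange : LinearMap.range (LinearMap.lsmul O ↥(integralClosure O K) x) =
      (maximalIdeal O) • (⊤ : Submodule O ↥(integralClosure O K)) := by
    rw [Ideal.smul_top_eq_map, ← hx]
    ext b
    simp only [LinearMap.mem_range, LinearMap.lsmul_apply, Submodule.restrictScalars_mem,
      Ideal.mem_span_singleton']
    constructor
    · rintro ⟨c, rfl⟩
      exact ⟨c, by rw [Algebra.smul_def, mul_comm]⟩
    · rintro ⟨c, rfl⟩
      exact ⟨c, by rw [Algebra.smul_def, mul_comm]⟩
  have h1 : Module.length O (↥(integralClosure O K) ⧸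
      (maximalIdeal O) • (⊤ : Submodule O ↥(integralClosure O K))) =
      Module.length O (Ct x ↥(integralClosure O K)) :=
    (Submodule.quotEquivOfEq _ _ hrange).length_eq.symm
  have h2 : Module.finrank K (TensorProduct O K M) = Module.finrank O M :=
    (TensorProduct.isBaseChange O M K).finrank_eq
  rw [h1, length_Ct_integralClosure K hdim hfin x hx0, h2, ← length_Ct_eq_mul hdim M x hx0]
  exact spanFinrank_le_length_Ct M x hxm

end Groth.Agent.Lib.Helper22.TFCurv
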