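import Mathlib
import Groth.Agent.Lib.Helper1.NilSurj
import Groth.Agent.Lib.Helper1.ThickSq

/-!
# Properness ascends along nilpotent thickenings (helper22)
-/

set_option autoImplicit false
set_option linter.unusedSectionVars false
set_option linter.style.haveILetI false
universe u
open AlgebraicGeometry CategoryTheory Limits

namespace Groth.Agent.Lib.Helper22.ThickProper

/-- If `π ≫ g` is separated with `π` surjective and universally closed, then `g` is separated. -/
theorem isSeparated_of_comp_surjective {X X' S' : Scheme.{u}} (π : X ⟶ X') (g : X' ⟶ S')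
    [UniversallyClosed π] [Surjective π] [IsSeparated (π ≫ g)] : IsSeparated g := by
  rw [isSeparated_iff]
  apply IsClosedImmersion.of_isPreimmersion
  let m : pullback (π ≫ g) (π ≫ g) ⟶ pullback g g :=
    pullback.map (π ≫ g) (π ≫ g) g g π π (𝟙 S') ((Category.comp_id _).trans rfl)
      ((Category.comp_id _).trans rfl)
  have hm : UniversallyClosed m :=
    MorphismProperty.pullbackMap (P := @UniversallyClosed) (f := π ≫ g) (g := π ≫ g)
      (f' := g) (g' := g) (i₁ := π) (i₂ := π) ‹_› ‹_› rfl rfl
  have hcomm : pullback.diagonal (π ≫ g) ≫ m = π ≫ pullback.diagonal g := by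
    apply pullback.hom_ext
    · simp only [m, Category.assoc, pullback.lift_fst, pullback.diagonal_fst]
      rw [pullback.diagonal_fst_assoc, Category.comp_id]
    · simp only [m, Category.assoc, pullback.lift_snd, pullback.diagonal_snd]
      rw [pullback.diagonal_snd_assoc, Category.comp_id]
  have hrange : Set.range (pullback.diagonal g) =
      m '' Set.range (pullback.diagonal (π ≫ g)) := by
    ext z
    constructor
    · rintro ⟨x', rfl⟩
      obtain ⟨x, rfl⟩ := Surjective.surj (f := π) x'
      refine ⟨pullback.diagonal (π ≫ g) x, ⟨x, rfl⟩, ?_⟩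
      rw [← Scheme.Hom.comp_apply, hcomm, Scheme.Hom.comp_apply]
    · rintro ⟨_, ⟨x, rfl⟩, rfl⟩
      refine ⟨π x, ?_⟩
      rw [← Scheme.Hom.comp_apply, ← hcomm, Scheme.Hom.comp_apply]
  rw [hrange]
  exact m.isClosedMap _ (pullback.diagonal (π ≫ g)).isClosedEmbedding.isClosed_range

variable {X X' Y Y' : Scheme.{u}} {iX : X ⟶ X'} {iY : Y ⟶ Y'} {f : X ⟶ Y} {f' : X' ⟶ Y'}

/-- Properness ascends along a cartesian square over a nilpotent thickening. -/
theorem isProper_of_isPullback (hc : IsPullback iX f f' iY) [IsClosedImmersion iY]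
    (hs : Function.Surjective iY)
    (hnil : ∀ U : Y'.affineOpens, IsNilpotent (RingHom.ker (iY.app U.1).hom))
    [IsProper f] : IsProper f' := by
  haveI : IsClosedImmersion iX := MorphismProperty.of_isPullback hc.flip ‹_›
  haveI : Surjective iY := ⟨hs⟩
  haveI : Surjective iX := MorphismProperty.of_isPullback (P := @Surjective) hc.flip ‹_›
  haveI : LocallyOfFiniteType f' :=
    Groth.Agent.Lib.Helper1.ThickSq.locallyOfFiniteType_of_isPullback hc hnil
  haveI : IsProper (iX ≫ f') := by
    rw [hc.w]
    infer_instance
  haveI : IsSeparated f' := isSeparated_of_comp_surjective iX f'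
  haveI : UniversallyClosed f' := UniversallyClosed.of_comp_surjective iX f'
  exact ⟨⟩

/-- Finiteness ascends along a cartesian square over a nilpotent thickening. -/
theorem isFinite_of_isPullback (hc : IsPullback iX f f' iY) [IsClosedImmersion iY]
    (hs : Function.Surjective iY)
    (hnil : ∀ U : Y'.affineOpens, IsNilpotent (RingHom.ker (iY.app U.1).hom))
    [IsFinite f] : IsFinite f' := by
  haveI : IsClosedImmersion iX := MorphismProperty.of_isPullback hc.flip ‹_›
  haveI : Surjective iY := ⟨hs⟩
  haveI : Surjective iX := MorphismProperty.of_isPullback (P := @Surjective) hc.flip ‹_›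
  haveI : IsProper f' := isProper_of_isPullback hc hs hnil
  rw [IsFinite.iff_isProper_and_locallyQuasiFinite]
  refine ⟨inferInstance, ?_⟩
  apply LocallyQuasiFinite.of_finite_preimage_singleton
  intro y'
  obtain ⟨y, rfl⟩ := hs y'
  have hfin : (f ⁻¹' {y}).Finite := f.finite_preimage_singleton y
  refine (hfin.image iX).subset ?_
  intro x' hx'
  obtain ⟨x, rfl⟩ := Surjective.surj (f := iX) x'
  refine ⟨x, ?_, rfl⟩
  have h1 : f' (iX x) = iY y := hx'
  have h2 : f' (iX x) = iY (f x) := by
    rw [← Scheme.Hom.comp_apply, ← Scheme.Hom.comp_apply, hc.w]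
  rw [h2] at h1
  exact iY.isClosedEmbedding.injective h1

end Groth.Agent.Lib.Helper22.ThickProper
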