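import Mathlib
import Groth.Agent.Lib.Helper22.ExactOrdC

/-! Torsion points of a group scheme over an algebraically closed field whose `n`-th power map is
finite étale: morphisms from connected schemes into the kernel are constant (helper22). -/

universe u

namespace Groth.Agent.Lib.Helper22.TorsGal

open AlgebraicGeometry CategoryTheory CategoryTheory.Limits MonoidalCategory
  CartesianMonoidalCategory MonObj TopologicalSpace
open Groth.Agent.Lib.Helper22.ExactOrd

/-- A morphism from a connected scheme to a finite étale scheme over an algebraically closed field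
factors through a rational point. -/
theorem exists_factor_of_etale (k : Type u) [Field k] [IsAlgClosed k] {K : Scheme.{u}}
    (f : K ⟶ Spec (CommRingCat.of k)) [IsFinite f] [Etale f]
    {T : Scheme.{u}} [ConnectedSpace T] (g : T ⟶ K) :
    ∃ a : Spec (CommRingCat.of k) ⟶ K, a ≫ f = 𝟙 _ ∧ g = (g ≫ f) ≫ a := by
  haveI : Subsingleton ↥(Spec (CommRingCat.of k)) := by
    change Subsingleton (PrimeSpectrum k)
    infer_instance
  haveI : DiscreteTopology ↥(Spec (CommRingCat.of k)) := inferInstance
  haveI : DiscreteTopology K := by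
    rw [← isDiscrete_univ_iff]
    have h := f.isDiscrete_preimage (s := Set.univ) (isDiscrete_univ_iff.mpr inferInstance)
    simpa using h
  obtain ⟨x0⟩ := (inferInstance : Nonempty T)
  have hconst : ∀ x, g.base x = g.base x0 := fun x =>
    PreconnectedSpace.constant (inferInstance : PreconnectedSpace T) g.continuous
  let a := pointOfClosedPoint f (g.base x0) (isClosed_discrete _)
  have ha : a ≫ f = 𝟙 _ := pointOfClosedPoint_comp _ _ _
  haveI : IsOpenImmersion a := isOpenImmersion_of_section f a ha
  have hrange : Set.range g.base ⊆ Set.range a.base := by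
    rintro _ ⟨x, rfl⟩
    refine ⟨IsLocalRing.closedPoint k, ?_⟩
    rw [hconst x]
    exact pointOfClosedPoint_apply _ _ _ _
  let l := IsOpenImmersion.lift a g hrange
  have hl : l ≫ a = g := IsOpenImmersion.lift_fac _ _ _
  refine ⟨a, ha, ?_⟩
  have hl2 : l = g ≫ f := by
    calc l = l ≫ a ≫ f := by rw [ha, Category.comp_id]
      _ = g ≫ f := by rw [← Category.assoc, hl]
  rw [← hl2, hl]

variable (k : Type u) [Field k] [IsAlgClosed k] (A : Over (Spec (CommRingCat.of k))) [GrpObj A]

/-- A torsion point with values in a connected scheme is constant. -/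
theorem exists_const (n : ℕ) [IsFinite (pw A n)] [Etale (pw A n)]
    (T : Over (Spec (CommRingCat.of k))) [ConnectedSpace T.left] (d : T ⟶ A) (hd : d ^ n = 1) :
    ∃ a : 𝟙_ (Over (Spec (CommRingCat.of k))) ⟶ A, a ^ n = 1 ∧ d = toUnit T ≫ a := by
  haveI : IsFinite (str A n) := by unfold str; infer_instance
  haveI : Etale (str A n) := by unfold str; infer_instance
  have hd' := (pow_eq_one_iff A d n).1 hd
  let q : T.left ⟶ Ker A n := pullback.lift d.left T.hom hd'
  have hq1 : q ≫ inc A n = d.left := pullback.lift_fst _ _ _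
  have hq2 : q ≫ str A n = T.hom := pullback.lift_snd _ _ _
  obtain ⟨a0, ha0, hfac⟩ := exists_factor_of_etale k (str A n) q
  rw [hq2] at hfac
  have ha1 : (a0 ≫ inc A n) ≫ A.hom = (𝟙_ (Over (Spec (CommRingCat.of k)))).hom := by
    rw [Category.assoc, inc_hom, ha0]
    rfl
  let a : 𝟙_ (Over (Spec (CommRingCat.of k))) ⟶ A := Over.homMk (a0 ≫ inc A n) ha1
  refine ⟨a, ?_, ?_⟩
  · rw [pow_eq_one_iff]
    change (a0 ≫ inc A n) ≫ pw A n = 𝟙 _ ≫ un A
    rw [Category.assoc, inc_pw, ← Category.assoc, ha0]
  · apply Over.OverMorphism.ext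
    change d.left = T.hom ≫ a0 ≫ inc A n
    rw [← hq1, hfac, Category.assoc]

end Groth.Agent.Lib.Helper22.TorsGal
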