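import Mathlib
import Groth.Prelude.Def_PiSp
import Groth.Agent.Lib.Helper22.TorsGalA

/-! Multiplication by `n` on a commutative group scheme over an algebraically closed field, when
finite étale, is a Galois cover with group the `n`-torsion points (helper22). -/

universe u

namespace Groth.Agent.Lib.Helper22.TorsGal

open AlgebraicGeometry CategoryTheory CategoryTheory.Limits MonoidalCategory
  CartesianMonoidalCategory MonObj GrpObj TopologicalSpace
open Groth.Agent.Lib.Helper22.ExactOrd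

variable (k : Type u) [Field k] [IsAlgClosed k] (A : Over (Spec (CommRingCat.of k))) [GrpObj A]
  [IsCommMonObj A]

/-- Translation by a rational point. -/
noncomputable def tr (a : 𝟙_ (Over (Spec (CommRingCat.of k))) ⟶ A) : A ⟶ A :=
  𝟙 A * (toUnit A ≫ a)

theorem comp_tr {T : Over (Spec (CommRingCat.of k))} (s : T ⟶ A)
    (a : 𝟙_ (Over (Spec (CommRingCat.of k))) ⟶ A) : s ≫ tr k A a = s * (toUnit T ≫ a) := by
  unfold tr
  rw [MonObj.comp_mul, Category.comp_id, ← Category.assoc, toUnit_unique (s ≫ toUnit A) (toUnit T)]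

theorem tr_comp_tr (a b : 𝟙_ (Over (Spec (CommRingCat.of k))) ⟶ A) :
    tr k A a ≫ tr k A b = tr k A (a * b) := by
  rw [comp_tr]
  unfold tr
  rw [_root_.mul_assoc, ← MonObj.comp_mul]

theorem tr_one : tr k A 1 = 𝟙 A := by
  unfold tr
  rw [MonObj.comp_one, _root_.mul_one]

theorem tr_comp_pow (a : 𝟙_ (Over (Spec (CommRingCat.of k))) ⟶ A) (n : ℕ) (ha : a ^ n = 1) :
    tr k A a ≫ (𝟙 A ^ n) = 𝟙 A ^ n := by
  rw [MonObj.comp_pow, Category.comp_id]
  unfold tr
  rw [mul_pow, ← MonObj.comp_pow, ha, MonObj.comp_one, _root_.mul_one]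

theorem tr_injective (a b : 𝟙_ (Over (Spec (CommRingCat.of k))) ⟶ A) (h : tr k A a = tr k A b) :
    a = b := by
  unfold tr at h
  have h1 : toUnit A ≫ a = toUnit A ≫ b := mul_left_cancel h
  have h2 := congrArg (fun f => η[A] ≫ f) h1
  simp only [← Category.assoc] at h2
  rw [toUnit_unique (η[A] ≫ toUnit A) (𝟙 _), Category.id_comp, Category.id_comp] at h2
  exact h2

theorem main (n : ℕ) [ConnectedSpace A.left] (χ : A ⟶ A) (hχ : χ = 𝟙 A ^ n)
    [hF : IsFinite χ.left] [hE : Etale χ.left] :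
    PiSp.IsGaloisCover (MorphismProperty.Over.mk ⊤ χ.left ⟨hF, hE⟩ : FEt.Cat A.left) ∧
      (∀ θ : Aut (MorphismProperty.Over.mk ⊤ χ.left ⟨hF, hE⟩ : FEt.Cat A.left),
        ∃! a : 𝟙_ (Over (Spec (CommRingCat.of k))) ⟶ A, a ^ (n : ℤ) = 1 ∧
          θ.hom.left = ((𝟙 A) * (toUnit A ≫ a)).left) ∧
      (∀ a : 𝟙_ (Over (Spec (CommRingCat.of k))) ⟶ A, a ^ (n : ℤ) = 1 →
        ∃ θ : Aut (MorphismProperty.Over.mk ⊤ χ.left ⟨hF, hE⟩ : FEt.Cat A.left),
          θ.hom.left = ((𝟙 A) * (toUnit A ≫ a)).left) := by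
  have hχl : χ.left = pw A n := by rw [hχ]; rfl
  haveI : IsFinite (pw A n) := hχl ▸ hF
  haveI : Etale (pw A n) := hχl ▸ hE
  -- the automorphism attached to a torsion point
  have hIII : ∀ a : 𝟙_ (Over (Spec (CommRingCat.of k))) ⟶ A, a ^ n = 1 →
      ∃ θ : Aut (MorphismProperty.Over.mk ⊤ χ.left ⟨hF, hE⟩ : FEt.Cat A.left),
        θ.hom.left = (tr k A a).left := by
    intro a ha
    have ha' : a⁻¹ ^ n = 1 := by rw [inv_pow, ha, inv_one]
    let e : A.left ≅ A.left :=
      { hom := (tr k A a).left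
        inv := (tr k A a⁻¹).left
        hom_inv_id := by
          rw [← Over.comp_left, tr_comp_tr, mul_inv_cancel, tr_one]; rfl
        inv_hom_id := by
          rw [← Over.comp_left, tr_comp_tr, inv_mul_cancel, tr_one]; rfl }
    refine ⟨MorphismProperty.Over.isoMk e ?_, ?_⟩
    · change (tr k A a).left ≫ χ.left = χ.left
      rw [← Over.comp_left, hχ, tr_comp_pow k A a n ha]
    · rfl
  refine ⟨⟨?_, ?_⟩, ?_, ?_⟩
  · change ConnectedSpace A.left
    infer_instance
  · intro Ω _ _ ξ s t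
    obtain ⟨s0, hs0⟩ := s
    obtain ⟨t0, ht0⟩ := t
    let s1 : Spec (CommRingCat.of Ω) ⟶ A.left := s0
    let t1 : Spec (CommRingCat.of Ω) ⟶ A.left := t0
    have hs : s1 ≫ χ.left = ξ := hs0
    have ht : t1 ≫ χ.left = ξ := ht0
    have hχA : χ.left ≫ A.hom = A.hom := Over.w χ
    let T : Over (Spec (CommRingCat.of k)) := Over.mk (ξ ≫ A.hom)
    have hsA : s1 ≫ A.hom = ξ ≫ A.hom := by
      calc s1 ≫ A.hom = (s1 ≫ χ.left) ≫ A.hom := by rw [Category.assoc, hχA]
        _ = ξ ≫ A.hom := by rw [hs]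
    have htA : t1 ≫ A.hom = ξ ≫ A.hom := by
      calc t1 ≫ A.hom = (t1 ≫ χ.left) ≫ A.hom := by rw [Category.assoc, hχA]
        _ = ξ ≫ A.hom := by rw [ht]
    let s' : T ⟶ A := Over.homMk s1 hsA
    let t' : T ⟶ A := Over.homMk t1 htA
    have hst : s' ^ n = t' ^ n := by
      have h1 : s' ^ n = s' ≫ (𝟙 A ^ n) := by rw [MonObj.comp_pow, Category.comp_id]
      have h2 : t' ^ n = t' ≫ (𝟙 A ^ n) := by rw [MonObj.comp_pow, Category.comp_id]
      rw [h1, h2, ← hχ]
      apply Over.OverMorphism.ext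
      change s1 ≫ χ.left = t1 ≫ χ.left
      rw [hs, ht]
    have hd : (t' * s'⁻¹) ^ n = 1 := by
      rw [mul_pow, inv_pow, hst, mul_inv_cancel]
    haveI : ConnectedSpace T.left := by
      change ConnectedSpace ↥(Spec (CommRingCat.of Ω))
      haveI : Subsingleton ↥(Spec (CommRingCat.of Ω)) := by
        change Subsingleton (PrimeSpectrum Ω)
        infer_instance
      exact { toPreconnectedSpace := ⟨Set.subsingleton_univ.isPreconnected⟩
              toNonempty := ⟨IsLocalRing.closedPoint Ω⟩ }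
    obtain ⟨a, ha, hda⟩ := exists_const k A n T (t' * s'⁻¹) hd
    obtain ⟨θ, hθ⟩ := hIII a ha
    refine ⟨θ, ?_⟩
    apply Subtype.ext
    change s1 ≫ θ.hom.left = t1
    rw [hθ]
    have h3 : s' ≫ tr k A a = t' := by
      rw [comp_tr, ← hda, mul_comm, _root_.mul_assoc, inv_mul_cancel, _root_.mul_one]
    exact congrArg (fun f => CommaMorphism.left f) h3
  · intro θ
    let θ0 : A.left ⟶ A.left := θ.hom.left
    have hθw : θ0 ≫ χ.left = χ.left := MorphismProperty.Over.w θ.hom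
    have hχA : χ.left ≫ A.hom = A.hom := Over.w χ
    have hθA : θ0 ≫ A.hom = A.hom := by
      calc θ0 ≫ A.hom = (θ0 ≫ χ.left) ≫ A.hom := by rw [Category.assoc, hχA]
        _ = A.hom := by rw [hθw, hχA]
    let Θ : A ⟶ A := Over.homMk θ0 hθA
    have hΘ : Θ ^ n = 𝟙 A ^ n := by
      have h1 : Θ ^ n = Θ ≫ (𝟙 A ^ n) := by rw [MonObj.comp_pow, Category.comp_id]
      rw [h1, ← hχ]
      apply Over.OverMorphism.ext
      exact hθw
    have hd : (Θ * (𝟙 A)⁻¹) ^ n = 1 := by
      rw [mul_pow, inv_pow, hΘ, mul_inv_cancel]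
    obtain ⟨a, ha, hda⟩ := exists_const k A n A (Θ * (𝟙 A)⁻¹) hd
    have hΘa : Θ = tr k A a := by
      unfold tr
      rw [← hda, mul_comm, _root_.mul_assoc, inv_mul_cancel, _root_.mul_one]
    refine ⟨a, ⟨?_, ?_⟩, ?_⟩
    · rw [zpow_natCast]; exact ha
    · change Θ.left = (tr k A a).left
      rw [hΘa]
    · rintro b ⟨-, hb⟩
      apply tr_injective k A
      rw [← hΘa]
      apply Over.OverMorphism.ext
      exact hb.symm
  · intro a ha
    rw [zpow_natCast] at ha
    exact hIII a ha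

end Groth.Agent.Lib.Helper22.TorsGal
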