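import Mathlib
import Groth.Prelude.Def_GLin

/-!
# Weight decomposition of comodules over a group algebra `k[Λ]` (helper22)

For a comodule `V` over `AddMonoidAlgebra k Λ`:
* `wt w : V ⊗ k[Λ] → V`, the `w`-coefficient; `proj k w = wt w ∘ coact`;
* `expand`: `z = Σ_w wt w z ⊗ single w 1`;
* `coact_proj`: `proj k w v` is an eigenvector of weight `w`;
* `sum_proj`: `v = Σ_w proj k w v`;
* `proj_of_mem`: `proj k w v = if w = u then v else 0` for `v` of weight `u`.
For a coaction algebra `R`: `mul_mem_eigenspace`, `proj_mul_of_mem`, `coeff_orbitHom`.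
-/

set_option autoImplicit false
universe u v w

open TensorProduct

namespace Groth.Agent.Lib.Helper22.TorusWt

variable {k : Type u} [CommRing k] {Λ : Type v} [AddCommGroup Λ]
variable {V : Type w} [AddCommGroup V] [Module k V]


/-- The `w`-coefficient `V ⊗ k[Λ] → V`. -/
noncomputable def wt (w : Λ) : V ⊗[k] (AddMonoidAlgebra k Λ) →ₗ[k] V :=
  (TensorProduct.rid k V).toLinearMap ∘ₗ ((AddMonoidAlgebra.basis Λ k).coord w).lTensor V

theorem coord_apply (w : Λ) (a : (AddMonoidAlgebra k Λ)) : (AddMonoidAlgebra.basis Λ k).coord w a = a.coeff w := rfl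

@[simp] theorem wt_tmul (w : Λ) (v : V) (a : (AddMonoidAlgebra k Λ)) : wt w (v ⊗ₜ[k] a) = a.coeff w • v := by
  simp only [wt, LinearMap.comp_apply, LinearMap.lTensor_tmul, LinearEquiv.coe_coe,
    TensorProduct.rid_tmul, coord_apply]

theorem wt_tmul_single (w u : Λ) (v : V) (c : k) [Decidable (u = w)] :
    wt w (v ⊗ₜ[k] (AddMonoidAlgebra.single u c : (AddMonoidAlgebra k Λ))) = if u = w then c • v else 0 := by
  classical
  rw [wt_tmul, AddMonoidAlgebra.coeff_single_apply]
  split_ifs <;> simp

/-- The coefficient family of an element of `V ⊗ k[Λ]`. -/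
noncomputable def coeffs (z : V ⊗[k] (AddMonoidAlgebra k Λ)) : Λ →₀ V := by
  classical
  exact TensorProduct.equivFinsuppOfBasisRight (AddMonoidAlgebra.basis Λ k) z

theorem coeffs_apply (z : V ⊗[k] (AddMonoidAlgebra k Λ)) (w : Λ) : coeffs z w = wt w z := by
  classical
  unfold coeffs wt
  rw [TensorProduct.equivFinsuppOfBasisRight_apply]
  rfl

theorem expand (z : V ⊗[k] (AddMonoidAlgebra k Λ)) :
    z = (coeffs z).sum (fun w m => m ⊗ₜ[k] (AddMonoidAlgebra.single w (1 : k) : (AddMonoidAlgebra k Λ))) := by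
  classical
  have h := (TensorProduct.equivFinsuppOfBasisRight (M := V) (AddMonoidAlgebra.basis Λ k)).symm_apply_apply z
  conv_lhs => rw [← h]
  rw [TensorProduct.equivFinsuppOfBasisRight_symm_apply]
  rfl


/-- Coefficient extraction from `(id ⊗ Δ) z`. -/
theorem wt_assoc_symm_comul (w : Λ) (z : V ⊗[k] (AddMonoidAlgebra k Λ)) :
    wt (V := V ⊗[k] (AddMonoidAlgebra k Λ)) w ((TensorProduct.assoc k V (AddMonoidAlgebra k Λ) (AddMonoidAlgebra k Λ)).symm
      ((Coalgebra.comul (R := k) (A := (AddMonoidAlgebra k Λ))).lTensor V z)) =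
      wt w z ⊗ₜ[k] (AddMonoidAlgebra.single w (1 : k) : (AddMonoidAlgebra k Λ)) := by
  classical
  induction z using TensorProduct.induction_on with
  | zero => simp
  | add x y hx hy => simp only [map_add, hx, hy, TensorProduct.add_tmul]
  | tmul v a =>
    induction a using AddMonoidAlgebra.induction_linear with
    | zero => simp
    | add x y hx hy =>
      simp only [TensorProduct.tmul_add, map_add, hx, hy, TensorProduct.add_tmul]
    | single u c =>
      rw [LinearMap.lTensor_tmul, AddMonoidAlgebra.comul_single, CommSemiring.comul_apply,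
        TensorProduct.map_tmul, TensorProduct.assoc_symm_tmul, wt_tmul_single, wt_tmul]
      simp only [AddMonoidAlgebra.lsingle_apply, AddMonoidAlgebra.coeff_single_apply]
      split_ifs with h
      · subst h
        rw [TensorProduct.smul_tmul']
      · simp

section Comod

variable [HopfRep.Comod k (AddMonoidAlgebra k Λ) V]

variable (k) in
/-- The projection to the weight-`w` part. -/
noncomputable def proj (w : Λ) : V →ₗ[k] V := wt w ∘ₗ HopfRep.Comod.coact (k := k) (A := (AddMonoidAlgebra k Λ))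

theorem proj_apply (w : Λ) (v : V) :
    proj k w v = wt w (HopfRep.Comod.coact (k := k) (A := (AddMonoidAlgebra k Λ)) v) := rfl

theorem wt_rTensor_coact (w : Λ) (z : V ⊗[k] (AddMonoidAlgebra k Λ)) :
    wt (V := V ⊗[k] (AddMonoidAlgebra k Λ)) w ((HopfRep.Comod.coact (k := k) (A := (AddMonoidAlgebra k Λ))).rTensor (AddMonoidAlgebra k Λ) z) =
      HopfRep.Comod.coact (k := k) (A := (AddMonoidAlgebra k Λ)) (wt w z) := by
  induction z using TensorProduct.induction_on with
  | zero => simp
  | add x y hx hy => simp only [map_add, hx, hy]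
  | tmul v a => rw [LinearMap.rTensor_tmul, wt_tmul, wt_tmul, map_smul]

/-- `proj k w v` is an eigenvector of weight `w`. -/
theorem coact_proj (w : Λ) (v : V) :
    HopfRep.Comod.coact (k := k) (A := (AddMonoidAlgebra k Λ)) (proj k w v) =
      proj k w v ⊗ₜ[k] (AddMonoidAlgebra.single w (1 : k) : (AddMonoidAlgebra k Λ)) := by
  have hco : TensorProduct.assoc k V (AddMonoidAlgebra k Λ) (AddMonoidAlgebra k Λ)
      (((HopfRep.Comod.coact (k := k) (A := (AddMonoidAlgebra k Λ))).rTensor (AddMonoidAlgebra k Λ))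
        (HopfRep.Comod.coact (k := k) (A := (AddMonoidAlgebra k Λ)) v)) =
      ((Coalgebra.comul (R := k) (A := (AddMonoidAlgebra k Λ))).lTensor V) (HopfRep.Comod.coact (k := k) (A := (AddMonoidAlgebra k Λ)) v) := by
    have := LinearMap.congr_fun (HopfRep.Comod.coassoc (k := k) (A := (AddMonoidAlgebra k Λ)) (V := V)) v
    exact this
  rw [proj_apply, ← wt_rTensor_coact, ← wt_assoc_symm_comul, ← hco, LinearEquiv.symm_apply_apply]

theorem proj_mem_eigenspace (w : Λ) (v : V) :
    proj k w v ∈ HopfRep.eigenspace k (AddMonoidAlgebra k Λ) V (AddMonoidAlgebra.single w (1 : k)) :=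
  coact_proj w v

variable (k Λ) in
/-- The finitely supported family of weight components. -/
noncomputable def comps (v : V) : Λ →₀ V := coeffs (HopfRep.Comod.coact (k := k) (A := (AddMonoidAlgebra k Λ)) v)

theorem comps_apply (v : V) (w : Λ) : comps k Λ v w = proj k w v := coeffs_apply _ w

theorem coact_eq_sum (v : V) :
    HopfRep.Comod.coact (k := k) (A := (AddMonoidAlgebra k Λ)) v =
      (comps k Λ v).sum (fun w m => m ⊗ₜ[k] (AddMonoidAlgebra.single w (1 : k) : (AddMonoidAlgebra k Λ))) :=
  expand _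

/-- `v` is the sum of its weight components. -/
theorem sum_proj (v : V) : v = (comps k Λ v).sum (fun _ m => m) := by
  have h := LinearMap.congr_fun (HopfRep.Comod.counit_comp (k := k) (A := (AddMonoidAlgebra k Λ)) (V := V)) v
  have h2 : ((CoalgebraStruct.counit (R := k) (A := (AddMonoidAlgebra k Λ))).lTensor V)
      (HopfRep.Comod.coact (k := k) (A := (AddMonoidAlgebra k Λ)) v) = v ⊗ₜ[k] (1 : k) := h
  rw [coact_eq_sum, Finsupp.sum, map_sum] at h2
  have h3 := congrArg (TensorProduct.rid k V) h2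
  rw [map_sum, TensorProduct.rid_tmul, one_smul] at h3
  refine h3.symm.trans ?_
  rw [Finsupp.sum]
  apply Finset.sum_congr rfl
  intro w _
  rw [LinearMap.lTensor_tmul, TensorProduct.rid_tmul]
  have : (CoalgebraStruct.counit (R := k) (A := (AddMonoidAlgebra k Λ))) (AddMonoidAlgebra.single w (1 : k)) = 1 := by
    rw [AddMonoidAlgebra.counit_single]
    rfl
  rw [this, one_smul]

/-- Projection of an eigenvector. -/
theorem proj_of_mem (w u : Λ) (v : V)
    (hv : v ∈ HopfRep.eigenspace k (AddMonoidAlgebra k Λ) V (AddMonoidAlgebra.single u (1 : k))) [Decidable (u = w)] :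
    proj k w v = if u = w then v else 0 := by
  have hv' : HopfRep.Comod.coact (k := k) (A := (AddMonoidAlgebra k Λ)) v =
      v ⊗ₜ[k] (AddMonoidAlgebra.single u (1 : k) : (AddMonoidAlgebra k Λ)) := hv
  rw [proj_apply, hv', wt_tmul_single, one_smul]

theorem proj_self_of_mem (u : Λ) (v : V)
    (hv : v ∈ HopfRep.eigenspace k (AddMonoidAlgebra k Λ) V (AddMonoidAlgebra.single u (1 : k))) : proj k u v = v := by
  classical
  rw [proj_of_mem u u v hv, if_pos rfl]

theorem proj_of_mem_of_ne (w u : Λ) (v : V)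
    (hv : v ∈ HopfRep.eigenspace k (AddMonoidAlgebra k Λ) V (AddMonoidAlgebra.single u (1 : k))) (h : u ≠ w) :
    proj k w v = 0 := by
  classical
  rw [proj_of_mem w u v hv, if_neg h]

/-- `f - proj u f` lies in any additive subgroup containing all eigenvectors of weight `≠ u`. -/
theorem sub_proj_mem (N : AddSubgroup V) (u : Λ)
    (hN : ∀ w : Λ, w ≠ u → ∀ g ∈ HopfRep.eigenspace k (AddMonoidAlgebra k Λ) V
      (AddMonoidAlgebra.single w (1 : k)), g ∈ N) (f : V) : f - proj k u f ∈ N := by
  classical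
  have hf := sum_proj (k := k) (Λ := Λ) f
  have hs : (comps k Λ f).support ⊆ insert u (comps k Λ f).support := Finset.subset_insert _ _
  rw [Finsupp.sum_of_support_subset _ hs _ (fun _ _ => rfl),
    ← Finset.add_sum_erase _ _ (Finset.mem_insert_self _ _), comps_apply] at hf
  have h2 : f - proj k u f = ∑ w ∈ (insert u (comps k Λ f).support).erase u, (comps k Λ f) w := by
    rw [sub_eq_iff_eq_add']
    exact hf
  rw [h2]
  apply AddSubgroup.sum_mem
  intro w hw
  rw [comps_apply]
  exact hN w (Finset.mem_erase.mp hw).1 _ (proj_mem_eigenspace w f)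

end Comod


section CoactAlg

variable {R : Type w} [CommRing R] [Algebra k R] [HopfRep.Comod k (AddMonoidAlgebra k Λ) R]
  [GLin.IsCoactAlg k (AddMonoidAlgebra k Λ) R]

theorem mul_mem_eigenspace {u v : Λ} {f g : R}
    (hf : f ∈ HopfRep.eigenspace k (AddMonoidAlgebra k Λ) R (AddMonoidAlgebra.single u (1 : k)))
    (hg : g ∈ HopfRep.eigenspace k (AddMonoidAlgebra k Λ) R (AddMonoidAlgebra.single v (1 : k))) :
    f * g ∈ HopfRep.eigenspace k (AddMonoidAlgebra k Λ) R (AddMonoidAlgebra.single (u + v) (1 : k)) := by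
  have hf' : HopfRep.Comod.coact (k := k) (A := (AddMonoidAlgebra k Λ)) f =
      f ⊗ₜ[k] (AddMonoidAlgebra.single u (1 : k) : AddMonoidAlgebra k Λ) := hf
  have hg' : HopfRep.Comod.coact (k := k) (A := (AddMonoidAlgebra k Λ)) g =
      g ⊗ₜ[k] (AddMonoidAlgebra.single v (1 : k) : AddMonoidAlgebra k Λ) := hg
  show HopfRep.Comod.coact (k := k) (A := (AddMonoidAlgebra k Λ)) (f * g) = _
  rw [GLin.IsCoactAlg.coact_mul, hf', hg', Algebra.TensorProduct.tmul_mul_tmul,
    AddMonoidAlgebra.single_mul_single, mul_one]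

theorem one_mem_eigenspace :
    (1 : R) ∈ HopfRep.eigenspace k (AddMonoidAlgebra k Λ) R (AddMonoidAlgebra.single (0 : Λ) (1 : k)) := by
  show HopfRep.Comod.coact (k := k) (A := (AddMonoidAlgebra k Λ)) (1 : R) = _
  rw [GLin.IsCoactAlg.coact_one (k := k) (A := AddMonoidAlgebra k Λ) (R := R),
    Algebra.TensorProduct.one_def, AddMonoidAlgebra.one_def]

theorem wt_mul_tmul_single (w v : Λ) (g : R) (z : R ⊗[k] (AddMonoidAlgebra k Λ)) :
    wt w (z * (g ⊗ₜ[k] (AddMonoidAlgebra.single v (1 : k) : AddMonoidAlgebra k Λ))) =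
      wt (w - v) z * g := by
  classical
  induction z using TensorProduct.induction_on with
  | zero => simp
  | add x y hx hy => simp only [add_mul, map_add, hx, hy]
  | tmul r a =>
    induction a using AddMonoidAlgebra.induction_linear with
    | zero => simp
    | add x y hx hy => simp only [TensorProduct.tmul_add, add_mul, map_add, hx, hy]
    | single u c =>
      rw [Algebra.TensorProduct.tmul_mul_tmul, AddMonoidAlgebra.single_mul_single, mul_one,
        wt_tmul_single, wt_tmul_single]
      by_cases h : u + v = w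
      · rw [if_pos h, if_pos (eq_sub_of_add_eq h), smul_mul_assoc]
      · rw [if_neg h, if_neg (fun h' => h (by rw [h', sub_add_cancel])), zero_mul]

/-- `proj w (f * g) = proj (w - v) f * g` for `g` of weight `v`. -/
theorem proj_mul_of_mem (w v : Λ) (f g : R)
    (hg : g ∈ HopfRep.eigenspace k (AddMonoidAlgebra k Λ) R (AddMonoidAlgebra.single v (1 : k))) :
    proj k w (f * g) = proj k (w - v) f * g := by
  have hg' : HopfRep.Comod.coact (k := k) (A := (AddMonoidAlgebra k Λ)) g =
      g ⊗ₜ[k] (AddMonoidAlgebra.single v (1 : k) : AddMonoidAlgebra k Λ) := hg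
  rw [proj_apply, GLin.IsCoactAlg.coact_mul, hg', wt_mul_tmul_single, ← proj_apply]

/-- Coefficients of the orbit map. -/
theorem coeff_orbitHom (x : R →ₐ[k] k) (f : R) (w : Λ) :
    (GLin.orbitHom k (AddMonoidAlgebra k Λ) x f).coeff w = x (proj k w f) := by
  have key : ∀ z : R ⊗[k] (AddMonoidAlgebra k Λ),
      ((Algebra.TensorProduct.lid k (AddMonoidAlgebra k Λ))
        ((Algebra.TensorProduct.map x (AlgHom.id k (AddMonoidAlgebra k Λ))) z)).coeff w =
        x (wt w z) := by
    intro z
    induction z using TensorProduct.induction_on with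
    | zero => simp
    | add y y' hy hy' => simp only [map_add, AddMonoidAlgebra.coeff_add, Finsupp.add_apply, hy, hy']
    | tmul r a =>
      rw [Algebra.TensorProduct.map_tmul, Algebra.TensorProduct.lid_tmul, wt_tmul, map_smul,
        AddMonoidAlgebra.coeff_smul, Finsupp.smul_apply, smul_eq_mul, smul_eq_mul, mul_comm]
      rfl
  exact key _

section Positive

variable (hpos : ∀ w : Λ,
  HopfRep.eigenspace k (AddMonoidAlgebra k Λ) R (AddMonoidAlgebra.single w (1 : k)) ≠ ⊥ →
  HopfRep.eigenspace k (AddMonoidAlgebra k Λ) R (AddMonoidAlgebra.single (-w) (1 : k)) ≠ ⊥ → w = 0)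

include hpos

theorem mul_eq_zero_of_pos {v : Λ} (hv : v ≠ 0) {f g : R}
    (hf : f ∈ HopfRep.eigenspace k (AddMonoidAlgebra k Λ) R (AddMonoidAlgebra.single (-v) (1 : k)))
    (hg : g ∈ HopfRep.eigenspace k (AddMonoidAlgebra k Λ) R (AddMonoidAlgebra.single v (1 : k))) :
    f * g = 0 := by
  by_cases hg0 : g = 0
  · rw [hg0, mul_zero]
  by_cases hf0 : f = 0
  · rw [hf0, zero_mul]
  exfalso
  apply hv
  apply hpos v
  · intro hbot
    rw [hbot, Submodule.mem_bot] at hg
    exact hg0 hg
  · intro hbot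
    rw [hbot, Submodule.mem_bot] at hf
    exact hf0 hf

theorem proj_zero_mul_of_mem {v : Λ} (hv : v ≠ 0) (f g : R)
    (hg : g ∈ HopfRep.eigenspace k (AddMonoidAlgebra k Λ) R (AddMonoidAlgebra.single v (1 : k))) :
    proj k (0 : Λ) (f * g) = 0 := by
  rw [proj_mul_of_mem 0 v f g hg, zero_sub]
  exact mul_eq_zero_of_pos hpos hv (proj_mem_eigenspace (-v) f) hg

/-- For a positive grading the degree-zero projection is multiplicative. -/
theorem proj_zero_mul (f g : R) : proj k (0 : Λ) (f * g) = proj k (0 : Λ) f * proj k (0 : Λ) g := by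
  classical
  have hg := sum_proj (k := k) (Λ := Λ) g
  conv_lhs => rw [hg]
  rw [Finsupp.sum, Finset.mul_sum, map_sum, Finset.sum_eq_single (0 : Λ)]
  · rw [comps_apply, proj_mul_of_mem 0 0 f _ (proj_mem_eigenspace 0 g), sub_zero]
  · intro v _ hv
    rw [comps_apply]
    exact proj_zero_mul_of_mem hpos hv f _ (proj_mem_eigenspace v g)
  · intro h0
    rw [Finsupp.notMem_support_iff] at h0
    rw [h0, mul_zero, map_zero]

end Positive

end CoactAlg

end Groth.Agent.Lib.Helper22.TorusWt
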