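import Mathlib

/-!
# Equivariant endomorphisms and linearizations of a trivial principal bundle (formal part)
-/

set_option autoImplicit false
universe v u

open CategoryTheory MonoidalCategory CartesianMonoidalCategory MonObj GrpObj Limits

namespace Groth.Agent.Lib.Helper22.TrivBundle

variable {C : Type u} [Category.{v} C] [CartesianMonoidalCategory C]

/-- Morphisms out of a product are determined by their values on points. -/
theorem hom_ext_pts {X G B : C} (f g : X ⊗ G ⟶ B)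
    (h : ∀ (T : C) (x : T ⟶ X) (g' : T ⟶ G), lift x g' ≫ f = lift x g' ≫ g) : f = g := by
  have := h _ (fst X G) (snd X G)
  simpa using this

variable {X G : C} [GrpObj G]

/-- An equivariant endomorphism of the trivial bundle over `X` is left multiplication by a
map `X ⟶ G`. -/
theorem exists_hom_eq_mul (Φ : X ⊗ G ⟶ X ⊗ G) (h₁ : Φ ≫ fst X G = fst X G)
    (h₂ : ∀ (T : C) (x : T ⟶ X) (g h : T ⟶ G),
      lift x (g * h) ≫ Φ ≫ snd X G = (lift x g ≫ Φ ≫ snd X G) * h) :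
    ∃ φ : X ⟶ G, ∀ (T : C) (x : T ⟶ X) (g : T ⟶ G),
      lift x g ≫ Φ = lift x ((x ≫ φ) * g) := by
  refine ⟨lift (𝟙 X) (1 : X ⟶ G) ≫ Φ ≫ snd X G, fun T x g => ?_⟩
  apply CartesianMonoidalCategory.hom_ext
  · rw [Category.assoc, h₁, lift_fst, lift_fst]
  · rw [Category.assoc, lift_snd]
    have h := h₂ T x 1 g
    rw [_root_.one_mul] at h
    have e : lift x (1 : T ⟶ G) = x ≫ lift (𝟙 X) (1 : X ⟶ G) := by
      rw [comp_lift, Category.comp_id, MonObj.comp_one]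
    rw [h, e]
    simp only [Category.assoc]

/-- The point-wise formula for a twisted translation. -/
theorem lam_eq (ρ : X ⟶ X) (φ : X ⟶ G) (lam : X ⊗ G ⟶ X ⊗ G)
    (hlam : ∀ (T : C) (x : T ⟶ X) (g : T ⟶ G),
      lift x g ≫ lam = lift (x ≫ ρ) ((x ≫ φ)⁻¹ * g)) :
    lam = lift (fst X G ≫ ρ) ((fst X G ≫ φ)⁻¹ * snd X G) := by
  have := hlam _ (fst X G) (snd X G)
  simpa using this

section Linearization

variable {Γ : Type*} [Group Γ] (ρ : Γ → (X ⟶ X)) (hρ₁ : ρ 1 = 𝟙 X)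
  (hρ : ∀ σ τ : Γ, ρ (σ * τ) = ρ σ ≫ ρ τ)

include hρ₁ in
theorem cocycle_one (φ : Γ → (X ⟶ G)) (hφ : ∀ σ τ : Γ, φ (σ * τ) = φ σ * (ρ σ ≫ φ τ)) :
    φ 1 = 1 := by
  have := hφ 1 1
  rw [_root_.mul_one, hρ₁, Category.id_comp] at this
  exact (mul_eq_left.mp this.symm)

include hρ₁ hρ in
theorem linearization_of_cocycle (φ : Γ → (X ⟶ G))
    (hφ : ∀ σ τ : Γ, φ (σ * τ) = φ σ * (ρ σ ≫ φ τ))
    (lam : Γ → (X ⊗ G ⟶ X ⊗ G))
    (hlam : ∀ (σ : Γ) (T : C) (x : T ⟶ X) (g : T ⟶ G),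
      lift x g ≫ lam σ = lift (x ≫ ρ σ) ((x ≫ φ σ)⁻¹ * g)) :
    lam 1 = 𝟙 (X ⊗ G) ∧ (∀ σ τ : Γ, lam (σ * τ) = lam σ ≫ lam τ) ∧
      (∀ σ : Γ, lam σ ≫ fst X G = fst X G ≫ ρ σ) ∧
      ∀ (σ : Γ) (T : C) (x : T ⟶ X) (g h : T ⟶ G),
        lift x (g * h) ≫ lam σ ≫ snd X G = (lift x g ≫ lam σ ≫ snd X G) * h := by
  refine ⟨?_, ?_, ?_, ?_⟩
  · apply hom_ext_pts
    intro T x g
    rw [hlam, hρ₁, cocycle_one ρ hρ₁ φ hφ, Category.comp_id, Category.comp_id, MonObj.comp_one,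
      inv_one, _root_.one_mul]
  · intro σ τ
    apply hom_ext_pts
    intro T x g
    rw [hlam, ← Category.assoc, hlam, hlam, hρ, hφ, Category.assoc, MonObj.comp_mul, _root_.mul_inv_rev,
      _root_.mul_assoc, Category.assoc]
  · intro σ
    apply hom_ext_pts
    intro T x g
    rw [← Category.assoc, hlam, lift_fst, lift_fst_assoc]
  · intro σ T x g h
    rw [← Category.assoc, hlam, lift_snd, ← Category.assoc, hlam, lift_snd, _root_.mul_assoc]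

theorem existsUnique_cocycle (lam : Γ → (X ⊗ G ⟶ X ⊗ G)) (hlam₁ : lam 1 = 𝟙 (X ⊗ G))
    (hlam : ∀ σ τ : Γ, lam (σ * τ) = lam σ ≫ lam τ)
    (hfst : ∀ σ : Γ, lam σ ≫ fst X G = fst X G ≫ ρ σ)
    (hG : ∀ (σ : Γ) (T : C) (x : T ⟶ X) (g h : T ⟶ G),
      lift x (g * h) ≫ lam σ ≫ snd X G = (lift x g ≫ lam σ ≫ snd X G) * h) :
    ∃! φ : Γ → (X ⟶ G), (∀ σ τ : Γ, φ (σ * τ) = φ σ * (ρ σ ≫ φ τ)) ∧
      ∀ (σ : Γ) (T : C) (x : T ⟶ X) (g : T ⟶ G),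
        lift x g ≫ lam σ = lift (x ≫ ρ σ) ((x ≫ φ σ)⁻¹ * g) := by
  -- the candidate
  let ψ : Γ → (X ⟶ G) := fun σ => lift (𝟙 X) (1 : X ⟶ G) ≫ lam σ ≫ snd X G
  have hpt : ∀ (σ : Γ) (T : C) (x : T ⟶ X) (g : T ⟶ G),
      lift x g ≫ lam σ = lift (x ≫ ρ σ) ((x ≫ ψ σ) * g) := by
    intro σ T x g
    apply CartesianMonoidalCategory.hom_ext
    · rw [Category.assoc, hfst, lift_fst_assoc, lift_fst]
    · rw [Category.assoc, lift_snd]
      have h := hG σ T x 1 g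
      rw [_root_.one_mul] at h
      have e : lift x (1 : T ⟶ G) = x ≫ lift (𝟙 X) (1 : X ⟶ G) := by
        rw [comp_lift, Category.comp_id, MonObj.comp_one]
      rw [h, e]
      simp only [ψ, Category.assoc]
  have hψmul : ∀ σ τ : Γ, ψ (σ * τ) = (ρ σ ≫ ψ τ) * ψ σ := by
    intro σ τ
    have h1 := hpt (σ * τ) X (𝟙 X) 1
    rw [hlam, ← Category.assoc, hpt σ, hpt τ] at h1
    have h2 := congrArg (fun f => f ≫ snd X G) h1
    simp only [lift_snd, Category.id_comp, _root_.mul_one] at h2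
    exact h2.symm
  refine ⟨fun σ => (ψ σ)⁻¹, ⟨?_, ?_⟩, ?_⟩
  · intro σ τ
    simp only
    rw [hψmul, _root_.mul_inv_rev, GrpObj.comp_inv]
  · intro σ T x g
    simp only
    rw [GrpObj.comp_inv, _root_.inv_inv, hpt]
  · rintro φ' ⟨-, hφ'⟩
    funext σ
    have h1 := hφ' σ X (𝟙 X) 1
    rw [hpt] at h1
    have h2 := congrArg (fun f => f ≫ snd X G) h1
    simp only [lift_snd, Category.id_comp, _root_.mul_one] at h2
    rw [h2, _root_.inv_inv]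

omit [Group Γ] in
/-- Two twisted translations are intertwined by a bundle automorphism iff the cocycles are
cohomologous. -/
theorem iso_iff_cohomologous (φ φ' : Γ → (X ⟶ G)) (lam lam' : Γ → (X ⊗ G ⟶ X ⊗ G))
    (hlam : ∀ (σ : Γ) (T : C) (x : T ⟶ X) (g : T ⟶ G),
      lift x g ≫ lam σ = lift (x ≫ ρ σ) ((x ≫ φ σ)⁻¹ * g))
    (hlam' : ∀ (σ : Γ) (T : C) (x : T ⟶ X) (g : T ⟶ G),
      lift x g ≫ lam' σ = lift (x ≫ ρ σ) ((x ≫ φ' σ)⁻¹ * g)) :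
    (∃ Φ : X ⊗ G ⟶ X ⊗ G, IsIso Φ ∧ Φ ≫ fst X G = fst X G ∧
      (∀ (T : C) (x : T ⟶ X) (g h : T ⟶ G),
        lift x (g * h) ≫ Φ ≫ snd X G = (lift x g ≫ Φ ≫ snd X G) * h) ∧
      ∀ σ : Γ, lam σ ≫ Φ = Φ ≫ lam' σ) ↔
    ∃ ψ : X ⟶ G, ∀ σ : Γ, φ σ = ψ⁻¹ * φ' σ * (ρ σ ≫ ψ) := by
  constructor
  · rintro ⟨Φ, -, h₁, h₂, h₃⟩
    obtain ⟨ψ, hψ⟩ := exists_hom_eq_mul Φ h₁ h₂
    refine ⟨ψ, fun σ => ?_⟩
    have h : lift (𝟙 X) (1 : X ⟶ G) ≫ (lam σ ≫ Φ) ≫ snd X G =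
        lift (𝟙 X) (1 : X ⟶ G) ≫ (Φ ≫ lam' σ) ≫ snd X G := by rw [h₃ σ]
    rw [Category.assoc, Category.assoc, ← Category.assoc, ← Category.assoc, hlam, hψ, lift_snd, ← Category.assoc,
      ← Category.assoc, hψ, hlam', lift_snd] at h
    simp only [Category.id_comp, _root_.mul_one] at h
    -- h : (ρ σ ≫ ψ) * (φ σ)⁻¹ = (φ' σ)⁻¹ * ψ
    have h' : (φ σ)⁻¹ = (ρ σ ≫ ψ)⁻¹ * ((φ' σ)⁻¹ * ψ) := by
      rw [← h, inv_mul_cancel_left]
    have := congrArg (fun a => a⁻¹) h'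
    simp only [_root_.inv_inv, _root_.mul_inv_rev] at this
    rw [this, _root_.mul_assoc]
  · rintro ⟨ψ, hψ⟩
    let Φ : X ⊗ G ⟶ X ⊗ G := lift (fst X G) ((fst X G ≫ ψ) * snd X G)
    let Φ' : X ⊗ G ⟶ X ⊗ G := lift (fst X G) ((fst X G ≫ ψ)⁻¹ * snd X G)
    have hΦ : ∀ (T : C) (x : T ⟶ X) (g : T ⟶ G), lift x g ≫ Φ = lift x ((x ≫ ψ) * g) := by
      intro T x g
      simp only [Φ]
      rw [comp_lift, lift_fst, MonObj.comp_mul, lift_snd, ← Category.assoc, lift_fst]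
    have hΦ' : ∀ (T : C) (x : T ⟶ X) (g : T ⟶ G), lift x g ≫ Φ' = lift x ((x ≫ ψ)⁻¹ * g) := by
      intro T x g
      simp only [Φ']
      rw [comp_lift, lift_fst, MonObj.comp_mul, lift_snd, GrpObj.comp_inv, ← Category.assoc,
        lift_fst]
    refine ⟨Φ, ⟨⟨Φ', ?_, ?_⟩⟩, ?_, ?_, ?_⟩
    · apply hom_ext_pts
      intro T x g
      rw [← Category.assoc, hΦ, hΦ', inv_mul_cancel_left, Category.comp_id]
    · apply hom_ext_pts
      intro T x g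
      rw [← Category.assoc, hΦ', hΦ, mul_inv_cancel_left, Category.comp_id]
    · simp only [Φ, lift_fst]
    · intro T x g h
      rw [← Category.assoc, hΦ, lift_snd, ← Category.assoc, hΦ, lift_snd, _root_.mul_assoc]
    · intro σ
      apply hom_ext_pts
      intro T x g
      rw [← Category.assoc, hlam, hΦ, ← Category.assoc, hΦ, hlam', hψ σ]
      congr 1
      simp only [MonObj.comp_mul, GrpObj.comp_inv, _root_.mul_inv_rev, _root_.inv_inv,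
        Category.assoc]
      simp only [_root_.mul_assoc, mul_inv_cancel_left]

end Linearization

end Groth.Agent.Lib.Helper22.TrivBundle
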