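import Mathlib
import Groth.Prelude

/-!
# Invariants of a module via the trivial square-zero extension (helper22)
-/

set_option autoImplicit false
set_option linter.style.haveILetI false

universe u

open CategoryTheory MonoidalCategory CartesianMonoidalCategory MonObj GrpObj AlgebraicGeometry
open scoped TensorProduct

namespace Groth.Agent.Lib.Helper22.TrivG

section inst

variable (A : Type u) [CommRing A] (M : Type u) [AddCommGroup M] [Module A M]

/-- the right action of a commutative ring on a module -/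
@[reducible] def opMod : Module Aᵐᵒᵖ M :=
  Module.compHom M ((RingHom.id A).fromOpposite fun a b => mul_comm a b)

attribute [local instance] opMod

theorem central : IsCentralScalar A M := ⟨fun _ _ => rfl⟩

end inst

attribute [local instance] opMod central

variable {k : Type u} [Field k]
variable {A : Type u} [CommRing A] [Algebra k A]
variable {M : Type u} [AddCommGroup M] [Module A M] [Module k M] [IsScalarTower k A M]

abbrev Rx (A M : Type u) [CommRing A] [AddCommGroup M] [Module A M] := TrivSqZeroExt A M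

example : CommRing (Rx A M) := inferInstance
noncomputable example : Algebra k (Rx A M) := inferInstance

variable (k A M) in
/-- `B ⊗ (A ⊕ M) ≃ (B ⊗ A) × (B ⊗ M)` -/
noncomputable def Phi (B : Type u) [CommRing B] [Algebra k B] :
    B ⊗[k] Rx A M ≃ₗ[B] (B ⊗[k] A) × (B ⊗[k] M) :=
  TensorProduct.prodRight k B B A M

theorem Phi_tmul (B : Type u) [CommRing B] [Algebra k B] (b : B) (r : Rx A M) :
    Phi k A M B (b ⊗ₜ r) = (b ⊗ₜ r.fst, b ⊗ₜ r.snd) := rfl


theorem Phi_Wmap {B B' : Type u} [CommRing B] [Algebra k B] [CommRing B'] [Algebra k B']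
    (φ : B →ₐ[k] B') (x : B ⊗[k] Rx A M) :
    Phi k A M B' (VecGrp.Wmap (M := Rx A M) φ x) =
      (VecGrp.Wmap (M := A) φ (Phi k A M B x).1, VecGrp.Wmap (M := M) φ (Phi k A M B x).2) := by
  induction x using TensorProduct.induction_on with
  | zero => simp only [map_zero]; rfl
  | tmul b r => rfl
  | add x y hx hy =>
    rw [map_add, map_add, hx, hy, map_add]
    simp

theorem Wmap_Phi_symm {B B' : Type u} [CommRing B] [Algebra k B] [CommRing B'] [Algebra k B']
    (φ : B →ₐ[k] B') (a : B ⊗[k] A) (m : B ⊗[k] M) :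
    VecGrp.Wmap (M := Rx A M) φ ((Phi k A M B).symm (a, m)) =
      (Phi k A M B').symm (VecGrp.Wmap (M := A) φ a, VecGrp.Wmap (M := M) φ m) := by
  apply (Phi k A M B').injective
  rw [Phi_Wmap, LinearEquiv.apply_symm_apply, LinearEquiv.apply_symm_apply]

variable {G : Over (Spec (CommRingCat.of k))} [GrpObj G]

/-- the action on the trivial extension -/
noncomputable def rhoR (ρA : VecGrp.GMod G A) (ρM : VecGrp.GMod G M) : VecGrp.GMod G (Rx A M) where
  ρ B _ _ :=
    { toFun := fun g =>
        (Phi k A M B).trans (((ρA.ρ B g).prodCongr (ρM.ρ B g)).trans (Phi k A M B).symm)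
      map_one' := by
        ext x
        simp
      map_mul' := fun g h => by
        ext x
        simp }
  naturality := by
    intro B B' _ _ _ _ φ g x
    show VecGrp.Wmap φ ((Phi k A M B).symm (ρA.ρ B g (Phi k A M B x).1, ρM.ρ B g (Phi k A M B x).2)) =
      (Phi k A M B').symm (ρA.ρ B' (VecGrp.ptMap φ ≫ g) (Phi k A M B' (VecGrp.Wmap φ x)).1,
        ρM.ρ B' (VecGrp.ptMap φ ≫ g) (Phi k A M B' (VecGrp.Wmap φ x)).2)
    rw [Wmap_Phi_symm, Phi_Wmap, ρA.naturality, ρM.naturality]

theorem Phi_rhoR (ρA : VecGrp.GMod G A) (ρM : VecGrp.GMod G M) (B : Type u) [CommRing B]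
    [Algebra k B] (g : VecGrp.pt k B ⟶ G) (x : B ⊗[k] Rx A M) :
    Phi k A M B ((rhoR ρA ρM).ρ B g x) =
      (ρA.ρ B g (Phi k A M B x).1, ρM.ρ B g (Phi k A M B x).2) := by
  show Phi k A M B ((Phi k A M B).symm _) = _
  rw [LinearEquiv.apply_symm_apply]
  rfl


theorem smulW_tmul (B : Type u) [CommRing B] [Algebra k B] (b b' : B) (a : A) (m : M) :
    VecGrp.GMod.smulW k A M B (b ⊗ₜ a) (b' ⊗ₜ m) = (b * b') ⊗ₜ (a • m) := rfl

theorem Phi_mul (B : Type u) [CommRing B] [Algebra k B] (x y : B ⊗[k] Rx A M) :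
    Phi k A M B (x * y) = ((Phi k A M B x).1 * (Phi k A M B y).1,
      VecGrp.GMod.smulW k A M B (Phi k A M B x).1 (Phi k A M B y).2 +
        VecGrp.GMod.smulW k A M B (Phi k A M B y).1 (Phi k A M B x).2) := by
  induction x using TensorProduct.induction_on with
  | zero => simp; rfl
  | add x x' hx hx' =>
    rw [add_mul, map_add, hx, hx', map_add]
    simp only [Prod.fst_add, Prod.snd_add, add_mul, map_add, LinearMap.add_apply, Prod.mk_add_mk]
    congr 1
    abel
  | tmul b r =>
    induction y using TensorProduct.induction_on with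
    | zero => simp; rfl
    | add y y' hy hy' =>
      rw [mul_add, map_add, hy, hy', map_add]
      simp only [Prod.fst_add, Prod.snd_add, mul_add, map_add, LinearMap.add_apply, Prod.mk_add_mk]
      congr 1
      abel
    | tmul b' r' =>
      rw [Algebra.TensorProduct.tmul_mul_tmul, Phi_tmul, Phi_tmul, Phi_tmul]
      simp only [Algebra.TensorProduct.tmul_mul_tmul, smulW_tmul]
      rw [TrivSqZeroExt.fst_mul, TrivSqZeroExt.snd_mul, TensorProduct.tmul_add, mul_comm b' b]
      rfl

theorem Phi_one (B : Type u) [CommRing B] [Algebra k B] :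
    Phi k A M B 1 = (1, 0) := by
  rw [Algebra.TensorProduct.one_def, Phi_tmul, TrivSqZeroExt.fst_one, TrivSqZeroExt.snd_one,
    TensorProduct.tmul_zero]
  rfl

theorem rhoR_isMult (ρA : VecGrp.GMod G A) (ρM : VecGrp.GMod G M) (hA : ρA.IsMult)
    (hc : VecGrp.GMod.IsCompat ρA ρM) : (rhoR ρA ρM).IsMult := by
  intro B _ _ g
  constructor
  · intro x y
    apply (Phi k A M B).injective
    rw [Phi_rhoR, Phi_mul, Phi_mul, Phi_rhoR, Phi_rhoR]
    simp only
    rw [(hA B g).1, map_add, hc, hc]
  · apply (Phi k A M B).injective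
    rw [Phi_rhoR, Phi_one]
    simp only
    rw [(hA B g).2, map_zero]


theorem mem_fixed_iff (ρA : VecGrp.GMod G A) (ρM : VecGrp.GMod G M) (r : Rx A M) :
    r ∈ (rhoR ρA ρM).fixedUnder (𝟙 G) ↔
      r.fst ∈ ρA.fixedUnder (𝟙 G) ∧ r.snd ∈ ρM.fixedUnder (𝟙 G) := by
  constructor
  · intro h
    constructor
    · intro B _ _ g
      have h1 := congrArg (Phi k A M B) (h B g)
      rw [Phi_rhoR, Phi_tmul] at h1
      exact congrArg Prod.fst h1
    · intro B _ _ g
      have h1 := congrArg (Phi k A M B) (h B g)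
      rw [Phi_rhoR, Phi_tmul] at h1
      exact congrArg Prod.snd h1
  · rintro ⟨h1, h2⟩ B _ _ g
    apply (Phi k A M B).injective
    rw [Phi_rhoR, Phi_tmul]
    exact Prod.ext (h1 B g) (h2 B g)

theorem finiteType [Algebra.FiniteType k A] [Module.Finite A M] :
    Algebra.FiniteType k (Rx A M) := by
  classical
  obtain ⟨sA, hsA⟩ := (Algebra.FiniteType.out : (⊤ : Subalgebra k A).FG)
  obtain ⟨sM, hsM⟩ := (Module.Finite.fg_top : (⊤ : Submodule A M).FG)
  refine ⟨⟨sA.image TrivSqZeroExt.inl ∪ sM.image TrivSqZeroExt.inr, ?_⟩⟩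
  set T := Algebra.adjoin k
    (↑(sA.image (TrivSqZeroExt.inl : A → Rx A M) ∪ sM.image (TrivSqZeroExt.inr : M → Rx A M)) :
      Set (Rx A M)) with hT
  have h1 : ∀ a : A, (TrivSqZeroExt.inl a : Rx A M) ∈ T := by
    intro a
    have ha : a ∈ Algebra.adjoin k (↑sA : Set A) := by rw [hsA]; trivial
    have h2 : (Algebra.adjoin k (↑sA : Set A)).map (TrivSqZeroExt.inlAlgHom k A M) ≤ T := by
      rw [AlgHom.map_adjoin]
      apply Algebra.adjoin_mono
      intro x hx
      obtain ⟨a', ha', rfl⟩ := hx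
      simp only [Finset.coe_union, Finset.coe_image]
      exact Or.inl ⟨a', ha', rfl⟩
    exact h2 ⟨a, ha, rfl⟩
  have h2 : ∀ m : M, (TrivSqZeroExt.inr m : Rx A M) ∈ T := by
    intro m
    have hm : m ∈ Submodule.span A (↑sM : Set M) := by rw [hsM]; trivial
    induction hm using Submodule.span_induction with
    | mem x hx =>
      apply Algebra.subset_adjoin
      simp only [Finset.coe_union, Finset.coe_image]
      exact Or.inr ⟨x, hx, rfl⟩
    | zero => rw [TrivSqZeroExt.inr_zero]; exact T.zero_mem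
    | add x y _ _ hx hy => rw [TrivSqZeroExt.inr_add]; exact T.add_mem hx hy
    | smul a x _ hx =>
      rw [← TrivSqZeroExt.inl_mul_inr]
      exact T.mul_mem (h1 a) hx
  rw [eq_top_iff]
  intro r _
  rw [← TrivSqZeroExt.inl_fst_add_inr_snd_eq r]
  exact T.add_mem (h1 _) (h2 _)

theorem main (hG : VecGrp.IsReductiveGrp k G) (thmA : VecGrp.ReductiveInvariantsFG k)
    [Algebra.FiniteType k A] (ρA : VecGrp.GMod G A) (hρ : ρA.IsMult) [Module.Finite A M]
    (ρM : VecGrp.GMod G M) (hc : VecGrp.GMod.IsCompat ρA ρM) :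
    ∃ s : Finset M, (↑s : Set M) ⊆ ρM.fixedUnder (𝟙 G) ∧
      ρM.fixedUnder (𝟙 G) ≤
        (Submodule.span ↥(ρA.fixedSubalgebra hρ (𝟙 G)) (↑s : Set M)).restrictScalars k := by
  classical
  obtain ⟨s, hs1, hs2⟩ := thmA G hG (Rx A M) (rhoR ρA ρM) (rhoR_isMult ρA ρM hρ hc) finiteType
  refine ⟨s.image TrivSqZeroExt.snd, ?_, ?_⟩
  · intro m hm
    simp only [Finset.coe_image] at hm
    obtain ⟨r, hr, rfl⟩ := hm
    exact ((mem_fixed_iff ρA ρM r).1 (hs1 hr)).2
  · set N := Submodule.span ↥(ρA.fixedSubalgebra hρ (𝟙 G))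
      (↑(s.image (TrivSqZeroExt.snd : Rx A M → M)) : Set M) with hN
    let T : Subalgebra k (Rx A M) :=
      { carrier := {r | r.fst ∈ ρA.fixedSubalgebra hρ (𝟙 G) ∧ r.snd ∈ N}
        mul_mem' := by
          rintro r r' ⟨h1, h2⟩ ⟨h1', h2'⟩
          refine ⟨?_, ?_⟩
          · rw [TrivSqZeroExt.fst_mul]
            exact Subalgebra.mul_mem _ h1 h1'
          · rw [TrivSqZeroExt.snd_mul]
            refine N.add_mem ?_ ?_
            · exact N.smul_mem ⟨r.fst, h1⟩ h2'
            · exact N.smul_mem ⟨r'.fst, h1'⟩ h2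
        one_mem' := by
          refine ⟨?_, ?_⟩
          · rw [TrivSqZeroExt.fst_one]
            exact Subalgebra.one_mem _
          · rw [TrivSqZeroExt.snd_one]
            exact N.zero_mem
        add_mem' := by
          rintro r r' ⟨h1, h2⟩ ⟨h1', h2'⟩
          refine ⟨?_, ?_⟩
          · rw [TrivSqZeroExt.fst_add]
            exact Subalgebra.add_mem _ h1 h1'
          · rw [TrivSqZeroExt.snd_add]
            exact N.add_mem h2 h2'
        zero_mem' := by
          refine ⟨?_, ?_⟩
          · rw [TrivSqZeroExt.fst_zero]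
            exact Subalgebra.zero_mem _
          · rw [TrivSqZeroExt.snd_zero]
            exact N.zero_mem
        algebraMap_mem' := by
          intro c
          refine ⟨?_, ?_⟩
          · rw [TrivSqZeroExt.algebraMap_eq_inl', TrivSqZeroExt.fst_inl]
            exact Subalgebra.algebraMap_mem _ c
          · rw [TrivSqZeroExt.algebraMap_eq_inl', TrivSqZeroExt.snd_inl]
            exact N.zero_mem }
    have hsT : Algebra.adjoin k (↑s : Set (Rx A M)) ≤ T := by
      apply Algebra.adjoin_le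
      intro r hr
      refine ⟨((mem_fixed_iff ρA ρM r).1 (hs1 hr)).1, ?_⟩
      apply Submodule.subset_span
      simp only [Finset.coe_image]
      exact ⟨r, hr, rfl⟩
    intro m hm
    have h1 : (TrivSqZeroExt.inr m : Rx A M) ∈ (rhoR ρA ρM).fixedUnder (𝟙 G) := by
      rw [mem_fixed_iff, TrivSqZeroExt.fst_inr, TrivSqZeroExt.snd_inr]
      exact ⟨Submodule.zero_mem _, hm⟩
    have h2 := hsT (hs2 h1)
    have h3 : (TrivSqZeroExt.inr m : Rx A M).snd ∈ N := h2.2
    rw [TrivSqZeroExt.snd_inr] at h3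
    exact h3

end Groth.Agent.Lib.Helper22.TrivG
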