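import Mathlib

/-!
# Unramified + flat at a prime ⇒ étale at that prime
-/

set_option linter.style.haveILetI false

namespace Groth.Agent.Lib.Helper22.UnramEtale

open IsLocalRing TensorProduct

attribute [local instance] Algebra.FormallyEtale.of_formallyUnramified_of_field in
/-- unramified at `q` + `S_q` flat over `R` + finitely presented ⇒ étale at `q`. -/
theorem isEtaleAt_of_isUnramifiedAt_of_flat_localization {R S : Type*} [CommRing R] [CommRing S]
    [Algebra R S] [Algebra.FinitePresentation R S] (q : Ideal S) [q.IsPrime]
    [Algebra.IsUnramifiedAt R q] [Module.Flat R (Localization.AtPrime q)] :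
    Algebra.IsEtaleAt R q := by
  let p := q.under R
  let Rp := Localization.AtPrime p
  let Sp := Localization (Algebra.algebraMapSubmonoid S p.primeCompl)
  let Sq := Localization.AtPrime q
  let := Localization.AtPrime.algebraOfLiesOver p q
  let f : Sp →ₐ[S] Sq := IsLocalization.liftAlgHom (M := Algebra.algebraMapSubmonoid S p.primeCompl)
        (f := Algebra.ofId _ _) (by
      rintro ⟨_, x, hx, rfl⟩
      simpa using! IsLocalization.map_units (M := q.primeCompl) Sq ⟨algebraMap _ _ x,
        by simp_all [q.over_def p]⟩)
  algebraize [f.toRingHom]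
  have : IsScalarTower R Sp Sq := .to₁₃₄ _ S _ _
  have : IsScalarTower Rp Sp Sq := .of_algebraMap_eq' <| by
    apply IsLocalization.ringHom_ext p.primeCompl
    simp only [RingHom.comp_assoc, ← IsScalarTower.algebraMap_eq]
  have : IsLocalization (Algebra.algebraMapSubmonoid Sp q.primeCompl) Sq :=
    .isLocalization_of_submonoid_le _ _ (Algebra.algebraMapSubmonoid S p.primeCompl) _
    (by rintro _ ⟨x, hx, rfl⟩; simp_all [q.over_def p])
  have : Algebra.FinitePresentation Rp Sp := by
    have : Algebra.IsPushout R Rp S Sp :=
      .symm <| Algebra.isPushout_of_isLocalization p.primeCompl _ _ _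
    exact .equiv (Algebra.IsPushout.equiv R Rp S Sp)
  have : Module.Flat Rp Sq :=
    (Module.flat_iff_of_isLocalization Rp p.primeCompl Sq).mpr inferInstance
  have hU : Algebra.FormallyUnramified R Sq := ‹Algebra.IsUnramifiedAt R q›
  have : Algebra.FormallyUnramified Rp Sq := .of_restrictScalars R _ _
  have : Algebra.EssFiniteType R Sq := .comp R S Sq
  have : Algebra.EssFiniteType Rp Sq := .of_comp R _ _
  have : Algebra.FormallySmooth (ResidueField Rp) (ResidueField Rp ⊗[Rp] Sq) := by
    have : Algebra.FormallyUnramified (ResidueField Rp) (ResidueField Rp ⊗[Rp] Sq) :=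
      inferInstance
    have : Algebra.EssFiniteType (ResidueField Rp) (ResidueField Rp ⊗[Rp] Sq) := inferInstance
    have : Algebra.FormallyEtale (ResidueField Rp) (ResidueField Rp ⊗[Rp] Sq) := inferInstance
    infer_instance
  have hS : Algebra.FormallySmooth Rp Sq :=
    Algebra.FormallySmooth.of_formallySmooth_residueField_tensor
      (R := Rp) (S := Sq) (P := Sp) (Algebra.algebraMapSubmonoid _ q.primeCompl)
  have : Algebra.FormallyEtale Rp Sq :=
    Algebra.FormallyEtale.iff_formallyUnramified_and_formallySmooth.mpr ⟨inferInstance, hS⟩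
  have : Algebra.FormallyEtale R Rp := .of_isLocalization p.primeCompl
  exact (Algebra.FormallyEtale.comp R Rp Sq : Algebra.FormallyEtale R Sq)

end Groth.Agent.Lib.Helper22.UnramEtale
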