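import Mathlib

/-!
# Flatness over an unramified algebra from flatness over the base

If `A → B` is formally unramified and essentially of finite type, a `B`-module `M` flat over `A`
is flat over `B`: `M` is a `B`-linear retract of `B ⊗[A] M` via the separability idempotent.
-/

set_option autoImplicit false
set_option linter.style.haveILetI false
set_option linter.unusedSectionVars false
universe u v w
open TensorProduct

namespace Groth.Agent.Lib.Helper22.UnramFlat

variable (A : Type u) (B : Type v) (M : Type w) [CommRing A] [CommRing B] [Algebra A B]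
  [AddCommGroup M] [Module A M] [Module B M] [IsScalarTower A B M]

/-- the action map `B ⊗ B → Hom_A(M, B ⊗ M)`, `b₁ ⊗ b₂ ↦ (m ↦ b₁ ⊗ b₂ m)`. -/
noncomputable def Φ : B ⊗[A] B →ₗ[A] (M →ₗ[A] B ⊗[A] M) :=
  TensorProduct.lift
    { toFun := fun b₁ =>
        { toFun := fun b₂ => (TensorProduct.mk A B M b₁) ∘ₗ
            ((Algebra.lsmul A A M b₂ : M →ₗ[A] M))
          map_add' := fun x y => by
            ext m
            simp [add_smul, tmul_add]
          map_smul' := fun a x => by
            ext m
            simp }
      map_add' := fun x y => by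
        ext b₂ m
        simp [add_tmul]
      map_smul' := fun a x => by
        ext b₂ m
        simp [smul_tmul'] }

@[simp]
theorem Φ_tmul (b₁ b₂ : B) (m : M) : Φ A B M (b₁ ⊗ₜ b₂) m = b₁ ⊗ₜ[A] (b₂ • m) := by
  simp [Φ]

/-- the multiplication map `B ⊗ M → M`. -/
noncomputable def π : B ⊗[A] M →ₗ[B] M := LinearMap.liftBaseChange B (LinearMap.id : M →ₗ[A] M)

@[simp]
theorem π_tmul (b : B) (m : M) : π A B M (b ⊗ₜ m) = b • m := by
  simp [π]

theorem π_Φ (r : B ⊗[A] B) (m : M) : π A B M (Φ A B M r m) = (Algebra.TensorProduct.lmul' A r : B) • m := by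
  induction r using TensorProduct.induction_on with
  | zero => simp
  | tmul b₁ b₂ => simp [mul_smul]
  | add x y hx hy => simp [hx, hy, add_smul]

theorem Φ_smul_right (r : B ⊗[A] B) (b : B) (m : M) :
    Φ A B M r (b • m) = Φ A B M (((1 : B) ⊗ₜ[A] b) * r) m := by
  induction r using TensorProduct.induction_on with
  | zero => simp
  | tmul b₁ b₂ =>
    rw [Φ_tmul, Algebra.TensorProduct.tmul_mul_tmul, Φ_tmul, one_mul, smul_smul, mul_comm]
  | add x y hx hy => simp [hx, hy, mul_add]

theorem smul_Φ (r : B ⊗[A] B) (b : B) (m : M) :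
    b • Φ A B M r m = Φ A B M ((b ⊗ₜ[A] (1 : B)) * r) m := by
  induction r using TensorProduct.induction_on with
  | zero => simp
  | tmul b₁ b₂ =>
    rw [Φ_tmul, Algebra.TensorProduct.tmul_mul_tmul, Φ_tmul, one_mul, smul_tmul', smul_eq_mul]
  | add x y hx hy => simp [hx, hy, mul_add]

theorem flat_of_formallyUnramified [Algebra.EssFiniteType A B] [Algebra.FormallyUnramified A B]
    [Module.Flat A M] : Module.Flat B M := by
  obtain ⟨e, he, hμ⟩ := (Algebra.FormallyUnramified.iff_exists_tensorProduct (R := A) (S := B)).mp
    inferInstance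
  let s : M →ₗ[B] B ⊗[A] M :=
    { toFun := fun m => Φ A B M e m
      map_add' := fun x y => map_add _ x y
      map_smul' := fun b m => by
        simp only [RingHom.id_apply]
        rw [Φ_smul_right, smul_Φ]
        have h := he b
        rw [sub_mul, sub_eq_zero] at h
        rw [h] }
  refine Module.Flat.of_retract s (π A B M) ?_
  ext m
  simp only [LinearMap.coe_comp, Function.comp_apply, LinearMap.id_coe, id_eq]
  show π A B M (Φ A B M e m) = m
  rw [π_Φ, hμ, one_smul]

end Groth.Agent.Lib.Helper22.UnramFlat
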