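import Mathlib
import Groth.Agent.Lib.Helper1.FibreInj
import Groth.Agent.Lib.Helper9.GeomLib2

/-!
# Functions vanishing on a fibrewise dense open of `Spec (R ⊗ A)` (helper22)
-/

set_option autoImplicit false
set_option linter.unusedSectionVars false

universe u

namespace Groth.Agent.Lib.Helper22.VeryDense

open TensorProduct IsLocalRing

section basis

lemma repr_mem_of_mem_smul_top {S M ι : Type*} [CommRing S] [AddCommGroup M] [Module S M]
    (b : Module.Basis ι S M) (I : Ideal S) (x : M) (hx : x ∈ I • (⊤ : Submodule S M)) (i : ι) :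
    b.repr x i ∈ I := by
  refine Submodule.smul_induction_on hx ?_ ?_
  · intro r hr y _
    rw [map_smul, Finsupp.smul_apply, smul_eq_mul]
    exact I.mul_mem_right _ hr
  · intro x y hx hy
    rw [map_add, Finsupp.add_apply]
    exact I.add_mem hx hy

end basis

section LA

variable {k : Type u} [Field k] (S : Type u) [CommRing S] [Algebra k S] [IsLocalRing S]
  [IsNoetherianRing S] (A : Type u) [CommRing A] [Algebra k A]

/-- the extension of the maximal ideal to `S ⊗ A` is prime when `κ ⊗ A` is a domain. -/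
lemma map_maximalIdeal_isPrime [IsDomain (ResidueField S ⊗[k] A)] :
    (Ideal.map (Algebra.TensorProduct.includeLeft : S →ₐ[k] S ⊗[k] A) (maximalIdeal S)).IsPrime := by
  have hsurj : Function.Surjective (IsScalarTower.toAlgHom k S (ResidueField S)) :=
    IsLocalRing.residue_surjective
  have hker := Algebra.TensorProduct.rTensor_ker (R := k) (S := k) (C := A)
    (IsScalarTower.toAlgHom k S (ResidueField S)) hsurj
  have h2 : RingHom.ker (IsScalarTower.toAlgHom k S (ResidueField S)) = maximalIdeal S := by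
    ext x
    rw [RingHom.mem_ker]
    exact IsLocalRing.residue_eq_zero_iff x
  rw [h2] at hker
  rw [← hker]
  exact RingHom.ker_isPrime _

theorem eq_zero_of_mul_eq_zero [IsDomain (ResidueField S ⊗[k] A)] (g x : S ⊗[k] A)
    (hg : g ∉ Ideal.map (Algebra.TensorProduct.includeLeft : S →ₐ[k] S ⊗[k] A) (maximalIdeal S))
    (hgx : g * x = 0) : x = 0 := by
  classical
  have hprime := map_maximalIdeal_isPrime (k := k) S A
  let u : (S ⊗[k] A) →ₗ[S] (S ⊗[k] A) := LinearMap.mulLeft S g
  have hmem : ∀ y : S ⊗[k] A, y ∈ maximalIdeal S • (⊤ : Submodule S (S ⊗[k] A)) ↔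
      y ∈ Ideal.map (Algebra.TensorProduct.includeLeft : S →ₐ[k] S ⊗[k] A) (maximalIdeal S) := by
    intro y
    rw [Ideal.smul_top_eq_map]
    rfl
  have h : Function.Injective (LinearMap.lTensor (ResidueField S) u) := by
    rw [injective_iff_map_eq_zero]
    intro t ht
    obtain ⟨y, rfl⟩ := Groth.Agent.Lib.Helper1.FibreInj.exists_one_tmul_residue t
    rw [LinearMap.lTensor_tmul, Groth.Agent.Lib.Helper1.FibreInj.one_tmul_residue_eq_zero_iff,
      hmem] at ht
    rw [Groth.Agent.Lib.Helper1.FibreInj.one_tmul_residue_eq_zero_iff, hmem]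
    exact (hprime.mem_or_mem ht).resolve_left hg
  have hx : ∀ n : ℕ, x ∈ (maximalIdeal S ^ n) • (⊤ : Submodule S (S ⊗[k] A)) := by
    intro n
    refine Groth.Agent.Lib.Helper1.FibreInj.mem_smul_top_of_apply_mem u h (maximalIdeal S ^ n) n
      le_rfl x ?_
    have : u x = 0 := hgx
    rw [this]
    exact zero_mem _
  let b := Module.Free.chooseBasis k A
  let bS := Algebra.TensorProduct.basis S b
  have h0 : bS.repr x = 0 := by
    ext i
    have h1 : bS.repr x i ∈ ⨅ n : ℕ, maximalIdeal S ^ n := by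
      rw [Ideal.mem_iInf]
      intro n
      exact repr_mem_of_mem_smul_top bS _ x (hx n) i
    rw [Ideal.iInf_pow_eq_bot_of_isLocalRing _ (Ideal.IsPrime.ne_top inferInstance)] at h1
    exact h1
  exact (LinearEquiv.map_eq_zero_iff _).1 h0

theorem eq_zero_of_pow_mul_eq_zero [IsDomain (ResidueField S ⊗[k] A)] (g x : S ⊗[k] A)
    (hg : g ∉ Ideal.map (Algebra.TensorProduct.includeLeft : S →ₐ[k] S ⊗[k] A) (maximalIdeal S))
    (N : ℕ) (hgx : g ^ N * x = 0) : x = 0 := by
  induction N with
  | zero => simpa using hgx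
  | succ N ih =>
    apply ih
    apply eq_zero_of_mul_eq_zero (k := k) S A g _ hg
    rw [← mul_assoc, ← pow_succ']
    exact hgx

end LA

section main

variable (k : Type u) [Field k]
  (A : Type u) [CommRing A] [Algebra k A]

/-- coordinates commute with base change of the left factor. -/
lemma repr_map {R₁ R₂ : Type u} [CommRing R₁] [CommRing R₂] [Algebra k R₁] [Algebra k R₂]
    (φ : R₁ →ₐ[k] R₂) {ι : Type*} (b : Module.Basis ι k A) (x : R₁ ⊗[k] A) (i : ι) :
    (Algebra.TensorProduct.basis R₂ b).repr (Algebra.TensorProduct.map φ (AlgHom.id k A) x) i =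
      φ ((Algebra.TensorProduct.basis R₁ b).repr x i) := by
  induction x using TensorProduct.induction_on with
  | zero => simp
  | tmul r a =>
    rw [Algebra.TensorProduct.map_tmul, Algebra.TensorProduct.basis_repr_tmul,
      Algebra.TensorProduct.basis_repr_tmul]
    simp [Algebra.smul_def]
  | add x y hx hy =>
    rw [map_add, map_add, Finsupp.add_apply, map_add, Finsupp.add_apply, map_add, hx, hy]

variable [IsAlgClosed k] [IsDomain A] (R : Type u) [CommRing R] [Algebra k R]

theorem main
    (U : TopologicalSpace.Opens (PrimeSpectrum (TensorProduct k R A)))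
    (hsurj : ∀ q : PrimeSpectrum R, ∃ P ∈ U,
      PrimeSpectrum.comap (Algebra.TensorProduct.includeLeftRingHom : R →+* TensorProduct k R A) P = q)
    (f : TensorProduct k R A)
    (hf : ∀ g : TensorProduct k R A,
      (PrimeSpectrum.basicOpen g : Set (PrimeSpectrum (TensorProduct k R A))) ⊆ U →
      algebraMap (TensorProduct k R A) (Localization.Away g) f = 0) :
    f = 0 := by
  classical
  by_contra hf0
  let b := Module.Free.chooseBasis k A
  let bR := Algebra.TensorProduct.basis R b
  let J : Ideal R := (Submodule.span R {f}).annihilator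
  have hJ : J ≠ ⊤ := by
    intro h
    have h1 : (1 : R) ∈ J := h ▸ Submodule.mem_top
    rw [Submodule.mem_annihilator_span_singleton, one_smul] at h1
    exact hf0 h1
  obtain ⟨q, hqmax, hJq⟩ := Ideal.exists_le_maximal J hJ
  haveI := hqmax
  obtain ⟨P, hPU, hPq⟩ := hsurj ⟨q, hqmax.isPrime⟩
  obtain ⟨g, hPg, hgU⟩ : ∃ g : TensorProduct k R A, P ∈ PrimeSpectrum.basicOpen g ∧
      (PrimeSpectrum.basicOpen g : Set (PrimeSpectrum (TensorProduct k R A))) ⊆ U := by
    have hb := PrimeSpectrum.isTopologicalBasis_basic_opens (R := TensorProduct k R A)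
    obtain ⟨_, ⟨g, rfl⟩, hPg, hgU⟩ := hb.exists_subset_of_mem_open hPU U.isOpen
    exact ⟨g, hPg, hgU⟩
  have h0 := hf g hgU
  obtain ⟨⟨_, N, rfl⟩, hN⟩ :=
    (IsLocalization.map_eq_zero_iff (Submonoid.powers g) (Localization.Away g) f).1 h0
  have hN' : g ^ N * f = 0 := hN
  obtain ⟨sf, hsf⟩ := Groth.Agent.Lib.Helper9.GeomLib.exists_finset_range (k := k) f
  obtain ⟨sg, hsg⟩ := Groth.Agent.Lib.Helper9.GeomLib.exists_finset_range (k := k) g
  let R₀ : Subalgebra k R := Algebra.adjoin k ((sf ∪ sg : Finset R) : Set R)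
  haveI : Algebra.FiniteType k R₀ :=
    (Subalgebra.fg_iff_finiteType _).1 (Subalgebra.fg_adjoin_finset _)
  haveI : IsNoetherianRing R₀ := Algebra.FiniteType.isNoetherianRing k R₀
  obtain ⟨f₀, hf₀⟩ := hsf R₀ R₀.val (by
    intro z hz
    exact ⟨⟨z, Algebra.subset_adjoin
      (Finset.mem_coe.mpr (Finset.mem_union_left _ (Finset.mem_coe.mp hz)))⟩, rfl⟩)
  obtain ⟨g₀, hg₀⟩ := hsg R₀ R₀.val (by
    intro z hz
    exact ⟨⟨z, Algebra.subset_adjoin
      (Finset.mem_coe.mpr (Finset.mem_union_right _ (Finset.mem_coe.mp hz)))⟩, rfl⟩)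
  have hjT : Function.Injective (Algebra.TensorProduct.map R₀.val (AlgHom.id k A)) :=
    Groth.Agent.Lib.Helper9.GeomLib.map_injective R₀.val Subtype.val_injective
  have h1 : g₀ ^ N * f₀ = 0 := hjT (by rw [map_mul, map_pow, hf₀, hg₀, map_zero]; exact hN')
  let q₀ : Ideal R₀ := q.comap (algebraMap R₀ R)
  haveI : q₀.IsPrime := Ideal.comap_isPrime _ _
  let S := Localization.AtPrime q₀
  let φ : R₀ →ₐ[k] S := IsScalarTower.toAlgHom k R₀ S
  have h2 : (Algebra.TensorProduct.map φ (AlgHom.id k A) g₀) ^ N *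
      Algebra.TensorProduct.map φ (AlgHom.id k A) f₀ = 0 := by
    rw [← map_pow, ← map_mul, h1, map_zero]
  haveI : IsDomain (ResidueField S ⊗[k] A) :=
    Groth.Agent.Lib.Helper9.GeomLib.isDomain_tensor_of_isAlgClosed
  have hgS : Algebra.TensorProduct.map φ (AlgHom.id k A) g₀ ∉
      Ideal.map (Algebra.TensorProduct.includeLeft : S →ₐ[k] S ⊗[k] A) (maximalIdeal S) := by
    intro hmem
    let ψ₀ : R₀ →ₐ[k] R ⧸ q := (Ideal.Quotient.mkₐ k q).comp R₀.val
    have hunit : ∀ y : q₀.primeCompl, IsUnit (ψ₀ y) := by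
      intro y
      letI : Field (R ⧸ q) := Ideal.Quotient.field q
      apply IsUnit.mk0
      intro hy0
      have : ((y : R₀) : R) ∈ q := Ideal.Quotient.eq_zero_iff_mem.1 hy0
      exact y.2 this
    let ψ : S →ₐ[k] R ⧸ q := IsLocalization.liftAlgHom (M := q₀.primeCompl) (f := ψ₀) hunit
    have hψφ : ψ.comp φ = ψ₀ := by
      ext x
      exact IsLocalization.lift_eq _ x
    let Ψ := Algebra.TensorProduct.map ψ (AlgHom.id k A)
    let Θ := Algebra.TensorProduct.map (Ideal.Quotient.mkₐ k q) (AlgHom.id k A)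
    have hcomp : Ψ (Algebra.TensorProduct.map φ (AlgHom.id k A) g₀) = Θ g := by
      rw [← hg₀]
      have e1 : (Ψ.comp (Algebra.TensorProduct.map φ (AlgHom.id k A))) =
          Algebra.TensorProduct.map ψ₀ (AlgHom.id k A) := by
        rw [← hψφ]
        exact (Algebra.TensorProduct.map_comp _ _ _ _).symm
      have e2 : (Θ.comp (Algebra.TensorProduct.map R₀.val (AlgHom.id k A))) =
          Algebra.TensorProduct.map ψ₀ (AlgHom.id k A) :=
        (Algebra.TensorProduct.map_comp _ _ _ _).symm
      have := congrArg (fun h : R₀ ⊗[k] A →ₐ[k] (R ⧸ q) ⊗[k] A => h g₀) (e1.trans e2.symm)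
      exact this
    have hΨ0 : Ψ (Algebra.TensorProduct.map φ (AlgHom.id k A) g₀) = 0 := by
      have hψ𝔫 : maximalIdeal S ≤ RingHom.ker ψ.toRingHom := by
        rw [← Localization.AtPrime.map_eq_maximalIdeal, Ideal.map_le_iff_le_comap]
        intro a ha
        rw [Ideal.mem_comap, RingHom.mem_ker]
        have ha' : ((a : R₀) : R) ∈ q := ha
        have h3 : ψ (algebraMap R₀ S a) = ψ₀ a := IsLocalization.lift_eq _ a
        show ψ (algebraMap R₀ S a) = 0
        rw [h3]
        exact Ideal.Quotient.eq_zero_iff_mem.2 ha'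
      have hle : Ideal.map (Algebra.TensorProduct.includeLeft : S →ₐ[k] S ⊗[k] A)
          (maximalIdeal S) ≤ RingHom.ker Ψ := by
        rw [Ideal.map_le_iff_le_comap]
        intro a ha
        rw [Ideal.mem_comap, RingHom.mem_ker]
        show Ψ (a ⊗ₜ[k] (1 : A)) = 0
        rw [Algebra.TensorProduct.map_tmul]
        have : ψ a = 0 := hψ𝔫 ha
        rw [this, TensorProduct.zero_tmul]
      exact hle hmem
    have hΘ : Θ g ≠ 0 := by
      intro hΘ0
      have hker := Algebra.TensorProduct.rTensor_ker (R := k) (S := k) (C := A)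
        (Ideal.Quotient.mkₐ k q) (Ideal.Quotient.mkₐ_surjective k q)
      have hk2 : RingHom.ker (Ideal.Quotient.mkₐ k q) = q := Ideal.Quotient.mkₐ_ker k q
      rw [hk2] at hker
      have hg1 : g ∈ Ideal.map (Algebra.TensorProduct.includeLeft : R →ₐ[k] R ⊗[k] A) q := by
        rw [← hker]
        exact hΘ0
      have hle : Ideal.map (Algebra.TensorProduct.includeLeft : R →ₐ[k] R ⊗[k] A) q ≤
          P.asIdeal := by
        rw [Ideal.map_le_iff_le_comap]
        intro x hx
        have h4 := congrArg PrimeSpectrum.asIdeal hPq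
        have h5 : x ∈ (PrimeSpectrum.comap (Algebra.TensorProduct.includeLeftRingHom :
            R →+* TensorProduct k R A) P).asIdeal := by rw [h4]; exact hx
        exact h5
      exact hPg (hle hg1)
    exact hΘ (hcomp ▸ hΨ0)
  have hfS : Algebra.TensorProduct.map φ (AlgHom.id k A) f₀ = 0 :=
    eq_zero_of_pow_mul_eq_zero (k := k) S A _ _ hgS N h2
  let b₀ := Algebra.TensorProduct.basis R₀ b
  have hcoord : ∀ i, algebraMap R₀ S (b₀.repr f₀ i) = 0 := by
    intro i
    have h3 := repr_map k A φ b f₀ i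
    rw [hfS, map_zero, Finsupp.zero_apply] at h3
    exact h3.symm
  have hex : ∀ i, ∃ s : q₀.primeCompl, (s : R₀) * b₀.repr f₀ i = 0 := fun i =>
    (IsLocalization.map_eq_zero_iff q₀.primeCompl S _).1 (hcoord i)
  choose s hs using hex
  let t : R₀ := ∏ i ∈ (b₀.repr f₀).support, (s i : R₀)
  have ht : t ∈ q₀.primeCompl := Submonoid.prod_mem _ fun i _ => (s i).2
  have htf : ∀ i, t * b₀.repr f₀ i = 0 := by
    intro i
    by_cases hi : i ∈ (b₀.repr f₀).support
    · obtain ⟨c, hc⟩ := Finset.dvd_prod_of_mem (fun i => (s i : R₀)) hi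
      show t * _ = 0
      have : t = c * (s i : R₀) := by rw [mul_comm]; exact hc
      rw [this, mul_assoc, hs i, mul_zero]
    · rw [Finsupp.notMem_support_iff.1 hi, mul_zero]
  have htJ : ((t : R₀) : R) ∈ J := by
    rw [Submodule.mem_annihilator_span_singleton]
    apply bR.repr.injective
    rw [map_smul, map_zero]
    ext i
    rw [Finsupp.smul_apply, Finsupp.zero_apply, smul_eq_mul, ← hf₀]
    have h3 := repr_map k A R₀.val b f₀ i
    rw [h3]
    show ((t : R₀) : R) * ((b₀.repr f₀ i : R₀) : R) = 0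
    rw [← Subalgebra.coe_mul, htf i, Subalgebra.coe_zero]
  exact ht (hJq htJ)

end main

end Groth.Agent.Lib.Helper22.VeryDense
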