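import Mathlib
import Groth.Agent.Lib.Helper3.Reduced

/-!
# Weakly étale morphisms are detected on stalks (helper22)
-/

set_option autoImplicit false
set_option maxHeartbeats 400000
set_option linter.style.haveILetI false
set_option linter.unusedSectionVars false
universe u

open AlgebraicGeometry CategoryTheory Limits

namespace Groth.Agent.Lib.Helper22.WEStalk

/-- A flat morphism which is surjective on stalks induces bijections on stalks. -/
theorem stalkMap_bijective {P Y : Scheme.{u}} (g : P ⟶ Y) [Flat g]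
    [SurjectiveOnStalks g] (w : P) : Function.Bijective (g.stalkMap w).hom := by
  refine ⟨?_, g.stalkMap_surjective w⟩
  have hflat : (g.stalkMap w).hom.Flat := Flat.stalkMap g w
  let _ : Algebra (Y.presheaf.stalk (g w)) (P.presheaf.stalk w) := (g.stalkMap w).hom.toAlgebra
  have : Module.Flat (Y.presheaf.stalk (g w)) (P.presheaf.stalk w) := hflat
  have : IsLocalHom (algebraMap (Y.presheaf.stalk (g w)) (P.presheaf.stalk w)) :=
    inferInstanceAs (IsLocalHom (g.stalkMap w).hom)
  have : Module.FaithfullyFlat (Y.presheaf.stalk (g w)) (P.presheaf.stalk w) :=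
    Module.FaithfullyFlat.of_flat_of_isLocalHom
  exact FaithfulSMul.algebraMap_injective _ _

theorem weaklyEtale_fromSpecStalk (X : Scheme.{u}) (x : X) : WeaklyEtale (X.fromSpecStalk x) := by
  haveI : Flat (X.fromSpecStalk x) := Groth.Agent.Lib.Helper3.flat_fromSpecStalk X x
  haveI : IsIso (pullback.diagonal (X.fromSpecStalk x)) := inferInstance
  exact ⟨inferInstance, inferInstance⟩

/-- For a ring map, `Spec` of it is weakly étale iff it is flat with flat multiplication map. -/
theorem weaklyEtale_SpecMap_iff {A B : CommRingCat.{u}} (ψ : A ⟶ B) :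
    WeaklyEtale (Spec.map ψ) ↔ ψ.hom.Flat ∧
      (letI := ψ.hom.toAlgebra
       (Algebra.TensorProduct.lmul' (S := B) A).toRingHom.Flat) := by
  letI := ψ.hom.toAlgebra
  rw [weaklyEtale_iff, Flat.SpecMap_iff]
  refine and_congr Iff.rfl ?_
  show Flat (pullback.diagonal (Spec.map (CommRingCat.ofHom (algebraMap A B)))) ↔ _
  rw [diagonal_SpecMap A B, MorphismProperty.cancel_right_of_respectsIso (P := @Flat),
    Flat.SpecMap_iff]
  rfl

theorem diagonal_comm {X Y U : Scheme.{u}} (f : X ⟶ Y) (j : U ⟶ X) :
    pullback.diagonal (j ≫ f) ≫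
      pullback.map (j ≫ f) (j ≫ f) f f j j (𝟙 Y) (by simp) (by simp) =
      j ≫ pullback.diagonal f := by
  apply pullback.hom_ext
  · have h1 : pullback.map (j ≫ f) (j ≫ f) f f j j (𝟙 Y) (by simp) (by simp) ≫ pullback.fst f f =
        pullback.fst (j ≫ f) (j ≫ f) ≫ j := pullback.lift_fst _ _ _
    calc (pullback.diagonal (j ≫ f) ≫ pullback.map (j ≫ f) (j ≫ f) f f j j (𝟙 Y) (by simp)
          (by simp)) ≫ pullback.fst f f
        = pullback.diagonal (j ≫ f) ≫ (pullback.fst (j ≫ f) (j ≫ f) ≫ j) := by
          rw [← h1]; exact Category.assoc _ _ _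
      _ = j := by
          rw [← Category.assoc, pullback.diagonal_fst, Category.id_comp]
      _ = (j ≫ pullback.diagonal f) ≫ pullback.fst f f := by
          rw [Category.assoc, pullback.diagonal_fst, Category.comp_id]
  · have h1 : pullback.map (j ≫ f) (j ≫ f) f f j j (𝟙 Y) (by simp) (by simp) ≫ pullback.snd f f =
        pullback.snd (j ≫ f) (j ≫ f) ≫ j := pullback.lift_snd _ _ _
    calc (pullback.diagonal (j ≫ f) ≫ pullback.map (j ≫ f) (j ≫ f) f f j j (𝟙 Y) (by simp)
          (by simp)) ≫ pullback.snd f f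
        = pullback.diagonal (j ≫ f) ≫ (pullback.snd (j ≫ f) (j ≫ f) ≫ j) := by
          rw [← h1]; exact Category.assoc _ _ _
      _ = j := by
          rw [← Category.assoc, pullback.diagonal_snd, Category.id_comp]
      _ = (j ≫ pullback.diagonal f) ≫ pullback.snd f f := by
          rw [Category.assoc, pullback.diagonal_snd, Category.comp_id]

/-- S1412. -/
theorem weaklyEtale_iff_stalk {X Y : Scheme.{u}} (f : X ⟶ Y) :
    WeaklyEtale f ↔ ∀ x : X, (f.stalkMap x).hom.Flat ∧
      (letI := (f.stalkMap x).hom.toAlgebra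
       (Algebra.TensorProduct.lmul' (S := ↑(X.presheaf.stalk x))
        (↑(Y.presheaf.stalk (f x)))).toRingHom.Flat) := by
  have hloc : ∀ x : X, WeaklyEtale (Spec.map (f.stalkMap x)) ↔
      WeaklyEtale (X.fromSpecStalk x ≫ f) := by
    intro x
    haveI := weaklyEtale_fromSpecStalk Y (f x)
    rw [← Scheme.SpecMap_stalkMap_fromSpecStalk]
    constructor
    · intro h
      haveI := h
      infer_instance
    · intro h
      exact MorphismProperty.of_postcomp (W := @WeaklyEtale)
        (W' := MorphismProperty.monomorphisms Scheme.{u}) _ (Y.fromSpecStalk (f x))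
        (inferInstanceAs (Mono (Y.fromSpecStalk (f x)))) h
  constructor
  · intro hf x
    haveI := hf
    haveI := weaklyEtale_fromSpecStalk X x
    have h1 : WeaklyEtale (X.fromSpecStalk x ≫ f) := inferInstance
    exact (weaklyEtale_SpecMap_iff (f.stalkMap x)).mp ((hloc x).mpr h1)
  · intro h
    have hfl : Flat f := (Flat.iff_flat_stalkMap f).mpr (fun x => (h x).1)
    refine ⟨hfl, ?_⟩
    rw [Flat.iff_flat_stalkMap]
    intro x
    have h1 : WeaklyEtale (X.fromSpecStalk x ≫ f) :=
      (hloc x).mp ((weaklyEtale_SpecMap_iff (f.stalkMap x)).mpr (h x))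
    have hjf : Flat (X.fromSpecStalk x) := Groth.Agent.Lib.Helper3.flat_fromSpecStalk X x
    have hjss : SurjectiveOnStalks (X.fromSpecStalk x) := inferInstance
    have hpt := Scheme.fromSpecStalk_closedPoint (X := X) (x := x)
    obtain ⟨pt, hptdef⟩ : ∃ pt : ↥(Spec (X.presheaf.stalk x)),
        pt = IsLocalRing.closedPoint (X.presheaf.stalk x) := ⟨_, rfl⟩
    rw [← hptdef] at hpt
    obtain ⟨j, hj⟩ : ∃ j : Spec (X.presheaf.stalk x) ⟶ X, j = X.fromSpecStalk x := ⟨_, rfl⟩
    rw [← hj] at h1 hjf hjss hpt
    haveI := hjf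
    haveI := hjss
    haveI : Flat (pullback.diagonal (j ≫ f)) := h1.flat_diagonal
    obtain ⟨m, hm⟩ : ∃ m : pullback (j ≫ f) (j ≫ f) ⟶ pullback f f,
        m = pullback.map (j ≫ f) (j ≫ f) f f j j (𝟙 Y) (by simp) (by simp) := ⟨_, rfl⟩
    have hcomm : pullback.diagonal (j ≫ f) ≫ m = j ≫ pullback.diagonal f := by
      rw [hm]
      exact diagonal_comm f j
    haveI hmfl : Flat m := by
      rw [hm]
      exact MorphismProperty.pullbackMap (P := @Flat) hjf hjf rfl rfl
    haveI hmss : SurjectiveOnStalks m := by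
      rw [hm]
      exact MorphismProperty.pullbackMap (P := @SurjectiveOnStalks) hjss hjss rfl rfl
    have hflat1 : ((pullback.diagonal (j ≫ f) ≫ m).stalkMap pt).hom.Flat := by
      rw [Scheme.Hom.stalkMap_comp]
      exact RingHom.Flat.comp (RingHom.Flat.of_bijective (stalkMap_bijective m _))
        (Flat.stalkMap (pullback.diagonal (j ≫ f)) pt)
    rw [hcomm, Scheme.Hom.stalkMap_comp] at hflat1
    have hbij := stalkMap_bijective j pt
    haveI : IsIso (j.stalkMap pt) := (ConcreteCategory.isIso_iff_bijective _).mpr hbij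
    have hflat2 : ((pullback.diagonal f).stalkMap (j pt)).hom.Flat :=
      (RingHom.Flat.respectsIso.cancel_right_isIso _ (j.stalkMap pt)).mp hflat1
    have key : ∀ x' : X, j pt = x' → ((pullback.diagonal f).stalkMap x').hom.Flat := by
      rintro x' rfl
      exact hflat2
    exact key x hpt

end Groth.Agent.Lib.Helper22.WEStalk
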