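import Mathlib
import Groth.Prelude.Def_CurvBase
import Groth.Agent.Lib.Helper12.SchemeDimFT4
import Groth.Agent.Lib.Helper22.Sard1

/-!
# Well-intersecting closed subsets with respect to a morphism
-/

set_option autoImplicit false
set_option maxHeartbeats 400000
set_option linter.unusedSectionVars false
universe u

open AlgebraicGeometry CategoryTheory CategoryTheory.Limits TopologicalSpace

namespace Groth.Agent.Lib.Helper22.WellInt

open Groth.Agent.Lib.Helper12.SchemeDimFT Groth.Agent.Lib.Helper22.Sard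

attribute [local instance] Curv2.resAlgebra

/-- the set of off-diagonal points of `X ×_S X` with projections in `Y` and `Z` -/
def offDiag {X S : Scheme.{u}} (f : X ⟶ S) (Y Z : Set X) : Set ↥(pullback f f) :=
  {p | pullback.fst f f p ∈ Y ∧ pullback.snd f f p ∈ Z ∧ p ∉ Set.range (pullback.diagonal f)}

theorem isLocallyClosed_offDiag {X S : Scheme.{u}} (f : X ⟶ S) [IsSeparated f] (Y Z : Set X)
    (hYc : IsClosed Y) (hZc : IsClosed Z) : IsLocallyClosed (offDiag f Y Z) := by
  have h1 : offDiag f Y Z = ((pullback.fst f f).base ⁻¹' Y ∩ (pullback.snd f f).base ⁻¹' Z) ∩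
      (Set.range (pullback.diagonal f).base)ᶜ := by
    ext p
    simp only [offDiag, Set.mem_setOf_eq, Set.mem_inter_iff, Set.mem_preimage, Set.mem_compl_iff]
    tauto
  rw [h1]
  refine IsLocallyClosed.inter (IsClosed.isLocallyClosed ?_) (IsOpen.isLocallyClosed ?_)
  · exact (hYc.preimage (pullback.fst f f).continuous).inter
      (hZc.preimage (pullback.snd f f).continuous)
  · exact (pullback.diagonal f).isClosedEmbedding.isClosed_range.isOpen_compl

/-- an off-diagonal point over a pair of distinct points with the same image -/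
theorem exists_mem_offDiag {X S : Scheme.{u}} (f : X ⟶ S) (Y Z : Set X) (y z : X)
    (hy : y ∈ Y) (hz : z ∈ Z) (hyz : y ≠ z) (hf : f.base y = f.base z) :
    ∃ p ∈ offDiag f Y Z, (pullback.fst f f).base p = y ∧ (pullback.snd f f).base p = z := by
  obtain ⟨p, hp1, hp2⟩ := Scheme.Pullback.exists_preimage_pullback (f := f) (g := f) y z hf
  refine ⟨p, ⟨by rw [hp1]; exact hy, by rw [hp2]; exact hz, ?_⟩, hp1, hp2⟩
  rintro ⟨x, rfl⟩
  apply hyz
  rw [← hp1, ← hp2, ← Scheme.Hom.comp_apply, ← Scheme.Hom.comp_apply, pullback.diagonal_fst,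
    pullback.diagonal_snd]

lemma le_of_nat_add_le (a : ℕ) (x y : WithBot ℕ∞) (h : (a : WithBot ℕ∞) + x ≤ a + y) :
    x ≤ y := by
  induction x using WithBot.recBotCoe with
  | bot => exact bot_le
  | coe x =>
    induction y using WithBot.recBotCoe with
    | bot =>
      rw [WithBot.add_bot] at h
      have h2 : ((a : WithBot ℕ∞) + (x : WithBot ℕ∞)) = (((a : ℕ∞) + x : ℕ∞) : WithBot ℕ∞) := by
        push_cast
        rfl
      rw [h2] at h
      exact absurd (le_bot_iff.mp h) (WithBot.coe_ne_bot)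
    | coe y =>
      have h' : ((a : ℕ∞) + x : ℕ∞) ≤ (a : ℕ∞) + y := by exact_mod_cast h
      have h'' : x ≤ y := (WithTop.add_le_add_iff_left (ENat.coe_ne_top a)).mp h'
      exact_mod_cast h''

theorem dim_le_offDiag (k : Type u) [Field k] {X S : Scheme.{u}}
    (q : S ⟶ Spec (CommRingCat.of k)) (f : X ⟶ S) [LocallyOfFiniteType q] [LocallyOfFiniteType f]
    [IsSeparated f] (Y Z : Set X) (hYc : IsClosed Y) (hZc : IsClosed Z) (η : X)
    (hη : closure {η} = Y) (p : ↥(pullback f f)) (hp : p ∈ offDiag f Y Z)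
    (hpη : (pullback.fst f f).base p = η) :
    ∃ a : ℕ, topologicalKrullDim Y = a ∧
      (a : WithBot ℕ∞) ≤ topologicalKrullDim (offDiag f Y Z) := by
  letI : X.Over (Spec (CommRingCat.of k)) := ⟨f ≫ q⟩
  haveI : LocallyOfFiniteType (X ↘ Spec (CommRingCat.of k)) :=
    inferInstanceAs (LocallyOfFiniteType (f ≫ q))
  letI : (pullback f f).Over (Spec (CommRingCat.of k)) := ⟨pullback.fst f f ≫ f ≫ q⟩
  haveI : LocallyOfFiniteType ((pullback f f) ↘ Spec (CommRingCat.of k)) :=
    inferInstanceAs (LocallyOfFiniteType (pullback.fst f f ≫ f ≫ q))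
  have h1 : topologicalKrullDim Y = ((tr k X η : ℕ) : WithBot ℕ∞) := by
    rw [← hη]
    exact topologicalKrullDim_closure_singleton k X η
  have h2 := le_topologicalKrullDim_of_isLocallyClosed k (pullback f f) _
    (isLocallyClosed_offDiag f Y Z hYc hZc) p hp
  have h3 : tr k X η ≤ tr k (pullback f f) p := by
    have h4 := trdeg_le_of_hom k (f ≫ q) (pullback.fst f f ≫ f ≫ q) (pullback.fst f f) rfl p
    have h5 : Algebra.trdeg k (X.residueField η) ≤
        Algebra.trdeg k ((pullback f f).residueField p) := by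
      rw [← hpη]
      exact h4
    rw [tr_spec k X η, tr_spec k (pullback f f) p] at h5
    exact_mod_cast h5
  refine ⟨tr k X η, h1, ?_⟩
  exact (by exact_mod_cast h3 :
    ((tr k X η : ℕ) : WithBot ℕ∞) ≤ (tr k (pullback f f) p : ℕ)).trans h2

theorem not_image_subset (k : Type u) [Field k] {X S : Scheme.{u}}
    (q : S ⟶ Spec (CommRingCat.of k)) (f : X ⟶ S) [LocallyOfFiniteType q] [LocallyOfFiniteType f]
    [IsSeparated f] [CompactSpace X] (Y Z : Set X) (hYc : IsClosed Y) (hYi : IsIrreducible Y)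
    (hZc : IsClosed Z)
    (hWI : topologicalKrullDim (offDiag f Y Z) + topologicalKrullDim S ≤
      topologicalKrullDim Y + topologicalKrullDim Z)
    (hZS : topologicalKrullDim Z < topologicalKrullDim S) (hYZ : ¬ Y ⊆ Z) :
    ¬ (f.base '' Y ⊆ closure (f.base '' Y ∩ f.base '' Z)) := by
  intro h
  haveI : IsNoetherian X :=
    { __ := LocallyOfFiniteType.isLocallyNoetherian (f ≫ q)
      __ := ‹CompactSpace X› }
  obtain ⟨η, hη⟩ := QuasiSober.sober hYi hYc
  have hηY : η ∈ Y := by rw [← hη.def]; exact subset_closure rfl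
  have hηZ : η ∉ Z := by
    intro hz
    apply hYZ
    rw [← hη.def]
    exact hZc.closure_subset_iff.mpr (Set.singleton_subset_iff.mpr hz)
  -- the auxiliary set
  have hE : f.base '' (Z ∩ f.base ⁻¹' (f.base '' Y)) = f.base '' Y ∩ f.base '' Z := by
    ext s
    constructor
    · rintro ⟨e, ⟨heZ, heY⟩, rfl⟩
      exact ⟨heY, e, heZ, rfl⟩
    · rintro ⟨hsY, z, hzZ, rfl⟩
      exact ⟨z, ⟨hzZ, hsY⟩, rfl⟩
  have hfη : f.base η ∈ closure (f.base '' (Z ∩ f.base ⁻¹' (f.base '' Y))) := by
    rw [hE]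
    exact h ⟨η, hηY, rfl⟩
  obtain ⟨ξ, hξη, hξ⟩ := exists_generic_of_mem_closure_image f.base f.continuous _ _ hfη
  have hξE : ξ ∈ closure (Z ∩ f.base ⁻¹' (f.base '' Y)) :=
    closure_mono Set.inter_subset_left hξ
  have hξZ : ξ ∈ Z := hZc.closure_subset_iff.mpr Set.inter_subset_left hξE
  have hηξ : f.base η ⤳ f.base ξ := by
    rw [specializes_iff_mem_closure]
    have h1 : f.base ξ ∈ closure (f.base '' (Z ∩ f.base ⁻¹' (f.base '' Y))) :=
      image_closure_subset_closure_image f.continuous ⟨ξ, hξE, rfl⟩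
    have h2 : f.base '' (Z ∩ f.base ⁻¹' (f.base '' Y)) ⊆ closure {f.base η} := by
      rw [hE]
      rintro s ⟨⟨y, hy, rfl⟩, -⟩
      have h3 : y ∈ closure ({η} : Set X) := by rw [hη.def]; exact hy
      have h4 := image_closure_subset_closure_image f.continuous ⟨y, h3, rfl⟩
      rwa [Set.image_singleton] at h4
    exact (closure_minimal h2 isClosed_closure) h1
  have hfeq : f.base η = f.base ξ := (hηξ.antisymm hξη).eq
  have hne : η ≠ ξ := fun e => hηZ (e ▸ hξZ)
  obtain ⟨p, hp, hp1, -⟩ := exists_mem_offDiag f Y Z η ξ hηY hξZ hne hfeq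
  obtain ⟨a, ha, hle⟩ := dim_le_offDiag k q f Y Z hYc hZc η hη.def p hp hp1
  rw [ha] at hWI
  have h1 : (a : WithBot ℕ∞) + topologicalKrullDim S ≤ a + topologicalKrullDim Z :=
    (add_le_add hle le_rfl).trans hWI
  exact absurd (le_of_nat_add_le a _ _ h1) (not_le.mpr hZS)

end Groth.Agent.Lib.Helper22.WellInt
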