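import Mathlib
import Groth.Agent.Lib.Helper22.WellIntA

/-!
# Generic radiciality from well-intersection
-/

set_option autoImplicit false
set_option maxHeartbeats 400000
set_option linter.unusedSectionVars false
universe u

open AlgebraicGeometry CategoryTheory CategoryTheory.Limits TopologicalSpace

namespace Groth.Agent.Lib.Helper22.WellInt

set_option backward.isDefEq.respectTransparency.types false in
set_option backward.defeqAttrib.useBackward true in
/-- local form of: surjective diagonal implies purely inseparable residue field extensions -/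
theorem isPurelyInseparable_of_fiber_diagonal {X Y : Scheme.{u}} (f : X ⟶ Y) (x : X)
    (hf : ∀ p : ↥(pullback f f), pullback.fst f f p = x → pullback.snd f f p = x →
      ∃ u : X, pullback.diagonal f u = p) :
    (f.residueFieldMap x).hom.IsPurelyInseparable := by
  algebraize [(f.residueFieldMap x).hom]
  rw [RingHom.IsPurelyInseparable, isPurelyInseparable_iff_subsingleton_emb, subsingleton_iff]
  intro σ₁ σ₂
  apply AlgHom.coe_ringHom_injective
  let g₁ := (X.SpecToEquivOfField _).symm ⟨_, CommRingCat.ofHom σ₁.toRingHom⟩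
  let g₂ := (X.SpecToEquivOfField _).symm ⟨_, CommRingCat.ofHom σ₂.toRingHom⟩
  suffices X.SpecToEquivOfField _ g₁ = X.SpecToEquivOfField _ g₂ by
    rw [Equiv.apply_symm_apply, Equiv.apply_symm_apply] at this
    exact congr($(this).2.hom)
  let q := pullback.lift (f := f) (g := f) g₁ g₂ <| by
    simp only [g₁, g₂, Scheme.SpecToEquivOfField_symm_apply, AlgHom.toRingHom_eq_coe,
      Category.assoc, ← f.SpecMap_residueFieldMap_fromSpecResidueField x, ← Spec.map_comp_assoc]
    congr 2
    ext a
    simp only [CommRingCat.hom_comp, RingHom.comp_apply]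
    exact (AlgHom.commutes σ₁ a).trans (AlgHom.commutes σ₂ a).symm
  have q_fst : q ≫ pullback.fst f f = g₁ := pullback.lift_fst _ _ _
  have q_snd : q ≫ pullback.snd f f = g₂ := pullback.lift_snd _ _ _
  rw [Scheme.SpecToEquivOfField_eq_iff, ← q_fst, ← q_snd]
  have hq1 : pullback.fst f f (q (IsLocalRing.closedPoint _)) = x := by
    rw [← Scheme.Hom.comp_apply, q_fst]
    simp [Scheme.SpecToEquivOfField_symm_apply, g₁]
  have hq2 : pullback.snd f f (q (IsLocalRing.closedPoint _)) = x := by
    rw [← Scheme.Hom.comp_apply, q_snd]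
    simp [Scheme.SpecToEquivOfField_symm_apply, g₂]
  obtain ⟨u, hu⟩ := hf (q (IsLocalRing.closedPoint _)) hq1 hq2
  have hux : u = x := by
    have := congr(pullback.fst f f $(hu))
    rw [← Scheme.Hom.comp_apply, ← Scheme.Hom.comp_apply] at this
    simpa [Scheme.SpecToEquivOfField_symm_apply, q_fst, g₁] using this
  refine ⟨by simp [g₁, g₂, q_fst, q_snd], ?_⟩
  dsimp
  simp only [Scheme.descResidueField_stalkClosedPointTo_comp, ← Category.assoc]
  congr 1
  rw [← cancel_mono (Scheme.residueFieldCongr (hux ▸ hu).symm).hom]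
  have : Mono (Scheme.Hom.residueFieldMap (pullback.diagonal f) x) :=
    ConcreteCategory.mono_of_injective _ (RingHom.injective _)
  simp [← cancel_mono ((pullback.diagonal f).residueFieldMap x), ← Scheme.residueFieldMap_comp,
    (pullback.fst f f).residueFieldMap_congr', (pullback.snd f f).residueFieldMap_congr'_assoc,
    Scheme.Hom.residueFieldMap_congr (pullback.diagonal_snd f),
    Scheme.Hom.residueFieldMap_congr (pullback.diagonal_fst f)]

open Groth.Agent.Lib.Helper22.Sard in
/-- generic radiciality from self well-intersection -/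
theorem generically_radicial (k : Type u) [Field k] {X S : Scheme.{u}}
    (q : S ⟶ Spec (CommRingCat.of k)) (f : X ⟶ S) [LocallyOfFiniteType q] [LocallyOfFiniteType f]
    [IsSeparated f] [CompactSpace X] [QuasiCompact f] (Y : Set X) (hYc : IsClosed Y)
    (hYi : IsIrreducible Y)
    (hWI : topologicalKrullDim (offDiag f Y Y) + topologicalKrullDim S ≤
      topologicalKrullDim Y + topologicalKrullDim Y)
    (hYS : topologicalKrullDim Y < topologicalKrullDim S) :
    ∃ V : Set X, IsOpen V ∧ (V ∩ Y).Nonempty ∧ Set.InjOn f.base (V ∩ Y) ∧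
      ∀ x ∈ V ∩ Y, (f.residueFieldMap x).hom.IsPurelyInseparable := by
  haveI : IsNoetherian X :=
    { __ := LocallyOfFiniteType.isLocallyNoetherian (f ≫ q)
      __ := ‹CompactSpace X› }
  haveI : CompactSpace ↥(pullback f f) := inferInstance
  haveI : IsNoetherian (pullback f f) :=
    { __ := LocallyOfFiniteType.isLocallyNoetherian (pullback.fst f f ≫ f ≫ q)
      __ := ‹CompactSpace ↥(pullback f f)› }
  obtain ⟨η, hη⟩ := QuasiSober.sober hYi hYc
  have hηY : η ∈ Y := by rw [← hη.def]; exact subset_closure rfl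
  have hWlc : IsLocallyClosed (offDiag f Y Y) := isLocallyClosed_offDiag f Y Y hYc hYc
  have key : η ∉ closure ((pullback.fst f f).base '' (offDiag f Y Y)) := by
    intro hmem
    obtain ⟨p', hp'η, hp'⟩ := exists_generic_of_mem_closure_image (pullback.fst f f).base
      (pullback.fst f f).continuous (offDiag f Y Y) η hmem
    have hp'W : p' ∈ offDiag f Y Y := by
      obtain ⟨O, C, hO, hC, hWOC⟩ := hWlc
      rw [hWOC]
      constructor
      · have hne : (offDiag f Y Y ∩ closure {p'}).Nonempty := by
          rw [← closure_nonempty_iff]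
          exact ⟨p', hp'⟩
        obtain ⟨w, hwW, hwp⟩ := hne
        have hsp : p' ⤳ w := specializes_iff_mem_closure.mpr hwp
        rw [hWOC] at hwW
        exact hsp.mem_open hO hwW.1
      · have h1 : closure (offDiag f Y Y ∩ closure {p'}) ⊆ C := by
          apply closure_minimal _ hC
          rw [hWOC]
          exact fun x hx => hx.1.2
        exact h1 hp'
    have hp'Y : (pullback.fst f f).base p' ∈ Y := hp'W.1
    have hsp2 : η ⤳ (pullback.fst f f).base p' := by
      rw [specializes_iff_mem_closure, hη.def]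
      exact hp'Y
    have hpη : (pullback.fst f f).base p' = η := (hp'η.antisymm hsp2).eq
    obtain ⟨a, ha, hle⟩ := dim_le_offDiag k q f Y Y hYc hYc η hη.def p' hp'W hpη
    rw [ha] at hWI hYS
    have h1 : (a : WithBot ℕ∞) + topologicalKrullDim S ≤ a + a :=
      (add_le_add hle le_rfl).trans hWI
    exact absurd (le_of_nat_add_le a _ _ h1) (not_le.mpr hYS)
  refine ⟨(closure ((pullback.fst f f).base '' (offDiag f Y Y)))ᶜ, isClosed_closure.isOpen_compl,
    ⟨η, key, hηY⟩, ?_, ?_⟩
  · rintro y ⟨hyV, hyY⟩ y' ⟨hy'V, hy'Y⟩ hfe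
    by_contra hne
    obtain ⟨p, hp, hp1, -⟩ := exists_mem_offDiag f Y Y y y' hyY hy'Y hne hfe
    exact hyV (subset_closure ⟨p, hp, hp1⟩)
  · rintro x ⟨hxV, hxY⟩
    apply isPurelyInseparable_of_fiber_diagonal
    intro p hp1 hp2
    by_contra hnot
    apply hxV
    apply subset_closure
    refine ⟨p, ⟨?_, ?_, ?_⟩, hp1⟩
    · rw [hp1]; exact hxY
    · rw [hp2]; exact hxY
    · rintro ⟨u, hu⟩
      exact hnot ⟨u, hu⟩

end Groth.Agent.Lib.Helper22.WellInt
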