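import Mathlib
import Groth.Agent.Lib.Helper22.WellIntA
import Groth.Agent.Lib.Helper12.FibreDim
import Groth.Agent.Lib.Helper12.FibreDimBC
import Groth.Agent.Lib.Helper15.RedInd

/-!
# Well-intersection and base change along a morphism with fibres of constant dimension
-/

set_option autoImplicit false
set_option maxHeartbeats 400000
set_option linter.unusedSectionVars false
universe u

open AlgebraicGeometry CategoryTheory CategoryTheory.Limits TopologicalSpace

namespace Groth.Agent.Lib.Helper22.WellInt

open Groth.Agent.Lib.Helper12.FibreDim Groth.Agent.Lib.Helper12.FibreDimBC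
  Groth.Agent.Lib.Helper15.RI

theorem dim_range_eq {Z T : Scheme.{u}} (j : Z ⟶ T) [IsImmersion j] :
    topologicalKrullDim ↥(Set.range j) = topologicalKrullDim Z := by
  have e : Z ≃ₜ Set.range j := j.isEmbedding.toHomeomorph
  exact (IsHomeomorph.topologicalKrullDim_eq e e.isHomeomorph).symm

/-- the dimension of the preimage of a locally closed subset under a base change of a morphism
all of whose fibres have dimension `d` -/
theorem dim_preimage (k : Type u) [Field k] {T S S' T' : Scheme.{u}}
    (q : S ⟶ Spec (CommRingCat.of k)) [LocallyOfFiniteType q]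
    (a : T ⟶ S) [LocallyOfFiniteType a] (g : S' ⟶ S) [LocallyOfFiniteType g]
    (b : T' ⟶ T) (c : T' ⟶ S') (hsq : IsPullback b c a g) (d : ℕ)
    (hd : ∀ s : S, topologicalKrullDim (g.fiber s) = d)
    (W : Set T) (hW : IsLocallyClosed W) :
    topologicalKrullDim ↥(b ⁻¹' W) = (d : WithBot ℕ∞) + topologicalKrullDim ↥W := by
  obtain ⟨Ws, i, hi, -, hrange⟩ := exists_reduced_immersion_of_isLocallyClosed T W hW
  haveI := hi
  have hpb : IsPullback (pullback.fst i b) (pullback.snd i b ≫ c) (i ≫ a) g :=
    (IsPullback.of_hasPullback i b).paste_vert hsq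
  haveI : LocallyOfFiniteType b := MorphismProperty.of_isPullback hsq.flip ‹LocallyOfFiniteType g›
  have hfib : ∀ w : Ws, topologicalKrullDim ((pullback.fst i b).base ⁻¹' {w}) = d := by
    intro w
    rw [← IsHomeomorph.topologicalKrullDim_eq _ ((pullback.fst i b).fiberHomeo w).isHomeomorph,
      dim_fiber_of_isPullback g (i ≫ a) (pullback.snd i b ≫ c) (pullback.fst i b) hpb.flip w]
    exact hd _
  have h1 : (d : WithBot ℕ∞) + topologicalKrullDim Ws ≤ topologicalKrullDim ↥(pullback i b) :=
    add_dim_le k (i ≫ a ≫ q) (pullback.fst i b) d (fun η _ => (hfib η).ge)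
  have h2 : topologicalKrullDim ↥(pullback i b) ≤ (d : WithBot ℕ∞) + topologicalKrullDim Ws :=
    dim_le_add k (i ≫ a ≫ q) (pullback.fst i b) d (fun y _ => (hfib y).le)
  have h3 : topologicalKrullDim ↥(Set.range (pullback.snd i b)) =
      topologicalKrullDim ↥(pullback i b) := dim_range_eq _
  have h4 : topologicalKrullDim ↥(Set.range i) = topologicalKrullDim Ws := dim_range_eq i
  rw [Scheme.Pullback.range_snd, hrange] at h3
  rw [hrange] at h4
  rw [h3, h4]
  exact le_antisymm h2 h1

section Squares

variable {X S S' : Scheme.{u}} (f : X ⟶ S) (g : S' ⟶ S)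

/-- the map `X' ×_{S'} X' ⟶ X ×_S X` -/
noncomputable abbrev bcMap : pullback (pullback.snd f g) (pullback.snd f g) ⟶ pullback f f :=
  pullback.map (pullback.snd f g) (pullback.snd f g) f f (pullback.fst f g) (pullback.fst f g) g
    pullback.condition.symm pullback.condition.symm

set_option backward.isDefEq.respectTransparency false in
theorem isPullback_bcMap :
    IsPullback (bcMap f g)
      (pullback.fst (pullback.snd f g) (pullback.snd f g) ≫ pullback.snd f g)
      (pullback.fst f f ≫ f) g := by
  refine ⟨⟨by simp [bcMap, pullback.condition]⟩, ⟨PullbackCone.IsLimit.mk _ ?_ ?_ ?_ ?_⟩⟩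
  · intro c
    refine pullback.lift (pullback.lift (c.fst ≫ pullback.fst f f) c.snd ?_)
      (pullback.lift (c.fst ≫ pullback.snd f f) c.snd ?_) ?_
    · simpa using c.condition
    · rw [Category.assoc, ← pullback.condition]
      simpa using c.condition
    · simp
  · intro c
    apply pullback.hom_ext <;> simp [bcMap]
  · intro c
    simp
  · intro c m hfst hsnd
    apply pullback.hom_ext
    · apply pullback.hom_ext
      · simp [← hfst, bcMap]
      · simp [← hsnd]
    · apply pullback.hom_ext
      · simp [← hfst, bcMap]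
      · simp [← hsnd, pullback.condition]

set_option backward.isDefEq.respectTransparency false in
theorem isPullback_diag :
    IsPullback (pullback.diagonal (pullback.snd f g)) (pullback.fst f g) (bcMap f g)
      (pullback.diagonal f) := by
  refine ⟨⟨?_⟩, ⟨PullbackCone.IsLimit.mk _ ?_ ?_ ?_ ?_⟩⟩
  · apply pullback.hom_ext <;> simp [bcMap]
  · intro c
    exact c.fst ≫ pullback.fst _ _
  · intro c
    have e1 := congr($(c.condition) ≫ pullback.fst f f)
    have e2 := congr($(c.condition) ≫ pullback.snd f f)
    simp [bcMap] at e1 e2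
    have h1 : c.fst ≫ pullback.fst (pullback.snd f g) (pullback.snd f g) =
        c.fst ≫ pullback.snd (pullback.snd f g) (pullback.snd f g) := by
      apply pullback.hom_ext
      · simp [e1, e2]
      · simp [pullback.condition]
    apply pullback.hom_ext
    · simp
    · simp [h1]
  · intro c
    have e1 := congr($(c.condition) ≫ pullback.fst f f)
    simpa [bcMap] using e1
  · intro c m hfst hsnd
    rw [← hfst]
    simp

end Squares

set_option backward.isDefEq.respectTransparency false in
theorem preimage_offDiag {X S S' : Scheme.{u}} (f : X ⟶ S) (g : S' ⟶ S) (Y Z : Set X) :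
    (bcMap f g) ⁻¹' (offDiag f Y Z) =
      offDiag (pullback.snd f g) ((pullback.fst f g) ⁻¹' Y) ((pullback.fst f g) ⁻¹' Z) := by
  have hb1 : bcMap f g ≫ pullback.fst f f =
      pullback.fst (pullback.snd f g) (pullback.snd f g) ≫ pullback.fst f g := by
    simp [bcMap]
  have hb2 : bcMap f g ≫ pullback.snd f f =
      pullback.snd (pullback.snd f g) (pullback.snd f g) ≫ pullback.fst f g := by
    simp [bcMap]
  ext p'
  have e1 : pullback.fst f f (bcMap f g p') =
      pullback.fst f g (pullback.fst (pullback.snd f g) (pullback.snd f g) p') := by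
    rw [← Scheme.Hom.comp_apply, ← Scheme.Hom.comp_apply, hb1]
  have e2 : pullback.snd f f (bcMap f g p') =
      pullback.fst f g (pullback.snd (pullback.snd f g) (pullback.snd f g) p') := by
    rw [← Scheme.Hom.comp_apply, ← Scheme.Hom.comp_apply, hb2]
  have e3 : bcMap f g p' ∈ Set.range (pullback.diagonal f) ↔
      p' ∈ Set.range (pullback.diagonal (pullback.snd f g)) := by
    constructor
    · rintro ⟨x, hx⟩
      obtain ⟨x', hx', -⟩ := Scheme.exists_preimage_of_isPullback (isPullback_diag f g) p' x hx.symm
      exact ⟨x', hx'⟩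
    · rintro ⟨x', rfl⟩
      refine ⟨pullback.fst f g x', ?_⟩
      rw [← Scheme.Hom.comp_apply, ← Scheme.Hom.comp_apply, (isPullback_diag f g).w]
  simp only [offDiag, Set.mem_preimage, Set.mem_setOf_eq, e1, e2, e3]

theorem add_cancel_nat (d : ℕ) (w s y z : WithBot ℕ∞) :
    ((d : WithBot ℕ∞) + w) + (d + s) ≤ (d + y) + (d + z) ↔ w + s ≤ y + z := by
  rw [add_add_add_comm, add_add_add_comm (d : WithBot ℕ∞) y]
  constructor
  · intro h
    have h' : (((d + d : ℕ) : ℕ) : WithBot ℕ∞) + (w + s) ≤ ((d + d : ℕ) : WithBot ℕ∞) + (y + z) := by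
      push_cast
      exact h
    exact le_of_nat_add_le (d + d) _ _ h'
  · intro h
    exact add_le_add le_rfl h

/-- well-intersection is invariant under base change along a morphism with all fibres of
dimension `d` -/
theorem wellIntersect_baseChange (k : Type u) [Field k] {X S S' : Scheme.{u}}
    (q : S ⟶ Spec (CommRingCat.of k)) (f : X ⟶ S) (g : S' ⟶ S)
    [LocallyOfFiniteType q] [LocallyOfFiniteType f] [IsSeparated f] [LocallyOfFiniteType g]
    (d : ℕ) (hd : ∀ s : S, topologicalKrullDim (g.fiber s) = d)
    (Y Z : Set X) (hYc : IsClosed Y) (hZc : IsClosed Z) :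
    (topologicalKrullDim (offDiag f Y Z) + topologicalKrullDim S ≤
        topologicalKrullDim Y + topologicalKrullDim Z) ↔
      (topologicalKrullDim (offDiag (pullback.snd f g) ((pullback.fst f g) ⁻¹' Y)
          ((pullback.fst f g) ⁻¹' Z)) + topologicalKrullDim S' ≤
        topologicalKrullDim ((pullback.fst f g) ⁻¹' Y) +
          topologicalKrullDim ((pullback.fst f g) ⁻¹' Z)) := by
  have hW := dim_preimage k q (pullback.fst f f ≫ f) g (bcMap f g) _ (isPullback_bcMap f g) d hd
    (offDiag f Y Z) (isLocallyClosed_offDiag f Y Z hYc hZc)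
  rw [preimage_offDiag] at hW
  have hY := dim_preimage k q f g (pullback.fst f g) (pullback.snd f g)
    (IsPullback.of_hasPullback f g) d hd Y hYc.isLocallyClosed
  have hZ := dim_preimage k q f g (pullback.fst f g) (pullback.snd f g)
    (IsPullback.of_hasPullback f g) d hd Z hZc.isLocallyClosed
  have hfib : ∀ s : S, topologicalKrullDim (g.base ⁻¹' {s}) = d := by
    intro s
    rw [← IsHomeomorph.topologicalKrullDim_eq _ (g.fiberHomeo s).isHomeomorph]
    exact hd s
  have hS : topologicalKrullDim S' = (d : WithBot ℕ∞) + topologicalKrullDim S :=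
    le_antisymm (dim_le_add k q g d (fun y _ => (hfib y).le))
      (add_dim_le k q g d (fun η _ => (hfib η).ge))
  rw [hW, hY, hZ, hS]
  exact (add_cancel_nat d _ _ _ _).symm

end Groth.Agent.Lib.Helper22.WellInt
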